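import Cfsg.Statements.S3703
import Mathlib
import Cfsg.Agent.Coprime.Basic

set_option autoImplicit false
open Cfsg

namespace Cfsg.Agent.S3703

open scoped Pointwise in
theorem exists_core {G : Type*} [Group G] [Finite G] (N : Subgroup G) [N.Normal]
    (Fb Hb : Subgroup (G ⧸ N)) [Fb.Normal] (hHb : Cfsg.IsFrobeniusComplement Hb) (hker : Cfsg.frobeniusKernel Hb = (Fb : Set (G ⧸ N)))
    (hcop : (Nat.card Fb).Coprime (Nat.card N)) (b : G ⧸ N) (hb : Subgroup.zpowers b = Hb)
    (hnot : ¬ Fb ≤ (Subgroup.centralizer (N : Set G)).map (QuotientGroup.mk' N))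
    (hall : ∀ g : G, (∃ f ∈ Fb, QuotientGroup.mk' N g = f * b * f⁻¹) → g ^ Nat.card Hb = 1) : False := by
  classical
  obtain ⟨hH1, -, hfrob⟩ := hHb
  set π := QuotientGroup.mk' N with hπ
  set n := Nat.card Hb with hn
  have hbn : orderOf b = n := by rw [hn, ← hb, Nat.card_zpowers]
  -- powers of conjugates of `b` centralise no nontrivial element of the kernel
  have hfpf : ∀ f ∈ Fb, ∀ y ∈ Hb, y ≠ 1 → f * y = y * f → f = 1 := by
    intro f hf y hy hy1 hc
    by_contra hf1
    have hfH : f ∉ Hb := fun h => by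
      have := hker.symm ▸ (SetLike.mem_coe.2 hf : f ∈ (Fb : Set (G ⧸ N)))
      rcases this with h1 | h1
      · exact hf1 h1
      · exact h1 1 (by simpa using h)
    have : y ∈ Hb ⊓ MulAut.conj f • Hb := by
      refine ⟨hy, Subgroup.mem_pointwise_smul_iff_inv_smul_mem.2 ?_⟩
      rw [MulAut.smul_def, MulAut.inv_apply, MulAut.conj_symm_apply, mul_assoc, ← hc, inv_mul_cancel_left]
      exact hy
    exact hy1 (Subgroup.mem_bot.1 (hfrob f hfH ▸ this))
  have hb1 : b ≠ 1 := fun h => hH1 (by rw [← hb, h, Subgroup.zpowers_one_eq_bot])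
  have hbH : b ∈ Hb := hb ▸ Subgroup.mem_zpowers b
  have hcomm : ∀ f ∈ Fb, f * b * f⁻¹ * b⁻¹ ∈ Fb := fun f hf => by
    have := Fb.mul_mem hf ((‹Fb.Normal›).conj_mem _ (Fb.inv_mem hf) b)
    simpa [mul_assoc] using this
  have hsurj : ∀ x ∈ Fb, ∃ f ∈ Fb, x * b = f * b * f⁻¹ := by
    intro x hx
    have hinj : Function.Injective fun f : Fb => (⟨_, hcomm f f.2⟩ : Fb) := by
      rintro ⟨u, hu⟩ ⟨v, hv⟩ h
      have h' : u * b * u⁻¹ = v * b * v⁻¹ := mul_right_cancel (congrArg Subtype.val h)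
      have hc : v⁻¹ * u * b = b * (v⁻¹ * u) := by
        calc v⁻¹ * u * b = v⁻¹ * (u * b * u⁻¹) * u := by group
          _ = _ := by rw [h']; group
      exact Subtype.ext (inv_mul_eq_one.1 (hfpf _ (Fb.mul_mem (Fb.inv_mem hv) hu) b hbH hb1 hc)).symm
    obtain ⟨⟨f, hf⟩, he⟩ := Finite.surjective_of_injective hinj ⟨x, hx⟩
    refine ⟨f, hf, ?_⟩
    rw [show x = f * b * f⁻¹ * b⁻¹ from (congrArg Subtype.val he).symm]
    group
  -- a Sylow subgroup of the preimage acting nontrivially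
  set P := Fb.comap π with hP
  have hNP : N ≤ P := fun x hx => by
    show π x ∈ Fb
    rw [show π x = 1 from (QuotientGroup.eq_one_iff x).2 hx]
    exact Fb.one_mem
  have hPn : P.Normal := inferInstance
  obtain ⟨q, hq, Q, hQN, hQC⟩ : ∃ q : ℕ, q.Prime ∧ ∃ Q : Sylow q P, ¬ q ∣ Nat.card N ∧
      ¬ (Q : Subgroup P).map P.subtype ≤ Subgroup.centralizer (N : Set G) := by
    by_contra! hcon
    apply hnot
    set J := ((Subgroup.centralizer (N : Set G) ⊔ N).subgroupOf P) with hJ
    have hJtop : J = ⊤ := by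
      rw [← Subgroup.index_eq_one]
      by_contra h1
      obtain ⟨q, hq, hqd⟩ := Nat.exists_prime_and_dvd h1
      haveI := Fact.mk hq
      obtain ⟨Q⟩ : Nonempty (Sylow q P) := inferInstance
      have hQJ : (Q : Subgroup P) ≤ J := by
        intro x hx
        rw [hJ, Subgroup.mem_subgroupOf]
        by_cases hqN : q ∣ Nat.card N
        · refine Subgroup.mem_sup_right ?_
          have hx1 : π (x : G) = 1 := by
            have hp : orderOf (π (x : G)) ∣ orderOf x := (orderOf_map_dvd π _).trans (by rw [Subgroup.orderOf_coe])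
            obtain ⟨k, hk⟩ := Q.2.exists_card_eq
            have hxq : orderOf x ∣ q ^ k := by
              rw [← hk, ← Subgroup.orderOf_mk x hx]
              exact orderOf_dvd_natCard _
            have hxF : orderOf (π (x : G)) ∣ Nat.card Fb := Subgroup.orderOf_dvd_natCard Fb x.2
            refine orderOf_eq_one_iff.1 (Nat.eq_one_of_dvd_coprimes ?_ (hp.trans hxq) hxF)
            exact Nat.Coprime.pow_left k ((hq.coprime_iff_not_dvd).2 fun hd => hq.one_lt.ne' (Nat.eq_one_of_dvd_coprimes hcop hd hqN))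
          exact (QuotientGroup.eq_one_iff _).1 hx1
        · exact Subgroup.mem_sup_left (hcon q hq Q hqN ⟨x, hx, rfl⟩)
      exact Q.not_dvd_index (hqd.trans (Subgroup.index_dvd_of_le hQJ))
    intro f hf
    obtain ⟨x, rfl⟩ := QuotientGroup.mk'_surjective N f
    have hx : x ∈ Subgroup.centralizer (N : Set G) ⊔ N := by
      have : (⟨x, hf⟩ : P) ∈ J := hJtop ▸ Subgroup.mem_top _
      exact this
    have hx2 := Subgroup.mem_map_of_mem π hx
    rw [Subgroup.map_sup, hπ, QuotientGroup.map_mk'_self, sup_bot_eq] at hx2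
    exact hx2
  haveI := Fact.mk hq
  set Qg := (Q : Subgroup P).map P.subtype with hQg
  have hQP : Qg ≤ P := Subgroup.map_subtype_le _
  -- a lift of a conjugate of `b` normalising `Q`
  obtain ⟨h0, hh0⟩ := QuotientGroup.mk'_surjective N b
  have hfratt : Subgroup.normalizer (Qg : Set G) ⊔ P = ⊤ := Sylow.normalizer_sup_eq_top Q
  have hh0m : h0 ∈ ((Subgroup.normalizer (Qg : Set G) : Subgroup G) : Set G) * (P : Set G) := by
    rw [← Subgroup.mul_normal, hfratt]; trivial
  obtain ⟨a0, ha0, c0, hc0, hac⟩ := hh0m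
  obtain ⟨f0, hf0, hf0e⟩ : ∃ f ∈ Fb, π a0 = f * b * f⁻¹ := by
    have hx : π a0 * b⁻¹ ∈ Fb := by
      have h1 : π a0 = b * (π c0)⁻¹ := by rw [← hh0, ← hac, map_mul, mul_inv_cancel_right]
      rw [h1]
      exact (‹Fb.Normal›).conj_mem _ (Fb.inv_mem hc0) b
    obtain ⟨f, hf, he⟩ := hsurj _ hx
    exact ⟨f, hf, by rw [← he, inv_mul_cancel_right]⟩
  obtain ⟨k, hkQ⟩ := Q.2.exists_card_eq
  have hQcard : Nat.card Qg = q ^ k := by rw [hQg, Subgroup.card_map_of_injective P.subtype_injective]; exact hkQ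
  have hQNcop : (Nat.card Qg).Coprime (Nat.card N) := by
    rw [hQcard]; exact Nat.Coprime.pow_left k ((hq.coprime_iff_not_dvd).2 hQN)
  have hQsolv : Group.IsSolvable Qg := by
    haveI := (IsPGroup.of_card hQcard).isNilpotent
    infer_instance
  have hQnN : Qg ≤ Subgroup.normalizer (N : Set G) := Subgroup.le_normalizer_of_normal
  -- an invariant Sylow subgroup of `N` moved by `Q`
  obtain ⟨p, hp, S, hS, hSC⟩ : ∃ p : ℕ, p.Prime ∧ ∃ S : Sylow p N,
      Qg ≤ Subgroup.normalizer ((S : Subgroup N).map N.subtype : Set G) ∧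
      ¬ (S : Subgroup N).map N.subtype ≤ Subgroup.centralizer (Qg : Set G) := by
    by_contra! hcon
    apply hQC
    rw [Subgroup.le_centralizer_iff]
    suffices h : (Subgroup.centralizer (Qg : Set G)).subgroupOf N = ⊤ from Subgroup.subgroupOf_eq_top.1 h
    rw [← Subgroup.index_eq_one]
    by_contra h1
    obtain ⟨r, hr, hrd⟩ := Nat.exists_prime_and_dvd h1
    haveI := Fact.mk hr
    obtain ⟨S, hS⟩ := Cfsg.Agent.Coprime.exists_invariant_sylow hQnN hQNcop (Or.inl hQsolv) r
    have hle : (S : Subgroup N) ≤ (Subgroup.centralizer (Qg : Set G)).subgroupOf N := fun x hx =>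
      hcon r hr S hS ⟨x, hx, rfl⟩
    exact S.not_dvd_index (hrd.trans (Subgroup.index_dvd_of_le hle))
  haveI := Fact.mk hp
  set Sg := (S : Subgroup N).map N.subtype with hSg
  have hSN : Sg ≤ N := Subgroup.map_subtype_le _
  -- adjust the lift so that it also normalises `S`
  obtain ⟨a, haQ, haS, hapi⟩ : ∃ a, a ∈ Subgroup.normalizer (Qg : Set G) ∧
      a ∈ Subgroup.normalizer (Sg : Set G) ∧ π a = f0 * b * f0⁻¹ := by
    let S' : Sylow p N := (MulAut.conjNormal a0 : MulAut N) • S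
    have hS'g : (S' : Subgroup N).map N.subtype = MulAut.conj a0 • Sg := by
      ext x
      rw [Subgroup.mem_pointwise_smul_iff_inv_smul_mem]
      constructor
      · rintro ⟨_, ⟨z, hz, rfl⟩, rfl⟩
        refine ⟨z, hz, ?_⟩
        simp [MulAut.smul_def, MulAut.conjNormal_apply]
        group
      · rintro ⟨z, hz, hzx⟩
        refine ⟨(MulAut.conjNormal a0 : MulAut N) z, ⟨z, hz, rfl⟩, ?_⟩
        simp only [Subgroup.coe_subtype] at hzx ⊢
        rw [MulAut.conjNormal_apply, hzx, MulAut.smul_def, MulAut.inv_apply, MulAut.conj_symm_apply]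
        group
    have hS' : Qg ≤ Subgroup.normalizer ((S' : Subgroup N).map N.subtype : Set G) := by
      rw [hS'g]
      intro y hy
      have hy' : a0⁻¹ * y * a0 ∈ Qg := (Subgroup.mem_normalizer_iff''.1 ha0 y).1 hy
      have hfix := hS hy'
      rw [Subgroup.mem_normalizer_iff] at hfix ⊢
      intro x
      simp only [Subgroup.mem_pointwise_smul_iff_inv_smul_mem, MulAut.smul_def, MulAut.inv_apply, MulAut.conj_symm_apply]
      rw [hfix]
      congr! 1
      group
    obtain ⟨c, hcC, hc⟩ := Cfsg.Agent.Coprime.exists_centralizer_conj_sylow hQnN hQNcop (Or.inl hQsolv) S' S hS' hS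
    refine ⟨(c : G) * a0, mul_mem (Subgroup.centralizer_le_normalizer _ hcC) ha0, ?_, ?_⟩
    · refine Subgroup.mem_normalizer_fintype fun z hz => ?_
      obtain ⟨s, hs, rfl⟩ := hz
      refine ⟨(MulAut.conj c : MulAut N) ((MulAut.conjNormal a0 : MulAut N) s), ?_, ?_⟩
      · rw [← hc]
        exact ⟨(MulAut.conjNormal a0 : MulAut N) s, ⟨s, hs, rfl⟩, rfl⟩
      · simp [MulAut.conjNormal_apply, mul_assoc]
    · rw [map_mul, show π (c : G) = 1 from (QuotientGroup.eq_one_iff _).2 c.2, one_mul, hf0e]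
  -- a minimal invariant subgroup of `S` moved by `Q`
  obtain ⟨T, ⟨hTS, hTQ, hTa, hTC⟩, hmin⟩ := wellFounded_lt.has_min
    {T : Subgroup G | T ≤ Sg ∧ Qg ≤ Subgroup.normalizer (T : Set G) ∧ a ∈ Subgroup.normalizer (T : Set G) ∧
      ¬ T ≤ Subgroup.centralizer (Qg : Set G)} ⟨Sg, le_rfl, hS, haS, hSC⟩
  have hTp : IsPGroup p T := (S.2.map N.subtype).to_le hTS
  haveI : Group.IsNilpotent T := hTp.isNilpotent
  have hTne : T ≠ ⊥ := fun h => hTC (h ▸ bot_le)
  haveI : Nontrivial T := (Subgroup.nontrivial_iff_ne_bot T).2 hTne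
  set D := (commutator T).map T.subtype with hD
  have hDlt : D < T := by
    refine lt_of_le_of_ne (Subgroup.map_subtype_le _) fun h => ?_
    have h2 : commutator T = ⊤ := Subgroup.map_injective T.subtype_injective
      (h.trans (by rw [← MonoidHom.range_eq_map, Subgroup.range_subtype]))
    exact (Group.IsSolvable.commutator_lt_top_of_nontrivial T).ne h2
  have hDeq : D = ⁅T, T⁆ := Subgroup.map_subtype_commutator T
  have hnormD : ∀ x ∈ Subgroup.normalizer (T : Set G), x ∈ Subgroup.normalizer (D : Set G) := by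
    intro x hx
    have h1 : T.map (MulAut.conj x).toMonoidHom = T := by
      ext z
      rw [Subgroup.mem_map_equiv, MulAut.conj_symm_apply]
      exact (Subgroup.mem_normalizer_iff''.1 hx z).symm
    rw [Subgroup.mem_normalizer_iff'']
    intro z
    rw [hDeq]
    conv_lhs => rw [← h1, ← Subgroup.map_commutator, Subgroup.mem_map_equiv, MulAut.conj_symm_apply]
  have hDC : D ≤ Subgroup.centralizer (Qg : Set G) := by
    by_contra h
    exact hmin D ⟨hDlt.le.trans hTS, fun x hx => hnormD x (hTQ hx), hnormD a hTa, h⟩ hDlt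
  -- the action on the abelianisation of `T`
  have hM : ∀ x ∈ Qg ⊔ Subgroup.zpowers a, ∀ t : T, x * t * x⁻¹ ∈ T := fun x hx t =>
    (Subgroup.mem_normalizer_iff.1 ((sup_le hTQ (Subgroup.zpowers_le.2 hTa)) hx) t).1 t.2
  let M := Qg ⊔ Subgroup.zpowers a
  let φ : M → T →* Abelianization T := fun x => (Abelianization.of).comp
    { toFun := fun t => ⟨_, hM x x.2 t⟩
      map_one' := Subtype.ext (by simp)
      map_mul' := fun s t => Subtype.ext (by simp [mul_assoc]) }
  have hφ : ∀ (x : M) (t : T) (z : T), ((z : G) = x * t * (x : G)⁻¹) → φ x t = Abelianization.of z := by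
    intro x t z hz
    show Abelianization.of _ = _
    congr 1
    exact Subtype.ext hz.symm
  let qM : Qg → M := fun y => ⟨y, Subgroup.mem_sup_left y.2⟩
  let aM : M := ⟨a, Subgroup.mem_sup_right (Subgroup.mem_zpowers a)⟩
  have hnorm1 : ∀ (y : Qg) (t : T), ∏ i ∈ Finset.range n, φ (qM y * aM ^ i * (qM y)⁻¹) t = 1 := by
    intro y t
    set g : G := y * a * (y : G)⁻¹ with hg
    have hgn : g ^ n = 1 := hall g ⟨π (y : G) * f0, Fb.mul_mem (hQP y.2) hf0, by
      rw [hg, map_mul, map_mul, map_inv, hapi]; group⟩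
    have htg : ((t : G) * g) ^ n = 1 := hall _ ⟨π (y : G) * f0, Fb.mul_mem (hQP y.2) hf0, by
      rw [map_mul, show π (t : G) = 1 from (QuotientGroup.eq_one_iff _).2 (hSN (hTS t.2)), one_mul, hg, map_mul, map_mul, map_inv, hapi]
      group⟩
    have hstep : ∀ j : ℕ, ∃ z : T, (z : G) = ((t : G) * g) ^ j * (g ^ j)⁻¹ ∧
        Abelianization.of z = ∏ i ∈ Finset.range j, φ (qM y * aM ^ i * (qM y)⁻¹) t := by
      intro j
      induction j with
      | zero => exact ⟨1, by simp, by simp⟩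
      | succ j ih =>
        obtain ⟨z, hz, hzp⟩ := ih
        have hgj : g ^ j = ((qM y * aM ^ j * (qM y)⁻¹ : M) : G) := by
          simp [qM, aM, hg]
        refine ⟨z * ⟨_, hM _ (qM y * aM ^ j * (qM y)⁻¹ : M).2 t⟩, ?_, ?_⟩
        · rw [Subgroup.coe_mul, hz]
          show _ * (((qM y * aM ^ j * (qM y)⁻¹ : M) : G) * t * ((qM y * aM ^ j * (qM y)⁻¹ : M) : G)⁻¹) = _
          rw [← hgj, pow_succ ((t : G) * g), pow_succ g]
          group
        · rw [map_mul, hzp, Finset.prod_range_succ]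
          rfl
    obtain ⟨z, hz, hzp⟩ := hstep n
    rw [← hzp, show z = 1 from Subtype.ext (by rw [hz, htg, hgn]; simp), map_one]
  -- summing over `Q`
  haveI : Fintype Qg := Fintype.ofFinite _
  have hn1 : 0 < n := Nat.card_pos
  have hshift : ∀ (i : ℕ), i % n ≠ 0 → ∀ t : T,
      ∏ y : Qg, φ (qM y * aM ^ i * (qM y)⁻¹) t = ∏ y : Qg, φ (qM y * aM ^ i) t := by
    intro i hi t
    have hmem : ∀ y : Qg, (y : G) * (a ^ i * (y : G)⁻¹ * (a ^ i)⁻¹) ∈ Qg := fun y =>
      Qg.mul_mem y.2 ((Subgroup.mem_normalizer_iff.1 (pow_mem haQ i) _).1 (Qg.inv_mem y.2))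
    have hinj : Function.Injective fun y : Qg => (⟨_, hmem y⟩ : Qg) := by
      rintro ⟨u, hu⟩ ⟨v, hv⟩ h
      have h' : u * a ^ i * u⁻¹ = v * a ^ i * v⁻¹ := by
        have h2 := congrArg (fun w : Qg => (w : G) * a ^ i) h
        simpa [mul_assoc] using h2
      have hc : π (v⁻¹ * u) * (f0 * b * f0⁻¹) ^ i = (f0 * b * f0⁻¹) ^ i * π (v⁻¹ * u) := by
        rw [← hapi, ← map_pow, ← map_mul, ← map_mul]
        congr 1
        calc v⁻¹ * u * a ^ i = v⁻¹ * (u * a ^ i * u⁻¹) * u := by group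
          _ = _ := by rw [h']; group
      rw [conj_pow] at hc
      have hfc : f0⁻¹ * π (v⁻¹ * u) * f0 * b ^ i = b ^ i * (f0⁻¹ * π (v⁻¹ * u) * f0) := by
        calc f0⁻¹ * π (v⁻¹ * u) * f0 * b ^ i = f0⁻¹ * (π (v⁻¹ * u) * (f0 * b ^ i * f0⁻¹)) * f0 := by group
          _ = _ := by rw [hc]; group
      have hbi : b ^ i ≠ 1 := fun h0 => hi (Nat.mod_eq_zero_of_dvd (hbn ▸ orderOf_dvd_of_pow_eq_one h0))
      have h1 := hfpf _ (Fb.mul_mem (Fb.mul_mem (Fb.inv_mem hf0) (hQP (Qg.mul_mem (Qg.inv_mem hv) hu))) hf0)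
        (b ^ i) (pow_mem hbH i) hbi hfc
      have h2 : π (v⁻¹ * u) = 1 := by
        have := congrArg (fun z => f0 * z * f0⁻¹) h1
        simpa [mul_assoc] using this
      have h3 : v⁻¹ * u ∈ Qg ⊓ N := ⟨Qg.mul_mem (Qg.inv_mem hv) hu, (QuotientGroup.eq_one_iff _).1 h2⟩
      rw [Subgroup.inf_eq_bot_of_coprime hQNcop, Subgroup.mem_bot, inv_mul_eq_one] at h3
      exact Subtype.ext h3.symm
    refine Fintype.prod_bijective _ (Finite.injective_iff_bijective.1 hinj) _ _ fun y => ?_
    congr 2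
    refine Subtype.ext ?_
    simp [qM, aM, mul_assoc]
  have hsum : ∀ t : T, ∏ y : Qg, φ (qM y) t = Abelianization.of t ^ Nat.card Qg := by
    intro t
    have h1 : ∏ i ∈ Finset.range n, ∏ y : Qg, φ (qM y * aM ^ i * (qM y)⁻¹) t = 1 := by
      rw [Finset.prod_comm]; exact Finset.prod_eq_one fun y _ => hnorm1 y t
    have h2 : ∏ i ∈ Finset.range n, ∏ y : Qg, φ (qM y * aM ^ i) t = 1 := by
      rw [Finset.prod_comm]
      refine Finset.prod_eq_one fun y _ => ?_
      let c : Abelianization T →* Abelianization T := Abelianization.lift (φ (qM y))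
      have : ∀ i, φ (qM y * aM ^ i) t = c (φ (aM ^ i) t) := by
        intro i
        show _ = Abelianization.lift (φ (qM y)) (Abelianization.of _)
        rw [Abelianization.lift_apply_of]
        refine (hφ _ _ ⟨_, hM _ (qM y).2 ⟨_, hM _ (aM ^ i).2 t⟩⟩ ?_).trans rfl
        simp [mul_assoc]
      rw [Finset.prod_congr rfl fun i _ => this i, ← map_prod]
      have h0 := hnorm1 1 t
      have e : ∀ i : ℕ, qM 1 * aM ^ i * (qM 1)⁻¹ = aM ^ i := fun i => Subtype.ext (by simp [qM])
      simp only [e] at h0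
      rw [h0, map_one]
    obtain ⟨m, hm⟩ : ∃ m, n = m + 1 := ⟨n - 1, by omega⟩
    rw [hm, Finset.prod_range_succ'] at h1 h2
    have hrest : ∏ i ∈ Finset.range m, ∏ y : Qg, φ (qM y * aM ^ (i + 1) * (qM y)⁻¹) t =
        ∏ i ∈ Finset.range m, ∏ y : Qg, φ (qM y * aM ^ (i + 1)) t :=
      Finset.prod_congr rfl fun i hi => hshift (i + 1) (by
        have := Finset.mem_range.1 hi
        rw [Nat.mod_eq_of_lt (by omega)]; omega) t
    rw [hrest] at h1
    have h3 := mul_left_cancel (h1.trans h2.symm)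
    simp only [pow_zero, mul_one, mul_inv_cancel] at h3
    rw [← h3]
    have e : φ 1 t = Abelianization.of t := hφ _ _ _ (by simp)
    rw [Finset.prod_congr rfl fun y _ => e, Finset.prod_const, Finset.card_univ, Nat.card_eq_fintype_card]
  -- so `Q` is trivial on the abelianisation, hence on `T`
  apply hTC
  intro t ht
  rw [Subgroup.mem_centralizer_iff]
  intro y hy
  have hz : y * t * y⁻¹ ∈ T := hM y (Subgroup.mem_sup_left hy) ⟨t, ht⟩
  have hsame : Abelianization.of (⟨_, hz⟩ : T) ^ Nat.card Qg = Abelianization.of (⟨t, ht⟩ : T) ^ Nat.card Qg := by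
    rw [← hsum, ← hsum]
    refine Fintype.prod_bijective (fun w : Qg => w * ⟨y, hy⟩) (Group.mulRight_bijective _) _ _ fun w => ?_
    refine (hφ _ _ _ ?_).trans rfl
    show ((qM (w * ⟨y, hy⟩) : M) : G) * t * ((qM (w * ⟨y, hy⟩) : M) : G)⁻¹ = (w : G) * (y * t * y⁻¹) * (w : G)⁻¹
    simp [qM, mul_assoc]
  have hcopT : (Nat.card (Abelianization T)).Coprime (Nat.card Qg) :=
    Nat.Coprime.coprime_dvd_left ((Subgroup.card_quotient_dvd_card _).trans (Subgroup.card_dvd_of_le (hTS.trans hSN))) hQNcop.symm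
  have heq : Abelianization.of (⟨_, hz⟩ : T) = Abelianization.of (⟨t, ht⟩ : T) := (powCoprime hcopT).injective hsame
  have hd : (⟨t, ht⟩ : T)⁻¹ * ⟨_, hz⟩ ∈ commutator T := by
    rw [← QuotientGroup.eq]
    exact heq.symm
  have hdD : t⁻¹ * (y * t * y⁻¹) ∈ D := ⟨_, hd, rfl⟩
  set d := t⁻¹ * (y * t * y⁻¹) with hdd
  have hdy : y * d = d * y := Subgroup.mem_centralizer_iff.1 (hDC hdD) y hy
  have hiter : ∀ j : ℕ, y ^ j * t * (y ^ j)⁻¹ = t * d ^ j := by
    intro j
    induction j with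
    | zero => simp
    | succ j ih =>
      calc y ^ (j + 1) * t * (y ^ (j + 1))⁻¹ = y * (y ^ j * t * (y ^ j)⁻¹) * y⁻¹ := by group
        _ = (y * t * y⁻¹) * (y * d ^ j * y⁻¹) := by rw [ih]; group
        _ = _ := by
          rw [show y * t * y⁻¹ = t * d by rw [hdd]; group,
            show y * d ^ j = d ^ j * y from ((show Commute y d from hdy).pow_right j).eq, mul_inv_cancel_right,
            mul_assoc, ← pow_succ']
  have h5 := hiter (Nat.card Qg)
  rw [show y ^ Nat.card Qg = 1 from congrArg Subtype.val (pow_card_eq_one' (x := (⟨y, hy⟩ : Qg)))] at h5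
  have hd1 : d ^ Nat.card Qg = 1 := by simpa using h5
  have hdN : orderOf d ∣ Nat.card N := Subgroup.orderOf_dvd_natCard N (hSN (hTS (hDlt.le hdD)))
  have : d = 1 := orderOf_eq_one_iff.1 (Nat.eq_one_of_dvd_coprimes hQNcop (orderOf_dvd_of_pow_eq_one hd1) hdN)
  rw [hdd, inv_mul_eq_one] at this
  calc y * t = (y * t * y⁻¹) * y := by group
    _ = t * y := by rw [← this]


/-- Let N be a normal subgroup of the finite group G such that G/N is a Frobenius group with kernel F and cyclic complement H, where the order of F is coprime to that of N and F is not contained in the image of C_G(N) in G/N. Then G has an element of order p·#H for some prime p dividing the order of N. (A standard tool in recognising groups by their element orders.) -/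
theorem result {G : Type*} [Group G] [Finite G] (N : Subgroup G) [N.Normal]
    (Fb Hb : Subgroup (G ⧸ N)) [Fb.Normal] (hHb : Cfsg.IsFrobeniusComplement Hb) (hker : Cfsg.frobeniusKernel Hb = (Fb : Set (G ⧸ N)))
    (hcyc : IsCyclic Hb) (hcop : (Nat.card Fb).Coprime (Nat.card N))
    (hnot : ¬ Fb ≤ (Subgroup.centralizer (N : Set G)).map (QuotientGroup.mk' N)) :
    ∃ p : ℕ, p.Prime ∧ p ∣ Nat.card N ∧ ∃ g : G, orderOf g = p * Nat.card Hb := by
  classical
  obtain ⟨b0, hb0⟩ := (Subgroup.isCyclic_iff_exists_zpowers_eq_top (H := Hb)).1 hcyc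
  by_contra hcon
  refine exists_core N Fb Hb hHb hker hcop b0 hb0 hnot fun g hg => ?_
  obtain ⟨f, hf, hgf⟩ := hg
  by_contra hne
  apply hcon
  set n := Nat.card Hb
  have hord : orderOf (QuotientGroup.mk' N g) = n := by
    rw [hgf]
    show orderOf (MulAut.conj f b0) = n
    rw [MulEquiv.orderOf_eq, ← Nat.card_zpowers, hb0]
  have hgnN : g ^ n ∈ N := by
    rw [← QuotientGroup.eq_one_iff, ← hord]
    show QuotientGroup.mk' N (g ^ _) = 1
    rw [map_pow, pow_orderOf_eq_one]
  obtain ⟨m, hm⟩ : n ∣ orderOf g := hord ▸ orderOf_map_dvd (QuotientGroup.mk' N) g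
  have hn0 : n ≠ 0 := Nat.card_pos.ne'
  have hgm : orderOf (g ^ n) = m := by
    rw [orderOf_pow' g hn0, hm, Nat.gcd_eq_right (Dvd.intro m rfl), Nat.mul_div_cancel_left _ (Nat.pos_of_ne_zero hn0)]
  have hm1 : m ≠ 1 := fun h => hne (orderOf_eq_one_iff.1 (hgm.trans h))
  obtain ⟨p, hp, hpm⟩ := Nat.exists_prime_and_dvd hm1
  refine ⟨p, hp, (hpm.trans (hgm ▸ Subgroup.orderOf_dvd_natCard N hgnN)), g ^ (m / p), ?_⟩
  have hm0 : m ≠ 0 := fun h => (orderOf_pos g).ne' (by rw [hm, h, mul_zero])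
  obtain ⟨r, rfl⟩ := hpm
  rw [Nat.mul_div_cancel_left _ hp.pos, orderOf_pow' g (by intro h; simp [h] at hm0), hm,
    Nat.gcd_eq_right (Dvd.intro_left (n * p) (by ring)), show n * (p * r) = p * n * r by ring,
    Nat.mul_div_cancel _ (Nat.pos_of_ne_zero (by intro h; simp [h] at hm0))]

end Cfsg.Agent.S3703
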