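import Cfsg.Statements.S3707

open scoped Pointwise

set_option autoImplicit false
open Cfsg

namespace Cfsg.Agent.S3707

open MulAction

/-- The counting step: the stabiliser of a point is primitive. -/
theorem stabilizer_preprimitive {G Ω : Type*} [Group G] [MulAction G Ω] [Finite Ω]
    (h2 : IsMultiplyPretransitive G Ω 2) (Γ : Set Ω) (hg : 1 < Γ.ncard)
    (hd : 2 * Γ.ncard ≤ Nat.card Ω)
    (htr : ∀ x ∈ Γ, ∀ y ∈ Γ, ∃ g : G, (∀ z ∉ Γ, g • z = z) ∧ g • x = y) (a₀ : Ω) :
    IsPreprimitive (stabilizer G a₀) (SubMulAction.ofStabilizer G a₀) := by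
  classical
  haveI := Fintype.ofFinite Ω
  haveI : IsPretransitive G Ω := isPretransitive_of_is_two_pretransitive
  have hn : 4 ≤ Nat.card Ω := by omega
  have hcardS : Nat.card (SubMulAction.ofStabilizer G a₀) + 1 = Nat.card Ω := by
    rw [Nat.card_congr (Equiv.subtypeEquivRight (q := fun x => x ≠ a₀) fun x =>
      SubMulAction.mem_ofStabilizer_iff G a₀), Nat.card_eq_fintype_card, Nat.card_eq_fintype_card,
      Fintype.card_subtype_compl, Fintype.card_subtype_eq]
    have := Fintype.card_pos_iff.2 ⟨a₀⟩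
    omega
  haveI : IsPretransitive (stabilizer G a₀) (SubMulAction.ofStabilizer G a₀) := by
    rw [← is_one_pretransitive_iff]
    exact SubMulAction.ofStabilizer.isMultiplyPretransitive.1 h2
  haveI : Nonempty (SubMulAction.ofStabilizer G a₀) :=
    (Nat.card_pos_iff.1 (by omega : 0 < Nat.card (SubMulAction.ofStabilizer G a₀))).1
  obtain ⟨x₀⟩ := ‹Nonempty (SubMulAction.ofStabilizer G a₀)›
  refine IsPreprimitive.of_isTrivialBlock_base x₀ fun {B} hx₀ hB => ?_
  by_contra hnt
  rw [IsTrivialBlock, not_or] at hnt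
  set b := B.ncard with hbdef
  have hb2 : 2 ≤ b := by
    rw [hbdef]
    by_contra h
    exact hnt.1 ((Set.ncard_le_one_iff_subsingleton).1 (by omega))
  have hbn : 2 * b + 1 ≤ Nat.card Ω := by
    obtain ⟨c, hc⟩ := hB.ncard_dvd_card ⟨_, hx₀⟩
    rw [← hbdef] at hc
    have hc2 : 2 ≤ c := by
      by_contra h
      interval_cases c
      · omega
      · exact hnt.2 (by
          rw [Set.eq_univ_iff_forall]
          intro y
          by_contra hy
          have := Set.ncard_lt_card (s := B) (fun e => hy (e ▸ Set.mem_univ y))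
          omega)
    have := Nat.mul_le_mul_left b hc2
    omega
  let B' : Set Ω := Subtype.val '' B
  have hB'a : a₀ ∉ B' := by
    rintro ⟨⟨x, hx⟩, -, e⟩
    exact (SubMulAction.mem_ofStabilizer_iff G a₀).1 hx e
  have hblk : ∀ h : G, h • a₀ = a₀ → ∀ u ∈ B', h • u ∈ B' → ∀ v ∈ B', h • v ∈ B' := by
    rintro h hh _ ⟨u, hu, rfl⟩ ⟨u', hu', hueq⟩ _ ⟨v, hv, rfl⟩
    let h' : stabilizer G a₀ := ⟨h, hh⟩
    have hu'' : h' • u ∈ B := by
      rwa [show h' • u = u' from Subtype.ext hueq.symm]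
    have heq : h' • B = B := hB.smul_eq_of_mem hu hu''
    exact ⟨h' • v, heq ▸ Set.smul_mem_smul_set hv, rfl⟩
  -- the relation attached to the blocks
  let r₀ : Ω → Ω → Prop := fun x y => ∃ h : G, h • a₀ = a₀ ∧ h • x ∈ B' ∧ h • y ∈ B'
  have r₀_ne : ∀ {x y}, r₀ x y → x ≠ a₀ := by
    rintro x y ⟨h, hh, hx, -⟩ rfl
    exact hB'a (hh ▸ hx)
  have r₀_symm : ∀ {x y}, r₀ x y → r₀ y x := fun ⟨h, hh, hx, hy⟩ => ⟨h, hh, hy, hx⟩
  have r₀_trans : ∀ {x y z}, r₀ x y → r₀ y z → r₀ x z := by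
    rintro x y z ⟨h, hh, hx, hy⟩ ⟨k, hk, hky, hkz⟩
    refine ⟨k, hk, ?_, hkz⟩
    have := hblk (k * h⁻¹) (by rw [mul_smul, inv_smul_eq_iff.2 hh.symm, hk]) (h • y) hy
      (by rwa [mul_smul, inv_smul_smul]) (h • x) hx
    rwa [mul_smul, inv_smul_smul] at this
  have r₀_inv : ∀ e : G, e • a₀ = a₀ → ∀ x y, r₀ x y → r₀ (e • x) (e • y) := by
    rintro e he x y ⟨h, hh, hx, hy⟩
    refine ⟨h * e⁻¹, by rw [mul_smul, inv_smul_eq_iff.2 he.symm, hh], ?_, ?_⟩
    · rwa [mul_smul, inv_smul_smul]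
    · rwa [mul_smul, inv_smul_smul]
  choose t ht using fun a : Ω => exists_smul_eq G a₀ a
  let R : Ω → Ω → Ω → Prop := fun a x y => r₀ ((t a)⁻¹ • x) ((t a)⁻¹ • y)
  have R_map : ∀ (h : G) (a x y : Ω), R a x y → R (h • a) (h • x) (h • y) := by
    intro h a x y hR
    have he : ((t (h • a))⁻¹ * h * t a) • a₀ = a₀ := by
      rw [mul_smul, mul_smul, ht, inv_smul_eq_iff, ht]
    have := r₀_inv _ he _ _ hR
    simpa [R, mul_smul] using this
  have R_ne : ∀ {a x y}, R a x y → x ≠ a := by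
    intro a x y hR e
    exact r₀_ne hR (by rw [e, inv_smul_eq_iff, ht])
  have hclass : ∀ a x, x ≠ a → (Finset.univ.filter fun y => R a x y).card = b ∧ R a x x := by
    intro a x hx
    have hx' : (t a)⁻¹ • x ≠ a₀ := fun e => hx (by rw [inv_smul_eq_iff, ht] at e; exact e)
    obtain ⟨⟨h, hh⟩, hhx⟩ := exists_smul_eq (stabilizer G a₀)
      (⟨_, (SubMulAction.mem_ofStabilizer_iff G a₀).2 hx'⟩ : SubMulAction.ofStabilizer G a₀) x₀
    have hh' : h • a₀ = a₀ := hh
    have hxB : h • (t a)⁻¹ • x ∈ B' := ⟨x₀, hx₀, (congrArg Subtype.val hhx).symm⟩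
    refine ⟨?_, h, hh', hxB, hxB⟩
    rw [hbdef, ← Set.ncard_image_of_injective B Subtype.val_injective]
    refine Eq.trans ?_ (Set.ncard_image_of_injective B' (MulAction.injective (t a * h⁻¹)))
    rw [← Set.ncard_coe_finset]
    congr 1
    ext y
    simp only [Finset.coe_filter, Finset.mem_univ, true_and, Set.mem_ofPred_eq, Set.mem_image]
    constructor
    · rintro ⟨k, hk, hkx, hky⟩
      refine ⟨h • (t a)⁻¹ • y, ?_, by simp [mul_smul]⟩
      have := hblk (h * k⁻¹) (by rw [mul_smul, inv_smul_eq_iff.2 hk.symm, hh'])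
        (k • (t a)⁻¹ • x) hkx (by rwa [mul_smul, inv_smul_smul]) (k • (t a)⁻¹ • y) hky
      rwa [mul_smul, inv_smul_smul] at this
    · rintro ⟨z, hz, rfl⟩
      exact ⟨h, hh', hxB, by simpa [mul_smul] using hz⟩
  let M : Ω → Ω → Finset Ω := fun a x => (Finset.univ.filter fun y => R a x y).erase x
  let W : Ω → Ω → Finset Ω := fun x y => Finset.univ.filter fun a => R a x y
  have hM : ∀ a x, (M a x).card = if x = a then 0 else b - 1 := by
    intro a x
    split_ifs with h
    · rw [Finset.card_eq_zero, Finset.eq_empty_iff_forall_notMem]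
      intro y hy
      exact R_ne (Finset.mem_filter.1 (Finset.mem_erase.1 hy).2).2 h
    · obtain ⟨h1, h3⟩ := hclass a x h
      rw [Finset.card_erase_of_mem (by simp [h3]), h1]
  have hdouble : ∀ (x : Ω) (S : Finset Ω), x ∉ S →
      ∑ y ∈ S, (W x y).card = ∑ a : Ω, ((M a x) ∩ S).card := by
    intro x S hxS
    have e : ∀ a, (M a x) ∩ S = S.filter fun y => R a x y := fun a => by
      ext y
      simp only [M, Finset.mem_inter, Finset.mem_erase, Finset.mem_filter, Finset.mem_univ, true_and]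
      exact ⟨fun h => ⟨h.2, h.1.2⟩, fun h => ⟨⟨fun e => hxS (e ▸ h.1), h.2⟩, h.1⟩⟩
    simp only [e]
    exact (Finset.sum_card_bipartiteAbove_eq_sum_card_bipartiteBelow
      (r := fun (a : Ω) (y : Ω) => R a x y) (s := Finset.univ) (t := S)).symm
  -- every pair has `b - 1` witnesses
  have hW : ∀ x y, x ≠ y → (W x y).card = b - 1 := by
    intro x y hxy
    have hconst : ∀ z ∈ Finset.univ.erase x, (W x z).card = (W x y).card := by
      intro z hz
      obtain ⟨h, hh1, hh2⟩ := is_two_pretransitive_iff.1 h2 hxy (Ne.symm (Finset.ne_of_mem_erase hz))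
      refine (Finset.card_equiv (MulAction.toPerm h) fun w => ?_).symm
      simp only [W, Finset.mem_filter, Finset.mem_univ, true_and, MulAction.toPerm_apply]
      refine ⟨fun hR => by simpa [hh1, hh2] using R_map h w x y hR, fun hR => ?_⟩
      have := R_map h⁻¹ _ _ _ hR
      rwa [inv_smul_smul, show h⁻¹ • x = x from inv_smul_eq_iff.2 hh1.symm,
        show h⁻¹ • z = y from inv_smul_eq_iff.2 hh2.symm] at this
    have h1 := hdouble x (Finset.univ.erase x) (Finset.notMem_erase x _)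
    rw [Finset.sum_congr rfl hconst, Finset.sum_const, smul_eq_mul] at h1
    have h3 : ∀ a, (M a x) ∩ Finset.univ.erase x = M a x := fun a => by
      rw [Finset.inter_eq_left]
      exact fun w hw => Finset.mem_erase.2 ⟨(Finset.mem_erase.1 hw).1, Finset.mem_univ _⟩
    simp only [h3, hM] at h1
    rw [← Finset.sum_erase Finset.univ (a := x) (by simp), Finset.sum_congr rfl
      (g := fun _ => b - 1) (fun a ha => if_neg (Ne.symm (Finset.ne_of_mem_erase ha))),
      Finset.sum_const, smul_eq_mul] at h1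
    refine Nat.eq_of_mul_eq_mul_left ?_ h1
    rw [Finset.card_erase_of_mem (Finset.mem_univ x), Finset.card_univ, ← Nat.card_eq_fintype_card]
    omega
  -- mixed pairs
  obtain ⟨x, hx⟩ : Γ.Nonempty := Set.nonempty_of_ncard_ne_zero (by omega)
  set Γ' : Finset Ω := Γ.toFinset with hΓ'
  set Δ : Finset Ω := Finset.univ \ Γ' with hΔ
  have hxΔ : x ∉ Δ := by simp [hΔ, hΓ', hx]
  have hΓcard : Γ'.card = Γ.ncard := (Set.ncard_eq_toFinset_card' Γ).symm
  have hΔcard : Δ.card + Γ.ncard = Nat.card Ω := by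
    rw [hΔ, ← hΓcard, Nat.card_eq_fintype_card, ← Finset.card_univ,
      Finset.card_sdiff_add_card_eq_card (Finset.subset_univ _)]
  have hlhs : ∑ y ∈ Δ, (W x y).card = Δ.card * (b - 1) := by
    rw [Finset.sum_congr rfl fun y hy => hW x y fun e => hxΔ (e ▸ hy), Finset.sum_const, smul_eq_mul]
  rw [hdouble x Δ hxΔ] at hlhs
  have hrhs : ∑ a : Ω, ((M a x) ∩ Δ).card ≤
      Δ.card * (b - Γ.ncard) + (Γ.ncard - 1) * (b - 1) := by
    rw [← Finset.sum_sdiff (Finset.subset_univ Γ'), ← hΔ]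
    refine add_le_add ?_ ?_
    · refine Finset.sum_le_card_nsmul _ _ _ (fun a ha => ?_) |>.trans (by rw [smul_eq_mul])
      rcases Finset.eq_empty_or_nonempty ((M a x) ∩ Δ) with he | ⟨y, hy⟩
      · simp [he]
      have hyM := (Finset.mem_inter.1 hy).1
      have hRxy : R a x y := (Finset.mem_filter.1 (Finset.mem_erase.1 hyM).2).2
      have hsub : Γ'.erase x ⊆ (M a x) \ Δ := by
        intro z hz
        have hzΓ : z ∈ Γ := by simpa [hΓ'] using (Finset.mem_erase.1 hz).2
        obtain ⟨u, hu, hux⟩ := htr x hx z hzΓ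
        have hua : u • a = a := hu a (by simpa [hΔ, hΓ'] using ha)
        have huy : u • y = y := hu y (by simpa [hΔ, hΓ'] using (Finset.mem_inter.1 hy).2)
        have hRzy := R_map u a x y hRxy
        rw [hua, hux, huy] at hRzy
        have hRxz : R a x z := r₀_trans hRxy (r₀_symm hRzy)
        simp only [Finset.mem_sdiff, M, Finset.mem_erase, Finset.mem_filter, Finset.mem_univ, true_and]
        exact ⟨⟨(Finset.mem_erase.1 hz).1, hRxz⟩, by simp [hΔ, hΓ', hzΓ]⟩
      have h1 := Finset.card_le_card hsub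
      rw [Finset.card_erase_of_mem (by simp [hΓ', hx]), hΓcard] at h1
      have h3 := Finset.card_inter_add_card_sdiff (M a x) Δ
      rw [hM a x, if_neg (show x ≠ a from fun e => hxΔ (by rw [e]; exact ha))] at h3
      omega
    · rw [← Finset.sum_erase Γ' (a := x) (by
        rw [Finset.card_eq_zero, Finset.eq_empty_iff_forall_notMem]
        intro y hy
        have := hM x x
        rw [if_pos rfl, Finset.card_eq_zero] at this
        simp [this] at hy)]
      refine Finset.sum_le_card_nsmul _ _ _ (fun a _ => ?_) |>.trans (by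
        rw [smul_eq_mul, Finset.card_erase_of_mem (by simp [hΓ', hx]), hΓcard])
      refine (Finset.card_le_card Finset.inter_subset_left).trans ?_
      rw [hM]; split_ifs <;> omega
  rw [hlhs] at hrhs
  -- arithmetic
  set d := Δ.card
  set g := Γ.ncard
  obtain ⟨b', hb'⟩ := Nat.exists_eq_add_of_le (show 1 ≤ b by omega)
  rw [show b - 1 = b' by omega] at hrhs
  rcases le_or_gt g b with hgb | hgb
  · obtain ⟨g', hg'⟩ := Nat.exists_eq_add_of_le (show 1 ≤ g by omega)
    obtain ⟨e, he⟩ := Nat.exists_eq_add_of_le hgb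
    rw [show b - g = e by omega, show g - 1 = g' by omega, show b' = e + g' by omega, Nat.mul_add] at hrhs
    have h1 : d * g' ≤ g' * (e + g') := by omega
    rw [Nat.mul_comm d g'] at h1
    have := Nat.le_of_mul_le_mul_left h1 (by omega)
    omega
  · rw [show b - g = 0 by omega, Nat.mul_zero, Nat.zero_add] at hrhs
    have := Nat.le_of_mul_le_mul_right hrhs (by omega)
    omega

/-- Let G be a finite primitive permutation group on Ω of degree n and Γ ⊂ Ω a subset with 1 < #Γ ≤ n/2 such that the pointwise stabilizer of Ω ∖ Γ is transitive on Γ. Then G is 3-transitive on Ω. -/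
theorem result {G Ω : Type*} [Group G] [Finite G] [MulAction G Ω] [FaithfulSMul G Ω] [Finite Ω] (hprim : MulAction.IsPreprimitive G Ω) (Γ : Set Ω) (h1 : 1 < Γ.ncard) (h2 : 2 * Γ.ncard ≤ Nat.card Ω) (htr : ∀ x ∈ Γ, ∀ y ∈ Γ, ∃ g : G, (∀ z ∉ Γ, g • z = z) ∧ g • x = y) : MulAction.IsMultiplyPretransitive G Ω 3 := by
  classical
  haveI := Fintype.ofFinite Ω
  have hΔ : Γᶜ.ncard + Γ.ncard = Nat.card Ω := by
    rw [add_comm]; exact Set.ncard_add_ncard_compl Γ
  have htwo : MulAction.IsMultiplyPretransitive G Ω 2 := by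
    refine hprim.is_two_pretransitive (s := Γᶜ) (n := Γᶜ.ncard - 1) (by omega) (by omega) ⟨?_⟩
    rintro ⟨x, hx⟩ ⟨y, hy⟩
    obtain ⟨g, hg, hgx⟩ := htr x (not_not.1 hx) y (not_not.1 hy)
    exact ⟨⟨g, fun z => hg z z.2⟩, Subtype.ext hgx⟩
  haveI := htwo
  haveI : MulAction.IsPretransitive G Ω := MulAction.isPretransitive_of_is_two_pretransitive
  obtain ⟨a, ha⟩ : Γᶜ.Nonempty := Set.nonempty_of_ncard_ne_zero (by omega)
  refine (SubMulAction.ofStabilizer.isMultiplyPretransitive (a := a)).2 ?_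
  have hprima := stabilizer_preprimitive htwo Γ h1 h2 htr a
  set S : Set (SubMulAction.ofStabilizer G a) := Subtype.val ⁻¹' Γᶜ with hS
  have hSimg : Subtype.val '' S = Γᶜ \ {a} := by
    ext x
    constructor
    · rintro ⟨⟨y, hy⟩, hyS, rfl⟩
      exact ⟨hyS, (SubMulAction.mem_ofStabilizer_iff G a).1 hy⟩
    · rintro ⟨hx, hxa⟩
      exact ⟨⟨x, (SubMulAction.mem_ofStabilizer_iff G a).2 hxa⟩, hx, rfl⟩
  have hScard : S.ncard + 1 = Γᶜ.ncard := by
    rw [← Set.ncard_image_of_injective S Subtype.val_injective, hSimg,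
      Set.ncard_sdiff_singleton_add_one ha]
  have hcard : Nat.card (SubMulAction.ofStabilizer G a) + 1 = Nat.card Ω := by
    rw [Nat.card_congr (Equiv.subtypeEquivRight (q := fun x => x ≠ a) fun x =>
      SubMulAction.mem_ofStabilizer_iff G a), Nat.card_eq_fintype_card, Nat.card_eq_fintype_card,
      Fintype.card_subtype_compl, Fintype.card_subtype_eq]
    have := Fintype.card_pos_iff.2 ⟨a⟩
    omega
  refine hprima.is_two_pretransitive (s := S) (n := S.ncard - 1) (by omega) (by omega) ⟨?_⟩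
  rintro ⟨⟨x, hx⟩, hxS⟩ ⟨⟨y, hy⟩, hyS⟩
  obtain ⟨g, hg, hgx⟩ := htr x (not_not.1 hxS) y (not_not.1 hyS)
  exact ⟨⟨⟨g, hg a ha⟩, fun z => Subtype.ext (hg _ z.2)⟩, Subtype.ext (Subtype.ext hgx)⟩

end Cfsg.Agent.S3707
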