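import Cfsg.Statements.S3708
import Cfsg.Agent.Phan.Recog

set_option autoImplicit false
open Cfsg

namespace Cfsg.Agent.S3708

/-- Phan's recognition of unitary groups. Let F be a finite field with q² elements, q > 4, and n ≥ 2. Let G be a group generated by subgroups U_0, …, U_{n−1}, each isomorphic to the special unitary group SU(2, q²) (determinant-one isometries of the standard Hermitian form in two variables over F), and let D_i ≤ U_i be cyclic subgroups of order q + 1. Suppose that U_i and U_j commute elementwise whenever the indices differ by at least 2, that the subgroup generated by U_i and U_{i+1} is isomorphic to SU(3, q²) for each i, and that D_i and D_j commute elementwise for all i, j. Then G is a homomorphic image of SU(n+1, q²). (Generation of G by the U_i is part of the hypothesis; G is not assumed finite.) -/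
theorem result {G : Type*} [Group G] (n : ℕ) (hn : 2 ≤ n)
    (F : Type*) [Field F] [Fintype F] (q : ℕ) (hq : 4 < q) (hF : Fintype.card F = q ^ 2)
    (U : Fin n → Subgroup G) (e : ∀ i, ↥(Cfsg.SU 2 F q) ≃* ↥(U i)) (hgen : ⨆ i, U i = ⊤)
    (D : Fin n → Subgroup G) (hD : ∀ i, D i ≤ U i ∧ IsCyclic ↥(D i) ∧ Nat.card ↥(D i) = q + 1)
    (h1 : ∀ i j : Fin n, (i : ℕ) + 2 ≤ j → ∀ x ∈ U i, ∀ y ∈ U j, x * y = y * x)
    (h2 : ∀ i j : Fin n, (i : ℕ) + 1 = j → Nonempty (↥(U i ⊔ U j) ≃* ↥(Cfsg.SU 3 F q)))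
    (h3 : ∀ i j : Fin n, i ≠ j → ∀ x ∈ D i, ∀ y ∈ D j, x * y = y * x) :
    ∃ f : ↥(Cfsg.SU (n + 1) F q) →* G, Function.Surjective f := by
  classical
  have : Fact (2 < q) := ⟨by omega⟩
  obtain ⟨σ, hS⟩ := Cfsg.Agent.Phan.exists_fld (F := F) (show 3 < q by omega) hF
  let Uc : ℕ → Subgroup G := fun i => if h : i < n then U ⟨i, h⟩ else ⊥
  have hUc : ∀ i (h : i < n), Uc i = U ⟨i, h⟩ := fun i h => dif_pos h
  have hd : ∀ i, ∃ d : G, d ∈ D i ∧ d ≠ 1 ∧ d ^ (q + 1) = 1 := fun i => by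
    obtain ⟨-, -, hc⟩ := hD i
    have : Finite ↥(D i) := Nat.finite_of_card_ne_zero (by omega)
    have : Nontrivial ↥(D i) := Finite.one_lt_card_iff_nontrivial.1 (by omega)
    obtain ⟨x, hx⟩ := exists_ne (1 : ↥(D i))
    refine ⟨x, x.2, fun h => hx (Subtype.ext h), ?_⟩
    have h := congrArg (D i).subtype (pow_card_eq_one' (x := x))
    rwa [hc, map_pow, map_one] at h
  choose d hdD hd1 hdp using hd
  have hex : ∀ i, ∃ χ : Cfsg.Agent.Phan.SUn 3 F q →* G, i + 1 < n →
      Cfsg.Agent.Phan.Pair hS χ (Uc i) (Uc (i + 1)) := by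
    intro i
    by_cases h : i + 1 < n
    swap
    · exact ⟨1, fun h' => absurd h' h⟩
    set a : Fin n := ⟨i, by omega⟩
    set b : Fin n := ⟨i + 1, h⟩
    obtain ⟨e3⟩ := h2 a b rfl
    set ι : Cfsg.Agent.Phan.SUn 3 F q →* G := (U a ⊔ U b).subtype.comp e3.symm.toMonoidHom with hιd
    have hι : Function.Injective ι := (Subgroup.subtype_injective _).comp e3.symm.injective
    have hr : ι.range = U a ⊔ U b := by
      rw [hιd, ← MonoidHom.map_range, MonoidHom.range_eq_top.2 e3.symm.surjective, ← MonoidHom.range_eq_map,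
        Subgroup.range_subtype]
    have hmap : ∀ j, U j ≤ U a ⊔ U b → ((U j).comap ι).map ι = U j := fun j hj => by
      rw [Subgroup.map_comap_eq, hr, inf_eq_right.2 hj]
    let iso : ∀ j, U j ≤ U a ⊔ U b → (Cfsg.Agent.Phan.SUn 2 F q ≃* ↥((U j).comap ι)) := fun j hj =>
      (e j).trans ((MulEquiv.subgroupCongr (hmap j hj).symm).trans
        ((U j).comap ι |>.equivMapOfInjective ι hι).symm)
    have hgen' : (U a).comap ι ⊔ (U b).comap ι = ⊤ := by
      refine Subgroup.map_injective hι ?_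
      rw [Subgroup.map_sup, hmap a le_sup_left, hmap b le_sup_right, ← MonoidHom.range_eq_map, hr]
    obtain ⟨xa, hxa⟩ : d a ∈ ι.range := hr ▸ Subgroup.mem_sup_left ((hD a).1 (hdD a))
    obtain ⟨xb, hxb⟩ : d b ∈ ι.range := hr ▸ Subgroup.mem_sup_right ((hD b).1 (hdD b))
    obtain ⟨f, hf⟩ := Cfsg.Agent.Phan.exists_pair_of_tori hS hι (iso a le_sup_left) (iso b le_sup_right) hgen'
      (dx := xa) (dy := xb) (show ι xa ∈ U a by rw [hxa]; exact (hD a).1 (hdD a))
      (show ι xb ∈ U b by rw [hxb]; exact (hD b).1 (hdD b))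
      (fun h' => hd1 a (by rw [← hxa, h', map_one])) (fun h' => hd1 b (by rw [← hxb, h', map_one]))
      (hι (by rw [map_pow, hxa, hdp, map_one])) (hι (by rw [map_pow, hxb, hdp, map_one]))
      (hι (by rw [map_mul, map_mul, hxa, hxb]
              exact h3 a b (Fin.ne_of_val_ne (by simp [a, b])) _ (hdD a) _ (hdD b)))
    refine ⟨f, fun _ => ?_⟩
    rw [hUc i (by omega), hUc (i + 1) h]
    rwa [hmap a le_sup_left, hmap b le_sup_right] at hf
  choose χ hχ using hex
  obtain ⟨f, hf⟩ := Cfsg.Agent.Phan.exists_surjection hS (show 3 < q by omega) (n := n) (Uc := Uc) hn hχ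
    (fun i j hij hj x hx y hy => h1 ⟨i, by omega⟩ ⟨j, hj⟩ hij x (hUc i (by omega) ▸ hx) y (hUc j hj ▸ hy))
  refine ⟨f, MonoidHom.range_eq_top.1 (eq_top_iff.2 ?_)⟩
  rw [← hgen]
  exact iSup_le fun i => hUc i i.isLt ▸ hf i i.isLt

end Cfsg.Agent.S3708
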