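import Cfsg.Statements.S3709
import Cfsg.Agent.Phan.Chain

set_option autoImplicit false
open Cfsg

namespace Cfsg.Agent.S3709

/-- Recognition of unitary groups from a weak Phan system. Let F be a finite field with q² elements, q > 3, and n ≥ 3. Let G be a group with subgroups U_0, …, U_{n−1}, each isomorphic to SU(2, q²), and, for each pair of consecutive indices, a subgroup V_{i,i+1} in which U_i and U_{i+1} form a standard pair (some isomorphism from SU(3, q²), or from its central quotient PSU(3, q²), onto V_{i,i+1} carries the two block-diagonal SU(2, q²) subgroups, or their images, onto U_i and U_{i+1}). Suppose that U_i and U_j commute elementwise whenever the indices differ by at least 2, and that G is generated by the U_i together with the V_{i,i+1}. Then G is a homomorphic image of SU(n+1, q²). (G is not assumed finite.) -/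
theorem result {G : Type*} [Group G] (n : ℕ) (hn : 3 ≤ n)
    (F : Type*) [Field F] [Fintype F] (q : ℕ) (hq : 3 < q) (hF : Fintype.card F = q ^ 2)
    (U : Fin n → Subgroup G) (e : ∀ i, ↥(Cfsg.SU 2 F q) ≃* ↥(U i))
    (V : Fin n → Fin n → Subgroup G)
    (h1 : ∀ i j : Fin n, (i : ℕ) + 2 ≤ j → ∀ x ∈ U i, ∀ y ∈ U j, x * y = y * x)
    (h2 : ∀ i j : Fin n, (i : ℕ) + 1 = j → Cfsg.IsStandardUnitaryPair (V i j) (U i) (U j) F q)
    (hgen : (⨆ i, U i) ⊔ (⨆ (i : Fin n) (j : Fin n) (_ : (i : ℕ) + 1 = j), V i j) = ⊤) :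
    ∃ f : ↥(Cfsg.SU (n + 1) F q) →* G, Function.Surjective f := by
  classical
  have : Fact (2 < q) := ⟨by omega⟩
  obtain ⟨σ, hS⟩ := Cfsg.Agent.Phan.exists_fld hq hF
  let Uc : ℕ → Subgroup G := fun i => if h : i < n then U ⟨i, h⟩ else ⊥
  have hUc : ∀ i (h : i < n), Uc i = U ⟨i, h⟩ := fun i h => dif_pos h
  have hex : ∀ i, ∃ χ : Cfsg.Agent.Phan.SUn 3 F q →* G, ∀ h : i + 1 < n,
      Cfsg.Agent.Phan.Pair hS χ (Uc i) (Uc (i + 1)) ∧ χ.range = V ⟨i, by omega⟩ ⟨i + 1, h⟩ := by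
    intro i
    by_cases h : i + 1 < n
    · obtain ⟨χ, h', hr⟩ := Cfsg.Agent.Phan.exists_pair hS (h2 ⟨i, by omega⟩ ⟨i + 1, h⟩ rfl)
      refine ⟨χ, fun _ => ⟨?_, hr⟩⟩
      rw [hUc i (by omega), hUc (i + 1) h]
      exact h'
    · exact ⟨1, fun h' => absurd h' h⟩
  choose χ hχ using hex
  obtain ⟨f, hf⟩ := Cfsg.Agent.Phan.exists_surjection hS (show 3 < q by omega) (n := n) (Uc := Uc) (by omega) (fun i h => (hχ i h).1)
    (fun i j hij hj x hx y hy => h1 ⟨i, by omega⟩ ⟨j, hj⟩ hij x (hUc i (by omega) ▸ hx) y (hUc j hj ▸ hy))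
  refine ⟨f, MonoidHom.range_eq_top.1 (eq_top_iff.2 ?_)⟩
  rw [← hgen]
  refine sup_le (iSup_le fun i => hUc i i.isLt ▸ hf i i.isLt) (iSup_le fun i => iSup₂_le fun j hij => ?_)
  have hj : (i : ℕ) + 1 < n := hij ▸ j.isLt
  rw [show j = ⟨(i : ℕ) + 1, hj⟩ from Fin.ext hij.symm, ← (hχ i hj).2]
  exact ((hχ i hj).1.range_le hS).trans (sup_le (hf i i.isLt) (hf _ hj))

end Cfsg.Agent.S3709
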