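import Cfsg.Statements.S3710
import Cfsg.Agent.Phan.Lift

set_option autoImplicit false
open Cfsg

namespace Cfsg.Agent.S3710

/-- Recognition of unitary groups over the field with 9 elements from a weak Phan system. Let F be a field with 9 elements and n ≥ 4. Let G be a group with subgroups U_0, …, U_{n−1}, each isomorphic to SU(2, 9), and, for consecutive indices, subgroups V_{i,i+1} in which U_i and U_{i+1} form a standard pair (via an isomorphism from SU(3, 9) or PSU(3, 9) carrying the block-diagonal subgroups, or their images, onto U_i and U_{i+1}); suppose U_i and U_j commute elementwise whenever the indices differ by at least 2, that G is generated by the U_i and the V_{i,i+1}, and moreover that for each i the subgroup generated by V_{i,i+1} and V_{i+1,i+2} is a homomorphic image of SU(4, 9). Then G is a homomorphic image of SU(n+1, 9). (G is not assumed finite.) -/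
theorem result {G : Type*} [Group G] (n : ℕ) (hn : 4 ≤ n)
    (F : Type*) [Field F] [Fintype F] (hF : Fintype.card F = 9)
    (U : Fin n → Subgroup G) (e : ∀ i, ↥(Cfsg.SU 2 F 3) ≃* ↥(U i))
    (V : Fin n → Fin n → Subgroup G)
    (h1 : ∀ i j : Fin n, (i : ℕ) + 2 ≤ j → ∀ x ∈ U i, ∀ y ∈ U j, x * y = y * x)
    (h2 : ∀ i j : Fin n, (i : ℕ) + 1 = j → Cfsg.IsStandardUnitaryPair (V i j) (U i) (U j) F 3)
    (hgen : (⨆ i, U i) ⊔ (⨆ (i : Fin n) (j : Fin n) (_ : (i : ℕ) + 1 = j), V i j) = ⊤)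
    (h4 : ∀ i j k : Fin n, (i : ℕ) + 1 = j → (j : ℕ) + 1 = k →
      ∃ g : ↥(Cfsg.SU 4 F 3) →* ↥(V i j ⊔ V j k), Function.Surjective g) :
    ∃ f : ↥(Cfsg.SU (n + 1) F 3) →* G, Function.Surjective f := by
  classical
  obtain ⟨σ, hS⟩ := Cfsg.Agent.Phan.exists_fld_two (F := F) (q := 3) (by norm_num) (by rw [hF]; norm_num)
  have : CharP F 3 := by
    obtain ⟨p, hp⟩ := CharP.exists F
    obtain ⟨k, hpr, hk⟩ := FiniteField.card F p
    have hp3 : p = 3 := by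
      refine (Nat.prime_dvd_prime_iff_eq hpr Nat.prime_three).1 (hpr.dvd_of_dvd_pow (n := 2) ?_)
      rw [show (3 : ℕ) ^ 2 = p ^ (k : ℕ) by rw [← hk, hF]; norm_num]
      exact dvd_pow_self p k.ne_zero
    exact hp3 ▸ hp
  let Uc : ℕ → Subgroup G := fun i => if h : i < n then U ⟨i, h⟩ else ⊥
  have hUc : ∀ i (h : i < n), Uc i = U ⟨i, h⟩ := fun i h => dif_pos h
  have hex : ∀ i, ∃ χ : Cfsg.Agent.Phan.SUn 3 F 3 →* G, ∀ h : i + 1 < n,
      Cfsg.Agent.Phan.Pair hS χ (Uc i) (Uc (i + 1)) ∧ χ.range = V ⟨i, by omega⟩ ⟨i + 1, h⟩ := by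
    intro i
    by_cases h : i + 1 < n
    swap
    · exact ⟨1, fun h' => absurd h' h⟩
    obtain ⟨f, hf, hr⟩ := Cfsg.Agent.Phan.exists_pair hS (h2 ⟨i, by omega⟩ ⟨i + 1, h⟩ rfl)
    exact ⟨f, fun _ => ⟨by rw [hUc i (by omega), hUc (i + 1) h]; exact hf, hr⟩⟩
  choose χ hχ using hex
  have hc : ∀ i j, i + 2 ≤ j → j < n → ∀ x ∈ Uc i, ∀ y ∈ Uc j, x * y = y * x := fun i j hij hj x hx y hy =>
    h1 ⟨i, by omega⟩ ⟨j, hj⟩ hij x (hUc i (by omega) ▸ hx) y (hUc j hj ▸ hy)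
  obtain ⟨ψ, hψ, hco⟩ := Cfsg.Agent.Phan.exists_coherent hS (fun i h => (hχ i h).1) hc
  have hV : ∀ i j : Fin n, (i : ℕ) + 1 = j → Uc i ≤ V i j ∧ Uc j ≤ V i j ∧ V i j ≤ Uc i ⊔ Uc j := by
    intro i j hij
    have hlt : (i : ℕ) + 1 < n := by omega
    obtain ⟨hp, hr⟩ := hχ i hlt
    rw [show j = ⟨(i : ℕ) + 1, hlt⟩ from Fin.ext hij.symm]
    rw [show (⟨(i : ℕ), by omega⟩ : Fin n) = i from rfl] at hr
    refine ⟨?_, ?_, hr ▸ hp.range_le⟩
    · rw [← hr, ← hp.left]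
      rintro _ ⟨x, rfl⟩; exact ⟨_, rfl⟩
    · rw [← hr, ← hp.right]
      rintro _ ⟨x, rfl⟩; exact ⟨_, rfl⟩
  have hfour : ∀ i, i + 2 < n → ∃ Φ : Cfsg.Agent.Phan.SUn 4 F 3 →* G,
      Φ.comp (Cfsg.Agent.Phan.e4 hS 0) = (ψ i).comp (Cfsg.Agent.Phan.e01 hS) ∧
      Φ.comp (Cfsg.Agent.Phan.e4 hS 1) = (ψ i).comp (Cfsg.Agent.Phan.e12 hS) ∧
      Φ.comp (Cfsg.Agent.Phan.e4 hS 2) = (ψ (i + 1)).comp (Cfsg.Agent.Phan.e12 hS) := by
    intro i hi
    let a : Fin n := ⟨i, by omega⟩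
    let b : Fin n := ⟨i + 1, by omega⟩
    let c : Fin n := ⟨i + 2, hi⟩
    obtain ⟨g0, hg0⟩ := h4 a b c rfl rfl
    set g := (V a b ⊔ V b c).subtype.comp g0
    have hgr : g.range = V a b ⊔ V b c := by
      rw [← MonoidHom.map_range, MonoidHom.range_eq_top.2 hg0, ← MonoidHom.range_eq_map, Subgroup.range_subtype]
    obtain ⟨va, vb, -⟩ := hV a b rfl
    obtain ⟨-, vc, -⟩ := hV b c rfl
    have p0 := hψ i (by omega)
    have p1 := hψ (i + 1) (by omega)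
    have hco' := hco i hi
    let φ : Fin 3 → Cfsg.Agent.Phan.SUn 2 F 3 →* G := ![(ψ i).comp (Cfsg.Agent.Phan.e01 hS),
      (ψ i).comp (Cfsg.Agent.Phan.e12 hS), (ψ (i + 1)).comp (Cfsg.Agent.Phan.e12 hS)]
    have L : Cfsg.Agent.Phan.Lifting hS g φ := by
      refine ⟨fun k => ?_, fun k x => ?_, fun k l hkl => ?_, fun x y => ?_⟩
      · fin_cases k
        exacts [p0.injL, p0.injR, p1.injR]
      · rw [hgr]
        fin_cases k
        · exact Subgroup.mem_sup_left (va (p0.left.le ⟨x, rfl⟩))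
        · exact Subgroup.mem_sup_left (vb (p0.right.le ⟨x, rfl⟩))
        · exact Subgroup.mem_sup_right (vc (p1.right.le ⟨x, rfl⟩))
      · have e : ∀ (ψ : Cfsg.Agent.Phan.SUn 3 F 3 →* G),
            Cfsg.Agent.Phan.Rel hS (ψ.comp (Cfsg.Agent.Phan.e01 hS)) (ψ.comp (Cfsg.Agent.Phan.e12 hS)) ∧
            Cfsg.Agent.Phan.Rel hS (ψ.comp (Cfsg.Agent.Phan.e12 hS)) (ψ.comp (Cfsg.Agent.Phan.e01 hS)) := fun ψ =>
          ⟨fun η r s hη h h' => by
            simp only [MonoidHom.comp_apply, ← map_mul]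
            rw [Cfsg.Agent.Phan.e01_conj hS η hη r s h h'],
           fun η r s hη h h' => by
            simp only [MonoidHom.comp_apply, ← map_mul]
            rw [Cfsg.Agent.Phan.e12_conj hS η hη r s h h']⟩
        have e' := e (ψ (i + 1))
        rw [hco'] at e'
        fin_cases k <;> fin_cases l <;> simp at hkl
        exacts [(e (ψ i)).1, (e (ψ i)).2, e'.1, e'.2]
      · exact hc i (i + 2) le_rfl hi _ (p0.left.le ⟨x, rfl⟩) _ (p1.right.le ⟨y, rfl⟩)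
    obtain ⟨Φ, hΦ⟩ := L.exists_hom hS
    exact ⟨Φ, hΦ 0, hΦ 1, hΦ 2⟩
  obtain ⟨f, hf⟩ := Cfsg.Agent.Phan.surjection_of_coherent hS hψ (by omega) hc hco (Or.inr hfour)
  refine ⟨f, MonoidHom.range_eq_top.1 (eq_top_iff.2 ?_)⟩
  rw [← hgen]
  refine sup_le (iSup_le fun i => hUc i i.isLt ▸ hf i i.isLt) (iSup_le fun i => iSup_le fun j => iSup_le fun hij => ?_)
  exact (hV i j hij).2.2.trans (sup_le (hf i i.isLt) (hf j j.isLt))

end Cfsg.Agent.S3710
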