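import Cfsg.Statements.S3711
import Cfsg.Agent.Phan.TwoChain

set_option autoImplicit false
open Cfsg

namespace Cfsg.Agent.S3711

/-- Recognition of unitary groups over the field with 4 elements from a weak Phan system. Let F be a field with 4 elements and n ≥ 4. Let G be a group with subgroups U_0, …, U_{n−1}, each isomorphic to SU(2, 4), and, for consecutive indices, subgroups V_{i,i+1} in which U_i and U_{i+1} form a standard pair (via an isomorphism from SU(3, 4) or PSU(3, 4) carrying the block-diagonal subgroups, or their images, onto U_i and U_{i+1}); suppose U_i and U_j commute elementwise whenever the indices differ by at least 2, that G is generated by the U_i and the V_{i,i+1}, that for each i the subgroup generated by V_{i,i+1} and V_{i+1,i+2} is a homomorphic image of SU(4, 4), that U_i and V_{j,j+1} commute elementwise whenever i ≤ j − 2 or i ≥ j + 3, and that V_{i,i+1} and V_{k,k+1} commute elementwise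 whenever k ≥ i + 3. Then G is a homomorphic image of SU(n+1, 4). (G is not assumed finite.) -/
theorem result {G : Type*} [Group G] (n : ℕ) (hn : 4 ≤ n)
    (F : Type*) [Field F] [Fintype F] (hF : Fintype.card F = 4)
    (U : Fin n → Subgroup G) (e : ∀ i, ↥(Cfsg.SU 2 F 2) ≃* ↥(U i))
    (V : Fin n → Fin n → Subgroup G)
    (h1 : ∀ i j : Fin n, (i : ℕ) + 2 ≤ j → ∀ x ∈ U i, ∀ y ∈ U j, x * y = y * x)
    (h2 : ∀ i j : Fin n, (i : ℕ) + 1 = j → Cfsg.IsStandardUnitaryPair (V i j) (U i) (U j) F 2)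
    (hgen : (⨆ i, U i) ⊔ (⨆ (i : Fin n) (j : Fin n) (_ : (i : ℕ) + 1 = j), V i j) = ⊤)
    (h4 : ∀ i j k : Fin n, (i : ℕ) + 1 = j → (j : ℕ) + 1 = k →
      ∃ g : ↥(Cfsg.SU 4 F 2) →* ↥(V i j ⊔ V j k), Function.Surjective g)
    (h5 : ∀ i j k : Fin n, (j : ℕ) + 1 = k → ((i : ℕ) + 2 ≤ j ∨ (k : ℕ) + 2 ≤ i) →
      ∀ x ∈ U i, ∀ y ∈ V j k, x * y = y * x)
    (h6 : ∀ i j k l : Fin n, (i : ℕ) + 1 = j → (k : ℕ) + 1 = l → (j : ℕ) + 2 ≤ k →
      ∀ x ∈ V i j, ∀ y ∈ V k l, x * y = y * x) :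
    ∃ f : ↥(Cfsg.SU (n + 1) F 2) →* G, Function.Surjective f := by
  classical
  obtain ⟨σ, hS⟩ := Cfsg.Agent.Phan.exists_fld_two (F := F) (show 1 < 2 by norm_num) (by rw [hF]; norm_num)
  have hchar : CharP F 2 := by
    obtain ⟨p, hp⟩ := CharP.exists F
    have := hp
    obtain ⟨m, hprime, hm⟩ := FiniteField.card F p
    rw [hF] at hm
    have hdvd : p ∣ 2 ^ 2 := by rw [show (2 : ℕ) ^ 2 = 4 by norm_num, hm]; exact dvd_pow_self p (PNat.ne_zero m)
    rw [(Nat.prime_dvd_prime_iff_eq hprime Nat.prime_two).1 (hprime.dvd_of_dvd_pow hdvd)] at hp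
    exact hp
  let Uc : ℕ → Subgroup G := fun i => if h : i < n then U ⟨i, h⟩ else ⊥
  have hUc : ∀ i (h : i < n), Uc i = U ⟨i, h⟩ := fun i h => dif_pos h
  have hex : ∀ i, ∃ χ : Cfsg.Agent.Phan.SUn 3 F 2 →* G, ∀ h : i + 1 < n,
      Cfsg.Agent.Phan.Pair hS χ (Uc i) (Uc (i + 1)) ∧ χ.range = V ⟨i, by omega⟩ ⟨i + 1, h⟩ := by
    intro i
    by_cases h : i + 1 < n
    · obtain ⟨f, hf, hr⟩ := Cfsg.Agent.Phan.exists_pair hS (h2 ⟨i, by omega⟩ ⟨i + 1, h⟩ rfl)
      exact ⟨f, fun _ => ⟨by rw [hUc i (by omega), hUc (i + 1) h]; exact hf, hr⟩⟩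
    · exact ⟨1, fun h' => absurd h' h⟩
  choose χ hχ using hex
  obtain ⟨f, hf⟩ := Cfsg.Agent.Phan.Two.exists_surjection_two hS hn (fun i h => (hχ i h).1)
    (fun i j hij hj x hx y hy => h1 ⟨i, by omega⟩ ⟨j, hj⟩ hij x (hUc i (by omega) ▸ hx) y (hUc j hj ▸ hy))
    (fun i hi => by
      obtain ⟨g, hg⟩ := h4 ⟨i, by omega⟩ ⟨i + 1, by omega⟩ ⟨i + 2, hi⟩ rfl rfl
      refine ⟨(Subgroup.subtype _).comp g, ?_⟩
      rw [MonoidHom.range_comp, MonoidHom.range_eq_top.2 hg, ← MonoidHom.range_eq_map, Subgroup.range_subtype,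
        (hχ i (by omega)).2, (hχ (i + 1) hi).2]
      exact ⟨le_sup_left, le_sup_right⟩)
    (fun i j hij hj x hx y hy => h5 ⟨i, by omega⟩ ⟨j, by omega⟩ ⟨j + 1, hj⟩ rfl (Or.inl hij) x
      (hUc i (by omega) ▸ hx) y ((hχ j hj).2 ▸ hy))
    (fun i j hij hj x hx y hy => h6 ⟨i, by omega⟩ ⟨i + 1, by omega⟩ ⟨j, by omega⟩ ⟨j + 1, hj⟩ rfl rfl
      (by show i + 1 + 2 ≤ j; omega) x ((hχ i (by omega)).2 ▸ hx) y ((hχ j hj).2 ▸ hy))
  refine ⟨f, MonoidHom.range_eq_top.1 (eq_top_iff.2 ?_)⟩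
  rw [← hgen]
  refine sup_le (iSup_le fun i => ?_) (iSup_le fun i => iSup_le fun j => iSup_le fun hij => ?_)
  · by_cases h : (i : ℕ) + 1 < n
    · have := (hf i h).2.1
      rwa [hUc i i.isLt] at this
    · have := (hf ((i : ℕ) - 1) (by omega)).2.2
      rw [show (i : ℕ) - 1 + 1 = i by omega, hUc i i.isLt] at this
      exact this
  · obtain ⟨j, hj⟩ := j
    simp only at hij
    subst hij
    have := (hf i hj).1
    rwa [(hχ i hj).2] at this

end Cfsg.Agent.S3711
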