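import Cfsg.Statements.S3713
import Cfsg.Agent.SpAmalgam.Induction

set_option autoImplicit false
open Cfsg

namespace Cfsg.Agent.S3713

/-- A presentation of the symplectic group as the universal completion of an amalgam of small subgroups. Let F be a field with more than two elements, n ≥ 2, and Sp the group of 2n × 2n matrices over F preserving the standard alternating form, acting on column vectors; write e_k, f_k for the standard basis vectors of the two halves (a hyperbolic basis). For each k let S_k be the subgroup of Sp fixing e_l and f_l for all l ≠ k (a copy of SL(2, F) on the plane of e_k, f_k), and for each i with i + 1 < n let M_i be the subgroup fixing every e_l and fixing f_l for all l other than i, i+1 (an abelian group isomorphic to the additive group of F³). Then Sp is the universal completion of the amalgam formed by the S_k, the M_i and the subgroups generated by two of them: for every group H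 and homomorphisms σ_k : S_k → H, μ_i : M_i → H such that for each pair of these subgroups some homomorphism on the subgroup they generate restricts to the given ones, there is exactly one homomorphism Sp → H restricting to every σ_k and μ_i. -/
theorem result
    (F : Type*) [Field F] (hF : ∃ a : F, a ≠ 0 ∧ a ≠ 1) (n : ℕ) (hn : 2 ≤ n)
    (S M : Fin n → Subgroup ↥(Matrix.symplecticGroup (Fin n) F))
    (hS : ∀ j : Fin n, S j = Subgroup.closure {A : ↥(Matrix.symplecticGroup (Fin n) F) | ∀ k : Fin n, k ≠ j →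
      ((A : ↥(Matrix.symplecticGroup (Fin n) F)) : Matrix (Fin n ⊕ Fin n) (Fin n ⊕ Fin n) F).mulVec (Pi.single (Sum.inl k) (1 : F)) = (Pi.single (Sum.inl k) (1 : F)) ∧ ((A : ↥(Matrix.symplecticGroup (Fin n) F)) : Matrix (Fin n ⊕ Fin n) (Fin n ⊕ Fin n) F).mulVec (Pi.single (Sum.inr k) (1 : F)) = (Pi.single (Sum.inr k) (1 : F))})
    (hM : ∀ i : Fin n, (i : ℕ) + 1 < n → M i = Subgroup.closure {A : ↥(Matrix.symplecticGroup (Fin n) F) |
      (∀ k : Fin n, ((A : ↥(Matrix.symplecticGroup (Fin n) F)) : Matrix (Fin n ⊕ Fin n) (Fin n ⊕ Fin n) F).mulVec (Pi.single (Sum.inl k) (1 : F)) = (Pi.single (Sum.inl k) (1 : F))) ∧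
        ∀ k : Fin n, (k : ℕ) ≠ i → (k : ℕ) ≠ (i : ℕ) + 1 → ((A : ↥(Matrix.symplecticGroup (Fin n) F)) : Matrix (Fin n ⊕ Fin n) (Fin n ⊕ Fin n) F).mulVec (Pi.single (Sum.inr k) (1 : F)) = (Pi.single (Sum.inr k) (1 : F))})
    {H : Type*} [Group H] (σ : ∀ j : Fin n, ↥(S j) →* H) (μ : ∀ i : Fin n, ↥(M i) →* H)
    (hSS : ∀ j l : Fin n, j ≠ l → ∃ Ψ : ↥(S j ⊔ S l) →* H,
      (∀ (g : ↥(Matrix.symplecticGroup (Fin n) F)) (hg : g ∈ S j), Ψ ⟨g, Subgroup.mem_sup_left hg⟩ = σ j ⟨g, hg⟩) ∧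
        (∀ (g : ↥(Matrix.symplecticGroup (Fin n) F)) (hg : g ∈ S l), Ψ ⟨g, Subgroup.mem_sup_right hg⟩ = σ l ⟨g, hg⟩))
    (hMM : ∀ i i' : Fin n, i ≠ i' → (i : ℕ) + 1 < n → (i' : ℕ) + 1 < n → ∃ Ψ : ↥(M i ⊔ M i') →* H,
      (∀ (g : ↥(Matrix.symplecticGroup (Fin n) F)) (hg : g ∈ M i), Ψ ⟨g, Subgroup.mem_sup_left hg⟩ = μ i ⟨g, hg⟩) ∧
        (∀ (g : ↥(Matrix.symplecticGroup (Fin n) F)) (hg : g ∈ M i'), Ψ ⟨g, Subgroup.mem_sup_right hg⟩ = μ i' ⟨g, hg⟩))
    (hMS : ∀ i j : Fin n, (i : ℕ) + 1 < n → ∃ Ψ : ↥(M i ⊔ S j) →* H,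
      (∀ (g : ↥(Matrix.symplecticGroup (Fin n) F)) (hg : g ∈ M i), Ψ ⟨g, Subgroup.mem_sup_left hg⟩ = μ i ⟨g, hg⟩) ∧
        (∀ (g : ↥(Matrix.symplecticGroup (Fin n) F)) (hg : g ∈ S j), Ψ ⟨g, Subgroup.mem_sup_right hg⟩ = σ j ⟨g, hg⟩)) :
    ∃! Φ : ↥(Matrix.symplecticGroup (Fin n) F) →* H,
      (∀ (j : Fin n) (g : ↥(Matrix.symplecticGroup (Fin n) F)) (hg : g ∈ S j), Φ g = σ j ⟨g, hg⟩) ∧
        (∀ (i : Fin n), (i : ℕ) + 1 < n → ∀ (g : ↥(Matrix.symplecticGroup (Fin n) F)) (hg : g ∈ M i), Φ g = μ i ⟨g, hg⟩) := by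
  classical
  open Cfsg.Agent.SpAmalgam in
  have hS' : ∀ j, S j = fixPairs fun l => l ≠ j := fun j =>
    (hS j).trans (Subgroup.closure_eq (fixPairs fun l => l ≠ j))
  open Cfsg.Agent.SpAmalgam in
  have hM' : ∀ i : Fin n, (i : ℕ) + 1 < n → M i = mGrp i := fun i hi =>
    (hM i hi).trans (Subgroup.closure_eq (mGrp i))
  let π : H × ↥(Matrix.symplecticGroup (Fin n) F) →* ↥(Matrix.symplecticGroup (Fin n) F) := MonoidHom.snd _ _
  let A : Fin n → Subgroup (H × ↥(Matrix.symplecticGroup (Fin n) F)) := fun j => ((σ j).prod (S j).subtype).range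
  let B : Fin n → Subgroup (H × ↥(Matrix.symplecticGroup (Fin n) F)) := fun i => ((μ i).prod (M i).subtype).range
  have free : ∀ (X Y : Subgroup ↥(Matrix.symplecticGroup (Fin n) F)) (a : ↥X →* H) (b : ↥Y →* H),
      (∃ Ψ : ↥(X ⊔ Y) →* H, (∀ g (hg : g ∈ X), Ψ ⟨g, Subgroup.mem_sup_left hg⟩ = a ⟨g, hg⟩) ∧
        ∀ g (hg : g ∈ Y), Ψ ⟨g, Subgroup.mem_sup_right hg⟩ = b ⟨g, hg⟩) →
      SpAmalgam.KerFree π ((a.prod X.subtype).range ⊔ (b.prod Y.subtype).range) := by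
    rintro X Y a b ⟨Ψ, h1, h2⟩ x hx hx1
    have hle : (a.prod X.subtype).range ⊔ (b.prod Y.subtype).range ≤ (Ψ.prod (X ⊔ Y).subtype).range := by
      refine sup_le ?_ ?_
      · rintro _ ⟨g, rfl⟩
        exact ⟨⟨g, Subgroup.mem_sup_left g.2⟩, Prod.ext (h1 g g.2) rfl⟩
      · rintro _ ⟨g, rfl⟩
        exact ⟨⟨g, Subgroup.mem_sup_right g.2⟩, Prod.ext (h2 g g.2) rfl⟩
    obtain ⟨g, rfl⟩ := hle hx
    have hg : g = 1 := Subtype.ext hx1
    rw [hg, map_one]
  have am : SpAmalgam.Amalgam π A B :=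
    { field := hF
      mapA := fun j => by
        rw [← hS' j, MonoidHom.map_range, show π.comp ((σ j).prod (S j).subtype) = (S j).subtype from rfl,
          Subgroup.range_subtype]
      mapB := fun i hi => by
        rw [← hM' i hi, MonoidHom.map_range, show π.comp ((μ i).prod (M i).subtype) = (M i).subtype from rfl,
          Subgroup.range_subtype]
      freeAA := fun j l h => free _ _ _ _ (hSS j l h)
      freeBB := fun i i' h hi hi' => free _ _ _ _ (hMM i i' h hi hi')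
      freeBA := fun i j hi => free _ _ _ _ (hMS i j hi) }
  obtain ⟨hinj, hmap⟩ := am.good_zero hn
  set W := SpAmalgam.lvl A B 0
  have hbij : Function.Bijective (π.comp W.subtype) := by
    refine ⟨(injective_iff_map_eq_one _).2 fun x hx => Subtype.ext (hinj x x.2 hx), fun g => ?_⟩
    obtain ⟨x, hx, hxg⟩ : g ∈ W.map π := hmap ▸ fun l hl => absurd hl (Nat.not_lt_zero _)
    exact ⟨⟨x, hx⟩, hxg⟩
  let e := MulEquiv.ofBijective (π.comp W.subtype) hbij
  let Φ : ↥(Matrix.symplecticGroup (Fin n) F) →* H :=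
    (MonoidHom.fst _ _).comp (W.subtype.comp e.symm.toMonoidHom)
  have key : ∀ x ∈ W, Φ x.2 = x.1 := fun x hx => by
    have h : e.symm x.2 = ⟨x, hx⟩ := (MulEquiv.symm_apply_eq e).2 rfl
    show (W.subtype (e.symm x.2)).1 = x.1
    rw [h]
    rfl
  refine ⟨Φ, ⟨fun j g hg => key (σ j ⟨g, hg⟩, g) (SpAmalgam.le_lvlA (Nat.zero_le _) ⟨⟨g, hg⟩, rfl⟩),
    fun i hi g hg => key (μ i ⟨g, hg⟩, g) (SpAmalgam.le_lvlB (Nat.zero_le _) hi ⟨⟨g, hg⟩, rfl⟩)⟩, ?_⟩
  rintro Ψ ⟨hΨS, hΨM⟩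
  refine MonoidHom.ext fun g => ?_
  obtain ⟨x, rfl⟩ : ∃ x : W, π.comp W.subtype x = g := hbij.2 g
  have hle : W ≤ (Ψ.comp π).eqLocus (MonoidHom.fst _ _) := by
    refine SpAmalgam.lvl_le (fun j _ => ?_) fun i _ hi => ?_
    · rintro _ ⟨g, rfl⟩; exact hΨS j g g.2
    · rintro _ ⟨g, rfl⟩; exact hΨM i hi g g.2
  exact (hle x.2).trans (key x x.2).symm

end Cfsg.Agent.S3713
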