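import Cfsg.Statements.S3716
import Cfsg.Agent.ThreeWreath.Main
import Cfsg.Agent.ThreeWreath.AutNine

set_option autoImplicit false
open Cfsg
open Cfsg.Agent

namespace Cfsg.Agent.S3716

/-- Let G be a finite group with an elementary abelian Sylow 3-subgroup M of order 9 which is self-centralizing (C_G(M) = M), let N = N_G(M), and suppose C_G(g) ≤ N for every nonidentity g ∈ M. If the Sylow 2-subgroups of N are dihedral of order 8, then G is not simple. -/
theorem result {G : Type*} [Group G] [Finite G] (M : Sylow 3 G) (hM9 : Nat.card ↥(M : Subgroup G) = 9)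
    (hMel : ∀ m ∈ (M : Subgroup G), m ^ 3 = 1)
    (hCM : Subgroup.centralizer ((M : Subgroup G) : Set G) = (M : Subgroup G))
    (N : Subgroup G) (hN : N = Subgroup.normalizer ((M : Subgroup G) : Set G))
    (hCg : ∀ g ∈ (M : Subgroup G), g ≠ 1 → Subgroup.centralizer ({g} : Set G) ≤ N)
    (hS : ∀ S : Sylow 2 ↥N, Nonempty (↥(S : Subgroup ↥N) ≃* DihedralGroup 4)) :
    ¬ IsSimpleGroup G := by
  classical
  intro hsimple
  have := Fintype.ofFinite G
  subst hN
  have hab : IsMulCommutative (M : Subgroup G) :=
    IsPGroup.isMulCommutative_of_card_eq_prime_sq (p := 3) (by rw [hM9]; norm_num)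
  have hcomm : ∀ x ∈ (M : Subgroup G), ∀ y ∈ (M : Subgroup G), x * y = y * x :=
    fun x hx y hy => congrArg Subtype.val (hab.is_comm.comm ⟨x, hx⟩ ⟨y, hy⟩)
  set N := Subgroup.normalizer ((M : Subgroup G) : Set G)
  obtain ⟨S⟩ : Nonempty (Sylow 2 ↥N) := inferInstance
  obtain ⟨e⟩ := hS S
  have hS8 : Nat.card (S : Subgroup ↥N) = 8 := by
    rw [Nat.card_congr e.toEquiv, DihedralGroup.nat_card]
  -- the normalizer has order seventy-two
  have hN72 : Nat.card N = 72 := by
    have hd : Nat.card N ∣ 9 * 48 := by
      have h1 : (M : Subgroup G).relIndex N ∣ 48 := by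
        let f := N.normalizerMonoidHom
        let g : ↥N →* MulAut (M : Subgroup G) :=
          (M : Subgroup G).normalizerMonoidHom
        have hk : g.ker = (M : Subgroup G).subgroupOf N := by
          rw [Subgroup.normalizerMonoidHom_ker, hCM]
        have h2 : (M : Subgroup G).relIndex N = Nat.card g.range := by
          rw [Subgroup.relIndex, ← hk, Subgroup.index_ker]
        rw [h2]
        refine (Subgroup.card_subgroup_dvd_card g.range).trans ?_
        have h3 := ThreeWreath.card_mulAut_nine (M : Subgroup G) hM9 (fun m hm => hMel m hm)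
        exact h3
      rw [← Subgroup.relIndex_bot_left N, ← Subgroup.relIndex_mul_relIndex ⊥ (M : Subgroup G) N bot_le
        Subgroup.le_normalizer, Subgroup.relIndex_bot_left, hM9]
      exact Nat.mul_dvd_mul_left 9 h1
    have h8 : 8 ∣ Nat.card N := hS8 ▸ Subgroup.card_subgroup_dvd_card (S : Subgroup ↥N)
    have h9 : 9 ∣ Nat.card N := hM9 ▸ Subgroup.card_dvd_of_le Subgroup.le_normalizer
    have h16 : ¬ 16 ∣ Nat.card N := fun h => by
      obtain ⟨m, hm⟩ := h
      have h1 := S.not_dvd_index
      have h2 := (S : Subgroup ↥N).card_mul_index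
      rw [hS8] at h2
      exact h1 ⟨m, by omega⟩
    have h27 : ¬ 27 ∣ Nat.card N := fun h => by
      have h1 := M.not_dvd_index
      have h2 := (M : Subgroup G).card_mul_index
      obtain ⟨m, hm⟩ := h.trans (Subgroup.card_subgroup_dvd_card N)
      rw [hM9] at h2
      exact h1 ⟨m, by omega⟩
    obtain ⟨m, hm⟩ : 72 ∣ Nat.card N := Nat.Coprime.mul_dvd_of_dvd_of_dvd (by norm_num : Nat.Coprime 8 9) h8 h9
    rw [hm] at hd h16 h27 ⊢
    have : m ∣ 6 := Nat.dvd_of_mul_dvd_mul_left (by norm_num : 0 < 72) hd
    have hm6 := Nat.le_of_dvd (by norm_num) this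
    interval_cases m <;> omega
  let t : G := ((e.symm (DihedralGroup.sr 0) : ↥N) : G)
  let w : G := ((e.symm (DihedralGroup.sr 1) : ↥N) : G)
  let ι : DihedralGroup 4 →* G :=
    (N.subtype.comp (S : Subgroup ↥N).subtype).comp e.symm.toMonoidHom
  have hι : Function.Injective ι :=
    (N.subtype_injective.comp (S : Subgroup ↥N).subtype_injective).comp e.symm.injective
  have ht : ι (DihedralGroup.sr 0) = t := rfl
  have hw : ι (DihedralGroup.sr 1) = w := rfl
  have gens : ThreeWreath.Gens M t w :=
    { comm := hcomm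
      cube := hMel
      card := hM9
      cent := hCM
      loc := hCg
      card_N := hN72
      tN := (e.symm (DihedralGroup.sr 0) : ↥N).2
      wN := (e.symm (DihedralGroup.sr 1) : ↥N).2
      t_sq := by rw [← ht, ← map_mul]; exact (congrArg ι (by decide)).trans ι.map_one
      w_sq := by rw [← hw, ← map_mul]; exact (congrArg ι (by decide)).trans ι.map_one
      four := by
        simp only [← ht, ← hw, ← map_mul]; exact (congrArg ι (by decide)).trans ι.map_one
      two := by
        simp only [← ht, ← hw, ← map_mul]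
        exact fun h => absurd (hι (h.trans ι.map_one.symm)) (by decide) }
  exact gens.not_simple

end Cfsg.Agent.S3716
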