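import Cfsg.Statements.S3717
import Cfsg.Agent.M11ThreeLocal.LargeThree
import Cfsg.Agent.M11ThreeLocal.LargeFinal
import Cfsg.Agent.M11ThreeLocal.OneGl
import Cfsg.Agent.M11ThreeLocal.TwoFour
import Cfsg.Agent.M11ThreeLocal.TypeThree

set_option autoImplicit false
open Cfsg

namespace Cfsg.Agent.S3717

/-- Let G be a finite non-abelian simple group with an elementary abelian Sylow 3-subgroup M of order 9 which is self-centralizing (C_G(M) = M), let N = N_G(M), and suppose C_G(g) ≤ N for every nonidentity g ∈ M. If the Sylow 2-subgroups of N are semidihedral of order 16 (order 16, generated by a of order 8 and an involution b with b a b⁻¹ = a³), then G is isomorphic to the Mathieu group of degree 11. -/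
theorem result {G : Type*} [Group G] [Finite G] [IsSimpleGroup G] (hG : ¬ IsMulCommutative G) (M : Sylow 3 G) (hM9 : Nat.card ↥(M : Subgroup G) = 9)
    (hMel : ∀ m ∈ (M : Subgroup G), m ^ 3 = 1)
    (hCM : Subgroup.centralizer ((M : Subgroup G) : Set G) = (M : Subgroup G))
    (N : Subgroup G) (hN : N = Subgroup.normalizer ((M : Subgroup G) : Set G))
    (hCg : ∀ g ∈ (M : Subgroup G), g ≠ 1 → Subgroup.centralizer ({g} : Set G) ≤ N)
    (hS : ∀ S : Sylow 2 ↥N, Nat.card ↥(S : Subgroup ↥N) = 16 ∧
      ∃ a ∈ (S : Subgroup ↥N), ∃ b ∈ (S : Subgroup ↥N), orderOf a = 8 ∧ orderOf b = 2 ∧ b * a * b⁻¹ = a ^ 3) :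
    Cfsg.Spor.IsoM11 G := by
  subst hN
  obtain ⟨e, h, s, t, z, a, H⟩ := M11ThreeLocal.exists_cfg M hM9 hMel hCM hCg hS
  rcases H.local_cases with ⟨R, O, hT⟩ | ⟨R, hT⟩ | hT
  · obtain ⟨k, hk, -, -⟩ := H.sizes hT.rad
    match k with
    | 0 => exact (H.not_I_zero hG hT (by simpa using hk)).elim
    | 1 =>
      by_cases hzs : IsConj s z
      · exact H.recognise (H.one_gl hT (by simpa using hk) hzs)
      · exact (H.not_I_one hG hT (by simpa using hk) hzs).elim
    | j + 2 =>
      have h32 : 32 ≤ Nat.card R := by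
        rw [hk, pow_add]
        have := Nat.one_le_pow j 4 (by norm_num)
        omega
      rcases H.large_cases hT h32 with h | h
      · exact (H.not_I_two hT h).elim
      · exact (H.not_I_three hT h).elim
  · rcases H.II_card_R hT with h | h
    · exact (H.not_II_zero hG hT h).elim
    · exact (H.not_II_four hT h).elim
  · exact (H.not_TIII hG hT).elim

end Cfsg.Agent.S3717
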