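import Cfsg.Statements.S3732
import Cfsg.Agent.ProjPlane.Coord

set_option autoImplicit false
open Cfsg

namespace Cfsg.Agent.S3732

open Configuration Cfsg.Agent.ProjPlane

/-- Ostrom–Wagner for planes in any universe, by transport to small types. -/
theorem transport {P' L' : Type} [Membership P' L'] [ProjectivePlane P' L'] [Finite P'] [Finite L']
    (h2t : ∀ p₁ p₂ q₁ q₂ : P', p₁ ≠ p₂ → q₁ ≠ q₂ → ∃ (σ : Equiv.Perm P') (τ : Equiv.Perm L'),
      (∀ (p : P') (l : L'), σ p ∈ τ l ↔ p ∈ l) ∧ σ p₁ = q₁ ∧ σ p₂ = q₂) :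
    ∃ (F : Type) (_ : Field F) (_ : Finite F) (φ : P' ≃ Projectivization F (Fin 3 → F)),
      (∀ m : L', ∃ W : Submodule F (Fin 3 → F), Module.finrank F W = 2 ∧
          ∀ p : P', p ∈ m ↔ (φ p).submodule ≤ W) ∧
      (∀ W : Submodule F (Fin 3 → F), Module.finrank F W = 2 →
          ∃ m : L', ∀ p : P', p ∈ m ↔ (φ p).submodule ≤ W) := by
  let G : Subgroup (Equiv.Perm P' × Equiv.Perm L') :=
    { carrier := {g | ∀ (p : P') (l : L'), g.1 p ∈ g.2 l ↔ p ∈ l}
      one_mem' := fun _ _ => Iff.rfl
      mul_mem' := fun {a b} ha hb p l => (ha (b.1 p) (b.2 l)).trans (hb p l)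
      inv_mem' := fun {a} ha p l => by
        have h := (ha (a.1⁻¹ p) (a.2⁻¹ l)).symm
        simpa using h }
  letI : MulAction G P' :=
    { smul := fun g p => g.1.1 p
      one_smul := fun _ => rfl
      mul_smul := fun _ _ _ => rfl }
  letI : MulAction G L' :=
    { smul := fun g l => g.1.2 l
      one_smul := fun _ => rfl
      mul_smul := fun _ _ _ => rfl }
  haveI : IsColl G P' L' := ⟨fun g p l => g.2 p l⟩
  haveI : Finite G := inferInstance
  haveI : FaithfulSMul G P' := ⟨fun {g h} e => by
    refine inv_mul_eq_one.1 (Subtype.ext (Prod.ext (Equiv.ext fun p => ?_) (Equiv.ext fun l => ?_)))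
    · show (g⁻¹ * h) • p = p
      rw [mul_smul, ← e p, inv_smul_smul]
    · exact fix_lines (g := g⁻¹ * h) (fun p : P' => by rw [mul_smul, ← e p, inv_smul_smul]) l⟩
  refine ostrom_wagner (G := G) fun a b c d hab hcd => ?_
  obtain ⟨σ, τ, hinc, ha, hb⟩ := h2t a b c d hab hcd
  exact ⟨⟨(σ, τ), hinc⟩, ha, hb⟩

/-- The Ostrom–Wagner Theorem. Let Π be a finite projective plane (points P, lines L) whose collineation group is 2-transitive on points: for any two ordered pairs of distinct points there is a permutation of the points, together with a compatible permutation of the lines preserving incidence, carrying the first pair to the second. Then Π is Desarguesian: there is a finite field F and a bijection from P onto the points of the projective plane over F (the 1-dimensional subspaces of F³) under which the lines of Π correspond exactly to the 2-dimensional subspaces of F³. -/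
theorem result
    {P L : Type*} [Membership P L] [Fintype P] [Fintype L] [Configuration.ProjectivePlane P L]
    (h2t : ∀ p₁ p₂ q₁ q₂ : P, p₁ ≠ p₂ → q₁ ≠ q₂ →
      ∃ (σ : Equiv.Perm P) (τ : Equiv.Perm L), (∀ (p : P) (l : L), σ p ∈ τ l ↔ p ∈ l) ∧ σ p₁ = q₁ ∧ σ p₂ = q₂) :
    ∃ (F : Type) (_ : Field F) (_ : Fintype F) (φ : P ≃ Projectivization F (Fin 3 → F)),
      (∀ l : L, ∃ W : Submodule F (Fin 3 → F), Module.finrank F W = 2 ∧
          ∀ p : P, p ∈ l ↔ (φ p).submodule ≤ W) ∧
      (∀ W : Submodule F (Fin 3 → F), Module.finrank F W = 2 →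
          ∃ l : L, ∀ p : P, p ∈ l ↔ (φ p).submodule ≤ W) := by
  let eP := Fintype.equivFin P
  let eL := Fintype.equivFin L
  letI : Membership (Fin (Fintype.card P)) (Fin (Fintype.card L)) :=
    ⟨fun l p => eP.symm p ∈ eL.symm l⟩
  have hmem : ∀ (p : P) (l : L), eP p ∈ eL l ↔ p ∈ l := fun p l => by
    show eP.symm (eP p) ∈ eL.symm (eL l) ↔ _
    rw [eP.symm_apply_apply, eL.symm_apply_apply]
  letI : Configuration.ProjectivePlane (Fin (Fintype.card P)) (Fin (Fintype.card L)) :=
    { exists_point := fun l => by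
        obtain ⟨p, hp⟩ := Configuration.Nondegenerate.exists_point (P := P) (eL.symm l)
        exact ⟨eP p, fun h => hp (by rw [← eP.symm_apply_apply p]; exact h)⟩
      exists_line := fun p => by
        obtain ⟨l, hl⟩ := Configuration.Nondegenerate.exists_line (L := L) (eP.symm p)
        exact ⟨eL l, fun h => hl (by rw [← eL.symm_apply_apply l]; exact h)⟩
      eq_or_eq := fun {p₁ p₂ l₁ l₂} h1 h2 h3 h4 =>
        (Configuration.Nondegenerate.eq_or_eq (P := P) (L := L) h1 h2 h3 h4).imp
          (fun e => eP.symm.injective e) (fun e => eL.symm.injective e)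
      mkPoint := fun {l₁ l₂} h => eP (Configuration.HasPoints.mkPoint (P := P)
        (fun e => h (eL.symm.injective e) : eL.symm l₁ ≠ eL.symm l₂))
      mkPoint_ax := fun {l₁ l₂} h => by
        show eP.symm (eP _) ∈ eL.symm l₁ ∧ eP.symm (eP _) ∈ eL.symm l₂
        rw [eP.symm_apply_apply]
        exact Configuration.HasPoints.mkPoint_ax _
      mkLine := fun {p₁ p₂} h => eL (Configuration.HasLines.mkLine (L := L)
        (fun e => h (eP.symm.injective e) : eP.symm p₁ ≠ eP.symm p₂))
      mkLine_ax := fun {p₁ p₂} h => by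
        show eP.symm p₁ ∈ eL.symm (eL _) ∧ eP.symm p₂ ∈ eL.symm (eL _)
        rw [eL.symm_apply_apply]
        exact Configuration.HasLines.mkLine_ax _
      exists_config := by
        obtain ⟨p₁, p₂, p₃, l₁, l₂, l₃, h⟩ :=
          @Configuration.ProjectivePlane.exists_config P L _ _
        refine ⟨eP p₁, eP p₂, eP p₃, eL l₁, eL l₂, eL l₃, ?_⟩
        simpa only [hmem] using h }
  obtain ⟨F, hFld, hFin, φ, h1, h2⟩ := transport (P' := Fin (Fintype.card P))
    (L' := Fin (Fintype.card L)) fun a b c d hab hcd => by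
      obtain ⟨σ, τ, hinc, ha, hb⟩ := h2t (eP.symm a) (eP.symm b) (eP.symm c) (eP.symm d)
        (fun e => hab (eP.symm.injective e)) (fun e => hcd (eP.symm.injective e))
      refine ⟨eP.permCongr σ, eL.permCongr τ, fun p l => ?_, ?_, ?_⟩
      · rw [Equiv.permCongr_apply, Equiv.permCongr_apply, hmem]
        exact hinc _ _
      · rw [Equiv.permCongr_apply, ha, eP.apply_symm_apply]
      · rw [Equiv.permCongr_apply, hb, eP.apply_symm_apply]
  letI := hFld
  haveI := hFin
  refine ⟨F, hFld, Fintype.ofFinite F, eP.trans φ, fun l => ?_, fun W hW => ?_⟩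
  · obtain ⟨W, hW, h⟩ := h1 (eL l)
    exact ⟨W, hW, fun p => (hmem p l).symm.trans (h (eP p))⟩
  · obtain ⟨m, h⟩ := h2 W hW
    refine ⟨eL.symm m, fun p => ?_⟩
    rw [← hmem, eL.apply_symm_apply]
    exact h (eP p)

end Cfsg.Agent.S3732
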