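import Cfsg.Statements.S3733
import Mathlib

set_option autoImplicit false
open Cfsg

namespace Cfsg.Agent.S3733

open Subgroup Finset

/-- Let A and V be subgroups of a finite group with V abelian and nontrivial and A normalizing V. Suppose a nonempty finite family of proper subgroups of A partitions A: every non-identity element of A lies in exactly one member. If the number of members minus one is coprime to the order of V, then some member B of the family has a non-identity fixed point on V, that is V ∩ C(B) ≠ 1. -/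
theorem result {G : Type*} [Group G] [Finite G] (A V : Subgroup G) (hVab : IsMulCommutative V) (hV : V ≠ ⊥) (hAV : A ≤ Subgroup.normalizer (V : Set G)) (𝒜 : Finset (Subgroup G)) (hne : 𝒜.Nonempty) (hprop : ∀ B ∈ 𝒜, B < A) (hpart : ∀ a ∈ A, a ≠ 1 → ∃! B, B ∈ 𝒜 ∧ a ∈ B) (hk : (𝒜.card - 1).Coprime (Nat.card V)) : ∃ B ∈ 𝒜, V ⊓ Subgroup.centralizer (B : Set G) ≠ ⊥ := by
  classical
  open scoped IsMulCommutative in
  by_contra! hcon
  have := Fintype.ofFinite A
  let φ : A →* MulAut V := V.normalizerMonoidHom.comp (inclusion hAV)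
  obtain ⟨v, hv, hv1⟩ := V.bot_or_exists_ne_one.resolve_left hV
  set u : V := ⟨v, hv⟩
  set f : A → V := fun a => φ a u
  -- the product over a subgroup is fixed by it
  have hfixed : ∀ B : Subgroup G, B ≤ A → B ∈ 𝒜 → ∀ w : V, (∀ b : A, (b : G) ∈ B → φ b w = w) →
      w = 1 := by
    intro B hBA hB w hw
    refine Subtype.ext (mem_bot.mp ?_)
    rw [← hcon B hB]
    refine ⟨w.2, fun b hb => ?_⟩
    have : b * (w : G) * b⁻¹ = w := congrArg Subtype.val (hw ⟨b, hBA hb⟩ hb)
    exact mul_inv_eq_iff_eq_mul.mp this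
  have hB1 : ∀ B ∈ 𝒜, ∏ a ∈ univ.filter (fun a : A => (a : G) ∈ B), f a = 1 := by
    intro B hB
    refine hfixed B (hprop B hB).le hB _ fun b hb => ?_
    rw [map_prod]
    refine Finset.prod_nbij' (fun a => b * a) (fun a => b⁻¹ * a) ?_ ?_ ?_ ?_ ?_
    · exact fun a ha => mem_filter.mpr ⟨mem_univ _, B.mul_mem hb (mem_filter.mp ha).2⟩
    · exact fun a ha => mem_filter.mpr ⟨mem_univ _, B.mul_mem (B.inv_mem hb) (mem_filter.mp ha).2⟩
    · exact fun a _ => inv_mul_cancel_left b a
    · exact fun a _ => mul_inv_cancel_left b a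
    · intro a _
      simp only [f, map_mul]
      rfl
  have hA1 : ∏ a, f a = 1 := by
    obtain ⟨B, hB⟩ := hne
    refine hfixed B (hprop B hB).le hB _ fun b _ => ?_
    rw [map_prod]
    refine Fintype.prod_equiv (Equiv.mulLeft b) _ _ fun a => ?_
    simp only [f, Equiv.coe_mulLeft, map_mul]
    rfl
  have hsplit : ∀ B ∈ 𝒜, u * ∏ a ∈ univ.filter (fun a : A => (a : G) ∈ B ∧ a ≠ 1), f a = 1 := by
    intro B hB
    rw [← hB1 B hB, ← Finset.mul_prod_erase (univ.filter fun a : A => (a : G) ∈ B) f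
      (mem_filter.mpr ⟨mem_univ (1 : A), B.one_mem⟩)]
    congr 1
    · simp [f]
    · refine Finset.prod_congr ?_ fun _ _ => rfl
      ext a
      simp [and_comm]
  have hu : u * ∏ a ∈ univ.filter (fun a : A => a ≠ 1), f a = 1 := by
    rw [← hA1, ← Finset.mul_prod_erase univ f (mem_univ (1 : A))]
    congr 1
    · simp [f]
    · refine Finset.prod_congr ?_ fun _ _ => rfl
      ext a
      simp
  have hbig : ∏ a ∈ univ.filter (fun a : A => a ≠ 1), f a
      = ∏ B ∈ 𝒜, ∏ a ∈ univ.filter (fun a : A => (a : G) ∈ B ∧ a ≠ 1), f a := by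
    rw [← Finset.prod_biUnion]
    · refine Finset.prod_congr ?_ fun _ _ => rfl
      ext a
      simp only [mem_filter, mem_univ, true_and, mem_biUnion]
      constructor
      · intro ha
        obtain ⟨B, ⟨hB, haB⟩, -⟩ := hpart a a.2 (fun h => ha (Subtype.ext h))
        exact ⟨B, hB, haB, ha⟩
      · rintro ⟨B, -, -, ha⟩; exact ha
    · intro B hB C hC hBC
      refine Finset.disjoint_left.mpr fun a haB haC => hBC ?_
      obtain ⟨h1, h2⟩ := (mem_filter.mp haB).2
      exact (hpart a a.2 (fun h => h2 (Subtype.ext h))).unique ⟨hB, h1⟩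
        ⟨hC, (mem_filter.mp haC).2.1⟩
  have h1 : u ^ 𝒜.card * ∏ a ∈ univ.filter (fun a : A => a ≠ 1), f a = 1 := by
    rw [hbig, ← Finset.prod_const, ← Finset.prod_mul_distrib]
    exact Finset.prod_eq_one hsplit
  have h2 : u ^ (𝒜.card - 1) = 1 := by
    have h3 : 𝒜.card = (𝒜.card - 1) + 1 := by have := hne.card_pos; omega
    rw [h3, pow_succ, mul_assoc, hu, mul_one] at h1
    exact h1
  refine hv1 ?_
  have : orderOf u ∣ 1 := hk.gcd_eq_one ▸
    Nat.dvd_gcd (orderOf_dvd_of_pow_eq_one h2) (orderOf_dvd_natCard u)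
  rw [Nat.dvd_one, orderOf_eq_one_iff] at this
  exact congrArg Subtype.val this

end Cfsg.Agent.S3733
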