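import Cfsg.Statements.S3735
import Cfsg.Agent.Coprime.Basic
set_option autoImplicit false
open Cfsg

namespace Cfsg.Agent.S3735

open Subgroup


/-- Clifford's Theorem for actions on finite abelian groups, first part. Let H and V be subgroups of a finite group with V abelian and H normalizing V, and let A be a normal subgroup of H. If every H-invariant subgroup of V has an H-invariant complement in V, then every A-invariant subgroup of V has an A-invariant complement in V. -/
theorem result {G : Type*} [Group G] [Finite G] (H A V : Subgroup G) (hVab : IsMulCommutative V) (hHV : H ≤ Subgroup.normalizer (V : Set G)) (hAH : A ≤ H) (hAn : H ≤ Subgroup.normalizer (A : Set G)) (hss : ∀ U : Subgroup G, U ≤ V → H ≤ Subgroup.normalizer (U : Set G) → ∃ W : Subgroup G, W ≤ V ∧ H ≤ Subgroup.normalizer (W : Set G) ∧ U ⊓ W = ⊥ ∧ U ⊔ W = V) (U : Subgroup G) (hUV : U ≤ V) (hAU : A ≤ Subgroup.normalizer (U : Set G)) : ∃ W : Subgroup G, W ≤ V ∧ A ≤ Subgroup.normalizer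 (W : Set G) ∧ U ⊓ W = ⊥ ∧ U ⊔ W = V := by
  classical
  let inv : Subgroup G → Prop := fun X => X ≤ V ∧ A ≤ normalizer (X : Set G)
  let minI : Subgroup G → Prop := fun M => inv M ∧ M ≠ ⊥ ∧ ∀ X, inv X → X ≤ M → X = ⊥ ∨ X = M
  have hexmin : ∀ X, inv X → X ≠ ⊥ → ∃ M, minI M ∧ M ≤ X := by
    intro X hX hX1
    obtain ⟨M, hM, hmin⟩ := (Set.toFinite {M | inv M ∧ M ≠ ⊥ ∧ M ≤ X}).exists_minimal ⟨X, hX, hX1, le_rfl⟩
    refine ⟨M, ⟨hM.1, hM.2.1, fun Y hY hYM => ?_⟩, hM.2.2⟩
    by_cases hY1 : Y = ⊥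
    · exact Or.inl hY1
    · exact Or.inr (le_antisymm hYM (hmin ⟨hY, hY1, hYM.trans hM.2.2⟩ hYM))
  set V0 := sSup {M | minI M} with hV0def
  have hV0V : V0 ≤ V := sSup_le fun M hM => hM.1.1
  have hconj : ∀ h ∈ H, ∀ X, inv X → inv (X.map (MulAut.conj h).toMonoidHom) := by
    intro h hh X hX
    refine ⟨?_, fun a ha => ?_⟩
    · rintro _ ⟨x, hx, rfl⟩
      exact (mem_normalizer_iff.mp (hHV hh) x).mp (hX.1 hx)
    · have ha' : h⁻¹ * a * h ∈ A := (mem_normalizer_iff''.mp (hAn hh) a).mp ha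
      rw [mem_normalizer_iff]
      intro y
      rw [mem_map_equiv, mem_map_equiv]
      have := mem_normalizer_iff.mp (hX.2 ha') (h⁻¹ * y * h)
      simpa [mul_assoc] using this
  have hHV0 : H ≤ normalizer (V0 : Set G) := by
    intro h hh
    apply Coprime.mem_normalizer_of_conj_smul_eq
    refine eq_of_le_of_card_ge ?_ (Coprime.card_conj_smul h V0).ge
    rw [Coprime.conj_smul_eq_map, map_le_iff_le_comap]
    refine sSup_le fun M hM => ?_
    rw [← map_le_iff_le_comap]
    refine le_sSup ⟨hconj h hh M hM.1, fun e => hM.2.1 ?_, fun X hX hXM => ?_⟩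
    · rwa [Subgroup.map_eq_bot_iff_of_injective _ (MulAut.conj h).injective] at e
    · set X' := X.map (MulAut.conj h⁻¹).toMonoidHom
      have hX'M : X' ≤ M := by
        rintro _ ⟨x, hx, rfl⟩
        obtain ⟨m, hm, rfl⟩ := hXM hx
        simpa [mul_assoc] using hm
      have hback : X'.map (MulAut.conj h).toMonoidHom = X := by
        ext y
        simp only [X', mem_map_equiv]
        simp [mul_assoc]
      rcases hM.2.2 X' (hconj _ (H.inv_mem hh) X hX) hX'M with h' | h'
      · left; rw [← hback, h', Subgroup.map_bot]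
      · right; rw [← hback, h']
  have hV0 : V0 = V := by
    obtain ⟨W, hWV, hHW, hd, hs⟩ := hss V0 hV0V hHV0
    have : W = ⊥ := by
      by_contra hW
      obtain ⟨M, hM, hMW⟩ := hexmin W ⟨hWV, hAH.trans hHW⟩ hW
      exact hM.2.1 (le_bot_iff.mp (hd ▸ le_inf (le_sSup hM) hMW))
    rwa [this, sup_bot_eq] at hs
  obtain ⟨W, ⟨hW, hWd⟩, hmax⟩ := (Set.toFinite {W | inv W ∧ U ⊓ W = ⊥}).exists_maximal
    ⟨⊥, ⟨bot_le, fun a _ => by rw [normalizer_eq_top_iff.mpr inferInstance]; exact mem_top a⟩, inf_bot_eq U⟩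
  refine ⟨W, hW.1, hW.2, hWd, le_antisymm (sup_le hUV hW.1) ?_⟩
  rw [← hV0]
  refine sSup_le fun M hM => ?_
  have hUW : inv (U ⊔ W) := ⟨sup_le hUV hW.1, Coprime.le_normalizer_sup hAU hW.2⟩
  rcases hM.2.2 (M ⊓ (U ⊔ W)) ⟨inf_le_left.trans hM.1.1, Coprime.le_normalizer_inf hM.1.2 hUW.2⟩
    inf_le_left with h | h
  · exfalso
    have hMW : U ⊓ (W ⊔ M) = ⊥ := by
      rw [eq_bot_iff]
      rintro u ⟨hu, hu'⟩
      have hMn : M ≤ normalizer (W : Set G) := fun m hm => mem_normalizer_iff.mpr fun w => by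
        have : ∀ w ∈ V, m * w * m⁻¹ = w := fun w hw => by
          rw [setLike_mul_comm (hM.1.1 hm) hw, mul_inv_cancel_right]
        constructor
        · intro hw; rwa [this w (hW.1 hw)]
        · intro hw
          have hwV : w ∈ V := by
            have := V.mul_mem (V.mul_mem (V.inv_mem (hM.1.1 hm)) (hW.1 hw)) (hM.1.1 hm)
            simpa [mul_assoc] using this
          rwa [this w hwV] at hw
      obtain ⟨w, hw, m, hm, rfl⟩ := (Coprime.mem_sup_of_le_normalizer hMn).mp hu'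
      have hm' : m ∈ M ⊓ (U ⊔ W) := by
        refine ⟨hm, ?_⟩
        have := (U ⊔ W).mul_mem (le_sup_right (a := U) (W.inv_mem hw)) (le_sup_left (b := W) hu)
        simpa using this
      rw [h, mem_bot] at hm'
      subst hm'
      rw [mul_one] at hu ⊢
      exact hWd.le ⟨hu, hw⟩
    have hMle : M ≤ W := le_sup_right.trans
      (hmax ⟨⟨sup_le hW.1 hM.1.1, Coprime.le_normalizer_sup hW.2 hM.1.2⟩, hMW⟩ le_sup_left)
    exact hM.2.1 (le_bot_iff.mp (h ▸ le_inf le_rfl (hMle.trans le_sup_right)))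
  · exact inf_eq_left.mp h

end Cfsg.Agent.S3735
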