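import Cfsg.Statements.S3736
import Cfsg.Agent.Coprime.Derived
import Cfsg.Agent.LocalStructure.OmegaAction
import Cfsg.Agent.LocalStructure.ThreeSubgroup
import Cfsg.Agent.Core.Frattini
import Cfsg.Agent.Fusion.PGroup
-- import your own Cfsg.Agent.* helpers here

set_option autoImplicit false
open Cfsg

namespace Cfsg.Agent.S3736

/-- The Hall–Higman reduction for a minimal non-trivial action. Let B, A and P be subgroups of a finite group with P a p-group, B normalizing P, and A a normal subgroup of B of order prime to p. Suppose A does not centralize P but centralizes every proper B-invariant subgroup of P. Then [P, A] = P; P is elementary abelian or special; B acts irreducibly on P/Φ(P), that is, the only B-invariant subgroups of P containing Φ(P) are Φ(P) and P; and if p is odd then every element of P has order dividing p. -/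
theorem result {X : Type*} [Group X] [Finite X] {p : ℕ} [Fact p.Prime] (B A P : Subgroup X) (hP : IsPGroup p P) (hBP : B ≤ Subgroup.normalizer (P : Set X)) (hAB : A ≤ B) (hAn : B ≤ Subgroup.normalizer (A : Set X)) (hAp : (Nat.card A).Coprime p) (hnt : ⁅P, A⁆ ≠ ⊥) (hmin : ∀ U : Subgroup X, U < P → B ≤ Subgroup.normalizer (U : Set X) → ⁅U, A⁆ = ⊥) : ⁅P, A⁆ = P ∧ (Cfsg.IsElementaryAbelian p P ∨ Cfsg.IsSpecial p ↥P) ∧ (∀ U : Subgroup X, (frattini ↥P).map P.subtype ≤ U → U ≤ P → B ≤ Subgroup.normalizer (U : Set X) → U = (frattini ↥P).map P.subtype ∨ U = P) ∧ (p ≠ 2 → ∀ x ∈ P, x ^ p = 1) := by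
  classical
  obtain ⟨k, hk⟩ := IsPGroup.iff_card.mp hP
  have hcop : (Nat.card A).Coprime (Nat.card P) := by rw [hk]; exact hAp.pow_right k
  have hAP : A ≤ Subgroup.normalizer (P : Set X) := hAB.trans hBP
  have hnil : Group.IsNilpotent P := hP.isNilpotent
  have hsolv : Group.IsSolvable P := inferInstance
  have hPA : ⁅P, A⁆ = P := by
    refine eq_of_le_of_not_lt (Coprime.commutator_le_of_le_normalizer hAP) fun hlt => hnt ?_
    rw [← Coprime.commutator_commutator_eq hAP hcop (Or.inr hsolv)]
    exact hmin _ hlt (LocalStructure.le_normalizer_commutator_of_le hBP hAn)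
  have hfix : ∀ U : Subgroup X, U ≤ P → U ≠ P → B ≤ Subgroup.normalizer (U : Set X) →
      U ≤ P ⊓ Subgroup.centralizer (A : Set X) := fun U h1 h2 h3 =>
    le_inf h1 (Subgroup.commutator_eq_bot_iff_le_centralizer.mp (hmin U (lt_of_le_of_ne h1 h2) h3))
  have hPne : P ≠ ⊥ := fun h => hnt (by rw [h, Subgroup.commutator_bot_left])
  haveI : Nontrivial P := (Subgroup.nontrivial_iff_ne_bot P).mpr hPne
  have hPtop : ∀ C : Subgroup P, C.map P.subtype = P → C = ⊤ := fun C h => by
    apply Subgroup.map_injective P.subtype_injective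
    rw [h, ← MonoidHom.range_eq_map, Subgroup.range_subtype]
  have hΦne : frattini P ≠ ⊤ := fun h => by
    obtain ⟨M, hM, -⟩ := (eq_top_or_exists_le_coatom (⊥ : Subgroup P)).resolve_left bot_ne_top
    exact hM.1 (top_le_iff.mp (h.symm.le.trans (frattini_le_coatom hM)))
  set F : Subgroup X := (frattini P).map P.subtype with hF
  have hFP : F ≤ P := Subgroup.map_subtype_le _
  have hFne : F ≠ P := fun h => hΦne (hPtop _ h)
  have hBF : B ≤ Subgroup.normalizer (F : Set X) :=
    LocalStructure.le_normalizer_map_characteristic hBP _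
  have hPF : P ≤ Subgroup.normalizer (F : Set X) :=
    LocalStructure.le_normalizer_map_characteristic Subgroup.le_normalizer _
  have hFA : ⁅F, A⁆ = ⊥ :=
    Subgroup.commutator_eq_bot_iff_le_centralizer.mpr ((hfix F hFP hFne hBF).trans inf_le_right)
  have hPFcomm : ⁅P, F⁆ = ⊥ := by
    conv_lhs => rw [← hPA]
    refine Subgroup.commutator_commutator_eq_bot_of_rotate ?_ ?_
    · rw [Subgroup.commutator_comm A F, hFA, Subgroup.commutator_bot_left]
    · have h2 : ⁅F, P⁆ ≤ F := by
        rw [Subgroup.commutator_comm]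
        exact Coprime.commutator_le_of_le_normalizer (K := F) hPF |> fun h => by
          rw [Subgroup.commutator_comm]; exact h
      exact le_bot_iff.mp ((Subgroup.commutator_mono h2 le_rfl).trans hFA.le)
  have hΦZ : frattini P ≤ Subgroup.center P := by
    intro z hz
    rw [Subgroup.mem_center_iff]
    intro x
    exact Subtype.ext (Subgroup.mem_centralizer_iff.mp
      (Subgroup.commutator_eq_bot_iff_le_centralizer.mp
        (by rw [Subgroup.commutator_comm]; exact hPFcomm) (Subgroup.mem_map_of_mem P.subtype hz)) x x.2)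
  have hder : commutator P ≤ Subgroup.center P := Core.commutator_le_frattini.trans hΦZ
  have hCder : P ⊓ Subgroup.centralizer (A : Set X) ≤ ⁅P, P⁆ :=
    Coprime.inf_centralizer_le_derived hAP hcop hPA
  have hderF : ⁅P, P⁆ ≤ F := by
    rw [← Subgroup.map_subtype_commutator]
    exact Subgroup.map_mono Core.commutator_le_frattini
  have hirr : ∀ U : Subgroup X, F ≤ U → U ≤ P → B ≤ Subgroup.normalizer (U : Set X) →
      U = F ∨ U = P := by
    intro U h1 h2 h3
    by_cases h : U = P
    · exact Or.inr h
    · exact Or.inl (le_antisymm ((hfix U h2 h h3).trans (hCder.trans hderF)) h1)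
  refine ⟨hPA, ?_, hirr, fun hp2 => ?_⟩
  · by_cases hZ : Subgroup.center P = ⊤
    · left
      have hcomm : IsMulCommutative P := ⟨⟨fun a b => (Subgroup.mem_center_iff.mp
        (hZ ▸ Subgroup.mem_top a : a ∈ Subgroup.center P) b).symm⟩⟩
      refine ⟨hcomm, fun x hx => ?_⟩
      have h1 : ⁅P, P⁆ = ⊥ := Subgroup.commutator_eq_bot_iff_le_centralizer.mpr
        (Subgroup.le_centralizer_iff_isMulCommutative.mpr hcomm)
      have hxF : x ^ p ∈ F :=
        ⟨⟨x, hx⟩ ^ p, Core.pow_mem_frattini hP _, rfl⟩
      exact Subgroup.mem_bot.mp (h1 ▸ hCder (hfix F hFP hFne hBF hxF))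
    · right
      set Z : Subgroup X := (Subgroup.center P).map P.subtype with hZdef
      have hZ1 : Z ≤ ⁅P, P⁆ := (hfix Z (Subgroup.map_subtype_le _) (fun h => hZ (hPtop _ h))
        (LocalStructure.le_normalizer_map_characteristic hBP _)).trans hCder
      have hZ2 : Subgroup.center P ≤ commutator P := by
        rwa [← Subgroup.map_subtype_le_map_subtype, Subgroup.map_subtype_commutator]
      exact ⟨hP, le_antisymm hΦZ (hZ2.trans Core.commutator_le_frattini), le_antisymm hder hZ2⟩
  · set E : Subgroup P := Subgroup.closure {x : P | x ^ p = 1} with hE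
    haveI : E.Characteristic := by
      rw [Subgroup.characteristic_iff_map_le]
      intro θ
      rw [hE, MonoidHom.map_closure]
      refine Subgroup.closure_mono ?_
      rintro _ ⟨x, hx, rfl⟩
      change θ x ^ p = 1
      rw [← map_pow, hx, map_one]
    have hEtop : E.map P.subtype = P := by
      by_contra h
      have h1 := hfix _ (Subgroup.map_subtype_le E) h
        (LocalStructure.le_normalizer_map_characteristic hBP E)
      refine hnt ?_
      rw [Subgroup.commutator_comm, Subgroup.commutator_eq_bot_iff_le_centralizer]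
      refine LocalStructure.le_centralizer_of_fixes_omega hp2 hP hAP hAp fun v hv hvp a ha => ?_
      exact Subgroup.mem_centralizer_iff.mp (h1 ⟨⟨v, hv⟩, Subgroup.subset_closure
        (Subtype.ext hvp), rfl⟩).2 a ha
    intro x hx
    have h2 := Fusion.pow_prime_eq_one_of_mem_closure hp2 hder
      (hPtop E hEtop ▸ Subgroup.mem_top (⟨x, hx⟩ : P) : (⟨x, hx⟩ : P) ∈ E)
    exact congrArg Subtype.val h2

end Cfsg.Agent.S3736
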