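import Cfsg.Statements.S3737
import Cfsg.Agent.S3736
import Cfsg.Agent.Coprime.Baer
-- import your own Cfsg.Agent.* helpers here

set_option autoImplicit false
open Cfsg

namespace Cfsg.Agent.S3737

/-- Thompson's strengthening of the P × Q lemma for odd primes. Let p be an odd prime and let P, Q and G be subgroups of a finite group with P a p-group, Q of order prime to p and normalized by P, and G a p-group normalized by both P and Q. If every element of G centralized by P is centralized by Q, then Q centralizes G. -/
theorem result {X : Type*} [Group X] [Finite X] {p : ℕ} [Fact p.Prime] (hp : p ≠ 2) (P Q G : Subgroup X) (hP : IsPGroup p P) (hQ : (Nat.card Q).Coprime p) (hPQ : P ≤ Subgroup.normalizer (Q : Set X)) (hG : IsPGroup p G) (hPG : P ≤ Subgroup.normalizer (G : Set X)) (hQG : Q ≤ Subgroup.normalizer (G : Set X)) (hC : G ⊓ Subgroup.centralizer (P : Set X) ≤ Subgroup.centralizer (Q : Set X)) : Q ≤ Subgroup.centralizer (G : Set X) := by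
  classical
  induction G using WellFoundedLT.induction with
  | _ G ih =>
  by_contra hne
  have hBG : P ⊔ Q ≤ Subgroup.normalizer (G : Set X) := sup_le hPG hQG
  have hnt : ⁅G, Q⁆ ≠ ⊥ := fun h => hne (Subgroup.commutator_eq_bot_iff_le_centralizer.mp
    (by rw [Subgroup.commutator_comm]; exact h))
  have hmin : ∀ U : Subgroup X, U < G → P ⊔ Q ≤ Subgroup.normalizer (U : Set X) → ⁅U, Q⁆ = ⊥ := by
    intro U hU hUn
    rw [Subgroup.commutator_comm, Subgroup.commutator_eq_bot_iff_le_centralizer]
    exact ih U hU (hG.to_le hU.le) (le_sup_left.trans hUn) (le_sup_right.trans hUn)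
      ((inf_le_inf_right _ hU.le).trans hC)
  obtain ⟨-, hspec, -, hexp⟩ := S3736.result (p := p) (P ⊔ Q) Q G hG hBG le_sup_right
    (sup_le hPQ Subgroup.le_normalizer) hQ hnt hmin
  have hclass : commutator G ≤ Subgroup.center G := by
    rcases hspec with h | h
    · intro x _
      rw [Subgroup.mem_center_iff]
      exact fun y => h.1.is_comm.comm y x
    · exact h.2.2.le
  obtain ⟨v, hv, hvP, hvQ⟩ := Coprime.exists_fixed_not_centralized hp hP hQ hPQ hPG hQG hG hclass
    (fun v => Subtype.ext (hexp hp v v.2)) hne
  exact hvQ (hC ⟨hv, hvP⟩)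

end Cfsg.Agent.S3737
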