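import Cfsg.Statements.S3738
import Cfsg.Agent.S3736
import Cfsg.Agent.LocalStructure.OmegaAction
import Cfsg.Agent.Core.Frattini
import Cfsg.Agent.Coprime.Derived
import Cfsg.Agent.Fusion.PGroup
import Mathlib.GroupTheory.GroupAction.Quotient
-- import your own Cfsg.Agent.* helpers here

set_option autoImplicit false
open Cfsg
open scoped commutatorElement

namespace Cfsg.Agent.S3738

theorem card_sup_zpowers_le {G : Type*} [Group G] [Finite G] {M : Subgroup G} [M.Normal] {u : G}
    (hu : u ^ 2 ∈ M) : Nat.card (M ⊔ Subgroup.zpowers u : Subgroup G) ≤ Nat.card M * 2 := by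
  let T : Subgroup G :=
    { carrier := {g | g ∈ M ∨ g * u⁻¹ ∈ M}
      one_mem' := Or.inl (one_mem M)
      mul_mem' := by
        have hn : ∀ m ∈ M, u * m * u⁻¹ ∈ M := fun m hm => Subgroup.Normal.conj_mem inferInstance m hm u
        rintro a b (ha | ha) (hb | hb)
        · exact Or.inl (mul_mem ha hb)
        · exact Or.inr (by rw [mul_assoc]; exact mul_mem ha hb)
        · refine Or.inr ?_
          have := mul_mem ha (hn b hb)
          simpa [mul_assoc] using this
        · refine Or.inl ?_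
          have := mul_mem (mul_mem ha (hn _ hb)) hu
          simpa [mul_assoc, sq] using this
      inv_mem' := by
        rintro a (ha | ha)
        · exact Or.inl (inv_mem ha)
        · refine Or.inr ?_
          have := mul_mem (Subgroup.Normal.conj_mem inferInstance _ (inv_mem ha) u⁻¹) (inv_mem hu)
          simpa [mul_assoc, sq] using this }
  have hle : M ⊔ Subgroup.zpowers u ≤ T :=
    sup_le (fun g hg => Or.inl hg) (Subgroup.zpowers_le.mpr (Or.inr (by rw [mul_inv_cancel]; exact one_mem M)))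
  refine le_trans (Subgroup.card_le_of_le hle) ?_
  let f : M × Bool → T := fun q => if q.2 then ⟨q.1 * u, Or.inr (by simp)⟩ else ⟨q.1, Or.inl q.1.2⟩
  refine (Nat.card_le_card_of_surjective f ?_).trans_eq ?_
  · rintro ⟨g, hg | hg⟩
    · exact ⟨(⟨g, hg⟩, false), rfl⟩
    · exact ⟨(⟨g * u⁻¹, hg⟩, true), Subtype.ext (inv_mul_cancel_right g u)⟩
  · rw [Nat.card_prod]
    simp

theorem aux {G : Type*} [Group G] [Finite G] (hder : commutator G ≤ Subgroup.center G)
    (hsq : ∀ g : G, g ^ 2 ∈ Subgroup.center G) (hZ2 : ∀ z : G, z ∈ Subgroup.center G → z ^ 2 = 1)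
    (hZ4 : Nat.card (Subgroup.center G) = 4) (hG : 256 ≤ Nat.card G)
    (hinv : ∀ g : G, g ^ 2 = 1 → g ∈ Subgroup.center G) : False := by
  classical
  set Z := Subgroup.center G with hZ
  have hn : ∀ M : Subgroup G, Z ≤ M → M.Normal := fun M hM => ⟨fun m hm g => by
    have h1 : ⁅g, m⁆ ∈ M := hM (hder (Subgroup.commutator_mem_commutator (Subgroup.mem_top _) (Subgroup.mem_top _)))
    have := mul_mem h1 hm
    simpa [commutatorElement_def, mul_assoc] using this⟩
  have hcm : ∀ a b : G, ⁅a, b⁆ ∈ Z := fun a b =>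
    hder (Subgroup.commutator_mem_commutator (Subgroup.mem_top _) (Subgroup.mem_top _))
  obtain ⟨x, -, hx⟩ := SetLike.exists_of_lt (show Z < ⊤ from lt_top_iff_ne_top.mpr fun h => by
    rw [h, Subgroup.card_top] at hZ4
    omega)
  let φ : G →* Z :=
    { toFun := fun g => ⟨⁅x, g⁆, hcm x g⟩
      map_one' := Subtype.ext (commutatorElement_one_right x)
      map_mul' := fun a b => Subtype.ext (Fusion.commutatorElement_mul_right_of_le_center hder x a b) }
  have hC : 64 ≤ Nat.card φ.ker := by
    have h1 := φ.ker.card_mul_index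
    rw [Subgroup.index_ker] at h1
    have h2 : Nat.card φ.range ≤ 4 := (Subgroup.card_le_card_group φ.range).trans_eq hZ4
    nlinarith
  have hCmem : ∀ g : G, g ∈ φ.ker → Commute x g := fun g hg =>
    commutatorElement_eq_one_iff_mul_comm.mp (congrArg Subtype.val hg)
  set z : G := x ^ 2 with hz
  have hzZ : z ∈ Z := hsq x
  have hz1 : z ≠ 1 := fun h => hx (hinv x h)
  let good : G → Prop := fun q => q ∈ Z ∧ q ≠ 1 ∧ q ≠ z
  have hmul : ∀ p q : G, good p → good q → p * q = 1 ∨ p * q = z := by
    rintro p q ⟨hp, hp1, hpz⟩ ⟨hq, hq1, hqz⟩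
    by_contra hne
    push Not at hne
    have hsub : ({1, z, p, q, p * z} : Finset G) ⊆ (Z : Set G).toFinite.toFinset := by
      intro g hg
      simp only [Finset.mem_insert, Finset.mem_singleton] at hg
      rw [Set.Finite.mem_toFinset, SetLike.mem_coe]
      rcases hg with rfl | rfl | rfl | rfl | rfl
      exacts [one_mem Z, hzZ, hp, hq, mul_mem hp hzZ]
    have hpp : p * p = 1 := by rw [← sq]; exact hZ2 p hp
    have hzz : z * z = 1 := by rw [← sq]; exact hZ2 z hzZ
    have hpq : p ≠ q := fun h => hne.1 (h ▸ hpp)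
    have h1 : q ≠ p * z := fun h => hne.2 (by rw [h, ← mul_assoc, hpp, one_mul])
    have h2 : p * z ≠ 1 := fun h => hpz (by rw [eq_inv_of_mul_eq_one_left h, inv_eq_of_mul_eq_one_right hzz])
    have h3 : p * z ≠ z := fun h => hp1 (mul_eq_right.mp h)
    have h4 : p * z ≠ p := fun h => hz1 (mul_eq_left.mp h)
    have hcard := Finset.card_le_card hsub
    rw [← Set.ncard_eq_toFinset_card, ← Nat.card_coe_set_eq, SetLike.coe_sort_coe, hZ4] at hcard
    rw [Finset.card_insert_of_notMem (by simp [Ne.symm hz1, Ne.symm hp1, Ne.symm hq1, Ne.symm h2]),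
      Finset.card_insert_of_notMem (by simp [Ne.symm hpz, Ne.symm hqz, Ne.symm h3]),
      Finset.card_insert_of_notMem (by simp [hpq, Ne.symm h4]),
      Finset.card_insert_of_notMem (by simp [h1]), Finset.card_singleton] at hcard
    omega
  have hthree : ∀ p q r : G, good p → good q → good r → good (p * q * r) := by
    intro p q r hp hq hr
    rcases hmul p q hp hq with h | h
    · rw [h, one_mul]; exact hr
    · rw [h]
      refine ⟨mul_mem hzZ hr.1, fun h1 => hr.2.2 ?_, fun h1 => hr.2.1 (mul_eq_left.mp h1)⟩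
      rw [eq_inv_of_mul_eq_one_right h1, inv_eq_of_mul_eq_one_right]
      rw [← sq]; exact hZ2 z hzZ
  set M : Subgroup G := Z ⊔ Subgroup.zpowers x with hM
  haveI := hn Z le_rfl
  haveI := hn M le_sup_left
  have hMc : Nat.card M ≤ 8 :=
    (card_sup_zpowers_le (M := Z) (hsq x)).trans_eq (by rw [hZ4])
  have hgood : ∀ c ∈ φ.ker, c ∉ M → good (c ^ 2) := by
    intro c hc hcM
    refine ⟨hsq c, fun h => hcM (Subgroup.mem_sup_left (hinv c h)), fun h => hcM ?_⟩
    have h1 : (c * x) ^ 2 = 1 := by
      rw [(hCmem c hc).symm.mul_pow, h, hz, ← sq, hZ2 _ (hsq x)]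
    have := mul_mem (Subgroup.mem_sup_left (hinv _ h1) : c * x ∈ M)
      (inv_mem (Subgroup.mem_sup_right (Subgroup.mem_zpowers x) : x ∈ M))
    rwa [mul_inv_cancel_right] at this
  obtain ⟨u, hu, huM⟩ := SetLike.not_le_iff_exists.mp (fun h : φ.ker ≤ M => by
    have := Subgroup.card_le_of_le h; omega)
  set M1 : Subgroup G := M ⊔ Subgroup.zpowers u with hM1
  haveI := hn M1 (le_sup_left.trans le_sup_left)
  have hM1c : Nat.card M1 ≤ 16 :=
    (card_sup_zpowers_le (M := M) (Subgroup.mem_sup_left (hsq u))).trans (by omega)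
  obtain ⟨v, hv, hvM⟩ := SetLike.not_le_iff_exists.mp (fun h : φ.ker ≤ M1 => by
    have := Subgroup.card_le_of_le h; omega)
  set M2 : Subgroup G := M1 ⊔ Subgroup.zpowers v with hM2
  have hM2c : Nat.card M2 ≤ 32 :=
    (card_sup_zpowers_le (M := M1) (Subgroup.mem_sup_left (Subgroup.mem_sup_left (hsq v)))).trans (by omega)
  obtain ⟨w, hw, hwM⟩ := SetLike.not_le_iff_exists.mp (fun h : φ.ker ≤ M2 => by
    have := Subgroup.card_le_of_le h; omega)
  have hcomm : ∀ b ∈ φ.ker, b ∉ M1 → good ⁅u, b⁆ := by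
    intro b hb hbM
    have hbu : b * u ∉ M := fun h => hbM (by
      have := mul_mem (Subgroup.mem_sup_left h : b * u ∈ M1)
        (inv_mem (Subgroup.mem_sup_right (Subgroup.mem_zpowers u) : u ∈ M1))
      rwa [mul_inv_cancel_right] at this)
    have g3 := hthree _ _ _ (hgood _ (mul_mem hb hu) hbu)
      (hgood b hb fun h => hbM (Subgroup.mem_sup_left h)) (hgood u hu huM)
    have hk : (b * u) ^ 2 = b ^ 2 * u ^ 2 * ⁅u, b⁆ := by
      have := Fusion.mul_pow_of_commute_commutator (x := b) (y := u)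
        (Subgroup.mem_center_iff.mp (hcm u b) b).symm (Subgroup.mem_center_iff.mp (hcm u b) u).symm 2
      simpa using this
    convert g3 using 1
    rw [hk]
    calc ⁅u, b⁆ = ⁅u, b⁆ * (b ^ 2) ^ 2 * (u ^ 2) ^ 2 := by
          rw [hZ2 _ (hsq b), hZ2 _ (hsq u), mul_one, mul_one]
      _ = b ^ 2 * u ^ 2 * ⁅u, b⁆ * b ^ 2 * u ^ 2 := by
          have e1 := Subgroup.mem_center_iff.mp (hsq b)
          have e2 := Subgroup.mem_center_iff.mp (hcm u b)
          have e3 : u ^ 2 * b ^ 2 = b ^ 2 * u ^ 2 := e1 (u ^ 2)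
          generalize ⁅u, b⁆ = c at e2 ⊢
          generalize b ^ 2 = A at e2 e3 ⊢
          generalize u ^ 2 = B at e2 e3 ⊢
          calc c * A ^ 2 * B ^ 2 = c * (A * (A * B) * B) := by rw [sq, sq]; simp only [mul_assoc]
            _ = c * (A * (B * A) * B) := by rw [e3]
            _ = c * (A * B) * (A * B) := by simp only [mul_assoc]
            _ = A * B * c * (A * B) := by rw [← e2]
            _ = A * B * c * A * B := by simp only [mul_assoc]
  have hvw : v * w ∉ M1 := fun h => hwM (by
    have := mul_mem (inv_mem (Subgroup.mem_sup_right (Subgroup.mem_zpowers v) : v ∈ M2))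
      (Subgroup.mem_sup_left h : v * w ∈ M2)
    rwa [inv_mul_cancel_left] at this)
  have h1 := hcomm _ (mul_mem hv hw) hvw
  rw [Fusion.commutatorElement_mul_right_of_le_center hder] at h1
  rcases hmul _ _ (hcomm v hv hvM) (hcomm w hw fun h => hwM (Subgroup.mem_sup_left h)) with h | h
  · exact h1.2.1 h
  · exact h1.2.2 h


/-- Let d be a non-identity 3-element of a finite group and P a 2-subgroup normalized by d on which ⟨d⟩ acts faithfully (no non-identity power of d centralizes P) and without non-identity fixed points (C_P(d) = 1). If every abelian subgroup of P has 2-rank at most 2, then d has order 3. -/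
theorem result {X : Type*} [Group X] [Finite X] (d : X) (n : ℕ) (hn : 1 ≤ n) (hd : orderOf d = 3 ^ n) (P : Subgroup X) (hP : IsPGroup 2 P) (hdP : d ∈ Subgroup.normalizer (P : Set X)) (hfaith : Subgroup.zpowers d ⊓ Subgroup.centralizer (P : Set X) = ⊥) (hfpf : P ⊓ Subgroup.centralizer {d} = ⊥) (hrank : ∀ V : Subgroup X, V ≤ P → IsMulCommutative V → Cfsg.PRankLE 2 2 V) : orderOf d = 3 := by
  classical
  by_contra hne
  have hn2 : 2 ≤ n := by
    rcases Nat.lt_or_ge n 2 with h | h
    · exact absurd (by rw [hd, show n = 1 by omega, pow_one]) hne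
    · exact h
  set t : X := d ^ 3 ^ (n - 1) with htdef
  have ht3 : orderOf t = 3 := by
    rw [htdef, orderOf_pow_of_dvd (by positivity) (hd ▸ pow_dvd_pow 3 (Nat.sub_le n 1)), hd,
      Nat.pow_div (Nat.sub_le n 1) (by norm_num), show n - (n - 1) = 1 by omega, pow_one]
  have htA : t ∈ Subgroup.zpowers d := Subgroup.npow_mem_zpowers d _
  have htP : t ∉ Subgroup.centralizer (P : Set X) := fun h => by
    have h1 : t = 1 := by
      rw [← Subgroup.mem_bot, ← hfaith]
      exact ⟨htA, h⟩
    rw [h1, orderOf_one] at ht3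
    omega
  obtain ⟨U, ⟨hUP, hdU, htU⟩, hUmin⟩ := exists_minimal_of_wellFoundedLT
    (fun U : Subgroup X => U ≤ P ∧ d ∈ Subgroup.normalizer (U : Set X) ∧
      t ∉ Subgroup.centralizer (U : Set X)) ⟨P, le_rfl, hdP, htP⟩
  have hU : IsPGroup 2 U := hP.to_le hUP
  have hBU : Subgroup.zpowers d ≤ Subgroup.normalizer (U : Set X) := Subgroup.zpowers_le.mpr hdU
  have hAB : Subgroup.zpowers t ≤ Subgroup.zpowers d := Subgroup.zpowers_le.mpr htA
  have hBA : Subgroup.zpowers d ≤ Subgroup.normalizer (Subgroup.zpowers t : Set X) :=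
    (Subgroup.zpowers_le.mpr (Subgroup.mem_centralizer_iff.mpr (by
      rintro _ ⟨i, rfl⟩
      exact (((Commute.refl d).pow_left _).zpow_left i).eq))).trans (Subgroup.centralizer_le_normalizer _)
  have hcop : (Nat.card (Subgroup.zpowers t)).Coprime 2 := by rw [Nat.card_zpowers, ht3]; norm_num
  have hcopU : (Nat.card (Subgroup.zpowers t)).Coprime (Nat.card U) := by
    obtain ⟨k, hk⟩ := IsPGroup.iff_card.mp hU
    rw [hk]
    exact hcop.pow_right k
  have hnt : ⁅U, Subgroup.zpowers t⁆ ≠ ⊥ := fun h => htU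
    ((Subgroup.commutator_eq_bot_iff_le_centralizer.mp
      (by rw [Subgroup.commutator_comm]; exact h)) (Subgroup.mem_zpowers t))
  have hmin : ∀ W : Subgroup X, W < U → Subgroup.zpowers d ≤ Subgroup.normalizer (W : Set X) →
      ⁅W, Subgroup.zpowers t⁆ = ⊥ := by
    intro W hW hdW
    rw [Subgroup.commutator_comm, Subgroup.commutator_eq_bot_iff_le_centralizer, Subgroup.zpowers_le]
    by_contra h
    exact hW.not_ge (hUmin ⟨hW.le.trans hUP, hdW (Subgroup.mem_zpowers d), h⟩ hW.le)
  obtain ⟨hUA, hspec, -, -⟩ :=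
    S3736.result (p := 2) (Subgroup.zpowers d) (Subgroup.zpowers t) U hU hBU hAB hBA hcop hnt hmin
  have hfree : ∀ u : X, u ∉ Subgroup.centralizer (Subgroup.zpowers t : Set X) → ∀ k : ℕ,
      d ^ k * u * (d ^ k)⁻¹ = u → d ^ k = 1 := by
    intro u hu k hk
    by_contra hk1
    refine hu (Subgroup.mem_centralizer_iff.mpr ?_)
    have hk0 : k ≠ 0 := fun h => hk1 (by rw [h, pow_zero])
    obtain ⟨a, b, hb, rfl⟩ := Nat.exists_eq_pow_mul_and_not_dvd hk0 3 (by norm_num)
    have han : a + 1 ≤ n := by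
      by_contra h
      refine hk1 (orderOf_dvd_iff_pow_eq_one.mp ?_)
      rw [hd]
      exact (pow_dvd_pow 3 (by omega)).trans (dvd_mul_right _ _)
    have hcb : b.Coprime (orderOf (d ^ 3 ^ a)) := by
      refine Nat.Coprime.coprime_dvd_right (orderOf_pow_dvd _) ?_
      rw [hd]
      exact ((Nat.prime_three.coprime_iff_not_dvd.mpr hb).symm).pow_right n
    obtain ⟨m, hm⟩ := exists_pow_eq_self_of_coprime hcb
    have hc : Commute (d ^ (3 ^ a * b)) u := mul_inv_eq_iff_eq_mul.mp hk
    have hct : Commute t u := by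
      have h2 : t = ((d ^ (3 ^ a * b)) ^ m) ^ 3 ^ (n - 1 - a) := by
        rw [pow_mul d, hm, ← pow_mul, ← pow_add, show a + (n - 1 - a) = n - 1 by omega]
      rw [h2]
      exact (hc.pow_left m).pow_left _
    rintro _ ⟨i, rfl⟩
    exact (hct.zpow_left i).eq
  -- the free action gives a divisibility
  have hdiv : ∀ Z : Subgroup X, Z ≤ U → Subgroup.zpowers d ≤ Subgroup.normalizer (Z : Set X) →
      U ⊓ Subgroup.centralizer (Subgroup.zpowers t : Set X) ≤ Z →
      3 ^ n ∣ Nat.card U - Nat.card Z := by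
    intro Z hZU hdZ hCZ
    let S : Set X := (U : Set X) \ Z
    letI : MulAction (Subgroup.zpowers d) S :=
      { smul := fun g s => ⟨(g : X) * s * (g : X)⁻¹,
          (Subgroup.mem_normalizer_iff.mp (hBU g.2) s).mp s.2.1,
          fun h => s.2.2 ((Subgroup.mem_normalizer_iff.mp (hdZ g.2) s).mpr h)⟩
        one_smul := fun s => Subtype.ext (show (1 : X) * s * 1⁻¹ = s by simp)
        mul_smul := fun g h s => Subtype.ext (show ((g : X) * h) * s * ((g : X) * h)⁻¹ =
          (g : X) * ((h : X) * s * (h : X)⁻¹) * (g : X)⁻¹ by simp [mul_assoc]) }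
    have hstab : ∀ s : S, MulAction.stabilizer (Subgroup.zpowers d) s = ⊥ := by
      intro s
      rw [eq_bot_iff]
      intro g hg
      obtain ⟨k, hk⟩ := (isOfFinOrder_of_finite d).mem_powers_iff_mem_zpowers.mpr g.2
      have h1 := hfree s (fun h => s.2.2 (hCZ ⟨s.2.1, h⟩)) k (by
        have := congrArg Subtype.val (MulAction.mem_stabilizer_iff.mp hg)
        change (g : X) * s * (g : X)⁻¹ = s at this
        simp only at hk
        rw [hk]
        exact this)
      refine Subgroup.mem_bot.mpr (Subtype.ext ?_)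
      simp only at hk
      rw [← hk, h1, Subgroup.coe_one]
    have h1 := Nat.card_congr (MulAction.selfEquivOrbitsQuotientProd hstab)
    rw [Nat.card_prod, Nat.card_zpowers, hd, Nat.card_coe_set_eq,
      Set.ncard_sdiff hZU, ← Nat.card_coe_set_eq, ← Nat.card_coe_set_eq, SetLike.coe_sort_coe, SetLike.coe_sort_coe] at h1
    exact ⟨_, h1.trans (mul_comm _ _)⟩
  have hdfix : ∀ z ∈ U, d * z * d⁻¹ = z → z = 1 := fun z hz h => by
    rw [← Subgroup.mem_bot, ← hfpf]
    exact ⟨hUP hz, Subgroup.mem_centralizer_singleton_iff.mpr (mul_inv_eq_iff_eq_mul.mp h).symm⟩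
  have hrank' : ∀ V : Subgroup X, V ≤ U → IsMulCommutative V → (∀ v ∈ V, v ^ 2 = 1) →
      Nat.card V ≤ 4 := by
    intro V hV hVc hV2
    have h := hrank V (hV.trans hUP) hVc ⊤
      ⟨⟨fun a b => Subtype.ext (hVc.is_comm.comm (a : V) b)⟩⟩ (fun a _ => Subtype.ext (hV2 a a.2))
    rw [Subgroup.card_top] at h
    exact h.trans_eq (by norm_num)
  have hUne : U ≠ ⊥ := fun h => hnt (by rw [h, Subgroup.commutator_bot_left])
  obtain ⟨k, hk⟩ := IsPGroup.iff_card.mp hU
  have h9 : 9 ∣ 3 ^ n := (pow_dvd_pow 3 hn2 : 3 ^ 2 ∣ 3 ^ n)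
  have hCder := Coprime.inf_centralizer_le_derived (hAB.trans hBU) hcopU hUA
  rcases hspec with ⟨hUc, hU2⟩ | ⟨-, hΦ, hder⟩
  · have hcard := hrank' U le_rfl hUc hU2
    have hbot : ⁅U, U⁆ = (⊥ : Subgroup X) := Subgroup.commutator_eq_bot_iff_le_centralizer.mpr
      (Subgroup.le_centralizer_iff_isMulCommutative.mpr hUc)
    have h := h9.trans (hdiv ⊥ bot_le Subgroup.le_normalizer_of_normal (hCder.trans hbot.le))
    rw [Subgroup.card_bot] at h
    have h1 : 1 < Nat.card U := U.one_lt_card_iff_ne_bot.mpr hUne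
    have := Nat.le_of_dvd (by omega) h
    omega
  · have hcen : commutator U ≤ Subgroup.center U := hder.le
    have hsqU : ∀ u : U, u ^ 2 ∈ Subgroup.center U := fun u => hΦ ▸ Core.pow_mem_frattini hU u
    have hZ2 : ∀ z : U, z ∈ Subgroup.center U → z ^ 2 = 1 := by
      intro z hz
      rw [← hder, commutator_eq_closure] at hz
      induction hz using Subgroup.closure_induction with
      | mem x hx =>
        obtain ⟨a, b, rfl⟩ := hx
        rw [← Fusion.commutatorElement_pow_left_of_le_center hcen, commutatorElement_eq_one_iff_mul_comm]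
        exact (Subgroup.mem_center_iff.mp (hsqU a) b).symm
      | one => exact one_pow 2
      | mul a b ha hb h1 h2 =>
        rw [← commutator_eq_closure] at hb
        rw [Commute.mul_pow (Subgroup.mem_center_iff.mp (hcen hb) a), h1, h2, one_mul]
      | inv a _ h1 => rw [inv_pow, h1, inv_one]
    set Z : Subgroup X := (Subgroup.center U).map U.subtype with hZdef
    have hZU : Z ≤ U := Subgroup.map_subtype_le _
    have hdZ : Subgroup.zpowers d ≤ Subgroup.normalizer (Z : Set X) :=
      LocalStructure.le_normalizer_map_characteristic hBU _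
    have hZc : IsMulCommutative Z := ⟨⟨fun a b => by
      obtain ⟨⟨a', ha', ha''⟩, ⟨b', hb', hb''⟩⟩ := And.intro a.2 b.2
      refine Subtype.ext ?_
      change (a : X) * b = b * a
      rw [← ha'', ← hb'', ← map_mul, ← map_mul, Subgroup.mem_center_iff.mp ha' b']⟩⟩
    have hZ2' : ∀ z ∈ Z, z ^ 2 = 1 := by
      rintro _ ⟨z, hz, rfl⟩
      rw [← map_pow, hZ2 z hz, map_one]
    have hZle := hrank' Z hZU hZc hZ2'
    haveI : Nontrivial U := (Subgroup.nontrivial_iff_ne_bot U).mpr hUne
    haveI := hU.center_nontrivial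
    have hZne : Z ≠ ⊥ := fun h => (Subgroup.nontrivial_iff_ne_bot _).mp inferInstance
      ((Subgroup.map_eq_bot_iff_of_injective _ U.subtype_injective).mp h)
    have hZ4 : Nat.card Z = 4 := by
      obtain ⟨j, hj⟩ := IsPGroup.iff_card.mp (hU.to_le hZU)
      rcases j with _ | _ | _ | j
      · exact absurd (Subgroup.card_eq_one.mp (by simpa using hj)) hZne
      · exfalso
        obtain ⟨z, hz, hz1⟩ := (Z.bot_or_exists_ne_one).resolve_left hZne
        have hzd : d * z * d⁻¹ ∈ Z :=
          (Subgroup.mem_normalizer_iff.mp (hdZ (Subgroup.mem_zpowers d)) z).mp hz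
        have hz1' : (⟨z, hz⟩ : Z) ≠ 1 := fun h => hz1 (congrArg Subtype.val h)
        obtain ⟨y0, -, hy0⟩ := (Nat.card_eq_two_iff' (1 : Z)).mp (show Nat.card Z = 2 by simpa using hj)
        have key : ∀ y : Z, y ≠ 1 → y = ⟨z, hz⟩ := fun y hy =>
          (hy0 y hy).trans (hy0 _ hz1').symm
        refine hz1 (hdfix z (hZU hz) ?_)
        exact congrArg Subtype.val (key ⟨_, hzd⟩ fun h => hz1
          (conj_eq_one_iff.mp (congrArg Subtype.val h)))
      · simpa using hj
      · have h2 : 2 ^ 3 ≤ 2 ^ (j + 1 + 1 + 1) := Nat.pow_le_pow_right (by norm_num) (by omega)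
        omega
    have hderZ : ⁅U, U⁆ = Z := by
      rw [← Subgroup.map_subtype_commutator, hder]
    have h := h9.trans (hdiv Z hZU hdZ (hCder.trans hderZ.le))
    rw [hZ4, hk] at h
    have hZlt : Z ≠ U := fun h => by
      refine hnt (le_bot_iff.mp ?_)
      have hc : IsMulCommutative U := h ▸ hZc
      have hbot : ⁅U, U⁆ = (⊥ : Subgroup X) := Subgroup.commutator_eq_bot_iff_le_centralizer.mpr
        (Subgroup.le_centralizer_iff_isMulCommutative.mpr hc)
      exact absurd (h ▸ hderZ ▸ hbot) hUne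
    have hk8 : 8 ≤ k := by
      have h1 : 4 < 2 ^ k := by
        rw [← hk, ← hZ4]
        exact Set.Finite.card_lt_card (Set.toFinite _) (SetLike.coe_ssubset_coe.mpr (lt_of_le_of_ne hZU hZlt))
      by_contra hlt
      interval_cases k <;> omega
    refine aux (G := U) hcen hsqU hZ2 ?_ ?_ ?_
    · rw [← hZ4, hZdef, Subgroup.card_map_of_injective U.subtype_injective]
    · rw [hk]
      exact le_trans (by norm_num) (Nat.pow_le_pow_right (show 1 ≤ 2 by norm_num) hk8)
    · intro u hu
      by_contra huZ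
      have hV : (Subgroup.center U ⊔ Subgroup.zpowers u).map U.subtype ≤ U := Subgroup.map_subtype_le _
      have hc : IsMulCommutative (Subgroup.center U ⊔ Subgroup.zpowers u : Subgroup U) :=
        Fusion.isMulCommutative_sup_of_le_centralizer inferInstance inferInstance
          (Subgroup.center_le_centralizer _)
      have h2 : ∀ v ∈ (Subgroup.center U ⊔ Subgroup.zpowers u : Subgroup U), v ^ 2 = 1 := by
        intro v hv
        rw [Subgroup.sup_eq_closure] at hv
        induction hv using Subgroup.closure_induction with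
        | mem x hx =>
          rcases hx with hx | ⟨i, rfl⟩
          · exact hZ2 x hx
          · rw [← zpow_natCast, ← zpow_mul, mul_comm, zpow_mul, zpow_natCast, hu, one_zpow]
        | one => exact one_pow 2
        | mul a b ha hb h1 h2 =>
          rw [← Subgroup.sup_eq_closure] at ha hb
          rw [Commute.mul_pow (congrArg Subtype.val (hc.is_comm.comm ⟨a, ha⟩ ⟨b, hb⟩)), h1, h2, one_mul]
        | inv a _ h1 => rw [inv_pow, h1, inv_one]
      have hle := hrank' _ hV
        ⟨⟨fun a b => by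
          obtain ⟨⟨a', ha', ha''⟩, ⟨b', hb', hb''⟩⟩ := And.intro a.2 b.2
          refine Subtype.ext ?_
          change (a : X) * b = b * a
          rw [← ha'', ← hb'', ← map_mul, ← map_mul,
            (show a' * b' = b' * a' from congrArg Subtype.val (hc.is_comm.comm ⟨a', ha'⟩ ⟨b', hb'⟩))]⟩⟩
        (by rintro _ ⟨v, hv, rfl⟩; rw [← map_pow, h2 v hv, map_one])
      have hlt : Nat.card Z < Nat.card ((Subgroup.center U ⊔ Subgroup.zpowers u).map U.subtype) := by
        refine Set.Finite.card_lt_card (Set.toFinite _) (SetLike.coe_ssubset_coe.mpr (lt_of_le_of_ne (Subgroup.map_mono le_sup_left) ?_))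
        intro he
        exact huZ ((Subgroup.map_injective U.subtype_injective he).symm.le
          (Subgroup.mem_sup_right (Subgroup.mem_zpowers u)))
      omega

end Cfsg.Agent.S3738
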