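import Cfsg.Statements.S3739
import Cfsg.Agent.S3738
import Cfsg.Agent.Core.PCore
import Cfsg.Agent.Coprime.Elementary
-- import your own Cfsg.Agent.* helpers here

set_option autoImplicit false
open Cfsg
open scoped commutatorElement Pointwise

namespace Cfsg.Agent.S3739

/-- The elements of order at most two of an abelian subgroup. -/
def elemOne {G : Type*} [Group G] (A : Subgroup G) [IsMulCommutative A] : Subgroup G where
  carrier := {x | x ∈ A ∧ x ^ 2 = 1}
  one_mem' := ⟨one_mem A, one_pow 2⟩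
  mul_mem' := fun {a b} ha hb => ⟨mul_mem ha.1 hb.1, by
    have hc : Commute a b := congrArg Subtype.val
      (IsMulCommutative.is_comm.comm (⟨a, ha.1⟩ : A) ⟨b, hb.1⟩)
    rw [hc.mul_pow, ha.2, hb.2, one_mul]⟩
  inv_mem' := fun {a} ha => ⟨inv_mem ha.1, by rw [inv_pow, ha.2, inv_one]⟩

variable {G : Type*} [Group G] [Finite G]

theorem card_four_cases {Z : Subgroup G} (h4 : Nat.card Z = 4) {w a : G} (hw : w ∈ Z) (hw1 : w ≠ 1)
    (hwa : w * w = 1) (ha : a ∈ Z) (ha1 : a ≠ 1) (haw : a ≠ w) {b : G} (hb : b ∈ Z) :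
    b = 1 ∨ b = w ∨ b = a ∨ b = w * a := by
  classical
  by_contra hne
  push Not at hne
  have hsub : ({1, w, a, w * a, b} : Finset G) ⊆ (Z : Set G).toFinite.toFinset := by
    intro g hg
    simp only [Finset.mem_insert, Finset.mem_singleton] at hg
    rw [Set.Finite.mem_toFinset, SetLike.mem_coe]
    rcases hg with rfl | rfl | rfl | rfl | rfl
    exacts [one_mem Z, hw, ha, mul_mem hw ha, hb]
  have h1 : w * a ≠ 1 := fun h => haw (by
    calc a = w * (w * a) := by rw [← mul_assoc, hwa, one_mul]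
      _ = w := by rw [h, mul_one])
  have h2 : w * a ≠ w := fun h => ha1 (mul_eq_left.mp h)
  have h3 : w * a ≠ a := fun h => hw1 (mul_eq_right.mp h)
  have hcard := Finset.card_le_card hsub
  rw [← Set.ncard_eq_toFinset_card, ← Nat.card_coe_set_eq, SetLike.coe_sort_coe, h4] at hcard
  rw [Finset.card_insert_of_notMem (by simp [Ne.symm hw1, Ne.symm ha1, Ne.symm h1, Ne.symm hne.1]),
    Finset.card_insert_of_notMem (by simp [Ne.symm haw, Ne.symm h2, Ne.symm hne.2.1]),
    Finset.card_insert_of_notMem (by simp [Ne.symm h3, Ne.symm hne.2.2.1]),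
    Finset.card_insert_of_notMem (by simp [Ne.symm hne.2.2.2]), Finset.card_singleton] at hcard
  omega

/-- An element of order dividing three fixing a nontrivial element of a four-group centralizes it. -/
theorem centralizes_of_fix {Z : Subgroup G} [Z.Normal] (h4 : Nat.card Z = 4) {w x : G} (hw : w ∈ Z)
    (hw1 : w ≠ 1) (hxw : x * w = w * x) (hx : x ^ 3 = 1) : x ∈ Subgroup.centralizer (Z : Set G) := by
  rw [Subgroup.mem_centralizer_iff]
  intro a ha
  by_cases ha1 : a = 1
  · simp [ha1]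
  by_cases haw : a = w
  · rw [haw]; exact hxw.symm
  have hb : x * a * x⁻¹ ∈ Z := Subgroup.Normal.conj_mem inferInstance a ha x
  have hfixw : x * w * x⁻¹ = w := mul_inv_eq_iff_eq_mul.mpr hxw
  by_cases hwa : w * w = 1
  · rcases card_four_cases h4 hw hw1 hwa ha ha1 haw hb with h | h | h | h
    · exact absurd (conj_eq_one_iff.mp h) ha1
    · exact absurd (mul_left_cancel (mul_right_cancel (h.trans hfixw.symm))) haw
    · exact (mul_inv_eq_iff_eq_mul.mp h).symm
    · exfalso
      have h2 : x ^ 2 * a * (x ^ 2)⁻¹ = a := by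
        calc x ^ 2 * a * (x ^ 2)⁻¹ = x * (x * a * x⁻¹) * x⁻¹ := by simp [sq, mul_assoc]
          _ = x * (w * a) * x⁻¹ := by rw [h]
          _ = (x * w * x⁻¹) * (x * a * x⁻¹) := by simp [mul_assoc]
          _ = a := by rw [hfixw, h, ← mul_assoc, hwa, one_mul]
      have h3 : x * a * x⁻¹ = a := by
        conv_rhs => rw [show a = x ^ 3 * a * (x ^ 3)⁻¹ by simp [hx]]
        rw [show x ^ 3 * a * (x ^ 3)⁻¹ = x * (x ^ 2 * a * (x ^ 2)⁻¹) * x⁻¹ by
          rw [pow_succ' x 2]; simp [mul_assoc], h2]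
      exact hw1 (mul_eq_right.mp (h.symm.trans h3))
  · have hord : orderOf w = 4 := by
      have h1 := Subgroup.orderOf_dvd_natCard _ hw
      rw [h4] at h1
      have h2 : orderOf w ≤ 4 := Nat.le_of_dvd (by norm_num) h1
      have h3 : orderOf w ≠ 1 := fun h => hw1 (orderOf_eq_one_iff.mp h)
      have h5 : orderOf w ≠ 2 := fun h => hwa (by rw [← sq, ← h]; exact pow_orderOf_eq_one w)
      interval_cases orderOf w <;> omega
    have hgen : Subgroup.zpowers w = Z := Subgroup.eq_of_le_of_card_ge (Subgroup.zpowers_le.mpr hw)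
      (by rw [Nat.card_zpowers, hord, h4])
    obtain ⟨i, hi⟩ := (hgen.symm ▸ ha : a ∈ Subgroup.zpowers w)
    exact (show Commute x a from hi ▸ (show Commute x w from hxw).zpow_right i).symm.eq

/-- An involution not centralizing a four-group fixes exactly one of its involutions. -/
theorem exists_unique_fixed {Z : Subgroup G} [Z.Normal] {i : G} (hZ : Cfsg.IsElementaryAbelian 2 Z)
    (h4 : Nat.card Z = 4) (hi : i ^ 2 = 1) (hiC : i ∉ Subgroup.centralizer (Z : Set G)) :
    ∃ w ∈ Z, w ≠ 1 ∧ i * w * i⁻¹ = w ∧ ∀ v ∈ Z, v ≠ 1 → i * v * i⁻¹ = v → v = w := by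
  obtain ⟨a, ha, hia⟩ : ∃ a ∈ Z, i * a * i⁻¹ ≠ a := by
    by_contra h
    push Not at h
    exact hiC (Subgroup.mem_centralizer_iff.mpr fun z hz => (mul_inv_eq_iff_eq_mul.mp (h z hz)).symm)
  have hb : i * a * i⁻¹ ∈ Z := Subgroup.Normal.conj_mem inferInstance a ha i
  have ha1 : a ≠ 1 := fun h => hia (by simp [h])
  have hc : Commute a (i * a * i⁻¹) := congrArg Subtype.val
    (hZ.1.is_comm.comm (⟨a, ha⟩ : Z) ⟨_, hb⟩)
  have hw1 : a * (i * a * i⁻¹) ≠ 1 := fun h => hia (by
    have haa : a * a = 1 := by rw [← sq]; exact hZ.2 a ha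
    exact (eq_inv_of_mul_eq_one_right h).trans (inv_eq_of_mul_eq_one_right haa))
  have hfix : i * (a * (i * a * i⁻¹)) * i⁻¹ = a * (i * a * i⁻¹) := by
    have hii : i * i = 1 := by rw [← sq, hi]
    have hinv : i⁻¹ = i := inv_eq_of_mul_eq_one_right hii
    rw [hc.eq]
    calc i * (i * a * i⁻¹ * a) * i⁻¹ = i * i * a * i⁻¹ * a * i⁻¹ := by simp [mul_assoc]
      _ = a * (i * a * i⁻¹) := by rw [hii, hinv]; simp [mul_assoc]
      _ = i * a * i⁻¹ * a := hc.eq
  refine ⟨_, mul_mem ha hb, hw1, hfix, fun v hv hv1 hiv => ?_⟩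
  have hwa : a * a = 1 := by rw [← sq]; exact hZ.2 a ha
  have hne : i * a * i⁻¹ ≠ 1 := fun h => ha1 (conj_eq_one_iff.mp h)
  rcases card_four_cases h4 ha ha1 hwa hb hne hia hv with h | h | h | h
  · exact absurd h hv1
  · exact absurd (h ▸ hiv) hia
  · exfalso
    refine hia ?_
    subst h
    exact mul_left_cancel (mul_right_cancel hiv)
  · exact h

/-- A four-group acting on a four-group has a nontrivial element acting trivially. -/
theorem exists_centralizing {Z W : Subgroup G} [Z.Normal] (h4 : Nat.card Z = 4)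
    (hW : Cfsg.IsElementaryAbelian 2 W) (hW4 : Nat.card W = 4) :
    ∃ w ∈ W, w ≠ 1 ∧ w ∈ Subgroup.centralizer (Z : Set G) := by
  classical
  by_contra hne
  push Not at hne
  let θ : W →* MulAut Z := (Subgroup.normalizerMonoidHom Z).comp
    (Subgroup.inclusion Subgroup.le_normalizer_of_normal)
  have hinj : Function.Injective θ := by
    rw [← MonoidHom.ker_eq_bot_iff, eq_bot_iff]
    intro w hw
    refine Subgroup.mem_bot.mpr ?_
    by_contra h1
    refine hne w w.2 (fun h => h1 (Subtype.ext h)) (Subgroup.mem_centralizer_iff.mpr fun z hz => ?_)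
    have := congrArg (fun e : MulAut Z => ((e ⟨z, hz⟩ : Z) : G)) (MonoidHom.mem_ker.mp hw)
    exact (mul_inv_eq_iff_eq_mul.mp this).symm
  let ev : MulAut Z → Equiv.Perm {z : Z // z ≠ 1} := fun e =>
    e.toEquiv.subtypeEquiv fun z => by simp
  have hev : Function.Injective ev := by
    intro e e' h
    apply MulEquiv.ext
    intro z
    by_cases hz : z = 1
    · simp [hz]
    · exact congrArg Subtype.val (Equiv.congr_fun h ⟨z, hz⟩)
  have hdvd : Nat.card W ∣ Nat.card (Equiv.Perm {z : Z // z ≠ 1}) := by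
    let ρ : MulAut Z →* Equiv.Perm {z : Z // z ≠ 1} :=
      { toFun := ev, map_one' := Equiv.ext fun _ => rfl, map_mul' := fun _ _ => Equiv.ext fun _ => rfl }
    exact Subgroup.card_dvd_of_injective (ρ.comp θ) (hev.comp hinj)
  have h3 : Nat.card {z : Z // z ≠ 1} = 3 := by
    haveI := Fintype.ofFinite Z
    rw [Nat.card_eq_fintype_card, Fintype.card_subtype_compl, Fintype.card_subtype_eq,
      ← Nat.card_eq_fintype_card, h4]
  rw [Nat.card_perm, h3, hW4] at hdvd
  norm_num [Nat.factorial] at hdvd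

/-- An element of order three commuting with `d` and centralizing `Z` centralizes the `2`-group. -/
theorem main {P Z : Subgroup G} {d y : G} (hP : IsPGroup 2 P) (hd : IsPGroup 3 (Subgroup.zpowers d))
    (hy : orderOf y = 3) (hyd : Commute y d) (hdP : d ∈ Subgroup.normalizer (P : Set G))
    (hyP : y ∈ Subgroup.normalizer (P : Set G)) (hZP : Z ≤ P) (hZ4 : Nat.card Z = 4)
    (hZ : Cfsg.IsElementaryAbelian 2 Z) (hinv : ∀ v ∈ P, v ^ 2 = 1 → v ∈ Z)
    (hdfix : ∀ v ∈ Z, d * v * d⁻¹ = v → v = 1) (hdZ : d ∈ Subgroup.normalizer (Z : Set G))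
    (hyZ : y ∈ Subgroup.centralizer (Z : Set G)) : y ∈ Subgroup.centralizer (P : Set G) := by
  classical
  haveI : Fact (Nat.Prime 2) := ⟨Nat.prime_two⟩
  haveI : Fact (Nat.Prime 3) := ⟨Nat.prime_three⟩
  set B : Subgroup G := Subgroup.zpowers d ⊔ Subgroup.zpowers y with hB
  have hBp : IsPGroup 3 B := by
    refine hd.to_sup_of_normal_left' (IsPGroup.of_card (n := 1) (by rw [Nat.card_zpowers, hy, pow_one])) ?_
    refine (Subgroup.zpowers_le.mpr (Subgroup.mem_centralizer_iff.mpr ?_)).trans (Subgroup.centralizer_le_normalizer _)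
    rintro _ ⟨i, rfl⟩
    exact (hyd.symm.zpow_left i).eq
  by_contra hne
  obtain ⟨U, ⟨hUP, hdU, hyU, hne'⟩, hUmin⟩ := exists_minimal_of_wellFoundedLT
    (fun U : Subgroup G => U ≤ P ∧ d ∈ Subgroup.normalizer (U : Set G) ∧
      y ∈ Subgroup.normalizer (U : Set G) ∧ y ∉ Subgroup.centralizer (U : Set G))
    ⟨P, le_rfl, hdP, hyP, hne⟩
  have hU : IsPGroup 2 U := hP.to_le hUP
  have hBU : B ≤ Subgroup.normalizer (U : Set G) :=
    sup_le (Subgroup.zpowers_le.mpr hdU) (Subgroup.zpowers_le.mpr hyU)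
  have hBy : B ≤ Subgroup.normalizer (Subgroup.zpowers y : Set G) := by
    refine sup_le ((Subgroup.zpowers_le.mpr (Subgroup.mem_centralizer_iff.mpr ?_)).trans
      (Subgroup.centralizer_le_normalizer _)) Subgroup.le_normalizer
    rintro _ ⟨i, rfl⟩
    exact (hyd.zpow_left i).eq
  have hcop : (Nat.card (Subgroup.zpowers y)).Coprime 2 := by rw [Nat.card_zpowers, hy]; norm_num
  have hnt : ⁅U, Subgroup.zpowers y⁆ ≠ ⊥ := fun h => hne'
    ((Subgroup.commutator_eq_bot_iff_le_centralizer.mp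
      (by rw [Subgroup.commutator_comm]; exact h)) (Subgroup.mem_zpowers y))
  have hmin : ∀ W : Subgroup G, W < U → B ≤ Subgroup.normalizer (W : Set G) →
      ⁅W, Subgroup.zpowers y⁆ = ⊥ := by
    intro W hW hBW
    rw [Subgroup.commutator_comm, Subgroup.commutator_eq_bot_iff_le_centralizer, Subgroup.zpowers_le]
    by_contra h
    exact hW.not_ge (hUmin ⟨hW.le.trans hUP, hBW (Subgroup.mem_sup_left (Subgroup.mem_zpowers d)),
      hBW (Subgroup.mem_sup_right (Subgroup.mem_zpowers y)), h⟩ hW.le)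
  obtain ⟨hUA, hspec, -, -⟩ :=
    S3736.result (p := 2) B (Subgroup.zpowers y) U hU hBU le_sup_right hBy hcop hnt hmin
  rcases hspec with ⟨-, hU2⟩ | ⟨-, hΦ, hder⟩
  · refine hne' (Subgroup.mem_centralizer_iff.mpr fun u hu => ?_)
    exact Subgroup.mem_centralizer_iff.mp hyZ u (hinv u (hUP hu) (hU2 u hu))
  have hcen : commutator U ≤ Subgroup.center U := hder.le
  have hsqU : ∀ u : U, u ^ 2 ∈ Subgroup.center U := fun u => hΦ ▸ Core.pow_mem_frattini hU u
  have hZ2 : ∀ z : U, z ∈ Subgroup.center U → z ^ 2 = 1 := by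
    intro z hz
    rw [← hder, commutator_eq_closure] at hz
    induction hz using Subgroup.closure_induction with
    | mem x hx =>
      obtain ⟨a, b, rfl⟩ := hx
      rw [← Fusion.commutatorElement_pow_left_of_le_center hcen, commutatorElement_eq_one_iff_mul_comm]
      exact (Subgroup.mem_center_iff.mp (hsqU a) b).symm
    | one => exact one_pow 2
    | mul a b ha hb h1 h2 =>
      rw [← commutator_eq_closure] at hb
      rw [Commute.mul_pow (Subgroup.mem_center_iff.mp (hcen hb) a), h1, h2, one_mul]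
    | inv a _ h1 => rw [inv_pow, h1, inv_one]
  set Z' : Subgroup G := (Subgroup.center U).map U.subtype with hZ'def
  have hZ'U : Z' ≤ U := Subgroup.map_subtype_le _
  have hZ'Z : Z' ≤ Z := by
    rintro _ ⟨z, hz, rfl⟩
    exact hinv _ (hUP z.2) (congrArg Subtype.val (hZ2 z hz))
  have hBZ' : B ≤ Subgroup.normalizer (Z' : Set G) :=
    LocalStructure.le_normalizer_map_characteristic hBU _
  haveI : Nontrivial U := (Subgroup.nontrivial_iff_ne_bot U).mpr
    (fun h => hnt (by rw [h, Subgroup.commutator_bot_left]))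
  haveI := hU.center_nontrivial
  have hZ'eq : Z' = Z := by
    refine Subgroup.eq_of_le_of_card_ge hZ'Z ?_
    obtain ⟨j, hj⟩ := IsPGroup.iff_card.mp (hU.to_le hZ'U)
    rcases j with _ | _ | j
    · exact absurd ((Subgroup.map_eq_bot_iff_of_injective _ U.subtype_injective).mp
        (Subgroup.card_eq_one.mp (hj.trans (pow_zero 2))))
        ((Subgroup.nontrivial_iff_ne_bot _).mp inferInstance)
    · exfalso
      have hj2 : Nat.card Z' = 2 := by simpa using hj
      obtain ⟨z0, -, huniq⟩ := (Nat.card_eq_two_iff' (1 : Z')).mp hj2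
      obtain ⟨z, hz, hz1⟩ := Z'.bot_or_exists_ne_one.resolve_left fun h => by
        rw [h, Subgroup.card_bot] at hj2
        omega
      have hdz : d * z * d⁻¹ ∈ Z' := (Subgroup.mem_normalizer_iff.mp
        (hBZ' (Subgroup.mem_sup_left (Subgroup.mem_zpowers d))) z).mp hz
      refine hz1 (hdfix z (hZ'Z hz) ?_)
      exact congrArg Subtype.val ((huniq ⟨_, hdz⟩ fun h => hz1 (conj_eq_one_iff.mp (congrArg Subtype.val h))).trans
        (huniq ⟨z, hz⟩ fun h => hz1 (congrArg Subtype.val h)).symm)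
    · rw [hj, hZ4]
      exact (by norm_num : 4 = 2 ^ 2).le.trans (Nat.pow_le_pow_right (by norm_num) (by omega))
  have hcopU : (Nat.card (Subgroup.zpowers y)).Coprime (Nat.card U) := by
    obtain ⟨k, hk⟩ := IsPGroup.iff_card.mp hU
    rw [hk]
    exact hcop.pow_right k
  have hfix : ∀ u ∈ U, y * u * y⁻¹ = u → u ∈ Z := by
    intro u hu h
    rw [← hZ'eq]
    have h1 := Coprime.inf_centralizer_le_derived (Subgroup.zpowers_le.mpr hyU) hcopU hUA
      ⟨hu, Subgroup.mem_centralizer_iff.mpr (by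
        rintro _ ⟨i, rfl⟩
        exact (Commute.zpow_left (mul_inv_eq_iff_eq_mul.mp h : Commute y u) i).eq)⟩
    rwa [← Subgroup.map_subtype_commutator, hder] at h1
  have hyB : y ∈ B := Subgroup.mem_sup_right (Subgroup.mem_zpowers y)
  have hdB : d ∈ B := Subgroup.mem_sup_left (Subgroup.mem_zpowers d)
  let S : Set G := (U : Set G) \ Z'
  letI : MulAction B S :=
    { smul := fun g s => ⟨(g : G) * s * (g : G)⁻¹,
        (Subgroup.mem_normalizer_iff.mp (hBU g.2) s).mp s.2.1,
        fun h => s.2.2 ((Subgroup.mem_normalizer_iff.mp (hBZ' g.2) s).mpr h)⟩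
      one_smul := fun s => Subtype.ext (show (1 : G) * s * 1⁻¹ = s by simp)
      mul_smul := fun g h s => Subtype.ext (show ((g : G) * h) * s * ((g : G) * h)⁻¹ =
        (g : G) * ((h : G) * s * (h : G)⁻¹) * (g : G)⁻¹ by simp [mul_assoc]) }
  have hsmul : ∀ (g : B) (s : S), ((g • s : S) : G) = (g : G) * s * (g : G)⁻¹ := fun g s => rfl
  have horb : ∀ s : S, 9 ∣ Nat.card (MulAction.orbit B s) := by
    intro s
    obtain ⟨j, hj⟩ := hBp.card_orbit s
    rw [hj]
    rcases j with _ | _ | j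
    · exfalso
      haveI := (Nat.card_eq_one_iff_unique.mp (by simpa using hj : Nat.card (MulAction.orbit B s) = 1)).1
      have h1 : (⟨(⟨y, hyB⟩ : B) • s, MulAction.mem_orbit s _⟩ : MulAction.orbit B s) =
        ⟨s, MulAction.mem_orbit_self s⟩ := Subsingleton.elim _ _
      have h2 := congrArg (fun q : MulAction.orbit B s => ((q : S) : G)) h1
      exact s.2.2 (hZ'eq.symm ▸ hfix s s.2.1 h2)
    · exfalso
      set y' : B := ⟨y, hyB⟩ with hy'
      set d' : B := ⟨d, hdB⟩ with hd'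
      have hne1 : y' • s ≠ s := fun h => s.2.2 (hZ'eq.symm ▸ hfix s s.2.1 (congrArg Subtype.val h))
      have hy'3 : y' ^ 3 = 1 := Subtype.ext (by rw [Subgroup.coe_pow]; exact hy ▸ pow_orderOf_eq_one y)
      have hne2 : y' • y' • s ≠ s := fun h => hne1 (by
        calc y' • s = y' • (y' • y' • s) := by rw [h]
          _ = s := by rw [smul_smul, smul_smul, ← pow_three', hy'3, one_smul])
      have hfin : (MulAction.orbit B s).Finite := Set.toFinite _
      have hsub : ({s, y' • s, y' • y' • s} : Finset S) ⊆ hfin.toFinset := by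
        intro q hq
        simp only [Finset.mem_insert, Finset.mem_singleton] at hq
        rw [Set.Finite.mem_toFinset]
        rcases hq with h0 | h0 | h0 <;> subst h0
        · exact MulAction.mem_orbit_self _
        · exact MulAction.mem_orbit _ y'
        · rw [smul_smul]; exact MulAction.mem_orbit _ _
      have hnc : y' • s ≠ y' • y' • s := fun h => hne1 (smul_left_cancel y' h).symm
      have heq := Finset.eq_of_subset_of_card_le hsub (by
        rw [← Set.ncard_eq_toFinset_card, ← Nat.card_coe_set_eq, hj,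
          Finset.card_insert_of_notMem (by simp [Ne.symm hne1, Ne.symm hne2]),
          Finset.card_insert_of_notMem (by simp [hnc]), Finset.card_singleton]
        norm_num)
      have hmem : d' • s ∈ hfin.toFinset := by
        rw [Set.Finite.mem_toFinset]
        exact MulAction.mem_orbit s d'
      rw [← heq] at hmem
      simp only [Finset.mem_insert, Finset.mem_singleton] at hmem
      have hs2 : ((s : G)) ^ 2 ∈ Z := by
        rw [← hZ'eq]
        exact ⟨_, hsqU ⟨s, s.2.1⟩, rfl⟩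
      have hyfix : ∀ v ∈ Z, y * v * y⁻¹ = v := fun v hv =>
        mul_inv_eq_iff_eq_mul.mpr (Subgroup.mem_centralizer_iff.mp hyZ v hv).symm
      have hdd : d * ((s : G)) ^ 2 * d⁻¹ = ((s : G)) ^ 2 := by
        rw [← conj_pow]
        rcases hmem with h | h | h <;> (have h' := congrArg (fun q : S => (q : G)) h; simp only [hsmul] at h')
        · rw [h']
        · rw [h', conj_pow, hyfix _ hs2]
        · rw [h', conj_pow, conj_pow, hyfix _ hs2, hyfix _ hs2]
      exact s.2.2 (hZ'eq.symm ▸ hinv _ (hUP s.2.1) (hdfix _ hs2 hdd))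
    · exact ⟨3 ^ j, by ring⟩
  have h9 : 9 ∣ Nat.card U - Nat.card Z' := by
    have h1 := Nat.card_congr (MulAction.selfEquivSigmaOrbits B S)
    haveI := Fintype.ofFinite (Quotient (MulAction.orbitRel B S))
    rw [Nat.card_sigma, Nat.card_coe_set_eq, Set.ncard_sdiff hZ'U, ← Nat.card_coe_set_eq,
      ← Nat.card_coe_set_eq, SetLike.coe_sort_coe, SetLike.coe_sort_coe] at h1
    rw [h1]
    exact Finset.dvd_sum fun ω _ => horb _
  rw [hZ'eq, hZ4] at h9
  obtain ⟨k, hk⟩ := IsPGroup.iff_card.mp hU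
  rw [hk] at h9
  have hk8 : 8 ≤ k := by
    have h1 : 4 < 2 ^ k := by
      rw [← hk, ← hZ4, ← hZ'eq]
      refine Set.Finite.card_lt_card (Set.toFinite _) (SetLike.coe_ssubset_coe.mpr (lt_of_le_of_ne hZ'U ?_))
      intro he
      refine hne' (Subgroup.mem_centralizer_iff.mpr fun u hu => ?_)
      exact Subgroup.mem_centralizer_iff.mp hyZ u (hZ'Z (he.symm ▸ hu))
    by_contra hlt
    interval_cases k <;> omega
  refine S3738.aux (G := U) hcen hsqU hZ2 ?_ ?_ ?_
  · rw [← hZ4, ← hZ'eq, hZ'def, Subgroup.card_map_of_injective U.subtype_injective]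
  · rw [hk]
    exact le_trans (by norm_num) (Nat.pow_le_pow_right (show 1 ≤ 2 by norm_num) hk8)
  · intro u hu
    have h1 : (u : G) ∈ Z' := hZ'eq.symm ▸ hinv _ (hUP u.2) (congrArg Subtype.val hu)
    exact (Subgroup.mem_map_iff_mem U.subtype_injective).mp h1


/-- Let G be a finite group with C_G(O₂(G)) ≤ O₂(G) containing an element of order 6, and let d be a non-identity 3-element of G normalizing a nontrivial elementary abelian 2-subgroup W with C_W(d) = 1. Then G has an elementary abelian subgroup of order 8. -/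
theorem result {G : Type*} [Group G] [Finite G] (hchar : Subgroup.centralizer (Cfsg.pCore 2 G : Set G) ≤ Cfsg.pCore 2 G) (hsix : ∃ g : G, orderOf g = 6) (d : G) (hd1 : d ≠ 1) (hd : IsPGroup 3 ↥(Subgroup.zpowers d)) (W : Subgroup G) (hW : Cfsg.IsElementaryAbelian 2 W) (hW1 : W ≠ ⊥) (hdW : d ∈ Subgroup.normalizer (W : Set G)) (hfpf : W ⊓ Subgroup.centralizer {d} = ⊥) : ∃ E : Subgroup G, Cfsg.IsElementaryAbelian 2 E ∧ Nat.card E = 8 := by
  classical
  haveI : Fact (Nat.Prime 2) := ⟨Nat.prime_two⟩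
  haveI : Fact (Nat.Prime 3) := ⟨Nat.prime_three⟩
  by_contra hno
  push Not at hno
  have hle4 : ∀ E : Subgroup G, Cfsg.IsElementaryAbelian 2 E → Nat.card E ≤ 4 := by
    intro E hE
    by_contra h
    obtain ⟨m, hm⟩ := Coprime.ea_card hE
    have h3 : 2 ^ 3 ≤ Nat.card E := by
      rw [hm] at h ⊢
      refine Nat.pow_le_pow_right (by norm_num) ?_
      by_contra h'
      interval_cases m <;> omega
    obtain ⟨B, hB, hBc⟩ := Coprime.ea_exists_le_card h3 hE
    exact hno B (Coprime.ea_mono hE hB) (by rw [hBc]; norm_num)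
  set P : Subgroup G := Cfsg.pCore 2 G with hPdef
  have hP : IsPGroup 2 P := Core.pCore_isPGroup
  haveI hPn : P.Normal := inferInstance
  obtain ⟨g, hg⟩ := hsix
  have hPne : P ≠ ⊥ := fun h => by
    have h2 : g ∈ (⊥ : Subgroup G) := h ▸ hchar (by
      rw [h, Subgroup.mem_centralizer_iff]
      intro y hy
      rw [Subgroup.mem_bot.mp hy, one_mul, mul_one])
    rw [Subgroup.mem_bot.mp h2, orderOf_one] at hg
    omega
  set Z : Subgroup G := (elemOne (Subgroup.center P)).map P.subtype with hZdef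
  have hZ : Cfsg.IsElementaryAbelian 2 Z := by
    refine ⟨⟨⟨fun a b => Subtype.ext ?_⟩⟩, ?_⟩
    · obtain ⟨⟨a', ha', ha''⟩, ⟨b', hb', hb''⟩⟩ := And.intro a.2 b.2
      change (a : G) * b = b * a
      rw [← ha'', ← hb'', ← map_mul, ← map_mul, Subgroup.mem_center_iff.mp ha'.1 b']
    · rintro _ ⟨a, ha, rfl⟩
      rw [← map_pow, show a ^ 2 = 1 from ha.2, map_one]
  have hZP : Z ≤ P := Subgroup.map_subtype_le _
  have hZmem : ∀ v ∈ Z, ∀ p ∈ P, p * v = v * p := by
    rintro _ ⟨v, hv, rfl⟩ p hp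
    exact congrArg Subtype.val (Subgroup.mem_center_iff.mp hv.1 ⟨p, hp⟩)
  haveI hZn : Z.Normal := ⟨by
    rintro _ ⟨v, hv, rfl⟩ a
    refine ⟨⟨a * v * a⁻¹, hPn.conj_mem v v.2 a⟩, ⟨?_, ?_⟩, rfl⟩
    · rw [Subgroup.mem_center_iff]
      intro q
      apply Subtype.ext
      change (q : G) * (a * v * a⁻¹) = a * v * a⁻¹ * q
      have := congrArg Subtype.val (Subgroup.mem_center_iff.mp hv.1 ⟨a⁻¹ * q * a, by
        simpa using hPn.conj_mem (q : G) q.2 a⁻¹⟩)
      change a⁻¹ * (q : G) * a * v = v * (a⁻¹ * q * a) at this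
      calc (q : G) * (a * v * a⁻¹) = a * (a⁻¹ * q * a * v) * a⁻¹ := by simp [mul_assoc]
        _ = a * v * a⁻¹ * q := by rw [this]; simp [mul_assoc]
    · apply Subtype.ext
      change (a * (v : G) * a⁻¹) ^ 2 = 1
      rw [conj_pow, show (v : G) ^ 2 = 1 from congrArg Subtype.val hv.2, mul_one, mul_inv_cancel]⟩
  have hZne : Z ≠ ⊥ := by
    haveI : Nontrivial P := (Subgroup.nontrivial_iff_ne_bot P).mpr hPne
    haveI := hP.center_nontrivial
    obtain ⟨z, hz⟩ := exists_prime_orderOf_dvd_card' (G := Subgroup.center P) 2 (by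
      obtain ⟨k, hk⟩ := IsPGroup.iff_card.mp (hP.to_subgroup (Subgroup.center P))
      rw [hk]
      refine dvd_pow_self 2 fun h0 => ?_
      rw [h0, pow_zero, Nat.card_eq_one_iff_unique] at hk
      exact not_subsingleton _ hk.1)
    intro h
    have h1 : ((z : P) : G) ∈ Z := ⟨(z : P), ⟨z.2, by
      rw [← hz, ← Subgroup.coe_pow, pow_orderOf_eq_one, Subgroup.coe_one]⟩, rfl⟩
    rw [h, Subgroup.mem_bot] at h1
    have : orderOf ((z : P) : G) = 2 := by rw [Subgroup.orderOf_coe, Subgroup.orderOf_coe, hz]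
    rw [h1, orderOf_one] at this
    omega
  -- an elementary abelian subgroup commuting with `Z`
  have hsupEA : ∀ E : Subgroup G, Cfsg.IsElementaryAbelian 2 E →
      E ≤ Subgroup.centralizer (Z : Set G) → Cfsg.IsElementaryAbelian 2 (E ⊔ Z : Subgroup G) := by
    intro E hE hc
    haveI := hE.1
    haveI := hZ.1
    have hcomm := Fusion.isMulCommutative_sup_of_le_centralizer hE.1 hZ.1 hc
    refine ⟨hcomm, fun a ha => ?_⟩
    rw [Subgroup.sup_eq_closure] at ha
    induction ha using Subgroup.closure_induction with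
    | mem x hx => exact hx.elim (hE.2 x) (hZ.2 x)
    | one => exact one_pow 2
    | mul x y hx hy h1 h2 =>
      rw [← Subgroup.sup_eq_closure] at hx hy
      rw [Commute.mul_pow (congrArg Subtype.val (hcomm.is_comm.comm ⟨x, hx⟩ ⟨y, hy⟩)), h1, h2, one_mul]
    | inv x _ h1 => rw [inv_pow, h1, inv_one]
  have hWd : ∀ w ∈ W, d * w * d⁻¹ = w → w = 1 := fun w hw h => by
    rw [← Subgroup.mem_bot, ← hfpf]
    exact ⟨hw, Subgroup.mem_centralizer_singleton_iff.mpr (mul_inv_eq_iff_eq_mul.mp h).symm⟩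
  have hWle := hle4 W hW
  -- a `d`-invariant subgroup of order two in `W` is impossible
  have hW2 : ∀ V : Subgroup G, V ≤ W → (∀ v ∈ V, d * v * d⁻¹ ∈ V) → Nat.card V ≠ 2 := by
    intro V hVW hVd hcard
    obtain ⟨v0, -, huniq⟩ := (Nat.card_eq_two_iff' (1 : V)).mp hcard
    have hv0 : (v0 : V) ≠ 1 := fun h => by
      obtain ⟨a, b, hab, -⟩ := Nat.card_eq_two_iff.mp hcard
      by_cases ha : a = 1
      · exact (fun hb => hb ((huniq b hb).trans h)) (fun hb => hab (ha.trans hb.symm))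
      · exact ha ((huniq a ha).trans h)
    refine hv0 (Subtype.ext (hWd _ (hVW v0.2) ?_))
    exact congrArg Subtype.val (huniq ⟨_, hVd _ v0.2⟩ fun h =>
      hv0 (Subtype.ext (conj_eq_one_iff.mp (congrArg Subtype.val h))))
  have hdWmem : ∀ v ∈ W, d * v * d⁻¹ ∈ W := fun v hv => (Subgroup.mem_normalizer_iff.mp hdW v).mp hv
  have hW4 : Nat.card W = 4 := by
    obtain ⟨m, hm⟩ := Coprime.ea_card hW
    rcases m with _ | _ | _ | m
    · exact absurd (Subgroup.card_eq_one.mp (by simpa using hm)) hW1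
    · exact absurd (by simpa using hm) (hW2 W le_rfl hdWmem)
    · simpa using hm
    · have h2 : 2 ^ 3 ≤ 2 ^ (m + 1 + 1 + 1) := Nat.pow_le_pow_right (by norm_num) (by omega)
      omega
  have hZ4 : Nat.card Z = 4 := by
    have h := hle4 Z hZ
    obtain ⟨m, hm⟩ := Coprime.ea_card hZ
    rcases m with _ | _ | _ | m
    · exact absurd (Subgroup.card_eq_one.mp (by simpa using hm)) hZne
    · exfalso
      have hm2 : Nat.card Z = 2 := by simpa using hm
      obtain ⟨z0, -, huniq⟩ := (Nat.card_eq_two_iff' (1 : Z)).mp hm2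
      have hcent : W ≤ Subgroup.centralizer (Z : Set G) := by
        intro w _
        rw [Subgroup.mem_centralizer_iff]
        intro z hz
        by_cases hz1 : z = 1
        · simp [hz1]
        have h1 := huniq ⟨w * z * w⁻¹, hZn.conj_mem z hz w⟩ fun h =>
          hz1 (conj_eq_one_iff.mp (congrArg Subtype.val h))
        have h2 := huniq ⟨z, hz⟩ fun h => hz1 (congrArg Subtype.val h)
        exact (mul_inv_eq_iff_eq_mul.mp (congrArg Subtype.val (h1.trans h2.symm))).symm
      have hZW : Z ≤ W := by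
        have h1 := Subgroup.eq_of_le_of_card_ge (le_sup_left : W ≤ W ⊔ Z)
          ((hle4 _ (hsupEA W hW hcent)).trans hW4.ge)
        exact h1 ▸ le_sup_right
      exact hW2 Z hZW (fun v hv => hZn.conj_mem v hv d) hm2
    · simpa using hm
    · have h2 : 2 ^ 3 ≤ 2 ^ (m + 1 + 1 + 1) := Nat.pow_le_pow_right (by norm_num) (by omega)
      omega
  have hCinv : ∀ v, v ∈ Subgroup.centralizer (Z : Set G) → v ^ 2 = 1 → v ∈ Z := by
    intro v hv hv2
    have hE : Cfsg.IsElementaryAbelian 2 (Subgroup.zpowers v) :=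
      ⟨inferInstance, by rintro _ ⟨i, rfl⟩; rw [← zpow_natCast, ← zpow_mul, mul_comm, zpow_mul,
        zpow_natCast, hv2, one_zpow]⟩
    have h1 := hle4 _ (hsupEA _ hE (Subgroup.zpowers_le.mpr hv))
    have h2 := Subgroup.eq_of_le_of_card_ge (le_sup_right : Z ≤ Subgroup.zpowers v ⊔ Z) (h1.trans hZ4.ge)
    exact h2 ▸ Subgroup.mem_sup_left (Subgroup.mem_zpowers v)
  have hWZ : W = Z := by
    refine Subgroup.eq_of_le_of_card_ge ?_ (by omega)
    by_contra hnle
    obtain ⟨w, hw, hw1, hwc⟩ := exists_centralizing hZ4 hW hW4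
    have hne : W ⊓ Subgroup.centralizer (Z : Set G) = W := by
      obtain ⟨m, hm⟩ := Coprime.ea_card (Coprime.ea_mono hW (inf_le_left :
        W ⊓ Subgroup.centralizer (Z : Set G) ≤ W))
      have hle := Subgroup.card_le_of_le (inf_le_left : W ⊓ Subgroup.centralizer (Z : Set G) ≤ W)
      rcases m with _ | _ | m
      · exfalso
        have h0 : w ∈ (⊥ : Subgroup G) := Subgroup.card_eq_one.mp (hm.trans (pow_zero 2)) ▸
          (⟨hw, hwc⟩ : w ∈ W ⊓ Subgroup.centralizer (Z : Set G))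
        exact hw1 (Subgroup.mem_bot.mp h0)
      · exfalso
        refine hW2 _ inf_le_left (fun v hv => ⟨hdWmem v hv.1, ?_⟩) (by simpa using hm)
        exact (inferInstance : (Subgroup.centralizer (Z : Set G)).Normal).conj_mem v hv.2 d
      · refine Subgroup.eq_of_le_of_card_ge inf_le_left ?_
        rw [hm, hW4]
        exact (by norm_num : 4 = 2 ^ 2).le.trans (Nat.pow_le_pow_right (by norm_num) (by omega))
    have hcent : W ≤ Subgroup.centralizer (Z : Set G) := hne ▸ inf_le_right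
    exact hnle (fun v hv => hCinv v (hcent hv) (hW.2 v hv))
  have hdZ : ∀ v ∈ Z, d * v * d⁻¹ = v → v = 1 := fun v hv => hWd v (hWZ ▸ hv)
  -- the element of order three centralizing an involution
  set x : G := g ^ 2 with hx
  set i : G := g ^ 3 with hi
  have hx3 : x ^ 3 = 1 := by
    rw [hx, ← pow_mul, show 2 * 3 = orderOf g by omega]; exact pow_orderOf_eq_one g
  have hx1 : x ≠ 1 := fun h => by
    have := orderOf_dvd_of_pow_eq_one (h : g ^ 2 = 1)
    rw [hg] at this
    omega
  have hi2 : i ^ 2 = 1 := by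
    rw [hi, ← pow_mul, show 3 * 2 = orderOf g by omega]; exact pow_orderOf_eq_one g
  have hi1 : i ≠ 1 := fun h => by
    have := orderOf_dvd_of_pow_eq_one (h : g ^ 3 = 1)
    rw [hg] at this
    omega
  have hxi : Commute x i := ((Commute.refl g).pow_pow 2 3)
  obtain ⟨w, hwZ, hw1, hxw⟩ : ∃ w ∈ Z, w ≠ 1 ∧ x * w = w * x := by
    by_cases hiC : i ∈ Subgroup.centralizer (Z : Set G)
    · exact ⟨i, hCinv i hiC hi2, hi1, hxi.eq⟩
    · obtain ⟨w, hwZ, hw1, hiw, huniq⟩ := exists_unique_fixed (i := i) hZ hZ4 hi2 hiC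
      refine ⟨w, hwZ, hw1, mul_inv_eq_iff_eq_mul.mp ?_⟩
      refine huniq (x * w * x⁻¹) (hZn.conj_mem w hwZ x) (fun h => hw1 (conj_eq_one_iff.mp h)) ?_
      calc i * (x * w * x⁻¹) * i⁻¹ = (i * x) * w * (i * x)⁻¹ := by simp [mul_assoc]
        _ = (x * i) * w * (x * i)⁻¹ := by rw [hxi.eq]
        _ = x * (i * w * i⁻¹) * x⁻¹ := by simp [mul_assoc]
        _ = x * w * x⁻¹ := by rw [hiw]
  have hxC : x ∈ Subgroup.centralizer (Z : Set G) := centralizes_of_fix hZ4 hwZ hw1 hxw hx3
  -- an element of order three in `C(Z)` commuting with `d`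
  obtain ⟨S, hS⟩ := hd.exists_le_sylow
  set R : Subgroup G := Subgroup.centralizer (Z : Set G) with hR
  haveI : R.Normal := inferInstance
  have hRS : (R ⊓ (S : Subgroup G)).subgroupOf S ≠ ⊥ := by
    obtain ⟨S', hS'⟩ := (IsPGroup.of_card (p := 3) (G := Subgroup.zpowers x) (n := 1) (by
      rw [Nat.card_zpowers, pow_one, orderOf_eq_prime hx3 hx1])).exists_le_sylow
    obtain ⟨c, hc⟩ := MulAction.exists_smul_eq G S' S
    intro h
    rw [Subgroup.subgroupOf_eq_bot, disjoint_iff, inf_assoc, inf_idem] at h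
    have h1 : c * x * c⁻¹ ∈ R ⊓ (S : Subgroup G) := by
      refine ⟨Subgroup.Normal.conj_mem inferInstance x hxC c, ?_⟩
      rw [← hc, Sylow.coe_subgroup_smul]
      exact Subgroup.smul_mem_pointwise_smul _ (MulAut.conj c) _ (hS' (Subgroup.mem_zpowers x))
    rw [h, Subgroup.mem_bot, conj_eq_one_iff] at h1
    exact hx1 h1
  haveI : ((R ⊓ (S : Subgroup G)).subgroupOf S).Normal := by
    refine ⟨fun a ha b => ?_⟩
    rw [Subgroup.mem_subgroupOf] at ha ⊢
    exact ⟨Subgroup.Normal.conj_mem inferInstance _ ha.1 _, ((b * a * b⁻¹ : S) : _).2⟩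
  obtain ⟨K, -, hKn, hKc, hKcen⟩ : ∃ K : Subgroup S, K ≤ (R ⊓ (S : Subgroup G)).subgroupOf S ∧
      K.Normal ∧ Nat.card K = 3 ∧ K ≤ Subgroup.center S ⊓ (R ⊓ (S : Subgroup G)).subgroupOf S := by
    obtain ⟨y, hy⟩ := exists_prime_orderOf_dvd_card' (G := ((R ⊓ (S : Subgroup G)).subgroupOf S ⊓
      Subgroup.center S : Subgroup S)) 3 (by
        obtain ⟨k, hk⟩ := IsPGroup.iff_card.mp (S.2.to_subgroup ((R ⊓ (S : Subgroup G)).subgroupOf S ⊓
          Subgroup.center S))
        rw [hk]
        refine dvd_pow_self 3 fun h0 => ?_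
        rw [h0, pow_zero] at hk
        exact Fusion.pGroup_inf_center_ne_bot S.2 _ hRS (Subgroup.card_eq_one.mp hk))
    refine ⟨Subgroup.zpowers (y : S), Subgroup.zpowers_le.mpr y.2.1, ⟨fun a ha b => ?_⟩, ?_,
      Subgroup.zpowers_le.mpr ⟨y.2.2, y.2.1⟩⟩
    · have hac : a ∈ Subgroup.center S := (Subgroup.zpowers_le.mpr y.2.2) ha
      rwa [Subgroup.mem_center_iff.mp hac b, mul_inv_cancel_right]
    · rw [Nat.card_zpowers, Subgroup.orderOf_coe, hy]
  obtain ⟨y, hy⟩ := exists_prime_orderOf_dvd_card' (G := K) 3 (by rw [hKc])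
  have hyc := hKcen y.2
  set y' : G := ((y : S) : G) with hy'
  have hy3 : orderOf y' = 3 := by rw [hy', Subgroup.orderOf_coe, Subgroup.orderOf_coe, hy]
  have hyd : Commute y' d :=
    (congrArg Subtype.val (Subgroup.mem_center_iff.mp hyc.1 ⟨d, hS (Subgroup.mem_zpowers d)⟩)).symm
  have hyP : y' ∈ Subgroup.centralizer (P : Set G) := by
    refine main hP hd hy3 hyd (Subgroup.le_normalizer_of_normal (Subgroup.mem_top d))
      (Subgroup.le_normalizer_of_normal (Subgroup.mem_top y')) hZP hZ4 hZ ?_ hdZ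
      (Subgroup.le_normalizer_of_normal (Subgroup.mem_top d)) hyc.2.1
    intro v hv hv2
    exact hCinv v (Subgroup.mem_centralizer_iff.mpr fun z hz => (hZmem z hz v hv).symm) hv2
  obtain ⟨k, hk⟩ := IsPGroup.iff_card.mp hP
  have h3 : 3 ∣ 2 ^ k := by
    rw [← hk, ← hy3]
    exact Subgroup.orderOf_dvd_natCard _ (hchar hyP)
  exact absurd (Nat.prime_three.dvd_of_dvd_pow h3) (by norm_num)

end Cfsg.Agent.S3739
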