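import Cfsg.Statements.S3740
import Cfsg.Agent.Coprime.Basic
import Cfsg.Agent.LocalStructure.OmegaAction
import Cfsg.Agent.Classical.LinearBasic
import Mathlib.GroupTheory.SpecificGroups.Quaternion
import Mathlib.Algebra.CharP.Lemmas
-- import your own Cfsg.Agent.* helpers here

set_option autoImplicit false
open Cfsg
open scoped commutatorElement

namespace Cfsg.Agent.S3740

abbrev SL2 (F : Type) [Field F] := Matrix.SpecialLinearGroup (Fin 2) F
abbrev SL2three := Matrix.SpecialLinearGroup (Fin 2) (ZMod 3)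
abbrev M2 (F : Type) [Field F] := Matrix (Fin 2) (Fin 2) F

variable {F : Type} [Field F]

theorem two_ne_zero' (p : ℕ) [Fact p.Prime] [CharP F p] (hp : p ≠ 2) : (2 : F) ≠ 0 := by
  intro h
  have : p ∣ 2 := (CharP.cast_eq_zero_iff F p 2).mp (by exact_mod_cast h)
  exact hp ((Nat.prime_dvd_prime_iff_eq Fact.out Nat.prime_two).mp this)

theorem m_ext {A B : M2 F} (h00 : A 0 0 = B 0 0) (h01 : A 0 1 = B 0 1) (h10 : A 1 0 = B 1 0)
    (h11 : A 1 1 = B 1 1) : A = B := by
  ext i j
  fin_cases i <;> fin_cases j <;> assumption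

theorem cayley (A : M2 F) : A * A = A.trace • A - A.det • 1 := by
  apply m_ext <;> simp [Matrix.mul_apply, Fin.sum_univ_two, Matrix.trace_fin_two, Matrix.det_fin_two] <;> ring

theorem commutant {A B : M2 F} (hA : ∀ c : F, A ≠ c • 1) (h : A * B = B * A) :
    ∃ α β : F, B = α • 1 + β • A := by
  have e00 := congrFun (congrFun h 0) 0
  have e01 := congrFun (congrFun h 0) 1
  have e10 := congrFun (congrFun h 1) 0
  simp [Matrix.mul_apply, Fin.sum_univ_two] at e00 e01 e10
  by_cases hb : A 0 1 = 0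
  · by_cases hc : A 1 0 = 0
    · have hd : A 0 0 - A 1 1 ≠ 0 := fun hd => hA (A 0 0) (m_ext (by simp) (by simp [hb]) (by simp [hc])
        (by simp; linear_combination -hd))
      have hB01 : B 0 1 = 0 := by
        refine (mul_eq_zero.mp ?_).resolve_left hd
        rw [hb] at e01; linear_combination e01
      have hB10 : B 1 0 = 0 := by
        refine (mul_eq_zero.mp ?_).resolve_left hd
        rw [hc] at e10; linear_combination -e10
      refine ⟨B 0 0 - (B 0 0 - B 1 1) / (A 0 0 - A 1 1) * A 0 0, (B 0 0 - B 1 1) / (A 0 0 - A 1 1), ?_⟩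
      apply m_ext <;> simp [hb, hc, hB01, hB10]
      field_simp
      ring
    · refine ⟨B 0 0 - B 1 0 / A 1 0 * A 0 0, B 1 0 / A 1 0, ?_⟩
      apply m_ext <;> simp [hb, hc] <;> (try field_simp)
      · refine (mul_eq_zero.mp ?_).resolve_left hc
        rw [hb] at e00; linear_combination -e00
      · linear_combination -e10
  · refine ⟨B 0 0 - B 0 1 / A 0 1 * A 0 0, B 0 1 / A 0 1, ?_⟩
    apply m_ext <;> simp <;> field_simp
    · linear_combination e00
    · linear_combination e01

theorem nil_pow {A : M2 F} {α β : F} (hA : A * A = 0) (n : ℕ) :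
    (α • 1 + β • A) ^ (n + 1) = (α ^ (n + 1)) • 1 + ((n + 1 : ℕ) * α ^ n * β) • A := by
  induction n with
  | zero => simp
  | succ n ih =>
    rw [pow_succ, ih, add_mul, mul_add, mul_add, smul_mul_assoc, smul_mul_assoc, smul_mul_assoc,
      smul_mul_assoc, mul_smul_comm, mul_smul_comm, mul_smul_comm, mul_smul_comm, hA, one_mul, one_mul,
      mul_one, smul_zero, smul_zero, add_zero, smul_smul, smul_smul, smul_smul]
    rw [add_assoc, ← add_smul]
    congr 2
    all_goals (first | ring1 | (push_cast; ring1))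

theorem pprime {A : M2 F} {α β : F} {m : ℕ} (hA : A * A = 0) (hm : (m : F) ≠ 0)
    (h : (α • 1 + β • A) ^ m = 1) : β • A = 0 := by
  obtain ⟨n, rfl⟩ := Nat.exists_eq_succ_of_ne_zero (n := m) (fun h0 => hm (by simp [h0]))
  by_cases hA0 : A = 0
  · simp [hA0]
  rw [nil_pow hA] at h
  have h1 : (α ^ (n + 1)) • A = A := by
    have := congrArg (· * A) h
    simpa [add_mul, smul_mul_assoc, hA] using this
  have hα : α ^ (n + 1) = 1 := smul_left_injective F hA0 (h1.trans (one_smul F A).symm)
  rw [hα, one_smul, add_eq_left, smul_eq_zero] at h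
  have h2 := h.resolve_right hA0
  rw [mul_eq_zero, mul_eq_zero] at h2
  rcases h2 with (h2 | h2) | h2
  · exact absurd h2 hm
  · rw [pow_eq_zero_iff', ] at h2
    rw [h2.1, zero_pow (Nat.succ_ne_zero n)] at hα
    exact absurd hα zero_ne_one
  · rw [h2, zero_smul]

theorem det_smul_one (c : F) : (c • 1 : M2 F).det = c * c := by
  simp [Matrix.det_fin_two]
  ring

theorem scalar_cases {g : SL2 F} {c : F} (h : (g : M2 F) = c • 1) : g = 1 ∨ g = -1 := by
  have hc : c * c = 1 := by rw [← det_smul_one, ← h]; exact g.2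
  rcases mul_self_eq_one_iff.mp hc with rfl | rfl
  · left; exact Subtype.ext (by rw [h]; simp)
  · right; exact Subtype.ext (by rw [h]; simp)

theorem nonscalar {g : SL2 F} (h1 : g ≠ 1) (h2 : g ≠ -1) : ∀ c : F, (g : M2 F) ≠ c • 1 := fun _ h =>
  (scalar_cases h).elim h1 h2

theorem sq_neg_one (h2F : (2 : F) ≠ 0) {g : SL2 F} (h1 : g ≠ 1) (h2 : g ≠ -1)
    (h : g * g = 1 ∨ g * g = -1) : g * g = -1 ∧ Matrix.trace (g : M2 F) = 0 := by
  have hc := cayley (g : M2 F)
  rw [g.2, one_smul] at hc
  rcases h with h | h <;>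
    (have hm : (g : M2 F) * g = _ := congrArg (fun q : SL2 F => (q : M2 F)) h
     rw [hc] at hm)
  · exfalso
    by_cases ht : Matrix.trace (g : M2 F) = 0
    · rw [ht, zero_smul, zero_sub] at hm
      have h' := congrFun (congrFun hm 0) 0
      simp at h'
      exact h2F (by linear_combination -h')
    · refine nonscalar h1 h2 (2 / Matrix.trace (g : M2 F)) ?_
      rw [sub_eq_iff_eq_add] at hm
      rw [div_eq_inv_mul, ← smul_smul, two_smul]
      simp only [Matrix.SpecialLinearGroup.coe_one] at hm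
      rw [← hm, smul_smul, inv_mul_cancel₀ ht, one_smul]
  · refine ⟨h, ?_⟩
    simp only [Matrix.SpecialLinearGroup.coe_neg, Matrix.SpecialLinearGroup.coe_one, sub_eq_neg_self,
      smul_eq_zero] at hm
    exact hm.resolve_right fun h0 => nonscalar h1 h2 0 (by rw [h0, zero_smul])

theorem nil (p : ℕ) [Fact p.Prime] [CharP F p] {a : SL2 F} {k : ℕ} (h : a ^ p ^ k = 1) :
    ((a : M2 F) - 1) * ((a : M2 F) - 1) = 0 := by
  have h0 : ((a : M2 F) - 1) ^ p ^ k = 0 := by
    rw [sub_pow_char_pow_of_commute (p := p) (n := k) (Commute.one_right _), one_pow,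
      ← Matrix.SpecialLinearGroup.coe_pow, h, Matrix.SpecialLinearGroup.coe_one, sub_self]
  generalize (a : M2 F) - 1 = A at h0 ⊢
  have hd : A.det = 0 := by
    have := congrArg Matrix.det h0
    rw [Matrix.det_pow, Matrix.det_zero] at this
    exact (pow_eq_zero_iff (pow_ne_zero k (Fact.out : p.Prime).ne_zero)).mp this
  have hsq : A * A = A.trace • A := by rw [cayley, hd, zero_smul, sub_zero]
  have hpw : ∀ m, A ^ (m + 1) = (A.trace ^ m) • A := by
    intro m
    induction m with
    | zero => simp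
    | succ m ih => rw [pow_succ, ih, smul_mul_assoc, hsq, smul_smul, ← pow_succ]
  obtain ⟨m, hm⟩ := Nat.exists_eq_succ_of_ne_zero (pow_ne_zero k (Fact.out : p.Prime).ne_zero)
  rw [hm, hpw] at h0
  rcases smul_eq_zero.mp h0 with h1 | h1
  · rw [hsq, (pow_eq_zero_iff'.mp h1).1, zero_smul]
  · rw [h1, mul_zero]

theorem trace_of_sq_zero {A : M2 F} (h : A * A = 0) : A.trace = 0 := by
  have hd : A.det = 0 := by
    have := congrArg Matrix.det h
    rw [Matrix.det_mul, Matrix.det_zero, mul_self_eq_zero] at this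
    exact this
  have hc := cayley A
  rw [h, hd, zero_smul, sub_zero] at hc
  rcases smul_eq_zero.mp hc.symm with h1 | h1
  · exact h1
  · simp [h1]

theorem coe_inv_unipotent {a : SL2 F} (h : ((a : M2 F) - 1) * ((a : M2 F) - 1) = 0) :
    ((a⁻¹ : SL2 F) : M2 F) = 1 - ((a : M2 F) - 1) := by
  have h1 : (a : M2 F) * (1 - ((a : M2 F) - 1)) = 1 := by
    linear_combination (norm := noncomm_ring) -h
  calc ((a⁻¹ : SL2 F) : M2 F) = ((a⁻¹ : SL2 F) : M2 F) * ((a : M2 F) * (1 - ((a : M2 F) - 1))) := by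
        rw [h1, mul_one]
    _ = _ := by
        rw [← mul_assoc, ← Matrix.SpecialLinearGroup.coe_mul, inv_mul_cancel,
          Matrix.SpecialLinearGroup.coe_one, one_mul]

theorem scalar_of_commute_conj (p : ℕ) [Fact p.Prime] [CharP F p] (hp : p ≠ 2) {b g : SL2 F} {k : ℕ}
    (hb : b ^ p ^ k = 1) (hb1 : b ≠ 1) (hg : ¬ p ∣ orderOf g) (hc : Commute g (b * g * b⁻¹)) :
    g = 1 ∨ g = -1 := by
  by_contra hne
  push Not at hne
  have hns := nonscalar hne.1 hne.2
  have h2F := two_ne_zero' (F := F) p hp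
  haveI : NeZero (2 : F) := ⟨h2F⟩
  have hm : ((orderOf g : ℕ) : F) ≠ 0 := fun h => hg ((CharP.cast_eq_zero_iff F p _).mp h)
  have hgm : (g : M2 F) ^ orderOf g = 1 := by
    rw [← Matrix.SpecialLinearGroup.coe_pow, pow_orderOf_eq_one, Matrix.SpecialLinearGroup.coe_one]
  -- `b` commutes with `g`
  have hcomm : Commute b g := by
    obtain ⟨α, β, hh⟩ := commutant hns
      (show (g : M2 F) * ((b * g * b⁻¹ : SL2 F) : M2 F) = ((b * g * b⁻¹ : SL2 F) : M2 F) * g by
        rw [← Matrix.SpecialLinearGroup.coe_mul, hc.eq, Matrix.SpecialLinearGroup.coe_mul])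
    set t : F := Matrix.trace (g : M2 F) with ht
    have e1 : 2 * α + β * t = t := by
      have h3 : Matrix.trace ((b * g * b⁻¹ : SL2 F) : M2 F) = t := by
        rw [Matrix.SpecialLinearGroup.coe_mul, Matrix.trace_mul_comm,
          ← Matrix.SpecialLinearGroup.coe_mul, inv_mul_cancel_left]
      rw [hh] at h3
      simp [Matrix.trace_fin_two] at h3
      rw [ht, Matrix.trace_fin_two] at h3 ⊢
      linear_combination h3
    have e2 : α ^ 2 + α * β * t + β ^ 2 = 1 := by
      have h3 := (b * g * b⁻¹ : SL2 F).2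
      rw [hh] at h3
      have h4 : (g : M2 F) 0 0 * (g : M2 F) 1 1 - (g : M2 F) 0 1 * (g : M2 F) 1 0 = 1 :=
        (Matrix.det_fin_two _).symm.trans g.2
      simp [Matrix.det_fin_two] at h3
      rw [ht, Matrix.trace_fin_two]
      linear_combination h3 - β ^ 2 * h4
    have e3 : (β ^ 2 - 1) * (4 - t ^ 2) = 0 := by
      linear_combination 4 * e2 - (2 * α + β * t + t) * e1
    rcases mul_eq_zero.mp e3 with e4 | e4
    · rcases mul_eq_zero.mp (show (β - 1) * (β + 1) = 0 by linear_combination e4) with e5 | e5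
      · have hβ : β = 1 := by linear_combination e5
        have hα : α = 0 := by
          refine (mul_eq_zero.mp (show 2 * α = 0 from ?_)).resolve_left h2F
          rw [hβ] at e1; linear_combination e1
        rw [hβ, hα, zero_smul, one_smul, zero_add] at hh
        exact mul_inv_eq_iff_eq_mul.mp (Subtype.ext hh)
      · have hβ : β = -1 := by linear_combination e5
        have hα : α = t := by
          refine mul_left_cancel₀ h2F ?_
          rw [hβ] at e1; linear_combination e1
        have hinv : b * g * b⁻¹ = g⁻¹ := by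
          refine eq_inv_of_mul_eq_one_right (Subtype.ext ?_)
          rw [Matrix.SpecialLinearGroup.coe_mul, hh, hβ, hα, neg_one_smul, ← sub_eq_add_neg, mul_sub,
            mul_smul_comm, mul_one, cayley, g.2, one_smul, ht, sub_sub_cancel,
            Matrix.SpecialLinearGroup.coe_one]
        have h2 : Commute (b ^ 2) g := mul_inv_eq_iff_eq_mul.mp (by
          calc b ^ 2 * g * (b ^ 2)⁻¹ = b * (b * g * b⁻¹) * b⁻¹ := by simp [sq, mul_assoc]
            _ = b * g⁻¹ * b⁻¹ := by rw [hinv]
            _ = (b * g * b⁻¹)⁻¹ := by simp [mul_assoc]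
            _ = g := by rw [hinv, inv_inv])
        obtain ⟨j, hj⟩ := ((Fact.out : p.Prime).odd_of_ne_two hp).pow (n := k)
        have hbj : b = (b ^ 2) ^ (j + 1) := by
          rw [← pow_mul, show 2 * (j + 1) = p ^ k + 1 by omega, pow_succ, hb, one_mul]
        exact hbj ▸ h2.pow_left _
    · exfalso
      have hA : ((g : M2 F) - (t / 2) • 1) * ((g : M2 F) - (t / 2) • 1) = 0 := by
        rw [mul_sub, sub_mul, sub_mul, cayley, g.2, ← ht, mul_smul_comm, smul_mul_assoc, mul_smul_comm,
          smul_mul_assoc, one_mul, mul_one, mul_one, smul_smul]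
        have ht4 : t / 2 * (t / 2) = 1 := by field_simp; linear_combination -e4
        rw [ht4]
        have : t • (g : M2 F) = (t / 2) • (g : M2 F) + (t / 2) • (g : M2 F) := by
          rw [← add_smul, add_halves]
        rw [this]
        abel
      have hdec : (g : M2 F) = (t / 2) • 1 + (1 : F) • ((g : M2 F) - (t / 2) • 1) := by
        rw [one_smul, add_sub_cancel]
      have h0 := pprime hA hm (hdec ▸ hgm)
      rw [one_smul, sub_eq_zero] at h0
      exact hns _ h0
  -- so `g` is scalar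
  have hNA := nil p hb
  have hbne : ∀ c : F, (b : M2 F) - 1 ≠ c • 1 := by
    intro c h
    have hc0 : c = 0 := by
      rw [h] at hNA
      have := congrFun (congrFun hNA 0) 0
      simpa using this
    rw [hc0, zero_smul, sub_eq_zero] at h
    exact hb1 (Subtype.ext (by rw [h]; rfl))
  obtain ⟨α, β, hh⟩ := commutant hbne (show ((b : M2 F) - 1) * (g : M2 F) = (g : M2 F) * ((b : M2 F) - 1) by
    rw [sub_mul, mul_sub, one_mul, mul_one, ← Matrix.SpecialLinearGroup.coe_mul, hcomm.eq,
      Matrix.SpecialLinearGroup.coe_mul])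
  have h0 := pprime hNA hm (hh ▸ hgm)
  rw [h0, add_zero] at hh
  exact hns α hh

theorem scalar_of_commute_two {x y g : SL2 F} (hxy : ¬ Commute x y) (h1 : Commute g x)
    (h2 : Commute g y) : g = 1 ∨ g = -1 := by
  by_contra hne
  push Not at hne
  obtain ⟨α, β, hx⟩ := commutant (nonscalar hne.1 hne.2) (show (g : M2 F) * x = x * g by
    rw [← Matrix.SpecialLinearGroup.coe_mul, h1.eq, Matrix.SpecialLinearGroup.coe_mul])
  refine hxy (Subtype.ext ?_)
  rw [Matrix.SpecialLinearGroup.coe_mul, Matrix.SpecialLinearGroup.coe_mul, hx, add_mul, mul_add,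
    smul_mul_assoc, smul_mul_assoc, mul_smul_comm, mul_smul_comm, one_mul, mul_one,
    ← Matrix.SpecialLinearGroup.coe_mul, h2.eq, Matrix.SpecialLinearGroup.coe_mul]

theorem trace_anticomm {A B : M2 F} (hA : A.trace = 0) (hB : B.trace = 0) :
    A * B + B * A = (A * B).trace • 1 := by
  rw [Matrix.trace_fin_two] at hA hB
  have hA' : A 1 1 = -A 0 0 := by linear_combination hA
  have hB' : B 1 1 = -B 0 0 := by linear_combination hB
  apply m_ext <;> simp [Matrix.mul_apply, Fin.sum_univ_two, Matrix.trace_fin_two, hA', hB'] <;> ring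

theorem trace_identity {X A : M2 F} (hX : X * X = -1) (hA : A * A = 0) (hAt : A.trace = 0) :
    Matrix.trace (X * ((1 + A) * X * (1 - A))) = -2 - (X * A).trace ^ 2 := by
  have h1 : X * ((1 + A) * X * (1 - A)) = X * X + X * A * X - X * X * A - X * A * (X * A) := by
    noncomm_ring
  rw [h1, Matrix.trace_sub, Matrix.trace_sub, Matrix.trace_add, Matrix.trace_mul_cycle X A X, hX]
  rw [cayley (X * A), Matrix.det_mul,
    show A.det = 0 by
      have := congrArg Matrix.det hA
      rw [Matrix.det_mul, Matrix.det_zero, mul_self_eq_zero] at this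
      exact this,
    mul_zero, zero_smul, sub_zero, Matrix.trace_smul, smul_eq_mul]
  simp [hAt, sq]

theorem pow_four {x : SL2 F} (hx : x * x = -1) : x ^ 4 = 1 := by
  rw [show (4 : ℕ) = 2 + 2 from rfl, pow_add, sq, hx, neg_mul_neg, one_mul]

def quatFun (x y : SL2 F) : QuaternionGroup 2 → SL2 F
  | .a i => x ^ i.val
  | .xa i => y * x ^ i.val

theorem pow_val_add {x : SL2 F} (hx : x * x = -1) (i j : ZMod (2 * 2)) :
    x ^ (i + j).val = x ^ i.val * x ^ j.val := by
  rw [← pow_add, ZMod.val_add]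
  exact (pow_eq_pow_mod _ (pow_four hx)).symm

/-- The quaternion group generated by `x` and `y`. -/
def quatHom {x y : SL2 F} (hxx : x * x = -1) (hyy : y * y = -1) (h : y * x = -1 * (x * y)) :
    QuaternionGroup 2 →* SL2 F where
  toFun := quatFun x y
  map_one' := by
    show x ^ (0 : ZMod (2 * 2)).val = 1
    simp
  map_mul' := by
    have hxinv : x⁻¹ = -x := inv_eq_of_mul_eq_one_right (by rw [mul_neg, hxx, neg_neg])
    have hstep : x * y = y * x⁻¹ := by
      rw [hxinv, mul_neg, h, neg_mul, one_mul, neg_neg]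
    have hswap : ∀ i j : ZMod (2 * 2), x ^ i.val * y * x ^ j.val = y * x ^ (j - i).val := by
      intro i j
      have h1 : ∀ m : ℕ, x ^ m * y = y * (x⁻¹) ^ m := by
        intro m
        induction m with
        | zero => simp
        | succ m ih => rw [pow_succ', mul_assoc, ih, ← mul_assoc, hstep, mul_assoc, ← pow_succ']
      have h2 : x ^ j.val = x ^ i.val * x ^ (j - i).val := by
        rw [← pow_val_add hxx, add_sub_cancel]
      rw [h1, mul_assoc, h2, inv_pow, inv_mul_cancel_left]
    have h2v : x ^ (2 : ZMod (2 * 2)).val = -1 := by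
      rw [show (2 : ZMod (2 * 2)).val = 2 from rfl, sq, hxx]
    rintro (i | i) (j | j)
    · exact pow_val_add hxx i j
    · show y * x ^ (j - i).val = x ^ i.val * (y * x ^ j.val)
      rw [← mul_assoc, hswap]
    · show y * x ^ (i + j).val = y * x ^ i.val * x ^ j.val
      rw [pow_val_add hxx, mul_assoc]
    · show x ^ ((2 : ℕ) + j - i : ZMod (2 * 2)).val = y * x ^ i.val * (y * x ^ j.val)
      have h3 : y * x ^ i.val * (y * x ^ j.val) = y * (x ^ i.val * y * x ^ j.val) := by
        simp only [mul_assoc]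
      rw [h3, hswap, ← mul_assoc, hyy, add_sub_assoc, pow_val_add hxx, Nat.cast_ofNat, h2v]

theorem quat_mem {x y : SL2 F} (hxx : x * x = -1) (hyy : y * y = -1) (h : y * x = -1 * (x * y))
    {K : Subgroup (SL2 F)} (hx : x ∈ K) (hy : y ∈ K) : ∀ w, quatHom hxx hyy h w ∈ K
  | .a i => pow_mem hx _
  | .xa i => mul_mem hy (pow_mem hx _)

theorem neg_one_ne_one (h2F : (2 : F) ≠ 0) : (-1 : SL2 F) ≠ 1 := by
  intro h
  have h1 := congrArg (fun q : SL2 F => (q : M2 F) 0 0) h
  simp at h1
  exact h2F (by linear_combination -h1)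

theorem quat_injective (h2F : (2 : F) ≠ 0) {x y : SL2 F} (hxx : x * x = -1) (hyy : y * y = -1)
    (h : y * x = -1 * (x * y)) (hxy : ¬ Commute x y) : Function.Injective (quatHom hxx hyy h) := by
  rw [← MonoidHom.ker_eq_bot_iff, eq_bot_iff]
  have hord : orderOf x = 2 ^ (1 + 1) :=
    orderOf_eq_prime_pow (p := 2) (n := 1) (by rw [pow_one, sq, hxx]; exact neg_one_ne_one h2F)
      (pow_four hxx)
  rintro (i | i) hw
  · have h1 : x ^ i.val = 1 := hw
    have h2 := orderOf_dvd_of_pow_eq_one h1
    rw [hord] at h2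
    have h3 : i.val = 0 := Nat.eq_zero_of_dvd_of_lt h2 (ZMod.val_lt i)
    rw [(ZMod.val_eq_zero i).mp h3]
    exact Subgroup.mem_bot.mpr rfl
  · exfalso
    have h1 : y * x ^ i.val = 1 := hw
    exact hxy (by rw [eq_inv_of_mul_eq_one_left h1]; exact ((Commute.refl x).pow_right _).inv_right)

theorem cover {x y g : SL2 F} (hxx : x * x = -1) (hyy : y * y = -1) (h : y * x = -1 * (x * y))
    (hgx : Commute g x ∨ x * g = -1 * (g * x)) (hgy : Commute g y ∨ y * g = -1 * (g * y))
    {R : Subgroup (SL2 F)} (hx : x ∈ R) (hy : y ∈ R) (hg : g ∈ R)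
    (hboth : ∀ k ∈ R, Commute k x → Commute k y → k = 1 ∨ k = -1) :
    ∃ w : QuaternionGroup 2, quatHom hxx hyy h w = g := by
  have hsc : ∀ c : SL2 F, c = 1 ∨ c = -1 → ∃ w, quatHom hxx hyy h w = c := by
    rintro c (rfl | rfl)
    · exact ⟨1, map_one _⟩
    · refine ⟨.a 2, ?_⟩
      show x ^ (2 : ZMod (2 * 2)).val = -1
      rw [show (2 : ZMod (2 * 2)).val = 2 from rfl, sq, hxx]
  have hwx : quatHom hxx hyy h (.a 1) = x := pow_one x
  have hwy : quatHom hxx hyy h (.xa 0) = y := by
    show y * x ^ (0 : ZMod (2 * 2)).val = y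
    simp
  -- multiplying by an element which flips the sign
  have flip : ∀ u v : SL2 F, v * u = -1 * (u * v) → ∀ k : SL2 F, v * k = -1 * (k * v) →
      Commute (k * u) v := by
    intro u v h1 k h2
    show k * u * v = v * (k * u)
    rw [← mul_assoc v, h2]
    simp only [neg_mul, one_mul, mul_assoc, mul_neg, h1, neg_neg]
  have keep : ∀ u v : SL2 F, Commute u v → ∀ k : SL2 F, Commute k v → Commute (k * u) v :=
    fun u v h1 k h2 => h2.mul_left h1
  have hxy' : x * y = -1 * (y * x) := by rw [h]; simp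
  rcases hgx with h1 | h1 <;> rcases hgy with h2 | h2
  · exact hsc g (hboth g hg h1 h2)
  · obtain ⟨w, hw⟩ := hsc _ (hboth (g * x) (mul_mem hg hx) (keep x x (Commute.refl x) g h1)
      (flip x y h g h2))
    exact ⟨w * (.a 1)⁻¹, by rw [map_mul, map_inv, hwx, hw, mul_inv_cancel_right]⟩
  · obtain ⟨w, hw⟩ := hsc _ (hboth (g * y) (mul_mem hg hy) (flip y x hxy' g h1)
      (keep y y (Commute.refl y) g h2))
    exact ⟨w * (QuaternionGroup.xa (0 : ZMod (2 * 2)))⁻¹, by
      rw [map_mul, map_inv, hwy, hw, mul_inv_cancel_right]⟩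
  · have h3 : Commute (g * x * y) x := flip y x hxy' (g * x) (by
      rw [← mul_assoc, h1]; simp [mul_assoc])
    have h4 : Commute (g * x * y) y := (flip x y h g h2).mul_left (Commute.refl y)
    obtain ⟨w, hw⟩ := hsc _ (hboth (g * x * y) (mul_mem (mul_mem hg hx) hy) h3 h4)
    exact ⟨w * (QuaternionGroup.xa (0 : ZMod (2 * 2)))⁻¹ * (QuaternionGroup.a 1)⁻¹, by
      rw [map_mul, map_mul, map_inv, map_inv, hwy, hwx, hw, mul_inv_cancel_right, mul_inv_cancel_right]⟩

theorem pow_three_unipotent (h3F : (3 : F) = 0) {a : SL2 F}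
    (h : ((a : M2 F) - 1) * ((a : M2 F) - 1) = 0) : a ^ 3 = 1 := by
  refine Subtype.ext ?_
  rw [Matrix.SpecialLinearGroup.coe_pow, Matrix.SpecialLinearGroup.coe_one]
  have h1 : (a : M2 F) = (1 : F) • 1 + (1 : F) • ((a : M2 F) - 1) := by simp
  rw [h1, show (3 : ℕ) = 2 + 1 from rfl, nil_pow h]
  simp [h3F]

theorem iso_sl23 [Fintype F] [CharP F 3] {x a : SL2 F} (hX : (x : M2 F) * x = -1)
    (hN : ((a : M2 F) - 1) * ((a : M2 F) - 1) = 0)
    (hs : Matrix.trace ((x : M2 F) * ((a : M2 F) - 1)) ^ 2 = 1)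
    (hXt : Matrix.trace (x : M2 F) = 0) (hNt : Matrix.trace ((a : M2 F) - 1) = 0)
    {H : Subgroup (SL2 F)} (hcard : Nat.card H = 24) (hH : ∀ g ∈ H, g ∈ Subgroup.closure {x, a}) :
    Nonempty (H ≃* Matrix.SpecialLinearGroup (Fin 2) (ZMod 3)) := by
  classical
  set X : M2 F := (x : M2 F) with hXdef
  set N : M2 F := (a : M2 F) - 1 with hNdef
  set s : F := Matrix.trace (X * N) with hsdef
  have hss : s * s = 1 := by rw [← sq]; exact hs
  have hanti : N * X = s • 1 - X * N := by
    rw [hsdef, ← trace_anticomm hXt hNt, add_sub_cancel_left]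
  have hNXN : N * X * N = s • N := by
    rw [hanti, sub_mul, smul_mul_assoc, one_mul, mul_assoc, hN, mul_zero, sub_zero]
  have hsum : N * X + X * N = s • 1 := by rw [hanti, sub_add_cancel]
  let ι : ZMod 3 →+* F := ZMod.castHom dvd_rfl F
  have hι : Function.Injective ι := RingHom.injective ι
  let ψ : Matrix (Fin 2) (Fin 2) (ZMod 3) → M2 F := fun A =>
    s • (ι (A 0 0) • (N * X) + ι (A 0 1) • N + ι (A 1 0) • (X * N * X) + ι (A 1 1) • (X * N))
  have hmul : ∀ A B, ψ (A * B) = ψ A * ψ B := by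
    intro A B
    have p11 : N * X * (N * X) = s • (N * X) := by rw [← mul_assoc, hNXN, smul_mul_assoc]
    have p12 : N * X * N = s • N := hNXN
    have p13 : N * X * (X * N * X) = 0 := by
      rw [show N * X * (X * N * X) = N * (X * X) * (N * X) by simp only [mul_assoc], hX, mul_neg, mul_one,
        neg_mul, ← mul_assoc, hN, zero_mul, neg_zero]
    have p14 : N * X * (X * N) = 0 := by
      rw [show N * X * (X * N) = N * (X * X) * N by simp only [mul_assoc], hX, mul_neg, mul_one,
        neg_mul, hN, neg_zero]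
    have p21 : N * (N * X) = 0 := by rw [← mul_assoc, hN, zero_mul]
    have p23 : N * (X * N * X) = s • (N * X) := by rw [← mul_assoc, ← mul_assoc, hNXN, smul_mul_assoc]
    have p24 : N * (X * N) = s • N := by rw [← mul_assoc, hNXN]
    have p31 : X * N * X * (N * X) = s • (X * N * X) := by
      rw [show X * N * X * (N * X) = X * (N * X * N) * X by simp only [mul_assoc], hNXN, mul_smul_comm,
        smul_mul_assoc]
    have p32 : X * N * X * N = s • (X * N) := by
      rw [show X * N * X * N = X * (N * X * N) by simp only [mul_assoc], hNXN, mul_smul_comm]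
    have p33 : X * N * X * (X * N * X) = 0 := by
      rw [show X * N * X * (X * N * X) = X * (N * (X * X) * N) * X by simp only [mul_assoc], hX, mul_neg,
        mul_one, neg_mul, hN, neg_zero, mul_zero, zero_mul]
    have p34 : X * N * X * (X * N) = 0 := by
      rw [show X * N * X * (X * N) = X * (N * (X * X) * N) by simp only [mul_assoc], hX, mul_neg,
        mul_one, neg_mul, hN, neg_zero, mul_zero]
    have p41 : X * N * (N * X) = 0 := by
      rw [show X * N * (N * X) = X * (N * N) * X by simp only [mul_assoc], hN, mul_zero, zero_mul]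
    have p42 : X * N * N = 0 := by rw [mul_assoc, hN, mul_zero]
    have p43 : X * N * (X * N * X) = s • (X * N * X) := by
      rw [show X * N * (X * N * X) = X * (N * X * N) * X by simp only [mul_assoc], hNXN, mul_smul_comm,
        smul_mul_assoc]
    have p44 : X * N * (X * N) = s • (X * N) := by
      rw [show X * N * (X * N) = X * (N * X * N) by simp only [mul_assoc], hNXN, mul_smul_comm]
    simp only [ψ, Matrix.mul_apply, Fin.sum_univ_two, map_add, map_mul, smul_mul_assoc, mul_smul_comm,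
      add_mul, mul_add, p11, p12, p13, p14, p21, hN, p23, p24, p31, p32, p33, p34, p41, p42, p43, p44,
      smul_zero, smul_add, smul_smul, add_smul, zero_add, add_zero]
    have hs3 : s ^ 3 = s := by linear_combination s * hss
    match_scalars <;> first | ring1 | (ring_nf; simp only [hs3])
  have hone : ψ 1 = 1 := by
    simp [ψ, ← smul_add, hsum, smul_smul, hss]
  have hinj : Function.Injective ψ := by
    intro A B hAB
    have hz : ι (A 0 0 - B 0 0) • (N * X) + ι (A 0 1 - B 0 1) • N + ι (A 1 0 - B 1 0) • (X * N * X) +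
        ι (A 1 1 - B 1 1) • (X * N) = 0 := by
      have hs0 : s ≠ 0 := left_ne_zero_of_mul_eq_one hss
      have h1 := smul_right_injective (M2 F) hs0 hAB
      simp only [map_sub, sub_smul]
      rw [← sub_eq_zero] at h1
      rw [← h1]
      abel
    have hN0 : N ≠ 0 := fun h => by simp [hsdef, h] at hss
    have hs0 : s ≠ 0 := left_ne_zero_of_mul_eq_one hss
    have eNXX : N * (X * N * X) * N = (s * s) • N := by
      rw [show N * (X * N * X) * N = (N * X * N) * X * N by simp only [mul_assoc], hNXN, smul_mul_assoc,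
        smul_mul_assoc, hNXN, smul_smul]
    have hc : ι (A 1 0 - B 1 0) = 0 := by
      have := congrArg (fun M => N * M * N) hz
      simp only [mul_add, add_mul, mul_smul_comm, smul_mul_assoc, mul_zero, zero_mul, eNXX] at this
      rw [show N * (N * X) * N = 0 by rw [← mul_assoc, hN, zero_mul, zero_mul], hN, zero_mul,
        show N * (X * N) * N = 0 by rw [mul_assoc, mul_assoc, hN, mul_zero, mul_zero]] at this
      simp [hss, hN0] at this
      rw [map_sub]
      exact this
    rw [hc, zero_smul, add_zero] at hz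
    have hd : ι (A 1 1 - B 1 1) = 0 := by
      have := congrArg (fun M => N * M) hz
      simp only [mul_add, mul_smul_comm, mul_zero] at this
      rw [← mul_assoc, hN, zero_mul, smul_zero, smul_zero, zero_add, zero_add, ← mul_assoc, hNXN,
        smul_smul, smul_eq_zero] at this
      exact (mul_eq_zero.mp (this.resolve_right hN0)).resolve_right hs0
    rw [hd, zero_smul, add_zero] at hz
    have ha' : ι (A 0 0 - B 0 0) = 0 := by
      have := congrArg (fun M => M * N) hz
      simp only [add_mul, smul_mul_assoc, zero_mul] at this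
      rw [hNXN, hN, smul_zero, add_zero, smul_smul, smul_eq_zero] at this
      exact (mul_eq_zero.mp (this.resolve_right hN0)).resolve_right hs0
    rw [ha', zero_smul, zero_add, smul_eq_zero] at hz
    have hb' := hz.resolve_right hN0
    rw [map_eq_zero_iff ι hι, sub_eq_zero] at hc hd ha' hb'
    exact Matrix.ext fun i j => by fin_cases i <;> fin_cases j <;> assumption
  let ψ' : SL2three →* M2 F :=
    { toFun := fun A => ψ A, map_one' := hone, map_mul' := fun A B => hmul _ _ }
  have hψ' : Function.Injective ψ' := fun A B h => Subtype.ext (hinj h)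
  let K : Subgroup (SL2 F) :=
    { carrier := {g | ∃ A : SL2three, ψ' A = (g : M2 F)}
      one_mem' := ⟨1, by rw [map_one, Matrix.SpecialLinearGroup.coe_one]⟩
      mul_mem' := by
        rintro g g' ⟨A, hA⟩ ⟨B, hB⟩
        exact ⟨A * B, by rw [map_mul, hA, hB, Matrix.SpecialLinearGroup.coe_mul]⟩
      inv_mem' := by
        rintro g ⟨A, hA⟩
        refine ⟨A⁻¹, ?_⟩
        calc ψ' A⁻¹ = ψ' A⁻¹ * ((g : M2 F) * ((g⁻¹ : SL2 F) : M2 F)) := by
              rw [← Matrix.SpecialLinearGroup.coe_mul, mul_inv_cancel, Matrix.SpecialLinearGroup.coe_one,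
                mul_one]
          _ = _ := by rw [← mul_assoc, ← hA, ← map_mul, inv_mul_cancel, map_one, one_mul] }
  have hxK : x ∈ K := by
    refine ⟨⟨!![0, -1; 1, 0], by simp [Matrix.det_fin_two]⟩, ?_⟩
    show s • (ι _ • (N * X) + ι _ • N + ι _ • (X * N * X) + ι _ • (X * N)) = X
    simp only [Matrix.of_apply, Matrix.cons_val', Matrix.cons_val_zero, Matrix.cons_val_one,
      Matrix.empty_val', Matrix.cons_val_fin_one, map_zero, map_one, map_neg, zero_smul, one_smul,
      neg_smul, zero_add, add_zero]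
    rw [show X * N * X = s • X + N by
      rw [mul_assoc, hanti, mul_sub, mul_smul_comm, mul_one, ← mul_assoc, hX, neg_mul, one_mul, sub_neg_eq_add]]
    rw [neg_add_eq_sub, add_sub_cancel_right, smul_smul, hss, one_smul]
  have haK : a ∈ K := by
    obtain ⟨e, he⟩ : ∃ e : ZMod 3, ι e = s := by
      rcases mul_self_eq_one_iff.mp hss with h | h
      · exact ⟨1, by rw [h, map_one]⟩
      · exact ⟨-1, by rw [h, map_neg, map_one]⟩
    refine ⟨⟨!![1, e; 0, 1], by simp [Matrix.det_fin_two]⟩, ?_⟩
    show s • (ι _ • (N * X) + ι _ • N + ι _ • (X * N * X) + ι _ • (X * N)) = (a : M2 F)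
    simp only [Matrix.of_apply, Matrix.cons_val', Matrix.cons_val_zero, Matrix.cons_val_one,
      Matrix.empty_val', Matrix.cons_val_fin_one, map_zero, map_one, zero_smul, one_smul, add_zero, he]
    rw [add_right_comm, hsum, smul_add, smul_smul, smul_smul, hss, one_smul, one_smul, hNdef,
      add_sub_cancel]
  have hHK : ∀ g ∈ H, g ∈ K := fun g hg => (Subgroup.closure_le K).mpr
    (Set.insert_subset_iff.mpr ⟨hxK, Set.singleton_subset_iff.mpr haK⟩) (hH g hg)
  choose f hf using fun g : H => hHK g g.2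
  let φ : H →* SL2three := MonoidHom.mk' f fun g g' => hψ' (by
    rw [map_mul, hf, hf, hf, Subgroup.coe_mul, Matrix.SpecialLinearGroup.coe_mul])
  have hφ : Function.Injective φ := fun g g' h => Subtype.ext (Subtype.ext (by
    rw [← hf g, ← hf g']; exact congrArg ψ' h))
  have hc : Nat.card SL2three = 24 := by
    have h := Cfsg.Agent.Classical.card_sl_mul (F := ZMod 3) (q := 3) (ZMod.card 3) 2 one_le_two
    rw [Fin.prod_univ_two] at h
    norm_num [-Nat.card_eq_fintype_card] at h
    show Nat.card (Matrix.SpecialLinearGroup (Fin 2) (ZMod 3)) = 24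
    omega
  exact ⟨MulEquiv.ofBijective φ ((Nat.bijective_iff_injective_and_card φ).mpr ⟨hφ, by rw [hcard, hc]⟩)⟩


/-- Let F be a finite field of odd characteristic p and let a be a p-element of SL₂(F) normalizing a subgroup R of order prime to p with [R, a] ≠ 1. Then p = 3, R is a quaternion group of order 8, and R⟨a⟩ is isomorphic to SL₂(3). -/
theorem result (F : Type) [Field F] [Fintype F] {p : ℕ} [Fact p.Prime] [CharP F p] (hp : p ≠ 2) (a : Matrix.SpecialLinearGroup (Fin 2) F) (ha : IsPGroup p ↥(Subgroup.zpowers a)) (R : Subgroup (Matrix.SpecialLinearGroup (Fin 2) F)) (hR : (Nat.card R).Coprime p) (haR : a ∈ Subgroup.normalizer (R : Set (Matrix.SpecialLinearGroup (Fin 2) F))) (hnt : ⁅R, Subgroup.zpowers a⁆ ≠ ⊥) : p = 3 ∧ Nonempty (↥R ≃* QuaternionGroup 2) ∧ Nonempty (↥(R ⊔ Subgroup.zpowers a) ≃* Matrix.SpecialLinearGroup (Fin 2) (ZMod 3)) := by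
  classical
  have hpp : p.Prime := Fact.out
  have h2F : (2 : F) ≠ 0 := two_ne_zero' p hp
  obtain ⟨ka, hka⟩ := IsPGroup.iff_card.mp ha
  rw [Nat.card_zpowers] at hka
  have hza : Subgroup.zpowers a ≤ Subgroup.normalizer (R : Set (SL2 F)) := Subgroup.zpowers_le.mpr haR
  have hRp : ∀ g ∈ R, ¬ p ∣ orderOf g := fun g hg h =>
    (hpp.coprime_iff_not_dvd.mp hR.symm) (h.trans (Subgroup.orderOf_dvd_natCard R hg))
  have hconjR : ∀ g ∈ R, a * g * a⁻¹ ∈ R := fun g hg => (Subgroup.mem_normalizer_iff.mp haR g).mp hg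
  have ha1 : a ≠ 1 := fun h => hnt (by
    rw [h, Subgroup.zpowers_one_eq_bot, Subgroup.commutator_bot_right])
  have hapk : a ^ p ^ ka = 1 := hka ▸ pow_orderOf_eq_one a
  -- an element of `R` commuting with its conjugate is central
  have key : ∀ g ∈ R, Commute g (a * g * a⁻¹) → g = 1 ∨ g = -1 := fun g hg hc =>
    scalar_of_commute_conj p hp hapk ha1 (hRp g hg) hc
  -- `R` is a two-group
  have hcopR : (Nat.card (Subgroup.zpowers a)).Coprime (Nat.card R) := by
    rw [Nat.card_zpowers, hka]
    exact (hR.symm).pow_left ka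
  have hR2 : IsPGroup 2 R := by
    refine IsPGroup.of_card (n := (Nat.card R).primeFactorsList.length)
      (Nat.eq_prime_pow_of_unique_prime_dvd Nat.card_pos.ne' ?_)
    intro r hr hrd
    haveI : Fact r.Prime := ⟨hr⟩
    obtain ⟨S, hS⟩ := Coprime.exists_invariant_sylow hza hcopR
      (Or.inl (Group.isSolvable_of_comm fun x y => IsMulCommutative.is_comm.comm x y)) r
    haveI : Nontrivial (S : Subgroup R) := (Subgroup.nontrivial_iff_ne_bot _).mpr
      (S.ne_bot_of_dvd_card hrd)
    haveI := S.2.center_nontrivial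
    obtain ⟨z, hz⟩ := exists_prime_orderOf_dvd_card' (G := Subgroup.center (S : Subgroup R)) r (by
      obtain ⟨k, hk⟩ := IsPGroup.iff_card.mp (S.2.to_subgroup (Subgroup.center (S : Subgroup R)))
      rw [hk]
      refine dvd_pow_self r fun h0 => ?_
      rw [h0, pow_zero, Nat.card_eq_one_iff_unique] at hk
      exact not_subsingleton _ hk.1)
    set z' : SL2 F := (((z : (S : Subgroup R)) : R) : SL2 F) with hz'
    have hord : orderOf z' = r := by
      rw [hz', Subgroup.orderOf_coe, Subgroup.orderOf_coe, Subgroup.orderOf_coe, hz]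
    set S' : Subgroup (SL2 F) := (S : Subgroup R).map R.subtype with hS'
    let e := (Subgroup.equivMapOfInjective (S : Subgroup R) R.subtype R.subtype_injective)
    have hzc : ∀ v ∈ S', v * z' = z' * v := by
      rintro _ ⟨v, hv, rfl⟩
      exact congrArg (fun q : (S : Subgroup R) => ((q : R) : SL2 F))
        (Subgroup.mem_center_iff.mp z.2 ⟨v, hv⟩)
    have hz'S : z' ∈ S' := ⟨_, (z : (S : Subgroup R)).2, rfl⟩
    have hz'c : a * z' * a⁻¹ ∈ S' :=
      (Subgroup.mem_normalizer_iff.mp (hS (Subgroup.mem_zpowers a)) z').mp hz'S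
    rcases key z' (((z : (S : Subgroup R)) : R)).2 (hzc _ hz'c).symm with h | h
    · rw [h, orderOf_one] at hord
      exact absurd hord.symm hr.ne_one
    · have : orderOf z' ∣ 2 := orderOf_dvd_of_pow_eq_one (by rw [h, neg_sq, one_pow])
      rw [hord] at this
      exact (Nat.prime_dvd_prime_iff_eq hr Nat.prime_two).mp this
  have hsc : ∀ g ∈ R, ∀ g' ∈ R, (g = 1 ∨ g = -1) → Commute g g' := by
    rintro g - g' - (rfl | rfl)
    · exact Commute.one_left _
    · exact Commute.neg_one_left _
  have hnab : ¬ ∀ g ∈ R, ∀ g' ∈ R, Commute g g' := by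
    intro h
    refine hnt (Subgroup.commutator_eq_bot_iff_le_centralizer.mpr fun g hg => ?_)
    rw [Subgroup.mem_centralizer_iff]
    rintro _ ⟨i, rfl⟩
    have hga : Commute a g := by
      rcases key g hg (h g hg _ (hconjR g hg)) with rfl | rfl
      · exact Commute.one_right _
      · exact Commute.neg_one_right _
    exact (hga.zpow_left i).eq
  have hcen : ∀ g ∈ R, (∀ g' ∈ R, Commute g g') → g = 1 ∨ g = -1 := fun g hg h =>
    key g hg (h _ (hconjR g hg))
  haveI : Nontrivial R := (Subgroup.nontrivial_iff_ne_bot R).mpr fun h => hnt (by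
    rw [h, Subgroup.commutator_bot_left])
  have hneg : (-1 : SL2 F) ∈ R := by
    haveI := hR2.center_nontrivial
    obtain ⟨z, hz⟩ := exists_ne (1 : Subgroup.center R)
    rcases hcen _ (z : R).2 (fun g' hg' => (congrArg Subtype.val
      (Subgroup.mem_center_iff.mp z.2 ⟨g', hg'⟩)).symm) with h | h
    · exact absurd (Subtype.ext (Subtype.ext h)) hz
    · exact h ▸ (z : R).2
  -- the second centre
  let T : SL2 F → Prop := fun g => g ∈ R ∧ ∀ g' ∈ R, ⁅g, g'⁆ = 1 ∨ ⁅g, g'⁆ = -1
  have hTconj : ∀ g, T g → T (a * g * a⁻¹) := by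
    rintro g ⟨hg, h⟩
    refine ⟨hconjR g hg, fun g' hg' => ?_⟩
    have hg'' : a⁻¹ * g' * a ∈ R := by
      have := (Subgroup.mem_normalizer_iff.mp (inv_mem haR) g').mp hg'
      rwa [inv_inv] at this
    have e : ⁅a * g * a⁻¹, g'⁆ = a * ⁅g, a⁻¹ * g' * a⁆ * a⁻¹ := by
      simp only [commutatorElement_def, mul_inv_rev, inv_inv, mul_assoc, inv_mul_cancel_left,
        mul_inv_cancel_left, mul_inv_cancel, mul_one]
    rcases h _ hg'' with h1 | h1
    · left; rw [e, h1, mul_one, mul_inv_cancel]
    · right; rw [e, h1, (Commute.neg_one_right a).eq, mul_assoc, mul_inv_cancel, mul_one]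
  have hTmul : ∀ g g', T g → T g' → T (g * g') := by
    rintro g g' ⟨hg, h⟩ ⟨hg', h'⟩
    refine ⟨mul_mem hg hg', fun k hk => ?_⟩
    have e : ⁅g * g', k⁆ = g * ⁅g', k⁆ * g⁻¹ * ⁅g, k⁆ := by
      simp only [commutatorElement_def]
      group
    have h3 : g * ⁅g', k⁆ * g⁻¹ = ⁅g', k⁆ := by
      rcases h' k hk with h1 | h1 <;> rw [h1]
      · rw [mul_one, mul_inv_cancel]
      · rw [(Commute.neg_one_right g).eq, mul_assoc, mul_inv_cancel, mul_one]
    rw [e, h3]
    rcases h k hk with h1 | h1 <;> rcases h' k hk with h2 | h2 <;> rw [h1, h2]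
    · left; rw [one_mul]
    · right; rw [mul_one]
    · right; rw [one_mul]
    · left; rw [neg_mul_neg, one_mul]
  have hTsq : ∀ g, T g → g ≠ 1 → g ≠ -1 → g * g = -1 ∧ Matrix.trace (g : M2 F) = 0 := by
    rintro g ⟨hg, h⟩ h1 h2
    have hgg : g * g = 1 ∨ g * g = -1 := by
      refine hcen _ (mul_mem hg hg) fun g' hg' => commutatorElement_eq_one_iff_mul_comm.mp ?_
      have e : ⁅g * g, g'⁆ = g * ⁅g, g'⁆ * g⁻¹ * ⁅g, g'⁆ := by
        simp only [commutatorElement_def]
        group
      rcases h g' hg' with h3 | h3 <;> rw [e, h3]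
      · simp
      · rw [(Commute.neg_one_right g).eq, mul_assoc (-1), mul_inv_cancel, mul_one, neg_mul_neg, one_mul]
    exact sq_neg_one h2F h1 h2 hgg
  obtain ⟨x, hxT, hx1, hx2⟩ : ∃ x, T x ∧ x ≠ 1 ∧ x ≠ -1 := by
    have hc : Subgroup.center R ≠ ⊤ := fun h => hnab fun g hg g' hg' =>
      congrArg Subtype.val (Subgroup.mem_center_iff.mp
        ((h.symm ▸ Subgroup.mem_top _) : (⟨g', hg'⟩ : R) ∈ Subgroup.center R) ⟨g, hg⟩)
    haveI : Nontrivial (R ⧸ Subgroup.center R) := QuotientGroup.nontrivial_iff.mpr hc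
    haveI := (hR2.to_quotient (Subgroup.center R)).center_nontrivial
    obtain ⟨q, hq⟩ := exists_ne (1 : Subgroup.center (R ⧸ Subgroup.center R))
    obtain ⟨x, hx⟩ := QuotientGroup.mk'_surjective _ (q : R ⧸ Subgroup.center R)
    refine ⟨x, ⟨x.2, fun g' hg' => ?_⟩, fun h => hq ?_, fun h => hq ?_⟩
    · have h1 : ⁅x, (⟨g', hg'⟩ : R)⁆ ∈ Subgroup.center R := by
        refine (QuotientGroup.eq_one_iff _).mp ?_
        change QuotientGroup.mk' _ ⁅x, (⟨g', hg'⟩ : R)⁆ = 1
        rw [map_commutatorElement, commutatorElement_eq_one_iff_mul_comm, hx]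
        exact (Subgroup.mem_center_iff.mp q.2 _).symm
      exact hcen _ ((⁅x, (⟨g', hg'⟩ : R)⁆ : R)).2
        (fun k hk => (congrArg Subtype.val (Subgroup.mem_center_iff.mp h1 ⟨k, hk⟩)).symm)
    · exact Subtype.ext (hx ▸ (QuotientGroup.eq_one_iff _).mpr (Subgroup.mem_center_iff.mpr
        fun k => Subtype.ext (by simp [h])))
    · exact Subtype.ext (hx ▸ (QuotientGroup.eq_one_iff _).mpr (Subgroup.mem_center_iff.mpr
        fun k => Subtype.ext (Commute.neg_one_right (k : SL2 F) |>.eq |> fun e => by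
          simpa [h] using e)))
  obtain ⟨hxx, htx⟩ := hTsq x hxT hx1 hx2
  set y : SL2 F := a * x * a⁻¹ with hy
  have hyT : T y := hTconj x hxT
  have hnc : ∀ b : SL2 F, b ≠ 1 → (∃ k, b ^ p ^ k = 1) → ¬ Commute x (b * x * b⁻¹) := by
    rintro b hb ⟨k, hk⟩ hc
    rcases scalar_of_commute_conj p hp hk hb (hRp x hxT.1) hc with h | h
    · exact hx1 h
    · exact hx2 h
  have hxy : ¬ Commute x y := hnc a ha1 ⟨ka, hapk⟩
  have ha2 : a ^ 2 ≠ 1 := fun h => ha1 (by
    obtain ⟨j, hj⟩ := (hpp.odd_of_ne_two hp).pow (n := ka)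
    have h' := hapk
    rw [hj, pow_succ, pow_mul, h, one_pow, one_mul] at h'
    exact h')
  have hxy2 : ¬ Commute x (a ^ 2 * x * (a ^ 2)⁻¹) :=
    hnc _ ha2 ⟨ka, by rw [← pow_mul, mul_comm, pow_mul, hapk, one_pow]⟩
  have htr : ∀ z, T z → ¬ Commute x z → Matrix.trace ((x : M2 F) * (z : M2 F)) = 0 := by
    intro z hz hnz
    have h3 : x * z ≠ 1 := fun h => hnz (by
      rw [eq_inv_of_mul_eq_one_right h]; exact (Commute.refl x).inv_right)
    have h4 : x * z ≠ -1 := fun h => hnz (by
      rw [show z = x⁻¹ * -1 by rw [← h, inv_mul_cancel_left]]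
      exact ((Commute.refl x).inv_right).mul_right (Commute.neg_one_right x))
    simpa using (hTsq _ (hTmul x z hxT hz) h3 h4).2
  have hN := nil p hapk
  set N : M2 F := (a : M2 F) - 1 with hNdef
  set s : F := Matrix.trace ((x : M2 F) * N) with hs
  have hNt : Matrix.trace N = 0 := trace_of_sq_zero hN
  have hxxM : (x : M2 F) * (x : M2 F) = -1 := by
    have := congrArg (fun q : SL2 F => (q : M2 F)) hxx
    simpa using this
  have hE1 : -2 - s ^ 2 = 0 := by
    rw [← trace_identity hxxM hN hNt]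
    have := htr y hyT hxy
    rw [hy] at this
    simpa [hNdef, coe_inv_unipotent hN, mul_assoc] using this
  have hE2 : -2 - (2 * s) ^ 2 = 0 := by
    have h2N : ((2 : F) • N) * ((2 : F) • N) = 0 := by
      rw [smul_mul_assoc, mul_smul_comm, hN, smul_zero, smul_zero]
    have := trace_identity hxxM h2N (by rw [Matrix.trace_smul, hNt, smul_zero])
    rw [show 2 * s = Matrix.trace ((x : M2 F) * ((2 : F) • N)) by
      rw [mul_smul_comm, Matrix.trace_smul, hs, smul_eq_mul], ← this]
    have h := htr _ (by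
      have := hTconj _ (hTconj x hxT)
      rwa [show a * (a * x * a⁻¹) * a⁻¹ = a ^ 2 * x * (a ^ 2)⁻¹ by simp [sq, mul_assoc]] at this) hxy2
    have hco : ((a ^ 2 : SL2 F) : M2 F) = 1 + (2 : F) • N := by
      rw [sq, Matrix.SpecialLinearGroup.coe_mul, hNdef]
      have h' : ((a : M2 F) - 1) * ((a : M2 F) - 1) = 0 := hN
      rw [two_smul]
      linear_combination (norm := noncomm_ring) h'
    have hco' : (((a ^ 2)⁻¹ : SL2 F) : M2 F) = 1 - (2 : F) • N := by
      have h' : ((a ^ 2 : SL2 F) : M2 F) - 1 = (2 : F) • N := by rw [hco, add_sub_cancel_left]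
      rw [coe_inv_unipotent (a := a ^ 2) (by rw [h']; exact h2N), h']
    rw [Matrix.SpecialLinearGroup.coe_mul, Matrix.SpecialLinearGroup.coe_mul, hco, hco'] at h
    simpa only [mul_assoc] using h
  have hs0 : s ≠ 0 := fun h => h2F (by rw [h] at hE1; linear_combination -hE1)
  have h3F : (3 : F) = 0 := by
    have : (3 : F) * s ^ 2 = 0 := by linear_combination hE1 - hE2
    exact (mul_eq_zero.mp this).resolve_right (pow_ne_zero 2 hs0)
  have hp3 : p = 3 := by
    have : p ∣ 3 := (CharP.cast_eq_zero_iff F p 3).mp (by exact_mod_cast h3F)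
    exact (Nat.prime_dvd_prime_iff_eq hpp Nat.prime_three).mp this
  subst hp3
  have hs2 : s ^ 2 = 1 := by linear_combination -hE1 - h3F
  have hxy' : y * x = -1 * (x * y) := by
    rcases hyT.2 x hxT.1 with h | h
    · exact absurd (commutatorElement_eq_one_iff_mul_comm.mp h).symm hxy
    · rw [← h, commutatorElement_def]
      group
  have hyne : y ≠ 1 ∧ y ≠ -1 := ⟨fun h => hxy (h ▸ Commute.one_right x),
    fun h => hxy (h ▸ Commute.neg_one_right x)⟩
  obtain ⟨hyy, -⟩ := hTsq y hyT hyne.1 hyne.2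
  -- every element of `R` is `±1, ±x, ±y, ±xy`
  have hcover : ∀ g ∈ R, ∃ w : QuaternionGroup 2, quatHom hxx hyy hxy' w = g := by
    intro g hg
    have hsg : ∀ z, T z → Commute g z ∨ z * g = -1 * (g * z) := fun z hz => by
      rcases hz.2 g hg with h | h
      · exact Or.inl (commutatorElement_eq_one_iff_mul_comm.mp h).symm
      · right
        rw [← h, commutatorElement_def]
        group
    have hboth : ∀ k ∈ R, Commute k x → Commute k y → k = 1 ∨ k = -1 := fun k hk h1 h2 =>
      scalar_of_commute_two hxy h1 h2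
    exact cover hxx hyy hxy' (hsg x hxT) (hsg y hyT) hxT.1 hyT.1 hg hboth
  have hle : ∀ w, quatHom hxx hyy hxy' w ∈ R := quat_mem hxx hyy hxy' hxT.1 hyT.1
  have hinj : Function.Injective (quatHom hxx hyy hxy') := quat_injective h2F hxx hyy hxy' hxy
  let φR : QuaternionGroup 2 →* R := (quatHom hxx hyy hxy').codRestrict R hle
  have hbij : Function.Bijective φR := ⟨fun u v h => hinj (congrArg Subtype.val h),
    fun g => let ⟨w, hw⟩ := hcover g g.2; ⟨w, Subtype.ext hw⟩⟩
  refine ⟨rfl, ⟨(MulEquiv.ofBijective φR hbij).symm⟩, ?_⟩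
  have hcardR : Nat.card R = 8 := by
    rw [← Nat.card_eq_of_bijective φR hbij, Nat.card_eq_fintype_card, QuaternionGroup.card]
  have horda : orderOf a = 3 := by
    refine orderOf_eq_prime ?_ ha1
    exact pow_three_unipotent h3F hN
  have hcard : Nat.card (R ⊔ Subgroup.zpowers a : Subgroup (SL2 F)) = 24 := by
    rw [Coprime.card_sup_eq_mul hza (Coprime.inf_eq_bot_of_coprime (by
      rw [hcardR, Nat.card_zpowers, horda]; norm_num)), hcardR, Nat.card_zpowers, horda]
  exact iso_sl23 hxxM hN (hs ▸ hs2) htx hNt (H := R ⊔ Subgroup.zpowers a) hcard (fun g hg => by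
    refine (sup_le ?_ (Subgroup.zpowers_le.mpr (Subgroup.subset_closure (Or.inr rfl))) :
      R ⊔ Subgroup.zpowers a ≤ Subgroup.closure {x, a}) hg
    intro g hg
    obtain ⟨w, rfl⟩ := hcover g hg
    exact quat_mem hxx hyy hxy' (Subgroup.subset_closure (Or.inl rfl))
      (mul_mem (mul_mem (Subgroup.subset_closure (Or.inr rfl)) (Subgroup.subset_closure (Or.inl rfl)))
        (inv_mem (Subgroup.subset_closure (Or.inr rfl)))) w)

end Cfsg.Agent.S3740
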