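import Cfsg.Statements.S3741
import Cfsg.Agent.Coprime.Basic
set_option autoImplicit false
open Cfsg

namespace Cfsg.Agent.S3741

open Subgroup
open scoped commutatorElement

theorem count_pairs {G : Type*} [Group G] [Finite G] {p : ℕ} (A B : Subgroup G)
    (h : ∀ a ∈ A, a ∉ centralizer (B : Set G) →
      p * Nat.card (B ⊓ centralizer {a} : Subgroup G) = Nat.card B) :
    p * Nat.card {x : A × B // Commute (x.1 : G) x.2} + Nat.card (A ⊓ centralizer (B : Set G) : Subgroup G) * Nat.card B
      = Nat.card A * Nat.card B + p * (Nat.card (A ⊓ centralizer (B : Set G) : Subgroup G) * Nat.card B) := by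
  classical
  have := Fintype.ofFinite A
  have hfib : Nat.card {x : A × B // Commute (x.1 : G) x.2}
      = ∑ a : A, Nat.card (B ⊓ centralizer {(a : G)} : Subgroup G) := by
    rw [← Nat.card_sigma]
    refine Nat.card_congr
      { toFun := fun x => ⟨x.1.1, ⟨(x.1.2 : G), x.1.2.2, mem_centralizer_singleton_iff.mpr x.2.eq.symm⟩⟩
        invFun := fun x => ⟨(x.1, ⟨(x.2 : G), x.2.2.1⟩), (mem_centralizer_singleton_iff.mp x.2.2.2).symm⟩
        left_inv := fun x => rfl
        right_inv := fun x => rfl }
  have hfull : ∀ a : A, (a : G) ∈ centralizer (B : Set G) →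
      Nat.card (B ⊓ centralizer {(a : G)} : Subgroup G) = Nat.card B := fun a ha => by
    rw [inf_eq_left.mpr fun b hb => mem_centralizer_singleton_iff.mpr (mem_centralizer_iff.mp ha b hb)]
  have hcard : Nat.card (A ⊓ centralizer (B : Set G) : Subgroup G)
      = (Finset.univ.filter fun a : A => (a : G) ∈ centralizer (B : Set G)).card := by
    rw [← Nat.card_eq_finsetCard]
    exact Nat.card_congr
      { toFun := fun x => ⟨⟨x, x.2.1⟩, Finset.mem_filter.mpr ⟨Finset.mem_univ _, x.2.2⟩⟩
        invFun := fun x => ⟨(x.1 : G), x.1.2, (Finset.mem_filter.mp x.2).2⟩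
        left_inv := fun x => rfl
        right_inv := fun x => rfl }
  rw [hfib, Finset.mul_sum, hcard, Nat.card_eq_fintype_card (α := A), ← Finset.card_univ,
    ← Finset.card_filter_add_card_filter_not (s := Finset.univ) (fun a : A => (a : G) ∈ centralizer (B : Set G)),
    ← Finset.sum_filter_add_sum_filter_not Finset.univ (fun a : A => (a : G) ∈ centralizer (B : Set G)),
    Finset.sum_congr rfl (fun a ha => congrArg (p * ·) (hfull a (Finset.mem_filter.mp ha).2)),
    Finset.sum_congr rfl (fun (a : A) ha => h a a.2 (Finset.mem_filter.mp ha).2)]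
  simp only [Finset.sum_const, smul_eq_mul]
  ring

theorem moved_card {G : Type*} [Group G] [Finite G] {p : ℕ} [Fact p.Prime] (B Z : Subgroup G)
    (hZ : Nat.card Z ≤ p) (hZp : IsPGroup p Z) (hBZ : B ≤ centralizer (Z : Set G)) (a : G)
    (ha : ∀ b ∈ B, ⁅a, b⁆ ∈ Z) (hne : a ∉ centralizer (B : Set G)) :
    p * Nat.card (B ⊓ centralizer {a} : Subgroup G) = Nat.card B := by
  let f : B →* Z := MonoidHom.mk' (fun b => ⟨⁅a, (b : G)⁆, ha b b.2⟩) fun b c => Subtype.ext <| by
    have h1 : Commute (b : G) ⁅a, (c : G)⁆ := (mem_centralizer_iff.mp (hBZ b.2) _ (ha c c.2)).symm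
    change ⁅a, (b : G) * c⁆ = ⁅a, (b : G)⁆ * ⁅a, (c : G)⁆
    calc ⁅a, (b : G) * c⁆ = ⁅a, (b : G)⁆ * ((b : G) * ⁅a, (c : G)⁆ * (b : G)⁻¹) := by
          simp only [commutatorElement_def]; group
      _ = ⁅a, (b : G)⁆ * ⁅a, (c : G)⁆ := by rw [h1.eq, mul_inv_cancel_right]
  have hker : Nat.card f.ker = Nat.card (B ⊓ centralizer {a} : Subgroup G) := by
    refine Nat.card_congr
      { toFun := fun x => ⟨((x : B) : G), (x : B).2, mem_centralizer_singleton_iff.mpr
          (commutatorElement_eq_one_iff_commute.mp (congrArg Subtype.val (MonoidHom.mem_ker.mp x.2))).symm.eq⟩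
        invFun := fun x => ⟨⟨x, x.2.1⟩, MonoidHom.mem_ker.mpr (Subtype.ext
          (commutatorElement_eq_one_iff_commute.mpr (show Commute (x : G) a from
            mem_centralizer_singleton_iff.mp x.2.2).symm))⟩
        left_inv := fun x => rfl
        right_inv := fun x => rfl }
  have hrange : Nat.card f.range = p := by
    obtain ⟨k, hk⟩ := (hZp.to_subgroup f.range).exists_card_eq
    have h1 : Nat.card f.range ≤ p := (Subgroup.card_le_card_group f.range).trans hZ
    have h2 : Nat.card f.range ≠ 1 := by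
      intro h
      refine hne fun b hb => ?_
      have h3 : f ⟨b, hb⟩ = 1 := mem_bot.mp ((card_eq_one.mp h).le ⟨⟨b, hb⟩, rfl⟩)
      exact (commutatorElement_eq_one_iff_commute.mp (congrArg Subtype.val h3)).symm.eq
    rcases k with _ | k
    · simp at hk; exact absurd (by simpa using hk) h2
    · refine le_antisymm h1 ?_
      rw [hk]
      exact Nat.le_self_pow k.succ_ne_zero p
  rw [← card_mul_index f.ker, index_ker, hrange, hker, mul_comm]


/-- Let A and B be subgroups of a finite p-group with [A, B] ≤ A ∩ B and [A, B] of order at most p. Then |A : C_A(B)| = |B : C_B(A)|. -/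
theorem result {G : Type*} [Group G] [Finite G] {p : ℕ} [Fact p.Prime] (hG : IsPGroup p G) (A B : Subgroup G) (hAB : ⁅A, B⁆ ≤ A ⊓ B) (hcard : Nat.card ↥⁅A, B⁆ ≤ p) : (A ⊓ Subgroup.centralizer (B : Set G)).relIndex A = (B ⊓ Subgroup.centralizer (A : Set G)).relIndex B := by
  set Z := ⁅A, B⁆ with hZ
  have hp := (Fact.out : p.Prime)
  have hZp : IsPGroup p Z := hG.to_subgroup Z
  have hcent : ∀ X : Subgroup G, X ≤ normalizer (Z : Set G) → X ≤ centralizer (Z : Set G) := by
    intro X hX
    by_cases hZ1 : Z = ⊥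
    · rw [hZ1, coe_bot]
      intro x _ z hz
      rw [Set.mem_singleton_iff] at hz
      simp [hz]
    have hlt := Coprime.commutator_lt_of_isPGroup (hG.to_subgroup X) hZp hX hZ1
    rw [le_centralizer_iff, ← commutator_eq_bot_iff_le_centralizer]
    obtain ⟨k, hk⟩ := (hG.to_subgroup ⁅Z, X⁆).exists_card_eq
    have h1 : Nat.card (⁅Z, X⁆ : Subgroup G) < p :=
      (lt_of_le_of_ne (card_le_of_le hlt.le) fun e => hlt.ne (eq_of_le_of_card_ge hlt.le e.ge)).trans_le hcard
    rw [hk] at h1
    rcases k with _ | k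
    · exact card_eq_one.mp (by simpa using hk)
    · exact absurd h1 (not_lt.mpr (Nat.le_self_pow k.succ_ne_zero p))
  have hnorm : A ⊔ B ≤ normalizer (Z : Set G) := Coprime.le_normalizer_commutator
  have hA : ∀ a ∈ A, a ∉ centralizer (B : Set G) →
      p * Nat.card (B ⊓ centralizer {a} : Subgroup G) = Nat.card B := fun a ha hne =>
    moved_card B Z hcard hZp (hcent B (le_sup_right.trans hnorm)) a
      (fun b hb => commutator_mem_commutator ha hb) hne
  have hB : ∀ b ∈ B, b ∉ centralizer (A : Set G) →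
      p * Nat.card (A ⊓ centralizer {b} : Subgroup G) = Nat.card A := fun b hb hne =>
    moved_card A Z hcard hZp (hcent A (le_sup_left.trans hnorm)) b
      (fun a ha => by rw [← commutatorElement_inv]; exact Z.inv_mem (commutator_mem_commutator ha hb)) hne
  have h1 := count_pairs A B hA
  have h2 := count_pairs B A hB
  rw [Nat.card_congr ((Equiv.prodComm A B).subtypeEquiv (p := fun x => Commute (x.1 : G) x.2)
    (q := fun x => Commute (x.1 : G) x.2) fun x => ⟨Commute.symm, Commute.symm⟩)] at h1
  set A0 : Subgroup G := A ⊓ centralizer (B : Set G)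
  set B0 : Subgroup G := B ⊓ centralizer (A : Set G)
  have h3 : Nat.card A0 * Nat.card B = Nat.card B0 * Nat.card A := by
    have := hp.two_le
    nlinarith [h1, h2]
  have hidx : ∀ X Y : Subgroup G, X ≤ Y → Nat.card X * X.relIndex Y = Nat.card Y := by
    intro X Y h
    rw [← relIndex_bot_left, ← relIndex_bot_left, relIndex_mul_relIndex _ _ _ bot_le h]
  have h4 := hidx A0 A inf_le_left
  have h5 := hidx B0 B inf_le_left
  rw [← h4, ← h5, ← mul_assoc, ← mul_assoc, mul_comm (Nat.card B0) (Nat.card A0)] at h3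
  exact (Nat.eq_of_mul_eq_mul_left (Nat.mul_pos Nat.card_pos Nat.card_pos) h3).symm

end Cfsg.Agent.S3741
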