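import Cfsg.Statements.S3743
import Cfsg.Agent.Layer.Subnormal
import Cfsg.Agent.Core.Fitting
import Cfsg.Agent.Coprime.Generation
set_option autoImplicit false
open Cfsg

namespace Cfsg.Agent.S3743

open Subgroup


/-- In a finite group G, every subnormal nilpotent subgroup lies in the Fitting subgroup F(G), and, for a set of primes π, every subnormal subgroup all of whose prime divisors lie in π lies in O_π(G). -/
theorem result {G : Type*} [Group G] [Finite G] (A : Subgroup G) (hA : A.IsSubnormal) : (Group.IsNilpotent A → A ≤ Cfsg.fittingSubgroup G) ∧ ∀ π : Set ℕ, (∀ p : ℕ, p.Prime → p ∣ Nat.card A → p ∈ π) → A ≤ Cfsg.piCore π G := by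
  refine ⟨fun hnil => ?_, fun π hπ => ?_⟩
  · refine Coprime.le_of_forall_sylow_le fun p hp => ?_
    have := Fact.mk hp
    obtain ⟨P⟩ : Nonempty (Sylow p A) := inferInstance
    have hPn := (Group.isNilpotent_of_finite_tfae.out 0 3 rfl rfl).mp hnil p inferInstance P
    exact ⟨P, (Layer.subnormal_le_pCore (Subgroup.IsSubnormal.trans' hPn.isSubnormal hA)
      (P.2.map _)).trans (Core.pCore_le_fittingSubgroup p)⟩
  · refine Layer.subnormal_le_radical (fun M => ∀ p : ℕ, p.Prime → p ∣ Nat.card M → p ∈ π)
      (fun p hp h => ?_) (fun g M hM p hp h => hM p hp (by rwa [Layer.card_map_conj] at h))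
      (fun M N hM hN h p hp hd => ?_) _ (fun M hM hPM => le_sSup (a := M) (show M.Normal ∧ _ from ⟨hM, hPM⟩)) hA hπ
    · rw [Subgroup.card_bot, Nat.dvd_one] at h
      exact absurd h hp.ne_one
    · rcases hp.dvd_mul.mp (hd.trans (Layer.card_sup_dvd_of_le_normalizer h)) with h1 | h1
      · exact hM p hp h1
      · exact hN p hp h1

end Cfsg.Agent.S3743
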