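import Cfsg.Statements.S3746
import Cfsg.Agent.Layer.Intrinsic

set_option linter.style.haveILetI false

set_option autoImplicit false
open Cfsg
open scoped commutatorElement

namespace Cfsg.Agent.S3746

/-- Let Z ≤ Z(G) be a central subgroup of a finite group G and E a subgroup of G containing Z whose image E/Z is a component of G/Z (subnormal and quasisimple). Then the derived subgroup [E, E] is a component of G. -/
theorem result {G : Type*} [Group G] [Finite G] (Z : Subgroup G) (hZ : Z ≤ Subgroup.center G) [Z.Normal] (E : Subgroup G) (hZE : Z ≤ E) (hE : Cfsg.IsComponent (E.map (QuotientGroup.mk' Z))) : Cfsg.IsComponent ⁅E, E⁆ := by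
  set f := QuotientGroup.mk' Z with hf
  have hfs : Function.Surjective f := QuotientGroup.mk'_surjective Z
  have hEsn : E.IsSubnormal := by
    have h := hE.1.comap f
    rwa [Subgroup.comap_map_eq, hf, QuotientGroup.ker_mk', sup_eq_left.mpr hZE] at h
  have hle : ⁅E, E⁆ ≤ E := Subgroup.commutator_le_self E
  have hperf : ⁅E.map f, E.map f⁆ = E.map f := Layer.qs_subgroup_perfect hE.2
  have hsup : E ≤ ⁅E, E⁆ ⊔ Z := by
    have h1 : E ≤ (⁅E, E⁆.map f).comap f := by
      rw [Subgroup.map_commutator, hperf]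
      exact Subgroup.le_comap_map f E
    rwa [Subgroup.comap_map_eq, hf, QuotientGroup.ker_mk'] at h1
  have hperf' : ⁅⁅E, E⁆, ⁅E, E⁆⁆ = ⁅E, E⁆ := by
    refine le_antisymm (Subgroup.commutator_le_self _) ?_
    refine (Subgroup.commutator_mono hsup hsup).trans (Layer.commutator_sup_le ?_ ?_)
    · exact hZ.trans (Subgroup.center_le_centralizer _)
    · exact hZ.trans (Subgroup.center_le_centralizer _)
  refine ⟨Subgroup.IsSubnormal.step _ _ hle hEsn
    ((Subgroup.normal_subgroupOf_iff_le_normalizer hle).mpr (Subgroup.normalizer_commutator_ge_left E E)), ?_⟩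
  haveI : Group.IsPerfect ↥⁅E, E⁆ := Subgroup.isPerfect_iff.mpr hperf'
  have hmap : (⁅E, E⁆ : Subgroup G).map f = E.map f := by rw [Subgroup.map_commutator, hperf]
  let g : ↥⁅E, E⁆ →* ↥(E.map f) :=
    (MulEquiv.subgroupCongr hmap).toMonoidHom.comp (f.subgroupMap ⁅E, E⁆)
  have hg : Function.Surjective g :=
    (MulEquiv.subgroupCongr hmap).surjective.comp (f.subgroupMap_surjective _)
  refine Layer.isQuasisimple_of_central_ker (f := g) hg (fun a ha => ?_) hE.2
  rw [Subgroup.mem_center_iff]
  intro b
  have h1 : (a : G) ∈ Z := (QuotientGroup.eq_one_iff (a : G)).mp (congrArg Subtype.val (MonoidHom.mem_ker.mp ha))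
  exact Subtype.ext (Subgroup.mem_center_iff.mp (hZ h1) b)

end Cfsg.Agent.S3746
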