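import Cfsg.Statements.S3747
import Cfsg.Agent.Layer.FStar

set_option linter.style.haveILetI false

set_option autoImplicit false
open Cfsg
open scoped commutatorElement

namespace Cfsg.Agent.S3747

/-- Let G be a finite group. (a) If K is a component of G with trivial centre, then the normal closure of K in G is a minimal normal subgroup of G. (b) If the Fitting subgroup of G is trivial, then the layer E(G) is generated by the minimal normal subgroups of G. -/
theorem result {G : Type*} [Group G] [Finite G] : (∀ K : Subgroup G, Cfsg.IsComponent K → Subgroup.center ↥K = ⊥ → (Subgroup.normalClosure (K : Set G) ≠ ⊥ ∧ ∀ N : Subgroup G, N.Normal → N ≤ Subgroup.normalClosure (K : Set G) → N = ⊥ ∨ N = Subgroup.normalClosure (K : Set G))) ∧ (Cfsg.fittingSubgroup G = ⊥ → sSup {N : Subgroup G | N ≠ ⊥ ∧ N.Normal ∧ ∀ N' : Subgroup G, N'.Normal → N' ≤ N → N' = ⊥ ∨ N' = N} = Cfsg.layer G) := by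
  have hpart : ∀ K : Subgroup G, Cfsg.IsComponent K → Subgroup.center ↥K = ⊥ →
      (Subgroup.normalClosure (K : Set G) ≠ ⊥ ∧ ∀ N : Subgroup G, N.Normal →
        N ≤ Subgroup.normalClosure (K : Set G) → N = ⊥ ∨ N = Subgroup.normalClosure (K : Set G)) := by
    intro K hK hz
    set s := Set.range fun g : G => K.map (MulAut.conj g).toMonoidHom with hs
    have hsc : ∀ M ∈ s, IsComponent M := by rintro _ ⟨g, rfl⟩; exact Layer.isComponent_map_conj hK g
    refine ⟨fun hb => Layer.qs_subgroup_ne_bot hK.2
      (le_bot_iff.mp (hb ▸ (Subgroup.subset_normalClosure : (K : Set G) ⊆ _))), fun N hN hle => ?_⟩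
    rcases Layer.component_le_or_commute hK hN.isSubnormal with h | h
    · exact Or.inr (le_antisymm hle (Subgroup.normalClosure_le_normal h))
    left
    have hcl : Subgroup.normalClosure (K : Set G) ≤ sSup s := by
      haveI : (sSup s).Normal := Layer.normal_sSup_of_conj (by
        rintro _ ⟨g, rfl⟩ g'
        exact ⟨g' * g, (Layer.map_conj_map_conj K g g').symm⟩)
      exact Subgroup.normalClosure_le_normal
        (le_sSup (⟨1, Layer.map_conj_one K⟩ : K ∈ s) : K ≤ sSup s)
    have hcomm : ⁅N, sSup s⁆ = ⊥ := Layer.commutator_sSup_eq_bot (by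
      rintro _ ⟨g, rfl⟩
      haveI := hN
      rw [← Layer.map_conj_eq_of_normal N g, ← Subgroup.map_commutator, Layer.commutator_eq_bot_symm h,
        Subgroup.map_bot])
    rw [← le_bot_iff]
    intro n hn
    have h1 : n ∈ sSup s ⊓ Subgroup.centralizer ((sSup s : Subgroup G) : Set G) :=
      ⟨hcl (hle hn), Subgroup.commutator_eq_bot_iff_le_centralizer.mp hcomm hn⟩
    rw [Layer.center_sSup_components hsc] at h1
    have hb : sSup ((fun L : Subgroup G => L ⊓ Subgroup.centralizer (L : Set G)) '' s) ≤ ⊥ := ?_
    · exact hb h1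
    refine sSup_le ?_
    rintro _ ⟨_, ⟨g, rfl⟩, rfl⟩
    rintro a ⟨⟨k, hk, rfl⟩, ha⟩
    have hkc : k ∈ K ⊓ Subgroup.centralizer (K : Set G) := ⟨hk, Subgroup.mem_centralizer_iff.mpr fun b hb => by
      have h2 := Subgroup.mem_centralizer_iff.mp ha _ ⟨b, hb, rfl⟩
      refine (MulAut.conj g).injective ?_
      rw [map_mul, map_mul]
      exact h2⟩
    rw [← Layer.map_center_eq_inf, hz, Subgroup.map_bot, Subgroup.mem_bot] at hkc
    rw [Subgroup.mem_bot, hkc, map_one]
  refine ⟨hpart, fun hF => le_antisymm (sSup_le ?_) (sSup_le fun K hK => ?_)⟩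
  · rintro N ⟨hne, hN, hmin⟩
    haveI := hN
    haveI : (Cfsg.generalizedFittingSubgroup G).Characteristic :=
      Subgroup.characteristic_iff_map_eq.mpr fun e : G ≃* G => Layer.map_generalizedFitting_equiv e
    rcases hmin (N ⊓ Cfsg.generalizedFittingSubgroup G) inferInstance inf_le_left with h | h
    · exfalso
      refine hne (le_bot_iff.mp ?_)
      rw [← h]
      refine le_inf le_rfl ((Subgroup.commutator_eq_bot_iff_le_centralizer.mp (le_bot_iff.mp ?_)).trans
        Layer.centralizer_generalizedFitting_le)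
      exact (Subgroup.commutator_le_inf N _).trans h.le
    · refine (inf_eq_left.mp h).trans ?_
      rw [Cfsg.generalizedFittingSubgroup, hF, sup_bot_eq]
  · have hz : Subgroup.center ↥K = ⊥ := by
      refine (Subgroup.map_eq_bot_iff_of_injective _ K.subtype_injective).mp (le_bot_iff.mp ?_)
      rw [← hF]
      refine Layer.subnormal_le_fitting ?_ ?_
      · refine Subgroup.IsSubnormal.step _ _ (Subgroup.map_subtype_le _) hK.1 ?_
        rw [Subgroup.subgroupOf, Subgroup.comap_map_eq_self_of_injective K.subtype_injective]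
        infer_instance
      · haveI : Group.IsNilpotent ↥(Subgroup.center ↥K) := by
          haveI : IsMulCommutative ↥(Subgroup.center ↥K) :=
            ⟨⟨fun a b => Subtype.ext (Subgroup.mem_center_iff.mp b.2 a)⟩⟩
          open scoped IsMulCommutative in infer_instance
        exact Group.nilpotent_of_mulEquiv
          (Subgroup.equivMapOfInjective (Subgroup.center ↥K) _ K.subtype_injective)
    obtain ⟨h1, h2⟩ := hpart K hK hz
    exact (Subgroup.subset_normalClosure : (K : Set G) ⊆ _).trans
      (SetLike.coe_subset_coe.mpr (le_sSup (a := Subgroup.normalClosure (K : Set G))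
        (by exact ⟨h1, Subgroup.normalClosure_normal, h2⟩)))

end Cfsg.Agent.S3747
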