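import Cfsg.Statements.S3748
import Cfsg.Agent.Layer.FStar
import Cfsg.Agent.Coprime.Tools
-- import your own Cfsg.Agent.* helpers here

set_option autoImplicit false
open Cfsg

namespace Cfsg.Agent.S3748

/-- Call a proper subgroup M of G primitive when M = N_G(N) for every non-trivial normal subgroup N of M. If M is a primitive subgroup of the finite group G, then no non-trivial subnormal subgroup of G is contained in M; in particular M ∩ F(G) = 1. -/
theorem result {G : Type*} [Group G] [Finite G] (M : Subgroup G) (hM : M ≠ ⊤) (hprim : ∀ N : Subgroup G, N ≤ M → M ≤ Subgroup.normalizer (N : Set G) → N ≠ ⊥ → Subgroup.normalizer (N : Set G) = M) : (∀ L : Subgroup G, L.IsSubnormal → L ≤ M → L = ⊥) ∧ M ⊓ Cfsg.fittingSubgroup G = ⊥ := by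
  classical
  have hkey : ∀ F : Subgroup G, F.Normal → F ⊓ M ≠ ⊥ → ¬ F ≤ M := by
    intro F hF hne hle
    haveI := hF
    have h := hprim F hle Subgroup.le_normalizer_of_normal (fun h => hne (by rw [h, bot_inf_eq]))
    rw [Subgroup.normalizer_eq_top] at h
    exact hM h.symm
  have hFit : M ⊓ Cfsg.fittingSubgroup G = ⊥ := by
    by_contra hne
    set F := Cfsg.fittingSubgroup G
    haveI : Group.IsNilpotent F := Core.fittingSubgroup_isNilpotent
    have hlt : ¬ F ≤ M := hkey F inferInstance (by rwa [inf_comm])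
    have hN := hprim (M ⊓ F) inf_le_left
      (Coprime.le_normalizer_inf Subgroup.le_normalizer Subgroup.le_normalizer_of_normal) hne
    have hD : (M.subgroupOf F) < Subgroup.normalizer (M.subgroupOf F : Set F) :=
      Group.normalizerCondition_of_isNilpotent _ (lt_top_iff_ne_top.mpr fun h => hlt (Subgroup.subgroupOf_eq_top.mp h))
    obtain ⟨x, hx, hx'⟩ := SetLike.exists_of_lt hD
    refine hx' ?_
    rw [Subgroup.mem_subgroupOf, ← hN, Subgroup.mem_normalizer_iff]
    intro z
    constructor
    · rintro ⟨hzM, hzF⟩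
      exact ⟨(Subgroup.mem_normalizer_iff.mp hx ⟨z, hzF⟩).mp hzM,
        (inferInstance : F.Normal).conj_mem z hzF x⟩
    · rintro ⟨hzM, hzF⟩
      have hzF' : z ∈ F := by
        have := (inferInstance : F.Normal).conj_mem _ hzF (x : G)⁻¹
        simpa [mul_assoc] using this
      exact ⟨(Subgroup.mem_normalizer_iff.mp hx ⟨z, hzF'⟩).mpr hzM, hzF'⟩
  refine ⟨fun L hL hLM => ?_, hFit⟩
  by_contra hne
  haveI : Nontrivial L := (Subgroup.nontrivial_iff_ne_bot L).mpr hne
  by_cases hF : Cfsg.fittingSubgroup L = ⊥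
  · have hl : Cfsg.layer L ≠ ⊥ := fun h => Layer.generalizedFitting_ne_bot (G := L) (by
      rw [generalizedFittingSubgroup, h, hF, bot_sup_eq])
    rw [Ne, Layer.layer_eq_bot_iff] at hl
    push Not at hl
    obtain ⟨K, hK⟩ := hl
    have hKG := (Layer.isComponent_map_subtype_iff hL K).mp hK
    set E0 : Subgroup G := sSup {C | Cfsg.IsComponent C ∧ C ≤ M} with hE0
    have hE0M : E0 ≤ M := sSup_le fun C hC => hC.2
    have hE0ne : E0 ≠ ⊥ := fun h => Layer.qs_subgroup_ne_bot hKG.2
      (le_bot_iff.mp (h ▸ le_sSup (⟨hKG, (Subgroup.map_subtype_le _).trans hLM⟩ :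
        Cfsg.IsComponent _ ∧ _)))
    have hnorm : M ≤ Subgroup.normalizer (E0 : Set G) := by
      intro m hm
      have hle : ∀ g ∈ M, E0.map (MulAut.conj g).toMonoidHom ≤ E0 := by
        intro g hg
        rw [hE0, sSup_eq_iSup, Subgroup.map_iSup]
        simp only [Subgroup.map_iSup]
        refine iSup₂_le fun C hC => le_iSup₂_of_le _ ⟨Layer.isComponent_map_conj hC.1 g, ?_⟩ le_rfl
        rintro _ ⟨c, hc, rfl⟩
        exact mul_mem (mul_mem hg (hC.2 hc)) (inv_mem hg)
      rw [Subgroup.mem_normalizer_iff]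
      refine fun z => ⟨fun hz => hle m hm ⟨z, hz, rfl⟩, fun hz => ?_⟩
      have := hle m⁻¹ (inv_mem hm) ⟨_, hz, rfl⟩
      simpa [mul_assoc] using this
    have hN := hprim E0 hE0M hnorm hE0ne
    have hlay : Cfsg.layer G ≤ M := sSup_le fun C hC => by
      by_cases hCM : C ≤ M
      · exact hCM
      · rw [← hN]
        refine le_trans ?_ (Subgroup.centralizer_le_normalizer _)
        rw [← Subgroup.commutator_eq_bot_iff_le_centralizer]
        exact Layer.commutator_sSup_eq_bot fun D hD =>
          Layer.components_commute hC hD.1 fun h => hCM (h ▸ hD.2)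
    refine hkey (Cfsg.layer G) inferInstance ?_ hlay
    rw [inf_eq_left.mpr hlay]
    exact fun h => (Layer.layer_eq_bot_iff.mp h) _ hKG
  · refine hF ((Subgroup.map_eq_bot_iff_of_injective _ L.subtype_injective).mp (le_bot_iff.mp ?_))
    rw [Layer.map_fitting_subnormal hL, ← hFit, inf_comm M]
    exact inf_le_inf_left _ hLM

end Cfsg.Agent.S3748
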