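import Cfsg.Statements.S3749
import Cfsg.Agent.Coprime.Basic
import Cfsg.Agent.Core.PCore
-- import your own Cfsg.Agent.* helpers here

set_option autoImplicit false
open Cfsg
open scoped commutatorElement Pointwise

namespace Cfsg.Agent.S3749

theorem exists_fixed {G : Type*} [Group G] [Finite G] {p : ℕ} [Fact p.Prime] {P T : Subgroup G}
    (hP : IsPGroup p P) (hT : IsPGroup p T) (hPT : P ≤ Subgroup.normalizer (T : Set G)) (hne : T ≠ ⊥) :
    ∃ z ∈ T, z ≠ 1 ∧ z ∈ Subgroup.centralizer (P : Set G) := by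
  induction T using WellFoundedLT.induction with
  | _ T ih =>
  by_cases h : ⁅T, P⁆ = ⊥
  · obtain ⟨z, hz, hz1⟩ := T.bot_or_exists_ne_one.resolve_left hne
    exact ⟨z, hz, hz1, (Subgroup.commutator_eq_bot_iff_le_centralizer.mp h) hz⟩
  · have hlt := Coprime.commutator_lt_of_isPGroup hP hT hPT hne
    obtain ⟨z, hz, h1, h2⟩ := ih _ hlt (hT.to_le hlt.le) (Subgroup.normalizer_commutator_ge_right T P) h
    exact ⟨z, hlt.le hz, h1, h2⟩


/-- Call a proper subgroup M of G primitive when M = N_G(N) for every non-trivial normal subgroup N of M. Let M be a primitive subgroup of the finite group G, p a prime with O_p(M) ≠ 1, and N a normal subgroup of G with M ∩ N = 1. Then p does not divide the order of N; for every prime q there is exactly one Sylow q-subgroup of N normalized by M; and if the order of N has at least two prime divisors then M is not a maximal subgroup of G. -/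
theorem result {G : Type*} [Group G] [Finite G] (M : Subgroup G) (hM : M ≠ ⊤) (hprim : ∀ N : Subgroup G, N ≤ M → M ≤ Subgroup.normalizer (N : Set G) → N ≠ ⊥ → Subgroup.normalizer (N : Set G) = M) {p : ℕ} [Fact p.Prime] (hOp : Cfsg.pCore p ↥M ≠ ⊥) (N : Subgroup G) [N.Normal] (hMN : M ⊓ N = ⊥) : ¬ p ∣ Nat.card N ∧ (∀ q : ℕ, [Fact q.Prime] → ∃! Q : Sylow q ↥N, M ≤ Subgroup.normalizer ((Q : Subgroup ↥N).map N.subtype : Set G)) ∧ ((∃ q r : ℕ, q.Prime ∧ r.Prime ∧ q ≠ r ∧ q ∣ Nat.card N ∧ r ∣ Nat.card N) → ¬ IsCoatom M) := by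
  classical
  set P0 : Subgroup G := (Cfsg.pCore p M).map M.subtype with hP0
  have hP0M : P0 ≤ M := Subgroup.map_subtype_le _
  have hMP0 : M ≤ Subgroup.normalizer (P0 : Set G) := by
    intro m hm
    rw [Subgroup.mem_normalizer_iff]
    intro z
    constructor
    · rintro ⟨w, hw, rfl⟩
      exact ⟨⟨m, hm⟩ * w * ⟨m, hm⟩⁻¹, (inferInstance : (Cfsg.pCore p M).Normal).conj_mem w hw _, rfl⟩
    · rintro ⟨w, hw, hwz⟩
      refine ⟨⟨m, hm⟩⁻¹ * w * ⟨m, hm⟩, by simpa using (inferInstance : (Cfsg.pCore p M).Normal).conj_mem w hw (⟨m, hm⟩ : M)⁻¹, ?_⟩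
      rw [map_mul, map_mul, hwz]
      simp [mul_assoc]
  have hP0ne : P0 ≠ ⊥ := fun h => hOp ((Subgroup.map_eq_bot_iff_of_injective _ M.subtype_injective).mp h)
  have hP0p : IsPGroup p P0 := Core.pCore_isPGroup.map _
  have hN0 : Subgroup.normalizer (P0 : Set G) = M := hprim P0 hP0M hMP0 hP0ne
  have hC : N ⊓ Subgroup.centralizer (P0 : Set G) = ⊥ := by
    refine le_bot_iff.mp ?_
    rw [← hMN, inf_comm M, ← hN0]
    exact inf_le_inf_left _ (Subgroup.centralizer_le_normalizer _)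
  have hP0N : P0 ≤ Subgroup.normalizer (N : Set G) := Subgroup.le_normalizer_of_normal
  have hpN : ¬ p ∣ Nat.card N := by
    intro hdvd
    obtain ⟨S, hS⟩ := hP0p.exists_le_sylow
    set T : Subgroup G := (S : Subgroup G) ⊓ N with hT
    have hP0T : P0 ≤ Subgroup.normalizer (T : Set G) :=
      Coprime.le_normalizer_inf (hS.trans Subgroup.le_normalizer) hP0N
    have hT1 : T ≠ ⊥ := by
      intro h
      obtain ⟨x, hx⟩ := exists_prime_orderOf_dvd_card' p hdvd
      obtain ⟨S', hS'⟩ := (IsPGroup.of_card (p := p) (G := Subgroup.zpowers (x : G)) (n := 1) (by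
        rw [Nat.card_zpowers, Subgroup.orderOf_coe, hx, pow_one])).exists_le_sylow
      obtain ⟨g, hg⟩ := MulAction.exists_smul_eq G S' S
      have h1 : g * (x : G) * g⁻¹ ∈ T := by
        refine ⟨?_, Subgroup.Normal.conj_mem inferInstance _ x.2 g⟩
        rw [← hg, Sylow.coe_subgroup_smul]
        exact Subgroup.smul_mem_pointwise_smul _ (MulAut.conj g) _ (hS' (Subgroup.mem_zpowers _))
      rw [h, Subgroup.mem_bot, conj_eq_one_iff] at h1
      rw [show x = 1 from Subtype.ext h1, orderOf_one] at hx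
      exact (Fact.out : p.Prime).ne_one hx.symm
    -- a fixed point: the last term of `[T, P0, ..., P0]`
    obtain ⟨z, hz, hz1, hzc⟩ := exists_fixed hP0p (S.2.to_le inf_le_left) hP0T hT1
    exact hz1 (Subgroup.mem_bot.mp (hC ▸ (⟨hz.2, hzc⟩ : z ∈ N ⊓ Subgroup.centralizer (P0 : Set G))))
  have hcop : (Nat.card P0).Coprime (Nat.card N) := by
    obtain ⟨k, hk⟩ := IsPGroup.iff_card.mp hP0p
    rw [hk]
    exact ((Fact.out : p.Prime).coprime_iff_not_dvd.mpr hpN).pow_left k
  haveI : Group.IsNilpotent P0 := hP0p.isNilpotent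
  have hsolv : Group.IsSolvable P0 ∨ Group.IsSolvable N := Or.inl inferInstance
  have huniq : ∀ (q : ℕ) [Fact q.Prime], ∀ Q Q' : Sylow q N,
      P0 ≤ Subgroup.normalizer ((Q : Subgroup N).map N.subtype : Set G) →
      P0 ≤ Subgroup.normalizer ((Q' : Subgroup N).map N.subtype : Set G) → Q = Q' := by
    intro q _ Q Q' h1 h2
    obtain ⟨k, hk, hk'⟩ := Coprime.exists_centralizer_conj_sylow hP0N hcop hsolv Q Q' h1 h2
    have hk1 : k = 1 := Subtype.ext (Subgroup.mem_bot.mp (hC ▸ (⟨k.2, hk⟩ :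
      (k : G) ∈ N ⊓ Subgroup.centralizer (P0 : Set G))))
    rw [← hk', hk1, map_one, one_smul]
  have hex : ∀ (q : ℕ) [Fact q.Prime], ∃! Q : Sylow q N,
      M ≤ Subgroup.normalizer ((Q : Subgroup N).map N.subtype : Set G) := by
    intro q _
    obtain ⟨Q, hQ⟩ := Coprime.exists_invariant_sylow hP0N hcop hsolv q
    refine ⟨Q, ?_, fun Q' hQ' => huniq q Q' Q (hP0M.trans hQ') hQ⟩
    intro m hm
    -- the conjugate by `m` is again `P0`-invariant
    obtain ⟨Q', hQ'eq⟩ : ∃ Q' : Sylow q N, (Q' : Subgroup N).map N.subtype =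
        ((Q : Subgroup N).map N.subtype).map (MulAut.conj m).toMonoidHom := by
      have hsur : Function.Surjective (MulAut.conjNormal m : MulAut N).toMonoidHom :=
        fun y => (MulAut.conjNormal m : MulAut N).surjective y
      refine ⟨Q.mapSurjective hsur, ?_⟩
      change ((Q : Subgroup N).map (MulAut.conjNormal m : MulAut N).toMonoidHom).map N.subtype = _
      rw [Subgroup.map_map, Subgroup.map_map]
      rfl
    have hinv : P0 ≤ Subgroup.normalizer ((Q' : Subgroup N).map N.subtype : Set G) := by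
      rw [hQ'eq]
      intro a ha
      have ha' : m⁻¹ * a * m ∈ P0 := (Subgroup.mem_normalizer_iff''.mp (hMP0 hm) a).mp ha
      rw [Subgroup.mem_normalizer_iff]
      intro z
      constructor
      · rintro ⟨w, hw, rfl⟩
        refine ⟨m⁻¹ * a * m * w * (m⁻¹ * a * m)⁻¹, (Subgroup.mem_normalizer_iff.mp (hQ ha') w).mp hw, ?_⟩
        simp [mul_assoc]
      · rintro ⟨w, hw, hwz⟩
        refine ⟨(m⁻¹ * a * m)⁻¹ * w * (m⁻¹ * a * m), (Subgroup.mem_normalizer_iff''.mp (hQ ha') w).mp hw, ?_⟩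
        simp only [MulEquiv.coe_toMonoidHom, MulAut.conj_apply] at hwz ⊢
        calc m * ((m⁻¹ * a * m)⁻¹ * w * (m⁻¹ * a * m)) * m⁻¹ = a⁻¹ * (m * w * m⁻¹) * a := by simp [mul_assoc]
          _ = z := by rw [hwz]; simp [mul_assoc]
    refine Coprime.mem_normalizer_of_conj_smul_eq ?_
    have := huniq q Q' Q hinv hQ
    rw [this] at hQ'eq
    exact hQ'eq.symm
  refine ⟨hpN, fun q _ => hex q, ?_⟩
  · rintro ⟨q, r, hq, hr, hqr, hqN, hrN⟩ hmax
    haveI : Fact q.Prime := ⟨hq⟩
    obtain ⟨Q', hQ', -⟩ := hex q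
    set Q1 : Subgroup G := (Q' : Subgroup N).map N.subtype
    have hQ1N : Q1 ≤ N := Subgroup.map_subtype_le _
    have hQ1ne : Q1 ≠ ⊥ := fun h => Q'.ne_bot_of_dvd_card hqN
      ((Subgroup.map_eq_bot_iff_of_injective _ N.subtype_injective).mp h)
    rcases hmax.le_iff.mp (le_sup_left : M ≤ M ⊔ Q1) with h | h
    · have h1 : N ≤ Q1 := by
        intro x hx
        have hx' : x ∈ ((M ⊔ Q1 : Subgroup G) : Set G) := by rw [h]; exact Subgroup.mem_top x
        rw [Subgroup.coe_mul_of_left_le_normalizer_right _ _ hQ', Set.mem_mul] at hx'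
        obtain ⟨m, hm, w, hw, rfl⟩ := hx'
        have hmN : m ∈ N := by simpa using mul_mem hx (inv_mem (hQ1N hw))
        have h0 : m ∈ M ⊓ N := ⟨hm, hmN⟩
        rw [hMN, Subgroup.mem_bot] at h0
        rw [h0, one_mul]
        exact hw
      obtain ⟨k, hk⟩ := IsPGroup.iff_card.mp (Q'.2.map N.subtype)
      have hr1 := hrN.trans (Subgroup.card_dvd_of_le h1)
      rw [hk] at hr1
      exact hqr.symm ((Nat.prime_dvd_prime_iff_eq hr hq).mp (hr.dvd_of_dvd_pow hr1))
    · exact hQ1ne (le_bot_iff.mp (hMN ▸ le_inf (le_sup_right.trans h.le) hQ1N))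

end Cfsg.Agent.S3749
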