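import Cfsg.Statements.S3750
import Cfsg.Agent.S3748
import Cfsg.Agent.Core.Basics
import Cfsg.Agent.Layer.FStar
import Cfsg.Agent.Coprime.Tools
import Cfsg.Agent.Fusion.PGroup
-- import your own Cfsg.Agent.* helpers here

set_option autoImplicit false
open Cfsg
open scoped commutatorElement

namespace Cfsg.Agent.S3750

/-- Call a proper subgroup M of G primitive when M = N_G(N) for every non-trivial normal subgroup N of M. Let M be a primitive subgroup of the finite group G and N a normal subgroup of G with M ∩ F*(N) ≠ 1. Then F(G) = 1 and F*(N) = F*(G) = E(G); in particular every minimal normal subgroup of G is contained in N. -/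
theorem result {G : Type*} [Group G] [Finite G] (M : Subgroup G) (hM : M ≠ ⊤) (hprim : ∀ N : Subgroup G, N ≤ M → M ≤ Subgroup.normalizer (N : Set G) → N ≠ ⊥ → Subgroup.normalizer (N : Set G) = M) (N : Subgroup G) [N.Normal] (hMF : M ⊓ (Cfsg.generalizedFittingSubgroup ↥N).map N.subtype ≠ ⊥) : Cfsg.fittingSubgroup G = ⊥ ∧ (Cfsg.generalizedFittingSubgroup ↥N).map N.subtype = Cfsg.generalizedFittingSubgroup G ∧ Cfsg.generalizedFittingSubgroup G = Cfsg.layer G ∧ ∀ K : Subgroup G, K.Normal → K ≠ ⊥ → (∀ K' : Subgroup G, K'.Normal → K' ≤ K → K' = ⊥ ∨ K' = K) → K ≤ N := by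
  classical
  obtain ⟨hsub, hMFit⟩ := S3748.result M hM hprim
  rw [Layer.map_generalizedFitting_normal N] at hMF ⊢
  set FS := Cfsg.generalizedFittingSubgroup G with hFS
  set L : Subgroup G := M ⊓ (FS ⊓ N) with hL
  haveI hFN : (FS ⊓ N).Normal := inferInstance
  have hNL : Subgroup.normalizer (L : Set G) = M := hprim L inf_le_left
    (Coprime.le_normalizer_inf Subgroup.le_normalizer Subgroup.le_normalizer_of_normal) hMF
  have hCL : ∀ K : Subgroup G, K.IsSubnormal → ⁅K, FS ⊓ N⁆ = ⊥ → K = ⊥ := by
    intro K hK h
    refine hsub K hK ?_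
    rw [← hNL]
    refine le_trans ?_ (Subgroup.centralizer_le_normalizer _)
    exact (Subgroup.commutator_eq_bot_iff_le_centralizer.mp h).trans
      (Subgroup.centralizer_le (inf_le_right : L ≤ FS ⊓ N))
  have hF : Cfsg.fittingSubgroup G = ⊥ := by
    by_contra hne
    set F := Cfsg.fittingSubgroup G with hFdef
    haveI : Group.IsNilpotent F := Core.fittingSubgroup_isNilpotent
    haveI : Nontrivial F := (Subgroup.nontrivial_iff_ne_bot F).mpr hne
    set Z : Subgroup G := (Subgroup.center F).map F.subtype with hZ
    haveI : Z.Normal := inferInstance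
    have hZne : Subgroup.center F ≠ ⊥ := by
      intro hc
      obtain ⟨n, hn⟩ := (Subgroup.isNilpotent_iff_lowerCentralSeries (⊤ : Subgroup F)).mp
        (Group.isNilpotent_top.mpr inferInstance)
      induction n with
      | zero =>
        rw [Subgroup.lowerCentralSeries_zero] at hn
        exact top_ne_bot hn
      | succ n ih =>
        rw [Subgroup.lowerCentralSeries_succ, Subgroup.commutator_top_right_eq_bot_iff_le_center, hc,
          le_bot_iff] at hn
        exact ih hn
    refine hZne ((Subgroup.map_eq_bot_iff_of_injective _ F.subtype_injective).mp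
      (hCL Z (Subgroup.Normal.isSubnormal inferInstance) ?_))
    rw [Subgroup.commutator_comm, Subgroup.commutator_eq_bot_iff_le_centralizer]
    refine inf_le_left.trans ?_
    rw [hFS, generalizedFittingSubgroup]
    refine sup_le (Layer.layer_le_centralizer_fitting.trans
      (Subgroup.centralizer_le (Subgroup.map_subtype_le _))) fun x hx => ?_
    rw [Subgroup.mem_centralizer_iff]
    rintro _ ⟨z, hz, rfl⟩
    exact (congrArg Subtype.val (Subgroup.mem_center_iff.mp hz ⟨x, hx⟩)).symm
  have hE : FS = Cfsg.layer G := by rw [hFS, generalizedFittingSubgroup, hF, sup_bot_eq]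
  have hEN : Cfsg.layer G ≤ N := sSup_le fun C hC => by
    rcases Layer.component_le_or_commute hC (inferInstance : N.Normal).isSubnormal with h | h
    · exact h
    · exact absurd (hCL C hC.1 (le_bot_iff.mp ((Subgroup.commutator_mono le_rfl inf_le_right).trans h.le)))
        (Layer.qs_subgroup_ne_bot hC.2)
  refine ⟨hF, inf_eq_left.mpr (hE ▸ hEN), hE, fun K hK hKne hKmin => ?_⟩
  haveI := hK
  rcases hKmin (K ⊓ N) inferInstance inf_le_left with h | h
  · exfalso
    refine hKne (hCL K hK.isSubnormal (le_bot_iff.mp ((Subgroup.commutator_mono le_rfl inf_le_right).trans ?_)))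
    rw [← h]
    exact Subgroup.commutator_le_inf K N
  · exact inf_eq_left.mp h

end Cfsg.Agent.S3750
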