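import Cfsg.Statements.S3751
import Cfsg.Agent.LocalStructure.CharP
import Cfsg.Agent.OddLocal.InvTransitivity
import Cfsg.Agent.Coprime.PCoreTools

set_option autoImplicit false
open Cfsg

namespace Cfsg.Agent.S3751

open Subgroup
open scoped commutatorElement

variable {G : Type*} [Group G] [Finite G] {p : ℕ} [hp : Fact p.Prime]

/-- A `p`-local subgroup. -/
def IsLoc (p : ℕ) (M : Subgroup G) : Prop :=
  ∃ T : Subgroup G, IsPGroup p T ∧ T ≠ ⊥ ∧ M = normalizer (T : Set G)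

/-- A maximal `p`-local subgroup. -/
def IsMaxLoc (p : ℕ) (M : Subgroup G) : Prop :=
  IsLoc p M ∧ ∀ L : Subgroup G, IsLoc p L → M ≤ L → L = M

theorem exists_maxLoc {L : Subgroup G} (hL : IsLoc p L) : ∃ M, IsMaxLoc p M ∧ L ≤ M := by
  obtain ⟨M, hLM, hM⟩ := (Set.toFinite {K : Subgroup G | IsLoc p K}).exists_le_maximal hL
  exact ⟨M, ⟨hM.1, fun K hK hle => le_antisymm (hM.2 hK hle) hle⟩, hLM⟩

theorem core_ne_bot {M : Subgroup G} (hM : IsMaxLoc p M) : Cfsg.pCoreOf p M ≠ ⊥ := by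
  obtain ⟨⟨T, hT, hT1, rfl⟩, -⟩ := hM
  intro h
  have := LocalStructure.le_pCoreOf_of_normal (p := p) le_normalizer le_rfl hT
  rw [h, le_bot_iff] at this
  exact hT1 this

theorem norm_eq {M Q : Subgroup G} (hM : IsMaxLoc p M) (hQ : IsPGroup p Q) (hQ1 : Q ≠ ⊥)
    (hMQ : M ≤ normalizer (Q : Set G)) : normalizer (Q : Set G) = M :=
  hM.2 _ ⟨Q, hQ, hQ1, rfl⟩ hMQ

theorem norm_core {M : Subgroup G} (hM : IsMaxLoc p M) :
    normalizer (Cfsg.pCoreOf p M : Set G) = M :=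
  norm_eq hM (LocalStructure.pCoreOf_isPGroup M) (core_ne_bot hM) (LocalStructure.le_normalizer_pCoreOf M)

theorem isMaxLoc_conj {M : Subgroup G} (hM : IsMaxLoc p M) (g : G) :
    IsMaxLoc p (M.map (MulAut.conj g).toMonoidHom) := by
  have hloc : ∀ (K : Subgroup G) (g : G), IsLoc p K → IsLoc p (K.map (MulAut.conj g).toMonoidHom) := by
    rintro K g ⟨T, hT, hT1, rfl⟩
    refine ⟨T.map (MulAut.conj g).toMonoidHom, hT.map _, ?_, ?_⟩
    · rwa [ne_eq, map_eq_bot_iff_of_injective _ (MulAut.conj g).injective]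
    · rw [map_equiv_normalizer_eq]
  refine ⟨hloc M g hM.1, fun L hL hle => ?_⟩
  have h1 := hM.2 (L.map (MulAut.conj g⁻¹).toMonoidHom) (hloc L _ hL) (fun x hx =>
    ⟨g * x * g⁻¹, hle ⟨x, hx, rfl⟩, by simp [mul_assoc]⟩)
  rw [← h1, Subgroup.map_map]
  ext x
  simp [mul_assoc]

/-- Conditions of a primitive pair. -/
theorem pair_inf {M N : Subgroup G} (hloc : Cfsg.IsOfLocalCharacteristic p G) (hM : IsMaxLoc p M)
    (A : Subgroup G) (hA : A ≠ ⊥) (hAle : A ≤ M ⊓ N)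
    (hMA : M ≤ normalizer (A : Set G)) : N ⊓ normalizer (A : Set G) = M ⊓ N := by
  have hch : LocalStructure.CharP p M := by
    obtain ⟨T, hT, hT1, hMT⟩ := hM.1
    rw [hMT, LocalStructure.charP_iff]
    exact hloc.2 T hT hT1
  have hAM : A ≤ M := hAle.trans inf_le_left
  set O := Cfsg.pCoreOf p M
  have hMO : M ≤ normalizer (O : Set G) := LocalStructure.le_normalizer_pCoreOf M
  have hOM : O ≤ M := LocalStructure.pCoreOf_le M
  have hne : A ⊓ O ≠ ⊥ := by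
    intro hb
    refine hA (eq_bot_iff.2 fun a ha => ?_)
    have hcent : a ∈ centralizer (O : Set G) := by
      refine mem_centralizer_iff.2 fun v hv => ?_
      have h1 : ⁅a, v⁆ ∈ A ⊓ O := by
        refine ⟨?_, ?_⟩
        · rw [commutatorElement_def, show a * v * a⁻¹ * v⁻¹ = a * (v * a⁻¹ * v⁻¹) by group]
          exact A.mul_mem ha ((mem_normalizer_iff.1 (hMA (hOM hv)) a⁻¹).1 (A.inv_mem ha))
        · rw [commutatorElement_def]
          exact O.mul_mem ((mem_normalizer_iff.1 (hMO (hAM ha)) v).1 hv) (O.inv_mem hv)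
      rw [hb, mem_bot, commutatorElement_eq_one_iff_mul_comm] at h1
      exact h1.symm
    rw [← hb]
    exact ⟨ha, hch ⟨hAM ha, hcent⟩⟩
  have hle : A ⊓ O ≤ Cfsg.pCoreOf p A :=
    LocalStructure.le_pCoreOf_of_normal inf_le_left
      (Coprime.le_normalizer_inf le_normalizer (hAM.trans hMO))
      ((LocalStructure.pCoreOf_isPGroup M).to_le inf_le_right)
  have hchar : normalizer (A : Set G) ≤ normalizer (Cfsg.pCoreOf p A : Set G) :=
    Cfsg.Agent.Coprime.le_normalizer_map_of_characteristic le_rfl _ (Core.pCore_characteristic)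
  have heq := norm_eq hM (LocalStructure.pCoreOf_isPGroup A) (fun h => hne (le_bot_iff.1 (h ▸ hle)))
    (hMA.trans hchar)
  exact le_antisymm (le_inf (inf_le_right.trans (hchar.trans heq.le)) inf_le_left)
    (le_inf inf_le_right (inf_le_left.trans hMA))

theorem core_le {L P : Subgroup G} (hPL : P ≤ L) (hP : IsPGroup p P)
    (hmax : ∀ R : Subgroup G, IsPGroup p R → P ≤ R → R ≤ L → R = P) : Cfsg.pCoreOf p L ≤ P := by
  have h := hmax (Cfsg.pCoreOf p L ⊔ P) ?_ le_sup_right (sup_le (LocalStructure.pCoreOf_le L) hPL)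
  · exact le_sup_left.trans h.le
  · exact (LocalStructure.pCoreOf_isPGroup L).to_sup_of_normal_left' hP
      (hPL.trans (LocalStructure.le_normalizer_pCoreOf L))

/-- A nontrivial common `p`-subgroup of two maximal `p`-local subgroups gives a pair. -/
theorem exists_pair {M L : Subgroup G} (hM : IsMaxLoc p M) (hL : IsMaxLoc p L) (hne : M ≠ L)
    {P : Subgroup G} (hP : IsPGroup p P) (hP1 : P ≠ ⊥) (hPM : P ≤ M) (hPL : P ≤ L) :
    ∃ M₁ M₂ : Subgroup G, IsMaxLoc p M₁ ∧ IsMaxLoc p M₂ ∧ M₁ ≠ M₂ ∧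
      Cfsg.pCoreOf p M₁ ⊔ Cfsg.pCoreOf p M₂ ≤ M₁ ⊓ M₂ := by
  classical
  suffices H : ∀ d : ℕ, ∀ M L P : Subgroup G, IsMaxLoc p M → IsMaxLoc p L → M ≠ L → IsPGroup p P →
      P ≠ ⊥ → P ≤ M → P ≤ L → Nat.card G ≤ Nat.card P + d →
      ∃ M₁ M₂ : Subgroup G, IsMaxLoc p M₁ ∧ IsMaxLoc p M₂ ∧ M₁ ≠ M₂ ∧
        Cfsg.pCoreOf p M₁ ⊔ Cfsg.pCoreOf p M₂ ≤ M₁ ⊓ M₂ from
    H (Nat.card G) M L P hM hL hne hP hP1 hPM hPL (Nat.le_add_left _ _)
  intro d
  induction d using Nat.strong_induction_on with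
  | _ d ih =>
  intro M L P hM hL hne hP hP1 hPM hPL hd
  by_contra hno
  have hmax : ∀ M L P' : Subgroup G, IsMaxLoc p M → IsMaxLoc p L → IsPGroup p P' → P < P' → P' ≤ M →
      P' ≤ L → M = L := by
    intro M L P' hM hL hP' hlt hM' hL'
    by_contra hne
    have h1 : Nat.card P < Nat.card P' := lt_of_le_of_ne (card_le_of_le hlt.le)
      fun e => hlt.ne (eq_of_le_of_card_ge hlt.le e.ge)
    have h2 := card_le_card_group P'
    have hP'1 : P' ≠ ⊥ := fun h => hP1 (le_bot_iff.1 (h ▸ hlt.le))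
    exact hno (ih (Nat.card G - Nat.card P') (by omega) M L P' hM hL hne hP' hP'1 hM' hL' (by omega))
  -- `P` is maximal in one of the two
  obtain ⟨H, hH, hNH⟩ := exists_maxLoc (p := p) (L := normalizer (P : Set G)) ⟨P, hP, hP1, rfl⟩
  have hgrow : ∀ K : Subgroup G, P ≤ K → ¬ (∀ R : Subgroup G, IsPGroup p R → P ≤ R → R ≤ K → R = P) →
      ∃ R : Subgroup G, IsPGroup p R ∧ P < R ∧ R ≤ K ∧ R ≤ normalizer (P : Set G) := by
    intro K _ hnot
    push Not at hnot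
    obtain ⟨R, hR, hPR, hRK, hRP⟩ := hnot
    have hlt : P < R := lt_of_le_of_ne hPR (Ne.symm hRP)
    have := hR.isNilpotent
    exact ⟨normalizer (P : Set G) ⊓ R, hR.to_le inf_le_right, OddLocal.lt_normalizer_inf hlt,
      inf_le_right.trans hRK, inf_le_left⟩
  suffices Hm : ∀ M L : Subgroup G, IsMaxLoc p M → IsMaxLoc p L → M ≠ L → P ≤ M → P ≤ L →
      (∀ R : Subgroup G, IsPGroup p R → P ≤ R → R ≤ L → R = P) → False by
    by_cases h1 : ∀ R : Subgroup G, IsPGroup p R → P ≤ R → R ≤ L → R = P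
    · exact Hm M L hM hL hne hPM hPL h1
    by_cases h2 : ∀ R : Subgroup G, IsPGroup p R → P ≤ R → R ≤ M → R = P
    · exact Hm L M hL hM hne.symm hPL hPM h2
    obtain ⟨R, hR, hPR, hRL, hRN⟩ := hgrow L hPL h1
    obtain ⟨S, hS, hPS, hSM, hSN⟩ := hgrow M hPM h2
    exact hne ((hmax M H S hM hH hS hPS hSM (hSN.trans hNH)).trans
      (hmax L H R hL hH hR hPR hRL (hRN.trans hNH)).symm)
  intro M L hM hL hne hPM hPL hLmax
  have hOL : Cfsg.pCoreOf p L ≤ P := core_le hPL hP hLmax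
  by_cases hMmax : ∀ R : Subgroup G, IsPGroup p R → P ≤ R → R ≤ M → R = P
  · exact hno ⟨M, L, hM, hL, hne, (sup_le (core_le hPM hP hMmax) hOL).trans (le_inf hPM hPL)⟩
  obtain ⟨R, hR, hPR, hRM, hRN⟩ := hgrow M hPM hMmax
  obtain ⟨n, hn, hnP⟩ := SetLike.exists_of_lt hPR
  have hnN : n ∈ normalizer (P : Set G) := hRN hn
  have hnL : n ∉ L := fun h => by
    have hle : P ⊔ zpowers n ≤ R := sup_le hPR.le (zpowers_le.2 hn)
    have := hLmax _ (hR.to_le hle) le_sup_left (sup_le hPL (zpowers_le.2 h))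
    exact hnP (this ▸ mem_sup_right (mem_zpowers n))
  set L' := L.map (MulAut.conj n).toMonoidHom with hL'
  have hconjP : P.map (MulAut.conj n).toMonoidHom = P := mem_normalizer_iff_map_conj_eq.1 hnN
  have hPL' : P ≤ L' := hconjP ▸ map_mono hPL
  have hne' : L ≠ L' := fun h => hnL (by
    have h2 : n ∈ normalizer (L : Set G) := mem_normalizer_iff_map_conj_eq.2 h.symm
    have h3 : normalizer (L : Set G) ≤ normalizer (Cfsg.pCoreOf p L : Set G) :=
      Cfsg.Agent.Coprime.le_normalizer_map_of_characteristic le_rfl _ (Core.pCore_characteristic)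
    exact (norm_core hL).le (h3 h2))
  refine hno ⟨L, L', hL, isMaxLoc_conj hL n, hne', (sup_le hOL (core_le hPL' hP ?_)).trans (le_inf hPL hPL')⟩
  intro R' hR' hPR' hR'L
  have hcomp : ∀ K : Subgroup G, (K.map (MulAut.conj n).toMonoidHom).map (MulAut.conj n⁻¹).toMonoidHom = K := by
    intro K
    rw [Subgroup.map_map]
    ext x
    simp [mul_assoc]
  have h1 := hLmax (R'.map (MulAut.conj n⁻¹).toMonoidHom) (hR'.map _)
    (by
      have h2 := map_mono (f := (MulAut.conj n⁻¹).toMonoidHom) hPR'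
      rwa [← hconjP, hcomp] at h2)
    (by
      have h2 := map_mono (f := (MulAut.conj n⁻¹).toMonoidHom) hR'L
      rwa [hL', hcomp] at h2)
  refine le_antisymm (fun x hx => ?_) hPR'
  have h3 : n⁻¹ * x * n ∈ P := h1 ▸ ⟨x, hx, by simp⟩
  have h4 := (mem_normalizer_iff.1 hnN _).1 h3
  rwa [show n * (n⁻¹ * x * n) * n⁻¹ = x by group] at h4

/-- Two distinct subgroups M₁, M₂ of G form a primitive pair when, for {i, j} = {1, 2}, every non-trivial normal subgroup A of M_i contained in M₁ ∩ M₂ satisfies N_{M_j}(A) = M₁ ∩ M₂; the pair has characteristic p when moreover C_{M_i}(O_p(M_i)) ≤ O_p(M_i) for both i and O_p(M₁)O_p(M₂) ≤ M₁ ∩ M₂. Let G be a finite group, p a prime dividing its order, with O_p(G) = 1 and every p-local subgroup of characteristic p. Then either G has a primitive pair of characteristic p, or every maximal p-local subgroup M of G is strongly p-embedded in G: M is a proper subgroup, p divides its order,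 and for every g ∉ M the order of M ∩ gMg⁻¹ is prime to p. -/
theorem result {G : Type*} [Group G] [Finite G] {p : ℕ} [Fact p.Prime] (hloc : Cfsg.IsOfLocalCharacteristic p G) (hOp : Cfsg.pCore p G = ⊥) : (∃ M₁ M₂ : Subgroup G, M₁ ≠ M₂ ∧ (∀ A : Subgroup G, A ≠ ⊥ → A ≤ M₁ ⊓ M₂ → (M₁ ≤ Subgroup.normalizer (A : Set G) → M₂ ⊓ Subgroup.normalizer (A : Set G) = M₁ ⊓ M₂) ∧ (M₂ ≤ Subgroup.normalizer (A : Set G) → M₁ ⊓ Subgroup.normalizer (A : Set G) = M₁ ⊓ M₂)) ∧ Subgroup.centralizer (Cfsg.pCore p ↥M₁ : Set ↥M₁) ≤ Cfsg.pCore p ↥M₁ ∧ Subgroup.centralizer (Cfsg.pCore p ↥M₂ : Set ↥M₂) ≤ Cfsg.pCore p ↥M₂ ∧ (Cfsg.pCore p ↥M₁).map M₁.subtype ⊔ (Cfsg.pCore p ↥M₂).map M₂.subtype ≤ M₁ ⊓ M₂) ∨ (∀ M : Subgroup G, (∃ T : Subgroup G, IsPGroup p T ∧ T ≠ ⊥ ∧ M = Subgroup.normalizer (T : Set G)) → (∀ L : Subgroup G, (∃ T : Subgroup G, IsPGroup p T ∧ T ≠ ⊥ ∧ L = Subgroup.normalizer (T : Set G)) → M ≤ L → L = M) → M ≠ ⊤ ∧ p ∣ Nat.card M ∧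 ∀ g : G, g ∉ M → ¬ p ∣ Nat.card ↥(M ⊓ M.map (MulAut.conj g).toMonoidHom)) := by
  classical
  by_cases hpair : ∃ M L P : Subgroup G, IsMaxLoc p M ∧ IsMaxLoc p L ∧ M ≠ L ∧ IsPGroup p P ∧ P ≠ ⊥ ∧ P ≤ M ∧ P ≤ L
  · obtain ⟨M, L, P, hM, hL, hne, hP, hP1, hPM, hPL⟩ := hpair
    obtain ⟨M₁, M₂, h1, h2, h12, hle⟩ := exists_pair hM hL hne hP hP1 hPM hPL
    refine Or.inl ⟨M₁, M₂, h12, fun A hA hAle => ⟨fun h => pair_inf hloc h1 A hA hAle h,
      fun h => ?_⟩, ?_, ?_, hle⟩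
    · rw [inf_comm M₁ M₂]
      exact pair_inf hloc h2 A hA (inf_comm M₁ M₂ ▸ hAle) h
    · obtain ⟨⟨T, hT, hT1, rfl⟩, -⟩ := h1
      exact hloc.2 T hT hT1
    · obtain ⟨⟨T, hT, hT1, rfl⟩, -⟩ := h2
      exact hloc.2 T hT hT1
  · refine Or.inr fun M hM1 hM2 => ?_
    have hM : IsMaxLoc p M := ⟨hM1, hM2⟩
    refine ⟨?_, ?_, fun g hg hdvd => ?_⟩
    · rintro rfl
      refine core_ne_bot hM ?_
      rw [LocalStructure.pCoreOf_top, hOp]
    · obtain ⟨j, hj⟩ := IsPGroup.iff_card.1 (LocalStructure.pCoreOf_isPGroup (p := p) M)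
      have hj0 : j ≠ 0 := fun h => core_ne_bot hM (Subgroup.card_eq_one.1 (by rw [hj, h, pow_zero]))
      exact (dvd_pow_self p hj0).trans (hj ▸ Subgroup.card_dvd_of_le (LocalStructure.pCoreOf_le M))
    · obtain ⟨x, hx⟩ := exists_prime_orderOf_dvd_card' p hdvd
      have hxo : orderOf (x : G) = p := by rw [Subgroup.orderOf_coe, hx]
      refine hpair ⟨M, _, Subgroup.zpowers (x : G), hM, isMaxLoc_conj hM g, fun h => hg ?_,
        IsPGroup.of_card (n := 1) (by rw [Nat.card_zpowers, hxo, pow_one]), ?_,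
        Subgroup.zpowers_le.2 x.2.1, Subgroup.zpowers_le.2 x.2.2⟩
      · have h2 : g ∈ Subgroup.normalizer (M : Set G) := Subgroup.mem_normalizer_iff_map_conj_eq.2 h.symm
        have h3 : Subgroup.normalizer (M : Set G) ≤ Subgroup.normalizer (Cfsg.pCoreOf p M : Set G) :=
          Cfsg.Agent.Coprime.le_normalizer_map_of_characteristic le_rfl _ (Core.pCore_characteristic)
        exact (norm_core hM).le (h3 h2)
      · intro h
        rw [Subgroup.zpowers_eq_bot] at h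
        rw [h, orderOf_one] at hxo
        exact (Fact.out : p.Prime).one_lt.ne hxo

end Cfsg.Agent.S3751
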