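import Cfsg.Statements.S3752
import Cfsg.Agent.Bender.Mutual

set_option autoImplicit false
open Cfsg

namespace Cfsg.Agent.S3752

/-- Bender's Theorem on primitive pairs. Two distinct subgroups M₁, M₂ of G form a primitive pair when, for {i, j} = {1, 2}, every non-trivial normal subgroup A of M_i contained in M₁ ∩ M₂ satisfies N_{M_j}(A) = M₁ ∩ M₂; the pair has characteristic p when moreover C_{M_i}(O_p(M_i)) ≤ O_p(M_i) for both i and O_p(M₁)O_p(M₂) ≤ M₁ ∩ M₂. If (M₁, M₂) is a primitive pair of the finite group G with F*(M₁) ≤ M₂ and F*(M₂) ≤ M₁, then for some prime p the pair has characteristic p. -/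
theorem result {G : Type*} [Group G] [Finite G] (M₁ M₂ : Subgroup G) (hne : M₁ ≠ M₂) (hP : ∀ A : Subgroup G, A ≠ ⊥ → A ≤ M₁ ⊓ M₂ → (M₁ ≤ Subgroup.normalizer (A : Set G) → M₂ ⊓ Subgroup.normalizer (A : Set G) = M₁ ⊓ M₂) ∧ (M₂ ≤ Subgroup.normalizer (A : Set G) → M₁ ⊓ Subgroup.normalizer (A : Set G) = M₁ ⊓ M₂)) (h₁ : (Cfsg.generalizedFittingSubgroup ↥M₁).map M₁.subtype ≤ M₂) (h₂ : (Cfsg.generalizedFittingSubgroup ↥M₂).map M₂.subtype ≤ M₁) : ∃ p : ℕ, p.Prime ∧ Subgroup.centralizer (Cfsg.pCore p ↥M₁ : Set ↥M₁) ≤ Cfsg.pCore p ↥M₁ ∧ Subgroup.centralizer (Cfsg.pCore p ↥M₂ : Set ↥M₂) ≤ Cfsg.pCore p ↥M₂ ∧ (Cfsg.pCore p ↥M₁).map M₁.subtype ⊔ (Cfsg.pCore p ↥M₂).map M₂.subtype ≤ M₁ ⊓ M₂ := by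
  set M := M₁
  set N := M₂
  have hMN := Bender.scLeads_of_le h₁
  have hNM := Bender.scLeads_of_le h₂
  have hpM : Bender.PairHyp M N := by
    intro A hA hA0 hAN
    have hne0 : A.map M.subtype ≠ ⊥ := fun h =>
      hA0 ((Subgroup.map_eq_bot_iff_of_injective _ M.subtype_injective).mp h)
    exact ((hP _ hne0 (le_inf (Subgroup.map_subtype_le _) hAN)).1
      ((Subgroup.normal_subgroupOf_iff_le_normalizer (Subgroup.map_subtype_le A)).mp (by
        rwa [Subgroup.subgroupOf, Subgroup.comap_map_eq_self_of_injective M.subtype_injective]))).le.trans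
      inf_le_left
  have hpN : Bender.PairHyp N M := by
    intro A hA hA0 hAM
    have hne0 : A.map N.subtype ≠ ⊥ := fun h =>
      hA0 ((Subgroup.map_eq_bot_iff_of_injective _ N.subtype_injective).mp h)
    exact ((hP _ hne0 (le_inf hAM (Subgroup.map_subtype_le _))).2
      ((Subgroup.normal_subgroupOf_iff_le_normalizer (Subgroup.map_subtype_le A)).mp (by
        rwa [Subgroup.subgroupOf, Subgroup.comap_map_eq_self_of_injective N.subtype_injective]))).le.trans
      inf_le_right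
  -- no layers
  have hlayM : layer ↥M = ⊥ := by
    by_contra h
    exact hne (Bender.eq_of_map_eq hpM hpN h (Bender.layer_map_eq hpM hpN hMN hNM))
  have hlayN : layer ↥N = ⊥ := by
    by_contra h
    exact hne (Bender.eq_of_map_eq hpN hpM h (Bender.layer_map_eq hpN hpM hNM hMN)).symm
  -- some prime divides `|F(M)|`
  obtain ⟨p, hp, hpd⟩ : ∃ p : ℕ, p.Prime ∧ p ∣ Nat.card (Cfsg.fittingSubgroup ↥M) := by
    refine Nat.exists_prime_and_dvd fun h0 => ?_
    haveI : Nontrivial M := by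
      refine (Subgroup.nontrivial_iff_ne_bot M).mpr fun h => ?_
      refine hne (h.trans (Eq.symm ?_))
      by_contra hN0
      haveI : Nontrivial N := (Subgroup.nontrivial_iff_ne_bot N).mpr hN0
      refine Layer.generalizedFitting_ne_bot (G := N) ?_
      rw [← Subgroup.map_eq_bot_iff_of_injective _ N.subtype_injective, ← le_bot_iff, ← h]
      exact h₂
    refine Layer.generalizedFitting_ne_bot (G := M) ?_
    rw [Cfsg.generalizedFittingSubgroup, hlayM, bot_sup_eq]
    exact Subgroup.card_eq_one.mp h0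
  haveI := Fact.mk hp
  by_cases hex : ∃ r : ℕ, r.Prime ∧ r ≠ p ∧ r ∣ Nat.card (Cfsg.fittingSubgroup ↥M)
  · exfalso
    obtain ⟨r, hr, hrp, hrd⟩ := hex
    haveI := Fact.mk hr
    have hpdN := Bender.dvd_of_leadsTo hNM hMN hpd
    have hrN := Bender.dvd_of_leadsTo hNM hMN hrd
    have e1 := Bender.pCore_map_le hpM hpN hMN hNM hrp.symm hrN
      (Bender.pCore_le_of_two_primes hpM hMN hrp hpd hrd)
      (Bender.pCore_le_of_two_primes hpM hMN hrp.symm hrd hpd)
    have e2 := Bender.pCore_map_le hpN hpM hNM hMN hrp.symm hrd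
      (Bender.pCore_le_of_two_primes hpN hNM hrp hpdN hrN)
      (Bender.pCore_le_of_two_primes hpN hNM hrp.symm hrN hpdN)
    exact hne (Bender.eq_of_map_eq hpM hpN (Bender.pCore_ne_bot_of_dvd hpd) (le_antisymm e2 e1))
  · have hF : ∀ {X : Subgroup G}, layer ↥X = ⊥ →
        (∀ t : ℕ, t.Prime → t ∣ Nat.card (Cfsg.fittingSubgroup ↥X) → t = p) →
        Cfsg.fittingSubgroup ↥X = Cfsg.pCore p ↥X ∧
          Subgroup.centralizer (Cfsg.pCore p ↥X : Set ↥X) ≤ Cfsg.pCore p ↥X := by
      intro X hX hd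
      have e : Cfsg.fittingSubgroup ↥X = Cfsg.pCore p ↥X := by
        refine le_antisymm ?_ (Core.pCore_le_fittingSubgroup p)
        conv_lhs => rw [Core.fittingSubgroup_eq_iSup_pCore]
        refine iSup_le fun t => ?_
        haveI : Fact (t : ℕ).Prime := ⟨t.2⟩
        by_cases h : (t : ℕ) = p
        · rw [h]
        · exact (Bender.pCore_eq_bot_of_not_dvd fun hd' => h (hd t t.2 hd')).le.trans bot_le
      refine ⟨e, ?_⟩
      rw [← e]
      exact Layer.layer_eq_bot_iff_centralizer_fitting.mp hX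
    have hM1 := hF hlayM fun t ht hd => by
      by_contra h
      exact hex ⟨t, ht, h, hd⟩
    have hN1 := hF hlayN fun t ht hd => by
      by_contra h
      haveI := Fact.mk ht
      exact hex ⟨t, ht, h, Bender.dvd_of_leadsTo hMN hNM hd⟩
    refine ⟨p, hp, hM1.2, hN1.2, sup_le (le_inf (Subgroup.map_subtype_le _) ?_)
      (le_inf ?_ (Subgroup.map_subtype_le _))⟩
    · exact (Subgroup.map_mono ((Core.pCore_le_fittingSubgroup p).trans
        Layer.fitting_le_generalizedFitting)).trans h₁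
    · exact (Subgroup.map_mono ((Core.pCore_le_fittingSubgroup p).trans
        Layer.fitting_le_generalizedFitting)).trans h₂

end Cfsg.Agent.S3752
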