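import Cfsg.Statements.S3753
import Cfsg.Agent.KInfGen.Key
import Cfsg.Agent.QdFree.PStable
import Cfsg.Agent.QdFree.SL2Facts
import Cfsg.Agent.Layer.PConstraint

set_option autoImplicit false
open Cfsg

namespace Cfsg.Agent.S3753

universe u

open Subgroup in
/-- For an odd prime, one subgroup `K` works for both members. -/
theorem kInf_normal {G : Type u} [Group G] [Finite G] {p : ℕ} [Fact p.Prime] (h2 : p ≠ 2)
    (M T : Subgroup G) (hTM : T ≤ M) (hT : IsPGroup p T) (hOT : (Cfsg.pCore p M).map M.subtype ≤ T)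
    (hc : centralizer (Cfsg.pCore p M : Set M) ≤ Cfsg.pCore p M)
    (hab : ∀ S : Sylow 2 M, IsMulCommutative (S : Subgroup M)) :
    M ≤ normalizer (Cfsg.inducedFunctor Cfsg.kInfLower T : Set G) := by
  have hTS : Cfsg.pCore p M ≤ T.subgroupOf M := fun x hx => hOT ⟨x, hx, rfl⟩
  have hn : (Cfsg.inducedFunctor Cfsg.kInfLower (T.subgroupOf M)).Normal := by
    by_contra hK
    obtain ⟨N, hN, hns⟩ := KInfGen.exists_quadratic (T.subgroupOf M) hTS hc hK
    apply hns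
    refine QdFree.isNormalizerPStable_of_free h2 fun P _ _ hinv => ?_
    obtain ⟨S⟩ : Nonempty (Sylow 2 M) := inferInstance
    exact QdFree.not_comm_sylow_two h2
      (QdFree.involves_of_surjective (QdFree.involves_of_subgroup hinv) (QuotientGroup.mk'_surjective N)) S (hab S)
  have hmap := Control.inducedFunctor_map (KInf.isCharPFunctor_kInfLower p) M.subtype
    (P := T.subgroupOf M) (hT.comap_subtype (K := M)) M.subtype_injective.injOn
  rw [Subgroup.map_subgroupOf_eq_of_le hTM] at hmap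
  rw [hmap]
  refine Subgroup.le_normalizer_iff.2 ?_
  rintro m hm _ ⟨x, hx, rfl⟩
  exact ⟨⟨m, hm⟩ * x * ⟨m, hm⟩⁻¹, hn.conj_mem x hx _, rfl⟩

/-- Two distinct subgroups M₁, M₂ of G form a primitive pair when, for {i, j} = {1, 2}, every non-trivial normal subgroup A of M_i contained in M₁ ∩ M₂ satisfies N_{M_j}(A) = M₁ ∩ M₂; the pair has characteristic p when moreover C_{M_i}(O_p(M_i)) ≤ O_p(M_i) for both i and O_p(M₁)O_p(M₂) ≤ M₁ ∩ M₂. If the finite group G has a primitive pair (M₁, M₂) of characteristic p for some prime p, then M₁ or M₂ has non-abelian Sylow 2-subgroups. In particular no group of odd order has a primitive pair of characteristic p. -/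
theorem result {G : Type*} [Group G] [Finite G] {p : ℕ} [Fact p.Prime] (M₁ M₂ : Subgroup G) (hne : M₁ ≠ M₂) (hP : ∀ A : Subgroup G, A ≠ ⊥ → A ≤ M₁ ⊓ M₂ → (M₁ ≤ Subgroup.normalizer (A : Set G) → M₂ ⊓ Subgroup.normalizer (A : Set G) = M₁ ⊓ M₂) ∧ (M₂ ≤ Subgroup.normalizer (A : Set G) → M₁ ⊓ Subgroup.normalizer (A : Set G) = M₁ ⊓ M₂)) (hc₁ : Subgroup.centralizer (Cfsg.pCore p ↥M₁ : Set ↥M₁) ≤ Cfsg.pCore p ↥M₁) (hc₂ : Subgroup.centralizer (Cfsg.pCore p ↥M₂ : Set ↥M₂) ≤ Cfsg.pCore p ↥M₂) (hO : (Cfsg.pCore p ↥M₁).map M₁.subtype ⊔ (Cfsg.pCore p ↥M₂).map M₂.subtype ≤ M₁ ⊓ M₂) : (∃ S : Sylow 2 ↥M₁, ¬ IsMulCommutative (S : Subgroup ↥M₁)) ∨ (∃ S : Sylow 2 ↥M₂, ¬ IsMulCommutative (S : Subgroup ↥M₂)) := by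
  classical
  by_contra hcon
  push Not at hcon
  obtain ⟨hab₁, hab₂⟩ := hcon
  set O₁ := (Cfsg.pCore p M₁).map M₁.subtype with hO1
  set O₂ := (Cfsg.pCore p M₂).map M₂.subtype with hO2
  set D := M₁ ⊓ M₂ with hD
  -- a common nontrivial normal subgroup is impossible
  have hno : ∀ A : Subgroup G, A ≠ ⊥ → A ≤ D → M₁ ≤ Subgroup.normalizer (A : Set G) →
      M₂ ≤ Subgroup.normalizer (A : Set G) → False := by
    intro A hA hAD h1 h2
    have e1 := (hP A hA hAD).1 h1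
    have e2 := (hP A hA hAD).2 h2
    rw [inf_eq_left.2 h2] at e1
    rw [inf_eq_left.2 h1] at e2
    exact hne (le_antisymm (e2.le.trans inf_le_right) (e1.le.trans inf_le_left))
  have hbot : ∀ M : Subgroup G, Subgroup.centralizer (Cfsg.pCore p M : Set M) ≤ Cfsg.pCore p M →
      (Cfsg.pCore p M).map M.subtype = ⊥ → M = ⊥ := by
    intro M hc h
    rw [eq_bot_iff]
    intro x hx
    have hb : Cfsg.pCore p M = ⊥ := (Subgroup.map_eq_bot_iff_of_injective _ M.subtype_injective).1 h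
    have hx' : (⟨x, hx⟩ : M) ∈ Cfsg.pCore p M := hc (by
      rw [hb, Subgroup.mem_centralizer_iff]
      intro y hy
      rw [show y = 1 from hy, one_mul, mul_one])
    exact h ▸ ⟨_, hx', rfl⟩
  have hne1 : O₁ ≠ ⊥ := by
    intro h
    have h1 := hbot M₁ hc₁ h
    have hD0 : D = ⊥ := by rw [hD, h1, bot_inf_eq]
    have h2 : O₂ = ⊥ := le_bot_iff.1 (hD0 ▸ le_sup_right.trans hO)
    exact hne (h1.trans (hbot M₂ hc₂ h2).symm)
  have hn : ∀ M : Subgroup G, M ≤ Subgroup.normalizer ((Cfsg.pCore p M).map M.subtype : Set G) := by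
    intro M
    refine Subgroup.le_normalizer_iff.2 ?_
    rintro c hc _ ⟨y, hy, rfl⟩
    exact ⟨⟨c, hc⟩ * y * ⟨c, hc⟩⁻¹, Core.pCore_normal.conj_mem y hy _, rfl⟩
  have hp1 : IsPGroup p O₁ := Core.pCore_isPGroup.map _
  have hp2 : IsPGroup p O₂ := Core.pCore_isPGroup.map _
  by_cases h2 : p = 2
  · subst h2
    have hsyl : ∀ M : Subgroup G, Subgroup.centralizer (Cfsg.pCore 2 M : Set M) ≤ Cfsg.pCore 2 M →
        (∀ S : Sylow 2 M, IsMulCommutative (S : Subgroup M)) → ∀ U : Subgroup G, U ≤ M → IsPGroup 2 U →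
        U ≤ (Cfsg.pCore 2 M).map M.subtype := by
      intro M hc hab U hUM hU u hu
      obtain ⟨S, hS⟩ := (hU.comap_subtype (K := M)).exists_le_sylow
      have hu' : (⟨u, hUM hu⟩ : M) ∈ (S : Subgroup M) := hS hu
      refine ⟨⟨u, hUM hu⟩, hc ?_, rfl⟩
      rw [Subgroup.mem_centralizer_iff]
      intro y hy
      haveI := hab S
      exact congrArg Subtype.val
        (mul_comm' (⟨y, Core.pCore_le_sylow S hy⟩ : (S : Subgroup M)) ⟨⟨u, hUM hu⟩, hu'⟩)
    have h21 : O₂ ≤ O₁ := hsyl M₁ hc₁ hab₁ O₂ (le_sup_right.trans (hO.trans inf_le_left)) hp2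
    have h12 : O₁ ≤ O₂ := hsyl M₂ hc₂ hab₂ O₁ (le_sup_left.trans (hO.trans inf_le_right)) hp1
    exact hno O₁ hne1 (le_sup_left.trans hO) (hn M₁) (le_antisymm h12 h21 ▸ hn M₂)
  have hT : IsPGroup p ↥(O₁ ⊔ O₂) :=
    hp1.to_sup_of_normal_right' hp2 ((le_sup_left.trans (hO.trans inf_le_right)).trans (hn M₂))
  set W := Cfsg.inducedFunctor Cfsg.kInfLower (O₁ ⊔ O₂) with hW
  have hWne : W ≠ ⊥ := by
    haveI : Nontrivial ↥(O₁ ⊔ O₂) :=
      (Subgroup.nontrivial_iff_ne_bot _).2 fun h => hne1 (le_bot_iff.1 (h ▸ le_sup_left))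
    intro h
    exact (KInf.kInf_ne_bot hT).1 ((Subgroup.map_eq_bot_iff_of_injective _ (O₁ ⊔ O₂).subtype_injective).1 h)
  exact hno W hWne ((Subgroup.map_subtype_le _).trans hO)
    (kInf_normal h2 M₁ _ (hO.trans inf_le_left) hT le_sup_left hc₁ hab₁)
    (kInf_normal h2 M₂ _ (hO.trans inf_le_right) hT le_sup_right hc₂ hab₂)

end Cfsg.Agent.S3753
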