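import Cfsg.Statements.S3754
import Cfsg.Agent.Core.Frattini
import Cfsg.Agent.Core.FaithfulTI
import Cfsg.Agent.Coprime.Elementary
import Cfsg.Agent.Coprime.Generation
import Cfsg.Agent.Fusion.Residual
import Cfsg.Agent.LocalStructure.PIrreducible

set_option autoImplicit false
open Cfsg Subgroup
open scoped commutatorElement Pointwise

namespace Cfsg.Agent.S3754

/-- Let M be a finite p-soluble group and A a p-subgroup of M with Φ(A) ≤ O_p(M) but A ≰ O_p(M). Then there is x ∈ O_{p,p'}(M) such that L = ⟨A, xAx⁻¹⟩ satisfies: x ∈ O^p(L) and O^p(L) ≤ O_{p,p'}(M); [O^p(L), A] = O^p(L); A ∩ O_p(L) has index p in A; and [A ∩ O_p(L), L] ≤ O_p(M). Here O^p(L) is the subgroup generated by the p'-elements of L and O_{p,p'}(M) the preimage of O_{p'}(M/O_p(M)). -/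
theorem result {M : Type*} [Group M] [Finite M] {p : ℕ} [Fact p.Prime] (hM : Cfsg.IsPSolvable p M) (A : Subgroup M) (hA : IsPGroup p A) (hΦ : (frattini ↥A).map A.subtype ≤ Cfsg.pCore p M) (hnot : ¬ A ≤ Cfsg.pCore p M) : ∃ x ∈ (Cfsg.pPrimeCore p (M ⧸ Cfsg.pCore p M)).comap (QuotientGroup.mk' (Cfsg.pCore p M)), x ∈ (Cfsg.pResidual p ↥(A ⊔ A.map (MulAut.conj x).toMonoidHom)).map (A ⊔ A.map (MulAut.conj x).toMonoidHom).subtype ∧ (Cfsg.pResidual p ↥(A ⊔ A.map (MulAut.conj x).toMonoidHom)).map (A ⊔ A.map (MulAut.conj x).toMonoidHom).subtype ≤ (Cfsg.pPrimeCore p (M ⧸ Cfsg.pCore p M)).comap (QuotientGroup.mk' (Cfsg.pCore p M)) ∧ ⁅(Cfsg.pResidual p ↥(A ⊔ A.map (MulAut.conj x).toMonoidHom)).map (A ⊔ A.map (MulAut.conj x).toMonoidHom).subtype, A⁆ = (Cfsg.pResidual p ↥(A ⊔ A.map (MulAut.conj x).toMonoidHom)).map (A ⊔ A.map (MulAut.conj x).toMonoidHom).subtype ∧ (A ⊓ (Cfsg.pCore p ↥(A ⊔ A.map (MulAut.conj x).toMonoidHom)).map (A ⊔ A.map (MulAut.conj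 x).toMonoidHom).subtype).relIndex A = p ∧ ⁅A ⊓ (Cfsg.pCore p ↥(A ⊔ A.map (MulAut.conj x).toMonoidHom)).map (A ⊔ A.map (MulAut.conj x).toMonoidHom).subtype, A ⊔ A.map (MulAut.conj x).toMonoidHom⁆ ≤ Cfsg.pCore p M := by
  classical
  set V := Cfsg.pCore p M with hV
  set π := QuotientGroup.mk' V with hπ
  set W := Cfsg.pPrimeCore p (M ⧸ V) with hW
  set U := W.comap π with hU
  haveI : V.Normal := by rw [hV]; infer_instance
  have hker : ∀ {g : M}, π g = 1 ↔ g ∈ V := fun {g} => QuotientGroup.eq_one_iff g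
  have hEA : Cfsg.IsElementaryAbelian p (A.map π) := by
    haveI := hA.isNilpotent
    refine ⟨⟨⟨fun a b => Subtype.ext ?_⟩⟩, ?_⟩
    · obtain ⟨_, ⟨a, ha, rfl⟩⟩ := a
      obtain ⟨_, ⟨b, hb, rfl⟩⟩ := b
      show π a * π b = π b * π a
      rw [← commutatorElement_eq_one_iff_mul_comm, ← map_commutatorElement, hker]
      exact hΦ ⟨⁅(⟨a, ha⟩ : A), ⟨b, hb⟩⁆, Core.commutator_le_frattini
        (commutator_mem_commutator (mem_top _) (mem_top _)), rfl⟩
    · rintro _ ⟨a, ha, rfl⟩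
      rw [← map_pow, hker]
      exact hΦ ⟨(⟨a, ha⟩ : A) ^ p, Core.pow_mem_frattini hA _, rfl⟩
  have hA1 : A.map π ≠ ⊥ := fun e => hnot (by
    rw [Subgroup.map_eq_bot_iff, QuotientGroup.ker_mk'] at e
    exact e)
  have hWc : ¬ p ∣ Nat.card W := Core.not_dvd_card_pPrimeCore
  have hdisj : ∀ (H : Subgroup (M ⧸ V)), IsPGroup p H → H ⊓ W = ⊥ := fun H hH => by
    obtain ⟨n, hn⟩ := IsPGroup.iff_card.1 hH
    exact disjoint_iff.1 (disjoint_of_coprime_natCard (hn ▸
      (((Fact.out : p.Prime).coprime_iff_not_dvd).2 hWc).pow_left n))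
  have hAp : IsPGroup p (A.map π) := hA.map π
  haveI := hEA.1
  have hAW : A.map π ≤ normalizer (W : Set (M ⧸ V)) := by
    rw [hW, normalizer_eq_top]; exact le_top
  have hcop : (Nat.card (A.map π)).Coprime (Nat.card W) := Coprime.ea_coprime hEA hWc
  -- a point of `W` moved by `A` and fixed by a hyperplane
  let C : M → Subgroup M := fun x => A ⊓ (centralizer ({π x} : Set (M ⧸ V))).comap π
  let S : Set M := {x | x ∈ U ∧ (C x).relIndex A = p}
  have hex : S.Nonempty := by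
    obtain ⟨B, hB, hBW⟩ : ∃ B ∈ Coprime.Cocyclic (A.map π),
        ¬ W ⊓ centralizer (B : Set (M ⧸ V)) ≤ centralizer ((A.map π : Subgroup (M ⧸ V)) : Set (M ⧸ V)) := by
      by_contra hcon
      push Not at hcon
      have h1 : W ≤ centralizer ((A.map π : Subgroup (M ⧸ V)) : Set (M ⧸ V)) := by
        rw [← Coprime.iSup_cocyclic_centralizer_eq hAW hcop]
        exact iSup₂_le hcon
      have h2 : A.map π ≤ W := (Subgroup.le_centralizer_iff.1 h1).trans
        (Core.centralizer_pPrimeCore_le (Layer.isPSolvable_of_surjective hM (f := π)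
          (QuotientGroup.mk'_surjective V)) Core.pCore_quotient_eq_bot)
      exact hA1 (by rw [← hdisj _ hAp, inf_eq_left.2 h2])
    obtain ⟨D, hDB, hD⟩ := Coprime.ea_exists_hyperplane_le hEA hA1 hB
    obtain ⟨w, hw, hwA⟩ := SetLike.not_le_iff_exists.1 hBW
    obtain ⟨hwW, hwB⟩ := Subgroup.mem_inf.1 hw
    obtain ⟨x, rfl⟩ := QuotientGroup.mk'_surjective V w
    refine ⟨x, hwW, ?_⟩
    have h1 : (C x).relIndex A = (centralizer ({π x} : Set (M ⧸ V))).relIndex (A.map π) := by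
      show (A ⊓ _).relIndex A = _
      rw [inf_comm, inf_relIndex_right, relIndex_comap]
    have h2 : D ≤ centralizer ({π x} : Set (M ⧸ V)) := fun d hd =>
      mem_centralizer_singleton_iff.2 (mem_centralizer_iff.1 hwB d (hDB hd))
    have h3 : (C x).relIndex A ∣ p := by rw [h1]; exact (relIndex_dvd_of_le_left _ h2).trans hD.dvd
    refine ((Nat.dvd_prime Fact.out).1 h3).resolve_left fun h4 => hwA ?_
    rw [h1, relIndex_eq_one] at h4
    exact mem_centralizer_iff.2 fun a ha => mem_centralizer_singleton_iff.1 (h4 ha)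
  obtain ⟨x, ⟨hxU, hxC⟩, hmin⟩ := Set.exists_min_image S
    (fun x => Nat.card ↥(A ⊔ A.map (MulAut.conj x).toMonoidHom)) (Set.toFinite _) hex
  set L := A ⊔ A.map (MulAut.conj x).toMonoidHom with hL
  set R := (Cfsg.pResidual p L).map L.subtype with hR
  have hAL : A ≤ L := le_sup_left
  have hconjU : ∀ z ∈ U, ∀ a : M, a⁻¹ * (z * a * z⁻¹) ∈ U := fun z hz a => by
    have h1 : a⁻¹ * z * a ∈ U := by
      simpa using (inferInstance : U.Normal).conj_mem z hz a⁻¹
    simpa [mul_assoc] using U.mul_mem h1 (U.inv_mem hz)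
  have hRU : R ≤ U := by
    rw [hR, Subgroup.map_le_iff_le_comap]
    have h1 : (U.subgroupOf L) ⊔ (A.subgroupOf L) = ⊤ := by
      refine eq_top_iff.2 fun l _ => ?_
      suffices h : L ≤ ((U.subgroupOf L) ⊔ (A.subgroupOf L)).map L.subtype by
        obtain ⟨l', hl', e⟩ := h l.2
        exact (Subtype.ext e : l' = l) ▸ hl'
      refine sup_le (fun a ha => ⟨⟨a, hAL ha⟩, mem_sup_right ha, rfl⟩) ?_
      rintro _ ⟨a, ha, rfl⟩
      have hmem : x * a * x⁻¹ ∈ L := mem_sup_right ⟨a, ha, rfl⟩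
      refine ⟨⟨x * a * x⁻¹, hmem⟩, ?_, rfl⟩
      have e : (⟨x * a * x⁻¹, hmem⟩ : L) = ⟨a, hAL ha⟩ * ⟨a⁻¹ * (x * a * x⁻¹),
          L.mul_mem (L.inv_mem (hAL ha)) hmem⟩ := Subtype.ext (mul_inv_cancel_left _ _).symm
      rw [e]
      exact mul_mem (mem_sup_right ha) (mem_sup_left (hconjU x hxU a))
    haveI : (U.subgroupOf L).Normal := (inferInstance : U.Normal).comap _
    exact LocalStructure.pResidual_le_of_sup_eq_top
      (hA.comap_of_injective L.subtype L.subtype_injective) h1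
  -- conjugate inside the residual
  obtain ⟨T₁, hT₁⟩ := (hA.comap_of_injective L.subtype L.subtype_injective).exists_le_sylow
  obtain ⟨T₂, hT₂⟩ := ((hA.map (MulAut.conj x).toMonoidHom).comap_of_injective L.subtype
    L.subtype_injective).exists_le_sylow
  obtain ⟨g, hg⟩ := MulAction.exists_smul_eq L T₁ T₂
  have htop : Cfsg.pResidual p L ⊔ (T₁ : Subgroup L) = ⊤ := by
    rw [← Subgroup.index_eq_one]
    obtain ⟨k, hk⟩ := Fusion.index_pResidual_eq_pow (G := L) (p := p)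
    have h1 := Subgroup.index_dvd_of_le (le_sup_left : Cfsg.pResidual p L ≤ _ ⊔ (T₁ : Subgroup L))
    have h2 := Subgroup.index_dvd_of_le (le_sup_right : (T₁ : Subgroup L) ≤ Cfsg.pResidual p L ⊔ _)
    rw [hk] at h1
    obtain ⟨i, -, hi⟩ := (Nat.dvd_prime_pow Fact.out).1 h1
    rcases Nat.eq_zero_or_pos i with rfl | hi0
    · rw [hi, pow_zero]
    · exact absurd ((hi ▸ dvd_pow_self p hi0.ne').trans h2) T₁.not_dvd_index
  obtain ⟨yL, hyR, t, ht, hgy⟩ := mem_sup_of_normal_left.1 (htop ▸ mem_top g)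
  have hyT : yL • T₁ = T₂ := by
    rw [← hg, ← hgy, mul_smul]
    exact congrArg _ (Sylow.smul_eq_iff_mem_normalizer.2 (le_normalizer ht)).symm
  set y : M := yL.1 with hy
  have hyRR : y ∈ R := ⟨yL, hyR, rfl⟩
  have hyU : y ∈ U := hRU hyRR
  have hyA : ∀ a ∈ A, ∃ t ∈ (T₂ : Subgroup L), (t : M) = y * a * y⁻¹ := fun a ha => by
    refine ⟨yL * ⟨a, hAL ha⟩ * yL⁻¹, ?_, rfl⟩
    rw [← hyT, Sylow.coe_subgroup_smul]
    exact ⟨⟨a, hAL ha⟩, hT₁ ha, rfl⟩
  have hxA : ∀ a ∈ A, ∃ t ∈ (T₂ : Subgroup L), (t : M) = x * a * x⁻¹ := fun a ha =>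
    ⟨⟨x * a * x⁻¹, mem_sup_right ⟨a, ha, rfl⟩⟩, hT₂ ⟨a, ha, rfl⟩, rfl⟩
  have hcent : ∀ a ∈ C x, ∀ l ∈ L, π a * π l = π l * π a := by
    intro a ha
    obtain ⟨haA, hax⟩ := Subgroup.mem_inf.1 ha
    have hax' : π a * π x = π x * π a := mem_centralizer_singleton_iff.1 hax
    suffices h : L ≤ (centralizer ({π a} : Set (M ⧸ V))).comap π from fun l hl =>
      (mem_centralizer_singleton_iff.1 (h hl)).symm
    have haa : A ≤ (centralizer ({π a} : Set (M ⧸ V))).comap π := fun b hb =>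
      mem_centralizer_singleton_iff.2 (Coprime.ea_comm hEA (mem_map_of_mem π hb) (mem_map_of_mem π haA))
    refine sup_le haa ?_
    rintro _ ⟨b, hb, rfl⟩
    have hx' : x ∈ (centralizer ({π a} : Set (M ⧸ V))).comap π :=
      mem_centralizer_singleton_iff.2 hax'.symm
    exact mul_mem (mul_mem hx' (haa hb)) (inv_mem hx')
  have hxne : ¬ A ≤ C x := fun h => (Fact.out : p.Prime).one_lt.ne
    ((relIndex_eq_one.2 h).symm.trans hxC)
  have hyne : ¬ A ≤ C y := by
    intro h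
    refine hxne fun a ha => Subgroup.mem_inf.2 ⟨ha, ?_⟩
    have hc : π a * π y = π y * π a := mem_centralizer_singleton_iff.1 (Subgroup.mem_inf.1 (h ha)).2
    obtain ⟨t1, ht1, e1⟩ := hyA a ha
    obtain ⟨t2, ht2, e2⟩ := hxA a ha
    let T := ((T₂ : Subgroup L).map L.subtype).map π
    have hmem1 : π a ∈ T := by
      refine ⟨(t1 : M), ⟨t1, ht1, rfl⟩, ?_⟩
      rw [e1, map_mul, map_mul, map_inv, ← hc, mul_inv_cancel_right]
    have hmem2 : π (x * a * x⁻¹) ∈ T := ⟨(t2 : M), ⟨t2, ht2, rfl⟩, congrArg π e2⟩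
    have hmemW : (π a)⁻¹ * π (x * a * x⁻¹) ∈ T ⊓ W :=
      Subgroup.mem_inf.2 ⟨T.mul_mem (T.inv_mem hmem1) hmem2, by
        rw [← map_inv, ← map_mul]; exact hconjU x hxU a⟩
    rw [hdisj T ((T₂.2.map L.subtype).map π), mem_bot, inv_mul_eq_one, map_mul, map_mul, map_inv,
      eq_mul_inv_iff_mul_eq] at hmemW
    exact mem_centralizer_singleton_iff.2 hmemW
  have hCle : C x ≤ C y := fun a ha => Subgroup.mem_inf.2
    ⟨(Subgroup.mem_inf.1 ha).1, mem_centralizer_singleton_iff.2 (hcent a ha y yL.2)⟩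
  have hCy : (C y).relIndex A = p :=
    ((Nat.dvd_prime Fact.out).1 (hxC ▸ relIndex_dvd_of_le_left A hCle)).resolve_left
      fun h => hyne (relIndex_eq_one.1 h)
  have hyL : A ⊔ A.map (MulAut.conj y).toMonoidHom ≤ L := sup_le hAL (by
    rintro _ ⟨a, ha, rfl⟩
    exact L.mul_mem (L.mul_mem yL.2 (hAL ha)) (L.inv_mem yL.2))
  have hLeq : A ⊔ A.map (MulAut.conj y).toMonoidHom = L :=
    Subgroup.eq_of_le_of_card_ge hyL (hmin y ⟨hyU, hCy⟩)
  refine ⟨y, hyU, ?_⟩
  rw [hLeq]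
  haveI hRn : (Cfsg.pResidual p L).Normal := inferInstance
  set O := (Cfsg.pCore p L).map L.subtype with hO
  set N0 := L ⊓ ((C y).map π).comap π with hN0
  have hCyx : C y = C x := (Subgroup.eq_of_le_of_card_ge hCle (by
    have h1 := Coprime.card_mul_relIndex_of_le (inf_le_left : C x ≤ A)
    have h2 := Coprime.card_mul_relIndex_of_le (inf_le_left : C y ≤ A)
    rw [hxC] at h1
    rw [hCy] at h2
    exact le_of_eq (Nat.eq_of_mul_eq_mul_right (Fact.out : p.Prime).pos (h2.trans h1.symm)))).symm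
  haveI hN0n : (N0.subgroupOf L).Normal := ⟨fun n hn l => by
    obtain ⟨hnL, a, ha, hae⟩ := Subgroup.mem_inf.1 hn
    refine Subgroup.mem_inf.2 ⟨(l * n * l⁻¹).2, a, ha, ?_⟩
    show π a = π ((l : M) * (n : M) * (l : M)⁻¹)
    rw [map_mul, map_mul, map_inv, show π (n : M) = π a from hae.symm,
      ← hcent a (hCyx ▸ ha) l l.2, mul_inv_cancel_right]⟩
  have hN0p : IsPGroup p N0 := by
    refine IsPGroup.to_le ?_ (inf_le_right : N0 ≤ _)
    exact ((hA.to_le inf_le_left).map π).comap_of_ker_isPGroup π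
      (by rw [hπ, QuotientGroup.ker_mk', hV]; exact Core.pCore_isPGroup)
  have hCO : C y ≤ O := fun a ha => by
    have haL : a ∈ L := hAL (Subgroup.mem_inf.1 ha).1
    exact ⟨⟨a, haL⟩, Core.le_pCore (N := N0.subgroupOf L) (hN := hN0n) (hN0p.comap_of_injective L.subtype L.subtype_injective)
      (mem_subgroupOf.2 (Subgroup.mem_inf.2 ⟨haL, a, ha, rfl⟩)), rfl⟩
  have hAO : ¬ A ≤ O := by
    intro h
    have hLO : L ≤ O := by
      rw [← hLeq]
      refine sup_le h ?_
      rintro _ ⟨a, ha, rfl⟩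
      obtain ⟨a', ha', e⟩ := h ha
      refine ⟨yL * a' * yL⁻¹, (inferInstance : (Cfsg.pCore p L).Normal).conj_mem a' ha' yL, ?_⟩
      show (yL : M) * (a' : M) * (yL : M)⁻¹ = y * a * y⁻¹
      rw [show (a' : M) = a from e]
    have hLp : IsPGroup p L := (Core.pCore_isPGroup.map L.subtype).to_le hLO
    have h2 : yL = 1 := by
      have := Fusion.pResidual_le_ker (MonoidHom.id L) hLp hyR
      simpa using this
    refine hyne fun a ha => Subgroup.mem_inf.2 ⟨ha, mem_centralizer_singleton_iff.2 ?_⟩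
    rw [hy, h2]; simp
  have hinf : A ⊓ O = C y := by
    have hle : C y ≤ A ⊓ O := le_inf inf_le_left hCO
    have h1 : (A ⊓ O).relIndex A ∣ p := hCy ▸ relIndex_dvd_of_le_left A hle
    rcases (Nat.dvd_prime Fact.out).1 h1 with h2 | h2
    · exact absurd ((relIndex_eq_one.1 h2).trans inf_le_right) hAO
    · refine (Subgroup.eq_of_le_of_card_ge hle ?_).symm
      have e1 := Coprime.card_mul_relIndex_of_le (inf_le_left : A ⊓ O ≤ A)
      have e2 := Coprime.card_mul_relIndex_of_le (inf_le_left : C y ≤ A)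
      rw [h2] at e1
      rw [hCy] at e2
      exact le_of_eq (Nat.eq_of_mul_eq_mul_right (Fact.out : p.Prime).pos (e1.trans e2.symm))
  refine ⟨hyRR, hRU, ?_, by rw [hinf, hCy], ?_⟩
  · have hRnorm : L ≤ normalizer (R : Set M) := by
      refine (Subgroup.normal_subgroupOf_iff_le_normalizer (map_subtype_le _)).1 ?_
      show (((Cfsg.pResidual p L).map L.subtype).comap L.subtype).Normal
      rw [comap_map_eq_self_of_injective L.subtype_injective]; exact hRn
    have hle : ⁅R, A⁆ ≤ R := (Subgroup.le_normalizer_iff_commutator_le_left).1 (hAL.trans hRnorm)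
    refine le_antisymm hle ?_
    have hyN : y ∈ normalizer ((⁅R, A⁆ : Subgroup M) : Set M) := normalizer_commutator_ge_left R A hyRR
    have hAN : A ≤ normalizer ((⁅R, A⁆ : Subgroup M) : Set M) := normalizer_commutator_ge_right R A
    have hLN : L ≤ normalizer ((⁅R, A⁆ : Subgroup M) : Set M) := by
      rw [← hLeq]
      refine sup_le hAN ?_
      rintro _ ⟨a, ha, rfl⟩
      exact mul_mem (mul_mem hyN (hAN ha)) (inv_mem hyN)
    have hCL : ⁅R, A⁆ ≤ L := hle.trans (map_subtype_le _)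
    haveI : ((⁅R, A⁆).subgroupOf L).Normal := (Subgroup.normal_subgroupOf_iff_le_normalizer hCL).2 hLN
    have hsup : (⁅R, A⁆).subgroupOf L ⊔ A.subgroupOf L = ⊤ := by
      rw [← subgroupOf_sup hCL hAL, subgroupOf_eq_top]
      refine (le_of_eq hLeq.symm).trans (sup_le le_sup_right ?_)
      rintro _ ⟨a, ha, rfl⟩
      have e : y * a * y⁻¹ = ⁅y, a⁆ * a := by rw [commutatorElement_def]; group
      show y * a * y⁻¹ ∈ _
      rw [e]
      exact mul_mem (mem_sup_left (commutator_mem_commutator hyRR ha)) (mem_sup_right ha)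
    rw [Subgroup.map_le_iff_le_comap]
    exact LocalStructure.pResidual_le_of_sup_eq_top (N := (⁅R, A⁆).subgroupOf L)
      (hA.comap_of_injective L.subtype L.subtype_injective) hsup
  · rw [hinf, hCyx, commutator_le]
    intro a ha l hl
    rw [← hker, map_commutatorElement, commutatorElement_eq_one_iff_mul_comm]
    exact hcent a ha l hl

end Cfsg.Agent.S3754
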