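import Cfsg.Statements.S3760
import Mathlib

set_option autoImplicit false
open Cfsg

namespace Cfsg.Agent.S3760

open Subgroup

/-- Let the group G act transitively on a set X, let x ∈ X with stabilizer H = G_x, and let K ≤ H. Then N_G(K) acts transitively on the set of fixed points of K if and only if every G-conjugate of K contained in H is already an H-conjugate of K. -/
theorem result {G : Type*} [Group G] {X : Type*} [MulAction G X] (htrans : ∀ a b : X, ∃ g : G, g • a = b) (x : X) (K : Subgroup G) (hK : K ≤ MulAction.stabilizer G x) : (∀ a b : X, (∀ k ∈ K, k • a = a) → (∀ k ∈ K, k • b = b) → ∃ g ∈ Subgroup.normalizer (K : Set G), g • a = b) ↔ ∀ g : G, K.map (MulAut.conj g).toMonoidHom ≤ MulAction.stabilizer G x → ∃ h ∈ MulAction.stabilizer G x, K.map (MulAut.conj g).toMonoidHom = K.map (MulAut.conj h).toMonoidHom := by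
  have hmem : ∀ (g y : G), y ∈ K.map (MulAut.conj g).toMonoidHom ↔ g⁻¹ * y * g ∈ K := fun g y => by
    rw [mem_map_equiv]; simp
  have hxK : ∀ k ∈ K, k • x = x := fun k hk => hK hk
  constructor
  · intro htr g hg
    have hfix : ∀ k ∈ K, k • g⁻¹ • x = g⁻¹ • x := by
      intro k hk
      have : (g * k * g⁻¹) • x = x := hg ((hmem g _).mpr (by simpa [mul_assoc] using hk))
      calc k • g⁻¹ • x = g⁻¹ • ((g * k * g⁻¹) • x) := by simp [smul_smul, mul_assoc]
        _ = g⁻¹ • x := by rw [this]
    obtain ⟨n, hn, hnx⟩ := htr x (g⁻¹ • x) hxK hfix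
    refine ⟨g * n, ?_, ?_⟩
    · rw [MulAction.mem_stabilizer_iff, mul_smul, hnx, smul_inv_smul]
    · ext y
      rw [hmem, hmem, mem_normalizer_iff''.mp hn (g⁻¹ * y * g)]
      simp [mul_assoc]
  · intro hconj a b ha hb
    suffices h : ∀ a : X, (∀ k ∈ K, k • a = a) → ∃ g ∈ normalizer (K : Set G), g • x = a by
      obtain ⟨ga, hga, hga'⟩ := h a ha
      obtain ⟨gb, hgb, hgb'⟩ := h b hb
      exact ⟨gb * ga⁻¹, mul_mem hgb (inv_mem hga),
        by rw [mul_smul, ← hga', inv_smul_smul, hgb']⟩
    intro a ha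
    obtain ⟨g, rfl⟩ := htrans x a
    obtain ⟨h, hh, heq⟩ := hconj g⁻¹ (by
      intro y hy
      rw [hmem, inv_inv] at hy
      have := ha _ hy
      rw [← mul_smul, inv_mul_cancel_right, mul_smul] at this
      exact MulAction.injective g this)
    refine ⟨g * h, mem_normalizer_iff''.mpr fun y => ?_, by rw [mul_smul, MulAction.mem_stabilizer_iff.mp hh]⟩
    have h1 := SetLike.ext_iff.mp heq (g⁻¹ * y * g)
    rw [hmem, hmem, inv_inv] at h1
    simp only [mul_assoc, mul_inv_cancel_left, mul_inv_cancel, mul_one] at h1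
    simpa [mul_assoc] using h1

end Cfsg.Agent.S3760
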