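import Cfsg.Statements.S3763
import Cfsg.Agent.Fg24.ExtraTwo

set_option autoImplicit false
open Cfsg

namespace Cfsg.Agent.S3763

open LargeExtra

theorem prank_congr {G H : Type*} [Group G] [Group H] (e : G ≃* H) {p k : ℕ}
    (h : Cfsg.PRankLE p k G) : Cfsg.PRankLE p k H := by
  intro A hA hpow
  haveI := hA
  have := h (A.map e.symm.toMonoidHom) inferInstance (by
    rintro _ ⟨a, ha, rfl⟩
    rw [← map_pow, hpow a ha, map_one])
  rwa [Subgroup.card_map_of_injective e.symm.injective] at this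

theorem prank_congr_iff {G H : Type*} [Group G] [Group H] (e : G ≃* H) (p k : ℕ) :
    Cfsg.PRankLE p k G ↔ Cfsg.PRankLE p k H := ⟨prank_congr e, prank_congr e.symm⟩

theorem prank_heis {m : ℕ} {c : ZMod 2} {r : ℕ}
    (h : IsGreatest {k : ℕ | ∃ A : Subgroup (Heis m c), Cfsg.IsElementaryAbelian 2 A ∧ Nat.card A = 2 ^ k} r)
    (k : ℕ) : Cfsg.PRankLE 2 k (Heis m c) ↔ r ≤ k := by
  haveI : Fact (Nat.Prime 2) := ⟨Nat.prime_two⟩
  constructor
  · intro hk
    obtain ⟨A, hA, hAc⟩ := h.1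
    have := hk A hA.1 hA.2
    rw [hAc] at this
    exact (Nat.pow_le_pow_iff_right (by norm_num)).1 this
  · intro hk A hA hpow
    obtain ⟨j, hj⟩ := IsPGroup.iff_card.1 (show IsPGroup 2 A from fun a => ⟨1, Subtype.ext (by
      rw [pow_one, SubmonoidClass.coe_pow, hpow a a.2, OneMemClass.coe_one])⟩)
    rw [hj]
    exact Nat.pow_le_pow_right (by norm_num) ((h.2 ⟨A, ⟨hA, hpow⟩, hj⟩).trans hk)

theorem rank_of {m : ℕ} : ∀ c : ZMod 2, ∀ k : ℕ,
    Cfsg.PRankLE 2 k (Heis m c) ↔ (if c = 0 then m + 2 else m + 1) ≤ k := by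
  intro c k
  rcases Fg24.ExtraTwo.two_cases c with rfl | rfl
  · rw [if_pos rfl]; exact prank_heis Heis.rank_plus k
  · rw [if_neg (by decide)]; exact prank_heis Heis.rank_minus k

/-- Let E be an extraspecial 2-group of order 2^(2n+1). Then the largest elementary abelian subgroups of E have order 2^n or 2^(n+1); and two extraspecial 2-groups of the same order whose largest elementary abelian subgroups have the same order are isomorphic. -/
theorem result {E : Type*} [Group E] [Finite E] (hE : Cfsg.IsExtraspecial 2 E) (n : ℕ) (hn : Nat.card E = 2 ^ (2 * n + 1)) : ((Cfsg.PRankLE 2 n E ∧ ¬ Cfsg.PRankLE 2 (n - 1) E) ∨ (Cfsg.PRankLE 2 (n + 1) E ∧ ¬ Cfsg.PRankLE 2 n E)) ∧ ∀ (E' : Type*) [Group E'] [Finite E'], Cfsg.IsExtraspecial 2 E' → Nat.card E' = Nat.card E → (∀ k : ℕ, Cfsg.PRankLE 2 k E ↔ Cfsg.PRankLE 2 k E') → Nonempty (E ≃* E') := by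
  obtain ⟨m, c, ⟨e⟩⟩ := Fg24.ExtraTwo.exists_equiv_heis hE
  have hm : n = m + 1 := by
    have hc := Nat.card_congr e.toEquiv
    rw [hn, Heis.card] at hc
    have := Nat.pow_right_injective le_rfl hc
    omega
  have hr : ∀ k, Cfsg.PRankLE 2 k E ↔ (if c = 0 then m + 2 else m + 1) ≤ k := fun k =>
    (prank_congr_iff e 2 k).trans (rank_of c k)
  subst hm
  refine ⟨?_, ?_⟩
  · rw [hr, hr, hr]
    split_ifs <;> omega
  · intro E' _ _ hE' hcard hk
    obtain ⟨m', c', ⟨e'⟩⟩ := Fg24.ExtraTwo.exists_equiv_heis hE'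
    have hm' : m' = m := by
      have hc := Nat.card_congr e'.toEquiv
      rw [hcard, hn, Heis.card] at hc
      have := Nat.pow_right_injective le_rfl hc
      omega
    subst hm'
    have hcc : c' = c := by
      have h1 := (hr (m' + 1)).symm.trans ((hk (m' + 1)).trans
        ((prank_congr_iff e' 2 (m' + 1)).trans (rank_of c' (m' + 1))))
      rcases Fg24.ExtraTwo.two_cases c with rfl | rfl <;>
        rcases Fg24.ExtraTwo.two_cases c' with rfl | rfl <;> first | rfl | (norm_num at h1)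
    subst hcc
    exact ⟨e.trans e'.symm⟩

end Cfsg.Agent.S3763
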