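import Cfsg.Statements.S3764
import Cfsg.Agent.CoprimeFixed.Main

set_option autoImplicit false
open Cfsg

namespace Cfsg.Agent.S3764
open scoped commutatorElement

/-- Let p, q, r be distinct primes and let X, Q, V be subgroups of a finite group with X of order r, Q an extraspecial q-group normalized by X with C_Q(X) = Z(Q), and V an elementary abelian p-group normalized by X and Q on which XQ acts faithfully ((X ⊔ Q) ∩ C(V) = 1). If C_V(X) = 1, then q = 2, r = 2^n + 1 for some n, and Q has order 2^(2n+1). -/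
theorem result {G : Type*} [Group G] [Finite G] {p q r : ℕ} (hp : p.Prime) (hq : q.Prime) (hr : r.Prime) (hpq : p ≠ q) (hpr : p ≠ r) (hqr : q ≠ r) (X Q V : Subgroup G) (hX : Nat.card X = r) (hQ : Cfsg.IsExtraspecial q ↥Q) (hXQ : X ≤ Subgroup.normalizer (Q : Set G)) (hCQ : Q ⊓ Subgroup.centralizer (X : Set G) = (Subgroup.center ↥Q).map Q.subtype) (hV : Cfsg.IsElementaryAbelian p V) (hXV : X ≤ Subgroup.normalizer (V : Set G)) (hQV : Q ≤ Subgroup.normalizer (V : Set G)) (hfaith : (X ⊔ Q) ⊓ Subgroup.centralizer (V : Set G) = ⊥) (hCV : V ⊓ Subgroup.centralizer (X : Set G) = ⊥) : q = 2 ∧ ∃ n : ℕ, r = 2 ^ n + 1 ∧ Nat.card Q = 2 ^ (2 * n + 1) := by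
  classical
  haveI := Fact.mk hp
  haveI := Fact.mk hq
  haveI := Fact.mk hr
  set M := Subgroup.normalizer (V : Set G)
  obtain ⟨W, _, _, _, ρ, e, hadd, hconj⟩ := CoprimeFixed.exists_rep V hV
  haveI : IsCyclic X := isCyclic_of_prime_card hX
  obtain ⟨⟨x₀, hx₀⟩, hgen⟩ := IsCyclic.exists_generator (α := X)
  have hXgen : ∀ y ∈ X, y ∈ Subgroup.zpowers x₀ := fun y hy => by
    obtain ⟨n, hn⟩ := Subgroup.mem_zpowers_iff.mp (hgen ⟨y, hy⟩)
    exact ⟨n, congrArg Subtype.val hn⟩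
  have hxr : x₀ ^ r = 1 := by
    have := pow_card_eq_one' (x := (⟨x₀, hx₀⟩ : X))
    rw [hX] at this
    exact congrArg Subtype.val this
  have hcentX : ∀ a : G, Commute x₀ a → a ∈ Subgroup.centralizer (X : Set G) := fun a ha => by
    refine Subgroup.mem_centralizer_iff.mpr fun y hy => ?_
    obtain ⟨n, rfl⟩ := Subgroup.mem_zpowers_iff.mp (hXgen y hy)
    exact (ha.zpow_left n).eq
  set x : M := ⟨x₀, hXV hx₀⟩
  set Z : Subgroup M := ((Subgroup.center Q).map Q.subtype).subgroupOf M with hZdef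
  set Q' : Subgroup M := Q.subgroupOf M with hQ'
  have hZQ : Z ≤ Q' := Subgroup.comap_mono (Subgroup.map_subtype_le _)
  have hmemZ : ∀ a : M, a ∈ Z ↔ (a : G) ∈ Q ∧ Commute x₀ (a : G) := by
    intro a
    rw [hZdef, Subgroup.mem_subgroupOf, ← hCQ]
    exact ⟨fun h => ⟨h.1, Subgroup.mem_centralizer_iff.mp h.2 x₀ hx₀⟩, fun h => ⟨h.1, hcentX _ h.2⟩⟩
  have hZc : ∀ z ∈ Z, ∀ a ∈ Q', Commute z a := by
    intro z hz a ha
    obtain ⟨c, hc, hcz⟩ := Subgroup.mem_map.mp (Subgroup.mem_subgroupOf.mp hz)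
    refine Subtype.ext ?_
    have := congrArg Subtype.val ((Subgroup.mem_center_iff.mp hc) ⟨a, ha⟩)
    simp only [Subgroup.coe_mul, Subgroup.coe_subtype] at this hcz
    rw [hcz] at this
    exact this.symm
  have hcard : Nat.card Z = q := by
    rw [hZdef, Nat.card_congr (Subgroup.subgroupOfEquivOfLe ((Subgroup.map_subtype_le _).trans hQV)).toEquiv,
      Subgroup.card_map_of_injective Q.subtype_injective, hQ.2]
  have hcomm : ∀ a ∈ Q', ∀ b ∈ Q', a * b * a⁻¹ * b⁻¹ ∈ Z := by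
    intro a ha b hb
    refine ⟨⟨(a : G) * b * (a : G)⁻¹ * (b : G)⁻¹, Q.mul_mem (Q.mul_mem (Q.mul_mem ha hb) (Q.inv_mem ha)) (Q.inv_mem hb)⟩, ?_, rfl⟩
    rw [← hQ.1.2.2]
    exact Subgroup.commutator_mem_commutator (g₁ := (⟨a, ha⟩ : Q)) (g₂ := ⟨b, hb⟩) trivial trivial
  have hfix : ∀ a ∈ Q', x * a * x⁻¹ * a⁻¹ ∈ Z → a ∈ Z := by
    intro a ha hc
    obtain ⟨k, hk⟩ := hQ.1.1 ⟨_, ((hmemZ _).mp hc).1⟩
    have h1 := CoprimeFixed.eq_one_of_central_commutator (x := x₀) (a := (a : G)) hxr hr hq hqr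
      ((hmemZ _).mp hc).2 (congrArg Subtype.val hk)
    exact (hmemZ a).mpr ⟨ha, mul_inv_eq_iff_eq_mul.mp (mul_inv_eq_one.mp h1)⟩
  haveI : Nontrivial Z := Finite.one_lt_card_iff_nontrivial.mp (hcard ▸ hq.one_lt)
  obtain ⟨⟨ζ, hζ⟩, hζ1⟩ := exists_ne (1 : Z)
  have hN : ∑ i ∈ Finset.range r, ρ (x ^ i) = 0 :=
    CoprimeFixed.sum_pow_eq_zero ρ (Subtype.ext hxr) fun w hw => by
      have h1 : (e w : G) ∈ V ⊓ Subgroup.centralizer (X : Set G) :=
        ⟨(e w).2, hcentX _ ((CoprimeFixed.model_fixed_iff hconj x w).mp hw)⟩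
      rw [hCV, Subgroup.mem_bot, ← CoprimeFixed.model_zero hadd] at h1
      exact e.injective (Subtype.ext h1)
  have hρζ : ρ ζ ≠ 1 := fun h => hζ1 (Subtype.ext (Subtype.ext (by
    have h1 : (ζ : G) ∈ (X ⊔ Q) ⊓ Subgroup.centralizer (V : Set G) :=
      ⟨Subgroup.mem_sup_right ((hmemZ ζ).mp hζ).1, (CoprimeFixed.model_eq_one_iff hconj ζ).mp h⟩
    rw [hfaith] at h1
    exact Subgroup.mem_bot.mp h1)))
  have hrad : ∀ K1 : Subgroup M, K1 ≤ Z → ζ ∉ K1 →
      ∀ a ∈ Q', (∀ b ∈ Q', a * b * a⁻¹ * b⁻¹ ∈ K1) → a ∈ Z := by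
    intro K1 hK1 hζK1 a ha hall
    rcases (Subgroup.card_le_of_le hK1).lt_or_eq with hlt | heq
    · have hd : Nat.card K1 ∣ q := hcard ▸ Subgroup.card_dvd_of_le hK1
      have h1 : Nat.card K1 = 1 := ((Nat.dvd_prime hq).mp hd).resolve_right (by omega)
      rw [Subgroup.card_eq_one] at h1
      refine Subgroup.mem_subgroupOf.mpr ⟨⟨a, ha⟩, Subgroup.mem_center_iff.mpr fun b => Subtype.ext ?_, rfl⟩
      have h2 := hall ⟨b, hQV b.2⟩ b.2
      rw [h1, Subgroup.mem_bot] at h2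
      exact (commutatorElement_eq_one_iff_mul_comm.mp (congrArg Subtype.val h2 : ⁅(a : G), (b : G)⁆ = 1)).symm
    · exact absurd hζ (Subgroup.eq_of_le_of_card_ge hK1 heq.ge ▸ hζK1)
  have hne : ¬ Q' ≤ Z := by
    intro hle
    have htop : Subgroup.center Q = ⊤ := top_le_iff.mp fun a _ => by
      obtain ⟨c, hc, hca⟩ := Subgroup.mem_map.mp (Subgroup.mem_subgroupOf.mp (hle (show (⟨a, hQV a.2⟩ : M) ∈ Q' from a.2)))
      rwa [show a = c from Subtype.ext hca.symm]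
    have h2 := hQ.2
    haveI : Nontrivial Q := Finite.one_lt_card_iff_nontrivial.mp (by
      rw [← Subgroup.card_top (G := Q), ← htop, h2]; exact hq.one_lt)
    haveI : Group.IsNilpotent Q := hQ.1.1.isNilpotent
    exact (Group.IsSolvable.commutator_lt_top_of_nontrivial Q).ne (hQ.1.2.2.trans htop)
  obtain ⟨m, -, hq2, hrm, hrel⟩ := CoprimeFixed.heis_bound ρ Q' Z x hq hr hpq.symm hpr.symm
    ((hQ.1.1).comap_subtype) (Subtype.ext hxr) hN
    (fun a ha => Subgroup.mem_subgroupOf.mpr ((Subgroup.mem_normalizer_iff.mp (hXQ hx₀) a).mp ha))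
    hZQ hne hcomm hZc (fun z hz => Subtype.ext ((hmemZ z).mp hz).2) hfix hζ hρζ hrad
  refine ⟨hq2, m, hrm, ?_⟩
  have hcardQ := (Z.subgroupOf Q').card_mul_index
  rw [Nat.card_congr (Subgroup.subgroupOfEquivOfLe hZQ).toEquiv, hcard,
    Nat.card_congr (Subgroup.subgroupOfEquivOfLe hQV).toEquiv] at hcardQ
  rw [← hcardQ, pow_succ, mul_comm (2 ^ (2 * m)), ← hrel, hq2]
  rfl

end Cfsg.Agent.S3764
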