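import Cfsg.Statements.S3765
import Cfsg.Agent.CoprimeFixed.Main

set_option autoImplicit false
open Cfsg

namespace Cfsg.Agent.S3765

/-- Let p, q, r be distinct primes and let X, Q, V be subgroups of a finite group with X of order r normalizing the q-group Q and acting faithfully on it (X ∩ C(Q) = 1), and V a nontrivial elementary abelian p-group normalized by X and Q on which XQ acts faithfully. If q = 2 and r has the form 2^n + 1, assume in addition that Q is abelian. Then C_V(X) ≠ 1. -/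
theorem result {G : Type*} [Group G] [Finite G] {p q r : ℕ} (hp : p.Prime) (hq : q.Prime) (hr : r.Prime) (hpq : p ≠ q) (hpr : p ≠ r) (hqr : q ≠ r) (X Q V : Subgroup G) (hX : Nat.card X = r) (hQ : IsPGroup q Q) (hXQ : X ≤ Subgroup.normalizer (Q : Set G)) (hXfaith : X ⊓ Subgroup.centralizer (Q : Set G) = ⊥) (hV : Cfsg.IsElementaryAbelian p V) (hV1 : V ≠ ⊥) (hXV : X ≤ Subgroup.normalizer (V : Set G)) (hQV : Q ≤ Subgroup.normalizer (V : Set G)) (hfaith : (X ⊔ Q) ⊓ Subgroup.centralizer (V : Set G) = ⊥) (hexc : q = 2 → (∃ n : ℕ, r = 2 ^ n + 1) → IsMulCommutative Q) : V ⊓ Subgroup.centralizer (X : Set G) ≠ ⊥ := by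
  classical
  haveI := Fact.mk hp
  haveI := Fact.mk hr
  intro hCV
  set M := Subgroup.normalizer (V : Set G)
  obtain ⟨W, _, _, _, ρ, e, hadd, hconj⟩ := CoprimeFixed.exists_rep V hV
  haveI : IsCyclic X := isCyclic_of_prime_card hX
  obtain ⟨⟨x₀, hx₀⟩, hgen⟩ := IsCyclic.exists_generator (α := X)
  have hxr : x₀ ^ r = 1 := by
    have := pow_card_eq_one' (x := (⟨x₀, hx₀⟩ : X))
    rw [hX] at this
    exact congrArg Subtype.val this
  have hcentX : ∀ a : G, Commute x₀ a → a ∈ Subgroup.centralizer (X : Set G) := fun a ha => by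
    refine Subgroup.mem_centralizer_iff.mpr fun y hy => ?_
    obtain ⟨n, hn⟩ := Subgroup.mem_zpowers_iff.mp (hgen ⟨y, hy⟩)
    rw [← show x₀ ^ n = y from congrArg Subtype.val hn]
    exact (ha.zpow_left n).eq
  set x : M := ⟨x₀, hXV hx₀⟩
  have hN : ∑ i ∈ Finset.range r, ρ (x ^ i) = 0 :=
    CoprimeFixed.sum_pow_eq_zero ρ (Subtype.ext hxr) fun w hw => by
      have h1 : (e w : G) ∈ V ⊓ Subgroup.centralizer (X : Set G) :=
        ⟨(e w).2, hcentX _ ((CoprimeFixed.model_fixed_iff hconj x w).mp hw)⟩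
      rw [hCV, Subgroup.mem_bot, ← CoprimeFixed.model_zero hadd] at h1
      exact e.injective (Subtype.ext h1)
  have hmove : ∃ a ∈ Q.subgroupOf M, x * a * x⁻¹ ≠ a := by
    by_contra hall
    push Not at hall
    have h1 : x₀ ∈ X ⊓ Subgroup.centralizer (Q : Set G) := ⟨hx₀, Subgroup.mem_centralizer_iff.mpr fun a ha => by
      exact (mul_inv_eq_iff_eq_mul.mp (congrArg Subtype.val (hall ⟨a, hQV ha⟩ ha))).symm⟩
    rw [hXfaith, Subgroup.mem_bot] at h1
    have h2 : Nat.card X = 1 := by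
      rw [Nat.card_eq_one_iff_exists]
      refine ⟨1, fun y => ?_⟩
      obtain ⟨n, hn⟩ := Subgroup.mem_zpowers_iff.mp (hgen y)
      rw [← hn, show (⟨x₀, hx₀⟩ : X) = 1 from Subtype.ext h1, one_zpow]
    exact hr.ne_one (hX ▸ h2)
  obtain ⟨hq2, hm, a, ha, b, hb, hab⟩ := CoprimeFixed.exceptional ρ (Q.subgroupOf M) x hq hr hpq.symm hpr.symm hqr
    hQ.comap_subtype (Subtype.ext hxr) hN
    (fun a ha => Subgroup.mem_subgroupOf.mpr ((Subgroup.mem_normalizer_iff.mp (hXQ hx₀) a).mp ha))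
    (fun a ha h => Subtype.ext (by
      have h1 : (a : G) ∈ (X ⊔ Q) ⊓ Subgroup.centralizer (V : Set G) :=
        ⟨Subgroup.mem_sup_right ha, (CoprimeFixed.model_eq_one_iff hconj a).mp h⟩
      rw [hfaith] at h1
      exact Subgroup.mem_bot.mp h1)) hmove
  exact hab (Subtype.ext (congrArg Subtype.val ((hexc hq2 hm).is_comm.comm ⟨a, ha⟩ ⟨b, hb⟩) : (a : G) * b = b * a))

end Cfsg.Agent.S3765
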