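import Cfsg.Statements.S3766
import Cfsg.Agent.Core.MinimalNormal
import Cfsg.Agent.LocalStructure.ThreeSubgroup
-- import your own Cfsg.Agent.* helpers here

set_option autoImplicit false
open Cfsg
open scoped commutatorElement

namespace Cfsg.Agent.S3766

/-- Let G be a finite solvable group and N a normal subgroup of G. Call a pair V < U of normal subgroups of G a chief factor of G when no normal subgroup of G lies strictly between them; an element g centralizes the chief factor U/V when u g u⁻¹ g⁻¹ ∈ V for all u ∈ U. Then an element of G lies in the Fitting subgroup F(N) if and only if it lies in N and centralizes every chief factor of G; and also if and only if it lies in N and centralizes every chief factor U/V of G with U ≤ F(N). -/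
theorem result {G : Type*} [Group G] [Finite G] (hG : Group.IsSolvable G) (N : Subgroup G) [N.Normal] (g : G) : (g ∈ (Cfsg.fittingSubgroup ↥N).map N.subtype ↔ g ∈ N ∧ ∀ U V : Subgroup G, (U.Normal ∧ V.Normal ∧ V < U ∧ ∀ W : Subgroup G, W.Normal → V ≤ W → W ≤ U → W = V ∨ W = U) → ∀ u ∈ U, u * g * u⁻¹ * g⁻¹ ∈ V) ∧ (g ∈ (Cfsg.fittingSubgroup ↥N).map N.subtype ↔ g ∈ N ∧ ∀ U V : Subgroup G, (U.Normal ∧ V.Normal ∧ V < U ∧ ∀ W : Subgroup G, W.Normal → V ≤ W → W ≤ U → W = V ∨ W = U) → U ≤ (Cfsg.fittingSubgroup ↥N).map N.subtype → ∀ u ∈ U, u * g * u⁻¹ * g⁻¹ ∈ V) := by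
  classical
  haveI := hG
  set F : Subgroup G := (Cfsg.fittingSubgroup N).map N.subtype with hF
  have hFN : F ≤ N := Subgroup.map_subtype_le _
  haveI hFn : F.Normal := by
    rw [hF, Core.map_fittingSubgroup_normal]
    exact Subgroup.normal_inf_normal _ _
  have hFnil : Group.IsNilpotent F := Core.isNilpotent_map Core.fittingSubgroup_isNilpotent _
  have hfwd : g ∈ F → g ∈ N ∧ ∀ U V : Subgroup G, (U.Normal ∧ V.Normal ∧ V < U ∧
      ∀ W : Subgroup G, W.Normal → V ≤ W → W ≤ U → W = V ∨ W = U) →
      ∀ u ∈ U, u * g * u⁻¹ * g⁻¹ ∈ V := by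
    intro hg
    refine ⟨hFN hg, fun U V ⟨hU, hV, hVU, hmin⟩ u hu => ?_⟩
    haveI := hU
    haveI := hV
    let f := QuotientGroup.mk' V
    haveI : (U.map f).Normal := hU.map f (QuotientGroup.mk'_surjective _)
    have hgF : f g ∈ Cfsg.fittingSubgroup (G ⧸ V) :=
      Core.map_fittingSubgroup_le_of_surjective (QuotientGroup.mk'_surjective V)
        (Subgroup.mem_map_of_mem f (by rw [hF, Core.map_fittingSubgroup_normal] at hg; exact hg.1))
    have hUmin : Core.IsMinNormal (U.map f) := by
      refine ⟨inferInstance, fun h => hVU.not_ge ?_, fun M hM hle => ?_⟩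
      · rw [Subgroup.map_eq_bot_iff, QuotientGroup.ker_mk'] at h
        exact h
      · haveI := hM
        have hle' : M.comap f ≤ U := by
          refine (Subgroup.comap_mono hle).trans_eq ?_
          rw [QuotientGroup.comap_map_mk', sup_eq_right.mpr hVU.le]
        rcases hmin (M.comap f) inferInstance (QuotientGroup.le_comap_mk' V M) hle' with h | h
        · left
          rw [← Subgroup.map_comap_eq_self_of_surjective (f := f) (QuotientGroup.mk'_surjective _) M, h]
          exact QuotientGroup.map_mk'_self V
        · right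
          rw [← h, Subgroup.map_comap_eq_self_of_surjective (QuotientGroup.mk'_surjective _)]
    haveI : Group.IsSolvable (U.map f) := inferInstance
    have hUF : U.map f ≤ Cfsg.fittingSubgroup (G ⧸ V) := hUmin.le_fittingSubgroup
    have hcom : ⁅U.map f, Cfsg.fittingSubgroup (G ⧸ V)⁆ = ⊥ := by
      rcases hUmin.eq_of_le ⁅U.map f, Cfsg.fittingSubgroup (G ⧸ V)⁆ inferInstance
        (Subgroup.commutator_le_left _ _) with h | h
      · exact h
      exfalso
      obtain ⟨n, hn⟩ := (Subgroup.isNilpotent_iff_lowerCentralSeries _).mp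
        (Core.fittingSubgroup_isNilpotent (G := G ⧸ V))
      have key : ∀ m, U.map f ≤ (Cfsg.fittingSubgroup (G ⧸ V)).lowerCentralSeries m := by
        intro m
        induction m with
        | zero => exact hUF
        | succ m ih =>
          rw [Subgroup.lowerCentralSeries_succ]
          exact h.ge.trans (Subgroup.commutator_mono ih le_rfl)
      exact hUmin.ne_bot (le_bot_iff.mp (hn ▸ key n))
    have h1 := Subgroup.commutator_mem_commutator (Subgroup.mem_map_of_mem f hu) hgF
    rw [hcom, Subgroup.mem_bot, ← map_commutatorElement] at h1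
    exact (QuotientGroup.eq_one_iff _).mp h1
  have hback : g ∈ N → (∀ U V : Subgroup G, (U.Normal ∧ V.Normal ∧ V < U ∧
      ∀ W : Subgroup G, W.Normal → V ≤ W → W ≤ U → W = V ∨ W = U) → U ≤ F →
      ∀ u ∈ U, u * g * u⁻¹ * g⁻¹ ∈ V) → g ∈ F := by
    intro hgN hg
    set D : Subgroup G := Subgroup.normalClosure {g} with hD
    haveI hDn : D.Normal := Subgroup.normalClosure_normal
    have hDN : D ≤ N := Subgroup.normalClosure_le_normal (Set.singleton_subset_iff.mpr hgN)
    have hlt : ∀ W : Subgroup G, W.Normal → W ≤ F → W ≠ ⊥ → ⁅W, D⁆ < W := by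
      intro W hW hWF hWne
      haveI := hW
      obtain ⟨V, ⟨hV, hVW⟩, hVmax⟩ := exists_maximal_of_wellFoundedGT
        (fun V : Subgroup G => V.Normal ∧ V < W) ⟨⊥, inferInstance, bot_lt_iff_ne_bot.mpr hWne⟩
      haveI := hV
      have hchief : ∀ M : Subgroup G, M.Normal → V ≤ M → M ≤ W → M = V ∨ M = W := by
        intro M hM h1 h2
        by_cases h : M = W
        · exact Or.inr h
        · exact Or.inl (le_antisymm (hVmax ⟨hM, lt_of_le_of_ne h2 h⟩ h1) h1)
      let f := QuotientGroup.mk' V
      haveI : (W.map f).Normal := hW.map f (QuotientGroup.mk'_surjective _)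
      have hDC : D ≤ (Subgroup.centralizer ((W.map f : Subgroup _) : Set (G ⧸ V))).comap f := by
        refine Subgroup.normalClosure_le_normal (Set.singleton_subset_iff.mpr ?_)
        rw [SetLike.mem_coe, Subgroup.mem_comap, Subgroup.mem_centralizer_iff]
        rintro _ ⟨w, hw, rfl⟩
        rw [← commutatorElement_eq_one_iff_mul_comm, ← map_commutatorElement]
        exact (QuotientGroup.eq_one_iff _).mpr (hg W V ⟨hW, hV, hVW, hchief⟩ hWF w hw)
      refine lt_of_le_of_lt (Subgroup.commutator_le.mpr fun w hw d hd => ?_) hVW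
      refine (QuotientGroup.eq_one_iff _).mp ?_
      change f ⁅w, d⁆ = 1
      rw [map_commutatorElement, commutatorElement_eq_one_iff_mul_comm]
      exact Subgroup.mem_centralizer_iff.mp (hDC hd) _ (Subgroup.mem_map_of_mem f hw)
    obtain ⟨W, hW0, hWs⟩ : ∃ W : ℕ → Subgroup G, W 0 = F ∧ ∀ i, W (i + 1) = ⁅W i, D⁆ :=
      ⟨fun i => Nat.rec F (fun _ X => ⁅X, D⁆) i, rfl, fun _ => rfl⟩
    have hWn : ∀ i, (W i).Normal := by
      intro i
      induction i with
      | zero => rw [hW0]; exact hFn
      | succ i ih =>
        haveI := ih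
        rw [hWs]; infer_instance
    have hWF : ∀ i, W i ≤ F := by
      intro i
      induction i with
      | zero => rw [hW0]
      | succ i ih =>
        haveI := hWn i
        rw [hWs]
        exact (Subgroup.commutator_le_left _ _).trans ih
    obtain ⟨k, hk⟩ : ∃ k, W k = ⊥ := by
      have key : ∀ i, W i = ⊥ ∨ Nat.card (W i) + i ≤ Nat.card F := by
        intro i
        induction i with
        | zero => exact Or.inr (by rw [hW0, add_zero])
        | succ i ih =>
          haveI := hWn i
          rcases ih with h | h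
          · exact Or.inl (by rw [hWs, h, Subgroup.commutator_bot_left])
          by_cases hne : W i = ⊥
          · exact Or.inl (by rw [hWs, hne, Subgroup.commutator_bot_left])
          right
          have hc : Nat.card (W (i + 1)) < Nat.card (W i) :=
            Set.Finite.card_lt_card (Set.toFinite _) ((hWs i).symm ▸ hlt (W i) (hWn i) (hWF i) hne :)
          omega
      refine ⟨Nat.card F + 1, (key (Nat.card F + 1)).resolve_right fun h => ?_⟩
      omega
    have hγ : ∀ j i, ⁅W i, D.lowerCentralSeries j⁆ ≤ W (i + j + 1) := by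
      intro j
      induction j with
      | zero => intro i; rw [Subgroup.lowerCentralSeries_zero, add_zero, hWs]
      | succ j ih =>
        intro i
        rw [Subgroup.lowerCentralSeries_succ, Subgroup.commutator_comm]
        haveI := hWn (i + (j + 1) + 1)
        have nm : ∀ X : Subgroup G, X ≤ Subgroup.normalizer (W (i + (j + 1) + 1) : Set G) :=
          fun X => Subgroup.le_normalizer_of_normal
        refine LocalStructure.commutator_commutator_le_of_rotate
          (N := W (i + (j + 1) + 1)) (H₁ := D.lowerCentralSeries j) (H₂ := D) (H₃ := W i)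
          (nm _) (nm _) (nm _) ?_ ?_
        · rw [Subgroup.commutator_comm D (W i), ← hWs]
          have e : i + 1 + j + 1 = i + (j + 1) + 1 := by omega
          exact e ▸ ih (i + 1)
        · have e : i + (j + 1) + 1 = i + j + 1 + 1 := by omega
          rw [e, hWs (i + j + 1)]
          exact Subgroup.commutator_mono (ih i) le_rfl
    have hγF : D.lowerCentralSeries k ≤ F := by
      intro x hx
      have h1 : x ∈ N := hDN (Subgroup.lowerCentralSeries_le_self D k hx)
      have h2 : ⁅F, D.lowerCentralSeries k⁆ = ⊥ := by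
        rw [← hW0]
        refine le_bot_iff.mp ((hγ k 0).trans ?_)
        rw [zero_add, hWs, hk, Subgroup.commutator_bot_left]
      haveI : Group.IsSolvable N := inferInstance
      refine Subgroup.mem_map_of_mem N.subtype (x := (⟨x, h1⟩ : N))
        (Core.centralizer_fittingSubgroup_le ?_)
      rw [Subgroup.mem_centralizer_iff]
      intro y hy
      exact Subtype.ext (commutatorElement_eq_one_iff_mul_comm.mp (Subgroup.mem_bot.mp
        (h2 ▸ Subgroup.commutator_mem_commutator (Subgroup.mem_map_of_mem N.subtype hy) hx)))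
    have hnil : Group.IsNilpotent D := by
      have key : ∀ m, D.lowerCentralSeries (k + m) ≤ W m := by
        intro m
        induction m with
        | zero => rw [hW0]; exact hγF
        | succ m ih =>
          rw [← add_assoc, Subgroup.lowerCentralSeries_succ, hWs]
          exact Subgroup.commutator_mono ih le_rfl
      exact Subgroup.isNilpotent_of_lowerCentralSeries_eq_bot (n := k + k) (le_bot_iff.mp (hk ▸ key k))
    rw [hF, Core.map_fittingSubgroup_normal]
    exact ⟨Core.le_fittingSubgroup hnil (Subgroup.subset_normalClosure rfl), hgN⟩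
  exact ⟨⟨hfwd, fun h => hback h.1 fun U V hUV _ => h.2 U V hUV⟩,
    ⟨fun h => ⟨(hfwd h).1, fun U V hUV _ => (hfwd h).2 U V hUV⟩, fun h => hback h.1 h.2⟩⟩

end Cfsg.Agent.S3766
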