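import Cfsg.Statements.S3767
import Cfsg.Agent.SympAct.Basic
import Cfsg.Agent.Fusion.Extraspecial

set_option autoImplicit false
open Cfsg

namespace Cfsg.Agent.S3767

open scoped commutatorElement

theorem aux_core {E : Type*} [Group E] [Finite E] {p : ℕ} [hp : Fact p.Prime]
    (hE : Cfsg.IsExtraspecial p E) {V : Type*} [AddCommGroup V] [Module (ZMod p) V]
    (π : E → V) (hsur : Function.Surjective π) (hπ : ∀ a b, π (a * b) = π a + π b)
    (hπ0 : ∀ a, π a = 0 ↔ a ∈ Subgroup.center E)
    (φ : MulAut E) {h : ℕ} (hh : 0 < h) (hφ : φ ^ h = 1) (hZ : ∀ z ∈ Subgroup.center E, φ z = z)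
    (hfree : ∀ i, 0 < i → i < h → ∀ a, a⁻¹ * (φ ^ i) a ∈ Subgroup.center E → a ∈ Subgroup.center E)
    (n : ℕ) (hn : Nat.card E = p ^ (2 * n + 1)) :
    (p : ZMod h) ^ n = 1 ∨ (p : ZMod h) ^ n = -1 := by
  classical
  have hle := Fusion.es_commutator_le hE
  haveI : Finite V := Finite.of_surjective π hsur
  haveI : Module.Finite (ZMod p) V := Module.Finite.of_finite
  let πh : E →* Multiplicative V :=
    MonoidHom.mk' (fun a => Multiplicative.ofAdd (π a)) fun a b => congrArg Multiplicative.ofAdd (hπ a b)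
  have hπi : ∀ a, π a⁻¹ = - π a := fun a => congrArg Multiplicative.toAdd (map_inv πh a)
  have hπeq : ∀ {a b}, π a = π b → a⁻¹ * b ∈ Subgroup.center E := fun {a b} e =>
    (hπ0 _).1 (by rw [hπ, hπi, e, neg_add_cancel])
  let χ : Subgroup.center E ≃* Multiplicative (ZMod p) := mulEquivOfPrimeCardEq hE.2
    (by rw [Nat.card_congr Multiplicative.toAdd, Nat.card_zmod])
  let β : E → E → ZMod p := fun a b =>
    Multiplicative.toAdd (χ ⟨⁅a, b⁆, Fusion.es_commutator_mem hE a b⟩)
  have hβl : ∀ a a' b, β (a * a') b = β a b + β a' b := fun a a' b => by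
    show Multiplicative.toAdd (χ _) = Multiplicative.toAdd (χ _) + Multiplicative.toAdd (χ _)
    rw [← toAdd_mul, ← map_mul]
    exact congrArg (fun c => Multiplicative.toAdd (χ c))
      (Subtype.ext (Fusion.commutatorElement_mul_left_of_le_center hle a a' b))
  have hβr : ∀ a b b', β a (b * b') = β a b + β a b' := fun a b b' => by
    show Multiplicative.toAdd (χ _) = Multiplicative.toAdd (χ _) + Multiplicative.toAdd (χ _)
    rw [← toAdd_mul, ← map_mul]
    exact congrArg (fun c => Multiplicative.toAdd (χ c))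
      (Subtype.ext (Fusion.commutatorElement_mul_right_of_le_center hle a b b'))
  have hβ0 : ∀ a b, ⁅a, b⁆ = 1 ↔ β a b = 0 := fun a b => by
    show _ ↔ Multiplicative.toAdd (χ _) = 0
    rw [toAdd_eq_zero, map_eq_one_iff χ χ.injective, ← OneMemClass.coe_eq_one]
  have hβz : ∀ z ∈ Subgroup.center E, ∀ a, β z a = 0 ∧ β a z = 0 := fun z hz a =>
    ⟨(hβ0 z a).1 (commutatorElement_eq_one_iff_mul_comm.2 (Subgroup.mem_center_iff.1 hz a).symm),
      (hβ0 a z).1 (commutatorElement_eq_one_iff_mul_comm.2 (Subgroup.mem_center_iff.1 hz a))⟩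
  have hβc : ∀ {a a' b b'}, π a = π a' → π b = π b' → β a b = β a' b' := by
    intro a a' b b' ha hb
    conv_rhs => rw [← mul_inv_cancel_left a a', ← mul_inv_cancel_left b b']
    rw [hβl, hβr, (hβz _ (hπeq ha) _).1, (hβz _ (hπeq hb) a).2, add_zero, add_zero]
  let rep : V → E := Function.surjInv hsur
  have hrep : ∀ v, π (rep v) = v := Function.surjInv_eq hsur
  have haddr : ∀ v w w', β (rep v) (rep (w + w')) = β (rep v) (rep w) + β (rep v) (rep w') :=
    fun v w w' => by
      rw [← hβr]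
      exact hβc rfl (by rw [hπ, hrep, hrep, hrep])
  have haddl : ∀ v v' w, β (rep (v + v')) (rep w) = β (rep v) (rep w) + β (rep v') (rep w) :=
    fun v v' w => by
      rw [← hβl]
      exact hβc (by rw [hπ, hrep, hrep, hrep]) rfl
  let B : LinearMap.BilinForm (ZMod p) V :=
    LinearMap.mk₂ (ZMod p) (fun v w => β (rep v) (rep w)) haddl
      (fun c v w => ZMod.map_smul (AddMonoidHom.mk' (fun v => β (rep v) (rep w))
        fun v v' => haddl v v' w) c v)
      haddr
      (fun c v w => ZMod.map_smul (AddMonoidHom.mk' (fun w => β (rep v) (rep w))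
        fun w w' => haddr v w w') c w)
  have hBm : ∀ a b : E, B (π a) (π b) = β a b := fun a b => hβc (hrep _) (hrep _)
  have hφπ : ∀ {a b}, π a = π b → π (φ a) = π (φ b) := fun {a b} e => by
    have h1 := hπeq e
    have h2 : φ b = φ a * (a⁻¹ * b) := by
      rw [← hZ _ h1, ← map_mul, mul_inv_cancel_left]
    rw [h2, hπ, (hπ0 _).2 h1, add_zero]
  let T : Module.End (ZMod p) V :=
    AddMonoidHom.toZModLinearMap p (AddMonoidHom.mk' (fun v => π (φ (rep v))) fun v v' => by
      rw [← hπ, ← map_mul]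
      exact hφπ (by rw [hπ, hrep, hrep, hrep]))
  have hTi : ∀ (i : ℕ) (a : E), (T ^ i) (π a) = π ((φ ^ i) a) := by
    intro i
    induction i with
    | zero => intro a; rfl
    | succ i ih =>
      intro a
      rw [pow_succ', Module.End.mul_apply, ih, pow_succ', MulAut.mul_apply]
      exact hφπ (hrep _)
  have hT : T ^ h = 1 := LinearMap.ext fun v => by
    obtain ⟨a, rfl⟩ := hsur v
    rw [hTi, hφ]
    rfl
  have hfree' : ∀ i, 0 < i → i < h → ∀ v, (T ^ i) v = v → v = 0 := by
    intro i hi hih v hv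
    obtain ⟨a, rfl⟩ := hsur v
    rw [hTi] at hv
    exact (hπ0 a).2 (hfree i hi hih a (hπeq hv.symm))
  have hB : ∀ u v, B (T u) (T v) = B u v := by
    intro u v
    obtain ⟨a, rfl⟩ := hsur u
    obtain ⟨b, rfl⟩ := hsur v
    rw [← pow_one T, hTi, hTi, pow_one, hBm, hBm]
    refine congrArg (fun c => Multiplicative.toAdd (χ c)) (Subtype.ext ?_)
    show ⁅φ a, φ b⁆ = ⁅a, b⁆
    rw [← map_commutatorElement]
    exact hZ _ (Fusion.es_commutator_mem hE a b)
  have halt : ∀ v, B v v = 0 := fun v => by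
    obtain ⟨a, rfl⟩ := hsur v
    rw [hBm]
    exact (hβ0 a a).1 (commutatorElement_self a)
  have hnd : B.Nondegenerate := by
    refine (LinearMap.IsRefl.nondegenerate_iff_separatingLeft (LinearMap.IsAlt.isRefl halt)).2 ?_
    intro v hv
    obtain ⟨a, rfl⟩ := hsur v
    refine (hπ0 a).2 (Subgroup.mem_center_iff.2 fun b => ?_)
    have h1 := hv (π b)
    rw [hBm, ← hβ0] at h1
    exact (commutatorElement_eq_one_iff_mul_comm.1 h1).symm
  refine SympAct.pow_half_eq T hh hT hfree' B hB hnd halt ?_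
  have hker : πh.ker = Subgroup.center E := Subgroup.ext fun a => hπ0 a
  have h2 := (Subgroup.center E).card_mul_index
  rw [← hker, Subgroup.index_ker, MonoidHom.range_eq_top.2
    (fun v => (hsur (Multiplicative.toAdd v)).imp fun a ha => congrArg Multiplicative.ofAdd ha),
    Subgroup.card_top, Nat.card_congr Multiplicative.toAdd, hker, hn, hE.2, pow_succ'] at h2
  have h1 := Nat.eq_of_mul_eq_mul_left hp.out.pos h2
  rw [Module.natCard_eq_pow_finrank (K := ZMod p) (V := V), Nat.card_zmod] at h1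
  exact Nat.pow_right_injective hp.out.two_le h1

theorem aux {E : Type*} [Group E] [Finite E] {p : ℕ} [hp : Fact p.Prime] (hE : Cfsg.IsExtraspecial p E)
    (φ : MulAut E) {h : ℕ} (hh : 0 < h) (hφ : φ ^ h = 1) (hZ : ∀ z ∈ Subgroup.center E, φ z = z)
    (hfree : ∀ i, 0 < i → i < h → ∀ a, a⁻¹ * (φ ^ i) a ∈ Subgroup.center E → a ∈ Subgroup.center E)
    (n : ℕ) (hn : Nat.card E = p ^ (2 * n + 1)) :
    (p : ZMod h) ^ n = 1 ∨ (p : ZMod h) ^ n = -1 := by
  letI : CommGroup (E ⧸ Subgroup.center E) :=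
    { mul_comm := fun a b => by
        obtain ⟨x, rfl⟩ := QuotientGroup.mk_surjective a
        obtain ⟨y, rfl⟩ := QuotientGroup.mk_surjective b
        rw [← QuotientGroup.mk_mul, ← QuotientGroup.mk_mul, QuotientGroup.eq]
        have := Fusion.es_commutator_mem hE y⁻¹ x⁻¹
        rw [commutatorElement_def, inv_inv, inv_inv] at this
        simpa [mul_assoc] using this }
  letI : Module (ZMod p) (Additive (E ⧸ Subgroup.center E)) := AddCommGroup.zmodModule fun x => by
    obtain ⟨a, ha⟩ := QuotientGroup.mk_surjective (Additive.toMul x)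
    apply Additive.toMul.injective
    rw [toMul_nsmul, toMul_zero, ← ha, ← QuotientGroup.mk_pow, QuotientGroup.eq_one_iff]
    exact Fusion.es_pow_mem_center hE a
  exact aux_core hE (fun a => Additive.ofMul (a : E ⧸ Subgroup.center E))
    (fun v => (QuotientGroup.mk_surjective (Additive.toMul v)).imp fun a ha => congrArg Additive.ofMul ha)
    (fun a b => congrArg Additive.ofMul (QuotientGroup.mk_mul _ a b))
    (fun a => QuotientGroup.eq_one_iff a) φ hh hφ hZ hfree n hn

/-- Let P be an extraspecial p-group of order p^(2n+1) and H a cyclic group of order h prime to p acting on P (inside a common finite group: H normalizes P) so that C_P(x) = Z(P) for every non-identity x ∈ H. Then h divides p^n + 1 or h divides p^n − 1. -/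
theorem result {G : Type*} [Group G] [Finite G] {p : ℕ} [Fact p.Prime] (P H : Subgroup G) (hP : Cfsg.IsExtraspecial p ↥P) (n : ℕ) (hn : Nat.card P = p ^ (2 * n + 1)) (hH : IsCyclic H) (hcop : (Nat.card H).Coprime p) (hHP : H ≤ Subgroup.normalizer (P : Set G)) (hfix : ∀ x ∈ H, x ≠ 1 → P ⊓ Subgroup.centralizer {x} = (Subgroup.center ↥P).map P.subtype) : Nat.card H ∣ p ^ n + 1 ∨ Nat.card H ∣ p ^ n - 1 := by
  obtain ⟨x, hx⟩ := isCyclic_iff_exists_zpowers_eq_top.1 hH
  have hord : orderOf x = Nat.card H := by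
    rw [← Nat.card_zpowers, hx, Subgroup.card_top]
  set h := Nat.card H with hhdef
  have hh : 0 < h := Nat.card_pos
  have hnorm : ∀ g ∈ Subgroup.normalizer (P : Set G), ∀ a ∈ P, g * a * g⁻¹ ∈ P :=
    fun g hg a ha => (Subgroup.mem_normalizer_iff.1 hg a).1 ha
  let φ : MulAut P :=
    { toFun := fun a => ⟨(x : G) * a * (x : G)⁻¹, hnorm _ (hHP x.2) a a.2⟩
      invFun := fun a => ⟨(x : G)⁻¹ * a * ((x : G)⁻¹)⁻¹, hnorm _ (inv_mem (hHP x.2)) a a.2⟩
      left_inv := fun a => Subtype.ext (by simp [mul_assoc])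
      right_inv := fun a => Subtype.ext (by simp [mul_assoc])
      map_mul' := fun a b => Subtype.ext (by simp [mul_assoc]) }
  have hφi : ∀ (i : ℕ) (a : P), (((φ ^ i) a : P) : G) = (x : G) ^ i * a * ((x : G) ^ i)⁻¹ := by
    intro i
    induction i with
    | zero => intro a; simp
    | succ i ih =>
      intro a
      rw [pow_succ', MulAut.mul_apply]
      show (x : G) * (((φ ^ i) a : P) : G) * (x : G)⁻¹ = _
      rw [ih, pow_succ']
      group
  have hxh : (x : G) ^ h = 1 := by
    rw [← Subgroup.coe_pow, ← hord, pow_orderOf_eq_one, OneMemClass.coe_one]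
  have hφh : φ ^ h = 1 := MulEquiv.ext fun a => Subtype.ext (by rw [hφi, hxh]; simp)
  have hzfix : ∀ i, ∀ z ∈ Subgroup.center P, (φ ^ i) z = z := by
    intro i z hz
    refine Subtype.ext ?_
    rw [hφi]
    by_cases hxi : x ^ i = 1
    · rw [← Subgroup.coe_pow, hxi]; simp
    · have hmem : (z : G) ∈ P ⊓ Subgroup.centralizer {((x ^ i : H) : G)} := by
        rw [hfix _ (x ^ i).2 (fun e => hxi (Subtype.ext e))]
        exact Subgroup.mem_map_of_mem _ hz
      have h1 : (z : G) * (x : G) ^ i = (x : G) ^ i * (z : G) :=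
        Subgroup.mem_centralizer_singleton_iff.1 (Subgroup.mem_inf.1 hmem).2
      rw [← h1, mul_inv_cancel_right]
  have hfree : ∀ i, 0 < i → i < h → ∀ a : P, a⁻¹ * (φ ^ i) a ∈ Subgroup.center P →
      a ∈ Subgroup.center P := by
    intro i hi hih a hc
    set c := a⁻¹ * (φ ^ i) a with hcdef
    have hk : ∀ k : ℕ, (φ ^ (i * k)) a = a * c ^ k := by
      intro k
      induction k with
      | zero => simp
      | succ k ih =>
        rw [Nat.mul_succ, add_comm, pow_add, MulAut.mul_apply, ih, map_mul, map_pow, hzfix i c hc,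
          show (φ ^ i) a = a * c by rw [hcdef, mul_inv_cancel_left], pow_succ', mul_assoc]
    have hch : c ^ h = 1 := by
      have h2 := hk h
      rw [mul_comm i h, pow_mul, hφh, one_pow, MulAut.one_apply] at h2
      exact mul_left_cancel (a := a) (by rw [mul_one, ← h2])
    have hc1 : c = 1 := by
      have h1 : orderOf c ∣ Nat.gcd h p := Nat.dvd_gcd (orderOf_dvd_of_pow_eq_one hch)
        (orderOf_dvd_of_pow_eq_one (Fusion.es_center_pow hP hc))
      rw [Nat.Coprime.gcd_eq_one hcop, Nat.dvd_one] at h1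
      exact orderOf_eq_one_iff.1 h1
    have hfa : (φ ^ i) a = a := by
      rw [show (φ ^ i) a = a * c by rw [hcdef, mul_inv_cancel_left], hc1, mul_one]
    have hxi : x ^ i ≠ 1 := fun e =>
      Nat.not_dvd_of_pos_of_lt hi (hord ▸ hih) (orderOf_dvd_of_pow_eq_one e)
    have hmem : (a : G) ∈ P ⊓ Subgroup.centralizer {((x ^ i : H) : G)} := by
      refine Subgroup.mem_inf.2 ⟨a.2, Subgroup.mem_centralizer_singleton_iff.2 ?_⟩
      have h3 := congrArg Subtype.val hfa
      rw [hφi, mul_inv_eq_iff_eq_mul] at h3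
      rw [Subgroup.coe_pow]
      exact h3.symm
    rw [hfix _ (x ^ i).2 (fun e => hxi (Subtype.ext e))] at hmem
    obtain ⟨b, hb, hba⟩ := hmem
    rwa [← Subtype.ext (hba : (b : G) = (a : G))]
  rcases aux hP φ hh hφh (fun z hz => by simpa using hzfix 1 z hz) hfree n hn with h1 | h1
  · right
    rw [← ZMod.natCast_eq_zero_iff, Nat.cast_sub (Nat.one_le_pow _ _ (Fact.out : p.Prime).pos),
      Nat.cast_pow, h1, Nat.cast_one, sub_self]
  · left
    rw [← ZMod.natCast_eq_zero_iff, Nat.cast_add, Nat.cast_pow, h1, Nat.cast_one, neg_add_cancel]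

end Cfsg.Agent.S3767
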