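import Cfsg.Statements.S3768
import Cfsg.Agent.S0039
import Cfsg.Agent.Core.FrobeniusGroup

set_option autoImplicit false
open Cfsg

namespace Cfsg.Agent.S3768

set_option maxHeartbeats 400000
open Subgroup
open scoped Pointwise

/-- Let G be a finite Frobenius group with Frobenius complement R and Frobenius kernel K (the identity together with the elements in no conjugate of R), and let N be a normal subgroup of G not containing K. Then G/N is a Frobenius group with Frobenius complement RN/N whose Frobenius kernel is the image of K. -/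
theorem result {G : Type*} [Group G] [Finite G] (R : Subgroup G) (hR : Cfsg.IsFrobeniusComplement R) (N : Subgroup G) [N.Normal] (hKN : ¬ Cfsg.frobeniusKernel R ⊆ N) : Cfsg.IsFrobeniusComplement (R.map (QuotientGroup.mk' N)) ∧ Cfsg.frobeniusKernel (R.map (QuotientGroup.mk' N)) = QuotientGroup.mk' N '' Cfsg.frobeniusKernel R := by
  set f := QuotientGroup.mk' N with hf
  have hfs : Function.Surjective f := QuotientGroup.mk'_surjective N
  have hker : ∀ x : G, f x = 1 ↔ x ∈ N := fun x => QuotientGroup.eq_one_iff x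
  obtain ⟨K, hKset, hKn, hc⟩ := Core.exists_frobeniusKernel hR
  haveI := hKn
  have hKmem : ∀ x : G, x ∈ K ↔ x ∈ Cfsg.frobeniusKernel R := fun x => Set.ext_iff.mp hKset x
  have hKN' : ¬ K ≤ N := fun h => hKN (fun x hx => h ((hKmem x).mpr hx))
  have hK1 : K ≠ ⊥ := fun e => hKN' (e ▸ bot_le)
  have hfree := (S0039.result K R hc hK1 hR.1).mp hR
  -- for `r ≠ 1` in `R` the map `k ↦ k⁻¹ r k r⁻¹` is injective on `K`
  have hinj : ∀ r ∈ R, r ≠ 1 → ∀ a ∈ K, ∀ b ∈ K,
      a⁻¹ * r * a * r⁻¹ = b⁻¹ * r * b * r⁻¹ → a = b := by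
    intro r hr hr1 a ha b hb hab
    have h1 : a * b⁻¹ ∈ K ⊓ centralizer {r} := mem_inf.mpr ⟨mul_mem ha (inv_mem hb), by
      rw [mem_centralizer_singleton_iff]
      calc a * b⁻¹ * r = a * (b⁻¹ * r * b * r⁻¹) * r * b⁻¹ := by group
        _ = a * (a⁻¹ * r * a * r⁻¹) * r * b⁻¹ := by rw [hab]
        _ = r * (a * b⁻¹) := by group⟩
    rw [hfree r hr hr1, mem_bot, mul_inv_eq_one] at h1
    exact h1
  have hNK : N ≤ K := by
    intro n hn
    by_contra hnK
    rw [hKmem, Core.mem_frobeniusKernel_iff, not_or, not_forall] at hnK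
    obtain ⟨hn1, x, hx⟩ := hnK
    rw [not_not] at hx
    set r := x⁻¹ * n * x with hr
    have hrN : r ∈ N := by
      have := (inferInstance : N.Normal).conj_mem n hn x⁻¹
      rwa [inv_inv] at this
    have hr1 : r ≠ 1 := fun e => hn1 (by
      have h2 := congrArg (fun t => x * t * x⁻¹) e
      simpa [hr, mul_assoc] using h2)
    refine hKN' fun k hk => ?_
    let φ : K → K := fun a => ⟨(a : G)⁻¹ * r * a * r⁻¹, by
      rw [show (a : G)⁻¹ * r * a * r⁻¹ = (a : G)⁻¹ * (r * a * r⁻¹) by group]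
      exact mul_mem (inv_mem a.2) (hKn.conj_mem _ a.2 r)⟩
    obtain ⟨a, ha⟩ := Finite.surjective_of_injective (f := φ)
      (fun a b hab => Subtype.ext (hinj r hx hr1 a a.2 b b.2 (congrArg Subtype.val hab))) ⟨k, hk⟩
    rw [show k = (a : G)⁻¹ * r * a * r⁻¹ from (congrArg Subtype.val ha).symm]
    have h3 := (inferInstance : N.Normal).conj_mem r hrN (a : G)⁻¹
    rw [inv_inv] at h3
    exact mul_mem h3 (inv_mem hrN)
  have hdisj : ∀ x : G, f x ∈ K.map f → x ∈ K := by
    rintro x ⟨k, hk, hkx⟩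
    have h1 : f (k⁻¹ * x) = 1 := by rw [map_mul, map_inv, hkx, inv_mul_cancel]
    have := mul_mem hk (hNK ((hker _).mp h1))
    rwa [mul_inv_cancel_left] at this
  haveI : (K.map f).Normal := hKn.map f hfs
  have hinf : K.map f ⊓ R.map f = ⊥ := by
    rw [eq_bot_iff]
    intro y hy
    obtain ⟨hy1, r, hr, rfl⟩ := mem_inf.mp hy
    have h1 : r ∈ K ⊓ R := mem_inf.mpr ⟨hdisj r hy1, hr⟩
    rw [disjoint_iff.mp hc.disjoint, mem_bot] at h1
    rw [h1, map_one]
    exact one_mem _
  have hsup : K.map f ⊔ R.map f = ⊤ := by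
    rw [← Subgroup.map_sup, hc.sup_eq_top, map_top_of_surjective f hfs]
  have hc' : IsComplement' (K.map f) (R.map f) := isComplement'_of_disjoint_and_mul_eq_univ
    (disjoint_iff.mpr hinf) (by rw [← normal_mul, hsup, coe_top])
  have hK'1 : K.map f ≠ ⊥ := fun e => hKN' fun k hk => (hker k).mp (by
    have h1 : f k ∈ K.map f := mem_map_of_mem f hk
    rwa [e, mem_bot] at h1)
  have hR'1 : R.map f ≠ ⊥ := fun e => hR.1 (eq_bot_iff.mpr fun r hr => by
    have h1 : f r ∈ R.map f := mem_map_of_mem f hr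
    rw [e, mem_bot, hker] at h1
    have h2 : r ∈ K ⊓ R := mem_inf.mpr ⟨hNK h1, hr⟩
    rw [disjoint_iff.mp hc.disjoint] at h2
    exact h2)
  have hR' : Cfsg.IsFrobeniusComplement (R.map f) := by
    rw [S0039.result (K.map f) (R.map f) hc' hK'1 hR'1]
    rintro _ ⟨r, hr, rfl⟩ hfr
    have hr1 : r ≠ 1 := fun e => hfr (by rw [e, map_one])
    rw [eq_bot_iff]
    intro y hy
    obtain ⟨⟨k, hk, rfl⟩, hy2⟩ := mem_inf.mp hy
    rw [mem_centralizer_singleton_iff] at hy2
    let φ : N → N := fun a => ⟨(a : G)⁻¹ * r * a * r⁻¹, by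
      rw [show (a : G)⁻¹ * r * a * r⁻¹ = (a : G)⁻¹ * (r * a * r⁻¹) by group]
      exact mul_mem (inv_mem a.2) ((inferInstance : N.Normal).conj_mem _ a.2 r)⟩
    have hkN : k⁻¹ * r * k * r⁻¹ ∈ N := by
      rw [← hker, map_mul, map_mul, map_mul, map_inv, map_inv]
      rw [mul_inv_eq_one, mul_assoc, inv_mul_eq_iff_eq_mul]
      exact hy2.symm
    obtain ⟨a, ha⟩ := Finite.surjective_of_injective (f := φ)
      (fun a b hab => Subtype.ext (hinj r hr hr1 a (hNK a.2) b (hNK b.2) (congrArg Subtype.val hab)))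
      ⟨_, hkN⟩
    have := hinj r hr hr1 a (hNK a.2) k hk (congrArg Subtype.val ha)
    exact mem_bot.mpr ((hker k).mpr (this ▸ a.2))
  refine ⟨hR', ?_⟩
  obtain ⟨K', hK'set, hK'n, hc''⟩ := Core.exists_frobeniusKernel hR'
  have hle : K.map f ≤ K' := by
    intro y hy
    rw [← SetLike.mem_coe, hK'set, Core.mem_frobeniusKernel_iff]
    refine or_iff_not_imp_left.mpr fun hy1 x hx => hy1 ?_
    have h1 : x⁻¹ * y * x ∈ K.map f ⊓ R.map f := mem_inf.mpr ⟨by
      simpa using (inferInstance : (K.map f).Normal).conj_mem y hy x⁻¹, hx⟩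
    rw [hinf, mem_bot] at h1
    have h2 := congrArg (fun t => x * t * x⁻¹) h1
    simpa [mul_assoc] using h2
  have heq : K.map f = K' := eq_of_le_of_card_ge hle
    (le_of_eq (Nat.eq_of_mul_eq_mul_right Nat.card_pos (hc''.card_mul.trans hc'.card_mul.symm)))
  rw [← hK'set, ← heq, ← hKset, coe_map]

end Cfsg.Agent.S3768
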