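import Cfsg.Statements.S3769
import Cfsg.Agent.CoprimeFixed.Main
import Cfsg.Agent.Coprime.Basic

set_option autoImplicit false
open Cfsg

namespace Cfsg.Agent.S3769

/-- Let G and V be subgroups of a finite group with G solvable of odd order normalizing V, V an elementary abelian ℓ-group for a prime ℓ not dividing the order of G, and suppose G has a normal Hall subgroup K with a complement R of prime order. If C_V(R) = 1, then [R, K] centralizes V. -/
theorem result {X : Type*} [Group X] [Finite X] (G : Subgroup X) (hsolv : Group.IsSolvable G) (hodd : Odd (Nat.card G)) (V : Subgroup X) {ℓ : ℕ} (hℓ : ℓ.Prime) (hV : Cfsg.IsElementaryAbelian ℓ V) (hℓG : ¬ ℓ ∣ Nat.card G) (hGV : G ≤ Subgroup.normalizer (V : Set X)) (K R : Subgroup X) (hKG : K ≤ G) (hKn : G ≤ Subgroup.normalizer (K : Set X)) (hHall : (Nat.card K).Coprime (K.relIndex G)) (hRG : R ≤ G) (hR : (Nat.card R).Prime) (hKR : K ⊓ R = ⊥) (hKRG : K ⊔ R = G) (hCV : V ⊓ Subgroup.centralizer (R : Set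 X) = ⊥) : ⁅R, K⁆ ≤ Subgroup.centralizer (V : Set X) := by
  classical
  haveI := Fact.mk hℓ
  set r := Nat.card R
  haveI := Fact.mk hR
  set M := Subgroup.normalizer (V : Set X)
  obtain ⟨W, _, _, _, ρ, e, hadd, hconj⟩ := CoprimeFixed.exists_rep V hV
  haveI : IsCyclic R := isCyclic_of_prime_card (p := r) rfl
  obtain ⟨⟨x₀, hx₀⟩, hgen⟩ := IsCyclic.exists_generator (α := R)
  have hxr : x₀ ^ r = 1 := congrArg Subtype.val (pow_card_eq_one' (x := (⟨x₀, hx₀⟩ : R)))
  have hcentR : ∀ a : X, Commute x₀ a → a ∈ Subgroup.centralizer (R : Set X) := fun a ha => by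
    refine Subgroup.mem_centralizer_iff.mpr fun y hy => ?_
    obtain ⟨n, hn⟩ := Subgroup.mem_zpowers_iff.mp (hgen ⟨y, hy⟩)
    rw [← show x₀ ^ n = y from congrArg Subtype.val hn]
    exact (ha.zpow_left n).eq
  set x : M := ⟨x₀, hGV (hRG hx₀)⟩
  have hN : ∑ i ∈ Finset.range r, ρ (x ^ i) = 0 :=
    CoprimeFixed.sum_pow_eq_zero ρ (Subtype.ext hxr) fun w hw => by
      have h1 : (e w : X) ∈ V ⊓ Subgroup.centralizer (R : Set X) :=
        ⟨(e w).2, hcentR _ ((CoprimeFixed.model_fixed_iff hconj x w).mp hw)⟩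
      rw [hCV, Subgroup.mem_bot, ← CoprimeFixed.model_zero hadd] at h1
      exact e.injective (Subtype.ext h1)
  have hRK : R ≤ Subgroup.normalizer (K : Set X) := hRG.trans hKn
  have hG : Nat.card G = Nat.card K * r := by rw [← hKRG, Coprime.card_sup_eq_mul hRK hKR]
  have hcop : (Nat.card R).Coprime (Nat.card K) := by
    have h := (K.subgroupOf G).card_mul_index
    rw [Nat.card_congr (Subgroup.subgroupOfEquivOfLe hKG).toEquiv, hG] at h
    have : K.relIndex G = r := Nat.eq_of_mul_eq_mul_left Nat.card_pos h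
    exact (this ▸ hHall).symm
  let Φ : Subgroup M :=
    { carrier := {a | Commute (ρ x) (ρ a)}
      one_mem' := by simp
      mul_mem' := fun {a b} (ha : Commute (ρ x) (ρ a)) (hb : Commute (ρ x) (ρ b)) =>
        show Commute (ρ x) (ρ (a * b)) from (map_mul ρ a b).symm ▸ ha.mul_right hb
      inv_mem' := fun {a} (ha : Commute (ρ x) (ρ a)) => by
        show Commute (ρ x) (ρ a⁻¹)
        have h1 : ρ a * ρ a⁻¹ = 1 := by rw [← map_mul, mul_inv_cancel, map_one]
        have h2 : ρ a⁻¹ * ρ a = 1 := by rw [← map_mul, inv_mul_cancel, map_one]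
        calc ρ x * ρ a⁻¹ = (ρ a⁻¹ * ρ a) * ρ x * ρ a⁻¹ := by rw [h2, one_mul]
          _ = ρ a⁻¹ * (ρ x * ρ a) * ρ a⁻¹ := by rw [mul_assoc (ρ a⁻¹), ← ha.eq]
          _ = ρ a⁻¹ * ρ x := by rw [mul_assoc, mul_assoc, h1, mul_one] }
  have hKΦ : K.subgroupOf M ≤ Φ := by
    have hKM : K ≤ M := hKG.trans hGV
    rw [← Subgroup.relIndex_eq_one]
    by_contra hne
    obtain ⟨q, hq, hqd⟩ := Nat.exists_prime_and_dvd hne
    haveI := Fact.mk hq
    have hqK : q ∣ Nat.card K := by
      refine hqd.trans ?_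
      rw [← Nat.card_congr (Subgroup.subgroupOfEquivOfLe hKM).toEquiv]
      exact Subgroup.index_dvd_card _
    have hqℓ : q ≠ ℓ := fun h => hℓG (h ▸ hqK.trans (Dvd.intro _ hG.symm))
    have hq2 : q ≠ 2 := fun h => by
      subst h
      exact (Nat.not_even_iff_odd.mpr hodd) (even_iff_two_dvd.mpr (hqK.trans (Dvd.intro _ hG.symm)))
    have hqr : q ≠ r := fun h => hR.ne_one (Nat.eq_one_of_dvd_coprimes hcop dvd_rfl (h ▸ hqK))
    have hrℓ : r ≠ ℓ := fun h => hℓG (h ▸ Dvd.intro_left _ hG.symm)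
    obtain ⟨P, hP⟩ := Coprime.exists_invariant_sylow hRK hcop (Or.inr (Coprime.isSolvable_of_le hKG hsolv)) q
    set Pm : Subgroup M := ((P : Subgroup K).map K.subtype).subgroupOf M
    have hPΦ : Pm ≤ Φ ⊓ K.subgroupOf M := fun a ha => ⟨by
      show Commute (ρ x) (ρ a)
      have h := CoprimeFixed.commute_of_fpf ρ Pm x hq hR hqℓ hrℓ hqr hq2 (P.2.map K.subtype).comap_subtype
        (Subtype.ext hxr) hN
        (fun b hb => Subgroup.mem_subgroupOf.mpr ((Subgroup.mem_normalizer_iff.mp (hP hx₀) b).mp hb)) ha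
      rw [map_mul, map_mul] at h
      exact h, Subgroup.mem_subgroupOf.mpr (Subgroup.map_subtype_le _ (Subgroup.mem_subgroupOf.mp ha))⟩
    have hcardP : Nat.card Pm = q ^ (Nat.card K).factorization q := by
      rw [Nat.card_congr (Subgroup.subgroupOfEquivOfLe ((Subgroup.map_subtype_le _).trans hKM)).toEquiv,
        Subgroup.card_map_of_injective K.subtype_injective, P.card_eq_multiplicity]
    have h1 := (Φ.subgroupOf (K.subgroupOf M)).card_mul_index
    rw [Nat.card_congr (Subgroup.subgroupOfEquivOfLe hKM).toEquiv] at h1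
    have h2 : Nat.card Pm ∣ Nat.card (Φ.subgroupOf (K.subgroupOf M)) := by
      have h3 : Pm.subgroupOf (K.subgroupOf M) ≤ Φ.subgroupOf (K.subgroupOf M) :=
        fun b hb => (hPΦ hb).1
      have h4 := Subgroup.card_dvd_of_le h3
      rwa [Nat.card_congr (Subgroup.subgroupOfEquivOfLe (fun b hb => (hPΦ hb).2)).toEquiv] at h4
    have h5 : q ^ ((Nat.card K).factorization q + 1) ∣ Nat.card K := by
      rw [pow_succ]
      conv_rhs => rw [← h1]
      exact Nat.mul_dvd_mul (hcardP ▸ h2) hqd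
    exact Nat.pow_succ_factorization_not_dvd Nat.card_pos.ne' hq h5
  rw [Subgroup.commutator_le]
  intro y hy a ha
  obtain ⟨n, hn⟩ := (isOfFinOrder_of_finite x₀).mem_powers_iff_mem_zpowers.mpr
    (show y ∈ Subgroup.zpowers x₀ by
      obtain ⟨k, hk⟩ := Subgroup.mem_zpowers_iff.mp (hgen ⟨y, hy⟩)
      exact ⟨k, congrArg Subtype.val hk⟩)
  set a' : M := ⟨a, hGV (hKG ha)⟩
  have hc : Commute (ρ x) (ρ a') := hKΦ (show a' ∈ K.subgroupOf M from ha)
  have h1 : ρ (x ^ n * a' * (x ^ n)⁻¹ * a'⁻¹) = 1 := by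
    have h2 : ρ (x ^ n * a') = ρ (a' * x ^ n) := by
      rw [map_mul, map_mul, map_pow]; exact (hc.pow_left n).eq
    rw [mul_assoc (x ^ n * a'), map_mul, h2, ← map_mul, ← mul_inv_rev, mul_inv_cancel, map_one]
  have h2 := (CoprimeFixed.model_eq_one_iff hconj _).mp h1
  rw [commutatorElement_def, ← hn]
  simpa [x, a'] using h2

end Cfsg.Agent.S3769
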