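import Cfsg.Statements.S3770
import Cfsg.Agent.CoprimeFixed.Main
import Cfsg.Agent.Core.FrobeniusGroup
import Cfsg.Agent.Coherence.ThompsonFPF

set_option autoImplicit false
open Cfsg

namespace Cfsg.Agent.S3770
open scoped TensorProduct

/-- Let G and V be subgroups of a finite group with G a Frobenius group with complement R of prime order and kernel K, G normalizing V, and V an elementary abelian ℓ-group for a prime ℓ not dividing the order of G. If C_V(R) has order ℓ, then the derived subgroup of K centralizes V. -/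
theorem result {X : Type*} [Group X] [Finite X] (G : Subgroup X) (V : Subgroup X) {ℓ : ℕ} (hℓ : ℓ.Prime) (hV : Cfsg.IsElementaryAbelian ℓ V) (hℓG : ¬ ℓ ∣ Nat.card G) (hGV : G ≤ Subgroup.normalizer (V : Set X)) (R : Subgroup ↥G) (hR : Cfsg.IsFrobeniusComplement R) (hRp : (Nat.card R).Prime) (hCV : Nat.card ↥(V ⊓ Subgroup.centralizer ((R.map G.subtype : Subgroup X) : Set X)) = ℓ) : ⁅Subgroup.closure (Subtype.val '' Cfsg.frobeniusKernel R), Subgroup.closure (Subtype.val '' Cfsg.frobeniusKernel R)⁆ ≤ Subgroup.centralizer (V : Set X) := by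
  classical
  haveI := Fact.mk hℓ
  set r := Nat.card R with hrdef
  haveI := Fact.mk hRp
  obtain ⟨N, hNset, hNn, hNc⟩ := Core.exists_frobeniusKernel hR
  have hclosure : Subgroup.closure (Subtype.val '' Cfsg.frobeniusKernel R) = N.map G.subtype := by
    rw [← hNset, show Subtype.val '' (N : Set G) = ((N.map G.subtype : Subgroup X) : Set X) from rfl,
      Subgroup.closure_eq]
  rw [hclosure, ← Subgroup.map_commutator]
  obtain ⟨W, _, _, _, ρ₀, e, hadd, hconj⟩ := CoprimeFixed.exists_rep V hV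
  let ρ : G →* Module.End (CoprimeFixed.Kp ℓ) (TensorProduct (ZMod ℓ) (CoprimeFixed.Kp ℓ) W) :=
    ((Module.End.baseChangeHom (ZMod ℓ) (CoprimeFixed.Kp ℓ) W).toMonoidHom.comp ρ₀).comp (Subgroup.inclusion hGV)
  haveI : IsCyclic R := isCyclic_of_prime_card (p := r) rfl
  obtain ⟨⟨x, hx⟩, hgen⟩ := IsCyclic.exists_generator (α := R)
  have hxr : x ^ r = 1 := congrArg Subtype.val (pow_card_eq_one' (x := (⟨x, hx⟩ : R)))
  have hx1 : x ≠ 1 := by
    intro h
    refine hR.1 ((Subgroup.eq_bot_iff_forall _).mpr fun y hy => ?_)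
    obtain ⟨n, hn⟩ := Subgroup.mem_zpowers_iff.mp (hgen ⟨y, hy⟩)
    rw [← show x ^ n = y from congrArg Subtype.val hn, h, one_zpow]
  have hfpf : ∀ a ∈ N, x * a * x⁻¹ = a → a = 1 := by
    intro a ha hfix
    by_contra ha1
    by_cases haR : a ∈ R
    · exact ha1 (Subgroup.mem_bot.mp (hNc.disjoint.le_bot ⟨ha, haR⟩))
    · have h1 : a * x * a⁻¹ = x := mul_inv_eq_iff_eq_mul.mpr (mul_inv_eq_iff_eq_mul.mp hfix).symm
      exact hx1 (Core.malnormal_of_isFrobeniusComplement hR a haR x hx (by rwa [h1]))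
  have hnil : Group.IsNilpotent N := Coherence.isNilpotent_of_fpf_prime hRp hxr
    (Subgroup.mem_normalizer_iff.mpr fun a => ⟨fun ha => hNn.conj_mem a ha x,
      fun ha => by simpa [mul_assoc] using hNn.conj_mem _ ha x⁻¹⟩)
    (eq_bot_iff.mpr fun a ha => Subgroup.mem_bot.mpr (hfpf a ha.1 (mul_inv_eq_iff_eq_mul.mpr
      (Subgroup.mem_centralizer_singleton_iff.mp ha.2).symm)))
  have hcast : ∀ n : ℕ, n ∣ Nat.card G → (n : CoprimeFixed.Kp ℓ) ≠ 0 := fun n hn h => hℓG
    (((CharP.cast_eq_zero_iff (CoprimeFixed.Kp ℓ) ℓ n).mp h).trans hn)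
  -- the fixed line
  obtain ⟨v₀, hv₀⟩ : ∃ v₀ : W, ∀ w, ρ₀ (Subgroup.inclusion hGV x) w = w → ∃ t : ZMod ℓ, w = t • v₀ := by
    let F : Submodule (ZMod ℓ) W := LinearMap.ker (ρ₀ (Subgroup.inclusion hGV x) - 1)
    let f : F → ↥(V ⊓ Subgroup.centralizer ((R.map G.subtype : Subgroup X) : Set X)) := fun w =>
      ⟨(e w : X), (e w).2, Subgroup.mem_centralizer_iff.mpr (by
        rintro _ ⟨y, hy, rfl⟩
        obtain ⟨n, hn⟩ := Subgroup.mem_zpowers_iff.mp (hgen ⟨y, hy⟩)
        rw [← show x ^ n = y from congrArg Subtype.val hn]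
        have h0 : ρ₀ (Subgroup.inclusion hGV x) (w : W) = w := by
          have := LinearMap.mem_ker.mp w.2
          rwa [LinearMap.sub_apply, Module.End.one_apply, sub_eq_zero] at this
        have h1 : Commute (x : X) (e w : X) := (CoprimeFixed.model_fixed_iff hconj _ _).mp h0
        simpa using (h1.zpow_left n).eq)⟩
    have hf : Function.Injective f := fun a b h => by
      have h1 : ((f a : ↥(V ⊓ Subgroup.centralizer ((R.map G.subtype : Subgroup X) : Set X))) : X) = f b := by rw [h]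
      exact Subtype.ext (e.injective (Subtype.ext h1))
    have h1 := Nat.card_le_card_of_injective f hf
    rw [hCV, Module.natCard_eq_pow_finrank (K := ZMod ℓ), Nat.card_zmod] at h1
    have h2 : Module.finrank (ZMod ℓ) F ≤ 1 := (Nat.pow_le_pow_iff_right hℓ.one_lt).mp (by rwa [pow_one])
    obtain ⟨v, hv⟩ := finrank_le_one_iff.mp h2
    refine ⟨(v : W), fun w hw => ?_⟩
    obtain ⟨t, ht⟩ := hv ⟨w, by rw [LinearMap.mem_ker, LinearMap.sub_apply, Module.End.one_apply, sub_eq_zero]; exact hw⟩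
    exact ⟨t, (congrArg Subtype.val ht).symm⟩
  have hline : Module.finrank (CoprimeFixed.Kp ℓ) (LinearMap.ker (ρ x - 1) :
      Submodule (CoprimeFixed.Kp ℓ) (TensorProduct (ZMod ℓ) (CoprimeFixed.Kp ℓ) W)) ≤ 1 := by
    set S0 : Module.End (ZMod ℓ) W := ∑ i ∈ Finset.range r, ρ₀ (Subgroup.inclusion hGV x ^ i) with hS0
    have hrange : ∀ t, (Module.End.baseChangeHom (ZMod ℓ) (CoprimeFixed.Kp ℓ) W S0) t ∈
        Submodule.span (CoprimeFixed.Kp ℓ) {(1 : CoprimeFixed.Kp ℓ) ⊗ₜ[ZMod ℓ] v₀} := by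
      intro t
      induction t using TensorProduct.induction_on with
      | zero => rw [map_zero]; exact zero_mem _
      | tmul a w =>
        change a ⊗ₜ[ZMod ℓ] S0 w ∈ _
        obtain ⟨c, hc⟩ := hv₀ (S0 w) (CoprimeFixed.apply_sum_pow ρ₀ (by rw [← map_pow, hxr, map_one]) w)
        rw [hc, TensorProduct.tmul_smul, Submodule.mem_span_singleton]
        refine ⟨c • a, ?_⟩
        rw [TensorProduct.smul_tmul', TensorProduct.smul_tmul', smul_eq_mul, mul_one]
      | add s t hs ht => rw [map_add]; exact add_mem hs ht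
    refine le_trans (Submodule.finrank_mono (t := Submodule.span (CoprimeFixed.Kp ℓ)
      {(1 : CoprimeFixed.Kp ℓ) ⊗ₜ[ZMod ℓ] v₀}) fun s hs => ?_) ((finrank_span_le_card _).trans (by simp))
    have hfix : ρ x s = s := by
      rwa [LinearMap.mem_ker, LinearMap.sub_apply, Module.End.one_apply, sub_eq_zero] at hs
    have hsum : (Module.End.baseChangeHom (ZMod ℓ) (CoprimeFixed.Kp ℓ) W S0) s = (r : CoprimeFixed.Kp ℓ) • s := by
      rw [hS0, map_sum, LinearMap.sum_apply]
      rw [Finset.sum_congr rfl fun i _ => (show _ = s from ?_), Finset.sum_const, Finset.card_range,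
        ← Nat.cast_smul_eq_nsmul (CoprimeFixed.Kp ℓ)]
      show ρ (x ^ i) s = s
      clear * - hfix
      induction i with
      | zero => rw [pow_zero, map_one, Module.End.one_apply]
      | succ i ih => rw [pow_succ, map_mul, Module.End.mul_apply, hfix, ih]
    have h1 := hrange s
    rw [hsum] at h1
    exact (Submodule.smul_mem_iff _ (hcast r R.card_subgroup_dvd_card)).mp h1
  rintro _ ⟨d, hd, rfl⟩
  have h1 := CoprimeFixed.commutator_trivial ρ N x hRp hxr (hcast r R.card_subgroup_dvd_card)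
    (hcast _ N.card_subgroup_dvd_card) hnil hfpf hline hd
  exact (CoprimeFixed.model_eq_one_iff hconj _).mp (CoprimeFixed.baseChange_eq_one h1)

end Cfsg.Agent.S3770
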