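import Cfsg.Statements.S3772
import Cfsg.Agent.TwoGroupCount.GaussSum
import Cfsg.Agent.Core.Frattini
import Cfsg.Agent.Fusion.Critical

set_option autoImplicit false
open Cfsg

namespace Cfsg.Agent.S3772

open scoped commutatorElement

/-- Let G be a finite 2-group whose Frattini subgroup Φ(G) has order 2, with |G : Φ(G)| = 2^d, and let j be the number of elements x of G with x² = 1. Then j = 2^d, or j = 2^d + 2^(d−r) or j = 2^d − 2^(d−r) for some positive integer r with 2r ≤ d. Moreover if d = 2r and j is 2^d + 2^r or 2^d − 2^r, then G is extraspecial. -/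
theorem result {G : Type*} [Group G] [Finite G] (hG : IsPGroup 2 G) (hΦ : Nat.card (frattini G) = 2) (d : ℕ) (hd : (frattini G).index = 2 ^ d) : (Nat.card {x : G // x ^ 2 = 1} = 2 ^ d ∨ ∃ r : ℕ, 1 ≤ r ∧ 2 * r ≤ d ∧ (Nat.card {x : G // x ^ 2 = 1} = 2 ^ d + 2 ^ (d - r) ∨ Nat.card {x : G // x ^ 2 = 1} + 2 ^ (d - r) = 2 ^ d)) ∧ (∀ r : ℕ, d = 2 * r → (Nat.card {x : G // x ^ 2 = 1} = 2 ^ d + 2 ^ r ∨ Nat.card {x : G // x ^ 2 = 1} + 2 ^ r = 2 ^ d) → Cfsg.IsExtraspecial 2 G) := by
  classical
  haveI := Fintype.ofFinite G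
  haveI : Group.IsNilpotent G := hG.isNilpotent
  set W := frattini G
  have hcentral : W ≤ Subgroup.center G := by
    intro w hw
    rw [Subgroup.mem_center_iff]
    intro g
    have hgw : g * w * g⁻¹ ∈ W := (inferInstance : W.Normal).conj_mem w hw g
    haveI := Fintype.ofFinite W
    have hsub : ∀ a b : W, a ≠ 1 → b ≠ 1 → a = b := by
      intro a b ha hb
      obtain ⟨u, v, huv, hall⟩ := Nat.card_eq_two_iff.mp hΦ
      have e : ∀ c : W, c = u ∨ c = v := fun c => by
        have : c ∈ ({u, v} : Set W) := hall ▸ Set.mem_univ c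
        simpa using this
      rcases e a with rfl | rfl <;> rcases e b with rfl | rfl <;> rcases e (1 : W) with h | h <;>
        first | rfl | exact absurd h.symm ha | exact absurd h.symm hb
    by_cases hw1 : w = 1
    · simp [hw1]
    · have h1 := congrArg Subtype.val (hsub ⟨_, hgw⟩ ⟨w, hw⟩ (fun h => hw1 (conj_eq_one_iff.mp (congrArg Subtype.val h)))
        (fun h => hw1 (congrArg Subtype.val h)))
      exact mul_inv_eq_iff_eq_mul.mp h1
  have hT : TwoGroupCount.SquareTarget W := ⟨hcentral, fun x => by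
      rw [← pow_two]; exact Core.pow_mem_frattini hG x, fun w hw => by
      have h := pow_card_eq_one' (x := (⟨w, hw⟩ : W))
      rw [hΦ, pow_two] at h
      exact congrArg Subtype.val h⟩
  have hW2 : ∀ w : W, w ^ 2 = 1 := fun w => hΦ ▸ pow_card_eq_one'
  letI : CommGroup W := { (inferInstance : Group W) with
    mul_comm := fun a b => Subtype.ext (Subgroup.mem_center_iff.mp (hcentral b.2) a) }
  obtain ⟨w₀, hw₀⟩ : ∃ w : W, w ≠ 1 := by
    haveI : Nontrivial W := Finite.one_lt_card_iff_nontrivial.mp (hΦ ▸ one_lt_two)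
    exact exists_ne 1
  obtain ⟨χ, hχ⟩ := TwoGroupCount.exists_sign hW2 hw₀
  have hχinj : ∀ w : W, χ w = 1 → w = 1 := by
    intro w hw
    by_contra hne
    obtain ⟨u, v, huv, hall⟩ := Nat.card_eq_two_iff.mp hΦ
    have e : ∀ c : W, c = u ∨ c = v := fun c => by
      have : c ∈ ({u, v} : Set W) := hall ▸ Set.mem_univ c
      simpa using this
    have : w = w₀ := by
      rcases e w with rfl | rfl <;> rcases e w₀ with rfl | rfl <;> rcases e (1 : W) with h | h <;>
        first | rfl | exact absurd h.symm hne | exact absurd h.symm hw₀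
    exact hχ (this ▸ hw)
  have hcardG : Nat.card G = 2 ^ (d + 1) := by
    rw [← W.card_mul_index, hd, hΦ, pow_succ']
  set j := Nat.card {x : G // x ^ 2 = 1}
  set S := TwoGroupCount.gauss hT χ with hS
  have hSj : S = 2 * (j : ℤ) - 2 ^ (d + 1) := by
    have hval : ∀ x : G, (χ (TwoGroupCount.sqW hT x) : ℤ) = 2 * (if x ^ 2 = 1 then 1 else 0) - 1 := by
      intro x
      by_cases hx : x ^ 2 = 1
      · rw [show TwoGroupCount.sqW hT x = 1 from Subtype.ext ((pow_two x).symm.trans hx), map_one, if_pos hx]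
        simp
      · rcases Int.units_eq_one_or (χ (TwoGroupCount.sqW hT x)) with h | h
        · exact absurd ((pow_two x).trans (congrArg Subtype.val (hχinj _ h))) hx
        · rw [h, if_neg hx]; simp
    rw [hS, TwoGroupCount.gauss, Finset.sum_congr rfl fun x _ => hval x, Finset.sum_sub_distrib, ← Finset.mul_sum,
      Finset.sum_boole, Finset.sum_const, Finset.card_univ, nsmul_one, ← Nat.card_eq_fintype_card, hcardG]
    simp [j, Nat.card_eq_fintype_card, Fintype.card_subtype]
  have hrad : TwoGroupCount.rad hT χ = Subgroup.center G := by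
    refine le_antisymm (fun u hu => Subgroup.mem_center_iff.mpr fun v => ?_) (TwoGroupCount.center_le_rad hT χ)
    have h := congrArg Subtype.val (hχinj _ (hu v))
    exact (mul_inv_eq_iff_eq_mul.mp (mul_inv_eq_one.mp h)).symm
  obtain ⟨z, hz⟩ := IsPGroup.iff_card.mp (hG.to_subgroup (Subgroup.center G))
  have hz1 : 1 ≤ z := by
    have h := Subgroup.card_le_of_le hcentral
    rw [hΦ, hz] at h
    rcases Nat.eq_zero_or_pos z with rfl | h0
    · simp at h
    · exact h0
  rcases TwoGroupCount.gauss_sq hT χ with h0 | ⟨hsq, htriv⟩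
  · rw [← hS, hSj] at h0
    have hj : j = 2 ^ d := by
      rw [pow_succ'] at h0
      have : (j : ℤ) = ((2 ^ d : ℕ) : ℤ) := by push_cast; linarith
      exact_mod_cast this
    refine ⟨Or.inl hj, fun r hr h => ?_⟩
    have h2 := Nat.two_pow_pos r
    omega
  rw [← hS, hrad, hcardG, hz] at hsq
  have hzd : z ≤ d := by
    by_contra hlt
    have htop : Subgroup.center G = ⊤ := Subgroup.eq_top_of_le_card _ (by
      rw [hcardG, hz]; exact Nat.pow_le_pow_right (by norm_num) (by omega))
    have hsq1 : ∀ x : G, x ^ 2 = 1 := fun x => by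
      rw [pow_two]
      exact congrArg Subtype.val (hχinj _ (htriv x (hrad ▸ htop ▸ Subgroup.mem_top x)))
    have hbot : frattini G ≤ ⊥ := Fusion.frattini_le_of_elementary (p := 2) ⊥
      (Subgroup.commutator_le.mpr fun a _ b _ => Subgroup.mem_bot.mpr (commutatorElement_eq_one_iff_mul_comm.mpr
        (Subgroup.mem_center_iff.mp (htop ▸ Subgroup.mem_top b) a))) fun x => Subgroup.mem_bot.mpr (hsq1 x)
    have := Subgroup.card_le_of_le hbot
    rw [hΦ, Subgroup.card_bot] at this
    omega
  have h1 : S.natAbs ^ 2 = 2 ^ (d + 1 + z) := by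
    have := congrArg Int.natAbs hsq
    rw [Int.natAbs_pow] at this
    rw [this, Int.natAbs_mul, Int.natAbs_natCast, Int.natAbs_natCast, ← pow_add]
  obtain ⟨t, -, ht⟩ := (Nat.dvd_prime_pow Nat.prime_two).mp (Dvd.intro _ ((pow_two _).symm.trans h1))
  rw [ht, ← pow_mul] at h1
  have h2 := Nat.pow_right_injective le_rfl h1
  obtain ⟨t', rfl⟩ : ∃ t', t = t' + 1 := ⟨t - 1, by omega⟩
  have hcases : j = 2 ^ d + 2 ^ t' ∨ j + 2 ^ t' = 2 ^ d := by
    rcases Int.natAbs_eq S with h | h <;> rw [ht, hSj] at h <;> push_cast at h <;> rw [pow_succ', pow_succ'] at h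
    · left
      have : (j : ℤ) = ((2 ^ d + 2 ^ t' : ℕ) : ℤ) := by push_cast; linarith
      exact_mod_cast this
    · right
      have : ((j + 2 ^ t' : ℕ) : ℤ) = ((2 ^ d : ℕ) : ℤ) := by push_cast; linarith
      exact_mod_cast this
  refine ⟨Or.inr ⟨d - t', by omega, by omega, by rwa [show d - (d - t') = t' by omega]⟩, fun r hr h => ?_⟩
  have hrt : r = t' := by
    have hp1 := Nat.two_pow_pos r
    have hp2 := Nat.two_pow_pos t'
    refine Nat.pow_right_injective le_rfl (show 2 ^ r = 2 ^ t' from ?_)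
    omega
  have hzeq : z = 1 := by omega
  have hZW : W = Subgroup.center G := Subgroup.eq_of_le_of_card_ge hcentral (by rw [hz, hzeq, hΦ]; simp)
  refine ⟨⟨hG, hZW, le_antisymm ((Core.commutator_le_frattini).trans hZW.le) ?_⟩, by rw [hz, hzeq, pow_one]⟩
  by_contra hnot
  have hbot : commutator G = ⊥ := by
    have hd2 : Nat.card (commutator G) ∣ 2 := hΦ ▸ Subgroup.card_dvd_of_le Core.commutator_le_frattini
    rcases (Nat.dvd_prime Nat.prime_two).mp hd2 with h3 | h3
    · exact Subgroup.card_eq_one.mp h3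
    · exact absurd (hZW ▸ (Subgroup.eq_of_le_of_card_ge Core.commutator_le_frattini (by rw [hΦ, h3]) : commutator G = W)).ge hnot
  have htop : Subgroup.center G = ⊤ := top_le_iff.mp fun a _ => Subgroup.mem_center_iff.mpr fun b =>
    commutatorElement_eq_one_iff_mul_comm.mp (Subgroup.mem_bot.mp (hbot ▸
      (Subgroup.commutator_mem_commutator (Subgroup.mem_top b) (Subgroup.mem_top a) : ⁅b, a⁆ ∈ commutator G)))
  rw [htop, Subgroup.card_top, hcardG] at hz
  have := Nat.pow_right_injective le_rfl hz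
  omega

end Cfsg.Agent.S3772
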