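import Cfsg.Statements.S3773
import Cfsg.Agent.TwoGroupCount.GaussSum
import Cfsg.Agent.Core.Frattini
import Cfsg.Agent.Fusion.Critical

set_option autoImplicit false
open Cfsg

namespace Cfsg.Agent.S3773

open scoped commutatorElement

/-- Let G be a finite 2-group of nilpotency class at most 2 and exponent dividing 4 in which the elements x with x² = 1 form a subgroup N. Then |G| ≤ |N|³, and |G| < |N|³ unless G is special. -/
theorem result {G : Type*} [Group G] [Finite G] (hG : IsPGroup 2 G) (hcl : (⊤ : Subgroup G).lowerCentralSeries 2 = ⊥) (hexp : ∀ x : G, x ^ 4 = 1) (hN : ∀ x y : G, x ^ 2 = 1 → y ^ 2 = 1 → (x * y) ^ 2 = 1) : Nat.card G ≤ Nat.card {x : G // x ^ 2 = 1} ^ 3 ∧ (¬ Cfsg.IsSpecial 2 G → Nat.card G < Nat.card {x : G // x ^ 2 = 1} ^ 3) := by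
  classical
  haveI := Fintype.ofFinite G
  haveI : Group.IsNilpotent G := hG.isNilpotent
  have hcomcent : commutator G ≤ Subgroup.center G := by
    intro c hc
    rw [Subgroup.mem_center_iff]
    intro g
    have h1 : ⁅g, c⁆ ∈ (⊤ : Subgroup G).lowerCentralSeries 2 := by
      rw [Subgroup.lowerCentralSeries_succ, Subgroup.commutator_comm]
      refine Subgroup.commutator_mem_commutator (Subgroup.mem_top g) ?_
      rwa [Subgroup.top_lowerCentralSeries_one]
    rw [hcl, Subgroup.mem_bot] at h1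
    exact commutatorElement_eq_one_iff_mul_comm.mp h1
  have hcz : ∀ x y : G, x * y * x⁻¹ * y⁻¹ ∈ Subgroup.center G := fun x y =>
    hcomcent (Subgroup.commutator_mem_commutator (Subgroup.mem_top x) (Subgroup.mem_top y))
  have hcy : ∀ x y : G, ∀ u : G, u * (x * y * x⁻¹ * y⁻¹) = (x * y * x⁻¹ * y⁻¹) * u := fun x y u =>
    Subgroup.mem_center_iff.mp (hcz x y) u
  have hc2 : ∀ x y : G, (x * y * x⁻¹ * y⁻¹) * (x * y * x⁻¹ * y⁻¹) = 1 := by
    intro x y
    set c := x * y * x⁻¹ * y⁻¹ with hc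
    have hcc : ∀ u : G, Commute c u := fun u => (hcy x y u).symm
    have h1 : (x * y) * (x * y) = c⁻¹ * ((x * x) * (y * y)) := by
      have e : x * y = c * (y * x) := by rw [hc]; group
      calc (x * y) * (x * y) = x * (y * x) * y := by simp only [mul_assoc]
        _ = x * (c⁻¹ * (x * y)) * y := by rw [e, inv_mul_cancel_left]
        _ = (x * c⁻¹) * x * y * y := by simp only [mul_assoc]
        _ = (c⁻¹ * x) * x * y * y := by rw [((hcc x).inv_left).eq]
        _ = _ := by simp only [mul_assoc]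
    have hxx : x * x * (y * y) * (x * x) * (y * y) = 1 * (c⁻¹ * c⁻¹ * c⁻¹ * c⁻¹) := by
      have e : y * x = c⁻¹ * (x * y) := by rw [hc]; group
      have e1 : y * (x * x) = c⁻¹ * c⁻¹ * (x * x * y) := by
        calc y * (x * x) = c⁻¹ * (x * y) * x := by rw [← mul_assoc, e]
          _ = c⁻¹ * x * (y * x) := by simp only [mul_assoc]
          _ = c⁻¹ * x * (c⁻¹ * (x * y)) := by rw [e]
          _ = c⁻¹ * (x * c⁻¹) * (x * y) := by simp only [mul_assoc]
          _ = c⁻¹ * (c⁻¹ * x) * (x * y) := by rw [((hcc x).inv_left).eq]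
          _ = _ := by simp only [mul_assoc]
      have e2 : y * y * (x * x) = c⁻¹ * c⁻¹ * c⁻¹ * c⁻¹ * (x * x * (y * y)) := by
        calc y * y * (x * x) = y * (c⁻¹ * c⁻¹ * (x * x * y)) := by rw [mul_assoc, e1]
          _ = (y * (c⁻¹ * c⁻¹)) * (x * x * y) := by simp only [mul_assoc]
          _ = (c⁻¹ * c⁻¹ * y) * (x * x * y) := by rw [(((hcc y).inv_left).mul_left (hcc y).inv_left).eq]
          _ = c⁻¹ * c⁻¹ * (y * (x * x)) * y := by simp only [mul_assoc]
          _ = c⁻¹ * c⁻¹ * (c⁻¹ * c⁻¹ * (x * x * y)) * y := by rw [e1]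
          _ = _ := by simp only [mul_assoc]
      have hk : Commute (c⁻¹ * c⁻¹ * c⁻¹ * c⁻¹) (x * x) :=
        ((((hcc _).inv_left).mul_left (hcc _).inv_left).mul_left (hcc _).inv_left).mul_left (hcc _).inv_left
      calc x * x * (y * y) * (x * x) * (y * y) = x * x * (y * y * (x * x)) * (y * y) := by simp only [mul_assoc]
        _ = (x * x * (c⁻¹ * c⁻¹ * c⁻¹ * c⁻¹)) * (x * x * (y * y)) * (y * y) := by rw [e2]; simp only [mul_assoc]
        _ = (c⁻¹ * c⁻¹ * c⁻¹ * c⁻¹ * (x * x)) * (x * x * (y * y)) * (y * y) := by rw [hk.eq]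
        _ = c⁻¹ * c⁻¹ * c⁻¹ * c⁻¹ * (x ^ 4) * (y ^ 4) := by simp only [pow_succ, pow_zero, one_mul, mul_assoc]
        _ = _ := by rw [hexp, hexp, mul_one, mul_one, one_mul]
    have h4 : c⁻¹ * c⁻¹ * c⁻¹ * c⁻¹ = 1 := by
      have h := hexp c⁻¹
      simpa only [pow_succ, pow_zero, one_mul, mul_assoc] using h
    have h5 := hexp (x * y)
    rw [show (x * y) ^ 4 = ((x * y) * (x * y)) * ((x * y) * (x * y)) by simp only [pow_succ, pow_zero, one_mul, mul_assoc],
      h1] at h5
    rw [show c⁻¹ * (x * x * (y * y)) * (c⁻¹ * (x * x * (y * y))) = c⁻¹ * ((x * x * (y * y)) * c⁻¹) * (x * x * (y * y)) by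
      simp only [mul_assoc], ← ((hcc (x * x * (y * y))).inv_left).eq,
      show c⁻¹ * (c⁻¹ * (x * x * (y * y))) * (x * x * (y * y)) = c⁻¹ * c⁻¹ * (x * x * (y * y) * (x * x) * (y * y)) by
        simp only [mul_assoc], hxx, h4, mul_one, mul_one] at h5
    rw [← mul_inv_rev] at h5
    exact inv_eq_one.mp h5
  have hsqc : ∀ x : G, x * x ∈ Subgroup.center G := fun x => Subgroup.mem_center_iff.mpr fun y => by
    have e : x * y = (x * y * x⁻¹ * y⁻¹) * (y * x) := by group
    calc y * (x * x) = (x * y * x⁻¹ * y⁻¹) * (x * y * x⁻¹ * y⁻¹) * (y * x * x) := by rw [hc2, one_mul, mul_assoc]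
      _ = (x * y * x⁻¹ * y⁻¹) * ((x * y * x⁻¹ * y⁻¹) * (y * x)) * x := by simp only [mul_assoc]
      _ = ((x * y * x⁻¹ * y⁻¹) * x) * (y * x) := by rw [← e]; simp only [mul_assoc]
      _ = (x * (x * y * x⁻¹ * y⁻¹)) * (y * x) := by rw [hcy x y x]
      _ = x * ((x * y * x⁻¹ * y⁻¹) * (y * x)) := by simp only [mul_assoc]
      _ = x * x * y := by rw [← e, mul_assoc]
  let N : Subgroup G :=
    { carrier := {x | x * x = 1}
      one_mem' := one_mul 1
      mul_mem' := fun {x y} (hx : x * x = 1) (hy : y * y = 1) => by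
        have h := hN x y ((pow_two x).trans hx) ((pow_two y).trans hy)
        rwa [pow_two] at h
      inv_mem' := fun {x} (hx : x * x = 1) => by
        show x⁻¹ * x⁻¹ = 1
        rw [← mul_inv_rev, hx, inv_one] }
  have hsq1 : ∀ x : G, x * x * (x * x) = 1 := fun x => by
    rw [← hexp x]; simp only [pow_succ, pow_zero, one_mul, mul_assoc]
  set W := frattini G
  have hWle : W ≤ Subgroup.center G ⊓ N := by
    haveI : (Subgroup.center G ⊓ N).Normal := ⟨fun a ha g => by
      rwa [Subgroup.mem_center_iff.mp ha.1 g, mul_inv_cancel_right]⟩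
    refine Fusion.frattini_le_of_elementary (p := 2) _ (Subgroup.commutator_le.mpr fun a _ b _ => ⟨hcz a b, hc2 a b⟩)
      fun x => ?_
    rw [pow_two]
    exact ⟨hsqc x, hsq1 x⟩
  have hT : TwoGroupCount.SquareTarget W := ⟨hWle.trans inf_le_left, fun x => by
    rw [← pow_two]; exact Core.pow_mem_frattini hG x, fun w hw => (hWle hw).2⟩
  have hmain := TwoGroupCount.two_pow_le hG hT N fun x => Iff.rfl
  have hcardN : Nat.card {x : G // x ^ 2 = 1} = Nat.card N :=
    Nat.card_congr (Equiv.subtypeEquivRight fun x => by rw [pow_two]; rfl)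
  rw [hcardN]
  have hWN : Nat.card W ≤ Nat.card N := Subgroup.card_le_of_le (hWle.trans inf_le_right)
  have hWZ : Nat.card W ≤ Nat.card (Subgroup.center G) := Subgroup.card_le_of_le (hWle.trans inf_le_left)
  have hNpos : 0 < Nat.card N := Nat.card_pos
  have hWpos : 0 < Nat.card W := Nat.card_pos
  have hle : Nat.card G * Nat.card W ≤ Nat.card N ^ 2 * Nat.card W * Nat.card W := by
    calc Nat.card G * Nat.card W ≤ Nat.card G * Nat.card (Subgroup.center G) := Nat.mul_le_mul_left _ hWZ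
      _ ≤ _ := hmain.trans_eq (by ring)
  have hle2 : Nat.card G ≤ Nat.card N ^ 2 * Nat.card W := Nat.le_of_mul_le_mul_right hle hWpos
  refine ⟨hle2.trans ((Nat.mul_le_mul_left _ hWN).trans_eq (pow_succ _ 2).symm), fun hns => ?_⟩
  rcases hWN.lt_or_eq with hlt | hWN'
  · exact hle2.trans_lt (lt_of_lt_of_eq (Nat.mul_lt_mul_of_pos_left hlt (pow_pos hNpos 2)) (pow_succ _ 2).symm)
  rcases hWZ.lt_or_eq with hlt | hWZ'
  · have h1 : Nat.card G * Nat.card W < Nat.card N ^ 3 * Nat.card W := by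
      calc Nat.card G * Nat.card W < Nat.card G * Nat.card (Subgroup.center G) := Nat.mul_lt_mul_of_pos_left hlt Nat.card_pos
        _ ≤ _ := hmain.trans_eq (by rw [hWN']; ring)
    exact Nat.lt_of_mul_lt_mul_right h1
  -- squares landing in the derived subgroup
  have eWZ : W = Subgroup.center G := Subgroup.eq_of_le_of_card_ge (hWle.trans inf_le_left) hWZ'.ge
  have eWN : W = N := Subgroup.eq_of_le_of_card_ge (hWle.trans inf_le_right) hWN'.ge
  set D := commutator G
  have hDW : D ≤ W := Core.commutator_le_frattini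
  have hDne : D ≠ W := fun h => hns ⟨hG, eWZ, h.trans eWZ⟩
  have hprod : ∀ x y : G, x * y * (x * y) = (y * x * y⁻¹ * x⁻¹) * ((x * x) * (y * y)) := fun x y =>
    congrArg Subtype.val (TwoGroupCount.sqW_mul hT x y)
  let U : Subgroup G :=
    { carrier := {x | x * x ∈ D}
      one_mem' := by simp
      mul_mem' := fun {x y} (hx : x * x ∈ D) (hy : y * y ∈ D) => by
        show x * y * (x * y) ∈ D
        rw [hprod]
        exact D.mul_mem (Subgroup.commutator_mem_commutator (Subgroup.mem_top y) (Subgroup.mem_top x)) (D.mul_mem hx hy)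
      inv_mem' := fun {x} (hx : x * x ∈ D) => by
        show x⁻¹ * x⁻¹ ∈ D
        rw [← mul_inv_rev]; exact D.inv_mem hx }
  have hNU : N ≤ U := fun x (hx : x * x = 1) => by
    show x * x ∈ D
    rw [hx]; exact D.one_mem
  have hDU : D ≤ U := hDW.trans (eWN.le.trans hNU)
  have hTU : TwoGroupCount.SquareTarget (D.subgroupOf U) := ⟨fun a ha => Subgroup.mem_center_iff.mpr fun b =>
      Subtype.ext (Subgroup.mem_center_iff.mp (hcomcent ha) b), fun x => x.2, fun a ha =>
      Subtype.ext (hWle (hDW ha)).2⟩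
  haveI := Fintype.ofFinite U
  have hUb := TwoGroupCount.two_pow_le (hG.to_subgroup U) hTU (N.subgroupOf U) fun x =>
    ⟨fun h => Subtype.ext h, fun h => congrArg Subtype.val h⟩
  have hZU : Nat.card N ≤ Nat.card (Subgroup.center U) := by
    rw [← Nat.card_congr (Subgroup.subgroupOfEquivOfLe hNU).toEquiv]
    refine Subgroup.card_le_of_le fun a ha => Subgroup.mem_center_iff.mpr fun b => Subtype.ext ?_
    exact Subgroup.mem_center_iff.mp (eWZ ▸ eWN.symm ▸ ha : (a : G) ∈ Subgroup.center G) b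
  rw [Nat.card_congr (Subgroup.subgroupOfEquivOfLe hNU).toEquiv,
    Nat.card_congr (Subgroup.subgroupOfEquivOfLe hDU).toEquiv] at hUb
  have hUle : Nat.card U ≤ Nat.card N * Nat.card D ^ 2 := by
    refine Nat.le_of_mul_le_mul_right ?_ hNpos
    calc Nat.card U * Nat.card N ≤ Nat.card U * Nat.card (Subgroup.center U) := Nat.mul_le_mul_left _ hZU
      _ ≤ _ := hUb.trans_eq (by ring)
  haveI : (D.subgroupOf W).Normal := inferInstance
  let φ : G →* W ⧸ D.subgroupOf W := MonoidHom.mk' (fun x => QuotientGroup.mk (TwoGroupCount.sqW hT x)) fun x y => by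
    rw [TwoGroupCount.sqW_mul, QuotientGroup.mk_mul, QuotientGroup.mk_mul]
    rw [(QuotientGroup.eq_one_iff (TwoGroupCount.comW hT y x)).mpr
      (Subgroup.commutator_mem_commutator (Subgroup.mem_top y) (Subgroup.mem_top x)), one_mul]
  have hker : φ.ker = U := by
    ext x
    exact (QuotientGroup.eq_one_iff (TwoGroupCount.sqW hT x)).trans Iff.rfl
  have hidx : U.index * Nat.card D ≤ Nat.card W := by
    rw [← hker, Subgroup.index_ker, ← (D.subgroupOf W).card_mul_index, Subgroup.index_eq_card,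
      Nat.card_congr (Subgroup.subgroupOfEquivOfLe hDW).toEquiv, mul_comm (Nat.card D)]
    exact Nat.mul_le_mul_right _ (Nat.card_le_card_of_injective _ Subtype.val_injective)
  have hDlt : Nat.card D < Nat.card N := by
    rw [← eWN]
    exact lt_of_le_of_ne (Subgroup.card_le_of_le hDW) fun h => hDne (Subgroup.eq_of_le_of_card_ge hDW h.ge)
  calc Nat.card G = Nat.card U * U.index := (Subgroup.card_mul_index U).symm
    _ ≤ Nat.card N * Nat.card D ^ 2 * U.index := Nat.mul_le_mul_right _ hUle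
    _ = Nat.card N * Nat.card D * (U.index * Nat.card D) := by ring
    _ ≤ Nat.card N * Nat.card D * Nat.card W := Nat.mul_le_mul_left _ hidx
    _ = Nat.card D * Nat.card N ^ 2 := by rw [hWN']; ring
    _ < Nat.card N * Nat.card N ^ 2 := Nat.mul_lt_mul_of_pos_right hDlt (pow_pos hNpos 2)
    _ = Nat.card N ^ 3 := by ring

end Cfsg.Agent.S3773
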