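import Cfsg.Statements.S3774

set_option autoImplicit false
open Cfsg

namespace Cfsg.Agent.S3774

/-- Let G be a nontrivial finite 2-group whose automorphism group permutes the involutions of G transitively. Then every involution of G is central, so that the involutions together with 1 form the subgroup Ω₁(Z(G)), and if this subgroup has order q then |G| is a power of q. -/
theorem result {G : Type*} [Group G] [Finite G] [Nontrivial G] (hG : IsPGroup 2 G) (htrans : ∀ x y : G, x ≠ 1 → x ^ 2 = 1 → y ≠ 1 → y ^ 2 = 1 → ∃ a : MulAut G, a x = y) : (∀ x : G, x ^ 2 = 1 → x ∈ Subgroup.center G) ∧ ∃ m : ℕ, Nat.card G = Nat.card {z : G // z ^ 2 = 1} ^ m := by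
  classical
  have hcent : ∀ x : G, x ^ 2 = 1 → x ∈ Subgroup.center G := by
    intro x hx
    by_cases hx1 : x = 1
    · rw [hx1]; exact one_mem _
    haveI : Nontrivial (Subgroup.center G) := hG.center_nontrivial
    obtain ⟨k, hk⟩ := IsPGroup.iff_card.mp (hG.to_subgroup (Subgroup.center G))
    have h2 : 2 ∣ Nat.card (Subgroup.center G) := by
      rw [hk]
      refine dvd_pow_self 2 fun h0 => ?_
      rw [h0, pow_zero] at hk
      exact Finite.one_lt_card.ne' hk
    obtain ⟨z, hz⟩ := exists_prime_orderOf_dvd_card' (G := Subgroup.center G) 2 h2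
    have hz1 : (z : G) ≠ 1 := fun h => by
      rw [show z = 1 from Subtype.ext h, orderOf_one] at hz
      omega
    obtain ⟨a, ha⟩ := htrans z x hz1 (by rw [← Subgroup.coe_pow, ← hz, pow_orderOf_eq_one]; rfl) hx1 hx
    rw [← ha]
    exact Subgroup.mem_center_iff.mpr fun g => a.symm.injective (by
      simpa using Subgroup.mem_center_iff.mp z.2 (a.symm g))
  refine ⟨hcent, ?_⟩
  haveI := Fintype.ofFinite G
  let N : Subgroup G :=
    { carrier := {x | x ^ 2 = 1}
      one_mem' := one_pow 2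
      mul_mem' := fun {x y} (hx : x ^ 2 = 1) (hy : y ^ 2 = 1) => show (x * y) ^ 2 = 1 by
        rw [(show Commute x y from Subgroup.mem_center_iff.mp (hcent y hy) x).mul_pow, hx, hy, one_mul]
      inv_mem' := fun {x} (hx : x ^ 2 = 1) => show x⁻¹ ^ 2 = 1 by rw [inv_pow, hx, inv_one] }
  obtain ⟨n, hn⟩ := IsPGroup.iff_card.mp (hG.to_subgroup N)
  obtain ⟨g, hg⟩ := IsPGroup.iff_card.mp hG
  -- the involution below an element
  let inv2 : G → G := fun x => x ^ (orderOf x / 2)
  have hev : ∀ x : G, x ≠ 1 → 2 ∣ orderOf x := by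
    intro x hx
    obtain ⟨j, hj⟩ := IsPGroup.iff_orderOf.mp hG x
    rcases Nat.eq_zero_or_pos j with rfl | hj0
    · exact absurd (orderOf_eq_one_iff.mp (hj.trans (pow_zero 2))) hx
    · exact hj ▸ dvd_pow_self 2 hj0.ne'
  have hinv : ∀ x : G, x ≠ 1 → inv2 x ≠ 1 ∧ inv2 x ^ 2 = 1 := by
    intro x hx
    have hpos : 0 < orderOf x := orderOf_pos x
    obtain ⟨c, hc⟩ := hev x hx
    refine ⟨fun h => ?_, ?_⟩
    · have h1 : orderOf x ∣ orderOf x / 2 := orderOf_dvd_iff_pow_eq_one.mpr h
      have h2 := Nat.le_of_dvd (by omega) h1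
      omega
    · show (x ^ (orderOf x / 2)) ^ 2 = 1
      rw [← pow_mul, Nat.div_mul_cancel ⟨c, hc⟩, pow_orderOf_eq_one]
  have hequiv : ∀ (a : MulAut G) (x : G), inv2 (a x) = a (inv2 x) := fun a x => by
    simp only [inv2, map_pow, MulEquiv.orderOf_eq]
  set S := (Finset.univ : Finset G).filter (· ≠ 1)
  set T := (Finset.univ : Finset G).filter (fun t => t ≠ 1 ∧ t ^ 2 = 1)
  have hfib : ∀ t ∈ T, ∀ u ∈ T, (S.filter (fun x => inv2 x = t)).card = (S.filter (fun x => inv2 x = u)).card := by
    intro t ht u hu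
    simp only [T, Finset.mem_filter, Finset.mem_univ, true_and] at ht hu
    obtain ⟨a, rfl⟩ := htrans t u ht.1 ht.2 hu.1 hu.2
    refine Finset.card_equiv a.toEquiv fun x => ?_
    simp [S, hequiv, a.injective.eq_iff]
  have hmaps : ∀ x ∈ S, inv2 x ∈ T := by
    intro x hx
    simp only [S, Finset.mem_filter, Finset.mem_univ, true_and] at hx
    simp only [T, Finset.mem_filter, Finset.mem_univ, true_and]
    exact hinv x hx
  have hTcard : T.card = 2 ^ n - 1 := by
    have h1 : T = ((Finset.univ : Finset G).filter (fun t => t ^ 2 = 1)).erase 1 := by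
      ext t; simp [T]
    rw [h1, Finset.card_erase_of_mem (by simp), ← hn]
    congr 1
    rw [Nat.card_eq_fintype_card]
    exact (Fintype.card_subtype _).symm
  have hScard : S.card = 2 ^ g - 1 := by
    have h1 : S = (Finset.univ : Finset G).erase 1 := by ext t; simp [S]
    rw [h1, Finset.card_erase_of_mem (Finset.mem_univ _), Finset.card_univ, ← Nat.card_eq_fintype_card, hg]
  have hdvd : 2 ^ n - 1 ∣ 2 ^ g - 1 := by
    rw [← hTcard, ← hScard, Finset.card_eq_sum_card_fiberwise hmaps]
    rcases T.eq_empty_or_nonempty with hT | ⟨t₀, ht₀⟩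
    · simp [hT]
    · rw [Finset.sum_congr rfl fun u hu => hfib u hu t₀ ht₀, Finset.sum_const, smul_eq_mul]
      exact dvd_mul_right _ _
  have hn0 : n ≠ 0 := by
    rintro rfl
    obtain ⟨x, hx⟩ := exists_ne (1 : G)
    have h1 : inv2 x ∈ N := (hinv x hx).2
    rw [Subgroup.card_eq_one.mp (hn.trans (pow_zero 2)), Subgroup.mem_bot] at h1
    exact (hinv x hx).1 h1
  have hdiv : n ∣ g := by
    have h1 := Nat.pow_sub_one_gcd_pow_sub_one 2 n g
    rw [Nat.gcd_eq_left hdvd] at h1
    have h2 : 2 ^ n = 2 ^ (Nat.gcd n g) := by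
      have := Nat.one_le_two_pow (n := n)
      have := Nat.one_le_two_pow (n := Nat.gcd n g)
      omega
    exact (Nat.pow_right_injective le_rfl h2).symm ▸ Nat.gcd_dvd_right n g
  obtain ⟨m, hm⟩ := hdiv
  refine ⟨m, ?_⟩
  rw [hg, hm, pow_mul, ← hn]
  rfl

end Cfsg.Agent.S3774
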