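import Cfsg.Statements.S3775
import Mathlib
-- import your own Cfsg.Agent.* helpers here

set_option autoImplicit false
open Cfsg

namespace Cfsg.Agent.S3775

open Subgroup

variable {A : Type*} [CommGroup A] [Finite A]

/-- Invariance under a group of automorphisms, elementwise. -/
def Inv (X : Subgroup (MulAut A)) (B : Subgroup A) : Prop := ∀ x ∈ X, ∀ b ∈ B, x b ∈ B

theorem inv_iff (X : Subgroup (MulAut A)) (B : Subgroup A) :
    Inv X B ↔ ∀ x ∈ X, B.map x.toMonoidHom = B := by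
  constructor
  · intro h x hx
    refine eq_of_le_of_card_ge ?_ ?_
    · rintro _ ⟨b, hb, rfl⟩; exact h x hx b hb
    · rw [card_map_of_injective x.injective]
  · intro h x hx b hb
    rw [← h x hx]
    exact mem_map_of_mem x.toMonoidHom hb

/-- An invariant subgroup that is a direct factor has an invariant complement. -/
theorem exists_inv_compl {p : ℕ} [Fact p.Prime] (hA : IsPGroup p A) (X : Subgroup (MulAut A))
    (hX : (Nat.card X).Coprime p) {D : Subgroup A} (hD : Inv X D) (r : A →* A)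
    (hr1 : ∀ a, r a ∈ D) (hr2 : ∀ d ∈ D, r d = d) :
    ∃ C : Subgroup A, Inv X C ∧ C ⊓ D = ⊥ ∧ C ⊔ D = ⊤ := by
  classical
  haveI := Fintype.ofFinite X
  obtain ⟨k, hk⟩ := IsPGroup.iff_card.1 hA
  obtain ⟨m, hm⟩ : ∃ m : ℕ, ∀ a : A, (a ^ Nat.card X) ^ m = a := by
    have hc : (Nat.card A).Coprime (Nat.card X) := hk ▸ (hX.symm.pow_left k)
    refine ⟨(Nat.gcdB (Nat.card A) (Nat.card X) % (Nat.card A : ℤ)).toNat,
      fun a => ?_⟩
    rw [← pow_mul]
    have hbez := Nat.gcd_eq_gcd_ab (Nat.card A) (Nat.card X)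
    rw [hc.gcd_eq_one] at hbez
    have hnn : 0 ≤ Nat.gcdB (Nat.card A) (Nat.card X) % (Nat.card A : ℤ) :=
      Int.emod_nonneg _ (by exact_mod_cast Nat.card_pos.ne')
    rw [← zpow_natCast, Nat.cast_mul, Int.toNat_of_nonneg hnn]
    conv_rhs => rw [← zpow_one a, show (1 : ℤ) = _ from hbez]
    rw [Int.emod_def, mul_sub, zpow_sub, zpow_add]
    have h1 : ∀ z : ℤ, a ^ ((Nat.card A : ℤ) * z) = 1 := fun z => by
      rw [zpow_mul, zpow_natCast, pow_card_eq_one', one_zpow]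
    rw [h1, one_mul, ← mul_assoc, mul_comm (Nat.card X : ℤ) (Nat.card A : ℤ), mul_assoc, h1]
    simp
  let R : A →* A :=
    { toFun := fun a => (∏ x : X, (x : MulAut A) (r ((x : MulAut A)⁻¹ a))) ^ m
      map_one' := by simp
      map_mul' := fun a b => by simp [Finset.prod_mul_distrib, mul_pow] }
  have hRapp : ∀ a, R a = (∏ x : X, (x : MulAut A) (r ((x : MulAut A)⁻¹ a))) ^ m := fun _ => rfl
  have hR1 : ∀ a, R a ∈ D := fun a =>
    pow_mem (prod_mem fun (x : X) _ => hD (x : MulAut A) x.2 _ (hr1 _)) m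
  have hR2 : ∀ d ∈ D, R d = d := by
    intro d hd
    rw [hRapp]
    have : ∀ x : X, (x : MulAut A) (r ((x : MulAut A)⁻¹ d)) = d := fun x => by
      rw [hr2 _ (hD _ (X.inv_mem x.2) _ hd)]
      exact (x : MulAut A).apply_symm_apply d
    rw [Finset.prod_congr rfl (fun x _ => this x), Finset.prod_const, Finset.card_univ,
      ← Nat.card_eq_fintype_card]
    exact hm d
  refine ⟨R.ker, ?_, ?_, ?_⟩
  · intro y hy a ha
    rw [MonoidHom.mem_ker] at ha ⊢
    have heq : R (y a) = y (R a) := by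
      rw [hRapp, hRapp, map_pow, map_prod]
      congr 1
      refine (Fintype.prod_equiv (Equiv.mulLeft (⟨y, hy⟩ : X)) _ _ fun x => ?_).symm
      simp only [Equiv.coe_mulLeft, Subgroup.coe_mul, _root_.mul_inv_rev, MulAut.mul_apply]
      rw [show y⁻¹ (y a) = a from y.symm_apply_apply a]
    rw [heq, ha, map_one]
  · rw [eq_bot_iff]
    rintro a ⟨h1, h2⟩
    rw [mem_bot, ← hR2 a h2]
    exact h1
  · rw [eq_top_iff]
    intro a _
    have : a * (R a)⁻¹ ∈ R.ker := by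
      rw [MonoidHom.mem_ker, map_mul, map_inv, hR2 _ (hR1 a), mul_inv_cancel]
    have := mul_mem (mem_sup_left (T := D) this) (mem_sup_right (S := R.ker) (hR1 a))
    rwa [inv_mul_cancel_right] at this

theorem exists_retraction_elementary {p : ℕ} [Fact p.Prime] (V D : Subgroup A)
    (hV : ∀ v ∈ V, v ^ p = 1) (hDV : D ≤ V) :
    ∃ C : Subgroup A, C ≤ V ∧ C ⊓ D = ⊥ ∧ C ⊔ D = V := by
  obtain ⟨C, ⟨hCV, hCD⟩, hmax⟩ :=
    Set.Finite.exists_maximal (Set.toFinite {C : Subgroup A | C ≤ V ∧ C ⊓ D = ⊥})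
      ⟨⊥, bot_le, bot_inf_eq D⟩
  refine ⟨C, hCV, hCD, le_antisymm (sup_le hCV hDV) fun x hx => ?_⟩
  by_contra hn
  have hle : C ⊔ zpowers x ≤ C := hmax ⟨sup_le hCV (zpowers_le.2 hx), by
    rw [eq_bot_iff]
    rintro y ⟨hy, hyD⟩
    obtain ⟨c, hc, z, hz, rfl⟩ := mem_sup.1 hy
    obtain ⟨i, rfl⟩ := mem_zpowers_iff.1 hz
    by_cases hi : (p : ℤ) ∣ i
    · obtain ⟨j, rfl⟩ := hi
      rw [zpow_mul, zpow_natCast, hV x hx, one_zpow, mul_one] at hyD ⊢
      exact hCD.le ⟨hc, hyD⟩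
    · exfalso
      apply hn
      obtain ⟨u, v, huv⟩ : ∃ u v : ℤ, u * i + v * p = 1 := by
        have hp' : Prime (p : ℤ) := Nat.prime_iff_prime_int.1 Fact.out
        exact (((Irreducible.coprime_iff_not_dvd hp'.irreducible).2 hi).symm)
      have hmem : x ^ i ∈ C ⊔ D := by
        have := mul_mem (mem_sup_left (T := D) (C.inv_mem hc)) (mem_sup_right (S := C) hyD)
        rwa [inv_mul_cancel_left] at this
      rw [← zpow_one x, ← huv, zpow_add, zpow_mul', zpow_mul' x v, zpow_natCast, hV x hx,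
        one_zpow, mul_one]
      exact zpow_mem hmem u⟩ le_sup_left
  exact hn (mem_sup_left (hle (mem_sup_right (mem_zpowers x))))

theorem exists_inv_compl_elementary {p : ℕ} [Fact p.Prime] (hA : IsPGroup p A)
    (X : Subgroup (MulAut A)) (hX : (Nat.card X).Coprime p) (V D : Subgroup A)
    (hV : ∀ v ∈ V, v ^ p = 1) (hVi : Inv X V) (hDi : Inv X D) (hDV : D ≤ V) :
    ∃ C : Subgroup A, C ≤ V ∧ Inv X C ∧ C ⊓ D = ⊥ ∧ C ⊔ D = V := by
  classical
  -- restrict everything to `V`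
  let res : X →* MulAut V :=
    { toFun := fun x =>
        { toFun := fun v => ⟨(x : MulAut A) v, hVi x x.2 v v.2⟩
          invFun := fun v => ⟨((x : MulAut A)⁻¹ : MulAut A) v, hVi _ (X.inv_mem x.2) v v.2⟩
          left_inv := fun v => Subtype.ext ((x : MulAut A).symm_apply_apply v)
          right_inv := fun v => Subtype.ext ((x : MulAut A).apply_symm_apply v)
          map_mul' := fun a b => Subtype.ext (map_mul (x : MulAut A) (a : A) b) }
      map_one' := by ext; rfl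
      map_mul' := fun a b => by ext; rfl }
  obtain ⟨C, hCV, hCD, hsup⟩ := exists_retraction_elementary V D hV hDV
  have hcompl : IsComplement' (C.subgroupOf V) (D.subgroupOf V) := by
    refine isComplement'_of_disjoint_and_mul_eq_univ ?_ ?_
    · rw [disjoint_iff, eq_bot_iff]
      rintro v ⟨h1, h2⟩
      exact Subtype.ext (hCD.le ⟨h1, h2⟩)
    · rw [Set.eq_univ_iff_forall]
      intro v
      obtain ⟨c, hc, d, hd, e⟩ := mem_sup.1 (hsup.ge v.2)
      exact ⟨⟨c, hCV hc⟩, hc, ⟨d, hDV hd⟩, hd, Subtype.ext e⟩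
  have hret : ∃ r : V →* V, (∀ a, r a ∈ D.subgroupOf V) ∧ ∀ d ∈ D.subgroupOf V, r d = d := by
    let f : (C.subgroupOf V) × (D.subgroupOf V) →* V :=
      (C.subgroupOf V).subtype.coprod (D.subgroupOf V).subtype
    have hf : Function.Bijective f := by
      have h := hcompl
      exact h
    let e := MulEquiv.ofBijective f hf
    refine ⟨(D.subgroupOf V).subtype.comp ((MonoidHom.snd _ _).comp e.symm.toMonoidHom),
      fun a => (e.symm a).2.2, fun d hd => ?_⟩
    have : e.symm d = (1, ⟨d, hd⟩) := by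
      rw [MulEquiv.symm_apply_eq]
      exact (one_mul d).symm
    show ((e.symm d).2 : V) = d
    rw [this]
  obtain ⟨r, hr1, hr2⟩ := hret
  have hX' : (Nat.card res.range).Coprime p :=
    hX.coprime_dvd_left (card_range_dvd res)
  obtain ⟨C', hC'i, hC'D, hC's⟩ := exists_inv_compl (hA.to_subgroup V) res.range hX'
    (D := D.subgroupOf V) (by rintro _ ⟨x, rfl⟩ v hv; exact hDi x x.2 _ hv) r hr1 hr2
  refine ⟨C'.map V.subtype, map_subtype_le _, ?_, ?_, ?_⟩
  · rintro x hx _ ⟨v, hv, rfl⟩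
    exact ⟨res ⟨x, hx⟩ v, hC'i _ ⟨⟨x, hx⟩, rfl⟩ v hv, rfl⟩
  · rw [eq_bot_iff]
    rintro _ ⟨⟨v, hv, rfl⟩, hd⟩
    have : v = 1 := hC'D.le ⟨hv, hd⟩
    rw [this]; exact one_mem _
  · conv_lhs => rw [← inf_eq_left.2 hDV, ← subgroupOf_map_subtype, ← Subgroup.map_sup, hC's]
    rw [← MonoidHom.range_eq_map, range_subtype]

/-- A pure subgroup of a bounded abelian group is a retract. -/
theorem exists_retraction_pure (D : Subgroup A)
    (hpure : ∀ (n : ℕ) (x : A), x ^ n ∈ D → ∃ y : A, x * y⁻¹ ∈ D ∧ y ^ n = 1) :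
    ∃ r : A →* A, (∀ a, r a ∈ D) ∧ ∀ d ∈ D, r d = d := by
  classical
  obtain ⟨ι, hι, n, hn, ⟨e⟩⟩ := CommGroup.equiv_prod_multiplicative_zmod_of_finite (A ⧸ D)
  have hlift : ∀ i, ∃ y : A, (y : A ⧸ D) = e.symm (Pi.mulSingle i (Multiplicative.ofAdd 1)) ∧
      y ^ n i = 1 := by
    intro i
    obtain ⟨x, hx⟩ := QuotientGroup.mk_surjective (e.symm (Pi.mulSingle i (Multiplicative.ofAdd (1 : ZMod (n i)))))
    have hxn : x ^ n i ∈ D := by
      rw [← QuotientGroup.eq_one_iff, QuotientGroup.mk_pow, hx, ← map_pow, ← Pi.mulSingle_pow,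
        ← ofAdd_nsmul, nsmul_one, ZMod.natCast_self, ofAdd_zero, Pi.mulSingle_one, map_one]
    obtain ⟨y, hy1, hy2⟩ := hpure _ x hxn
    refine ⟨y, ?_, hy2⟩
    rw [← hx, QuotientGroup.eq]
    simpa [mul_comm] using hy1
  choose y hy1 hy2 using hlift
  let g : ∀ i, Multiplicative (ZMod (n i)) →* A := fun i =>
    AddMonoidHom.toMultiplicativeLeft
      (ZMod.lift (n i) ⟨zmultiplesHom (Additive A) (Additive.ofMul (y i)), by
        rw [zmultiplesHom_apply, natCast_zsmul, ← ofMul_pow, hy2 i, ofMul_one]⟩)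
  have hg : ∀ i, g i (Multiplicative.ofAdd 1) = y i := fun i => by
    show Additive.toMul (ZMod.lift (n i) _ (1 : ZMod (n i))) = y i
    rw [show (1 : ZMod (n i)) = ((1 : ℤ) : ZMod (n i)) from Int.cast_one.symm, ZMod.lift_coe]
    simp
  have hcomp : ∀ i (x : Multiplicative (ZMod (n i))),
      ((g i x : A) : A ⧸ D) = e.symm (Pi.mulSingle i x) := by
    intro i x
    obtain ⟨z, rfl⟩ : ∃ z : ℤ, Multiplicative.ofAdd (1 : ZMod (n i)) ^ z = x := by
      refine ⟨(ZMod.cast (Multiplicative.toAdd x) : ℤ), ?_⟩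
      rw [← ofAdd_zsmul, zsmul_one, ZMod.intCast_zmod_cast, ofAdd_toAdd]
    rw [map_zpow, hg, QuotientGroup.mk_zpow, hy1, ← map_zpow, Pi.mulSingle_zpow]
  let F : (∀ i, Multiplicative (ZMod (n i))) →* A :=
    { toFun := fun v => ∏ i, g i (v i)
      map_one' := by simp
      map_mul' := fun v w => by simp [Finset.prod_mul_distrib] }
  have hsec : ∀ v, ((F v : A) : A ⧸ D) = e.symm v := by
    intro v
    show QuotientGroup.mk' D (∏ i, g i (v i)) = _
    rw [map_prod, Finset.prod_congr rfl (fun i _ => show QuotientGroup.mk' D (g i (v i)) =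
      e.symm (Pi.mulSingle i (v i)) from hcomp i (v i)), ← map_prod, Finset.univ_prod_mulSingle]
  refine ⟨{ toFun := fun a => a * (F (e (a : A ⧸ D)))⁻¹
            map_one' := by simp
            map_mul' := fun a b => by
              simp only [QuotientGroup.mk_mul, map_mul, _root_.mul_inv_rev]
              ac_rfl }, fun a => ?_, fun d hd => ?_⟩
  · rw [← QuotientGroup.eq_one_iff]
    show ((a * (F (e (a : A ⧸ D)))⁻¹ : A) : A ⧸ D) = 1
    rw [QuotientGroup.mk_mul, QuotientGroup.mk_inv, hsec, e.symm_apply_apply, mul_inv_cancel]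
  · show d * (F (e (d : A ⧸ D)))⁻¹ = d
    rw [(QuotientGroup.eq_one_iff d).2 hd, map_one, map_one, inv_one, mul_one]

/-- Condition (iii). -/
def Irr (p : ℕ) (X : Subgroup (MulAut A)) : Prop :=
  ∀ B : Subgroup A, Inv X B → (∀ b ∈ B, b ^ p = 1) → B = ⊥ ∨ ∀ a : A, a ∈ B ↔ a ^ p = 1

/-- Condition (ii). -/
def Omega (p : ℕ) (X : Subgroup (MulAut A)) : Prop :=
  ∀ B : Subgroup A, Inv X B → ∃ i : ℕ, ∀ a : A, a ∈ B ↔ a ^ p ^ i = 1

omit [Finite A] in
theorem irr_of_omega {p : ℕ} {X : Subgroup (MulAut A)} (h : Omega p X) : Irr p X := by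
  intro B hB hexp
  obtain ⟨i, hi⟩ := h B hB
  rcases i with _ | i
  · left
    rw [eq_bot_iff]
    intro a ha
    simpa using (hi a).1 ha
  · right
    intro a
    refine ⟨hexp a, fun ha => (hi a).2 ?_⟩
    rw [pow_succ', pow_mul, ha, one_pow]

theorem omega_of_irr {p : ℕ} [Fact p.Prime] (hA : IsPGroup p A) {X : Subgroup (MulAut A)}
    (h : Irr p X) : Omega p X := by
  intro B hB
  classical
  obtain ⟨k, hk⟩ := IsPGroup.iff_card.1 (hA.to_subgroup B)
  have hex : ∃ i : ℕ, ∀ b ∈ B, b ^ p ^ i = 1 := ⟨k, fun b hb => by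
    rw [← hk]; exact congrArg Subtype.val (pow_card_eq_one' (x := (⟨b, hb⟩ : B)))⟩
  refine ⟨Nat.find hex, fun a => ⟨Nat.find_spec hex a, ?_⟩⟩
  suffices ∀ j, j ≤ Nat.find hex → ∀ a : A, a ^ p ^ j = 1 → a ∈ B from this _ le_rfl a
  intro j
  induction j with
  | zero => intro _ a ha; rw [pow_zero, pow_one] at ha; rw [ha]; exact one_mem B
  | succ j ih =>
    intro hj a ha
    let C : Subgroup A := B.map (powMonoidHom (p ^ j)) ⊓ (powMonoidHom p : A →* A).ker
    have hCi : Inv X C := by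
      rintro x hx c ⟨⟨b, hb, rfl⟩, hc⟩
      refine ⟨⟨x b, hB x hx b hb, ?_⟩, ?_⟩
      · simp
      · have hc' : (b ^ p ^ j) ^ p = 1 := hc
        show (x (b ^ p ^ j)) ^ p = 1
        rw [← map_pow, hc', map_one]
    rcases h C hCi (fun c hc => hc.2) with hC | hC
    · exfalso
      have hlt : j < Nat.find hex := hj
      have hb := Nat.find_min hex hlt
      push Not at hb
      obtain ⟨b, hb, hb1⟩ := hb
      obtain ⟨t, ht⟩ : ∃ t, (b ^ p ^ j) ^ p ^ t = 1 := hA _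
      obtain ⟨s, hs1, hs2⟩ : ∃ s, (b ^ p ^ j) ^ p ^ s ≠ 1 ∧ (b ^ p ^ j) ^ p ^ (s + 1) = 1 := by
        induction t with
        | zero => rw [pow_zero, pow_one] at ht; exact absurd ht hb1
        | succ t iht =>
          by_cases h' : (b ^ p ^ j) ^ p ^ t = 1
          · exact iht h'
          · exact ⟨t, h', ht⟩
      have hmem : (b ^ p ^ j) ^ p ^ s ∈ C := by
        refine ⟨⟨b ^ p ^ s, pow_mem hb _, ?_⟩, ?_⟩
        · simp only [powMonoidHom_apply]
          rw [← pow_mul, ← pow_mul, mul_comm]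
        · show ((b ^ p ^ j) ^ p ^ s) ^ p = 1
          rw [← pow_mul, ← pow_succ, hs2]
      rw [hC] at hmem
      exact hs1 hmem
    · have hmem : a ^ p ^ j ∈ C := (hC _).2 (by rw [← pow_mul, ← pow_succ, ha])
      obtain ⟨⟨b, hb, hbe⟩, -⟩ := hmem
      have := ih (by omega) (a * b⁻¹) (by
        rw [mul_pow, inv_pow, show b ^ p ^ j = a ^ p ^ j from hbe, mul_inv_cancel])
      have := mul_mem this hb
      rwa [inv_mul_cancel_right] at this

theorem indec_of_omega {p : ℕ} [Fact p.Prime] (hA : IsPGroup p A) {X : Subgroup (MulAut A)}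
    (h : Omega p X) (B C : Subgroup A) (hB : B ≠ ⊥) (hC : C ≠ ⊥) (hBi : Inv X B) (hCi : Inv X C) :
    B ⊓ C ≠ ⊥ := by
  obtain ⟨i, hi⟩ := h B hBi
  obtain ⟨j, hj⟩ := h C hCi
  have key : ∀ (D : Subgroup A) (i : ℕ), D ≠ ⊥ → (∀ a : A, a ∈ D ↔ a ^ p ^ i = 1) → 1 ≤ i := by
    intro D i hD hDi
    by_contra hlt
    apply hD
    rw [eq_bot_iff]
    intro a ha
    have := (hDi a).1 ha
    rw [show i = 0 by omega, pow_zero, pow_one] at this
    exact this
  haveI : Nontrivial A := (Subgroup.nontrivial_iff).1 (nontrivial_of_ne B ⊥ hB)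
  obtain ⟨k, hk, hkc⟩ := (hA.nontrivial_iff_card).1 inferInstance
  obtain ⟨z, hz⟩ := exists_prime_orderOf_dvd_card' (G := A) p (hkc ▸ dvd_pow_self p hk.ne')
  intro e
  have hz1 : ∀ m, 1 ≤ m → z ^ p ^ m = 1 := fun m hm => by
    obtain ⟨m, rfl⟩ := Nat.exists_eq_add_of_le hm
    rw [pow_add, pow_one, pow_mul, ← hz, pow_orderOf_eq_one, one_pow]
  have : z ∈ B ⊓ C := ⟨(hi z).2 (hz1 i (key B i hB hi)), (hj z).2 (hz1 j (key C j hC hj))⟩
  rw [e, mem_bot] at this
  rw [this, orderOf_one] at hz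
  exact (Fact.out : p.Prime).ne_one hz.symm

theorem decomposable {p : ℕ} [Fact p.Prime] (hA : IsPGroup p A) (X : Subgroup (MulAut A))
    (hX : (Nat.card X).Coprime p) (h : ¬ Irr p X) :
    ∃ B C : Subgroup A, B ≠ ⊥ ∧ C ≠ ⊥ ∧ Inv X B ∧ Inv X C ∧ B ⊓ C = ⊥ ∧ B ⊔ C = ⊤ := by
  classical
  unfold Irr at h
  push Not at h
  obtain ⟨U, hUi, hUp, hU0, hU1⟩ := h
  -- exponent
  obtain ⟨k, hk⟩ := IsPGroup.iff_card.1 hA
  have hex : ∃ i : ℕ, ∀ a : A, a ^ p ^ i = 1 := ⟨k, fun a => hk ▸ pow_card_eq_one'⟩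
  obtain ⟨e, he, hemin⟩ : ∃ e, (∀ a : A, a ^ p ^ (e + 1) = 1) ∧ ∃ a : A, a ^ p ^ e ≠ 1 := by
    rcases hf : Nat.find hex with _ | e
    · exfalso
      apply hU0
      rw [eq_bot_iff]
      intro a _
      have := Nat.find_spec hex a
      rw [hf, pow_zero, pow_one] at this
      exact this
    · refine ⟨e, hf ▸ Nat.find_spec hex, ?_⟩
      have := Nat.find_min hex (show e < Nat.find hex by omega)
      push Not at this
      exact this
  let W : Subgroup A := (powMonoidHom (p ^ e) : A →* A).range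
  have hWi : Inv X W := by
    rintro x _ _ ⟨a, rfl⟩; exact ⟨x a, by simp⟩
  have hW0 : W ≠ ⊥ := by
    obtain ⟨a, ha⟩ := hemin
    intro hb
    have : a ^ p ^ e ∈ W := ⟨a, rfl⟩
    rw [hb] at this
    exact ha this
  obtain ⟨U₀, ⟨hU₀0, hU₀W, hU₀i⟩, hU₀min⟩ := Set.Finite.exists_minimal
    (Set.toFinite {B : Subgroup A | B ≠ ⊥ ∧ B ≤ W ∧ Inv X B}) ⟨W, hW0, le_rfl, hWi⟩
  have hWp : ∀ w ∈ W, w ^ p = 1 := by
    rintro _ ⟨a, rfl⟩
    simp only [powMonoidHom_apply]
    rw [← pow_mul, ← pow_succ, he]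
  let O : Subgroup A := (powMonoidHom p : A →* A).ker
  have hOi : Inv X O := fun x _ a ha => by
    simp only [O, MonoidHom.mem_ker, powMonoidHom_apply] at ha ⊢
    rw [← map_pow, ha, map_one]
  have hU₀O : U₀ ≤ O := fun u hu => hWp u (hU₀W hu)
  obtain ⟨U', hU'O, hU'i, hU'd, hU's⟩ := exists_inv_compl_elementary hA X hX O U₀
    (fun v hv => hv) hOi hU₀i hU₀O
  have hU'0 : U' ≠ ⊥ := by
    intro e'
    rw [e', bot_sup_eq] at hU's
    have hU_le : U ≤ U₀ := fun u hu => hU's.ge (hUp u hu)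
    have : U₀ ≤ U := hU₀min ⟨hU0, hU_le.trans hU₀W, hUi⟩ hU_le
    obtain ⟨a, ha⟩ := hU1
    rcases ha with ⟨ha, hap⟩ | ⟨ha, hap⟩
    · exact hap (hUp a ha)
    · exact ha (this (hU's.ge hap))
  obtain ⟨D, ⟨hDU, hD'U, hDi⟩, hDmax⟩ := Set.Finite.exists_maximal
    (Set.toFinite {B : Subgroup A | B ⊓ U₀ = ⊥ ∧ U' ≤ B ∧ Inv X B}) ⟨U', hU'd, le_rfl, hU'i⟩
  have hlayer : ∀ x : A, x ^ p ∈ D → ∃ u ∈ U₀, x * u⁻¹ ∈ D := by
    -- the invariant complement inside the layer over `D`, computed in `A ⧸ D` by hand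
    let V : Subgroup A := D.comap (powMonoidHom p)
    have hVi : Inv X V := fun x hx v hv => by
      simp only [V, mem_comap, powMonoidHom_apply] at hv ⊢
      rw [← map_pow]; exact hDi x hx _ hv
    let q := QuotientGroup.mk' D
    let X' : X →* MulAut (A ⧸ D) :=
      { toFun := fun x => QuotientGroup.congr D D (x : MulAut A)
          ((inv_iff X D).1 hDi x x.2)
        map_one' := by ext z; obtain ⟨a, rfl⟩ := QuotientGroup.mk_surjective z; rfl
        map_mul' := fun a b => by ext z; obtain ⟨c, rfl⟩ := QuotientGroup.mk_surjective z; rfl }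
    obtain ⟨E, hEV, hEi, hEd, hEs⟩ := exists_inv_compl_elementary
      (hA.to_quotient D) X'.range (hX.coprime_dvd_left (card_range_dvd X'))
      (V.map q) (U₀.map q)
      (by rintro _ ⟨v, hv, rfl⟩
          rw [← map_pow]; exact (QuotientGroup.eq_one_iff _).2 hv)
      (by rintro _ ⟨x, rfl⟩ _ ⟨v, hv, rfl⟩; exact ⟨_, hVi x x.2 v hv, rfl⟩)
      (by rintro _ ⟨x, rfl⟩ _ ⟨v, hv, rfl⟩; exact ⟨_, hU₀i x x.2 v hv, rfl⟩)
      (map_mono fun u hu => by
        show u ^ p ∈ D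
        rw [hWp u (hU₀W hu)]; exact one_mem D)
    have hE' : E.comap q ≤ D := hDmax ⟨by
        rw [eq_bot_iff]
        rintro u ⟨hu1, hu2⟩
        have : q u ∈ E ⊓ U₀.map q := ⟨hu1, mem_map_of_mem q hu2⟩
        rw [hEd] at this
        exact hDU.le ⟨(QuotientGroup.eq_one_iff u).1 this, hu2⟩,
      fun u hu => by
        have : q u = 1 := (QuotientGroup.eq_one_iff u).2 (hD'U hu)
        show q u ∈ E
        rw [this]; exact one_mem E,
      fun x hx a ha => hEi _ ⟨⟨x, hx⟩, rfl⟩ _ ha⟩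
      (fun u hu => by
        have : q u = 1 := (QuotientGroup.eq_one_iff u).2 hu
        show q u ∈ E
        rw [this]; exact one_mem E)
    intro x hx
    obtain ⟨c, hc, z, hz, hcz⟩ := mem_sup.1 (hEs.ge (mem_map_of_mem q (show x ∈ V from hx)))
    obtain ⟨u, hu, rfl⟩ := hz
    obtain ⟨a, rfl⟩ := QuotientGroup.mk'_surjective D c
    refine ⟨u, hu, ?_⟩
    have : a ∈ D := hE' hc
    rw [← QuotientGroup.eq_one_iff]
    show q (x * u⁻¹) = 1
    rw [map_mul, map_inv, ← hcz, mul_inv_cancel_right]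
    exact (QuotientGroup.eq_one_iff a).2 this
  have hpure : ∀ j ≤ e + 1, ∀ x : A, x ^ p ^ j ∈ D → ∃ y : A, x * y⁻¹ ∈ D ∧ y ^ p ^ j = 1 := by
    intro j
    induction j with
    | zero =>
      intro _ x hx
      exact ⟨1, by simpa using hx, by simp⟩
    | succ j ih =>
      intro hj x hx
      obtain ⟨u, hu, hxu⟩ := hlayer (x ^ p ^ j) (by rwa [← pow_mul, ← pow_succ])
      obtain ⟨a, ha⟩ := hU₀W hu
      simp only [powMonoidHom_apply] at ha
      set b := a ^ p ^ (e - j) with hb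
      have hbu : b ^ p ^ j = u := by
        rw [hb, ← pow_mul, ← pow_add, Nat.sub_add_cancel (by omega), ha]
      obtain ⟨y, hy1, hy2⟩ := ih (by omega) (x * b⁻¹) (by rw [mul_pow, inv_pow, hbu]; exact hxu)
      refine ⟨y * b, ?_, ?_⟩
      · rwa [show x * (y * b)⁻¹ = x * b⁻¹ * y⁻¹ by rw [_root_.mul_inv_rev, mul_assoc]]
      · rw [mul_pow, pow_succ, pow_mul, hy2, one_pow, one_mul, pow_mul, hbu, hWp u (hU₀W hu)]
  have hpure' : ∀ (n : ℕ) (x : A), x ^ n ∈ D → ∃ y : A, x * y⁻¹ ∈ D ∧ y ^ n = 1 := by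
    intro n x hx
    rcases Nat.eq_zero_or_pos n with rfl | hn
    · exact ⟨x, by simp, pow_zero x⟩
    obtain ⟨j, m, hm, rfl⟩ := Nat.exists_eq_pow_mul_and_not_dvd hn.ne' p (Fact.out : p.Prime).ne_one
    by_cases hj : j ≤ e + 1
    · have hx' : x ^ p ^ j ∈ D := by
        have hc : (p ^ (e + 1)).Coprime m :=
          Nat.Coprime.pow_left _ ((Fact.out : p.Prime).coprime_iff_not_dvd.2 hm)
        obtain ⟨a', b', hab⟩ : ∃ a' b' : ℤ, a' * m + b' * (p ^ (e + 1) : ℕ) = 1 :=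
          Int.isCoprime_iff_nat_coprime.2 (by simpa using hc.symm)
        have h1 : (x ^ p ^ j) ^ (m : ℤ) ∈ D := by rwa [zpow_natCast, ← pow_mul]
        have h2 : (x ^ p ^ j) ^ ((p ^ (e + 1) : ℕ) : ℤ) ∈ D := by
          rw [zpow_natCast, he]; exact one_mem D
        have := mul_mem (D.zpow_mem h1 a') (D.zpow_mem h2 b')
        rwa [← zpow_mul, ← zpow_mul, ← zpow_add, mul_comm _ a', mul_comm _ b', hab,
          zpow_one] at this
      obtain ⟨y, hy1, hy2⟩ := hpure j hj x hx'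
      exact ⟨y, hy1, by rw [pow_mul, hy2, one_pow]⟩
    · refine ⟨x, by simp, ?_⟩
      obtain ⟨t, ht⟩ := Nat.exists_eq_add_of_le (show e + 1 ≤ j by omega)
      rw [ht, pow_add, mul_assoc, pow_mul, he, one_pow]
  obtain ⟨r, hr1, hr2⟩ := exists_retraction_pure D hpure'
  obtain ⟨C, hCi, hCD, hCs⟩ := exists_inv_compl hA X hX hDi r hr1 hr2
  refine ⟨C, D, fun e' => ?_, fun e' => hU'0 (eq_bot_iff.2 (e' ▸ hD'U)), hCi, hDi, hCD, hCs⟩
  rw [e', bot_sup_eq] at hCs
  rw [hCs, top_inf_eq] at hDU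
  exact hU₀0 hDU

/-- Let A be a finite abelian p-group and X a group of automorphisms of A of order prime to p. Call a subgroup of A invariant when every element of X maps it onto itself. Then the following are equivalent: (i) A is not the direct product of two nontrivial invariant subgroups; (ii) every invariant subgroup of A is one of the subgroups Ω_i(A) = {a : a^(p^i) = 1}; (iii) the subgroup Ω₁(A) of elements of order dividing p has no invariant subgroups other than 1 and itself. -/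
theorem result {A : Type*} [CommGroup A] [Finite A] {p : ℕ} [Fact p.Prime] (hA : IsPGroup p A) (X : Subgroup (MulAut A)) (hX : (Nat.card X).Coprime p) : ((¬ ∃ B C : Subgroup A, B ≠ ⊥ ∧ C ≠ ⊥ ∧ (∀ x ∈ X, B.map x.toMonoidHom = B) ∧ (∀ x ∈ X, C.map x.toMonoidHom = C) ∧ B ⊓ C = ⊥ ∧ B ⊔ C = ⊤) ↔ (∀ B : Subgroup A, (∀ x ∈ X, B.map x.toMonoidHom = B) → ∃ i : ℕ, ∀ a : A, a ∈ B ↔ a ^ p ^ i = 1)) ∧ ((∀ B : Subgroup A, (∀ x ∈ X, B.map x.toMonoidHom = B) → ∃ i : ℕ, ∀ a : A, a ∈ B ↔ a ^ p ^ i = 1) ↔ (∀ B : Subgroup A, (∀ x ∈ X, B.map x.toMonoidHom = B) → (∀ b ∈ B, b ^ p = 1) → B = ⊥ ∨ ∀ a : A, a ∈ B ↔ a ^ p = 1)) := by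
  simp only [← inv_iff]
  constructor
  · constructor
    · intro h
      apply omega_of_irr hA
      by_contra hn
      obtain ⟨B, C, h1, h2, h3, h4, h5, h6⟩ := decomposable hA X hX hn
      exact h ⟨B, C, h1, h2, h3, h4, h5, h6⟩
    · rintro h ⟨B, C, h1, h2, h3, h4, h5, -⟩
      exact indec_of_omega hA h B C h1 h2 h3 h4 h5
  · exact ⟨irr_of_omega, omega_of_irr hA⟩

end Cfsg.Agent.S3775
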