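import Cfsg.Statements.S3778
import Mathlib

set_option autoImplicit false
open Cfsg
open scoped commutatorElement

namespace Cfsg.Agent.S3778

open Subgroup in
/-- Each two-step centraliser avoided by `x` contributes a factor `p` to the index of `C(x)`. -/
theorem pow_le_index {G : Type*} [Group G] [Finite G] {p : ℕ} [Fact p.Prime] (hG : IsPGroup p G)
    (C : ℕ → Subgroup G)
    (hC : ∀ i g, g ∈ C i ↔ ∀ v ∈ (⊤ : Subgroup G).lowerCentralSeries i,
      ⁅v, g⁆ ∈ (⊤ : Subgroup G).lowerCentralSeries (i + 2))
    (x : G) [∀ i, Decidable (x ∈ C i)] (j : ℕ) :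
    p ^ ((Finset.range j).filter fun i => x ∉ C i).card ≤
      ((⊤ : Subgroup G).lowerCentralSeries j ⊔ centralizer ({x} : Set G)).index := by
  induction j with
  | zero =>
    simp
  | succ j ih =>
    have hle : (⊤ : Subgroup G).lowerCentralSeries (j + 1) ⊔ centralizer ({x} : Set G) ≤
        (⊤ : Subgroup G).lowerCentralSeries j ⊔ centralizer ({x} : Set G) :=
      sup_le_sup_right (Subgroup.lowerCentralSeries_antitone _ (Nat.le_succ j)) _
    rw [Finset.range_add_one, Finset.filter_insert]
    by_cases hx : x ∉ C j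
    · rw [if_pos hx, Finset.card_insert_of_notMem (by simp), pow_succ', ← relIndex_mul_index hle]
      refine Nat.mul_le_mul ?_ ih
      set A := (⊤ : Subgroup G).lowerCentralSeries j ⊔ centralizer ({x} : Set G)
      set B := (⊤ : Subgroup G).lowerCentralSeries (j + 1) ⊔ centralizer ({x} : Set G) with hB
      obtain ⟨k, hk⟩ := (hG.to_subgroup A).index (B.subgroupOf A)
      change B.relIndex A = p ^ k at hk
      rcases Nat.eq_zero_or_pos k with rfl | hk0
      · exfalso
        rw [pow_zero, relIndex_eq_one] at hk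
        refine hx ((hC j x).2 fun v hv => ?_)
        have hvB : v ∈ B := hk (mem_sup_left hv)
        obtain ⟨u, hu, d, hd, rfl⟩ := mem_sup_of_normal_left.1 hvB
        have hdx : ⁅d, x⁆ = 1 := commutatorElement_eq_one_iff_mul_comm.2 (mem_centralizer_singleton_iff.1 hd)
        have e : ⁅u * d, x⁆ = u * ⁅d, x⁆ * u⁻¹ * ⁅u, x⁆ := commutatorElement_mul_left_eq_conj_mul ..
        rw [e, hdx, mul_one, mul_inv_cancel, one_mul]
        exact commutator_mem_commutator hu (mem_top x)
      · rw [hk]; exact Nat.le_self_pow hk0.ne' p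
    · rw [if_neg hx]
      exact ih.trans (Nat.le_of_dvd (Nat.pos_of_ne_zero index_ne_zero_of_finite) (index_dvd_of_le hle))

open Subgroup in
/-- The class bound by the breadth. -/
theorem class_bound {G : Type*} [Group G] [Finite G] {p : ℕ} [hp : Fact p.Prime] (hG : IsPGroup p G)
    [Group.IsNilpotent G] (b : ℕ) (hb : ∀ x : G, (centralizer ({x} : Set G)).index ≤ p ^ b)
    (hc : 2 ≤ Group.nilpotencyClass G) : (Group.nilpotencyClass G - 1) * (p - 1) < b * p := by
  classical
  set c := Group.nilpotencyClass G with hcdef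
  let C : ℕ → Subgroup G := fun i =>
    (centralizer (((⊤ : Subgroup G).lowerCentralSeries i).map
      (QuotientGroup.mk' ((⊤ : Subgroup G).lowerCentralSeries (i + 2))) :
        Set (G ⧸ (⊤ : Subgroup G).lowerCentralSeries (i + 2)))).comap
      (QuotientGroup.mk' ((⊤ : Subgroup G).lowerCentralSeries (i + 2)))
  have hC : ∀ i g, g ∈ C i ↔ ∀ v ∈ (⊤ : Subgroup G).lowerCentralSeries i,
      ⁅v, g⁆ ∈ (⊤ : Subgroup G).lowerCentralSeries (i + 2) := by
    intro i g
    simp only [C, mem_comap, mem_centralizer_iff, coe_map, Set.forall_mem_image, SetLike.mem_coe]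
    refine forall₂_congr fun v _ => ?_
    rw [← QuotientGroup.eq_one_iff]
    rw [← QuotientGroup.mk'_apply, map_commutatorElement, commutatorElement_eq_one_iff_mul_comm]
  have hproper : ∀ i ∈ Finset.range (c - 1), p * Nat.card (C i) ≤ Nat.card G := by
    intro i hi
    rw [Finset.mem_range] at hi
    obtain ⟨k, hk⟩ := hG.index (C i)
    have h2 := (C i).card_mul_index
    rcases Nat.eq_zero_or_pos k with rfl | hk0
    · exfalso
      rw [pow_zero, index_eq_one] at hk
      have hle : (⊤ : Subgroup G).lowerCentralSeries (i + 1) ≤ (⊤ : Subgroup G).lowerCentralSeries (i + 2) := by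
        show ⁅(⊤ : Subgroup G).lowerCentralSeries i, (⊤ : Subgroup G)⁆ ≤ _
        rw [commutator_le]
        exact fun v hv g _ => (hC i g).1 (hk ▸ mem_top g) v hv
      have hstab : ∀ m, (⊤ : Subgroup G).lowerCentralSeries (i + 1) ≤
          (⊤ : Subgroup G).lowerCentralSeries (i + 1 + m) := by
        intro m
        induction m with
        | zero => exact le_rfl
        | succ m ih => exact hle.trans (commutator_mono ih le_rfl)
      have hbot : (⊤ : Subgroup G).lowerCentralSeries (i + 1) = ⊥ := le_bot_iff.1 ((hstab c).trans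
        ((Subgroup.lowerCentralSeries_antitone _ (Nat.le_add_left c (i + 1))).trans
          (Subgroup.lowerCentralSeries_eq_bot_iff_nilpotencyClass_le.2 le_rfl).le))
      have := Subgroup.lowerCentralSeries_eq_bot_iff_nilpotencyClass_le.1 hbot
      omega
    · rw [hk] at h2
      rw [← h2, mul_comm]
      exact Nat.mul_le_mul_left _ (Nat.le_self_pow hk0.ne' p)
  let w : G → ℕ := fun x => ((Finset.range (c - 1)).filter fun i => x ∉ C i).card
  have hw : ∀ x, w x ≤ b := fun x => by
    refine (Nat.pow_le_pow_iff_right hp.out.one_lt).1 ((pow_le_index hG C hC x (c - 1)).trans ?_)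
    exact (Nat.le_of_dvd (Nat.pos_of_ne_zero index_ne_zero_of_finite) (index_dvd_of_le le_sup_right)).trans (hb x)
  have := Fintype.ofFinite G
  have h1 : w 1 = 0 := by simp [w, one_mem]
  have hlt : ∑ x : G, w x < Fintype.card G * b := by
    have hb0 : b ≠ 0 := by
      rintro rfl
      obtain ⟨g, hg⟩ : ∃ g, g ∉ C 0 := by
        by_contra hall
        push Not at hall
        have := hproper 0 (by simp only [Finset.mem_range]; omega)
        rw [(eq_top_iff' _).2 hall, card_top] at this
        have := hp.out.two_le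
        nlinarith [Nat.card_pos (α := G)]
      have := hw g
      have h3 : 0 < w g := Finset.card_pos.2 ⟨0, by simp only [Finset.mem_filter, Finset.mem_range]; exact ⟨by omega, hg⟩⟩
      omega
    calc ∑ x : G, w x < ∑ _x : G, b :=
          Finset.sum_lt_sum (fun x _ => hw x) ⟨1, Finset.mem_univ _, by rw [h1]; omega⟩
      _ = Fintype.card G * b := by simp [mul_comm]
  have hsum : ∑ x : G, w x = ∑ i ∈ Finset.range (c - 1), (Fintype.card G - Nat.card (C i)) := by
    simp only [w, Finset.card_filter]
    rw [Finset.sum_comm]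
    refine Finset.sum_congr rfl fun i _ => ?_
    rw [← Finset.card_filter, Nat.card_eq_fintype_card, ← Fintype.card_subtype,
      Fintype.card_subtype_compl]
  have hge : (c - 1) * ((p - 1) * Fintype.card G) ≤ p * ∑ x : G, w x := by
    rw [hsum, Finset.mul_sum]
    calc (c - 1) * ((p - 1) * Fintype.card G)
        = ∑ _i ∈ Finset.range (c - 1), (p - 1) * Fintype.card G := by simp
      _ ≤ _ := by
        refine Finset.sum_le_sum fun i hi => ?_
        have h2 := hproper i hi
        rw [Nat.card_eq_fintype_card (α := G)] at h2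
        rw [Nat.sub_mul, one_mul, Nat.mul_sub]
        omega
  by_contra hcon
  have h3 := Nat.mul_lt_mul_of_pos_left hlt hp.out.pos
  have h4 := Nat.mul_le_mul_right (Fintype.card G) (not_lt.1 hcon)
  nlinarith

/-- If G is a finite p-group in which every conjugacy class has at most p^b elements (every element has centralizer of index at most p^b), then G is abelian when b = 0, and when b ≥ 1 its nilpotency class c satisfies (c − 1)(p − 1) < bp, that is c < bp/(p − 1) + 1, and hence c ≤ 2b. -/
theorem result {G : Type*} [Group G] [Finite G] {p : ℕ} [Fact p.Prime] (hG : IsPGroup p G) (b : ℕ) (hb : ∀ x : G, (Subgroup.centralizer ({x} : Set G)).index ≤ p ^ b) : ∃ c : ℕ, (⊤ : Subgroup G).lowerCentralSeries c = ⊥ ∧ (b ≠ 0 → (c - 1) * (p - 1) < b * p ∧ c ≤ 2 * b) ∧ (b = 0 → c ≤ 1) := by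
  have := hG.isNilpotent
  refine ⟨Group.nilpotencyClass G, Subgroup.lowerCentralSeries_eq_bot_iff_nilpotencyClass_le.2 le_rfl,
    fun hb0 => ?_, fun hb0 => ?_⟩
  · rcases le_or_gt (Group.nilpotencyClass G) 1 with h | h
    · refine ⟨?_, by omega⟩
      rw [show Group.nilpotencyClass G - 1 = 0 by omega, zero_mul]
      exact Nat.mul_pos (Nat.pos_of_ne_zero hb0) (Fact.out (p := p.Prime)).pos
    · have h2 := class_bound hG b hb h
      refine ⟨h2, ?_⟩
      have hp2 := (Fact.out (p := p.Prime)).two_le
      obtain ⟨q, rfl⟩ : ∃ q, p = q + 1 := ⟨p - 1, by omega⟩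
      rw [Nat.add_sub_cancel] at h2
      by_contra hcon
      have h5 : 2 * b * q ≤ (Group.nilpotencyClass G - 1) * q := Nat.mul_le_mul_right q (by omega)
      have h6 : b * 1 ≤ b * q := Nat.mul_le_mul_left b (by omega)
      nlinarith
  · subst hb0
    refine Subgroup.lowerCentralSeries_eq_bot_iff_nilpotencyClass_le.1 (le_bot_iff.1 ?_)
    show ⁅(⊤ : Subgroup G), (⊤ : Subgroup G)⁆ ≤ ⊥
    rw [Subgroup.commutator_le]
    intro x _ y _
    have hx := hb x
    rw [pow_zero] at hx
    have hx1 : (Subgroup.centralizer ({x} : Set G)).index = 1 :=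
      le_antisymm hx (Nat.pos_of_ne_zero Subgroup.index_ne_zero_of_finite)
    rw [Subgroup.index_eq_one] at hx1
    rw [Subgroup.mem_bot, commutatorElement_eq_one_iff_mul_comm]
    exact (Subgroup.mem_centralizer_singleton_iff.1 (hx1 ▸ Subgroup.mem_top y)).symm

end Cfsg.Agent.S3778
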