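import Cfsg.Statements.S3780
import Mathlib

set_option autoImplicit false
open Cfsg

namespace Cfsg.Agent.S3780

open Subgroup

theorem ker_pow_card_le {M : Type*} [AddCommGroup M] [Finite M] (D : AddMonoid.End M) :
    ∀ k : ℕ, Nat.card (AddMonoidHom.ker (D ^ k : AddMonoid.End M)) ≤
      Nat.card (AddMonoidHom.ker D) ^ k := by
  intro k
  induction k with
  | zero =>
    have : AddMonoidHom.ker ((D ^ 0 : AddMonoid.End M)) = ⊥ := by
      ext x
      exact Iff.rfl
    rw [this, AddSubgroup.card_bot, pow_zero]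
  | succ k ih =>
    let f : AddMonoidHom.ker (D ^ (k + 1) : AddMonoid.End M) →+
        AddMonoidHom.ker (D ^ k : AddMonoid.End M) :=
      (D.comp (AddSubgroup.subtype _)).codRestrict _ fun x => by
        exact (DFunLike.congr_fun (pow_succ D k) _).symm.trans (AddMonoidHom.mem_ker.mp x.2)
    rw [← AddSubgroup.card_mul_index f.ker, AddSubgroup.index_ker]
    refine le_trans ?_ (pow_succ' _ k).ge
    refine Nat.mul_le_mul ?_ ((AddSubgroup.card_le_card_addGroup f.range).trans ih)
    refine Nat.card_le_card_of_injective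
      (fun x => ⟨((x : AddMonoidHom.ker (D ^ (k + 1) : AddMonoid.End M)) : M),
        AddMonoidHom.mem_ker.mpr (congrArg Subtype.val (AddMonoidHom.mem_ker.mp x.2))⟩) ?_
    intro a b hab
    exact Subtype.ext (Subtype.ext (congrArg Subtype.val hab :))

theorem exists_generators {V : Type*} [CommGroup V] [Finite V] {p : ℕ} [hp : Fact p.Prime]
    (hV : IsPGroup p V) : ∀ (m : ℕ) (W : Subgroup V), W.index ≤ p ^ m →
      ∃ S : Finset V, S.card ≤ m ∧ W ⊔ closure (S : Set V) = ⊤ := by
  classical
  intro m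
  induction m with
  | zero =>
    intro W hW
    refine ⟨∅, le_rfl, ?_⟩
    have : W = ⊤ := index_eq_one.mp (by
      have := W.index_ne_zero_of_finite
      rw [pow_zero] at hW
      omega)
    simp [this]
  | succ m ih =>
    intro W hW
    by_cases hWt : W = ⊤
    · exact ⟨∅, by simp, by simp [hWt]⟩
    obtain ⟨v, hv⟩ : ∃ v, v ∉ W := by
      by_contra! h
      exact hWt (eq_top_iff.mpr fun x _ => h x)
    set W' := W ⊔ zpowers v with hW'
    have hlt : W'.index < W.index := index_strictAnti (lt_of_le_of_ne le_sup_left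
      fun e => hv (e.symm.le (le_sup_right (a := W) (mem_zpowers v))))
    obtain ⟨i, hi⟩ := hV.index W'
    obtain ⟨j, hj⟩ := hV.index W
    obtain ⟨S, hS, hSW⟩ := ih W' (by
      rw [hi]
      rw [hj] at hW hlt
      rw [hi] at hlt
      have h1 := (Nat.pow_lt_pow_iff_right hp.out.one_lt).mp hlt
      have h2 := (Nat.pow_le_pow_iff_right hp.out.one_lt).mp hW
      exact Nat.pow_le_pow_right hp.out.pos (by omega))
    refine ⟨insert v S, (Finset.card_insert_le _ _).trans (by omega), ?_⟩
    rw [Finset.coe_insert, Set.insert_eq, Subgroup.closure_union, ← sup_assoc]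
    rw [hW', zpowers_eq_closure] at hSW
    exact hSW

/-- Let V be a finite abelian p-group and α an automorphism of V of order p whose fixed-point subgroup has order p^n. Then V can be generated by pn elements: some subset of V with at most pn elements generates V. -/
theorem result {V : Type*} [CommGroup V] [Finite V] {p : ℕ} [Fact p.Prime] (hV : IsPGroup p V) (α : MulAut V) (hα : orderOf α = p) (n : ℕ) (hfix : Nat.card {v : V // α v = v} = p ^ n) : ∃ S : Finset V, S.card ≤ p * n ∧ Subgroup.closure (S : Set V) = ⊤ := by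
  set F : Subgroup V := (powMonoidHom p : V →* V).range with hF
  set Ω : Subgroup V := (powMonoidHom p : V →* V).ker with hΩdef
  have hΩ : ∀ v, v ∈ Ω ↔ v ^ p = 1 := fun v => Iff.rfl
  have hαΩ : ∀ v ∈ Ω, α v ∈ Ω := fun v hv => (hΩ _).mpr (by rw [← map_pow, (hΩ v).mp hv, map_one])
  let a : AddMonoid.End (Additive Ω) :=
    MonoidHom.toAdditive ((α.toMonoidHom.comp Ω.subtype).codRestrict Ω fun v => hαΩ v v.2)
  have ha : ∀ (k : ℕ) (v : Additive Ω),
      (((a ^ k) v).toMul : V) = (α ^ k) ((v.toMul : V)) := by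
    intro k
    induction k with
    | zero => intro v; rfl
    | succ k ih =>
      intro v
      rw [pow_succ', pow_succ']
      exact congrArg α (ih v)
  have hp0 : (p : AddMonoid.End (Additive Ω)) = 0 := by
    ext v
    rw [AddMonoid.End.natCast_apply]
    have h : v.toMul ^ p = (1 : Ω) := Subtype.ext (by simpa using (hΩ _).mp v.toMul.2)
    exact congrArg (fun y : Ω => ((Additive.ofMul y).toMul : V)) h
  have hap : a ^ p = 1 := by
    ext v
    refine ((ha p v).trans ?_)
    rw [← hα, pow_orderOf_eq_one]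
    rfl
  have hDp : (a - 1) ^ p = 0 := by
    obtain ⟨r, hr⟩ := (Commute.one_right (a - 1)).exists_add_pow_prime_eq (Fact.out : p.Prime)
    rw [sub_add_cancel, hap, one_pow, hp0] at hr
    simpa using hr.symm
  have hker : Nat.card (AddMonoidHom.ker (a - 1)) ≤ p ^ n := by
    rw [← hfix]
    refine Nat.card_le_card_of_injective (fun x => ⟨((x : Additive Ω).toMul : V), ?_⟩) ?_
    · have h1 : a (x : Additive Ω) = (x : Additive Ω) := sub_eq_zero.mp (AddMonoidHom.mem_ker.mp x.2)
      exact congrArg (fun y : Additive Ω => ((y.toMul : Ω) : V)) h1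
    · intro x y hxy
      have h := congrArg Subtype.val hxy
      exact Subtype.ext (Additive.toMul.injective (Subtype.ext h))
  have hΩcard : Nat.card Ω ≤ p ^ (p * n) := by
    calc Nat.card Ω = Nat.card (AddMonoidHom.ker ((a - 1) ^ p : AddMonoid.End (Additive Ω))) := by
          rw [hDp, show AddMonoidHom.ker (0 : AddMonoid.End (Additive Ω)) = ⊤ from
            eq_top_iff.mpr fun x _ => AddMonoidHom.mem_ker.mpr rfl, AddSubgroup.card_top]
          rfl
      _ ≤ _ := ker_pow_card_le _ p
      _ ≤ (p ^ n) ^ p := Nat.pow_le_pow_left hker p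
      _ = p ^ (p * n) := by rw [← pow_mul, mul_comm]
  have hFidx : F.index ≤ p ^ (p * n) := by
    refine le_trans (le_of_eq ?_) hΩcard
    have h1 := card_mul_index F
    rw [← card_mul_index Ω, hΩdef, index_ker, ← hF, mul_comm (Nat.card _) (Nat.card F)] at h1
    exact Nat.eq_of_mul_eq_mul_left Nat.card_pos h1
  obtain ⟨S, hS, hSt⟩ := exists_generators hV (p * n) F hFidx
  refine ⟨S, hS, eq_top_iff.mpr fun v _ => ?_⟩
  set H := closure (S : Set V)
  have hiter : ∀ k : ℕ, ∀ v : V, ∃ h ∈ H, ∃ w : V, v = h * w ^ p ^ k := by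
    intro k
    induction k with
    | zero => exact fun v => ⟨1, one_mem _, v, by simp⟩
    | succ k ih =>
      intro v
      obtain ⟨h, hh, w, rfl⟩ := ih v
      obtain ⟨f, hf, h', hh', rfl⟩ := mem_sup.mp (hSt.symm.le (mem_top w))
      obtain ⟨u, rfl⟩ := hf
      refine ⟨h * h' ^ p ^ k, mul_mem hh (pow_mem hh' _), u, ?_⟩
      rw [powMonoidHom_apply, mul_pow, ← pow_mul, ← pow_succ', mul_assoc, mul_comm (h' ^ p ^ k)]
  obtain ⟨e, he⟩ := hV.exists_card_eq
  obtain ⟨h, hh, w, rfl⟩ := hiter e v
  rw [← he, pow_card_eq_one', mul_one]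
  exact hh

end Cfsg.Agent.S3780
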