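import Cfsg.Statements.S3781
import Cfsg.Agent.LocalStructure.ThreeSubgroup

set_option autoImplicit false
open Cfsg

namespace Cfsg.Agent.S3781

open scoped commutatorElement

variable {G : Type*} [Group G]

/-- Iterated commutation with the whole group. -/
def comIter (X : Subgroup G) : ℕ → Subgroup G
  | 0 => X
  | k + 1 => ⁅comIter X k, (⊤ : Subgroup G)⁆

theorem comIter_normal (X : Subgroup G) [X.Normal] : ∀ k, (comIter X k).Normal
  | 0 => ‹_›
  | k + 1 => by
    haveI := comIter_normal X k
    exact Subgroup.commutator_normal _ _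

theorem comIter_comm (X : Subgroup G) : ∀ k, comIter ⁅X, (⊤ : Subgroup G)⁆ k = comIter X (k + 1)
  | 0 => rfl
  | k + 1 => by rw [comIter, comIter_comm X k]; rfl

theorem commutator_series_le : ∀ (n : ℕ) (X : Subgroup G) [X.Normal],
    ⁅X, (⊤ : Subgroup G).lowerCentralSeries n⁆ ≤ comIter X (n + 1)
  | 0, X, _ => le_rfl
  | n + 1, X, _ => by
    haveI := comIter_normal X (n + 2)
    rw [Subgroup.lowerCentralSeries_succ, Subgroup.commutator_comm X]
    refine LocalStructure.commutator_commutator_le_of_rotate Subgroup.le_normalizer_of_normal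
      Subgroup.le_normalizer_of_normal Subgroup.le_normalizer_of_normal ?_ ?_
    · rw [Subgroup.commutator_comm ⊤ X]
      exact (commutator_series_le n ⁅X, ⊤⁆).trans (comIter_comm X (n + 1)).le
    · exact Subgroup.commutator_mono (commutator_series_le n X) le_rfl

theorem rel_ne_zero [Finite G] {A B : Subgroup G} : A.relIndex B ≠ 0 :=
  Subgroup.index_ne_zero_of_finite

theorem eq_bot_of_le_commutator [Group.IsNilpotent G] {Y : Subgroup G} (h : Y ≤ ⁅Y, (⊤ : Subgroup G)⁆) : Y = ⊥ := by
  obtain ⟨c, hc⟩ := Subgroup.nilpotent_iff_lowerCentralSeries.mp ‹Group.IsNilpotent G›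
  have : ∀ k, Y ≤ (⊤ : Subgroup G).lowerCentralSeries k := by
    intro k
    induction k with
    | zero => exact le_top
    | succ k ih => exact h.trans (Subgroup.commutator_mono ih le_rfl)
  exact le_bot_iff.mp (hc ▸ this c)

/-- Let G be a finite p-group and n ≥ 1, and write γ_1(G) = G, γ_{k+1}(G) = [γ_k(G), G], and likewise γ_k(N) for a subgroup N. Let N be a normal subgroup of G contained in γ_n(G). If i > 1 and γ_{i+1}(N) ≠ 1, then |γ_i(N) : γ_{i+1}(N)| ≥ p^n. -/
theorem result {G : Type*} [Group G] [Finite G] {p : ℕ} [Fact p.Prime] (hG : IsPGroup p G) (n : ℕ) (hn : 1 ≤ n) (N : Subgroup G) [N.Normal] (hN : N ≤ (⊤ : Subgroup G).lowerCentralSeries (n - 1)) (i : ℕ) (hi : 1 < i) (hne : N.lowerCentralSeries i ≠ ⊥) : p ^ n ≤ (N.lowerCentralSeries i).relIndex (N.lowerCentralSeries (i - 1)) := by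
  haveI : Group.IsNilpotent G := hG.isNilpotent
  by_contra hlt
  push Not at hlt
  obtain ⟨m, rfl⟩ : ∃ m, i = m + 1 := ⟨i - 1, by omega⟩
  obtain ⟨n', rfl⟩ : ∃ m, n = m + 1 := ⟨n - 1, by omega⟩
  simp only [Nat.add_sub_cancel] at hlt hN
  refine hne (eq_bot_of_le_commutator ?_)
  set X := N.lowerCentralSeries m with hX
  set Y := N.lowerCentralSeries (m + 1) with hY
  have hnorm : ∀ k, (N.lowerCentralSeries k).Normal := by
    intro k
    induction k with
    | zero => exact ‹N.Normal›
    | succ k ih => haveI := ih; exact Subgroup.commutator_normal _ _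
  haveI : X.Normal := hnorm m
  haveI : Y.Normal := hnorm (m + 1)
  have hYX : Y ≤ X := N.lowerCentralSeries_antitone (Nat.le_succ m)
  -- the chain down to `Y`
  set Z : ℕ → Subgroup G := fun k => comIter X k ⊔ Y with hZ
  have hstep : ∀ k, Z k ≤ X := by
    intro k
    refine sup_le ?_ hYX
    induction k with
    | zero => exact le_rfl
    | succ k ih => exact (Subgroup.commutator_mono ih le_rfl).trans (Subgroup.commutator_le_left X ⊤)
  have hanti : ∀ k, Z (k + 1) ≤ Z k := fun k => by
    haveI := comIter_normal X k
    exact sup_le_sup_right (Subgroup.commutator_le_left _ ⊤) Y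
  have key : ∀ k, Z k = Y ∨ p ^ k ≤ (Z k).relIndex X := by
    intro k
    induction k with
    | zero =>
      right
      rw [pow_zero]
      exact Nat.pos_of_ne_zero rel_ne_zero
    | succ k ih =>
      rcases ih with h | h
      · exact Or.inl (le_antisymm (h ▸ hanti k) le_sup_right)
      by_cases heq : Z (k + 1) = Z k
      · -- a stationary step reaches `Y`
        left
        haveI : ((comIter X (k + 1)) ⊔ Y).Normal := by
          haveI := comIter_normal X (k + 1); infer_instance
        have h1 : ∀ j, Z k ≤ (⊤ : Subgroup G).lowerCentralSeries j ⊔ Y := by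
          intro j
          induction j with
          | zero => rw [Subgroup.lowerCentralSeries_zero, top_sup_eq]; exact le_top
          | succ j ihj =>
            rw [← heq]
            refine sup_le ?_ le_sup_right
            haveI : ((⊤ : Subgroup G).lowerCentralSeries (j + 1) ⊔ Y).Normal := inferInstance
            calc comIter X (k + 1) ≤ ⁅(⊤ : Subgroup G).lowerCentralSeries j ⊔ Y, (⊤ : Subgroup G)⁆ :=
                  Subgroup.commutator_mono (le_sup_left.trans ihj) le_rfl
              _ ≤ _ := by
                rw [Subgroup.commutator_le]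
                intro a ha b hb
                obtain ⟨l, hl, y, hy, rfl⟩ := Subgroup.mem_sup_of_normal_right.mp ha
                rw [show ⁅l * y, b⁆ = (l * ⁅y, b⁆ * l⁻¹) * ⁅l, b⁆ by simp only [commutatorElement_def]; group]
                exact mul_mem
                  ((inferInstance : ((⊤ : Subgroup G).lowerCentralSeries (j + 1) ⊔ Y).Normal).conj_mem _
                    (Subgroup.mem_sup_right (Subgroup.commutator_le_left Y ⊤ (Subgroup.commutator_mem_commutator hy hb))) l)
                  (Subgroup.mem_sup_left (Subgroup.commutator_mem_commutator hl hb))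
        obtain ⟨c, hc⟩ := Subgroup.nilpotent_iff_lowerCentralSeries.mp ‹Group.IsNilpotent G›
        have h2 := h1 c
        rw [hc, bot_sup_eq] at h2
        exact heq.trans (le_antisymm h2 le_sup_right)
      · right
        have h1 : p ≤ (Z (k + 1)).relIndex (Z k) := by
          obtain ⟨e, he⟩ := (hG.to_subgroup (Z k)).index ((Z (k + 1)).subgroupOf (Z k))
          have hne1 : (Z (k + 1)).relIndex (Z k) ≠ 1 := fun h1 =>
            heq (le_antisymm (hanti k) (Subgroup.relIndex_eq_one.mp h1))
          rw [Subgroup.relIndex] at hne1 ⊢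
          rw [he] at hne1 ⊢
          refine Nat.le_self_pow (fun h0 => hne1 ?_) p
          rw [h0, pow_zero]
        rw [← Subgroup.relIndex_mul_relIndex _ _ _ (hanti k) (hstep k), pow_succ']
        exact Nat.mul_le_mul h1 h
  have hZn : Z n' = Y := by
    rcases key (n' + 1) with h | h
    · rcases key n' with h' | h'
      · exact h'
      · by_contra hne'
        have h1 : (Z n').relIndex X < Y.relIndex X := by
          have h2 : Y ≤ Z n' := le_sup_right
          rw [← Subgroup.relIndex_mul_relIndex _ _ _ h2 (hstep n')]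
          refine lt_mul_of_one_lt_left (Nat.pos_of_ne_zero rel_ne_zero) ?_
          rcases Nat.lt_or_ge 1 (Y.relIndex (Z n')) with h3 | h3
          · exact h3
          · have h4 : Y.relIndex (Z n') ≠ 0 := rel_ne_zero
            exact absurd (le_antisymm (Subgroup.relIndex_eq_one.mp (by omega)) h2) hne'
        have h5 : p ^ (n' + 1) ≤ Y.relIndex X := by
          obtain ⟨e, he⟩ := (hG.to_subgroup X).index (Y.subgroupOf X)
          rw [← Subgroup.relIndex] at he
          rw [he] at h1 ⊢
          exact Nat.pow_le_pow_right (Fact.out : p.Prime).pos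
            ((Nat.pow_lt_pow_iff_right (Fact.out : p.Prime).one_lt).mp (h'.trans_lt h1))
        exact absurd h5 (not_le.mpr hlt)
    · exact absurd (h.trans (Nat.le_of_dvd (Nat.pos_of_ne_zero rel_ne_zero)
        (Subgroup.relIndex_dvd_of_le_left _ (le_sup_right : Y ≤ Z (n' + 1))))) (not_le.mpr hlt)
  have h1 : Y ≤ comIter X (n' + 1) :=
    (Subgroup.commutator_mono le_rfl hN).trans (commutator_series_le n' X)
  refine h1.trans (Subgroup.commutator_mono ?_ le_rfl)
  exact hZn ▸ le_sup_left

end Cfsg.Agent.S3781
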