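import Cfsg.Statements.S3784
import Mathlib
set_option autoImplicit false
open Cfsg

namespace Cfsg.Agent.S3784

theorem natAbs_pow_sub_one {x : ℤ} (hx : Odd x) {n : ℕ} (hn : Odd n) {k : ℕ}
    (h : (x ^ n - 1).natAbs = 2 ^ k) : (x - 1).natAbs = 2 ^ k := by
  have hS := geom_sum_mul x n
  rw [← hS, Int.natAbs_mul] at h
  have hodd : Odd (∑ i ∈ Finset.range n, x ^ i).natAbs := by
    rw [Int.natAbs_odd, ← Int.not_even_iff_odd, ← ZMod.intCast_eq_zero_iff_even]
    push_cast
    rw [(ZMod.intCast_eq_one_iff_odd.mpr hx)]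
    simp [ZMod.natCast_eq_zero_iff_even, hn]
  have h1 : (∑ i ∈ Finset.range n, x ^ i).natAbs = 1 :=
    Nat.eq_one_of_dvd_coprimes ((Nat.coprime_two_right.mpr hodd).pow_right k) dvd_rfl (h ▸ dvd_mul_right _ _)
  rw [h1, one_mul] at h
  exact h


/-- Let p, q be primes and a, b positive integers with p^a = q^b + 1. Then either p = 2, b = 1, a is prime and q = 2^a − 1; or q = 2, a = 1, b is a power of 2 and p = 2^b + 1; or p^a = 9 and q^b = 8. -/
theorem result (p q a b : ℕ) (hp : p.Prime) (hq : q.Prime) (ha : 1 ≤ a) (hb : 1 ≤ b) (h : p ^ a = q ^ b + 1) : (p = 2 ∧ b = 1 ∧ a.Prime ∧ q + 1 = 2 ^ a) ∨ (q = 2 ∧ a = 1 ∧ (∃ m : ℕ, b = 2 ^ m) ∧ p = 2 ^ b + 1) ∨ (p ^ a = 9 ∧ q ^ b = 8) := by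
  rcases hp.eq_two_or_odd' with rfl | hpo
  · have hqo : Odd q := by
      rcases hq.eq_two_or_odd' with rfl | h'
      · exfalso
        have h1 : (2 : ℕ) ∣ 2 ^ a := dvd_pow_self 2 (by omega)
        have h2 : (2 : ℕ) ∣ 2 ^ b := dvd_pow_self 2 (by omega)
        omega
      · exact h'
    rcases Nat.even_or_odd b with ⟨c, rfl⟩ | hbo
    · exfalso
      obtain ⟨r, hr⟩ : Odd (q ^ c) := hqo.pow
      have h1 : q ^ (c + c) + 1 = 4 * (r * r + r) + 2 := by rw [pow_add, hr]; ring
      rcases Nat.lt_or_ge a 2 with ha2 | ha2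
      · obtain rfl : a = 1 := by omega
        have h3 := Nat.le_self_pow (show c + c ≠ 0 by omega) q
        have := hq.two_le
        omega
      · have : (4 : ℕ) ∣ 2 ^ a := pow_dvd_pow 2 ha2
        omega
    · have h1 := natAbs_pow_sub_one (x := -(q : ℤ)) (by simpa using hqo) hbo (k := a) (by
        rw [hbo.neg_pow, ← Int.natAbs_neg]
        simp only [neg_sub, sub_neg_eq_add]
        rw [← Nat.cast_pow, show (1 : ℤ) = ((1 : ℕ) : ℤ) from rfl, ← Nat.cast_add, Int.natAbs_natCast]
        omega)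
      have hq1 : q + 1 = 2 ^ a := by omega
      have hb1 : b = 1 := by
        have h2 : q ^ b = q ^ 1 := by rw [pow_one]; omega
        exact Nat.pow_right_injective hq.two_le h2
      subst hb1
      refine Or.inl ⟨rfl, rfl, ?_, hq1⟩
      have ha2 : a ≠ 1 := by
        rintro rfl
        have := hq.two_le
        omega
      exact (Nat.prime_of_pow_sub_one_prime ha2 (by rw [← hq1, Nat.add_sub_cancel]; exact hq)).2
  · obtain rfl : q = 2 := by
      rcases hq.eq_two_or_odd' with h' | h'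
      · exact h'
      · exfalso
        exact Nat.not_even_iff_odd.mpr (hpo.pow (n := a)) (h ▸ (h'.pow (n := b)).add_one)
    rcases Nat.even_or_odd a with ⟨c, rfl⟩ | hao
    · obtain ⟨x, hx⟩ : ∃ x, p ^ c = x + 1 := ⟨p ^ c - 1, by have := Nat.one_le_pow c p hp.pos; omega⟩
      have h1 : x * (x + 2) = 2 ^ b := by
        rw [pow_add, hx] at h
        nlinarith
      obtain ⟨i, hi, hi'⟩ := (Nat.dvd_prime_pow Nat.prime_two).mp (h1 ▸ dvd_mul_right x (x + 2))
      obtain ⟨j, hj, hj'⟩ := (Nat.dvd_prime_pow Nat.prime_two).mp (h1 ▸ dvd_mul_left (x + 2) x)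
      have hx2 : x = 2 := by
        subst hi'
        rcases Nat.lt_or_ge i 2 with hi2 | hi2
        · interval_cases i
          · norm_num at hj'
            rcases j with _ | j
            · norm_num at hj'
            · have : (2 : ℕ) ∣ 3 := hj' ▸ dvd_pow_self 2 j.succ_ne_zero
              omega
          · norm_num
        · have h4 : (4 : ℕ) ∣ 2 ^ i := pow_dvd_pow 2 hi2
          rcases Nat.lt_or_ge j 2 with hj2 | hj2
          · have : 2 ^ j ≤ 2 ^ 1 := Nat.pow_le_pow_right (by norm_num) (by omega)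
            rw [pow_one] at this
            have := Nat.one_le_two_pow (n := i)
            omega
          · have : (4 : ℕ) ∣ 2 ^ j := pow_dvd_pow 2 hj2
            omega
      subst hx2
      refine Or.inr (Or.inr ⟨by rw [pow_add, hx]; norm_num, ?_⟩)
      rw [pow_add, hx] at h
      omega
    · have h1 := natAbs_pow_sub_one (x := (p : ℤ)) (by exact_mod_cast hpo) hao (k := b) (by
        have : ((p : ℤ) ^ a) = 2 ^ b + 1 := by exact_mod_cast h
        rw [this, add_sub_cancel_right]
        exact Int.natAbs_pow 2 b)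
      have hp1 : p = 2 ^ b + 1 := by have := hp.one_le; omega
      have ha1 : a = 1 := Nat.pow_right_injective hp.two_le (show p ^ a = p ^ 1 by rw [pow_one]; omega)
      refine Or.inr (Or.inl ⟨rfl, ha1, ?_, hp1⟩)
      exact Nat.pow_of_pow_add_prime (a := 2) (by norm_num) (by omega) (hp1 ▸ hp)

end Cfsg.Agent.S3784
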