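import Cfsg.Statements.S3785
import Cfsg.Agent.LocalStructure.OmegaAction
import Cfsg.Agent.Core.Fitting
import Cfsg.Agent.Coprime.Generation
-- import your own Cfsg.Agent.* helpers here

set_option autoImplicit false
open Cfsg

namespace Cfsg.Agent.S3785
open scoped Pointwise

/-- Let G be a finite solvable group whose Fitting subgroup F(G) has odd order. If an element g of G commutes with every element of prime order of F(G), then g ∈ F(G). -/
theorem result {G : Type*} [Group G] [Finite G] (hG : Group.IsSolvable G) (hodd : Odd (Nat.card (Cfsg.fittingSubgroup G))) (g : G) (hg : ∀ x ∈ Cfsg.fittingSubgroup G, (orderOf x).Prime → g * x = x * g) : g ∈ Cfsg.fittingSubgroup G := by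
  classical
  haveI := hG
  set F := Cfsg.fittingSubgroup G with hF
  have hFn : F.Normal := inferInstance
  set S : Set G := {x | x ∈ F ∧ (orderOf x).Prime} with hS
  set H : Subgroup G := Subgroup.centralizer S with hH
  have hHn : H.Normal := by
    rw [← Subgroup.normalizer_eq_top_iff, eq_top_iff]
    refine Coprime.le_normalizer_centralizer fun a _ => ?_
    rw [Subgroup.mem_set_normalizer_iff]
    intro x
    have e : orderOf (a * x * a⁻¹) = orderOf x := MulEquiv.orderOf_eq (MulAut.conj a) x
    refine ⟨fun hx => ⟨hFn.conj_mem x hx.1 a, by rw [e]; exact hx.2⟩, fun hx => ⟨?_, e ▸ hx.2⟩⟩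
    have := hFn.conj_mem _ hx.1 a⁻¹
    simpa [mul_assoc] using this
  -- elements of prime power order in the Fitting subgroup
  have hel : ∀ (r : ℕ) [Fact r.Prime], ∀ R : Subgroup G, R ≤ F → IsPGroup r R → R ≤ Cfsg.pCore r G := by
    intro r _ R hRF hR
    haveI : Group.IsNilpotent F := Core.fittingSubgroup_isNilpotent
    obtain ⟨P, hP⟩ := (hR.comap_of_injective F.subtype F.subtype_injective).exists_le_sylow
    have hPc : (P : Subgroup F).Characteristic := P.characteristic_of_normal inferInstance
    haveI : ((P : Subgroup F).map F.subtype).Normal := inferInstance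
    refine le_trans ?_ (Core.le_pCore (P.2.map F.subtype))
    intro x hx
    exact ⟨⟨x, hRF hx⟩, hP hx, rfl⟩
  -- `p`-cores are centralised by the `p'`-elements of `H`
  have hcent : ∀ (r q : ℕ) [Fact r.Prime] [Fact q.Prime], r ≠ q → ∀ Q : Subgroup G, Q ≤ H →
      IsPGroup q Q → Q ≤ Subgroup.centralizer (Cfsg.pCore r G : Set G) := by
    intro r q _ _ hrq Q hQH hQ
    have hrF : Cfsg.pCore r G ≤ F := Core.pCore_le_fittingSubgroup r
    by_cases hr2 : r = 2
    · -- the Fitting subgroup has odd order
      subst hr2
      have hbot : Cfsg.pCore 2 G = ⊥ := by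
        obtain ⟨n, hn⟩ := IsPGroup.iff_card.mp (Core.pCore_isPGroup (p := 2) (G := G))
        rcases Nat.eq_zero_or_pos n with rfl | hn0
        · exact Subgroup.card_eq_one.mp (by rw [hn, pow_zero])
        · exact absurd (even_iff_two_dvd.mpr ((dvd_pow_self 2 hn0.ne').trans
            (hn ▸ Subgroup.card_dvd_of_le hrF))) (Nat.not_even_iff_odd.mpr hodd)
      rw [hbot]
      intro x _
      simp [Subgroup.mem_centralizer_iff]
    refine LocalStructure.le_centralizer_of_fixes_omega hr2 Core.pCore_isPGroup
      Subgroup.le_normalizer_of_normal ?_ fun v hv hv1 a ha => ?_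
    · obtain ⟨n, hn⟩ := IsPGroup.iff_card.mp hQ
      rw [hn]
      exact Nat.Coprime.pow_left n ((Nat.coprime_primes Fact.out Fact.out).mpr (Ne.symm hrq))
    · by_cases h1 : v = 1
      · simp [h1]
      · exact (Subgroup.mem_centralizer_iff.mp (hQH ha) v
          ⟨hrF hv, by rw [orderOf_eq_prime hv1 h1]; exact Fact.out⟩).symm
  have hCF : ∀ x : G, (∀ r : Nat.Primes, x ∈ Subgroup.centralizer (Cfsg.pCore (r : ℕ) G : Set G)) → x ∈ F := by
    intro x hx
    refine Core.centralizer_fittingSubgroup_le ?_
    have h1 : Cfsg.fittingSubgroup G ≤ Subgroup.centralizer ({x} : Set G) := by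
      rw [Core.fittingSubgroup_eq_iSup_pCore]
      exact iSup_le fun r y hy => Subgroup.mem_centralizer_singleton_iff.mpr
        (Subgroup.mem_centralizer_iff.mp (hx r) y hy)
    exact Subgroup.mem_centralizer_iff.mpr fun y hy => Subgroup.mem_centralizer_singleton_iff.mp (h1 hy)
  -- so all Sylow subgroups of `H` are normal in `H`
  have hnil : Group.IsNilpotent H := by
    refine ((isNilpotent_of_finite_tfae (G := H)).out 0 3).mpr ?_
    intro q hqf Q
    haveI := hqf
    set QG : Subgroup G := (Q : Subgroup H).map H.subtype with hQG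
    have hQH : QG ≤ H := Subgroup.map_subtype_le _
    have hQp : IsPGroup q QG := Q.2.map _
    have hOq : H ⊓ Cfsg.pCore q G ≤ QG := by
      have h1 : ((H ⊓ Cfsg.pCore q G).subgroupOf H) ≤ (Q : Subgroup H) :=
        (IsPGroup.comap_of_injective ((Core.pCore_isPGroup (p := q)).to_le inf_le_right)
          H.subtype H.subtype_injective).le_sylow_of_normal Q
      intro x hx
      exact ⟨⟨x, hx.1⟩, h1 hx, rfl⟩
    have hZ : H ⊓ F ≤ Subgroup.normalizer (QG : Set G) := by
      refine Coprime.le_of_forall_sylow_le fun r hr => ?_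
      haveI := Fact.mk hr
      obtain ⟨R⟩ : Nonempty (Sylow r ↥(H ⊓ F)) := inferInstance
      refine ⟨R, ?_⟩
      have hR := hel r _ ((Subgroup.map_subtype_le (R : Subgroup ↥(H ⊓ F))).trans inf_le_right) (R.2.map _)
      by_cases hrq : r = q
      · subst hrq
        exact ((le_inf ((Subgroup.map_subtype_le _).trans inf_le_left) hR).trans hOq).trans
          Subgroup.le_normalizer
      · exact hR.trans ((Subgroup.le_centralizer_iff.mp (hcent r q hrq QG hQH hQp)).trans
          (Subgroup.centralizer_le_normalizer _))
    have hK : H ≤ Subgroup.normalizer (QG : Set G) := by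
      refine Coprime.le_of_forall_sylow_le fun r hr => ?_
      haveI := Fact.mk hr
      by_cases hrq : r = q
      · subst hrq
        exact ⟨Q, Subgroup.le_normalizer⟩
      obtain ⟨R⟩ : Nonempty (Sylow r H) := inferInstance
      refine ⟨R, fun k hk => ?_⟩
      have hRH : (R : Subgroup H).map H.subtype ≤ H := Subgroup.map_subtype_le _
      have hRp : IsPGroup r ((R : Subgroup H).map H.subtype) := R.2.map _
      have key : ∀ h ∈ QG, k * h * k⁻¹ * h⁻¹ ∈ H ⊓ F := by
        intro h hh
        refine ⟨H.mul_mem (H.mul_mem (H.mul_mem (hRH hk) (hQH hh)) (H.inv_mem (hRH hk)))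
          (H.inv_mem (hQH hh)), hCF _ fun s => ?_⟩
        haveI := Fact.mk s.2
        by_cases hsq : (s : ℕ) = q
        · have hk' := hcent s r (by rw [hsq]; exact Ne.symm hrq) _ hRH hRp hk
          have hn : h ∈ Subgroup.normalizer
              (Subgroup.centralizer (Cfsg.pCore (s : ℕ) G : Set G) : Set G) :=
            Coprime.le_normalizer_centralizer Subgroup.le_normalizer_of_normal (Subgroup.mem_top h)
          have h2 := (Subgroup.mem_normalizer_iff.mp hn k⁻¹).mp (inv_mem hk')
          have := Subgroup.mul_mem _ hk' h2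
          simpa [mul_assoc] using this
        · have hh' := hcent s q hsq _ hQH hQp hh
          have hn : k ∈ Subgroup.normalizer
              (Subgroup.centralizer (Cfsg.pCore (s : ℕ) G : Set G) : Set G) :=
            Coprime.le_normalizer_centralizer Subgroup.le_normalizer_of_normal (Subgroup.mem_top k)
          exact Subgroup.mul_mem _ ((Subgroup.mem_normalizer_iff.mp hn h).mp hh') (inv_mem hh')
      -- `k` normalises `Q (H ⊓ F)`, in which `Q` is the only Sylow subgroup
      have hJ : MulAut.conj k • QG ≤ (H ⊓ F) ⊔ QG := by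
        intro x hx
        rw [Coprime.mem_conj_smul] at hx
        have := Subgroup.mul_mem_sup (key _ hx) hx
        simpa [mul_assoc] using this
      refine Coprime.mem_normalizer_of_conj_smul_eq (Subgroup.eq_of_le_of_card_ge ?_
        (Coprime.card_conj_smul k QG).ge)
      set J := (H ⊓ F) ⊔ QG with hJdef
      have hn : (QG.subgroupOf J).Normal :=
        Subgroup.normal_subgroupOf_of_le_normalizer (sup_le hZ Subgroup.le_normalizer)
      have hQJ : QG ≤ J := le_sup_right
      obtain ⟨P, hP⟩ := ((hQp.comap_of_injective J.subtype J.subtype_injective :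
        IsPGroup q (QG.subgroupOf J))).exists_le_sylow
      have hPeq : (P : Subgroup J) = QG.subgroupOf J := by
        have hmax : (P : Subgroup J).map J.subtype ≤ H := (Subgroup.map_subtype_le _).trans
          (sup_le inf_le_left hQH)
        have h3 : ((P : Subgroup J).map J.subtype).subgroupOf H = (Q : Subgroup H) := by
          refine Q.3 ((P.2.map J.subtype).comap_of_injective H.subtype H.subtype_injective) ?_
          intro y hy
          exact ⟨⟨y, hQJ (Subgroup.mem_map_of_mem _ hy)⟩, hP (Subgroup.mem_map_of_mem _ hy), rfl⟩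
        refine le_antisymm (fun y hy => ?_) hP
        refine ⟨⟨y, hmax (Subgroup.mem_map_of_mem _ hy)⟩, ?_, rfl⟩
        rw [← h3]
        exact Subgroup.mem_map_of_mem _ hy
      haveI : (P : Subgroup J).Normal := hPeq ▸ hn
      intro x hx
      have hCp : IsPGroup q (MulAut.conj k • QG : Subgroup G) := by
        rw [Coprime.conj_smul_eq_map]; exact hQp.map _
      have hmem : (⟨x, hJ hx⟩ : J) ∈ (P : Subgroup J) := by
        obtain ⟨P', hP'⟩ := (hCp.comap_of_injective J.subtype J.subtype_injective).exists_le_sylow
        haveI := P.unique_of_normal inferInstance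
        exact (Subsingleton.elim P' P ▸ hP') hx
      rw [hPeq] at hmem
      exact hmem
    refine ⟨fun x hx h => ?_⟩
    have hmem := (Subgroup.mem_normalizer_iff.mp (hK h.2) (x : G)).mp (Subgroup.mem_map_of_mem _ hx)
    obtain ⟨y, hy, hyx⟩ := hmem
    rwa [show h * x * h⁻¹ = y from Subtype.ext hyx.symm]
  haveI := hHn
  refine Core.le_fittingSubgroup hnil ?_
  rw [hH, Subgroup.mem_centralizer_iff]
  exact fun x hx => (hg x hx.1 hx.2).symm

end Cfsg.Agent.S3785
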