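import Cfsg.Statements.S3788
import Cfsg.Agent.Fusion.CyclicNormal

set_option autoImplicit false
open Cfsg

namespace Cfsg.Agent.S3788

/-- Let G be a finite p-soluble group, P a Sylow p-subgroup of G and A a cyclic normal subgroup of P. If p is odd, or if no section of G is isomorphic to the symmetric group of degree 4, then A ≤ O_{p',p}(G). -/
theorem result {G : Type*} [Group G] [Finite G] {p : ℕ} [Fact p.Prime] (hG : Cfsg.IsPSolvable p G) (P : Sylow p G) (A : Subgroup G) (hAP : A ≤ (P : Subgroup G)) (hAn : (P : Subgroup G) ≤ Subgroup.normalizer (A : Set G)) (hA : IsCyclic A) (h : p ≠ 2 ∨ ¬ Cfsg.Involves (Equiv.Perm (Fin 4)) G) : A ≤ Cfsg.pPrimePCore p G := by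
  set f := QuotientGroup.mk' (Cfsg.pPrimeCore p G) with hf
  have hfs := QuotientGroup.mk'_surjective (Cfsg.pPrimeCore p G)
  obtain ⟨⟨a, haA⟩, hgen⟩ := hA.exists_generator
  have hzA : Subgroup.zpowers a = A := by
    refine le_antisymm (Subgroup.zpowers_le.mpr haA) fun x hx => ?_
    obtain ⟨i, hi⟩ := Subgroup.mem_zpowers_iff.mp (hgen ⟨x, hx⟩)
    exact ⟨i, congrArg Subtype.val hi⟩
  have key : f a ∈ Cfsg.pCore p (G ⧸ Cfsg.pPrimeCore p G) := by
    refine Fusion.mem_pCore_of_zpowers_normalized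
      (Layer.pCoreSelfCentral_of_isPSolvable (Layer.isPSolvable_of_surjective hG hfs)
        Core.pPrimeCore_quotient_eq_bot)
      (h.imp_right fun h1 h2 => h1 (QdFree.involves_of_surjective h2 hfs)) ?_ fun v hv => ?_
    · rw [← MonoidHom.map_zpowers]
      exact (P.isPGroup'.to_le (hzA.le.trans hAP)).map f
    · obtain ⟨x, hx, rfl⟩ : v ∈ (P : Subgroup G).map f :=
        Core.pCore_le_sylow (P.mapSurjective hfs) hv
      rw [← map_inv, ← map_mul, ← map_mul, ← MonoidHom.map_zpowers, hzA]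
      exact Subgroup.mem_map_of_mem f ((Subgroup.mem_normalizer_iff.mp (hAn hx) a).mp haA)
  rw [← hzA, Subgroup.zpowers_le]
  exact key

end Cfsg.Agent.S3788
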