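import Cfsg.Statements.S3790
import Cfsg.Agent.PLength.Basic

set_option autoImplicit false
open Cfsg

namespace Cfsg.Agent.S3790

universe u

theorem aux (p : ℕ) [hp : Fact p.Prime] (l : ℕ → ℕ) : ∀ (s : Finset ℕ),
    (∀ q ∈ s, q.Prime ∧ q ≠ p) → ∀ (G : Type u) [Group G] [Finite G],
    (∀ r : ℕ, r.Prime → r ∣ Nat.card G → r = p ∨ r ∈ s) →
    (∀ q ∈ s, Cfsg.PLengthLE q (l q) G) → Cfsg.PLengthLE p (∏ q ∈ s, (1 + l q)) G := by
  intro s
  induction s using Finset.induction_on with
  | empty =>
    intro _ G _ _ hcov _
    rw [Finset.prod_empty]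
    refine PLength.pLengthLE_one_of_isPGroup (IsPGroup.of_card (n := (Nat.card G).factorization p) ?_)
    refine Nat.eq_pow_of_factorization_eq_single Nat.card_pos.ne' (Finsupp.ext fun r => ?_)
    by_cases hr : r = p
    · subst hr; rw [Finsupp.single_eq_same]
    · rw [Finsupp.single_eq_of_ne hr, Nat.factorization_eq_zero_iff]
      by_contra hcon
      push Not at hcon
      exact hr ((hcov r hcon.1 hcon.2.1).resolve_right (Finset.notMem_empty r))
  | insert q s hqs ih =>
    intro hs G _ _ hcov hl
    obtain ⟨hq, hqp⟩ := hs q (Finset.mem_insert_self q s)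
    haveI := Fact.mk hq
    rw [Finset.prod_insert hqs]
    set B := ∏ x ∈ s, (1 + l x)
    have hchain := PLength.isChain_upper (p := q) (G := G)
    let U := PLength.upper q G
    have key : ∀ j, Cfsg.PLengthLE p ((j + 1) / 2 * B) (U j) := by
      intro j
      induction j with
      | zero =>
        refine PLength.pLengthLE_zero_of_coprime ?_ |> fun h => by simpa using h
        rw [show U 0 = ⊥ from rfl, Subgroup.card_bot]
        exact Nat.coprime_one_left p
      | succ j ihj =>
        let N : Subgroup (U (j + 1)) := (U j).subgroupOf (U (j + 1))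
        haveI : N.Normal := (PLength.upper_normal j).comap _
        have hN : Cfsg.PLengthLE p ((j + 1) / 2 * B) N :=
          PLength.of_surjective ihj (Subgroup.subgroupOfEquivOfLe (hchain.le j)).symm.toMonoidHom
            (MulEquiv.surjective _)
        have hstep : PLength.Step q j (Nat.card (U (j + 1) ⧸ N)) := hchain.step j
        have hcard : Nat.card (U (j + 1) ⧸ N) ∣ Nat.card G :=
          (Subgroup.index_dvd_card N).trans (Subgroup.card_subgroup_dvd_card _)
        unfold PLength.Step at hstep
        by_cases hj : Even j
        · rw [if_pos hj] at hstep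
          have hB : Cfsg.PLengthLE p B (U (j + 1) ⧸ N) := by
            refine ih (fun x hx => hs x (Finset.mem_insert_of_mem hx)) _ (fun r hr hrd => ?_) fun x hx => ?_
            · rcases hcov r hr (hrd.trans hcard) with h | h
              · exact Or.inl h
              · refine Or.inr ((Finset.mem_insert.1 h).resolve_left fun e => ?_)
                exact hq.coprime_iff_not_dvd.1 hstep.symm (e ▸ hrd)
            · haveI := Fact.mk (hs x (Finset.mem_insert_of_mem hx)).1
              exact PLength.of_surjective
                (PLength.of_injective (hl x (Finset.mem_insert_of_mem hx)) (U (j + 1)).subtype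
                  (U (j + 1)).subtype_injective) (QuotientGroup.mk' N) (QuotientGroup.mk'_surjective N)
          obtain ⟨i, rfl⟩ := even_iff_two_dvd.1 hj
          have h := PLength.of_extension N hN hB
          rwa [show (2 * i + 1) / 2 = i by omega, ← Nat.succ_mul,
            show i.succ = (2 * i + 1 + 1) / 2 by omega] at h
        · rw [if_neg hj] at hstep
          obtain ⟨m, hm⟩ := hstep
          have h0 : Cfsg.PLengthLE p 0 (U (j + 1) ⧸ N) := PLength.pLengthLE_zero_of_coprime (by
            rw [hm]; exact ((Nat.coprime_primes hq hp.out).2 hqp).pow_left m)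
          have h := PLength.of_extension N hN h0
          refine PLength.mono h ?_
          rw [add_zero]
          exact Nat.mul_le_mul_right _ (Nat.div_le_div_right (by omega))
    have htop : U (2 * l q + 1) = ⊤ := PLength.upper_top (hl q (Finset.mem_insert_self q s)) le_rfl
    have h := key (2 * l q + 1)
    rw [htop, show (2 * l q + 1 + 1) / 2 = 1 + l q by omega] at h
    exact PLength.of_surjective h Subgroup.topEquiv.toMonoidHom (MulEquiv.surjective _)


/-- Let G be a finite solvable group and p a prime. Suppose p₁, …, p_r are distinct primes, all different from p, that include every prime dividing the order of G other than p, and that G has p_i-length at most l_i for each i. Then G has p-length at most the product of the numbers 1 + l_i. -/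
theorem result {G : Type*} [Group G] [Finite G] (hG : Group.IsSolvable G) (p : ℕ) [Fact p.Prime] (r : ℕ) (q : Fin r → ℕ) (hq : ∀ i, (q i).Prime ∧ q i ≠ p) (hinj : Function.Injective q) (hcover : ∀ s : ℕ, s.Prime → s ∣ Nat.card G → s ≠ p → ∃ i, q i = s) (l : Fin r → ℕ) (hl : ∀ i, Cfsg.PLengthLE (q i) (l i) G) : Cfsg.PLengthLE p (Finset.univ.prod fun i => 1 + l i) G := by
  classical
  let L : ℕ → ℕ := fun x => if h : ∃ i, q i = x then l h.choose else 0
  have hL : ∀ i, L (q i) = l i := fun i => by
    have h : ∃ j, q j = q i := ⟨i, rfl⟩
    simp only [L, dif_pos h]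
    rw [hinj h.choose_spec]
  have h := aux p L (Finset.univ.image q) (fun x hx => by
    obtain ⟨i, -, rfl⟩ := Finset.mem_image.1 hx; exact hq i) G (fun r hr hrd => by
    by_cases hrp : r = p
    · exact Or.inl hrp
    · obtain ⟨i, hi⟩ := hcover r hr hrd hrp
      exact Or.inr (Finset.mem_image.2 ⟨i, Finset.mem_univ i, hi⟩)) (fun x hx => by
    obtain ⟨i, -, rfl⟩ := Finset.mem_image.1 hx; rw [hL]; exact hl i)
  rw [Finset.prod_image fun a _ b _ e => hinj e] at h
  simpa [hL] using h

end Cfsg.Agent.S3790
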