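import Cfsg.Statements.S3791
import Cfsg.Agent.PLength.Basic

set_option autoImplicit false
open Cfsg

namespace Cfsg.Agent.S3791

universe u

theorem derived_extension {G : Type*} [Group G] (N : Subgroup G) [N.Normal] {a b : ℕ}
    (hN : derivedSeries N b = ⊥) (hQ : derivedSeries (G ⧸ N) a = ⊥) : derivedSeries G (a + b) = ⊥ := by
  have h1 : ∀ j, derivedSeries G (a + j) ≤ (derivedSeries N j).map N.subtype := by
    intro j
    induction j with
    | zero =>
      rw [derivedSeries_zero, ← MonoidHom.range_eq_map, Subgroup.range_subtype, add_zero]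
      have h := map_derivedSeries_le_derivedSeries (QuotientGroup.mk' N) a
      rwa [hQ, le_bot_iff, Subgroup.map_eq_bot_iff, QuotientGroup.ker_mk'] at h
    | succ j ih =>
      rw [← add_assoc, derivedSeries_succ, derivedSeries_succ, Subgroup.map_commutator]
      exact Subgroup.commutator_mono ih ih
  have := h1 b
  rwa [hN, Subgroup.map_bot, le_bot_iff] at this

theorem derived_eq_bot_of_injective {G H : Type*} [Group G] [Group H] (f : G →* H)
    (hf : Function.Injective f) {n : ℕ} (h : derivedSeries H n = ⊥) : derivedSeries G n = ⊥ := by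
  have h1 := map_derivedSeries_le_derivedSeries f n
  rwa [h, le_bot_iff, Subgroup.map_eq_bot_iff, (MonoidHom.ker_eq_bot_iff f).2 hf, le_bot_iff] at h1

theorem derived_mono {G : Type*} [Group G] {m n : ℕ} (h : derivedSeries G m = ⊥) (hmn : m ≤ n) :
    derivedSeries G n = ⊥ :=
  le_bot_iff.1 (h ▸ derivedSeries_antitone G hmn)

theorem aux {r : ℕ} (q : Fin r → ℕ) (hq : ∀ i, (q i).Prime) (d : Fin r → ℕ) :
    ∀ (c : ℕ) (G : Type u) [Group G] [Finite G], Nat.card G ≤ c → Group.IsSolvable G →
    (∀ s : ℕ, s.Prime → s ∣ Nat.card G → ∃ i, q i = s) → ∀ l : Fin r → ℕ,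
    (∀ i, ∀ S : Sylow (q i) G, derivedSeries ↥(S : Subgroup G) (d i) = ⊥) →
    (∀ i, Cfsg.PLengthLE (q i) (l i) G) → derivedSeries G (∑ i, d i * l i) = ⊥ := by
  classical
  intro c
  induction c with
  | zero => intro G _ _ h; exact absurd h (Nat.card_pos.ne' ∘ Nat.le_zero.1)
  | succ c ih =>
    intro G _ _ hc hsol hcov l hd hl
    haveI := hsol
    by_cases hG : Nat.card G = 1
    · haveI := (Nat.card_eq_one_iff_unique.1 hG).1
      exact Subsingleton.elim _ _
    have hquot : ∀ (N : Subgroup G) [N.Normal], N ≠ ⊥ → Nat.card (G ⧸ N) ≤ c ∧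
        (∀ s : ℕ, s.Prime → s ∣ Nat.card (G ⧸ N) → ∃ i, q i = s) ∧
        ∀ i, ∀ S : Sylow (q i) (G ⧸ N), derivedSeries ↥(S : Subgroup (G ⧸ N)) (d i) = ⊥ := by
      intro N _ hN
      refine ⟨?_, fun s hs hsd => hcov s hs (hsd.trans N.index_dvd_card), fun i S => ?_⟩
      · have h1 := N.card_mul_index
        have h2 : 2 ≤ Nat.card N := (Subgroup.one_lt_card_iff_ne_bot N).2 hN
        have h4 : 0 < Nat.card (G ⧸ N) := Nat.card_pos
        rw [Subgroup.index_eq_card] at h1
        nlinarith
      · haveI := Fact.mk (hq i)
        obtain ⟨T⟩ : Nonempty (Sylow (q i) G) := inferInstance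
        obtain ⟨g, hg⟩ := MulAction.exists_smul_eq (G ⧸ N)
          (T.mapSurjective (QuotientGroup.mk'_surjective N)) S
        obtain ⟨g', rfl⟩ := QuotientGroup.mk_surjective g
        have hST : ((g' • T : Sylow (q i) G) : Subgroup G).map (QuotientGroup.mk' N) = (S : Subgroup (G ⧸ N)) := by
          rw [← hg, Sylow.coe_subgroup_smul, Sylow.coe_subgroup_smul]
          ext y
          constructor
          · rintro ⟨_, ⟨x, hx, rfl⟩, rfl⟩
            exact ⟨QuotientGroup.mk' N x, ⟨x, hx, rfl⟩, by simp⟩
          · rintro ⟨_, ⟨x, hx, rfl⟩, rfl⟩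
            exact ⟨_, ⟨x, hx, rfl⟩, by simp⟩
        have h1 := map_derivedSeries_eq
          (f := (QuotientGroup.mk' N).subgroupMap ((g' • T : Sylow (q i) G) : Subgroup G))
          ((QuotientGroup.mk' N).subgroupMap_surjective _) (d i)
        rw [hd i (g' • T), Subgroup.map_bot] at h1
        exact derived_eq_bot_of_injective (MulEquiv.subgroupCongr hST).symm.toMonoidHom
          (MulEquiv.injective _) h1.symm
    by_cases hall : ∀ i, Cfsg.pPrimeCore (q i) G ≠ ⊥
    · refine (Subgroup.eq_bot_iff_forall _).2 fun x hx => ?_
      by_contra hx1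
      obtain ⟨s, hs, hsd⟩ := Nat.exists_prime_and_dvd (mt orderOf_eq_one_iff.1 hx1)
      obtain ⟨i, rfl⟩ := hcov s hs (hsd.trans (orderOf_dvd_natCard x))
      haveI := Fact.mk (hq i)
      obtain ⟨h1, h2, h3⟩ := hquot (Cfsg.pPrimeCore (q i) G) (hall i)
      have h4 := ih (G ⧸ Cfsg.pPrimeCore (q i) G) h1 inferInstance h2 l h3 fun j => by
        haveI := Fact.mk (hq j)
        exact PLength.of_surjective (hl j) _ (QuotientGroup.mk'_surjective _)
      have h5 := map_derivedSeries_le_derivedSeries (QuotientGroup.mk' (Cfsg.pPrimeCore (q i) G))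
        (∑ i, d i * l i)
      rw [h4, le_bot_iff, Subgroup.map_eq_bot_iff, QuotientGroup.ker_mk'] at h5
      exact Core.not_dvd_card_pPrimeCore (hsd.trans (Subgroup.orderOf_dvd_natCard _ (h5 hx)))
    · push Not at hall
      obtain ⟨i, hi⟩ := hall
      haveI := Fact.mk (hq i)
      set U := PLength.upper (q i) G
      have hch := PLength.isChain_upper (p := q i) (G := G)
      have hU1 : U 1 = ⊥ := by
        rw [show U 1 = PLength.upper (q i) G (0 + 1) from rfl]
        have hstep := hch.step 0
        unfold PLength.Step at hstep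
        rw [if_pos Even.zero, hch.zero, Subgroup.relIndex_bot_left] at hstep
        exact le_bot_iff.1 (hi ▸ Core.le_pPrimeCore hstep)
      have hU2 : IsPGroup (q i) (U 2) := by
        have hstep := hch.step 1
        unfold PLength.Step at hstep
        rw [if_neg (by decide), show PLength.upper (q i) G 1 = ⊥ from hU1,
          Subgroup.relIndex_bot_left] at hstep
        obtain ⟨m, hm⟩ := hstep
        exact IsPGroup.of_card hm
      have hU3 : U 2 = ⊥ → U 3 = ⊥ := fun h2 => by
        have hstep := hch.step 2
        unfold PLength.Step at hstep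
        rw [if_pos even_two, show PLength.upper (q i) G 2 = ⊥ from h2,
          Subgroup.relIndex_bot_left] at hstep
        exact le_bot_iff.1 (hi ▸ Core.le_pPrimeCore hstep)
      have hl0 : l i ≠ 0 := fun h0 => by
        have htop := PLength.upper_top (hl i) (show 2 * l i + 1 ≤ 1 by omega)
        rw [show PLength.upper (q i) G 1 = ⊥ from hU1] at htop
        exact hG (by rw [← Subgroup.card_top, ← htop, Subgroup.card_bot])
      have hU2ne : U 2 ≠ ⊥ := by
        intro h2
        have hstat : ∀ j, U j = ⊥ := by
          intro j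
          induction j using Nat.strong_induction_on with
          | _ j ihj =>
            match j with
            | 0 => exact hch.zero
            | 1 => exact hU1
            | 2 => exact h2
            | 3 => exact hU3 h2
            | k + 4 =>
              have hk1 := ihj (k + 1) (by omega)
              have hk2 := ihj (k + 3) (by omega)
              have hstep := hch.step (k + 3)
              rw [show PLength.upper (q i) G (k + 3) = ⊥ from hk2, Subgroup.relIndex_bot_left] at hstep
              unfold PLength.Step at hstep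
              split_ifs at hstep
              · exact le_bot_iff.1 (hi ▸ Core.le_pPrimeCore hstep)
              · obtain ⟨m, hm⟩ := hstep
                have hle := hch.le_upper
                have hchain2 : U (k + 4) ≤ Cfsg.pCore (q i) G := Core.le_pCore (IsPGroup.of_card hm)
                have h2' : Cfsg.pCore (q i) G ≤ U 2 := by
                  rw [show U 2 = PLength.upper (q i) G (1 + 1) from rfl,
                    PLength.upper_succ_odd (by decide), ← Subgroup.map_le_iff_le_comap]
                  exact Core.map_pCore_le_of_surjective (QuotientGroup.mk'_surjective _)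
                exact le_bot_iff.1 (h2 ▸ hchain2.trans h2')
        have htop := PLength.upper_top (hl i) le_rfl
        rw [show PLength.upper (q i) G (2 * l i + 1) = ⊥ from hstat _] at htop
        exact hG (by rw [← Subgroup.card_top, ← htop, Subgroup.card_bot])
      haveI : (U 2).Normal := PLength.upper_normal 2
      obtain ⟨h1, h2, h3⟩ := hquot (U 2) hU2ne
      have hl' : Cfsg.PLengthLE (q i) (l i - 1) (G ⧸ U 2) := by
        refine PLength.IsChain.pLengthLE (T := fun j => (U (j + 2)).map (QuotientGroup.mk' (U 2)))
          ⟨?_, fun j => Subgroup.Normal.map (PLength.upper_normal _) _ (QuotientGroup.mk'_surjective _),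
            fun j => Subgroup.map_mono (hch.le _), fun j => ?_⟩ ?_
        · simp [Subgroup.map_eq_bot_iff, QuotientGroup.ker_mk']
        · haveI : ((U (j + 2)).map (QuotientGroup.mk' (U 2))).Normal :=
            Subgroup.Normal.map (PLength.upper_normal _) _ (QuotientGroup.mk'_surjective _)
          refine PLength.step_of_dvd (hq i) ((PLength.step_congr (by simp [Nat.even_add])).1 (hch.step (j + 2)))
            (PLength.card_map_dvd_card_map (QuotientGroup.mk' (U 2)) (U (j + 2)) (U (j + 1 + 2)) _
              fun x hx => Subgroup.mem_map_of_mem _ hx)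
        · rw [PLength.upper_top (hl i) (by omega) |> fun h => (show U (2 * (l i - 1) + 1 + 2) = ⊤ from h),
            Subgroup.map_top_of_surjective _ (QuotientGroup.mk'_surjective _)]
      have h4 := ih (G ⧸ U 2) h1 inferInstance h2 (Function.update l i (l i - 1)) h3 fun j => by
        haveI := Fact.mk (hq j)
        by_cases hji : j = i
        · subst hji; rw [Function.update_self]; exact hl'
        · rw [Function.update_of_ne hji]
          exact PLength.of_surjective (hl j) _ (QuotientGroup.mk'_surjective _)
      obtain ⟨S, hS⟩ := hU2.exists_le_sylow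
      have h5 : derivedSeries (U 2) (d i) = ⊥ :=
        derived_eq_bot_of_injective (Subgroup.inclusion hS) (Subgroup.inclusion_injective hS) (hd i S)
      refine derived_mono (derived_extension (U 2) h5 h4) (le_of_eq ?_)
      rw [← Finset.add_sum_erase _ _ (Finset.mem_univ i), ← Finset.add_sum_erase _ _ (Finset.mem_univ i),
        Function.update_self, add_right_comm, ← Nat.mul_succ, Nat.succ_eq_add_one,
        Nat.sub_add_cancel (Nat.pos_of_ne_zero hl0)]
      refine congrArg _ (Finset.sum_congr rfl fun j hj => ?_)
      rw [Function.update_of_ne (Finset.ne_of_mem_erase hj)]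


/-- The Hall–Higman bound on derived length: let G be a finite solvable group, let p₁, …, p_r be distinct primes that include every prime dividing the order of G, and suppose that for each i the Sylow p_i-subgroups of G have derived length at most d_i and G has p_i-length at most l_i. Then G has derived length at most Σ d_i l_i. -/
theorem result {G : Type*} [Group G] [Finite G] (hG : Group.IsSolvable G) (r : ℕ) (q : Fin r → ℕ) (hq : ∀ i, (q i).Prime) (hinj : Function.Injective q) (hcover : ∀ s : ℕ, s.Prime → s ∣ Nat.card G → ∃ i, q i = s) (d l : Fin r → ℕ) (hd : ∀ i, ∀ P : Subgroup G, (haveI := Fact.mk (hq i); ∃ S : Sylow (q i) G, (S : Subgroup G) = P) → derivedSeries ↥P (d i) = ⊥) (hl : ∀ i, Cfsg.PLengthLE (q i) (l i) G) : derivedSeries G (Finset.univ.sum fun i => d i * l i) = ⊥ := by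
  exact aux q hq d (Nat.card G) G le_rfl hG hcover l
    (fun i S => hd i (S : Subgroup G) ⟨S, rfl⟩) hl

end Cfsg.Agent.S3791
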