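import Cfsg.Statements.S3793
import Cfsg.Agent.ShultGross.Main

set_option autoImplicit false
open Cfsg

namespace Cfsg.Agent.S3793

open Subgroup SemidirectProduct Cfsg.Agent

/-- The Shult–Gross Theorem: let p be an odd prime and G a finite solvable group with an automorphism σ of order p^n fixing only the identity. Then G has Fitting height at most n: G has Fitting height at most m when there is a chain of normal subgroups 1 = F₀ ≤ F₁ ≤ ⋯ ≤ F_m = G with each F_{i+1}/F_i nilpotent. -/
theorem result {G : Type*} [Group G] [Finite G] (hG : Group.IsSolvable G) {p : ℕ} (hp : p.Prime) (hp2 : p ≠ 2) (σ : MulAut G) (n : ℕ) (hσ : orderOf σ = p ^ n) (hfpf : ∀ g : G, σ g = g → g = 1) : ∃ F : Fin (n + 1) → Subgroup G, F 0 = ⊥ ∧ F (Fin.last n) = ⊤ ∧ Monotone F ∧ (∀ i, (F i).Normal) ∧ ∀ i : Fin n, ∃ k : ℕ, (F i.succ).lowerCentralSeries k ≤ F i.castSucc := by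
  haveI := Fact.mk hp
  let A : Subgroup (MulAut G) := Subgroup.zpowers σ
  let D := G ⋊[A.subtype] A
  have : Finite D := Finite.of_equiv (G × A) (SemidirectProduct.equivProd (φ := A.subtype)).symm
  set G' : Subgroup D := (inl : G →* D).range with hG'
  have hGn : G'.Normal := by
    change (inl : G →* D).range.Normal
    rw [range_inl_eq_ker_rightHom]
    infer_instance
  let a : A := ⟨σ, Subgroup.mem_zpowers σ⟩
  set x : D := inr a with hx
  have hord : orderOf x = p ^ n := by
    rw [hx, orderOf_injective (inr : A →* D) inr_injective, ← Subgroup.orderOf_coe]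
    exact hσ
  have hxp : IsPGroup p (Subgroup.zpowers x) :=
    IsPGroup.of_card (n := n) (by rw [Nat.card_zpowers, hord])
  have hfix : G' ⊓ Subgroup.centralizer ({x} : Set D) = ⊥ := by
    rw [eq_bot_iff]
    rintro _ ⟨⟨g, rfl⟩, hg⟩
    rw [mem_bot, hfpf g ?_, map_one]
    have h1 := mem_centralizer_singleton_iff.mp hg
    refine inl_injective (φ := A.subtype) ?_
    calc (inl (σ g) : D) = inr a * inl g * inr a⁻¹ := inl_aut (φ := A.subtype) a g
      _ = inl g := by rw [← hx, ← h1, map_inv, ← hx, mul_inv_cancel_right]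
  have hxn : x ^ p ^ n ∈ Subgroup.centralizer (G' : Set D) := by
    rw [← hord, pow_orderOf_eq_one]
    exact one_mem _
  have h := ShultGross.ser_eq_bot hp2 n G'
    (Group.isSolvable_of_surjective (MonoidHom.rangeRestrict_surjective (inl : G →* D))) x hxp hfix hxn
  refine CoprimeFitting.exists_chain ?_
  refine Subgroup.map_injective (f := (inl : G →* D)) inl_injective ?_
  rw [CoprimeFitting.map_ser, ← MonoidHom.range_eq_map, ← hG', h, Subgroup.map_bot]

end Cfsg.Agent.S3793
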