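import Cfsg.Statements.S3796
import Cfsg.Agent.FixedPointFree.WardTheorem

set_option autoImplicit false
open Cfsg

namespace Cfsg.Agent.S3796

open Subgroup SemidirectProduct Cfsg.Agent.FixedPointFree

/-- Ward's Theorem: let G be a finite solvable group and A an elementary abelian group of automorphisms of G of order p² (p a prime) with no non-identity common fixed point. Then G has Fitting height at most 2: G has Fitting height at most m when there is a chain of normal subgroups 1 = F₀ ≤ F₁ ≤ ⋯ ≤ F_m = G with each F_{i+1}/F_i nilpotent. -/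
theorem result {G : Type*} [Group G] [Finite G] (hG : Group.IsSolvable G) {p : ℕ} (hp : p.Prime) (A : Subgroup (MulAut G)) (hA : Cfsg.IsElementaryAbelian p A) (hcard : Nat.card A = p ^ 2) (hfpf : ∀ g : G, (∀ a ∈ A, a g = g) → g = 1) : ∃ F : Fin (2 + 1) → Subgroup G, F 0 = ⊥ ∧ F (Fin.last 2) = ⊤ ∧ Monotone F ∧ (∀ i, (F i).Normal) ∧ ∀ i : Fin 2, ∃ k : ℕ, (F i.succ).lowerCentralSeries k ≤ F i.castSucc := by
  let D := G ⋊[A.subtype] A
  have : Finite D := Finite.of_equiv (G × A) (SemidirectProduct.equivProd (φ := A.subtype)).symm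
  set G' : Subgroup D := (inl : G →* D).range
  set A' : Subgroup D := (inr : A →* D).range
  have hGn : G'.Normal := by
    change (inl : G →* D).range.Normal
    rw [range_inl_eq_ker_rightHom]
    infer_instance
  have := hA.1
  have hw : WardHyp p A' G' := by
    refine ⟨hp, ?_, ?_, ?_, le_normalizer_of_normal, ?_, ?_⟩
    · rintro _ ⟨a, rfl⟩
      rw [← map_pow, show a ^ p = 1 from Subtype.ext (by simpa using hA.2 a a.2), map_one]
    · refine ⟨⟨?_⟩⟩
      rintro ⟨_, a, rfl⟩ ⟨_, b, rfl⟩
      exact Subtype.ext ((show Commute a b from hA.1.is_comm.comm a b).map (inr : A →* D)).eq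
    · rw [← hcard]
      exact (Nat.card_congr (MonoidHom.ofInjective inr_injective).toEquiv).symm
    · rw [eq_bot_iff]
      rintro _ ⟨⟨g, rfl⟩, hg⟩
      rw [mem_bot, hfpf g fun a ha => ?_, map_one]
      have hmem : (inr (⟨a, ha⟩ : A) : D) ∈ A' := ⟨⟨a, ha⟩, rfl⟩
      have h1 := mem_centralizer_iff.mp hg (inr (⟨a, ha⟩ : A) : D) hmem
      refine inl_injective (φ := A.subtype) ?_
      calc (inl (a g) : D) = inr (⟨a, ha⟩ : A) * inl g * inr (⟨a, ha⟩ : A)⁻¹ := inl_aut (φ := A.subtype) (⟨a, ha⟩ : A) g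
        _ = inl g := by rw [h1, map_inv, mul_inv_cancel_right]
    · exact Group.isSolvable_of_surjective (MonoidHom.rangeRestrict_surjective (inl : G →* D))
  obtain ⟨k, hk⟩ := ward_aux (Nat.card G') A' G' hw le_rfl
  obtain ⟨j, hj⟩ := (Subgroup.isNilpotent_iff_lowerCentralSeries _).mp hk
  set N : Subgroup G := (⊤ : Subgroup G).lowerCentralSeries k with hN
  have hNG : N.map (inl : G →* D) = G'.lowerCentralSeries k := by
    rw [hN, map_lowerCentralSeries, ← MonoidHom.range_eq_map]
  have hNj : N.lowerCentralSeries j = ⊥ := by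
    refine map_injective (f := (inl : G →* D)) inl_injective ?_
    rw [map_lowerCentralSeries, hNG, hj, Subgroup.map_bot]
  refine ⟨![⊥, N, ⊤], rfl, rfl, ?_, ?_, ?_⟩
  · refine Fin.monotone_iff_le_succ.mpr fun i => ?_
    fin_cases i <;> simp
  · intro i
    fin_cases i
    · exact (inferInstance : (⊥ : Subgroup G).Normal)
    · change N.Normal
      rw [hN]
      infer_instance
    · exact (inferInstance : (⊤ : Subgroup G).Normal)
  · intro i
    fin_cases i
    · exact ⟨j, by simp [hNj]⟩
    · exact ⟨k, by simp [hN]⟩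

end Cfsg.Agent.S3796
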