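import Cfsg.Statements.S3797
import Cfsg.Agent.InvolTrans.TwoLength
import Cfsg.Agent.OddLocal.PLengthOne

set_option autoImplicit false
open Cfsg

namespace Cfsg.Agent.S3797

open Subgroup

theorem sylow_le_second_term {G : Type*} [Group G] [Finite G] (N M : Subgroup G) [N.Normal] [M.Normal]
    (hMN : M = N) (S : Subgroup G) (h : S.map (QuotientGroup.mk' N) ≤ pCore 2 (G ⧸ N)) :
    S ≤ (pCore 2 (G ⧸ M)).comap (QuotientGroup.mk' M) := by
  subst hMN
  exact map_le_iff_le_comap.mp h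

theorem pLengthLE_one {G : Type*} [Group G] [Finite G] (S : Sylow 2 G)
    (h : (S : Subgroup G).map (QuotientGroup.mk' (pPrimeCore 2 G)) ≤ pCore 2 (G ⧸ pPrimeCore 2 G)) :
    PLengthLE 2 1 G := by
  haveI : Fact (Nat.Prime 2) := ⟨Nat.prime_two⟩
  let U1 := (upperPSeries 2 G 1).1
  let U2 := (upperPSeries 2 G 2).1
  have e1 : U1 = (pPrimeCore 2 (G ⧸ (upperPSeries 2 G 0).1)).comap (QuotientGroup.mk' _) := by
    simp [U1, upperPSeries]
  have e2 : U2 = (pCore 2 (G ⧸ (upperPSeries 2 G 1).1)).comap (QuotientGroup.mk' _) := by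
    simp [U2, upperPSeries]
  have e3 : (upperPSeries 2 G 3).1 =
      (pPrimeCore 2 (G ⧸ (upperPSeries 2 G 2).1)).comap (QuotientGroup.mk' _) := by
    simp [upperPSeries]
  haveI hU1n : U1.Normal := (upperPSeries 2 G 1).2
  have hU1 : U1 = pPrimeCore 2 G := by
    refine le_antisymm (Core.le_pPrimeCore ?_) ?_
    · rw [e1, OddLocal.coprime_card_comap, show Nat.card (upperPSeries 2 G 0).1 = 1 from card_bot, one_mul]
      exact Core.coprime_card_pPrimeCore
    · rw [e1]
      exact map_le_iff_le_comap.mp (Core.map_pPrimeCore_le_of_surjective (QuotientGroup.mk'_surjective _))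
  have hSU : (S : Subgroup G) ≤ U2 := by
    rw [e2]
    exact sylow_le_second_term _ _ hU1 S h
  show (upperPSeries 2 G 3).1 = ⊤
  rw [e3, Core.pPrimeCore_eq_top, comap_top]
  rw [← index_eq_card, Nat.coprime_comm, Nat.prime_two.coprime_iff_not_dvd]
  exact fun hd => S.not_dvd_index (hd.trans (index_dvd_of_le hSU))

theorem exists_homocyclic {A : Type*} [CommGroup A] [Finite A] (hA : IsPGroup 2 A)
    (htrans : ∀ x y : A, x ≠ 1 → x ^ 2 = 1 → y ≠ 1 → y ^ 2 = 1 → ∃ a : MulAut A, a x = y) :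
    ∃ m r : ℕ, Nonempty (A ≃* (Fin r → Multiplicative (ZMod (2 ^ m)))) := by
  classical
  haveI : Fact (Nat.Prime 2) := ⟨Nat.prime_two⟩
  obtain ⟨ι, _, n, hn, ⟨φ⟩⟩ := CommGroup.equiv_prod_multiplicative_zmod_of_finite A
  haveI : ∀ i, NeZero (n i) := fun i => ⟨(lt_trans Nat.zero_lt_one (hn i)).ne'⟩
  -- every order is a power of two
  have hpow : ∀ i, ∃ e, n i = 2 ^ (e + 1) := by
    intro i
    obtain ⟨k, hk⟩ := hA (φ.symm (Pi.mulSingle i (Multiplicative.ofAdd 1)))
    have h1 := congrArg φ hk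
    rw [map_pow, φ.apply_symm_apply, MulEquiv.map_one φ] at h1
    have h2 := congrFun h1 i
    rw [Pi.pow_apply, Pi.mulSingle_eq_same, ← ofAdd_nsmul, Pi.one_apply, ofAdd_eq_one, nsmul_one,
      ZMod.natCast_eq_zero_iff] at h2
    obtain ⟨e, -, he⟩ := (Nat.dvd_prime_pow Nat.prime_two).mp h2
    cases e with
    | zero => exact absurd (hn i) (by rw [he]; simp)
    | succ e => exact ⟨e, he⟩
  choose e he using hpow
  have heq : ∀ i j, e i ≤ e j → e i = e j := by
    intro i j hij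
    by_contra hne
    let g : ∀ k, (∀ l, Multiplicative (ZMod (n l))) := fun k => Pi.mulSingle k (Multiplicative.ofAdd (1 : ZMod (n k)))
    have hord : ∀ k, orderOf (g k ^ 2 ^ e k) = 2 := by
      intro k
      have h1 : orderOf (g k) = 2 ^ (e k + 1) := by
        rw [orderOf_piMulSingle, orderOf_ofAdd_eq_addOrderOf, ZMod.addOrderOf_one, he]
      rw [orderOf_pow' _ (pow_ne_zero _ two_ne_zero), h1, Nat.gcd_eq_right (pow_dvd_pow 2 (Nat.le_succ _)),
        pow_succ, Nat.mul_div_cancel_left _ (pow_pos two_pos _)]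
    have hinv : ∀ k, φ.symm (g k ^ 2 ^ e k) ≠ 1 ∧ φ.symm (g k ^ 2 ^ e k) ^ 2 = 1 := fun k =>
      ⟨fun h => by
        have := hord k
        rw [(map_eq_one_iff _ φ.symm.injective).mp h, orderOf_one] at this
        omega,
      by
        have h := pow_orderOf_eq_one (g k ^ 2 ^ e k)
        rw [hord k] at h
        rw [← map_pow, h, map_one]⟩
    obtain ⟨a, ha⟩ := htrans _ _ (hinv j).1 (hinv j).2 (hinv i).1 (hinv i).2
    have h2 : φ (a (φ.symm (g j))) ^ 2 ^ e j = g i ^ 2 ^ e i := by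
      rw [← map_pow, ← map_pow, ← map_pow, ha, φ.apply_symm_apply]
    have h3 := congrFun h2 i
    have hlt : e i < e j := lt_of_le_of_ne hij hne
    have h4 : φ (a (φ.symm (g j))) i ^ 2 ^ e j = 1 := by
      refine orderOf_dvd_iff_pow_eq_one.mp ((_root_.orderOf_dvd_natCard _).trans ?_)
      rw [Nat.card_congr Multiplicative.toAdd, Nat.card_zmod, he]
      exact pow_dvd_pow 2 (Nat.succ_le_of_lt hlt)
    simp only [Pi.pow_apply, h4, g, Pi.mulSingle_eq_same] at h3
    have h5 : g i ^ 2 ^ e i = 1 := by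
      show (Pi.mulSingle i _ : ∀ l, Multiplicative (ZMod (n l))) ^ 2 ^ e i = 1
      rw [← Pi.mulSingle_pow, ← h3, Pi.mulSingle_one]
    have := hord i
    rw [h5, orderOf_one] at this
    omega
  obtain ⟨m, hm⟩ : ∃ m, ∀ i, n i = 2 ^ m := by
    rcases isEmpty_or_nonempty ι with hι | ⟨⟨i⟩⟩
    · exact ⟨0, fun i => (hι.false i).elim⟩
    · refine ⟨e i + 1, fun j => ?_⟩
      rcases le_total (e i) (e j) with h | h
      · rw [he j, heq i j h]
      · rw [he j, heq j i h]
  refine ⟨m, Fintype.card ι, ⟨φ.trans ((MulEquiv.piCongrRight fun i => ?_).trans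
    (MulEquiv.arrowCongr (Fintype.equivFin ι) (MulEquiv.refl (Multiplicative (ZMod (2 ^ m))))))⟩⟩
  rw [hm i]

/-- Let G be a finite solvable group of even order whose Sylow 2-subgroups contain more than one involution, and suppose all involutions of G are conjugate. Then G has 2-length at most 1, and a Sylow 2-subgroup S of G is either homocyclic (a direct product of cyclic groups of one common order) or a non-abelian 2-group with more than one involution admitting a solvable group of automorphisms transitive on its involutions. -/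
theorem result {G : Type*} [Group G] [Finite G] (hG : Group.IsSolvable G) (heven : Even (Nat.card G)) (S : Sylow 2 G) (htwo : ∃ x y : G, x ∈ (S : Subgroup G) ∧ y ∈ (S : Subgroup G) ∧ x ≠ y ∧ x ≠ 1 ∧ x ^ 2 = 1 ∧ y ≠ 1 ∧ y ^ 2 = 1) (hconj : ∀ x y : G, x ≠ 1 → x ^ 2 = 1 → y ≠ 1 → y ^ 2 = 1 → IsConj x y) : Cfsg.PLengthLE 2 1 G ∧ ((∃ m r : ℕ, Nonempty (↥(S : Subgroup G) ≃* (Fin r → Multiplicative (ZMod (2 ^ m))))) ∨ (¬ IsMulCommutative (S : Subgroup G) ∧ ∃ Y : Subgroup (MulAut ↥(S : Subgroup G)), Group.IsSolvable Y ∧ ∀ x y : ↥(S : Subgroup G), x ≠ 1 → x ^ 2 = 1 → y ≠ 1 → y ^ 2 = 1 → ∃ a ∈ Y, a x = y)) := by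
  haveI : Fact (Nat.Prime 2) := ⟨Nat.prime_two⟩
  haveI := hG
  set N := pPrimeCore 2 G with hNdef
  set π := QuotientGroup.mk' N with hπ
  have hN : Odd (Nat.card N) := Nat.coprime_two_right.mp Core.coprime_card_pPrimeCore
  have hSN : (S : Subgroup G) ⊓ N = ⊥ := OddLocal.inf_pPrimeCore_eq_bot S.isPGroup'
  have hinj : ∀ a ∈ (S : Subgroup G), π a = 1 → a = 1 := fun a ha h1 =>
    mem_bot.mp (hSN ▸ mem_inf.mpr ⟨ha, (QuotientGroup.eq_one_iff a).mp h1⟩)
  have hset : InvolTrans.Setting (G ⧸ N) := by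
    refine ⟨inferInstance, Core.pPrimeCore_quotient_eq_bot, ?_, ?_⟩
    · obtain ⟨a, b, ha, hb, hab, ha1, ha2, hb1, hb2⟩ := htwo
      refine ⟨π a, π b, fun h => hab (inv_mul_eq_one.mp (hinj _ (mul_mem (inv_mem ha) hb) (by
        rw [map_mul, map_inv, h, inv_mul_cancel]))), fun h => ha1 (hinj a ha h), by rw [← map_pow, ha2, map_one],
        fun h => hb1 (hinj b hb h), by rw [← map_pow, hb2, map_one]⟩
    · intro a b ha1 ha2 hb1 hb2
      have hlift : ∀ c : G ⧸ N, c ≠ 1 → c ^ 2 = 1 → ∃ g : G, g ≠ 1 ∧ g ^ 2 = 1 ∧ π g = c := by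
        intro c hc1 hc2
        obtain ⟨g, rfl⟩ := QuotientGroup.mk'_surjective N c
        have hg : g ^ 2 ∈ N := (QuotientGroup.eq_one_iff _).mp hc2
        obtain ⟨k, hk⟩ := hN
        have he : π (g ^ Nat.card N) = π g := by
          rw [map_pow, hk, pow_succ, pow_mul, hc2, one_pow, one_mul]
        refine ⟨g ^ Nat.card N, fun h => hc1 (by rw [← he, h, map_one]), ?_, he⟩
        rw [← pow_mul, mul_comm, pow_mul]
        exact orderOf_dvd_iff_pow_eq_one.mp (Subgroup.orderOf_dvd_natCard N hg)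
      obtain ⟨g, hg1, hg2, rfl⟩ := hlift a ha1 ha2
      obtain ⟨g', hg1', hg2', rfl⟩ := hlift b hb1 hb2
      exact π.map_isConj (hconj g g' hg1 hg2 hg1' hg2')
  have hpl : PLengthLE 2 1 G := pLengthLE_one S (by
    have := InvolTrans.sylow_le_pCore hset (S.mapSurjective (QuotientGroup.mk'_surjective N))
    rwa [Sylow.coe_mapSurjective] at this)
  refine ⟨hpl, ?_⟩
  -- the normaliser is transitive
  set T := (normalizer ((S : Subgroup G) : Set G))
  have htr : ∀ x y : ↥(S : Subgroup G), x ≠ 1 → x ^ 2 = 1 → y ≠ 1 → y ^ 2 = 1 →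
      ∃ a ∈ (S : Subgroup G).normalizerMonoidHom.range, a x = y := by
    intro x y hx1 hx2 hy1 hy2
    obtain ⟨g, hg⟩ := isConj_iff.mp (hconj (x : G) y (fun h => hx1 (Subtype.ext h))
      (congrArg Subtype.val hx2) (fun h => hy1 (Subtype.ext h)) (congrArg Subtype.val hy2))
    obtain ⟨k, hk, t, ht, hkt⟩ :=
      mem_sup_of_normal_left.mp (OddLocal.pPrimeCore_sup_normalizer hpl S ▸ mem_top g)
    have hxS : t * (x : G) * t⁻¹ ∈ (S : Subgroup G) := (mem_normalizer_iff.mp ht _).mp x.2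
    refine ⟨(S : Subgroup G).normalizerMonoidHom ⟨t, ht⟩, ⟨⟨t, ht⟩, rfl⟩, Subtype.ext ?_⟩
    show t * (x : G) * t⁻¹ = y
    refine inv_mul_eq_one.mp (hinj _ (mul_mem (inv_mem hxS) y.2) ?_)
    have hk1 : π k = 1 := (QuotientGroup.eq_one_iff k).mpr hk
    have hy : π y = π (t * (x : G) * t⁻¹) := by
      rw [← hg, ← hkt]
      simp only [map_mul, map_inv, hk1, one_mul]
    rw [map_mul, map_inv, ← hy, inv_mul_cancel]
  by_cases hc : IsMulCommutative (S : Subgroup G)
  · left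
    letI : CommGroup ↥(S : Subgroup G) := { (inferInstance : Group ↥(S : Subgroup G)) with mul_comm := hc.is_comm.comm }
    exact exists_homocyclic S.isPGroup' fun x y h1 h2 h3 h4 => (htr x y h1 h2 h3 h4).imp fun a ha => ha.2
  · refine Or.inr ⟨hc, _, ?_, htr⟩
    exact Group.isSolvable_of_surjective (MonoidHom.rangeRestrict_surjective _)

end Cfsg.Agent.S3797
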