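import Cfsg.Statements.S3798
import Cfsg.Agent.Core.PCore
import Cfsg.Agent.Layer.PConstraint
import Cfsg.Agent.LocalStructure.OmegaAction
import Cfsg.Agent.Coprime.SchurZassenhaus
import Cfsg.Agent.Coprime.Tools

set_option autoImplicit false
open Cfsg

namespace Cfsg.Agent.S3798

open Subgroup
open scoped Pointwise commutatorElement

universe u

variable {G : Type u} [Group G] [Finite G] {p : ℕ} [Fact p.Prime]

/-- The core case: `O_{p'}(G) = 1` forces the Sylow `p`-subgroup to be normal. -/
theorem not_dvd_index_pCore (hp : p ≠ 2) (hdvd : p ∣ Nat.card G) (hG : IsPSolvable p G)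
    (hO : pPrimeCore p G = ⊥)
    (htrans : ∀ x y : G, orderOf x = p → orderOf y = p → ∃ (a : MulAut G) (k : ℤ), y = a (x ^ k)) :
    ¬ p ∣ (pCore p G).index := by
  classical
  intro hidx
  have hpp : p.Prime := Fact.out
  set A := pCore p G with hA
  have hAp : IsPGroup p A := Core.pCore_isPGroup
  have hAn : A.Normal := inferInstance
  have hC : centralizer (A : Set G) ≤ A := Layer.pCoreSelfCentral_of_isPSolvable hG hO
  have hAne : A ≠ ⊥ := by
    intro e
    rw [e] at hC
    have h1 : (⊤ : Subgroup G) ≤ ⊥ := le_trans (fun x _ => by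
      rw [mem_centralizer_iff]
      intro h hh
      rw [SetLike.mem_coe, mem_bot] at hh
      simp [hh]) hC
    have h2 : Nat.card G = 1 := by rw [← card_top (G := G), le_bot_iff.1 h1, card_bot]
    rw [h2] at hdvd
    exact hpp.one_lt.ne' (Nat.dvd_one.1 hdvd)
  -- a central element of order `p` in `A`
  have hnt : Nontrivial A := (nontrivial_iff_ne_bot A).2 hAne
  have : Nontrivial (center A) := hAp.center_nontrivial
  obtain ⟨n, hn⟩ := IsPGroup.iff_card.1 (hAp.to_subgroup (center A))
  have hn0 : n ≠ 0 := fun e => by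
    rw [e, pow_zero, Nat.card_eq_one_iff_unique] at hn
    exact not_subsingleton (center A) hn.1
  obtain ⟨z₀, hz₀⟩ := exists_prime_orderOf_dvd_card' (G := center A) p (hn ▸ dvd_pow_self p hn0)
  set z : G := ((z₀ : A) : G)
  have hz : orderOf z = p := by rw [Subgroup.orderOf_coe, Subgroup.orderOf_coe, hz₀]
  have hzA : z ∈ A := (z₀ : A).2
  have hzc : ∀ x ∈ A, x * z = z * x := fun x hx =>
    congrArg Subtype.val (mem_center_iff.1 z₀.2 ⟨x, hx⟩)
  have haA : ∀ (a : MulAut G) (x : G), x ∈ A → a x ∈ A := fun a x hx => by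
    have h1 := mem_map_of_mem (MulEquiv.toMonoidHom a) hx
    rwa [hA, Core.map_pCore] at h1
  -- all elements of order `p` are central in `A`
  have hall : ∀ y : G, orderOf y = p → y ∈ A ∧ ∀ x ∈ A, x * y = y * x := by
    intro y hy
    obtain ⟨a, k, rfl⟩ := htrans z y hz hy
    refine ⟨haA a _ (zpow_mem hzA k), fun x hx => ?_⟩
    have h1 : a.symm x * z ^ k = z ^ k * a.symm x :=
      (show Commute (a.symm x) z from hzc _ (haA a.symm x hx)).zpow_right k
    have h2 := congrArg a h1
    simpa using h2
  -- the preimage `M` of `O_{p'}(G/A)`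
  set π := QuotientGroup.mk' A
  have hπ := QuotientGroup.mk'_surjective A
  set R := pPrimeCore p (G ⧸ A)
  have hRn : R.Normal := inferInstance
  set M := R.comap π
  have : M.Normal := hRn.comap π
  have hAM : A ≤ M := fun x hx => by
    rw [mem_comap, show π x = 1 from (QuotientGroup.eq_one_iff x).2 hx]
    exact one_mem _
  have hRne : R ≠ ⊥ := by
    intro e
    have h1 := Layer.pCoreSelfCentral_of_isPSolvable (Layer.isPSolvable_of_surjective hG hπ) e
    rw [Layer.PCoreSelfCentral, show pCore p (G ⧸ A) = ⊥ from Core.pCore_quotient_eq_bot] at h1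
    have h2 : (⊤ : Subgroup (G ⧸ A)) ≤ ⊥ := le_trans (fun x _ => by
      rw [mem_centralizer_iff]
      intro h hh
      rw [SetLike.mem_coe, mem_bot] at hh
      simp [hh]) h1
    rw [index_eq_card, ← card_top (G := G ⧸ A), le_bot_iff.1 h2, card_bot] at hidx
    exact hpp.one_lt.ne' (Nat.dvd_one.1 hidx)
  have haM : ∀ (a : MulAut G) (x : G), x ∈ M → a x ∈ M := by
    intro a x hx
    let b : (G ⧸ A) ≃* (G ⧸ A) := QuotientGroup.congr A A a
      (by rw [hA]; exact Core.map_pCore a)
    have h1 := mem_map_of_mem b.toMonoidHom (show π x ∈ R from hx)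
    rwa [Core.map_pPrimeCore] at h1
  obtain ⟨m, hm⟩ := IsPGroup.iff_card.1 hAp
  have hcoprR : (A.relIndex M).Coprime p := by
    have h1 : A.relIndex M = Nat.card R := by
      conv_lhs => rw [← QuotientGroup.ker_mk' A]
      rw [relIndex_ker, map_comap_eq_self_of_surjective hπ]
    rw [h1]; exact Core.coprime_card_pPrimeCore
  -- a complement `K` to `A` in `M`
  have hcard' : Nat.card (A.subgroupOf M) = p ^ m :=
    (Nat.card_congr (subgroupOfEquivOfLe hAM).toEquiv).trans hm
  obtain ⟨K₀, hK₀⟩ := exists_right_complement'_of_coprime (N := A.subgroupOf M)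
    (hcard' ▸ (hcoprR.pow_right m).symm)
  set K := K₀.map M.subtype
  have hKM : K ≤ M := map_subtype_le _
  have hKc : Nat.card K = A.relIndex M := by
    rw [card_map_of_injective M.subtype_injective, relIndex, hK₀.symm.index_eq_card]
  have hcopAK : (Nat.card A).Coprime (Nat.card K) := by
    rw [hKc, hm]; exact (hcoprR.pow_right m).symm
  have hinfK := Coprime.inf_eq_bot_of_coprime hcopAK
  have hsupK : A ⊔ K = M := by
    have h1 := congrArg (Subgroup.map M.subtype) hK₀.sup_eq_top
    rwa [Subgroup.map_sup, map_subgroupOf_eq_of_le hAM, ← MonoidHom.range_eq_map,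
      range_subtype] at h1
  have hKbot : K ≠ ⊥ := fun e => hRne (by
    rw [← map_comap_eq_self_of_surjective hπ R, show R.comap π = A from by rw [show R.comap π = M from rfl, ← hsupK, e, sup_bot_eq]]
    exact QuotientGroup.map_mk'_self A)
  -- nothing in `A` but `1` centralizes `K`
  have hC0 : A ⊓ centralizer (K : Set G) = ⊥ := by
    by_contra hne
    set C0 := A ⊓ centralizer (K : Set G)
    obtain ⟨e, he⟩ := IsPGroup.iff_card.1 (hAp.to_le (inf_le_left : C0 ≤ A))
    have he0 : e ≠ 0 := fun h0 => hne (card_eq_one.1 (by rw [he, h0, pow_zero]))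
    obtain ⟨y₀, hy₀⟩ := exists_prime_orderOf_dvd_card' (G := C0) p (he ▸ dvd_pow_self p he0)
    have hy : orderOf (y₀ : G) = p := by rw [Subgroup.orderOf_coe, hy₀]
    have hyM : M ≤ centralizer {(y₀ : G)} := by
      rw [← hsupK]
      refine sup_le (fun x hx => mem_centralizer_singleton_iff.2 ((hall _ hy).2 x hx))
        fun x hx => mem_centralizer_singleton_iff.2 ?_
      exact mem_centralizer_iff.1 (mem_inf.1 y₀.2).2 x hx
    have hKA : K ≤ centralizer (A : Set G) := by
      refine LocalStructure.le_centralizer_of_fixes_omega hp hAp ?_ ?_ ?_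
      · intro x _; rw [normalizer_eq_top]; exact mem_top x
      · rw [hKc]; exact hcoprR
      · intro v hv hv1 x hx
        by_cases hv' : v = 1
        · simp [hv']
        obtain ⟨a, k, hak⟩ := htrans y₀ v hy (orderOf_eq_prime hv1 hv')
        have h1 : a.symm x * (y₀ : G) ^ k = (y₀ : G) ^ k * a.symm x :=
          (show Commute (a.symm x) (y₀ : G) from
            mem_centralizer_singleton_iff.1 (hyM (haM a.symm x (hKM hx)))).zpow_right k
        have h2 := congrArg a h1
        rw [hak]
        simpa using h2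
    exact hKbot (le_bot_iff.1 (hinfK ▸ le_inf (hKA.trans hC) le_rfl))
  -- the Frattini argument
  have hsolvA : Group.IsSolvable A := by have := hAp.isNilpotent; infer_instance
  set N := normalizer (K : Set G)
  have hAN : A ⊓ N = ⊥ := by
    rw [← le_bot_iff, ← hC0]
    intro x hx
    refine mem_inf.2 ⟨(mem_inf.1 hx).1, ?_⟩
    rw [mem_centralizer_iff]
    intro k hk
    have h1 : ⁅x, k⁆ ∈ A ⊓ K := mem_inf.2 ⟨by
      rw [show ⁅x, k⁆ = x * (k * x⁻¹ * k⁻¹) by rw [commutatorElement_def]; group]
      exact mul_mem (mem_inf.1 hx).1 (hAn.conj_mem _ (inv_mem (mem_inf.1 hx).1) k),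
      mul_mem ((mem_normalizer_iff.1 (mem_inf.1 hx).2 k).1 hk) (inv_mem hk)⟩
    rw [hinfK, mem_bot, commutatorElement_eq_one_iff_mul_comm] at h1
    exact h1.symm
  have hAN' : A ⊔ N = ⊤ := by
    refine eq_top_iff.2 fun g _ => ?_
    have hgA : MulAut.conj g • A = A :=
      Coprime.conj_smul_eq_self_of_mem_normalizer (by rw [normalizer_eq_top]; exact mem_top g)
    have hgM : MulAut.conj g • M = M :=
      Coprime.conj_smul_eq_self_of_mem_normalizer (by rw [normalizer_eq_top]; exact mem_top g)
    have h1 : A ⊓ MulAut.conj g • K = ⊥ :=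
      Coprime.inf_eq_bot_of_coprime (by rwa [Coprime.card_conj_smul])
    have h2 : A ⊔ MulAut.conj g • K = A ⊔ K := by
      conv_lhs => rw [← hgA, ← smul_sup, hsupK, hgM, ← hsupK]
    obtain ⟨a, ha, he⟩ := Coprime.exists_conj_of_sup_eq
      (H := MulAut.conj g • K) (K := K) (N := A)
      (fun x _ => by rw [normalizer_eq_top]; exact mem_top x) h1 hinfK h2
      (by rwa [Coprime.card_conj_smul]) (Or.inl hsolvA)
    rw [← Coprime.conj_mul_smul] at he
    rw [← inv_mul_cancel_left a g]
    exact mul_mem (mem_sup_left (inv_mem ha))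
      (mem_sup_right (Coprime.mem_normalizer_of_conj_smul_eq he))
  have hNc : Nat.card N = A.index := by
    rw [← relIndex_top_right, ← hAN', relIndex_sup_left (K := A) (H := N),
      ← inf_relIndex_right, hAN, relIndex_bot_left]
  obtain ⟨y₀, hy₀⟩ := exists_prime_orderOf_dvd_card' (G := N) p (hNc ▸ hidx)
  have hy : orderOf (y₀ : G) = p := by rw [Subgroup.orderOf_coe, hy₀]
  have h1 : (y₀ : G) ∈ A ⊓ N := mem_inf.2 ⟨(hall _ hy).1, y₀.2⟩
  rw [hAN, mem_bot] at h1
  rw [h1, orderOf_one] at hy
  exact hpp.one_lt.ne hy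

omit [Fact p.Prime] in
theorem pLengthLE_one_of (h : ¬ p ∣ (pCore p (G ⧸ pPrimeCore p G)).index) (hp : p.Prime) :
    PLengthLE p 1 G := by
  have key : ∀ (U1 : Subgroup G) [U1.Normal], U1 = pPrimeCore p G →
      ¬ p ∣ ((pCore p (G ⧸ U1)).comap (QuotientGroup.mk' U1)).index := by
    intro U1 _ e
    subst e
    rw [index_comap_of_surjective _ (QuotientGroup.mk'_surjective _)]
    exact h
  have hn := fun n => (upperPSeries p G n).2
  have e1 : (upperPSeries p G 1).1 =
      (pPrimeCore p (G ⧸ (upperPSeries p G 0).1)).comap (QuotientGroup.mk' _) := by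
    simp [upperPSeries]
  have e2 : (upperPSeries p G 2).1 =
      (pCore p (G ⧸ (upperPSeries p G 1).1)).comap (QuotientGroup.mk' _) := by
    simp [upperPSeries]
  have e3 : (upperPSeries p G 3).1 =
      (pPrimeCore p (G ⧸ (upperPSeries p G 2).1)).comap (QuotientGroup.mk' _) := by
    simp [upperPSeries]
  have hU1 : (upperPSeries p G 1).1 = pPrimeCore p G := by
    refine le_antisymm ?_ ?_
    · have := hn 1
      refine Core.le_pPrimeCore ?_
      have hdvd : Nat.card (upperPSeries p G 1).1 ∣
          Nat.card (pPrimeCore p (G ⧸ (upperPSeries p G 0).1)) := by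
        have hinj : Function.Injective (QuotientGroup.mk' (upperPSeries p G 0).1) := by
          rw [← MonoidHom.ker_eq_bot_iff, QuotientGroup.ker_mk']
          rfl
        rw [e1]
        exact card_comap_dvd_of_injective _ _ hinj
      exact Core.coprime_card_pPrimeCore.coprime_dvd_left hdvd
    · rw [e1, ← map_le_iff_le_comap]
      exact Core.map_pPrimeCore_le_of_surjective (QuotientGroup.mk'_surjective _)
  have := hn 1
  have h2 := key _ hU1
  rw [← e2] at h2
  have := hn 2
  show (upperPSeries p G 3).1 = ⊤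
  rw [e3, Core.pPrimeCore_eq_top, comap_top]
  rw [← index_eq_card]
  exact ((hp.coprime_iff_not_dvd).2 h2).symm

/-- The Gaschütz–Yen Theorem: let G be a finite p-soluble group, p an odd prime dividing its order, such that the automorphism group of G permutes the subgroups of G of order p transitively. Then G has p-length at most 1. -/
theorem result {G : Type*} [Group G] [Finite G] {p : ℕ} [Fact p.Prime] (hp : p ≠ 2) (hdvd : p ∣ Nat.card G) (hG : Cfsg.IsPSolvable p G) (htrans : ∀ U V : Subgroup G, Nat.card U = p → Nat.card V = p → ∃ a : MulAut G, U.map a.toMonoidHom = V) : Cfsg.PLengthLE p 1 G := by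
  have hpp : p.Prime := Fact.out
  refine pLengthLE_one_of ?_ hpp
  set O := pPrimeCore p G
  set π := QuotientGroup.mk' O
  have hπ := QuotientGroup.mk'_surjective O
  have hOc : (Nat.card O).Coprime p := Core.coprime_card_pPrimeCore
  refine not_dvd_index_pCore hp ?_ (Layer.isPSolvable_of_surjective hG hπ)
    Core.pPrimeCore_quotient_eq_bot ?_
  · have h1 := O.card_eq_card_quotient_mul_card_subgroup
    exact hOc.symm.dvd_of_dvd_mul_right (h1 ▸ hdvd)
  · intro x y hx hy
    have lift : ∀ q : G ⧸ O, orderOf q = p → ∃ g : G, orderOf g = p ∧ q ∈ zpowers (π g) := by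
      intro q hq
      set L := (zpowers q).comap π
      have hL : p ∣ Nat.card L := by
        have h1 : L.index = (zpowers q).index := index_comap_of_surjective _ hπ
        have h2 := L.card_mul_index
        rw [h1, O.card_eq_card_quotient_mul_card_subgroup, ← (zpowers q).card_mul_index,
          Nat.card_zpowers, hq] at h2
        have h3 : 0 < (zpowers q).index := Nat.pos_of_ne_zero index_ne_zero_of_finite
        have h4 : Nat.card L = p * Nat.card O :=
          Nat.eq_of_mul_eq_mul_right h3 (by rw [h2]; ring)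
        exact h4 ▸ dvd_mul_right p _
      obtain ⟨g, hg⟩ := exists_prime_orderOf_dvd_card' (G := L) p hL
      have hg' : orderOf (g : G) = p := by rw [Subgroup.orderOf_coe, hg]
      refine ⟨g, hg', ?_⟩
      have hne : π g ≠ 1 := by
        intro e
        have h1 := O.orderOf_dvd_natCard ((QuotientGroup.eq_one_iff (g : G)).1 e)
        rw [hg'] at h1
        exact hpp.not_dvd_one (Nat.Coprime.eq_one_of_dvd hOc.symm h1 ▸ dvd_rfl)
      have h2 : orderOf (π g) = p := by
        refine ((Nat.dvd_prime hpp).1 ((orderOf_map_dvd π (g : G)).trans hg'.dvd)).resolve_left ?_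
        rwa [orderOf_eq_one_iff]
      have h3 : zpowers (π g) = zpowers q := eq_of_le_of_card_ge ((zpowers_le).2 g.2)
        (by rw [Nat.card_zpowers, Nat.card_zpowers, h2, hq])
      rw [h3]; exact mem_zpowers q
    obtain ⟨g, hg, hxg⟩ := lift x hx
    obtain ⟨h, hh, hyh⟩ := lift y hy
    obtain ⟨a, ha⟩ := htrans (zpowers g) (zpowers h) (by rw [Nat.card_zpowers, hg])
      (by rw [Nat.card_zpowers, hh])
    let b : (G ⧸ O) ≃* (G ⧸ O) := QuotientGroup.congr O O a (Core.map_pPrimeCore a)
    have hb : ∀ w, b (π w) = π (a w) := fun w => rfl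
    -- `x` generates the image of `⟨g⟩`
    have hgx : zpowers x = zpowers (π g) := by
      refine eq_of_le_of_card_ge ((zpowers_le).2 hxg) ?_
      rw [Nat.card_zpowers, Nat.card_zpowers, hx]
      exact Nat.le_of_dvd hpp.pos ((orderOf_map_dvd π g).trans hg.dvd)
    have h1 : (zpowers x).map b.toMonoidHom = zpowers (π h) := by
      rw [hgx, MonoidHom.map_zpowers]
      have h2 := congrArg (Subgroup.map π) ha
      rw [MonoidHom.map_zpowers, MonoidHom.map_zpowers, MonoidHom.map_zpowers] at h2
      exact h2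
    rw [← h1] at hyh
    obtain ⟨v, hv, hvy⟩ := hyh
    obtain ⟨k, rfl⟩ := mem_zpowers_iff.1 hv
    exact ⟨b, k, hvy.symm⟩

end Cfsg.Agent.S3798
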