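import Cfsg.Statements.S3802
import Cfsg.Agent.Layer.Subnormal
set_option autoImplicit false
open Cfsg

namespace Cfsg.Agent.S3802

open Subgroup

theorem exists_normal_above {G : Type*} [Group G] {S : Subgroup G} (hS : S.IsSubnormal) :
    S = ⊤ ∨ ∃ K, S < K ∧ K.IsSubnormal ∧ K ≤ normalizer (S : Set G) := by
  induction hS with
  | top => exact Or.inl rfl
  | step H K hHK hK hN ih =>
    by_cases h : H = K
    · exact h ▸ ih
    · exact Or.inr ⟨K, lt_of_le_of_ne hHK h, hK, (normal_subgroupOf_iff_le_normalizer hHK).mp hN⟩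


/-- Let G be a finite group, M a maximal subgroup of G and N a subnormal subgroup of G contained in M. Then N is contained in every conjugate of M, that is, N lies in the core of M in G. -/
theorem result {G : Type*} [Group G] [Finite G] (M N : Subgroup G) (hM : IsCoatom M) (hN : N.IsSubnormal) (hNM : N ≤ M) :
    N ≤ Subgroup.normalCore M := by
  set s : Set (Subgroup G) := {X | X.IsSubnormal ∧ X ≤ M}
  set S := sSup s with hS
  have hSM : S ≤ M := sSup_le fun X hX => hX.2
  have hSn : S.IsSubnormal := Layer.isSubnormal_sSup fun X hX => hX.1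
  have hMS : M ≤ normalizer (S : Set G) := fun m hm => Layer.mem_normalizer_of_conj_mem fun x hx => by
    have : S ≤ S.comap (MulAut.conj m).toMonoidHom := sSup_le fun X hX => by
      rw [← map_le_iff_le_comap]
      refine le_sSup ⟨Layer.isSubnormal_map_conj hX.1 m, fun y hy => ?_⟩
      obtain ⟨z, hz, rfl⟩ := hy
      exact M.mul_mem (M.mul_mem hm (hX.2 hz)) (M.inv_mem hm)
    exact this hx
  rcases exists_normal_above hSn with h | ⟨K, hSK, hK, hKS⟩
  · exact absurd (top_le_iff.mp (h ▸ hSM)) hM.1
  rcases eq_or_lt_of_le hMS with h | h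
  · refine absurd (le_sSup (show K ∈ s from ⟨hK, ?_⟩)) hSK.not_ge
    rw [h]; exact hKS
  · have hnorm : S.Normal := normalizer_eq_top_iff.mp (hM.2 _ h)
    exact (le_sSup (show N ∈ s from ⟨hN, hNM⟩)).trans (Subgroup.normal_le_normalCore.mpr hSM)

end Cfsg.Agent.S3802
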