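import Cfsg.Statements.S3804
import Cfsg.Agent.CentLarge.Basic
set_option autoImplicit false
open Cfsg

namespace Cfsg.Agent.S3804

open Subgroup
open scoped Pointwise


/-- Let G and H be subgroups of a finite group with G normalizing H, fix a real number α > 0, and for a subgroup A of G put m(A) = |A|^α · |C_H(A)|. Let A and B be nontrivial subgroups of G at which m attains its maximum over all nontrivial subgroups of G, and assume that A ∩ B ≠ 1 or that this maximum is at least |H|. Then AB = BA is a subgroup at which m is again maximal, C_H(A ∩ B) = C_H(A) C_H(B), and if A ∩ B ≠ 1 then m is maximal at A ∩ B as well. -/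
theorem result {X : Type*} [Group X] [Finite X] (G H : Subgroup X) (hGH : G ≤ Subgroup.normalizer (H : Set X)) (α : ℝ) (hα : 0 < α)
    (A B : Subgroup X) (hA : A ≤ G) (hB : B ≤ G) (hA1 : A ≠ ⊥) (hB1 : B ≠ ⊥)
    (hAmax : ∀ A' : Subgroup X, A' ≤ G → A' ≠ ⊥ → (fun A : Subgroup X => ((Nat.card A : ℝ) ^ α) * (Nat.card ↥(H ⊓ Subgroup.centralizer (A : Set X)) : ℝ)) A' ≤ (fun A : Subgroup X => ((Nat.card A : ℝ) ^ α) * (Nat.card ↥(H ⊓ Subgroup.centralizer (A : Set X)) : ℝ)) A)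
    (hBmax : ∀ A' : Subgroup X, A' ≤ G → A' ≠ ⊥ → (fun A : Subgroup X => ((Nat.card A : ℝ) ^ α) * (Nat.card ↥(H ⊓ Subgroup.centralizer (A : Set X)) : ℝ)) A' ≤ (fun A : Subgroup X => ((Nat.card A : ℝ) ^ α) * (Nat.card ↥(H ⊓ Subgroup.centralizer (A : Set X)) : ℝ)) B)
    (hcase : A ⊓ B ≠ ⊥ ∨ (Nat.card H : ℝ) ≤ (fun A : Subgroup X => ((Nat.card A : ℝ) ^ α) * (Nat.card ↥(H ⊓ Subgroup.centralizer (A : Set X)) : ℝ)) A) :
    (∀ a ∈ A, ∀ b ∈ B, ∃ b' ∈ B, ∃ a' ∈ A, a * b = b' * a') ∧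
    (∀ A' : Subgroup X, A' ≤ G → A' ≠ ⊥ → (fun A : Subgroup X => ((Nat.card A : ℝ) ^ α) * (Nat.card ↥(H ⊓ Subgroup.centralizer (A : Set X)) : ℝ)) A' ≤ (fun A : Subgroup X => ((Nat.card A : ℝ) ^ α) * (Nat.card ↥(H ⊓ Subgroup.centralizer (A : Set X)) : ℝ)) (A ⊔ B)) ∧
    (∀ h ∈ H ⊓ Subgroup.centralizer ((A ⊓ B : Subgroup X) : Set X), ∃ u ∈ H ⊓ Subgroup.centralizer (A : Set X), ∃ v ∈ H ⊓ Subgroup.centralizer (B : Set X), h = u * v) ∧
    (A ⊓ B ≠ ⊥ → ∀ A' : Subgroup X, A' ≤ G → A' ≠ ⊥ → (fun A : Subgroup X => ((Nat.card A : ℝ) ^ α) * (Nat.card ↥(H ⊓ Subgroup.centralizer (A : Set X)) : ℝ)) A' ≤ (fun A : Subgroup X => ((Nat.card A : ℝ) ^ α) * (Nat.card ↥(H ⊓ Subgroup.centralizer (A : Set X)) : ℝ)) (A ⊓ B)) := by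
  simp only at hAmax hBmax hcase ⊢
  set m : Subgroup X → ℝ := fun A => ((Nat.card A : ℝ) ^ α) * (Nat.card ↥(H ⊓ centralizer (A : Set X)) : ℝ)
  set M := m A with hM
  have hBA : m B = M := le_antisymm (hAmax B hB hB1) (hBmax A hA hA1)
  set CA := H ⊓ centralizer (A : Set X)
  set CB := H ⊓ centralizer (B : Set X)
  set P := Nat.card ↥((A : Set X) * (B : Set X))
  set Q := Nat.card ↥((CA : Set X) * (CB : Set X))
  have hP : P * Nat.card (A ⊓ B : Subgroup X) = Nat.card A * Nat.card B := CentLarge.card_mul_card_inf A B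
  have hQ : Q * Nat.card (CA ⊓ CB : Subgroup X) = Nat.card CA * Nat.card CB := CentLarge.card_mul_card_inf CA CB
  have hJ : CA ⊓ CB = H ⊓ centralizer ((A ⊔ B : Subgroup X) : Set X) := by
    rw [CentLarge.centralizer_sup, ← inf_inf_distrib_left]
  have hPs : P ≤ Nat.card (A ⊔ B : Subgroup X) :=
    Nat.card_mono (Set.toFinite _) (CentLarge.set_mul_subset_sup A B)
  set T := H ⊓ centralizer ((A ⊓ B : Subgroup X) : Set X)
  have hsubT : (CA : Set X) * (CB : Set X) ⊆ (T : Set X) := (CentLarge.set_mul_subset_sup CA CB).trans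
    (sup_le (inf_le_inf_left _ (centralizer_le (SetLike.coe_subset_coe.2 inf_le_left)))
      (inf_le_inf_left _ (centralizer_le (SetLike.coe_subset_coe.2 inf_le_right))) : CA ⊔ CB ≤ T)
  have hQT : Q ≤ Nat.card T := Nat.card_mono (Set.toFinite _) hsubT
  have hsup1 : A ⊔ B ≠ ⊥ := fun h => hA1 (le_bot_iff.mp (h ▸ le_sup_left))
  have hS := hAmax (A ⊔ B) (sup_le hA hB) hsup1
  have hI : m (A ⊓ B) ≤ M := by
    by_cases h : A ⊓ B = ⊥
    · refine le_trans (le_of_eq ?_) ((hcase.resolve_left (fun h' => h' h)))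
      simp only [m, h]
      rw [show H ⊓ centralizer ((⊥ : Subgroup X) : Set X) = H from inf_eq_left.mpr fun x _ => by
        rintro y hy; rw [SetLike.mem_coe, mem_bot] at hy; simp [hy]]
      simp
    · exact hAmax _ (inf_le_left.trans hA) h
  have hpos : ∀ Y : Subgroup X, (0 : ℝ) < Nat.card Y := fun Y => by exact_mod_cast Nat.card_pos
  have hMpos : 0 < M := mul_pos (Real.rpow_pos_of_pos (hpos A) α) (hpos _)
  have hPp : (0 : ℝ) < P := by
    have : 0 < P * Nat.card (A ⊓ B : Subgroup X) := hP ▸ Nat.mul_pos Nat.card_pos Nat.card_pos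
    exact_mod_cast Nat.pos_of_mul_pos_right this
  set I : ℝ := (Nat.card (A ⊓ B : Subgroup X) : ℝ) ^ α
  set J : ℝ := (Nat.card (CA ⊓ CB : Subgroup X) : ℝ)
  have hIJ : 0 < I * J := mul_pos (Real.rpow_pos_of_pos (hpos _) α) (hpos _)
  have h1 : M * M = ((P : ℝ) ^ α * Q) * (I * J) := by
    have e1 : (P : ℝ) ^ α * I = (Nat.card A : ℝ) ^ α * (Nat.card B : ℝ) ^ α := by
      rw [← Real.mul_rpow hPp.le (hpos _).le, ← Real.mul_rpow (hpos A).le (hpos B).le]
      exact_mod_cast congrArg (fun n : ℕ => (n : ℝ) ^ α) hP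
    have e2 : (Q : ℝ) * J = (Nat.card CA : ℝ) * (Nat.card CB : ℝ) := by
      simp only [J]
      rw [← Nat.cast_mul, ← Nat.cast_mul, hQ]
    calc M * M = m A * m B := by rw [hBA]
      _ = ((Nat.card A : ℝ) ^ α * (Nat.card B : ℝ) ^ α) * ((Nat.card CA : ℝ) * (Nat.card CB : ℝ)) := by
        simp only [m]; ring
      _ = ((P : ℝ) ^ α * I) * ((Q : ℝ) * J) := by rw [e1, e2]
      _ = _ := by ring
  set Sc : ℝ := (Nat.card (A ⊔ B : Subgroup X) : ℝ)
  have h2 : m (A ⊔ B) * m (A ⊓ B) = (Sc ^ α * Nat.card T) * (I * J) := by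
    simp only [m, J, hJ]; ring
  have hPa : (P : ℝ) ^ α ≤ Sc ^ α := Real.rpow_le_rpow hPp.le (Nat.cast_le.mpr hPs) hα.le
  have hQc : (Q : ℝ) ≤ Nat.card T := Nat.cast_le.mpr hQT
  have hQp : (0 : ℝ) < Q := by
    have : 0 < Q * Nat.card (CA ⊓ CB : Subgroup X) := hQ ▸ Nat.mul_pos Nat.card_pos Nat.card_pos
    exact_mod_cast Nat.pos_of_mul_pos_right this
  have hSp : 0 < Sc ^ α := Real.rpow_pos_of_pos (hpos _) α
  have hkey : Sc ^ α * Nat.card T ≤ (P : ℝ) ^ α * Q := by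
    refine le_of_mul_le_mul_right ?_ hIJ
    rw [← h1, ← h2]
    exact mul_le_mul hS hI (mul_nonneg (Real.rpow_nonneg (hpos _).le α) (hpos _).le) hMpos.le
  have hQeq : (Nat.card T : ℝ) ≤ Q := le_of_mul_le_mul_left
    (hkey.trans (mul_le_mul_of_nonneg_right hPa hQp.le)) hSp
  have hPeq : Sc ≤ P := by
    refine (Real.rpow_le_rpow_iff (hpos _).le hPp.le hα).mp (le_of_mul_le_mul_right ?_ (hpos T))
    exact hkey.trans (mul_le_mul_of_nonneg_left hQc (Real.rpow_nonneg hPp.le α))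
  have hsetP : (A : Set X) * (B : Set X) = ((A ⊔ B : Subgroup X) : Set X) :=
    Set.eq_of_subset_of_ncard_le (CentLarge.set_mul_subset_sup A B) (by
      rw [← Nat.card_coe_set_eq, ← Nat.card_coe_set_eq]; exact (Nat.cast_le (α := ℝ)).mp hPeq) (Set.toFinite _)
  have hsetQ : (CA : Set X) * (CB : Set X) = (T : Set X) :=
    Set.eq_of_subset_of_ncard_le hsubT (by
      rw [← Nat.card_coe_set_eq, ← Nat.card_coe_set_eq]; exact (Nat.cast_le (α := ℝ)).mp hQeq) (Set.toFinite _)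
  have hprod : M * M ≤ m (A ⊔ B) * m (A ⊓ B) := by
    rw [h1, h2]
    exact mul_le_mul_of_nonneg_right (mul_le_mul hPa hQc hQp.le hSp.le) hIJ.le
  refine ⟨fun a ha b hb => ?_, fun A' h1 h2 => (hAmax A' h1 h2).trans ?_, fun h hh => ?_,
    fun _ A' h1 h2 => (hAmax A' h1 h2).trans ?_⟩
  · obtain ⟨a', ha', b', hb', he⟩ : ∃ a' ∈ A, ∃ b' ∈ B, a' * b' = (a * b)⁻¹ := by
      have : (a * b)⁻¹ ∈ ((A : Set X) * (B : Set X)) := by
        rw [hsetP]; exact inv_mem (mul_mem_sup ha hb)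
      exact Set.mem_mul.mp this
    refine ⟨b'⁻¹, B.inv_mem hb', a'⁻¹, A.inv_mem ha', ?_⟩
    rw [← mul_inv_rev, he, inv_inv]
  · exact le_of_mul_le_mul_right (hprod.trans (mul_le_mul_of_nonneg_left hI
      (mul_nonneg (Real.rpow_nonneg (hpos _).le α) (hpos _).le))) hMpos
  · obtain ⟨u, hu, v, hv, rfl⟩ := Set.mem_mul.mp (hsetQ.symm.le hh)
    exact ⟨u, hu, v, hv, rfl⟩
  · exact le_of_mul_le_mul_left (hprod.trans (mul_le_mul_of_nonneg_right hS
      (mul_nonneg (Real.rpow_nonneg (hpos _).le α) (hpos _).le))) hMpos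

end Cfsg.Agent.S3804
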