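import Cfsg.Statements.S3807
import Cfsg.Agent.PIndex.Basic

set_option autoImplicit false
open Cfsg

namespace Cfsg.Agent.S3807

open scoped commutatorElement

/-- Let S be a non-abelian finite p-group with an abelian subgroup A of index p. Then [S : Z(S)] = p·#[S,S], and either [S,S] has order p, S/Z(S) is elementary abelian of order p², and S has exactly p + 1 abelian subgroups of index p; or [S,S] has order at least p² and A is the only abelian subgroup of index p in S. -/
theorem result {S : Type*} [Group S] [Finite S] (p : ℕ) [Fact p.Prime] (hS : IsPGroup p S) (hna : ¬ IsMulCommutative S)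
    (A : Subgroup S) (hA : IsMulCommutative ↥A) (hAi : A.index = p) :
    (Subgroup.center S).index = p * Nat.card (commutator S) ∧
      ((Nat.card (commutator S) = p ∧ Cfsg.IsElementaryAbelian p (⊤ : Subgroup (S ⧸ Subgroup.center S)) ∧
          Nat.card (S ⧸ Subgroup.center S) = p ^ 2 ∧
          Nat.card {B : Subgroup S // IsMulCommutative ↥B ∧ B.index = p} = p + 1) ∨
        (p ^ 2 ≤ Nat.card (commutator S) ∧ ∀ B : Subgroup S, IsMulCommutative ↥B → B.index = p → B = A)) := by
  have hp : p.Prime := Fact.out
  have hidx := PIndex.index_center hS hna hA hAi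
  refine ⟨hidx, ?_⟩
  obtain ⟨k, hk⟩ := (hS.to_subgroup (commutator S)).exists_card_eq
  have hne : Nat.card (commutator S) ≠ 1 := by
    intro h
    apply hna
    refine ⟨⟨fun a b => ?_⟩⟩
    rw [← commutatorElement_eq_one_iff_mul_comm]
    rw [Subgroup.card_eq_one] at h
    exact (Subgroup.mem_bot).1 (h ▸ Subgroup.commutator_mem_commutator (Subgroup.mem_top a) (Subgroup.mem_top b))
  rcases Nat.lt_or_ge k 2 with hk2 | hk2
  · left
    have hk1 : k = 1 := by
      rcases k with - | k
      · simp [hk] at hne
      · omega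
    subst hk1
    rw [pow_one] at hk
    have hq : Nat.card (S ⧸ Subgroup.center S) = p ^ 2 := by
      rw [← Subgroup.index_eq_card, hidx, hk, sq]
    have hncyc : ¬ IsCyclic (S ⧸ Subgroup.center S) := fun h =>
      hna (isMulCommutative_of_isCyclic_quotient_center_self S)
    have hexp : ∀ v : S ⧸ Subgroup.center S, v ^ p = 1 := by
      intro v
      obtain ⟨j, hj, hjo⟩ := (Nat.dvd_prime_pow hp).1 (hq ▸ orderOf_dvd_natCard v)
      interval_cases j
      · rw [pow_zero] at hjo; rw [orderOf_eq_one_iff.1 hjo, one_pow]
      · rw [pow_one] at hjo; conv_lhs => rw [← hjo]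
        exact pow_orderOf_eq_one v
      · exact absurd (isCyclic_of_orderOf_eq_card v (by rw [hjo, hq])) hncyc
    refine ⟨hk, ⟨?_, fun v _ => hexp v⟩, hq, ?_⟩
    · refine ⟨⟨fun a b => Subtype.ext ?_⟩⟩
      exact ((IsPGroup.isMulCommutative_of_card_eq_prime_sq hq).is_comm.comm a.1 b.1)
    · rw [← PIndex.card_subgroups_prime hexp hq]
      set f := QuotientGroup.mk' (Subgroup.center S)
      have hf := QuotientGroup.mk'_surjective (Subgroup.center S)
      have hcm : ∀ B : Subgroup S, IsMulCommutative ↥B → B.index = p →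
          (B.map f).comap f = B := by
        intro B hB hBi
        rw [Subgroup.comap_map_eq, QuotientGroup.ker_mk', sup_eq_left]
        exact PIndex.center_le hna hB hBi
      refine Nat.card_congr
        { toFun := fun B => ⟨B.1.map f, ?_⟩
          invFun := fun K => ⟨K.1.comap f, ?_, ?_⟩
          left_inv := fun B => Subtype.ext (hcm B.1 B.2.1 B.2.2)
          right_inv := fun K => Subtype.ext (Subgroup.map_comap_eq_self_of_surjective hf K.1) }
      · have h1 := (B.1.map f).card_mul_index
        rw [← Subgroup.index_comap_of_surjective (B.1.map f) hf, hcm B.1 B.2.1 B.2.2, B.2.2, hq, sq] at h1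
        exact Nat.eq_of_mul_eq_mul_right hp.pos h1
      · haveI : IsCyclic K.1 := isCyclic_of_prime_card (p := p) K.2
        let g : K.1.comap f →* K.1 := (f.comp (K.1.comap f).subtype).codRestrict K.1 fun x => x.2
        exact g.isMulCommutative_of_isCyclic_of_ker_le_center fun x hx => by
          have hxz : (x : S) ∈ Subgroup.center S :=
            (QuotientGroup.eq_one_iff _).1 (congrArg Subtype.val hx)
          exact Subgroup.mem_center_iff.2 fun y => Subtype.ext (Subgroup.mem_center_iff.1 hxz y)
      · have h1 := K.1.card_mul_index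
        rw [K.2, hq, sq] at h1
        rw [Subgroup.index_comap_of_surjective _ hf]
        exact Nat.eq_of_mul_eq_mul_left hp.pos h1
  · right
    refine ⟨hk ▸ Nat.pow_le_pow_right hp.pos hk2, fun B hB hBi => ?_⟩
    by_contra hBA
    haveI := PIndex.normal_of_index hS hAi
    haveI := hA
    haveI := hB
    obtain ⟨x, hxB, hxA⟩ : ∃ x ∈ B, x ∉ A := by
      by_contra h
      push Not at h
      exact hBA (((PIndex.isCoatom_of_index hBi).le_iff.1 (show B ≤ A from h)).resolve_left
        (PIndex.isCoatom_of_index hAi).1).symm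
    have hle : A ⊓ B ≤ Subgroup.center S := by
      intro z hz
      have h2 : A ⊔ Subgroup.zpowers x ≤ Subgroup.centralizer {z} := by
        refine sup_le (fun w hw => ?_) (Subgroup.zpowers_le.2 ?_)
        · refine Subgroup.mem_centralizer_iff.2 fun u hu => ?_
          rw [Set.mem_singleton_iff.1 hu]
          exact congrArg Subtype.val (hA.is_comm.comm (⟨z, hz.1⟩ : A) ⟨w, hw⟩)
        · refine Subgroup.mem_centralizer_iff.2 fun u hu => ?_
          rw [Set.mem_singleton_iff.1 hu]
          exact congrArg Subtype.val (hB.is_comm.comm (⟨z, hz.2⟩ : B) ⟨x, hxB⟩)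
      rw [PIndex.sup_zpowers hAi hxA] at h2
      exact Subgroup.mem_center_iff.2 fun g =>
        ((Subgroup.mem_centralizer_iff.1 (h2 (Subgroup.mem_top g))) z rfl).symm
    have h3 := Nat.le_of_dvd (Nat.pos_of_ne_zero Subgroup.index_ne_zero_of_finite)
      (Subgroup.index_dvd_of_le hle)
    have h4 : (A ⊓ B).index ≤ A.index * B.index := Subgroup.index_inf_le
    rw [hidx, hk] at h3
    rw [hAi, hBi] at h4
    have h5 : p * p ^ 2 ≤ p * p ^ k := Nat.mul_le_mul_left p (Nat.pow_le_pow_right hp.pos hk2)
    have h6 : p * p < p * p ^ 2 := Nat.mul_lt_mul_of_pos_left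
      (lt_self_pow₀ hp.one_lt (by norm_num)) hp.pos
    omega

end Cfsg.Agent.S3807
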