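import Cfsg.Statements.S3808
import Cfsg.Agent.PIndex.Basic

set_option autoImplicit false
open Cfsg

namespace Cfsg.Agent.S3808

open scoped commutatorElement

/-- Let S be a finite p-group with an extraspecial subgroup Q of index p. Then either Z(S) = Z(Q), or S = Q·Z(S) and Z(S) has order p². -/
theorem result {S : Type*} [Group S] [Finite S] (p : ℕ) [Fact p.Prime] (hS : IsPGroup p S) (Q : Subgroup S) (hQ : Cfsg.IsExtraspecial p ↥Q) (hQi : Q.index = p) :
    Subgroup.center S = (Subgroup.center ↥Q).map Q.subtype ∨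
      (Q ⊔ Subgroup.center S = ⊤ ∧ Nat.card (Subgroup.center S) = p ^ 2) := by
  have hp : p.Prime := Fact.out
  haveI := PIndex.normal_of_index hS hQi
  have hinf := PIndex.inf_center hS hQ hQi
  by_cases hZ : Subgroup.center S ≤ Q
  · exact Or.inl (by rw [← hinf, inf_eq_right.2 hZ])
  · right
    obtain ⟨z, hz, hzQ⟩ := SetLike.not_le_iff_exists.1 hZ
    have htop : Q ⊔ Subgroup.center S = ⊤ := eq_top_iff.2
      ((PIndex.sup_zpowers hQi hzQ).ge.trans (sup_le_sup_left (Subgroup.zpowers_le.2 hz) _))
    refine ⟨htop, ?_⟩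
    have h1 := Subgroup.relIndex_sup_left (H := Subgroup.center S) (K := Q)
    rw [htop, Subgroup.relIndex_top_right, hQi] at h1
    have h2 := Subgroup.relIndex_mul_relIndex ⊥ (Q ⊓ Subgroup.center S) (Subgroup.center S)
      bot_le inf_le_right
    rw [Subgroup.relIndex_bot_left, Subgroup.relIndex_bot_left, Subgroup.inf_relIndex_right, ← h1,
      hinf, Subgroup.card_map_of_injective Q.subtype_injective, hQ.2] at h2
    rw [← h2, sq]

end Cfsg.Agent.S3808
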