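import Cfsg.Statements.S3809
import Cfsg.Agent.PIndex.Basic

set_option autoImplicit false
open Cfsg

namespace Cfsg.Agent.S3809

open scoped commutatorElement

/-- Let S be a finite p-group with an extraspecial subgroup of index p. Then S has order p^(2+2n) for some n ≥ 1, derived length at most 3, and exponent dividing p³. -/
theorem result {S : Type*} [Group S] [Finite S] (p : ℕ) [Fact p.Prime] (hS : IsPGroup p S) (Q : Subgroup S) (hQ : Cfsg.IsExtraspecial p ↥Q) (hQi : Q.index = p) :
    (∃ n : ℕ, 1 ≤ n ∧ Nat.card S = p ^ (2 + 2 * n)) ∧ derivedSeries S 3 = ⊥ ∧ ∀ x : S, x ^ (p ^ 3) = 1 := by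
  have hp : p.Prime := Fact.out
  refine ⟨?_, ?_, fun x => ?_⟩
  · obtain ⟨n, hn, hc⟩ := PIndex.card_extraspecial hQ
    refine ⟨n, hn, ?_⟩
    rw [← Q.card_mul_index, hQi, hc, ← pow_succ]
    ring_nf
  · have h1 : derivedSeries S 1 ≤ Q := by
      rw [derivedSeries_one]; exact PIndex.commutator_le_of_index hS hQi
    have h2 : derivedSeries S 2 ≤ (Subgroup.center ↥Q).map Q.subtype := by
      rw [derivedSeries_succ, Subgroup.commutator_le]
      intro a ha b hb
      exact ⟨⁅(⟨a, h1 ha⟩ : Q), ⟨b, h1 hb⟩⁆, Fusion.es_commutator_mem hQ _ _,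
        map_commutatorElement Q.subtype _ _⟩
    rw [derivedSeries_succ, eq_bot_iff, Subgroup.commutator_le]
    intro a ha b hb
    rw [Subgroup.mem_bot, commutatorElement_eq_one_iff_mul_comm]
    exact (Subgroup.mem_center_iff.1 (PIndex.map_center_le hS hQ hQi (h2 ha)) b).symm
  · haveI := PIndex.normal_of_index hS hQi
    have h1 : x ^ p ∈ Q := by rw [← hQi]; exact Subgroup.pow_index_mem Q x
    have h2 : ((⟨x ^ p, h1⟩ : Q) ^ p) ^ p = 1 :=
      Fusion.es_center_pow hQ (Fusion.es_pow_mem_center hQ _)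
    rw [show p ^ 3 = p * p * p by ring, pow_mul, pow_mul]
    exact congrArg Subtype.val h2

end Cfsg.Agent.S3809
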