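import Cfsg.Statements.S3810
import Cfsg.Agent.PIndex.Basic

set_option autoImplicit false
open Cfsg

namespace Cfsg.Agent.S3810

open scoped commutatorElement

/-- Let S be a finite p-group with an extraspecial subgroup of index p. Then S has an abelian subgroup of index p if and only if S has order p⁴. -/
theorem result {S : Type*} [Group S] [Finite S] (p : ℕ) [Fact p.Prime] (hS : IsPGroup p S) (Q : Subgroup S) (hQ : Cfsg.IsExtraspecial p ↥Q) (hQi : Q.index = p) :
    (∃ A : Subgroup S, IsMulCommutative ↥A ∧ A.index = p) ↔ Nat.card S = p ^ 4 := by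
  have hp : p.Prime := Fact.out
  haveI := PIndex.normal_of_index hS hQi
  obtain ⟨n, hn, hc⟩ := PIndex.card_extraspecial hQ
  have hScard : Nat.card S = p ^ (2 * n + 1) * p := by rw [← Q.card_mul_index, hQi, hc]
  constructor
  · rintro ⟨A, hA, hAi⟩
    haveI := hA
    obtain ⟨x, hxQ, hxA⟩ : ∃ x ∈ Q, x ∉ A := by
      by_contra h
      push Not at h
      refine PIndex.not_commutative hQ ⟨⟨fun a b => Subtype.ext ?_⟩⟩
      have h' := congrArg Subtype.val (hA.is_comm.comm (⟨a, h a a.2⟩ : A) ⟨b, h b b.2⟩)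
      simpa using h'
    haveI := PIndex.normal_of_index hS hAi
    have hAQ : A ⊔ Q = ⊤ := eq_top_iff.2
      ((PIndex.sup_zpowers hAi hxA).ge.trans (sup_le_sup_left (Subgroup.zpowers_le.2 hxQ) _))
    have h1 := Subgroup.relIndex_sup_left (H := Q) (K := A)
    rw [hAQ, Subgroup.relIndex_top_right, hAi] at h1
    have h2 := PIndex.index_center (hS.to_subgroup Q) (PIndex.not_commutative hQ)
      (A := A.subgroupOf Q)
      ⟨⟨fun a b => Subtype.ext (Subtype.ext (by
        have h' := congrArg Subtype.val (hA.is_comm.comm (⟨((a : Q) : S), a.2⟩ : A) ⟨((b : Q) : S), b.2⟩)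
        simpa using h'))⟩⟩
      h1.symm
    rw [hQ.1.2.2, hQ.2] at h2
    have h3 := (Subgroup.center ↥Q).card_mul_index
    rw [h2, hQ.2, hc, show p * (p * p) = p ^ 3 by ring] at h3
    have := Nat.pow_right_injective hp.two_le h3
    rw [hScard, ← pow_succ]
    congr 1
    omega
  · intro h4
    have hn1 : n = 1 := by
      rw [hScard, ← pow_succ] at h4
      have := Nat.pow_right_injective hp.two_le h4
      omega
    subst hn1
    set Z := (Subgroup.center ↥Q).map Q.subtype with hZ
    haveI : Z.Normal := by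
      refine ⟨fun z hz g => ?_⟩
      rw [(Subgroup.mem_center_iff.1 (PIndex.map_center_le hS hQ hQi hz) g), mul_inv_cancel_right]
      exact hz
    have hZc : Nat.card Z = p := by
      rw [Subgroup.card_map_of_injective Q.subtype_injective, hQ.2]
    set f := QuotientGroup.mk' Z
    have hf := QuotientGroup.mk'_surjective Z
    haveI : (Q.map f).Normal := Subgroup.Normal.map inferInstance f hf
    have hQf : Q.map f ≠ ⊥ := by
      intro h
      rw [Subgroup.map_eq_bot_iff, QuotientGroup.ker_mk'] at h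
      have := Subgroup.card_le_of_le h
      rw [hZc, hc] at this
      exact absurd this (not_le.2 (lt_self_pow₀ hp.one_lt (by norm_num)))
    obtain ⟨v, ⟨⟨x, hxQ, rfl⟩, hvc⟩, hv1⟩ := (Subgroup.bot_or_exists_ne_one _).resolve_left
      (Fusion.pGroup_inf_center_ne_bot (hS.to_quotient Z) _ hQf)
    have hxZ : x ∉ Z := fun h => hv1 ((QuotientGroup.eq_one_iff x).2 h)
    have hZS : Z ≤ Subgroup.center S := PIndex.map_center_le hS hQ hQi
    have hcomm : ∀ g : S, ⁅g, x⁆ ∈ Z := fun g => by
      rw [← QuotientGroup.eq_one_iff]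
      show f ⁅g, x⁆ = 1
      rw [map_commutatorElement, commutatorElement_eq_one_iff_mul_comm]
      exact Subgroup.mem_center_iff.1 hvc (f g)
    let φ : S →* Z := MonoidHom.mk' (fun g => ⟨⁅g, x⁆, hcomm g⟩) fun a b => Subtype.ext (by
      show ⁅a * b, x⁆ = ⁅a, x⁆ * ⁅b, x⁆
      have e := Subgroup.mem_center_iff.1 (hZS (hcomm b)) a
      calc ⁅a * b, x⁆ = a * ⁅b, x⁆ * (x * a⁻¹ * x⁻¹) := by
            simp only [commutatorElement_def]; group
        _ = ⁅b, x⁆ * a * (x * a⁻¹ * x⁻¹) := by rw [e]
        _ = ⁅b, x⁆ * ⁅a, x⁆ := by simp only [commutatorElement_def]; group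
        _ = _ := (Subgroup.mem_center_iff.1 (hZS (hcomm b)) _).symm)
    have hker : ∀ g, g ∈ φ.ker ↔ g * x = x * g := fun g => by
      rw [← commutatorElement_eq_one_iff_mul_comm, MonoidHom.mem_ker]
      exact Subtype.ext_iff
    have hne : φ.ker ≠ ⊤ := fun h => hxZ (by
      rw [hZ, ← PIndex.inf_center hS hQ hQi]
      exact ⟨hxQ, Subgroup.mem_center_iff.2 fun g => (hker g).1 (h ▸ Subgroup.mem_top g)⟩)
    have hi : φ.ker.index = p := by
      have h5 : Nat.card φ.range ∣ p := hZc ▸ Subgroup.card_subgroup_dvd_card φ.range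
      rw [← Subgroup.index_ker] at h5
      exact ((Nat.dvd_prime hp).1 h5).resolve_left (fun h => hne (Subgroup.index_eq_one.1 h))
    refine ⟨φ.ker, ?_, hi⟩
    have hCc : Nat.card φ.ker = p ^ 3 := by
      have h6 := φ.ker.card_mul_index
      rw [hi, hScard] at h6
      exact Nat.eq_of_mul_eq_mul_right hp.pos h6
    set T := Z ⊔ Subgroup.zpowers x
    have hTle : T.subgroupOf φ.ker ≤ Subgroup.center φ.ker := by
      have hT : T ≤ Subgroup.centralizer (φ.ker : Set S) := sup_le
        (hZS.trans (Subgroup.center_le_centralizer _))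
        (Subgroup.zpowers_le.2 (Subgroup.mem_centralizer_iff.2 fun g hg => (hker g).1 hg))
      intro t ht
      exact Subgroup.mem_center_iff.2 fun y => Subtype.ext
        (Subgroup.mem_centralizer_iff.1 (hT ht) y y.2)
    have hTker : T ≤ φ.ker := sup_le
      (fun z hz => (hker z).2 (Subgroup.mem_center_iff.1 (hZS hz) x).symm)
      (Subgroup.zpowers_le.2 ((hker x).2 rfl))
    have hTcard : p ^ 2 ≤ Nat.card (Subgroup.center φ.ker) := by
      refine le_trans ?_ (Subgroup.card_le_of_le hTle)
      rw [Nat.card_congr (Subgroup.subgroupOfEquivOfLe hTker).toEquiv]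
      obtain ⟨j, hj⟩ := (hS.to_subgroup T).exists_card_eq
      rw [hj]
      refine Nat.pow_le_pow_right hp.pos ?_
      by_contra hj2
      have h7 : Nat.card T ≤ Nat.card Z := by
        rw [hj, hZc]; exact (Nat.pow_le_pow_right hp.pos (show j ≤ 1 by omega)).trans (pow_one p).le
      exact hxZ (Subgroup.eq_of_le_of_card_ge le_sup_left h7 ▸
        (le_sup_right (a := Z) (Subgroup.mem_zpowers x)))
    have hdvd : (Subgroup.center φ.ker).index ≤ p := by
      have h8 := (Subgroup.center φ.ker).card_mul_index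
      rw [hCc] at h8
      by_contra h9
      push Not at h9
      have := Nat.mul_lt_mul_of_le_of_lt hTcard h9 (Nat.card_pos)
      rw [h8, show p ^ 3 = p ^ 2 * p by ring] at this
      exact lt_irrefl _ this
    obtain ⟨j, hj⟩ := ((hS.to_subgroup φ.ker).to_quotient (Subgroup.center φ.ker)).exists_card_eq
    rw [Subgroup.index_eq_card, hj] at hdvd
    have hj1 : j ≤ 1 := (Nat.pow_le_pow_iff_right hp.one_lt).1 (hdvd.trans (pow_one p).ge)
    haveI : IsCyclic (↥φ.ker ⧸ Subgroup.center ↥φ.ker) := by
      interval_cases j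
      · haveI : Subsingleton (↥φ.ker ⧸ Subgroup.center ↥φ.ker) :=
          (Nat.card_eq_one_iff_unique.1 (by simpa using hj)).1
        infer_instance
      · exact isCyclic_of_prime_card (p := p) (by simpa using hj)
    exact isMulCommutative_of_isCyclic_quotient_center_self _

end Cfsg.Agent.S3810
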