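import Cfsg.Statements.S3815
import Cfsg.Agent.Core.PCore

set_option autoImplicit false
open Cfsg

namespace Cfsg.Agent.S3815

open Subgroup

/-- Let G be a finite group, p a prime and d ∈ G an element of order prime to p. If dg has order prime to p for every element g ∈ G of order prime to p, then d ∈ O_{p'}(G). -/
theorem result {G : Type*} [Group G] [Finite G] {p : ℕ} [Fact p.Prime]
    (d : G) (hd : (orderOf d).Coprime p)
    (h : ∀ g : G, (orderOf g).Coprime p → (orderOf (d * g)).Coprime p) :
    d ∈ Cfsg.pPrimeCore p G := by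
  let M : Submonoid G :=
    { carrier := {x | ∀ g : G, (orderOf g).Coprime p → (orderOf (x * g)).Coprime p}
      one_mem' := fun g hg => by rwa [one_mul]
      mul_mem' := fun {a b} ha hb g hg => by rw [mul_assoc]; exact ha _ (hb g hg) }
  let D : Subgroup G :=
    { M with
      inv_mem' := fun {x} hx => by
        have := pow_mem (show x ∈ M from hx) (orderOf x - 1)
        rwa [← inv_eq_of_mul_eq_one_right (a := x) (b := x ^ (orderOf x - 1))
          (by rw [← pow_succ', Nat.sub_add_cancel (orderOf_pos x), pow_orderOf_eq_one])] at this }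
  have hconj : ∀ (a g : G), orderOf (a * g * a⁻¹) = orderOf g := fun a g => by
    rw [← MulAut.conj_apply, MulEquiv.orderOf_eq]
  have hDn : D.Normal := by
    refine ⟨fun x hx a g hg => ?_⟩
    have e : a * x * a⁻¹ * g = a * (x * (a⁻¹ * g * a)) * a⁻¹ := by group
    rw [e, hconj]
    refine hx _ ?_
    have := hconj a⁻¹ g
    rw [inv_inv] at this
    rwa [this]
  refine Core.le_pPrimeCore (N := D) ?_ (show d ∈ D from h)
  refine ((Nat.Prime.coprime_iff_not_dvd Fact.out).mpr fun hdvd => ?_).symm
  obtain ⟨x, hx⟩ := exists_prime_orderOf_dvd_card' p hdvd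
  have h1 := x.2 1 (by simp)
  rw [mul_one, orderOf_coe, hx, Nat.coprime_self] at h1
  exact (Fact.out : p.Prime).ne_one h1

end Cfsg.Agent.S3815
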