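import Cfsg.Statements.S3818
import Cfsg.Agent.FixedHalf.Main

set_option autoImplicit false
open Cfsg

namespace Cfsg.Agent.S3818

/-- Let G be a finite solvable group and P a subgroup of G of prime order p > 3 whose conjugates generate G. Let V be a faithful irreducible representation of G over a field of positive characteristic, finite-dimensional. Then the subspace of V fixed by P has dimension less than half the dimension of V. -/
theorem result {G : Type*} [Group G] [Finite G] [Group.IsSolvable G]
    {p : ℕ} [Fact p.Prime] (hp : 3 < p) (P : Subgroup G) (hP : Nat.card P = p) (hgen : Subgroup.normalClosure (P : Set G) = ⊤)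
    {k : Type*} [Field k] (ℓ : ℕ) [Fact ℓ.Prime] [CharP k ℓ]
    {V : Type*} [AddCommGroup V] [Module k V] [FiniteDimensional k V]
    (ρ : Representation k G V) [ρ.IsIrreducible] (hfaith : Function.Injective ρ) :
    2 * Module.finrank k ↥(⨅ g : ↥P, LinearMap.ker (ρ (g : G) - LinearMap.id)) < Module.finrank k V := by
  classical
  obtain ⟨x, hx⟩ := (Subgroup.isCyclic_iff_exists_zpowers_eq_top P).1 (isCyclic_of_prime_card hP)
  have hp' : p.Prime := Fact.out
  have hord : orderOf x = p := by rw [← Nat.card_zpowers, hx, hP]
  have hx1 : x ≠ 1 := fun h => hp'.ne_one (by rw [← hord, h, orderOf_one])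
  have hgen' : Subgroup.normalClosure ({x} : Set G) = ⊤ := by
    rw [eq_top_iff, ← hgen]
    refine Subgroup.normalClosure_le_normal ?_
    rw [← hx, SetLike.coe_subset_coe, Subgroup.zpowers_le]
    exact Subgroup.subset_normalClosure rfl
  have hirr : FixedHalf.Irr (ρ : G →* Module.End k V) := fun W hW => by
    let S : Subrepresentation ρ := ⟨W, fun g v hv => hW g v hv⟩
    rcases IsSimpleOrder.eq_bot_or_eq_top S with h | h
    · exact Or.inl (congrArg Subrepresentation.toSubmodule h)
    · exact Or.inr (congrArg Subrepresentation.toSubmodule h)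
  haveI : Nontrivial V := by
    by_contra hc
    rw [not_nontrivial_iff_subsingleton] at hc
    exact hx1 (hfaith (Subsingleton.elim (ρ x) (ρ 1)))
  have h := FixedHalf.half hp' hp x (by rw [← hord]; exact pow_orderOf_eq_one x) hx1 hgen'
    (ρ : G →* Module.End k V) hfaith hirr
  have heq : (⨅ g : ↥P, LinearMap.ker (ρ (g : G) - LinearMap.id)) = FixedHalf.fixSub (ρ : G →* Module.End k V) x := by
    refine le_antisymm (iInf_le (fun g : ↥P => LinearMap.ker (ρ (g : G) - LinearMap.id))
      ⟨x, by rw [← hx]; exact Subgroup.mem_zpowers x⟩) (le_iInf fun g => fun v hv => ?_)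
    obtain ⟨i, hi⟩ := (isOfFinOrder_of_finite x).mem_powers_iff_mem_zpowers.2 (by rw [hx]; exact g.2 : (g : G) ∈ Subgroup.zpowers x)
    rw [LinearMap.mem_ker, LinearMap.sub_apply, LinearMap.id_apply, sub_eq_zero,
      ← (show x ^ i = (g : G) from hi)]
    rw [FixedHalf.mem_fixSub] at hv
    clear hi
    induction i with
    | zero => simp
    | succ i ih => rw [pow_succ, map_mul, Module.End.mul_apply, hv, ih]
  rw [heq]
  exact h

end Cfsg.Agent.S3818
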