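import Cfsg.Statements.S3819
import Cfsg.Agent.Layer.PConstraint
import Cfsg.Agent.Fusion.SolvablePSolvable
import Cfsg.Agent.Coprime.PCoreTools

set_option autoImplicit false
open Cfsg

namespace Cfsg.Agent.S3819

open Subgroup Layer in
theorem key {G : Type*} [Group G] [Finite G] {p q : ℕ} [Fact p.Prime] [Fact q.Prime]
    (P H L : Subgroup G) [H.Normal] [L.Normal] (hP : IsPGroup p P) (hHp : (Nat.card H).Coprime p)
    (hLH : L ≤ H) (hPL : ⁅H, P⁆ ≤ L) [Group.IsSolvable L]
    (z : G) (hzH : z ∈ H) (hz : IsPGroup q (zpowers z))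
    (X Y : Subgroup G) (hX : (Nat.card X).Coprime q) (hY : (Nat.card Y).Coprime q)
    (hXC : X ≤ H ⊓ centralizer ({z} : Set G)) (hXn : H ⊓ centralizer ({z} : Set G) ≤ normalizer (X : Set G))
    (hXP : P ≤ normalizer (X : Set G)) (hYC : Y ≤ H ⊓ centralizer (P : Set G))
    (hYn : H ⊓ centralizer (P : Set G) ≤ normalizer (Y : Set G)) :
    (X ⊓ Y) ⊔ ⁅X, P⁆ ≤ pPrimeCore q G ⊓ H := by
  set K := (pPrimeCore q L).map L.subtype with hK
  have hKeq : K = pPrimeCore q G ⊓ L := Core.map_pPrimeCore_normal L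
  haveI hKn : K.Normal := hKeq ▸ inferInstance
  have hKL : K ≤ L := map_subtype_le _
  have hKcop : (Nat.card K).Coprime q := by
    rw [hK, card_map_of_injective L.subtype_injective]; exact Core.coprime_card_pPrimeCore
  have hzc : centralizer ({z} : Set G) = centralizer (zpowers z : Set G) := by
    rw [zpowers_eq_closure, centralizer_closure]
  -- the part of X inside L
  have hXL : X ⊓ L ≤ K := by
    set M := L ⊔ zpowers z with hM
    haveI : Group.IsSolvable M := by
      rw [hM, sup_comm]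
      exact Layer.isSolvable_sup le_normalizer_of_normal (isSolvable_of_isPGroup hz) inferInstance
    have hle := pPrimeCore_centralizer_le (isPConstrained_of_isSolvable (G := M) (p := q))
      (P := (zpowers z).subgroupOf M) (hz.comap_of_injective _ (M.subtype_injective))
    set C := centralizer ((zpowers z).subgroupOf M : Set M) with hC
    set X0 := (X ⊓ L).subgroupOf M with hX0
    have hX0C : X0 ≤ C := by
      intro a ha
      rw [hC, mem_centralizer_iff]
      intro b hb
      exact Subtype.ext (mem_centralizer_iff.1 (hzc ▸ (hXC ha.1).2 : (a : G) ∈ centralizer (zpowers z : Set G)) b hb)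
    haveI : (X0.subgroupOf C).Normal := by
      refine (normal_subgroupOf_iff_le_normalizer hX0C).2 (Subgroup.le_normalizer_iff.2 ?_)
      intro c hc a ha
      have hcz : (c : G) ∈ centralizer ({z} : Set G) := by
        rw [mem_centralizer_singleton_iff]
        exact congrArg Subtype.val (mem_centralizer_iff.1 hc ⟨z, (le_sup_right : _ ≤ M) (mem_zpowers z)⟩ (mem_zpowers z)).symm
      have hMH : M ≤ H := sup_le hLH (zpowers_le.2 hzH)
      exact ⟨(Subgroup.le_normalizer_iff.1 hXn) c ⟨hMH c.2, hcz⟩ a ha.1,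
        Normal.conj_mem inferInstance (a : G) ha.2 c⟩
    have h0 : X0.subgroupOf C ≤ pPrimeCore q C := Core.le_pPrimeCore (by
      refine Nat.Coprime.coprime_dvd_left ?_ hX
      exact ((card_comap_dvd_of_injective _ _ C.subtype_injective).trans
        (card_comap_dvd_of_injective _ _ M.subtype_injective)).trans (card_dvd_of_le inf_le_left))
    intro a ha
    have haM : a ∈ M := le_sup_left (α := Subgroup G) ha.2
    have h1 : (⟨a, haM⟩ : M) ∈ pPrimeCore q M :=
      hle ⟨⟨⟨a, haM⟩, hX0C ha⟩, h0 ha, rfl⟩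
    have hn : ((pPrimeCore q M).map M.subtype ⊓ L).subgroupOf L ≤ pPrimeCore q L := by
      haveI : (((pPrimeCore q M).map M.subtype ⊓ L).subgroupOf L).Normal := by
        refine (normal_subgroupOf_iff_le_normalizer inf_le_right).2 (Subgroup.le_normalizer_iff.2 ?_)
        rintro c hc _ ⟨⟨b, hb, rfl⟩, hbL⟩
        exact ⟨⟨⟨c, le_sup_left (α := Subgroup G) hc⟩ * b * ⟨c, le_sup_left (α := Subgroup G) hc⟩⁻¹,
          Normal.conj_mem inferInstance b hb _, rfl⟩, L.mul_mem (L.mul_mem hc hbL) (L.inv_mem hc)⟩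
      refine Core.le_pPrimeCore (Nat.Coprime.coprime_dvd_left ?_ (Core.coprime_card_pPrimeCore (p := q) (G := M)))
      exact ((card_comap_dvd_of_injective _ _ L.subtype_injective).trans (card_dvd_of_le inf_le_left)).trans
        (card_map_dvd _ _)
    exact ⟨⟨a, ha.2⟩, hn ⟨⟨⟨a, haM⟩, h1, rfl⟩, ha.2⟩, rfl⟩
  have hKH : K ≤ pPrimeCore q G ⊓ H := le_inf (hKeq.le.trans inf_le_left) (hKL.trans hLH)
  refine sup_le ?_ ?_
  swap
  · refine le_trans (le_trans ?_ hXL) hKH
    exact le_inf (Coprime.commutator_le_of_le_normalizer hXP) ((commutator_mono (hXC.trans inf_le_left) le_rfl).trans hPL)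
  -- modulo K
  let f := QuotientGroup.mk' K
  have hf : Function.Surjective f := QuotientGroup.mk'_surjective K
  have hker : f.ker = K := QuotientGroup.ker_mk' K
  haveI : (L.map f).Normal := (inferInstance : L.Normal).map f hf
  haveI : Group.IsSolvable (L.map f) := Group.isSolvable_of_surjective (f := f.subgroupMap L) (f.subgroupMap_surjective L)
  have hcore : pPrimeCore q (L.map f) = ⊥ := by
    set O := (pPrimeCore q (L.map f)).map (L.map f).subtype with hO
    haveI : O.Normal := by rw [hO, Core.map_pPrimeCore_normal]; infer_instance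
    have hle : O.comap f ≤ L := by
      have : O.comap f ≤ (L.map f).comap f := Subgroup.comap_mono (map_subtype_le _)
      rwa [comap_map_eq, hker, sup_eq_left.2 hKL] at this
    have hcard : (Nat.card (O.comap f)).Coprime q := by
      have h1 := card_eq_card_quotient_mul_card_subgroup ((f.ker).subgroupOf (O.comap f))
      have h2 : (f.subgroupComap O).ker = (f.ker).subgroupOf (O.comap f) := by
        ext a
        rw [MonoidHom.mem_ker, mem_subgroupOf, MonoidHom.mem_ker]
        exact Subtype.ext_iff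
      rw [← h2, Nat.card_congr (QuotientGroup.quotientKerEquivOfSurjective _
        (MonoidHom.subgroupComap_surjective_of_surjective f O hf)).toEquiv, h2] at h1
      rw [h1]
      refine Nat.Coprime.mul_left ?_ ?_
      · rw [hO, card_map_of_injective (L.map f).subtype_injective]; exact Core.coprime_card_pPrimeCore
      · refine hKcop.coprime_dvd_left ?_
        exact (card_comap_dvd_of_injective _ _ (O.comap f).subtype_injective).trans (card_dvd_of_le hker.le)
    have hOK : O.comap f ≤ K := by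
      exact (le_inf (Core.le_pPrimeCore hcard) hle).trans hKeq.ge
    have : O = ⊥ := by
      rw [← map_comap_eq_self_of_surjective hf O, Subgroup.map_eq_bot_iff, hker]
      exact hOK
    exact (map_eq_bot_iff_of_injective _ (L.map f).subtype_injective).1 this
  have hself := pCoreSelfCentral_of_isPSolvable (p := q) (G := L.map f)
    (Fusion.isPSolvable_of_isSolvable (L.map f)) hcore
  set Q := (pCore q (L.map f)).map (L.map f).subtype with hQ
  haveI hQn : Q.Normal := by rw [hQ, Core.map_pCore_normal]; infer_instance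
  have hQp : IsPGroup q Q := Core.pCore_isPGroup.map _
  have hXQ : X.map f ≤ centralizer (Q : Set (G ⧸ K)) := by
    refine Coprime.thompson_pxq (hz.map f) (hX.coprime_dvd_left (card_map_dvd _ _)) hQp ?_
      le_normalizer_of_normal le_normalizer_of_normal ?_
    · rw [le_centralizer_iff]
      rintro _ ⟨a, ha, rfl⟩
      rw [mem_centralizer_iff]
      rintro _ ⟨b, hb, rfl⟩
      rw [← map_mul, ← map_mul, mem_centralizer_iff.1 (hzc ▸ (hXC ha).2 : a ∈ centralizer (zpowers z : Set G)) b hb]
    have hmap := Coprime.map_inf_centralizer f (A := zpowers z) (K := L) le_normalizer_of_normal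
      (hker.le.trans hKL) (coprime_card_of_isPGroup hz (hKcop.coprime_dvd_left (card_dvd_of_le hker.le))) (Or.inl (isSolvable_of_isPGroup hz))
    intro u hu
    have hu' : u ∈ (L ⊓ centralizer (zpowers z : Set G)).map f := by
      rw [hmap]; exact ⟨map_subtype_le _ hu.1, hu.2⟩
    obtain ⟨l, hl, rfl⟩ := hu'
    rw [mem_centralizer_iff]
    rintro _ ⟨a, ha, rfl⟩
    have h1 : f l * f a * (f l)⁻¹ ∈ X.map f := ⟨l * a * l⁻¹,
      (Subgroup.le_normalizer_iff.1 hXn) l ⟨hLH hl.1, hzc ▸ hl.2⟩ a ha, by rw [map_mul, map_mul, map_inv]⟩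
    have h3 : f l * f a * (f l)⁻¹ * (f a)⁻¹ ∈ X.map f :=
      (X.map f).mul_mem h1 ((X.map f).inv_mem ⟨a, ha, rfl⟩)
    have h4 : f l * f a * (f l)⁻¹ * (f a)⁻¹ ∈ Q := by
      have : f l * f a * (f l)⁻¹ * (f a)⁻¹ = f l * (f a * (f l)⁻¹ * (f a)⁻¹) := by simp only [mul_assoc]
      rw [this]
      exact Q.mul_mem hu.1 (hQn.conj_mem _ (Q.inv_mem hu.1) _)
    have h5 : f l * f a * (f l)⁻¹ * (f a)⁻¹ ∈ Q ⊓ X.map f := ⟨h4, h3⟩
    rw [inf_eq_bot_of_isPGroup hQp (hX.coprime_dvd_left (card_map_dvd _ _)), mem_bot, mul_inv_eq_one,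
      mul_inv_eq_iff_eq_mul] at h5
    exact h5.symm
  set D := (centralizer (Q : Set (G ⧸ K))).comap f ⊓ H with hD
  haveI : D.Normal := by rw [hD]; infer_instance
  have hKD : K ≤ D := le_inf (fun a ha => by
    rw [mem_comap, show f a = 1 from (QuotientGroup.eq_one_iff a).2 ha]; exact one_mem _) (hKL.trans hLH)
  set M := (X ⊓ Y) ⊔ K with hM
  have hXYD : X ⊓ Y ≤ D := le_inf (fun a ha => hXQ ⟨a, ha.1, rfl⟩) ((inf_le_left.trans hXC).trans inf_le_left)
  set W := (Y ⊓ D) ⊔ K with hW
  have hWD : W ≤ D := sup_le inf_le_right hKD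
  have hdec : ⁅D, P⁆ ⊔ (D ⊓ centralizer (P : Set G)) = D :=
    Coprime.commutator_sup_centralizer le_normalizer_of_normal
      (coprime_card_of_isPGroup hP (hHp.coprime_dvd_left (card_dvd_of_le inf_le_right)))
      (Or.inl (isSolvable_of_isPGroup hP))
  have hWn : D ≤ normalizer (W : Set G) := by
    rw [← hdec, sup_le_iff]
    have hgen : ∀ c : G, (∀ y ∈ Y ⊓ D, c * y * c⁻¹ ∈ W) → ∀ a ∈ W, c * a * c⁻¹ ∈ W := by
      intro c hc a ha
      have : W.map (MulAut.conj c).toMonoidHom ≤ W := by
        rw [hW, Subgroup.map_sup]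
        refine sup_le ?_ ?_
        · rintro _ ⟨y, hy, rfl⟩; exact hc y hy
        · rintro _ ⟨y, hy, rfl⟩; exact le_sup_right (α := Subgroup G) (hKn.conj_mem y hy c)
      exact this ⟨a, ha, rfl⟩
    constructor
    · refine Subgroup.le_normalizer_iff.2 fun c hc => hgen c fun y hy => ?_
      have hcL : c ∈ L := hPL (commutator_mono inf_le_right le_rfl hc)
      have hcD : c ∈ D := commutator_le_left D P hc
      have hcQ : f c ∈ Q := by
        obtain ⟨b, hb⟩ : ∃ b : L.map f, (b : G ⧸ K) = f c := ⟨⟨f c, c, hcL, rfl⟩, rfl⟩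
        refine hb ▸ ⟨b, hself (mem_centralizer_iff.2 fun w hw => Subtype.ext ?_), rfl⟩
        exact mem_centralizer_iff.1 (hb ▸ hcD.1 : (b : G ⧸ K) ∈ centralizer (Q : Set (G ⧸ K))) w ⟨w, hw, rfl⟩
      have hcom : c * y * c⁻¹ * y⁻¹ ∈ K := by
        rw [← hker, MonoidHom.mem_ker, map_mul, map_mul, map_mul, map_inv, map_inv,
          mem_centralizer_iff.1 hy.2.1 (f c) hcQ]
        simp
      have := W.mul_mem (le_sup_right (α := Subgroup G) hcom) (le_sup_left (α := Subgroup G) hy)
      simpa using this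
    · refine Subgroup.le_normalizer_iff.2 fun c hc => hgen c fun y hy => ?_
      exact le_sup_left (α := Subgroup G) ⟨(Subgroup.le_normalizer_iff.1 hYn) c ⟨hc.1.2, hc.2⟩ y hy.1,
        Normal.conj_mem inferInstance y hy.2 c⟩
  have hWcop : (Nat.card W).Coprime q :=
    Nat.Coprime.coprime_dvd_left (Core.card_sup_dvd_mul _ _)
      (Nat.Coprime.mul_left (hY.coprime_dvd_left (card_dvd_of_le inf_le_left)) hKcop)
  have hWsn : W.IsSubnormal := by
    haveI : (W.subgroupOf D).Normal := (normal_subgroupOf_iff_le_normalizer hWD).2 hWn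
    have h := (Subgroup.Normal.isSubnormal (inferInstance : (W.subgroupOf D).Normal)).trans'
      (Subgroup.Normal.isSubnormal (inferInstance : D.Normal))
    rwa [map_subgroupOf_eq_of_le hWD] at h
  refine le_inf ?_ ((inf_le_left.trans hXC).trans inf_le_left)
  exact (le_inf inf_le_right hXYD : X ⊓ Y ≤ Y ⊓ D).trans (le_sup_left.trans (subnormal_le_pPrimeCore hWsn hWcop))

/-- Let G be a finite group with Sylow p-subgroup P and H = O_{p'}(G), and suppose G = PH and the commutator subgroup [H, P] is solvable. Let q be a prime and z an element of q-power order of C_H(P). Then (O_{q'}(C_H(z)) ∩ O_{q'}(C_H(P))) · [O_{q'}(C_H(z)), P] ≤ O_{q'}(H). -/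
theorem result {G : Type*} [Group G] [Finite G] {p : ℕ} [Fact p.Prime]
    (P : Sylow p G) (hPH : Cfsg.pPrimeCore p G ⊔ (P : Subgroup G) = ⊤)
    (hsol : Group.IsSolvable ↥⁅Cfsg.pPrimeCore p G, (P : Subgroup G)⁆)
    {q : ℕ} [Fact q.Prime] (z : G) (hzH : z ∈ Cfsg.pPrimeCore p G) (hzP : z ∈ Subgroup.centralizer ((P : Subgroup G) : Set G))
    (hz : ∃ k : ℕ, orderOf z = q ^ k) :
    ((Cfsg.pPrimeCore q ↥(Cfsg.pPrimeCore p G ⊓ Subgroup.centralizer ({z} : Set G))).map
        (Cfsg.pPrimeCore p G ⊓ Subgroup.centralizer ({z} : Set G)).subtype ⊓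
      (Cfsg.pPrimeCore q ↥(Cfsg.pPrimeCore p G ⊓ Subgroup.centralizer ((P : Subgroup G) : Set G))).map
        (Cfsg.pPrimeCore p G ⊓ Subgroup.centralizer ((P : Subgroup G) : Set G)).subtype) ⊔
    ⁅(Cfsg.pPrimeCore q ↥(Cfsg.pPrimeCore p G ⊓ Subgroup.centralizer ({z} : Set G))).map
        (Cfsg.pPrimeCore p G ⊓ Subgroup.centralizer ({z} : Set G)).subtype, (P : Subgroup G)⁆ ≤
    (Cfsg.pPrimeCore q ↥(Cfsg.pPrimeCore p G)).map (Cfsg.pPrimeCore p G).subtype := by
  set H := Cfsg.pPrimeCore p G with hH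
  haveI : H.Normal := Core.pPrimeCore_normal
  set L := ⁅H, (P : Subgroup G)⁆ with hL
  haveI : L.Normal := by
    rw [← Subgroup.normalizer_eq_top_iff, eq_top_iff, ← hPH]
    exact Coprime.le_normalizer_commutator
  haveI := hsol
  set C1 := H ⊓ Subgroup.centralizer ({z} : Set G) with hC1
  set C2 := H ⊓ Subgroup.centralizer ((P : Subgroup G) : Set G) with hC2
  have hn : ∀ C : Subgroup G, C ≤ Subgroup.normalizer (((Cfsg.pPrimeCore q C).map C.subtype : Subgroup G) : Set G) := by
    intro C
    refine Subgroup.le_normalizer_iff.2 ?_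
    rintro c hc _ ⟨y, hy, rfl⟩
    exact ⟨⟨c, hc⟩ * y * ⟨c, hc⟩⁻¹, Core.pPrimeCore_normal.conj_mem y hy _, rfl⟩
  have hcop : ∀ C : Subgroup G, (Nat.card ((Cfsg.pPrimeCore q C).map C.subtype : Subgroup G)).Coprime q := by
    intro C
    rw [Subgroup.card_map_of_injective C.subtype_injective]
    exact Core.coprime_card_pPrimeCore
  have hPX : (P : Subgroup G) ≤ Subgroup.normalizer (((Cfsg.pPrimeCore q C1).map C1.subtype : Subgroup G) : Set G) := by
    have hPC : (P : Subgroup G) ≤ Subgroup.normalizer (C1 : Set G) := by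
      refine Subgroup.le_normalizer_iff.2 fun c hc a ha => ⟨Subgroup.Normal.conj_mem inferInstance a ha.1 c, ?_⟩
      show c * a * c⁻¹ ∈ Subgroup.centralizer ({z} : Set G)
      rw [Subgroup.mem_centralizer_singleton_iff]
      have h1 : c * z = z * c := Subgroup.mem_centralizer_iff.1 hzP c hc
      have h2 : a * z = z * a := Subgroup.mem_centralizer_singleton_iff.1 ha.2
      exact ((show Commute c z from h1).mul_left (show Commute a z from h2)).mul_left (Commute.inv_left h1)
    exact Coprime.le_normalizer_map_of_characteristic hPC _ inferInstance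
  refine (key (q := q) (P : Subgroup G) H L P.isPGroup' Core.coprime_card_pPrimeCore
    (Subgroup.commutator_le_left _ _) le_rfl z hzH ?_ _ _ (hcop C1) (hcop C2) (Subgroup.map_subtype_le _) (hn C1)
    hPX (Subgroup.map_subtype_le _) (hn C2)).trans ?_
  · obtain ⟨k, hk⟩ := hz
    exact IsPGroup.of_card (n := k) (by rw [Nat.card_zpowers, hk])
  · exact (Core.map_pPrimeCore_normal H).ge

end Cfsg.Agent.S3819
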