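import Cfsg.Statements.S3820
import Cfsg.Agent.Layer.Subnormal
set_option autoImplicit false
open Cfsg

namespace Cfsg.Agent.S3820

open Subgroup


/-- Call a subgroup H of G pronormal if H and gHg⁻¹ are conjugate inside ⟨H, gHg⁻¹⟩ for every g ∈ G. Let S ≤ H ≤ G be subgroups of a finite group with S pronormal in G (for instance S a Sylow subgroup). Then H is pronormal in G if and only if H and gHg⁻¹ are conjugate inside ⟨H, gHg⁻¹⟩ for every g ∈ N_G(S). In particular H is pronormal whenever N_G(S) ≤ H. -/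
theorem result {G : Type*} [Group G] [Finite G] (S H : Subgroup G) (hSH : S ≤ H)
    (hS : Cfsg.IsPronormal S) :
    Cfsg.IsPronormal H ↔
      ∀ g ∈ Subgroup.normalizer (S : Set G), ∃ w ∈ H ⊔ H.map (MulAut.conj g).toMonoidHom,
        H.map (MulAut.conj g).toMonoidHom = H.map (MulAut.conj w).toMonoidHom := by
  refine ⟨fun hP g _ => hP g, fun h g => ?_⟩
  obtain ⟨w, hw, hwe⟩ := hS g
  have hwJ : w ∈ H ⊔ H.map (MulAut.conj g).toMonoidHom := sup_le_sup hSH (map_mono hSH) hw
  set n := w⁻¹ * g with hn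
  have hnS : n ∈ normalizer (S : Set G) := by
    rw [mem_normalizer_iff_map_conj_eq]
    have := congrArg (Subgroup.map (MulAut.conj w⁻¹).toMonoidHom) hwe
    rw [Layer.map_conj_map_conj, Layer.map_conj_map_conj, inv_mul_cancel, Layer.map_conj_one] at this
    exact this
  obtain ⟨u, hu, hue⟩ := h n hnS
  have hg : H.map (MulAut.conj g).toMonoidHom = (H.map (MulAut.conj n).toMonoidHom).map (MulAut.conj w).toMonoidHom := by
    rw [Layer.map_conj_map_conj, hn, mul_inv_cancel_left]
  refine ⟨w * u, mul_mem hwJ ?_, by rw [hg, hue, Layer.map_conj_map_conj]⟩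
  refine sup_le (le_sup_left : H ≤ H ⊔ H.map (MulAut.conj g).toMonoidHom) ?_ hu
  rintro _ ⟨y, hy, rfl⟩
  have h1 : g * y * g⁻¹ ∈ H ⊔ H.map (MulAut.conj g).toMonoidHom :=
    le_sup_right (a := H) (mem_map_of_mem (MulAut.conj g).toMonoidHom hy)
  have := mul_mem (mul_mem (inv_mem hwJ) h1) hwJ
  simpa [hn, mul_assoc] using this

end Cfsg.Agent.S3820
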