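import Cfsg.Statements.S3821
import Cfsg.Agent.Layer.Subnormal
set_option autoImplicit false
open Cfsg

namespace Cfsg.Agent.S3821

open Subgroup


/-- Let A be a normal subgroup of the finite group G and H a subgroup of A. Then H is pronormal in G (H and gHg⁻¹ conjugate inside ⟨H, gHg⁻¹⟩ for every g ∈ G) if and only if H is pronormal in A and G = A · N_G(H). -/
theorem result {G : Type*} [Group G] [Finite G] (A H : Subgroup G) [A.Normal] (hHA : H ≤ A) :
    Cfsg.IsPronormal H ↔ (Cfsg.IsPronormal (H.subgroupOf A) ∧ A ⊔ Subgroup.normalizer (H : Set G) = ⊤) := by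
  have hmapA : ∀ a : A, ((H.subgroupOf A).map (MulAut.conj a).toMonoidHom).map A.subtype
      = H.map (MulAut.conj (a : G)).toMonoidHom := fun a => by
    rw [Subgroup.map_map]
    have : A.subtype.comp (MulAut.conj a).toMonoidHom = (MulAut.conj (a : G)).toMonoidHom.comp A.subtype := by
      ext; simp
    rw [this, ← Subgroup.map_map, map_subgroupOf_eq_of_le hHA]
  constructor
  · intro hP
    refine ⟨fun a => ?_, eq_top_iff.mpr fun g _ => ?_⟩
    · obtain ⟨w, hw, hwe⟩ := hP a
      obtain ⟨w', hw', rfl⟩ : w ∈ ((H.subgroupOf A) ⊔ (H.subgroupOf A).map (MulAut.conj a).toMonoidHom).map A.subtype := by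
        rw [Subgroup.map_sup, hmapA, map_subgroupOf_eq_of_le hHA]; exact hw
      refine ⟨w', hw', map_injective A.subtype_injective ?_⟩
      rw [hmapA, hmapA]
      exact hwe
    · obtain ⟨w, hw, hwe⟩ := hP g
      have hwA : w ∈ A := sup_le hHA (by
        rw [← Layer.map_conj_eq_of_normal A g]; exact map_mono hHA) hw
      have h : w⁻¹ * g ∈ normalizer (H : Set G) := by
        rw [mem_normalizer_iff_map_conj_eq]
        have := congrArg (Subgroup.map (MulAut.conj w⁻¹).toMonoidHom) hwe
        rw [Layer.map_conj_map_conj, Layer.map_conj_map_conj, inv_mul_cancel, Layer.map_conj_one] at this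
        exact this
      have := mul_mem_sup hwA h
      rwa [mul_inv_cancel_left] at this
  · rintro ⟨hP, htop⟩ g
    obtain ⟨a, ha, n, hn, rfl⟩ := mem_sup_of_normal_left.mp (htop.symm.le (mem_top g))
    obtain ⟨w, hw, hwe⟩ := hP ⟨a, ha⟩
    have hn' : H.map (MulAut.conj n).toMonoidHom = H := mem_normalizer_iff_map_conj_eq.mp hn
    rw [← Layer.map_conj_map_conj, hn']
    refine ⟨w, ?_, ?_⟩
    · have := mem_map_of_mem A.subtype hw
      rwa [Subgroup.map_sup, hmapA, map_subgroupOf_eq_of_le hHA] at this
    · have := congrArg (Subgroup.map A.subtype) hwe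
      rwa [hmapA, hmapA] at this

end Cfsg.Agent.S3821
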