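import Cfsg.Statements.S3822
import Cfsg.Agent.FixedHalf.Maximal

set_option autoImplicit false
open Cfsg

namespace Cfsg.Agent.S3822

/-- Let G be a finite group and P a subgroup of prime order p > 3. Consider the solvable subgroups A of G of the form A = ⟨P, aPa⁻¹⟩ for some a ∈ A, and let A be maximal under inclusion among them. Then for every nilpotent subgroup V of G normalized by A, the subgroup F(A)V generated by the Fitting subgroup of A and V is nilpotent. -/
theorem result {G : Type*} [Group G] [Finite G]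
    {p : ℕ} [Fact p.Prime] (hp : 3 < p) (P : Subgroup G) (hP : Nat.card P = p) (A : Subgroup G)
    (hA : Group.IsSolvable ↥A ∧ ∃ a ∈ A, A = P ⊔ P.map (MulAut.conj a).toMonoidHom)
    (hmax : ∀ B : Subgroup G, A ≤ B → Group.IsSolvable ↥B → (∃ b ∈ B, B = P ⊔ P.map (MulAut.conj b).toMonoidHom) → B = A)
    (V : Subgroup G) (hV : Group.IsNilpotent ↥V) (hAV : A ≤ Subgroup.normalizer (V : Set G)) :
    Group.IsNilpotent ↥((Cfsg.fittingSubgroup ↥A).map A.subtype ⊔ V) := by
  classical
  obtain ⟨hAs, a, haA, hA⟩ := hA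
  haveI := hV
  let X : ℕ → Subgroup G := fun r => (Cfsg.pCore r A).map A.subtype
  let W : ℕ → Subgroup G := fun r => (Cfsg.pCore r V).map V.subtype
  have hXA : ∀ r, X r ≤ A := fun r => Subgroup.map_subtype_le _
  have hXn : ∀ r, A ≤ Subgroup.normalizer (X r : Set G) := fun r =>
    Coprime.le_normalizer_map_of_characteristic Subgroup.le_normalizer _ inferInstance
  have hWn : ∀ r, A ≤ Subgroup.normalizer (W r : Set G) := fun r =>
    Coprime.le_normalizer_map_of_characteristic hAV _ inferInstance
  have hXp : ∀ r, IsPGroup r (X r) := fun r => Core.pCore_isPGroup.map _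
  have hWp : ∀ r, IsPGroup r (W r) := fun r => Core.pCore_isPGroup.map _
  let ι := {r : ℕ // r ∈ (Nat.card G).primeFactors}
  let R : ι → Subgroup G := fun r => X r.1 ⊔ W r.1
  have hsub : ∀ (H : Subgroup G), (Cfsg.fittingSubgroup H).map H.subtype ≤
      ⨆ r : ι, (Cfsg.pCore r.1 H).map H.subtype := by
    intro H
    rw [Core.fittingSubgroup_eq_iSup_pCore, Core.iSup_pCore_eq_iSup_primeFactors, Subgroup.map_iSup]
    refine iSup_le fun r => ?_
    exact le_iSup (fun r : ι => (Cfsg.pCore r.1 H).map H.subtype)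
      ⟨r.1, Nat.primeFactors_mono H.card_subgroup_dvd_card Nat.card_pos.ne' r.2⟩
  have hle : (Cfsg.fittingSubgroup A).map A.subtype ⊔ V ≤ ⨆ r : ι, R r := by
    refine sup_le ((hsub A).trans (iSup_mono fun r => le_sup_left)) ?_
    have h := hsub V
    rw [Core.fittingSubgroup_eq_top, ← MonoidHom.range_eq_map, Subgroup.range_subtype] at h
    exact h.trans (iSup_mono fun r => le_sup_right)
  refine Core.isNilpotent_mono ?_ hle
  refine Core.isNilpotent_iSup_of_commute (fun r => ?_) fun r s hne x y hx hy => ?_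
  · haveI := Fact.mk (Nat.prime_of_mem_primeFactors r.2)
    exact ((hXp r.1).to_sup_of_normal_right' (hWp r.1) ((hXA r.1).trans (hWn r.1))).isNilpotent
  · haveI := Fact.mk (Nat.prime_of_mem_primeFactors r.2)
    haveI := Fact.mk (Nat.prime_of_mem_primeFactors s.2)
    have hrs : r.1 ≠ s.1 := Subtype.coe_injective.ne hne
    have hXW : ∀ r s : ℕ, r.Prime → s.Prime → r ≠ s → X r ≤ Subgroup.centralizer (W s : Set G) := by
      intro r s hr hs hrs
      haveI := Fact.mk hr
      haveI := Fact.mk hs
      exact FixedHalf.le_centralizer_of_maximal Fact.out hp hrs P A hP hAs a haA hA hmax (X r) (hXA r) (hXn r)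
        (hXp r) (W s) (hWp s) (hWn s)
    have hcore : ∀ (H : Subgroup G), (Cfsg.pCore r.1 H).map H.subtype ≤
        Subgroup.centralizer ((Cfsg.pCore s.1 H).map H.subtype : Set G) := by
      rintro H _ ⟨u, hu, rfl⟩
      rw [Subgroup.mem_centralizer_iff]
      rintro _ ⟨w, hw, rfl⟩
      exact congrArg Subtype.val (Subgroup.commute_of_normal_of_disjoint _ _ inferInstance inferInstance
        (IsPGroup.disjoint_of_ne s.1 r.1 hrs.symm _ _ Core.pCore_isPGroup Core.pCore_isPGroup) w u hw hu).eq
    have h : R r ≤ Subgroup.centralizer (R s : Set G) := by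
      have hpr := Nat.prime_of_mem_primeFactors r.2
      have hps := Nat.prime_of_mem_primeFactors s.2
      refine sup_le ?_ ?_ <;> rw [Subgroup.le_centralizer_iff] <;> refine sup_le ?_ ?_ <;>
        rw [Subgroup.le_centralizer_iff]
      · exact hcore A
      · exact hXW _ _ hpr hps hrs
      · exact Subgroup.le_centralizer_iff.1 (hXW _ _ hps hpr hrs.symm)
      · exact hcore V
    exact (Subgroup.mem_centralizer_iff.1 (h hx) y hy).symm

end Cfsg.Agent.S3822
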