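import Cfsg.Statements.S3824
import Cfsg.Agent.Char.Integral
import Mathlib.GroupTheory.Nilpotent
-- import your own Cfsg.Agent.* helpers here

set_option autoImplicit false
open Cfsg
open Cfsg.Agent
open scoped commutatorElement Pointwise

namespace Cfsg.Agent.S3824
open Cfsg.Agent in
theorem aux.{u} : ∀ (n : ℕ) {G : Type u} [Group G] [Finite G], Nat.card G = n → ∀ (A : Subgroup G),
    IsMulCommutative A → (∃ k : ℕ, A.index = 2 ^ k) → Group.IsSolvable G := by
  intro n
  induction n using Nat.strong_induction_on with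
  | _ n IH =>
  intro G _ _ hn A hA hidx
  subst hn
  obtain ⟨k, hk⟩ := hidx
  by_cases hN : ∃ N : Subgroup G, N.Normal ∧ N ≠ ⊥ ∧ N ≠ ⊤
  · obtain ⟨N, hNn, hN1, hN2⟩ := hN
    have hlt : Nat.card N < Nat.card G :=
      lt_of_le_of_ne (Nat.le_of_dvd Nat.card_pos (Subgroup.card_subgroup_dvd_card N))
        fun e => hN2 (Subgroup.eq_top_of_card_eq N e)
    have hqlt : Nat.card (G ⧸ N) < Nat.card G := by
      rw [Subgroup.card_eq_card_quotient_mul_card_subgroup N]
      exact lt_mul_of_one_lt_right Nat.card_pos (Nat.one_lt_iff_ne_zero_and_ne_one.mpr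
        ⟨Nat.card_pos.ne', fun e => hN1 (Subgroup.card_eq_one.mp e)⟩)
    have h1 : Group.IsSolvable N := by
      have hdvd : (A.subgroupOf N).index ∣ 2 ^ k := by
        have h := Subgroup.relIndex_sup_right (H := A) (K := N)
        have heq : A.relIndex (A ⊔ N) = A.relIndex N := by
          have e1 := Subgroup.relIndex_mul_relIndex (A ⊓ N) A (A ⊔ N) inf_le_left le_sup_left
          have e2 := Subgroup.relIndex_mul_relIndex (A ⊓ N) N (A ⊔ N) inf_le_right le_sup_right
          rw [Subgroup.inf_relIndex_left] at e1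
          rw [Subgroup.inf_relIndex_right, h, ← e1, mul_comm] at e2
          exact (Nat.eq_of_mul_eq_mul_left (Nat.pos_of_ne_zero Subgroup.index_ne_zero_of_finite) e2).symm
        rw [← hk, ← Subgroup.relIndex, ← heq]
        exact (Subgroup.relIndex_mul_index (le_sup_left : A ≤ A ⊔ N)) ▸ dvd_mul_right _ _
      obtain ⟨j, -, hj⟩ := (Nat.dvd_prime_pow Nat.prime_two).mp hdvd
      exact IH _ hlt rfl (A.subgroupOf N) inferInstance ⟨j, hj⟩
    have h2 : Group.IsSolvable (G ⧸ N) := by
      have hdvd : (A.map (QuotientGroup.mk' N)).index ∣ 2 ^ k :=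
        hk ▸ Subgroup.index_map_dvd _ (QuotientGroup.mk'_surjective N)
      obtain ⟨j, -, hj⟩ := (Nat.dvd_prime_pow Nat.prime_two).mp hdvd
      exact IH _ hqlt rfl (A.map (QuotientGroup.mk' N)) inferInstance ⟨j, hj⟩
    exact Group.isSolvable_of_ker_le_range N.subtype (QuotientGroup.mk' N) (by simp)
  · rcases subsingleton_or_nontrivial G with hs | hs
    · infer_instance
    rcases eq_or_ne A ⊥ with rfl | hA1
    · rw [Subgroup.index_bot] at hk
      have hG2 : IsPGroup 2 G := IsPGroup.of_card hk
      have := hG2.isNilpotent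
      infer_instance
    have : IsSimpleGroup G := ⟨fun N hNn => by
      by_contra h
      push Not at h
      exact hN ⟨N, hNn, h.1, h.2⟩⟩
    obtain ⟨x, hxA, hx1⟩ := (Subgroup.bot_or_exists_ne_one A).resolve_left hA1
    have hle : A ≤ Subgroup.centralizer ({x} : Set G) := fun a ha =>
      Subgroup.mem_centralizer_singleton_iff.mpr (setLike_mul_comm (s := A) ha hxA)
    obtain ⟨j, -, hj⟩ := (Nat.dvd_prime_pow Nat.prime_two).mp (hk ▸ Subgroup.index_dvd_of_le hle)
    have hp := Char.prime_card_of_class_prime_pow 2 j Nat.prime_two x hx1 hj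
    have : Fact (Nat.card G).Prime := ⟨hp⟩
    have := isCyclic_of_prime_card (α := G) rfl
    let : CommGroup G := IsCyclic.commGroup
    exact Group.isSolvable_of_comm mul_comm



/-- Every finite group having an abelian subgroup whose index is a power of 2 is solvable. -/
theorem result {G : Type*} [Group G] [Finite G]
    (A : Subgroup G) (hA : IsMulCommutative A) (hidx : ∃ k : ℕ, A.index = 2 ^ k) : Group.IsSolvable G := by
  exact aux _ rfl A hA hidx

end Cfsg.Agent.S3824
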