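import Cfsg.Statements.S3825
import Cfsg.Agent.Coprime.Elementary
import Mathlib.GroupTheory.FixedPointFree
-- import your own Cfsg.Agent.* helpers here

set_option autoImplicit false
open Cfsg
open scoped commutatorElement

namespace Cfsg.Agent.S3825

/-- Let U be a subgroup of a finite group H and w an involution of H normalizing U and commuting with exactly two elements of U, the identity and y. If V is a non-cyclic elementary abelian 2-subgroup of U containing y which is normal in U and invariant under w, then V is a Sylow 2-subgroup of U, V has order 4, and U/V is abelian. -/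
theorem result {H : Type*} [Group H] [Finite H] (U : Subgroup H) (w : H) (hw : orderOf w = 2)
    (hwU : w ∈ Subgroup.normalizer (U : Set H)) (y : H) (hy : y ≠ 1) (hyU : y ∈ U)
    (hfix : ∀ u ∈ U, w * u * w⁻¹ = u ↔ (u = 1 ∨ u = y))
    (V : Subgroup H) (hVU : V ≤ U) (hVn : (V.subgroupOf U).Normal) (hVw : ∀ v ∈ V, w * v * w⁻¹ ∈ V)
    (hVe : Cfsg.IsElementaryAbelian 2 V) (hVc : ¬ IsCyclic ↥V) (hyV : y ∈ V) :
    ¬ 2 ∣ V.relIndex U ∧ Nat.card ↥V = 4 ∧ ⁅U, U⁆ ≤ V := by
  classical
  haveI : Fact (Nat.Prime 2) := ⟨Nat.prime_two⟩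
  have hw2 : w * w = 1 := by
    rw [← sq, ← hw]
    exact pow_orderOf_eq_one w
  have hwi : w⁻¹ = w := inv_eq_of_mul_eq_one_right hw2
  have hyV2 : y * y = 1 := by rw [← sq]; exact hVe.2 y hyV
  have hyfix : w * y * w⁻¹ = y := (hfix y hyU).mpr (Or.inr rfl)
  have hfix' : ∀ u ∈ U, w * u * w⁻¹ = u → u ∈ V := by
    intro u hu h
    rcases (hfix u hu).mp h with rfl | rfl
    · exact one_mem V
    · exact hyV
  -- the image of `v ↦ [w, v]` on `V`
  have hcV : ∀ u ∈ U, u⁻¹ * (w * u * w⁻¹) ∈ V →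
      u⁻¹ * (w * u * w⁻¹) = 1 ∨ u⁻¹ * (w * u * w⁻¹) = y := by
    intro u hu hv
    refine (hfix _ (hVU hv)).mp ?_
    have h1 : w * (u⁻¹ * (w * u * w⁻¹)) * w⁻¹ = (u⁻¹ * (w * u * w⁻¹))⁻¹ := by
      rw [hwi, mul_inv_rev, mul_inv_rev, mul_inv_rev, inv_inv, hwi]
      calc w * (u⁻¹ * (w * u * w)) * w = w * u⁻¹ * w * u * (w * w) := by simp [mul_assoc]
        _ = w * (u⁻¹ * w) * u := by rw [hw2]; simp [mul_assoc]
    rw [h1]
    exact inv_eq_of_mul_eq_one_right (by rw [← sq]; exact hVe.2 _ hv)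
  obtain ⟨v0, hv0, hv0n⟩ : ∃ v0 ∈ V, w * v0 * w⁻¹ ≠ v0 := by
    by_contra h
    push Not at h
    refine hVc (isCyclic_iff_exists_zpowers_eq_top.mpr ⟨⟨y, hyV⟩, eq_top_iff.mpr fun v _ => ?_⟩)
    rcases (hfix v (hVU v.2)).mp (h v v.2) with h1 | h1
    · rw [show v = 1 from Subtype.ext h1]
      exact one_mem _
    · rw [show v = ⟨y, hyV⟩ from Subtype.ext h1]
      exact Subgroup.mem_zpowers _
  have hc0 : v0⁻¹ * (w * v0 * w⁻¹) = y :=
    (hcV v0 (hVU hv0) (mul_mem (inv_mem hv0) (hVw v0 hv0))).resolve_left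
      fun h => hv0n (inv_mul_eq_one.mp h).symm
  have hdec : ∀ u ∈ U, u⁻¹ * (w * u * w⁻¹) = y → u * v0⁻¹ = 1 ∨ u * v0⁻¹ = y := by
    intro u hu h
    refine (hfix _ (mul_mem hu (inv_mem (hVU hv0)))).mp ?_
    calc w * (u * v0⁻¹) * w⁻¹ = (w * u * w⁻¹) * (w * v0 * w⁻¹)⁻¹ := by simp [mul_assoc]
      _ = (u * y) * (v0 * y)⁻¹ := by
        rw [inv_mul_eq_iff_eq_mul.mp h, inv_mul_eq_iff_eq_mul.mp hc0]
      _ = u * v0⁻¹ := by simp [mul_assoc]
  have hsub : (V : Set H) ⊆ ({1, y, v0, y * v0} : Finset H) := by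
    intro v hv
    simp only [Finset.coe_insert, Finset.coe_singleton, Set.mem_insert_iff, Set.mem_singleton_iff]
    rcases hcV v (hVU hv) (mul_mem (inv_mem hv) (hVw v hv)) with h | h
    · rcases (hfix v (hVU hv)).mp (inv_mul_eq_one.mp h).symm with h1 | h1
      · exact Or.inl h1
      · exact Or.inr (Or.inl h1)
    · rcases hdec v (hVU hv) h with h1 | h1
      · exact Or.inr (Or.inr (Or.inl (mul_inv_eq_one.mp h1)))
      · exact Or.inr (Or.inr (Or.inr (mul_inv_eq_iff_eq_mul.mp h1)))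
  have hcard : Nat.card V = 4 := by
    have h1 : Nat.card V ≤ 4 := by
      refine le_trans (Nat.card_mono (Finset.finite_toSet _) hsub) ?_
      rw [Nat.card_coe_set_eq, Set.ncard_coe_finset]
      refine le_trans (Finset.card_insert_le _ _) (Nat.add_le_add_right ?_ 1)
      refine le_trans (Finset.card_insert_le _ _) (Nat.add_le_add_right ?_ 1)
      exact le_trans (Finset.card_insert_le _ _) (by simp)
    obtain ⟨n, hn⟩ := Coprime.ea_card hVe
    rcases n with _ | _ | _ | n
    · exfalso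
      haveI : Subsingleton V := (Nat.card_eq_one_iff_unique.mp (by simpa using hn)).1
      exact hVc inferInstance
    · exact absurd (isCyclic_of_prime_card (p := 2) (by simpa using hn)) hVc
    · simpa using hn
    · have h2 : 2 ^ 3 ≤ 2 ^ (n + 1 + 1 + 1) := Nat.pow_le_pow_right (by norm_num) (by omega)
      omega
  -- the action on `U / V`
  haveI := hVn
  let σ : U →* U := (Subgroup.normalizerMonoidHom U ⟨w, hwU⟩).toMonoidHom
  have hσ : ∀ u : U, ((σ u : U) : H) = w * u * w⁻¹ := fun u => rfl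
  let τ : U ⧸ V.subgroupOf U →* U ⧸ V.subgroupOf U :=
    QuotientGroup.map _ _ σ fun v hv => by
      rw [Subgroup.mem_comap, Subgroup.mem_subgroupOf, hσ]
      exact hVw _ hv
  have hτ : ∀ u : U, τ (u : U ⧸ V.subgroupOf U) = ((σ u : U) : U ⧸ V.subgroupOf U) := fun u => rfl
  have hinv : Function.Involutive τ := by
    intro x
    induction x using QuotientGroup.induction_on with
    | _ u =>
      rw [hτ, hτ]
      congr 1
      apply Subtype.ext
      rw [hσ, hσ, hwi]
      calc w * (w * (u : H) * w) * w = (w * w) * u * (w * w) := by simp [mul_assoc]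
        _ = u := by rw [hw2, one_mul, mul_one]
  have hfpf : MonoidHom.FixedPointFree τ := by
    intro x
    induction x using QuotientGroup.induction_on with
    | _ u =>
      intro h
      rw [hτ, QuotientGroup.eq] at h
      have h' : ((σ u : U) : H)⁻¹ * u ∈ V := h
      rw [QuotientGroup.eq_one_iff, Subgroup.mem_subgroupOf]
      have hcu : (u : H)⁻¹ * (w * u * w⁻¹) ∈ V := by
        have := inv_mem h'
        rwa [mul_inv_rev, inv_inv, hσ] at this
      rcases hcV u u.2 hcu with h1 | h1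
      · exact hfix' u u.2 (inv_mul_eq_one.mp h1).symm
      · have h2 : (u : H) * v0⁻¹ ∈ V := by
          rcases hdec u u.2 h1 with h3 | h3
          · rw [h3]; exact one_mem V
          · rw [h3]; exact hyV
        simpa using mul_mem h2 hv0
  refine ⟨fun h => ?_, hcard, Subgroup.commutator_le.mpr fun a ha b hb => ?_⟩
  · have h1 : Odd (Nat.card (U ⧸ V.subgroupOf U)) :=
      MonoidHom.FixedPointFree.odd_card_of_involutive hfpf hinv
    exact h1.not_two_dvd_nat h
  · have h1 := MonoidHom.FixedPointFree.commute_all_of_involutive hfpf hinv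
      ((⟨a, ha⟩ : U) : U ⧸ V.subgroupOf U) ((⟨b, hb⟩ : U) : U ⧸ V.subgroupOf U)
    have h2 : QuotientGroup.mk' (V.subgroupOf U) ⁅(⟨a, ha⟩ : U), ⟨b, hb⟩⁆ = 1 := by
      rw [map_commutatorElement, commutatorElement_eq_one_iff_mul_comm]
      exact h1
    exact ((QuotientGroup.eq_one_iff _).mp h2 :)

end Cfsg.Agent.S3825
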