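import Cfsg.Statements.S3835
import Cfsg.Agent.QdFree.QdSylow
import Cfsg.Agent.Classical.LinearBasic

set_option autoImplicit false
open Cfsg

namespace Cfsg.Agent.S3835

open Equiv Matrix QdFree

/-- A `p`-subgroup of `Sym(n)`, `n < p ^ 2`, is abelian. -/
theorem pGroup_comm {p n : ℕ} [hp : Fact p.Prime] (hn : n < p ^ 2) {Q : Subgroup (Perm (Fin n))}
    (hQ : IsPGroup p Q) : ∀ a ∈ Q, ∀ b ∈ Q, a * b = b * a := by
  classical
  let e : Fin n ≃ (Fin (n / p) × ZMod p) ⊕ Fin (n % p) := Fintype.equivOfCardEq (by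
    simp [ZMod.card, Nat.div_add_mod, mul_comm (n / p) p])
  let f : Multiplicative (Fin (n / p) → ZMod p) →* Perm (Fin n) :=
    MonoidHom.mk' (fun v => e.symm.permCongr
      (Equiv.sumCongr (Equiv.prodShear (Equiv.refl _) fun i => Equiv.addLeft (v.toAdd i)) (Equiv.refl _)))
      (fun v w => Equiv.ext fun x => by
        show e.symm _ = e.symm (_)
        rcases hx : e x with ⟨i, y⟩ | j <;>
          simp [hx, Equiv.permCongr_apply, add_assoc])
  have hf : Function.Injective f := fun v w h => by
    refine Multiplicative.toAdd.injective (funext fun i => ?_)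
    have := congrArg (fun σ : Perm (Fin n) => e (σ (e.symm (Sum.inl (i, 0))))) h
    simpa [f, Equiv.permCongr_apply] using this
  have hcard : Nat.card f.range = p ^ (Nat.card (Perm (Fin n))).factorization p := by
    rw [← Nat.card_congr (MonoidHom.ofInjective hf).toEquiv, Nat.card_congr Multiplicative.toAdd,
      Nat.card_fun, Nat.card_zmod, Nat.card_fin, Nat.card_perm, Nat.card_fin]
    congr 1
    rcases Nat.eq_zero_or_pos n with rfl | hn0
    · simp
    rw [Nat.factorization_factorial hp.out (b := 2) ((Nat.log_lt_iff_lt_pow hp.out.one_lt hn0.ne').2 hn),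
      show Finset.Ico 1 2 = {1} from rfl, Finset.sum_singleton, pow_one]
  let T : Sylow p (Perm (Fin n)) := Sylow.ofCard f.range hcard
  obtain ⟨S, hS⟩ := hQ.exists_le_sylow
  obtain ⟨g, hg⟩ := MulAction.exists_smul_eq (Perm (Fin n)) T S
  intro a ha b hb
  have hmem : ∀ a ∈ Q, ∃ v, g * f v * g⁻¹ = a := fun a ha => by
    have h1 := hS ha
    rw [← hg] at h1
    obtain ⟨w, ⟨v, rfl⟩, hw⟩ := h1
    exact ⟨v, hw⟩
  obtain ⟨v, rfl⟩ := hmem a ha
  obtain ⟨w, rfl⟩ := hmem b hb
  have h1 : g * f v * g⁻¹ * (g * f w * g⁻¹) = g * f (v * w) * g⁻¹ := by rw [map_mul]; group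
  have h2 : g * f w * g⁻¹ * (g * f v * g⁻¹) = g * f (w * v) * g⁻¹ := by rw [map_mul]; group
  rw [h1, h2, mul_comm v w]

theorem not_involves {p n : ℕ} [hp : Fact p.Prime] (hn : n < p ^ 2) :
    ¬ Cfsg.Involves ↥(Cfsg.qd p) ↥(alternatingGroup (Fin n)) := by
  intro hinv
  obtain ⟨K, f, hf⟩ := exists_surjective_of_involves hinv
  let g : K →* Affine (ZMod p) := (qdEquiv p).symm.toMonoidHom.comp f
  have hg : Function.Surjective g := (qdEquiv p).symm.surjective.comp hf
  obtain ⟨P⟩ : Nonempty (Sylow p K) := inferInstance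
  set P' := P.mapSurjective hg
  obtain ⟨S, hS⟩ := (isPGroup_sylowModel (p := p)).exists_le_sylow
  obtain ⟨c, hc⟩ := MulAction.exists_smul_eq (Affine (ZMod p)) P' S
  let ι : K →* Perm (Fin n) := (alternatingGroup (Fin n)).subtype.comp K.subtype
  have hι : Function.Injective ι :=
    (alternatingGroup (Fin n)).subtype_injective.comp K.subtype_injective
  have hcomm := pGroup_comm hn (P.2.map ι)
  have hmem : ∀ a ∈ sylowModel p, ∃ u ∈ (P : Subgroup K), c * g u * c⁻¹ = a := fun a ha => by
    have h1 := hS ha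
    rw [← hc] at h1
    obtain ⟨w, ⟨u, hu, rfl⟩, hw⟩ := h1
    exact ⟨u, hu, hw⟩
  obtain ⟨u, hu, hua⟩ := hmem _ (mkT_mem 0 0 1)
  obtain ⟨v, hv, hva⟩ := hmem _ (mkT_mem 0 1 0)
  have huv : u * v = v * u := hι (by
    rw [map_mul, map_mul]
    exact hcomm _ ⟨u, hu, rfl⟩ _ ⟨v, hv, rfl⟩)
  have h1 : (mkT 0 0 1 : Affine (ZMod p)) * mkT 0 1 0 = mkT 0 1 0 * mkT 0 0 1 := by
    rw [← hua, ← hva]
    calc c * g u * c⁻¹ * (c * g v * c⁻¹) = c * g (u * v) * c⁻¹ := by rw [map_mul]; group
      _ = c * g v * c⁻¹ * (c * g u * c⁻¹) := by rw [huv, map_mul]; group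
  rw [mkT_mul, mkT_mul] at h1
  simpa using (mkT_inj h1).1

/-- The affine action on the plane. -/
def aff {p : ℕ} [Fact p.Prime] (g : Affine (ZMod p)) (x : Fin 2 → ZMod p) : Fin 2 → ZMod p :=
  g.left.toAdd + (g.right : Matrix (Fin 2) (Fin 2) (ZMod p)) *ᵥ x

theorem aff_mul {p : ℕ} [Fact p.Prime] (g h : Affine (ZMod p)) (x : Fin 2 → ZMod p) :
    aff (g * h) x = aff g (aff h x) := by
  show g.left.toAdd + (g.right : Matrix (Fin 2) (Fin 2) (ZMod p)) *ᵥ h.left.toAdd
      + ((g.right : Matrix (Fin 2) (Fin 2) (ZMod p)) * (h.right : Matrix (Fin 2) (Fin 2) (ZMod p))) *ᵥ x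
    = _
  unfold aff
  rw [mulVec_add, mulVec_mulVec, add_assoc]

theorem aff_one {p : ℕ} [Fact p.Prime] (x : Fin 2 → ZMod p) : aff (1 : Affine (ZMod p)) x = x := by
  show 0 + (1 : Matrix (Fin 2) (Fin 2) (ZMod p)) *ᵥ x = x
  rw [one_mulVec, zero_add]

theorem embeds {p n : ℕ} [hp : Fact p.Prime] (h2 : p ≠ 2) (hn : p ^ 2 ≤ n) :
    ∃ H : Subgroup (alternatingGroup (Fin n)), Nonempty (↥H ≃* ↥(Cfsg.qd p)) := by
  classical
  let ρ : Affine (ZMod p) →* Perm (Fin 2 → ZMod p) := MonoidHom.mk' (fun g =>
    { toFun := aff g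
      invFun := aff g⁻¹
      left_inv := fun x => by rw [← aff_mul, inv_mul_cancel, aff_one]
      right_inv := fun x => by rw [← aff_mul, mul_inv_cancel, aff_one] })
    fun g h => Equiv.ext fun x => aff_mul g h x
  have hρ : Function.Injective ρ := fun g h e => by
    have e' : ∀ x, aff g x = aff h x := fun x => congrArg (fun σ : Perm (Fin 2 → ZMod p) => σ x) e
    have e0 := e' 0
    simp only [aff, mulVec_zero, add_zero] at e0
    refine SemidirectProduct.ext (Multiplicative.toAdd.injective e0) (Subtype.ext ?_)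
    refine Matrix.ext_of_mulVec_single fun i => ?_
    have := e' (Pi.single i 1)
    rw [aff, aff, e0] at this
    exact add_left_cancel this
  have hodd : Odd p := hp.out.odd_of_ne_two h2
  have hsign : ∀ g, Equiv.Perm.sign (ρ g) = 1 := by
    intro g
    let χ := Equiv.Perm.sign.comp ρ
    have hpow : ∀ a : Affine (ZMod p), a ^ p = 1 → a ∈ χ.ker := fun a ha => by
      rw [MonoidHom.mem_ker]
      have h1 : (χ a) ^ p = 1 := by rw [← map_pow, ha, map_one]
      rcases Int.units_eq_one_or (χ a) with h | h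
      · exact h
      · rw [h, hodd.neg_one_pow] at h1
        exact absurd h1 (by decide)
    have hinl : ∀ u, SemidirectProduct.inl u ∈ χ.ker := fun u => hpow _ (by
      rw [← map_pow, show u ^ p = 1 from Multiplicative.toAdd.injective (funext fun i => by
        simp [toAdd_pow]), map_one])
    have htop : χ.ker.comap SemidirectProduct.inr = ⊤ :=
      Classical.sl_eq_top_of_transvection _ fun i j hij c => hpow _ (by
        have key : ∀ k : ℕ, (Matrix.SpecialLinearGroup.transvection hij c :
            SpecialLinearGroup (Fin 2) (ZMod p)).1 ^ k = Matrix.transvection i j ((k : ZMod p) * c) := by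
          intro k
          induction k with
          | zero => simp
          | succ k ih =>
            rw [pow_succ, ih]
            show Matrix.transvection i j _ * Matrix.transvection i j c = _
            rw [Matrix.transvection_mul_transvection_same i j hij]
            congr 1
            push_cast
            ring
        rw [← map_pow, show (Matrix.SpecialLinearGroup.transvection hij c :
            SpecialLinearGroup (Fin 2) (ZMod p)) ^ p = 1 from Subtype.ext (by
          show (Matrix.SpecialLinearGroup.transvection hij c :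
            SpecialLinearGroup (Fin 2) (ZMod p)).1 ^ p = 1
          rw [key, ZMod.natCast_self, zero_mul, Matrix.transvection_zero]), map_one])
    have hr : SemidirectProduct.inr g.right ∈ χ.ker := by
      have : g.right ∈ χ.ker.comap SemidirectProduct.inr := htop ▸ Subgroup.mem_top _
      exact this
    have := χ.ker.mul_mem (hinl g.left) hr
    rw [SemidirectProduct.inl_left_mul_inr_right] at this
    exact this
  obtain ⟨emb⟩ := Function.Embedding.nonempty_of_card_le
    (α := Fin 2 → ZMod p) (β := Fin n) (by simpa [ZMod.card] using hn)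
  let em : (Fin 2 → ZMod p) ≃ {y : Fin n // y ∈ Set.range emb} := Equiv.ofInjective emb emb.injective
  let τ : Affine (ZMod p) →* Perm (Fin n) := (Equiv.Perm.extendDomainHom em).comp ρ
  have hτ : ∀ g, τ g ∈ alternatingGroup (Fin n) := fun g => by
    rw [Equiv.Perm.mem_alternatingGroup]
    show Equiv.Perm.sign ((ρ g).extendDomain em) = 1
    rw [Equiv.Perm.sign_extendDomain]
    exact hsign g
  let τ' : Affine (ZMod p) →* alternatingGroup (Fin n) := τ.codRestrict _ hτ
  have hτ' : Function.Injective τ' := fun a b e =>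
    hρ (Equiv.Perm.extendDomainHom_injective em (congrArg Subtype.val e))
  exact ⟨τ'.range, ⟨(MonoidHom.ofInjective hτ').symm.trans (qdEquiv p)⟩⟩

/-- Let p be an odd prime and n a natural number. The alternating group of degree n has a subgroup isomorphic to Qd(p) (the natural semidirect product of an elementary abelian group of order p² by SL₂(p)) if and only if n ≥ p²; and if n < p² then Qd(p) is not even involved in it. -/
theorem result {p : ℕ} [Fact p.Prime] (hp : p ≠ 2) (n : ℕ) : ((∃ H : Subgroup (alternatingGroup (Fin n)), Nonempty (↥H ≃* ↥(Cfsg.qd p))) ↔ p ^ 2 ≤ n) ∧ (n < p ^ 2 → ¬ Cfsg.Involves ↥(Cfsg.qd p) ↥(alternatingGroup (Fin n))) := by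
  have hno : n < p ^ 2 → ¬ Cfsg.Involves ↥(Cfsg.qd p) ↥(alternatingGroup (Fin n)) :=
    fun h => not_involves h
  refine ⟨⟨fun ⟨H, ⟨e⟩⟩ => ?_, embeds hp⟩, hno⟩
  by_contra h
  exact hno (not_le.1 h) (involves_mk H e.toMonoidHom e.surjective)

end Cfsg.Agent.S3835
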