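import Cfsg.Statements.S3836
import Cfsg.Agent.Core.PCore
set_option autoImplicit false
open Cfsg

namespace Cfsg.Agent.S3836

open Subgroup


/-- Let G be a finite group that is p-stable in the normalizer form: for every p-subgroup Q and every x ∈ N_G(Q) with [Q, x, x] = 1, the image of x in N_G(Q)/C_G(Q) lies in O_p(N_G(Q)/C_G(Q)). Then every subgroup of G is p-stable in the same sense. -/
theorem result {G : Type*} [Group G] [Finite G] {p : ℕ} [Fact p.Prime] (hst : Cfsg.IsNormalizerPStable p G) (H : Subgroup G) : Cfsg.IsNormalizerPStable p ↥H := by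
  intro P hP g hg hcomm
  set P' := P.map H.subtype with hP'
  have hN : ∀ n : H, n ∈ normalizer (P : Set H) → (n : G) ∈ normalizer (P' : Set G) := fun n hn => by
    refine mem_normalizer_iff.mpr fun y => ⟨?_, ?_⟩
    · rintro ⟨y, hy, rfl⟩
      exact ⟨n * y * n⁻¹, (mem_normalizer_iff.mp hn y).mp hy, by simp⟩
    · rintro ⟨z, hz, he⟩
      exact ⟨n⁻¹ * z * n, (mem_normalizer_iff''.mp hn z).mp hz, by simp [show (z : G) = n * y * (n : G)⁻¹ from he, mul_assoc]⟩
  let ι : normalizer (P : Set H) →* normalizer (P' : Set G) :=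
    (H.subtype.comp (Subgroup.subtype _)).codRestrict _ fun n => hN n n.2
  set C := (centralizer (P : Set H)).subgroupOf (normalizer (P : Set H))
  set C' := (centralizer (P' : Set G)).subgroupOf (normalizer (P' : Set G))
  have hCC : C = C'.comap ι := by
    ext n
    simp only [C, C', mem_comap, mem_subgroupOf, mem_centralizer_iff]
    constructor
    · rintro h _ ⟨y, hy, rfl⟩
      exact congrArg Subtype.val (h y hy)
    · exact fun h y hy => Subtype.ext (h _ ⟨y, hy, rfl⟩)
  let f : normalizer (P : Set H) ⧸ C →* normalizer (P' : Set G) ⧸ C' :=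
    QuotientGroup.map C C' ι hCC.le
  have hf : Function.Injective f := by
    refine (injective_iff_map_eq_one f).mpr fun q hq => ?_
    obtain ⟨n, rfl⟩ := QuotientGroup.mk_surjective q
    change ((ι n : normalizer (P' : Set G)) : normalizer (P' : Set G) ⧸ C') = 1 at hq
    rw [QuotientGroup.eq_one_iff, hCC]
    exact mem_comap.mpr ((QuotientGroup.eq_one_iff _).mp hq)
  have h1 := hst P' (hP.map _) (g : G) (hN g hg) (by
    rw [hP', show (g : G) = H.subtype g from rfl, ← MonoidHom.map_zpowers, ← map_commutator, ← map_commutator, hcomm, Subgroup.map_bot])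
  have h2 : (pCore p (normalizer (P' : Set G) ⧸ C')).comap f ≤ pCore p (normalizer (P : Set H) ⧸ C) :=
    Core.le_pCore (IsPGroup.comap_of_injective Core.pCore_isPGroup f hf)
  exact h2 (mem_comap.mpr h1)

end Cfsg.Agent.S3836
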