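import Cfsg.Statements.S3838
import Cfsg.Agent.Fusion.Tate
import Cfsg.Agent.Fusion.Frobenius
import Cfsg.Agent.Core.Frattini
-- import your own Cfsg.Agent.* helpers here

set_option autoImplicit false
open Cfsg
open Cfsg.Agent
open scoped commutatorElement

namespace Cfsg.Agent.S3838

/-- Let G be a finite group with Sylow p-subgroup P such that N_G(P) has a normal p-complement. Then N_G(Q) has a normal p-complement for every subgroup Q with [P, P] ≤ Q ≤ Φ(P). -/
theorem result {G : Type*} [Group G] [Finite G] {p : ℕ} [Fact p.Prime] (P : Sylow p G) (hN : Cfsg.HasNormalPComplement p ↥(Subgroup.normalizer ((P : Subgroup G) : Set G))) (Q : Subgroup G) (h1 : (commutator ↥(P : Subgroup G)).map (P : Subgroup G).subtype ≤ Q) (h2 : Q ≤ (frattini ↥(P : Subgroup G)).map (P : Subgroup G).subtype) : Cfsg.HasNormalPComplement p ↥(Subgroup.normalizer (Q : Set G)) := by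
  set X := Subgroup.normalizer (Q : Set G)
  set PS : Subgroup G := (P : Subgroup G) with hPS
  have hQP : Q ≤ PS := h2.trans (Subgroup.map_subtype_le _)
  have hPX : PS ≤ X := fun x hx => by
    rw [Subgroup.mem_normalizer_iff]
    have key : ∀ y ∈ PS, ∀ q ∈ Q, y * q * y⁻¹ ∈ Q := fun y hy q hq => by
      rw [← inv_mul_cancel_right (y * q * y⁻¹) q, ← commutatorElement_def]
      refine Q.mul_mem (h1 ?_) hq
      rw [Subgroup.map_subtype_commutator]
      exact Subgroup.commutator_mem_commutator hy (hQP hq)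
    exact fun q => ⟨key x hx q, fun hq => by simpa [mul_assoc] using key x⁻¹ (PS.inv_mem hx) _ hq⟩
  let PX : Sylow p X := P.subtype hPX
  have hPXc : (PX : Subgroup X) = PS.subgroupOf X := Sylow.coe_subtype _ _
  set Qx := Q.subgroupOf X
  have hQn : Qx.Normal := Subgroup.normal_in_normalizer
  let f := QuotientGroup.mk' Qx
  have hf : Function.Surjective f := QuotientGroup.mk'_surjective Qx
  let Pb : Sylow p (X ⧸ Qx) := PX.mapSurjective hf
  have hPbc : (Pb : Subgroup (X ⧸ Qx)) = (PX : Subgroup X).map f := Sylow.coe_mapSurjective _ _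
  have hcomm : ∀ a ∈ (PX : Subgroup X), ∀ b ∈ (PX : Subgroup X), Commute (f a) (f b) := fun a ha b hb => by
    rw [hPXc] at ha hb
    rw [← commutatorElement_eq_one_iff_commute, ← map_commutatorElement, QuotientGroup.mk'_apply, QuotientGroup.eq_one_iff]
    refine Subgroup.mem_subgroupOf.mpr (h1 ?_)
    rw [Subgroup.map_subtype_commutator, commutatorElement_def]
    push_cast
    rw [← commutatorElement_def]
    exact Subgroup.commutator_mem_commutator ha hb
  have hXb : Cfsg.HasNormalPComplement p (X ⧸ Qx) := by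
    have : IsMulCommutative (Pb : Subgroup (X ⧸ Qx)) := ⟨⟨by
      rintro ⟨a, ha⟩ ⟨b, hb⟩
      rw [hPbc] at ha hb
      obtain ⟨a, ha', rfl⟩ := ha
      obtain ⟨b, hb', rfl⟩ := hb
      exact Subtype.ext (hcomm a ha' b hb').eq⟩⟩
    apply Fusion.hasNormalPComplement_of_normalizer_le_centralizer Pb
    intro z hz
    -- lift to the normaliser of `P`
    obtain ⟨w, rfl⟩ := hf z
    have hQle : Qx ≤ (PX : Subgroup X) := by rw [hPXc]; exact Subgroup.comap_mono hQP
    have hcm : ((PX : Subgroup X).map f).comap f = PX :=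
      Subgroup.comap_map_eq_self (by rw [QuotientGroup.ker_mk']; exact hQle)
    have hwN : (w : G) ∈ Subgroup.normalizer (PS : Set G) := by
      replace hz : f w ∈ Subgroup.normalizer (((PX : Subgroup X).map f : Subgroup _) : Set (X ⧸ Qx)) := by rw [← hPbc]; exact hz
      rw [Subgroup.mem_normalizer_iff] at hz
      have key : ∀ y : X, y ∈ (PX : Subgroup X) ↔ w * y * w⁻¹ ∈ (PX : Subgroup X) := fun y => by
        conv_lhs => rw [← hcm, Subgroup.mem_comap, hz (f y), ← map_inv, ← map_mul, ← map_mul]
        conv_rhs => rw [← hcm, Subgroup.mem_comap]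
      rw [Subgroup.mem_normalizer_iff]
      intro y
      constructor
      · intro hy
        have := (key ⟨y, hPX hy⟩).mp (by rw [hPXc]; exact hy)
        rw [hPXc] at this
        exact this
      · intro hy
        have hyX : y ∈ X := by
          simpa [mul_assoc] using X.mul_mem (X.mul_mem (X.inv_mem w.2) (hPX hy)) w.2
        have := (key ⟨y, hyX⟩).mpr (by rw [hPXc]; exact hy)
        rw [hPXc] at this
        exact this
    -- split off the `p'`-part
    set N := Subgroup.normalizer (PS : Set G)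
    let PN : Sylow p N := P.subtype Subgroup.le_normalizer
    have hcp := Fusion.isComplement'_pResidual hN PN
    obtain ⟨⟨o, s⟩, hos⟩ := hcp.2 ⟨(w : G), hwN⟩
    have hoc : (((o : N) : G)) ∈ Subgroup.centralizer (PS : Set G) := by
      have hn : (PS.subgroupOf N).Normal := Subgroup.normal_in_normalizer
      have h3 := Fusion.mem_centralizer_of_hasNormalPComplement hN (Q := PS.subgroupOf N)
        (P.2.comap_of_injective N.subtype N.subtype_injective) (g := (o : N))
        ((Subgroup.normalizer_eq_top_iff.mpr hn).ge (Subgroup.mem_top _))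
        ((Fusion.mem_pResidual_iff hN).mp o.2)
      rw [Subgroup.mem_centralizer_iff] at h3 ⊢
      exact fun y hy => congrArg Subtype.val (h3 ⟨y, Subgroup.le_normalizer hy⟩ hy)
    have hs : ((s : N) : G) ∈ PS := by
      exact Subgroup.mem_subgroupOf.mp ((Sylow.coe_subtype (P := P) (h := Subgroup.le_normalizer)).le (show (s : N) ∈ (PN : Subgroup N) from s.2))
    have how : ((o : N) : G) * (s : N) = w := congrArg Subtype.val hos
    have hoX : ((o : N) : G) ∈ X := by
      rw [show ((o : N) : G) = (w : G) * ((s : N) : G)⁻¹ by rw [← how, mul_inv_cancel_right]]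
      exact X.mul_mem w.2 (X.inv_mem (hPX hs))
    rw [Subgroup.mem_centralizer_iff]
    intro y hy
    replace hy : y ∈ (PX : Subgroup X).map f := hPbc ▸ hy
    obtain ⟨y, hy, rfl⟩ := hy
    have hw : w = ⟨_, hoX⟩ * ⟨_, hPX hs⟩ := Subtype.ext how.symm
    have h5 : Commute (f y) (f ⟨_, hoX⟩) := by
      rw [hPXc] at hy
      refine Commute.map ?_ f
      exact Subtype.ext (Subgroup.mem_centralizer_iff.mp hoc y hy)
    rw [hw, map_mul]
    exact (h5.mul_right (hcomm y hy _ (by rw [hPXc]; exact hs))).eq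
  refine Fusion.hasNormalPComplement_of_inf_pResidual_le_frattini PX ?_
  rintro x ⟨hxP, hxR⟩
  have hxQ : x ∈ Qx := by
    rw [← QuotientGroup.eq_one_iff, ← QuotientGroup.mk'_apply, ← orderOf_eq_one_iff]
    have h6 : f x ∈ Cfsg.pResidual p (X ⧸ Qx) := Fusion.map_pResidual_le f (Subgroup.mem_map_of_mem f hxR)
    have h7 := (Fusion.mem_pResidual_iff hXb).mp h6
    obtain ⟨k, hk⟩ := IsPGroup.iff_orderOf.mp PX.2 ⟨x, hxP⟩
    rw [Subgroup.orderOf_mk] at hk
    exact Nat.eq_one_of_dvd_coprimes (h7.pow_right k) dvd_rfl (hk ▸ orderOf_map_dvd f x)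
  obtain ⟨y, hy, hyx⟩ := h2 (Subgroup.mem_subgroupOf.mp hxQ)
  let e : PS ≃* (PX : Subgroup X) :=
    (Subgroup.subgroupOfEquivOfLe hPX).symm.trans (MulEquiv.subgroupCongr hPXc.symm)
  refine ⟨e y, ?_, Subtype.ext hyx⟩
  exact Core.map_frattini_le_of_surjective (f := e.toMonoidHom) e.surjective ⟨y, hy, rfl⟩

end Cfsg.Agent.S3838
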