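import Cfsg.Statements.S3839
import Cfsg.Agent.Fusion.Control
import Cfsg.Agent.Fusion.Residual
import Cfsg.Agent.Fusion.PGroup
import Cfsg.Agent.Core.Basics
import Cfsg.Agent.Coprime.Tools

set_option autoImplicit false
open Cfsg

namespace Cfsg.Agent.S3839

open Subgroup Cfsg Cfsg.Agent.Fusion

section aux
universe u
variable {G : Type u} [Group G] [Finite G] {p : ℕ} [hp : Fact p.Prime] {S : Sylow p G} {D : Subgroup G}
  (hD : IsStronglyClosed D (S : Subgroup G))

theorem pPrime_mem {H : Subgroup G} {g : G} (hg : (orderOf g).Coprime p) {j : ℕ} (h : g ^ p ^ j ∈ H) :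
    g ∈ H := by
  obtain ⟨u, hu⟩ := exists_pow_eq_self_of_coprime ((hg.pow_right j).symm)
  rw [← hu]
  exact pow_mem h u

theorem exists_pow_coprime (g : G) : ∃ j, (orderOf (g ^ p ^ j)).Coprime p := by
  refine ⟨(orderOf g).factorization p, ?_⟩
  rw [orderOf_pow_of_dvd (pow_ne_zero _ hp.out.pos.ne') (Nat.ordProj_dvd _ p)]
  exact (Nat.coprime_ordCompl hp.out (orderOf_pos g).ne').symm

/-- `p'`-elements of a `p`-nilpotent subgroup centralize the `p`-subgroups they normalize. -/
theorem cen {H V : Subgroup G} (hH : HasNormalPComplement p H) (hVH : V ≤ H) (hV : IsPGroup p V)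
    {g : G} (hgH : g ∈ H) (hgV : g ∈ normalizer (V : Set G)) (hg : (orderOf g).Coprime p) :
    g ∈ centralizer (V : Set G) := by
  have h := mem_centralizer_of_hasNormalPComplement hH (hV.comap_subtype (K := H)) (g := ⟨g, hgH⟩)
    (mem_normalizer_iff.mpr fun x => (mem_normalizer_iff.mp hgV (x : G)))
    (by rwa [Subgroup.orderOf_mk])
  rw [mem_centralizer_iff] at h ⊢
  exact fun v hv => congrArg Subtype.val (h ⟨v, hVH hv⟩ hv)

theorem not_dvd_relIndex_inf {T L M : Subgroup G} (hT : T ≤ M) (hi : ¬ p ∣ T.relIndex M)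
    (hL : L ≤ M) (hn : M ≤ normalizer (L : Set G)) : ¬ p ∣ (T ⊓ L).relIndex L := by
  haveI : (L.subgroupOf M).Normal := (normal_subgroupOf_iff_le_normalizer hL).mpr hn
  rw [inf_relIndex_right, ← relIndex_subgroupOf hL]
  refine fun hd => hi (hd.trans ?_)
  set T' := T.subgroupOf M
  set L' := L.subgroupOf M
  show T'.relIndex L' ∣ T'.index
  have h1 := Core.card_sup_mul_card_inf T' L'
  have h2 : Nat.card (T' ⊓ L' : Subgroup M) * T'.relIndex L' = Nat.card L' := by
    rw [← inf_relIndex_right T' L', relIndex,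
      ← Nat.card_congr (subgroupOfEquivOfLe (inf_le_right : T' ⊓ L' ≤ L')).toEquiv]
    exact card_mul_index _
  have h3 : Nat.card (T' ⊔ L' : Subgroup M) = Nat.card T' * T'.relIndex L' := by
    refine Nat.eq_of_mul_eq_mul_right (Nat.card_pos (α := (T' ⊓ L' : Subgroup M))) ?_
    rw [h1, ← h2]; ring
  have h4 := card_subgroup_dvd_card (T' ⊔ L' : Subgroup M)
  rw [h3, ← card_mul_index T'] at h4
  exact Nat.dvd_of_mul_dvd_mul_left Nat.card_pos h4

theorem exists_frattini {T L M : Subgroup G} (hTL : T ≤ L) (hTp : IsPGroup p T)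
    (hi : ¬ p ∣ T.relIndex L) (hL : L ≤ M) (hn : M ≤ normalizer (L : Set G)) {g : G} (hg : g ∈ M) :
    ∃ l ∈ L, ∃ n ∈ M, n ∈ normalizer (T : Set G) ∧ g = l * n := by
  have hle : conjSub g⁻¹ T ≤ L := by
    intro x hx
    rw [mem_conjSub, inv_inv] at hx
    exact ((mem_normalizer_iff''.mp (hn hg)) x).mpr (hTL hx)
  obtain ⟨m, hm, hle'⟩ := exists_conjSub_le_of_not_dvd_relIndex hTL hTp hi hle (isPGroup_conjSub hTp)
  rw [conjSub_conjSub] at hle'
  have he : conjSub (g⁻¹ * m) T = T := eq_of_le_of_card_ge hle' (card_conjSub _ T).ge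
  refine ⟨m, hm, m⁻¹ * g, M.mul_mem (M.inv_mem (hL hm)) hg, ?_, by group⟩
  have := inv_mem (mem_normalizer_of_conjSub_eq he)
  simpa using this

include hD

theorem norm_inf {X : Subgroup G} (hX : X ≤ (S : Subgroup G)) {n : G} (hn : n ∈ normalizer (X : Set G)) :
    n ∈ normalizer ((D ⊓ X : Subgroup G) : Set G) := by
  have key : ∀ m ∈ normalizer (X : Set G), ∀ x ∈ D ⊓ X, m * x * m⁻¹ ∈ D ⊓ X := fun m hm x hx =>
    ⟨hD.2 x hx.1 m (hX ((mem_normalizer_iff.mp hm x).mp hx.2)), (mem_normalizer_iff.mp hm x).mp hx.2⟩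
  refine mem_normalizer_iff.mpr fun x => ⟨key n hn x, fun h => ?_⟩
  have := key n⁻¹ (inv_mem hn) _ h
  simpa [mul_assoc] using this

omit hD in
theorem norm_sup {A B : Subgroup G} {n : G} (hA : n ∈ normalizer (A : Set G))
    (hB : n ∈ normalizer (B : Set G)) : n ∈ normalizer ((A ⊔ B : Subgroup G) : Set G) :=
  normalizer_inf_normalizer_le_normalizer_sup A B ⟨hA, hB⟩

/-- The inductive step. -/
theorem step {W : Subgroup G} (hW : W ≤ D)
    (hnc : ¬ D ⊓ centralizer (W : Set G) ≤ W)
    (hfull : ¬ p ∣ ((S : Subgroup G) ⊓ normalizer (W : Set G)).relIndex (normalizer (W : Set G)))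
    (IH : ∀ W2 : Subgroup G, W < W2 → W2 ≤ D → HasNormalPComplement p (normalizer (W2 : Set G))) :
    HasNormalPComplement p (normalizer (W : Set G)) := by
  classical
  set N := normalizer (W : Set G) with hN
  set C := centralizer (W : Set G) with hC
  set Sc := (S : Subgroup G) ⊓ C with hSc
  have hCN : C ≤ N := centralizer_le_normalizer _
  have hNC : N ≤ normalizer (C : Set G) := Coprime.le_normalizer_centralizer le_rfl
  have hSci : ¬ p ∣ Sc.relIndex C := by
    have h := not_dvd_relIndex_inf (inf_le_right : (S : Subgroup G) ⊓ N ≤ N) hfull hCN hNC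
    rwa [inf_assoc, inf_eq_right.mpr hCN] at h
  have hScp : IsPGroup p Sc := S.2.to_inf_left
  have hWS : W ≤ (S : Subgroup G) := hW.trans hD.1
  have hWp : IsPGroup p W := S.2.to_le hWS
  -- `C` is `p`-nilpotent
  have hCn : HasNormalPComplement p C := by
    let P' : Sylow p C := (hScp.comap_subtype (K := C)).toSylow hSci
    have full : ∀ U : Subgroup G, U ≤ Sc →
        ¬ p ∣ ((S : Subgroup G) ⊓ (normalizer ((U ⊔ W : Subgroup G) : Set G) ⊓ C)).relIndex
          (normalizer ((U ⊔ W : Subgroup G) : Set G) ⊓ C) →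
        ∀ g ∈ C, g ∈ normalizer (U : Set G) → (orderOf g).Coprime p → g ∈ centralizer (U : Set G) := by
      intro U hU hUfull g hgC hgU hgo
      have hUS : U ≤ (S : Subgroup G) := hU.trans inf_le_left
      have hUC : U ≤ C := hU.trans inf_le_right
      by_cases hUD : D ⊓ U ≤ W
      · set V := U ⊔ W with hV
        set M := normalizer (V : Set G) ⊓ C with hM
        have hVp : IsPGroup p V := S.2.to_le (sup_le hUS hWS)
        have hWV : W ≤ V := le_sup_right
        have hUM : U ≤ M := le_inf (le_sup_left.trans le_normalizer) hUC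
        have hWC : ∀ x ∈ C, ∀ w ∈ W, x * w * x⁻¹ = w := fun x hx w hw => by
          rw [← mem_centralizer_iff.mp hx w hw, mul_inv_cancel_right]
        let L : Subgroup G :=
          { carrier := {x | x ∈ M ∧ ∀ v ∈ V, x * v * x⁻¹ * v⁻¹ ∈ W}
            one_mem' := ⟨M.one_mem, fun v _ => by simp⟩
            mul_mem' := fun {x y} hx hy => ⟨M.mul_mem hx.1 hy.1, fun v hv => by
              have h1 := hy.2 v hv
              rw [show x * y * v * (x * y)⁻¹ * v⁻¹ =
                (x * (y * v * y⁻¹ * v⁻¹) * x⁻¹) * (x * v * x⁻¹ * v⁻¹) by group, hWC x hx.1.2 _ h1]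
              exact W.mul_mem h1 (hx.2 v hv)⟩
            inv_mem' := fun {x} hx => ⟨M.inv_mem hx.1, fun v hv => by
              have h1 := hx.2 _ ((mem_normalizer_iff.mp (M.inv_mem hx.1).1 v).mp hv)
              rw [show x⁻¹ * v * x⁻¹⁻¹ * v⁻¹ = (x * (x⁻¹ * v * x⁻¹⁻¹) * x⁻¹ * (x⁻¹ * v * x⁻¹⁻¹)⁻¹)⁻¹ by group]
              exact W.inv_mem h1⟩ }
        have hLM : L ≤ M := fun x hx => hx.1
        have hML : ∀ m ∈ M, ∀ x ∈ L, m * x * m⁻¹ ∈ L := by
          intro m hm x hx
          refine ⟨M.mul_mem (M.mul_mem hm hx.1) (M.inv_mem hm), fun v hv => ?_⟩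
          have h1 := hx.2 _ ((mem_normalizer_iff.mp (M.inv_mem hm).1 v).mp hv)
          rw [show m * x * m⁻¹ * v * (m * x * m⁻¹)⁻¹ * v⁻¹ =
            m * (x * (m⁻¹ * v * m⁻¹⁻¹) * x⁻¹ * (m⁻¹ * v * m⁻¹⁻¹)⁻¹) * m⁻¹ by group, hWC m hm.2 _ h1]
          exact h1
        have hMnL : M ≤ normalizer (L : Set G) := fun m hm => mem_normalizer_iff.mpr fun x =>
          ⟨hML m hm x, fun h => by simpa [mul_assoc] using hML m⁻¹ (M.inv_mem hm) _ h⟩
        set SL := (S : Subgroup G) ⊓ L with hSL
        have hSLi : ¬ p ∣ SL.relIndex L := by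
          have h := not_dvd_relIndex_inf (inf_le_right : (S : Subgroup G) ⊓ M ≤ M) hUfull hLM hMnL
          rwa [inf_assoc, inf_eq_right.mpr hLM] at h
        set W2 := W ⊔ (D ⊓ SL) with hW2
        have hW2D : W2 ≤ D := sup_le hW inf_le_left
        have hlt : W < W2 := by
          refine lt_of_le_of_ne le_sup_left fun he => hnc ?_
          -- a fixed point of `U` on `(D ⊓ C) W / W`
          by_contra hcon
          set H := U ⊔ (D ⊓ C) ⊔ W with hH
          have hHS : H ≤ (S : Subgroup G) := sup_le (sup_le hUS (inf_le_left.trans hD.1)) hWS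
          have hHnW : H ≤ N := sup_le (sup_le (hUC.trans hCN) (inf_le_right.trans hCN)) le_normalizer
          haveI : (W.subgroupOf H).Normal := (normal_subgroupOf_iff_le_normalizer le_sup_right).mpr hHnW
          have hDCn : ∀ n ∈ N, n ∈ (S : Subgroup G) → ∀ d ∈ D ⊓ C, n * d * n⁻¹ ∈ D ⊓ C := fun n hn hnS d hd =>
            ⟨hD.2 d hd.1 n ((S : Subgroup G).mul_mem ((S : Subgroup G).mul_mem hnS (hD.1 hd.1)) ((S : Subgroup G).inv_mem hnS)),
              (mem_normalizer_iff.mp (hNC hn) d).mp hd.2⟩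
          haveI : ((D ⊓ C).subgroupOf H).Normal := ⟨fun d hd n => hDCn n (hHnW n.2) (hHS n.2) d hd⟩
          set f := QuotientGroup.mk' (W.subgroupOf H) with hf
          haveI : (((D ⊓ C).subgroupOf H).map f).Normal :=
            Subgroup.Normal.map inferInstance f (QuotientGroup.mk'_surjective _)
          have hne : ((D ⊓ C).subgroupOf H).map f ≠ ⊥ := by
            rw [Ne, Subgroup.map_eq_bot_iff, hf, QuotientGroup.ker_mk']
            exact fun h => hcon fun d hd => h (show (⟨d, mem_sup_left (mem_sup_right hd)⟩ : H) ∈ (D ⊓ C).subgroupOf H from hd)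
          obtain ⟨z, hz, hz1⟩ := (bot_or_exists_ne_one _).resolve_left
            (pGroup_inf_center_ne_bot ((S.2.to_le hHS).to_quotient _) _ hne)
          obtain ⟨⟨d, hd, rfl⟩, hzc⟩ := hz
          have hdW : (d : G) ∉ W := fun h => hz1 ((QuotientGroup.eq_one_iff _).mpr h)
          have hfix : ∀ v : H, (d : G) * v * (d : G)⁻¹ * (v : G)⁻¹ ∈ W := by
            intro v
            have h1 : f (d * v * d⁻¹ * v⁻¹) = 1 := by
              rw [map_mul, map_mul, map_mul, map_inv, map_inv, ← mem_center_iff.mp hzc (f v)]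
              group
            have h2 : (d * v * d⁻¹ * v⁻¹ : H) ∈ f.ker := h1
            rw [hf, QuotientGroup.ker_mk'] at h2
            exact h2
          have hVH : V ≤ H := sup_le (le_sup_left.trans le_sup_left) le_sup_right
          have hdM : (d : G) ∈ M := by
            refine ⟨?_, hd.2⟩
            have hmem : ∀ d : G, (∀ v ∈ V, d * v * d⁻¹ * v⁻¹ ∈ W) → ∀ v ∈ V, d * v * d⁻¹ ∈ V := fun d h v hv => by
              have := V.mul_mem (hWV (h v hv)) hv
              simpa [mul_assoc] using this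
            have h1 := hmem _ (fun v hv => hfix ⟨v, hVH hv⟩)
            exact mem_normalizer_iff_map_conj_eq.mpr (eq_of_le_of_card_ge (by
                rintro _ ⟨v, hv, rfl⟩; exact h1 v hv)
              (card_map_of_injective (MulAut.conj (d : G)).injective).ge)
          have hdL : (d : G) ∈ L := ⟨hdM, fun v hv => hfix ⟨v, hVH hv⟩⟩
          exact hdW (he ▸ mem_sup_right ⟨hd.1, hD.1 hd.1, hdL⟩)
        have hN2 := IH W2 hlt hW2D
        -- coprime action kills `L`
        have hLc : ∀ x ∈ L, (orderOf x).Coprime p → x ∈ centralizer (V : Set G) := by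
          intro x hx hxo
          refine mem_centralizer_iff.mpr fun v hv => ?_
          set w := x * v * x⁻¹ * v⁻¹ with hw
          have hwW : w ∈ W := hx.2 v hv
          have hpow : ∀ k : ℕ, x ^ k * v * (x ^ k)⁻¹ = w ^ k * v := by
            intro k
            induction k with
            | zero => simp
            | succ k ih =>
              have hxw : x * w ^ k * x⁻¹ = w ^ k := hWC x hx.1.2 _ (W.pow_mem hwW k)
              calc x ^ (k + 1) * v * (x ^ (k + 1))⁻¹ = x * (x ^ k * v * (x ^ k)⁻¹) * x⁻¹ := by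
                    rw [pow_succ']; group
                _ = (x * w ^ k * x⁻¹) * (x * v * x⁻¹) := by rw [ih]; group
                _ = w ^ k * (w * v) := by rw [hxw]; congr 1; rw [hw]; group
                _ = w ^ (k + 1) * v := by rw [pow_succ]; exact (mul_assoc _ _ _).symm
          have h2 := hpow (orderOf x)
          rw [pow_orderOf_eq_one, one_mul, inv_one, mul_one, right_eq_mul] at h2
          obtain ⟨e, he⟩ := IsPGroup.iff_orderOf.mp hWp ⟨w, hwW⟩
          rw [Subgroup.orderOf_mk] at he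
          have hw1 : w = 1 := orderOf_eq_one_iff.mp
            (Nat.eq_one_of_dvd_coprimes ((hxo.pow_right e).symm) he.dvd (orderOf_dvd_of_pow_eq_one h2))
          have : x * v * x⁻¹ * v⁻¹ = 1 := hw1
          rw [mul_inv_eq_one, mul_inv_eq_iff_eq_mul] at this
          exact this.symm
        have hgM : g ∈ M := ⟨norm_sup hgU (hCN hgC), hgC⟩
        obtain ⟨l, hl, n, hnM, hnT, rfl⟩ := exists_frattini (inf_le_right : SL ≤ L) S.2.to_inf_left hSLi hLM hMnL hgM
        obtain ⟨j, hj⟩ := exists_pow_coprime (p := p) n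
        have hnW2 : n ∈ normalizer (W2 : Set G) := norm_sup (hCN hnM.2) (norm_inf hD inf_le_left hnT)
        have hVW2 : V ≤ normalizer (W2 : Set G) := by
          refine sup_le (fun u hu => norm_sup (hCN (hUC hu)) (norm_inf hD inf_le_left ?_)) (le_sup_left.trans le_normalizer)
          exact inf_normalizer_le_normalizer_inf ⟨le_normalizer (hUS hu), hMnL (hUM hu)⟩
        have hnV : n ^ p ^ j ∈ centralizer (V : Set G) :=
          cen hN2 hVW2 hVp (pow_mem hnW2 _) (pow_mem hnM.1 _) hj
        have hLle : ∀ x ∈ M, x ∈ centralizer (V : Set G) → x ∈ L := fun x hx hxc =>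
          ⟨hx, fun v hv => by rw [← mem_centralizer_iff.mp hxc v hv]; simp⟩
        have hgL : (l * n) ^ p ^ j ∈ L := by
          haveI : (L.subgroupOf M).Normal := (normal_subgroupOf_iff_le_normalizer hLM).mpr hMnL
          have h1 : (QuotientGroup.mk' (L.subgroupOf M)) ((⟨l, hLM hl⟩ * ⟨n, hnM⟩ : M) ^ p ^ j) = 1 := by
            rw [map_pow, map_mul, (show QuotientGroup.mk' (L.subgroupOf M) (⟨l, hLM hl⟩ : M) = 1 from (QuotientGroup.eq_one_iff _).mpr hl),
              one_mul, ← map_pow]
            exact (QuotientGroup.eq_one_iff _).mpr (hLle _ (M.pow_mem hnM _) hnV)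
          exact mem_subgroupOf.mp ((QuotientGroup.eq_one_iff (N := L.subgroupOf M) _).mp h1)
        exact centralizer_le (le_sup_left : U ≤ V) (hLc _ (pPrime_mem hgo hgL) hgo)
      · set W2 := W ⊔ (D ⊓ U) with hW2
        have hlt : W < W2 := lt_of_le_of_ne le_sup_left fun he => hUD (he ▸ le_sup_right)
        have hW2n : U ≤ normalizer (W2 : Set G) := fun u hu =>
          norm_sup (hCN (hUC hu)) (norm_inf hD hUS (le_normalizer hu))
        exact cen (IH W2 hlt (sup_le hW inf_le_left)) hW2n (S.2.to_le hUS)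
          (norm_sup (hCN hgC) (norm_inf hD hUS hgU)) hgU hgo
    refine hasNormalPComplement_of_frobenius_sylow P' fun Q hQ g hg hgo => ?_
    set U := Q.map C.subtype with hU
    have hUc : U ≤ Sc := by rintro _ ⟨x, hx, rfl⟩; exact hQ hx
    set M := normalizer ((U ⊔ W : Subgroup G) : Set G) ⊓ C with hM
    have hUM : U ≤ M := le_inf (le_sup_left.trans le_normalizer) (hUc.trans inf_le_right)
    obtain ⟨T, hT⟩ := ((hScp.to_le hUc).comap_subtype (K := M)).exists_le_sylow
    set T' := (T : Subgroup M).map M.subtype with hT'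
    have hT'i : ¬ p ∣ T'.relIndex M := by
      rw [relIndex, hT', subgroupOf, comap_map_eq_self_of_injective M.subtype_injective]
      exact T.not_dvd_index
    have hUT : U ≤ T' := fun x hx => ⟨⟨x, hUM hx⟩, hT hx, rfl⟩
    obtain ⟨c, hc, hcT⟩ := exists_conjSub_le_of_not_dvd_relIndex (inf_le_right : Sc ≤ C) hScp hSci
      ((map_subtype_le _).trans inf_le_right : T' ≤ C) (T.2.map _)
    have hcW : conjSub c W = W := conjSub_eq_of_mem_normalizer (hCN hc)
    have hcC : conjSub c C = C := conjSub_eq_of_mem_normalizer (le_normalizer hc)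
    have hsup : conjSub c U ⊔ W = conjSub c (U ⊔ W) := by
      conv_lhs => rw [← hcW]
      exact (Subgroup.map_sup _ _ _).symm
    have hM' : normalizer ((conjSub c U ⊔ W : Subgroup G) : Set G) ⊓ C = conjSub c M := by
      rw [hsup, ← conjSub_normalizer]
      conv_lhs => arg 2; rw [← hcC]
      exact (map_inf _ _ _ (MulAut.conj c⁻¹).injective).symm
    have hUfull : ¬ p ∣ ((S : Subgroup G) ⊓ conjSub c M).relIndex (conjSub c M) := by
      intro hd
      refine hT'i (hd.trans ?_)
      rw [← relIndex_map_map_of_injective (f := (MulAut.conj c⁻¹).toMonoidHom) T' M (MulAut.conj c⁻¹).injective]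
      exact relIndex_dvd_of_le_left _ (le_inf (hcT.trans inf_le_left) (conjSub_mono (map_subtype_le _)))
    have hgU : (g : G) ∈ normalizer (U : Set G) := le_normalizer_map C.subtype ⟨g, hg, rfl⟩
    have h1 := full (conjSub c U) ((conjSub_mono hUT).trans hcT) (by rw [hM']; exact hUfull)
      (c⁻¹ * g * c) (C.mul_mem (C.mul_mem (C.inv_mem hc) g.2) hc)
      (by rw [← conjSub_normalizer, mem_conjSub]; simpa [mul_assoc] using hgU)
      (by rw [show c⁻¹ * (g : G) * c = MulAut.conj c⁻¹ (g : G) by simp, MulEquiv.orderOf_eq,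
          Subgroup.orderOf_coe]; exact hgo)
    rw [mem_centralizer_iff] at h1 ⊢
    intro x hx
    have h2 := h1 (c⁻¹ * x * c) (by rw [SetLike.mem_coe, mem_conjSub]; exact ⟨x, hx, by simp [mul_assoc]⟩)
    apply Subtype.ext
    show (x : G) * g = g * x
    calc (x : G) * g = c * ((c⁻¹ * x * c) * (c⁻¹ * g * c)) * c⁻¹ := by group
      _ = c * ((c⁻¹ * g * c) * (c⁻¹ * x * c)) * c⁻¹ := by rw [h2]
      _ = g * x := by group
  -- the `p'`-elements of `N` lie in `C`
  have hres : ∀ g ∈ N, (orderOf g).Coprime p → g ∈ C := by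
    intro g hg hgo
    obtain ⟨c, hc, n, hn, hnT, rfl⟩ := exists_frattini (inf_le_right : Sc ≤ C) hScp hSci hCN hNC hg
    set W2 := W ⊔ (D ⊓ Sc) with hW2
    have hlt : W < W2 := lt_of_le_of_ne le_sup_left fun he => hnc fun d hd => by
      rw [he]; exact mem_sup_right ⟨hd.1, hD.1 hd.1, hd.2⟩
    obtain ⟨j, hj⟩ := exists_pow_coprime (p := p) n
    have hnC : n ^ p ^ j ∈ C := cen (IH W2 hlt (sup_le hW inf_le_left))
      (le_sup_left.trans le_normalizer) hWp
      (pow_mem (norm_sup hn (norm_inf hD inf_le_left hnT)) _) (pow_mem hn _) hj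
    haveI : (C.subgroupOf N).Normal := (normal_subgroupOf_iff_le_normalizer hCN).mpr hNC
    refine pPrime_mem hgo (j := j) ?_
    have h1 : (QuotientGroup.mk' (C.subgroupOf N)) ((⟨c, hCN hc⟩ * ⟨n, hn⟩ : N) ^ p ^ j) = 1 := by
      rw [map_pow, map_mul, (show QuotientGroup.mk' (C.subgroupOf N) (⟨c, hCN hc⟩ : N) = 1 from (QuotientGroup.eq_one_iff _).mpr hc),
        one_mul, ← map_pow]
      exact (QuotientGroup.eq_one_iff _).mpr hnC
    exact mem_subgroupOf.mp ((QuotientGroup.eq_one_iff (N := C.subgroupOf N) _).mp h1)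
  rw [hasNormalPComplement_iff] at hCn ⊢
  refine Nat.Coprime.coprime_dvd_left ?_ hCn
  have hle : (pResidual p N).map N.subtype ≤ (pResidual p C).map C.subtype := by
    rw [pResidual, MonoidHom.map_closure, closure_le]
    rintro _ ⟨x, hx, rfl⟩
    refine ⟨⟨x, hres x x.2 (by rwa [Subgroup.orderOf_coe])⟩, mem_pResidual_of_coprime ?_, rfl⟩
    rwa [Subgroup.orderOf_mk, Subgroup.orderOf_coe]
  have h := card_dvd_of_le hle
  rwa [card_map_of_injective (subtype_injective _), card_map_of_injective (subtype_injective _)] at h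

/-- Every normalizer of a subgroup of `D` is `p`-nilpotent. -/
theorem all_normalizers
    (h : ∀ U : Subgroup G, U ≤ D → D ⊓ centralizer (U : Set G) ≤ U → HasNormalPComplement p (normalizer (U : Set G)))
    (W : Subgroup G) (hW : W ≤ D) : HasNormalPComplement p (normalizer (W : Set G)) := by
  induction hn : Nat.card G - Nat.card W using Nat.strong_induction_on generalizing W with
  | _ n IH =>
  subst hn
  obtain ⟨k, hk, hfull⟩ := exists_fully_normalized S (hW.trans hD.1)
  set W' := conjSub k W with hW'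
  have hW'D : W' ≤ D := by
    intro x hx
    have h1 := hk hx
    rw [mem_conjSub] at hx
    have h2 := hD.2 _ (hW hx) k⁻¹ (by simpa [mul_assoc] using h1)
    simpa [mul_assoc] using h2
  have h' : HasNormalPComplement p (normalizer (W' : Set G)) := by
    by_cases hc : D ⊓ centralizer (W' : Set G) ≤ W'
    · exact h W' hW'D hc
    · refine step hD hW'D hc hfull fun W2 hlt hW2 => IH _ ?_ W2 hW2 rfl
      have h1 : Nat.card W' < Nat.card W2 :=
        Set.Finite.card_lt_card (Set.toFinite _) (SetLike.coe_ssubset_coe.mpr hlt)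
      have h2 := Nat.le_of_dvd Nat.card_pos (card_subgroup_dvd_card W2)
      rw [hW', card_conjSub] at h1
      omega
  rw [hW', ← conjSub_normalizer] at h'
  exact (hasNormalPComplement_congr (Subgroup.equivMapOfInjective (normalizer (W : Set G)) (MulAut.conj k⁻¹).toMonoidHom (MulAut.conj k⁻¹).injective)).mpr h'

end aux

/-- A Frobenius normal p-complement criterion relative to a strongly closed subgroup. Let G be a finite group, S a Sylow p-subgroup and D a subgroup of S strongly closed in S with respect to G. Then G has a normal p-complement if and only if N_G(U) has a normal p-complement for every subgroup U of D with C_D(U) ≤ U. -/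
theorem result {G : Type*} [Group G] [Finite G] {p : ℕ} [Fact p.Prime] (S : Sylow p G) (D : Subgroup G) (hD : Cfsg.IsStronglyClosed D (S : Subgroup G)) : Cfsg.HasNormalPComplement p G ↔ ∀ U : Subgroup G, U ≤ D → D ⊓ Subgroup.centralizer (U : Set G) ≤ U → Cfsg.HasNormalPComplement p ↥(Subgroup.normalizer (U : Set G)) := by
  refine ⟨fun h U _ _ => hasNormalPComplement_subgroup h _, fun h => ?_⟩
  have h1 := all_normalizers hD h ⊥ bot_le
  rw [normalizer_eq_top] at h1
  exact (hasNormalPComplement_congr Subgroup.topEquiv).mp h1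

end Cfsg.Agent.S3839
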