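import Cfsg.Statements.S3857
import Cfsg.Agent.S0040
import Cfsg.Agent.PrimeGraph.ThreePrimes

set_option autoImplicit false
open Cfsg

namespace Cfsg.Agent.S3857

open Subgroup
open scoped Pointwise

/-- All prime divisors of `n` lie in `S`. -/
def Supp (S : Set ℕ) (n : ℕ) : Prop := ∀ r : ℕ, r.Prime → r ∣ n → r ∈ S

theorem Supp.of_dvd {S : Set ℕ} {m n : ℕ} (h : Supp S n) (hd : m ∣ n) : Supp S m :=
  fun r hr hrm => h r hr (hrm.trans hd)

theorem Supp.coprime {S : Set ℕ} {m n : ℕ} (hm : Supp S m) (hn : Supp Sᶜ n) : m.Coprime n :=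
  Nat.coprime_of_dvd fun r hr h1 h2 => hn r hr h2 (hm r hr h1)

/-- No nontrivial `S`-element commutes with a nontrivial `Sᶜ`-element. -/
def Sep (S : Set ℕ) (G : Type*) [Group G] : Prop :=
  ∀ a b : G, a ≠ 1 → b ≠ 1 → Supp S (orderOf a) → Supp Sᶜ (orderOf b) → ¬ Commute a b

theorem Sep.symm {S : Set ℕ} {G : Type*} [Group G] (h : Sep S G) : Sep Sᶜ G :=
  fun a b ha hb ha' hb' hab => h b a hb ha (by rwa [compl_compl] at hb') ha' hab.symm

theorem sep_of_no_edge {S : Set ℕ} {G : Type*} [Group G] [Finite G]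
    (h : ∀ a ∈ S, ∀ b ∉ S, a.Prime → b.Prime → a ∣ Nat.card G → b ∣ Nat.card G →
      ¬ ∃ g : G, orderOf g = a * b) : Sep S G := by
  intro x y hx hy hxS hyS hxy
  obtain ⟨a, ha, hax⟩ := Nat.exists_prime_and_dvd (mt orderOf_eq_one_iff.1 hx)
  obtain ⟨b, hb, hby⟩ := Nat.exists_prime_and_dvd (mt orderOf_eq_one_iff.1 hy)
  have hd : a * b ∣ orderOf (x * y) := by
    rw [hxy.orderOf_mul_eq_mul_orderOf_of_coprime (hxS.coprime hyS)]
    exact mul_dvd_mul hax hby
  exact h a (hxS a ha hax) b (hyS b hb hby) ha hb (hax.trans (orderOf_dvd_natCard x))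
    (hby.trans (orderOf_dvd_natCard y)) ⟨_, orderOf_pow_orderOf_div (orderOf_pos _).ne' hd⟩

theorem Sep.quotient {S : Set ℕ} {G : Type*} [Group G] [Finite G] (h : Sep S G)
    (N : Subgroup G) [N.Normal] : Sep S (G ⧸ N) := by
  intro x y hx hy hxS hyS hxy
  obtain ⟨a, ha, hax⟩ := Nat.exists_prime_and_dvd (mt orderOf_eq_one_iff.1 hx)
  obtain ⟨b, hb, hby⟩ := Nat.exists_prime_and_dvd (mt orderOf_eq_one_iff.1 hy)
  obtain ⟨g, hg⟩ := QuotientGroup.mk_surjective (x * y)
  have hd : a * b ∣ orderOf g := by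
    refine dvd_trans ?_ (orderOf_map_dvd (QuotientGroup.mk' N) g)
    rw [QuotientGroup.mk'_apply, hg, hxy.orderOf_mul_eq_mul_orderOf_of_coprime (hxS.coprime hyS)]
    exact mul_dvd_mul hax hby
  set z := g ^ (orderOf g / (a * b))
  have hz : orderOf z = a * b := orderOf_pow_orderOf_div (orderOf_pos _).ne' hd
  have hza : orderOf (z ^ b) = a := by
    rw [orderOf_pow' _ hb.pos.ne', hz, Nat.gcd_eq_right (Dvd.intro_left a rfl), Nat.mul_div_cancel _ hb.pos]
  have hzb : orderOf (z ^ a) = b := by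
    rw [orderOf_pow' _ ha.pos.ne', hz, Nat.gcd_eq_right (Dvd.intro b rfl), Nat.mul_div_cancel_left _ ha.pos]
  refine h (z ^ b) (z ^ a) ?_ ?_ ?_ ?_ ((Commute.refl z).pow_pow b a)
  · exact fun e => ha.one_lt.ne' (by rw [← hza, e, orderOf_one])
  · exact fun e => hb.one_lt.ne' (by rw [← hzb, e, orderOf_one])
  · rw [hza]
    intro r hr hra
    rw [(Nat.prime_dvd_prime_iff_eq hr ha).1 hra]
    exact hxS a ha hax
  · rw [hzb]
    intro r hr hrb
    rw [(Nat.prime_dvd_prime_iff_eq hr hb).1 hrb]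
    exact hyS b hb hby

/-- The Frobenius group structure of an extension without mixed commuting elements. -/
theorem exists_frobenius {S : Set ℕ} {G : Type*} [Group G] [Finite G] (h : Sep S G)
    (N : Subgroup G) [N.Normal] (hN : N ≠ ⊥) (hN' : N ≠ ⊤) (hNS : Supp S (Nat.card N))
    (hQ : Supp Sᶜ N.index) :
    ∃ C : Subgroup G, Cfsg.IsFrobeniusComplement C ∧ Cfsg.frobeniusKernel C = (N : Set G) := by
  obtain ⟨C, hC⟩ := Subgroup.exists_right_complement'_of_coprime (hNS.coprime hQ)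
  have hCcard : Nat.card C = N.index := hC.symm.index_eq_card.symm
  have hfree : ∀ n ∈ N, ∀ c ∈ C, n * c * n⁻¹ * c⁻¹ = 1 → n = 1 ∨ c = 1 := by
    intro n hn c hc hnc
    by_contra hne
    rw [not_or] at hne
    refine h n c hne.1 hne.2 (hNS.of_dvd (Subgroup.orderOf_dvd_natCard _ hn))
      (hQ.of_dvd (hCcard ▸ Subgroup.orderOf_dvd_natCard _ hc)) ?_
    calc n * c = n * c * n⁻¹ * c⁻¹ * (c * n) := by group
      _ = c * n := by rw [hnc, one_mul]
  have hNC : ∀ x ∈ N, x ∈ C → x = 1 := fun x h1 h2 => by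
    simpa using hC.disjoint.le_bot (Subgroup.mem_inf.2 ⟨h1, h2⟩)
  have hcomm : ∀ n ∈ N, ∀ c, n * c * n⁻¹ * c⁻¹ ∈ N := fun n hn c => by
    have h1 := Subgroup.Normal.conj_mem inferInstance n⁻¹ (N.inv_mem hn) c
    have := N.mul_mem hn h1
    simpa [mul_assoc] using this
  have hdec : ∀ g : G, ∃ n ∈ N, ∃ c ∈ C, n * c = g := fun g => by
    obtain ⟨⟨n, c⟩, hnc⟩ := (hC : Subgroup.IsComplement' N C).2 g
    exact ⟨n, n.2, c, c.2, hnc⟩
  have hsmul : ∀ g x : G, x ∈ MulAut.conj g • C ↔ g⁻¹ * x * g ∈ C := fun g x => by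
    rw [Subgroup.mem_pointwise_smul_iff_inv_smul_mem, MulAut.smul_def, MulAut.conj_inv_apply]
  refine ⟨C, ⟨?_, ?_, fun g hg => ?_⟩, Set.ext fun x => ⟨fun hx => ?_, fun hx => ?_⟩⟩
  · rintro rfl
    exact hN' (by simpa using hC)
  · rintro rfl
    exact hN (by simpa using hC)
  · obtain ⟨n, hn, c, hc, rfl⟩ := hdec g
    refine (Subgroup.eq_bot_iff_forall _).2 fun x hx => ?_
    obtain ⟨hxC, hx'⟩ := Subgroup.mem_inf.1 hx
    rw [hsmul] at hx'
    set d := c * ((n * c)⁻¹ * x * (n * c)) * c⁻¹ with hd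
    have hdC : d ∈ C := C.mul_mem (C.mul_mem hc hx') (C.inv_mem hc)
    have hxd : x = n * d * n⁻¹ := by rw [hd]; group
    have h1 : n * d * n⁻¹ * d⁻¹ = 1 :=
      hNC _ (hcomm n hn d) (by rw [← hxd]; exact C.mul_mem hxC (C.inv_mem hdC))
    rcases hfree n hn d hdC h1 with rfl | hd1
    · exact absurd (by simpa using hc) hg
    · rw [hxd, hd1]; group
  · rcases hx with rfl | hx
    · exact N.one_mem
    by_contra hxN
    obtain ⟨m, hm, c, hc, rfl⟩ := hdec x
    have hc1 : c ≠ 1 := by rintro rfl; exact hxN (by simpa using hm)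
    let f : N → N := fun n => ⟨(n : G) * c * (n : G)⁻¹ * c⁻¹, hcomm n n.2 c⟩
    have hf : Function.Injective f := fun a b hab => by
      have h1 : (a : G) * c * (a : G)⁻¹ = (b : G) * c * (b : G)⁻¹ := by
        have := congrArg (fun t : N => (t : G) * c) hab
        simpa [f] using this
      have h2 : ((b : G)⁻¹ * a) * c * ((b : G)⁻¹ * a)⁻¹ * c⁻¹ = 1 := by
        calc ((b : G)⁻¹ * a) * c * ((b : G)⁻¹ * a)⁻¹ * c⁻¹
            = (b : G)⁻¹ * ((a : G) * c * (a : G)⁻¹) * b * c⁻¹ := by group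
          _ = 1 := by rw [h1]; group
      exact Subtype.ext (inv_mul_eq_one.1
        ((hfree _ (N.mul_mem (N.inv_mem b.2) a.2) c hc h2).resolve_right hc1)).symm
    obtain ⟨n, hn⟩ := (Finite.injective_iff_surjective.1 hf) ⟨m, hm⟩
    have hn' : (n : G) * c * (n : G)⁻¹ * c⁻¹ = m := congrArg Subtype.val hn
    refine hx (n : G) ((hsmul _ _).2 ?_)
    rw [← hn']
    simpa [mul_assoc] using hc
  · by_cases hx1 : x = 1
    · exact Or.inl hx1
    refine Or.inr fun g hg => hx1 ?_
    rw [hsmul] at hg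
    have h1 : g⁻¹ * x * g ∈ N := by
      simpa using Subgroup.Normal.conj_mem inferInstance x hx g⁻¹
    have h2 := hNC _ h1 hg
    calc x = g * (g⁻¹ * x * g) * g⁻¹ := by group
      _ = 1 := by rw [h2]; group

/-- A largest normal `S`-subgroup containing a given one. -/
theorem exists_core {S : Set ℕ} {G : Type*} [Group G] [Finite G] (E : Subgroup G) (hE : E.Normal)
    (hES : Supp S (Nat.card E)) :
    ∃ N : Subgroup G, ∃ _ : N.Normal, E ≤ N ∧ Supp S (Nat.card N) ∧
      ∀ L : Subgroup (G ⧸ N), L.Normal → Supp S (Nat.card L) → L = ⊥ := by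
  obtain ⟨N, ⟨hNn, hEN, hNS⟩, hmax⟩ := Set.exists_max_image
    {N : Subgroup G | N.Normal ∧ E ≤ N ∧ Supp S (Nat.card N)} (fun N => Nat.card N) (Set.toFinite _)
    ⟨E, hE, le_rfl, hES⟩
  refine ⟨N, hNn, hEN, hNS, fun L hL hLS => ?_⟩
  set L' := L.comap (QuotientGroup.mk' N) with hL'
  have hle : N ≤ L' := by
    conv_lhs => rw [← QuotientGroup.ker_mk' N]
    exact Subgroup.comap_mono (bot_le)
  have hcard : Nat.card L' = Nat.card N * Nat.card L := QuotientGroup.card_preimage_mk N (L : Set (G ⧸ N))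
  have hsupp : Supp S (Nat.card L') := by
    intro r hr hrd
    rw [hcard] at hrd
    exact (hr.dvd_mul.1 hrd).elim (hNS r hr) (hLS r hr)
  have h1 := hmax L' ⟨hL.comap _, hEN.trans hle, hsupp⟩
  rw [hcard] at h1
  have h2 : Nat.card L = 1 := by
    have := Nat.card_pos (α := L)
    have h3 : Nat.card L ≤ 1 := Nat.le_of_mul_le_mul_left (by simpa using h1) (Nat.card_pos (α := N))
    omega
  exact Subgroup.card_eq_one.1 h2

theorem exists_elementary_normal (G : Type*) [Group G] [Finite G] [Nontrivial G]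
    (hsol : Group.IsSolvable G) : ∃ (p : ℕ) (E : Subgroup G), p.Prime ∧ E.Normal ∧ E ≠ ⊥ ∧
      (∀ a ∈ E, ∀ b ∈ E, a * b = b * a) ∧ ∀ a ∈ E, a ^ p = 1 := by
  classical
  have hex : ∃ n, derivedSeries G n = ⊥ := (Group.isSolvable_def G).1 hsol
  obtain ⟨m, hm⟩ : ∃ m, Nat.find hex = m + 1 := by
    refine ⟨Nat.find hex - 1, ?_⟩
    rcases Nat.eq_zero_or_pos (Nat.find hex) with h0 | h0
    · have := Nat.find_spec hex
      rw [h0, derivedSeries_zero] at this
      exact absurd this top_ne_bot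
    · omega
  set D := derivedSeries G m with hD
  have hne : D ≠ ⊥ := Nat.find_min hex (by omega)
  have hab : ∀ a ∈ D, ∀ b ∈ D, a * b = b * a := fun a ha b hb => by
    have h1 := Nat.find_spec hex
    rw [hm, derivedSeries_succ] at h1
    refine commutatorElement_eq_one_iff_mul_comm.1 ?_
    rw [← Subgroup.mem_bot, ← h1]
    exact Subgroup.commutator_mem_commutator ha hb
  obtain ⟨p, hp, hpd⟩ := Nat.exists_prime_and_dvd (mt Subgroup.card_eq_one.1 hne)
  have := Fact.mk hp
  let E : Subgroup G :=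
    { carrier := {a | a ∈ D ∧ a ^ p = 1}
      one_mem' := ⟨D.one_mem, one_pow p⟩
      mul_mem' := fun {a b} ha hb => ⟨D.mul_mem ha.1 hb.1, by
        rw [(show Commute a b from hab a ha.1 b hb.1).mul_pow, ha.2, hb.2, one_mul]⟩
      inv_mem' := fun {a} ha => ⟨D.inv_mem ha.1, by rw [inv_pow, ha.2, inv_one]⟩ }
  refine ⟨p, E, hp, ⟨fun a ha g => ⟨(derivedSeries_normal G m).conj_mem a ha.1 g, ?_⟩⟩, ?_,
    fun a ha b hb => hab a ha.1 b hb.1, fun a ha => ha.2⟩
  · rw [conj_pow, ha.2]; group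
  · obtain ⟨a, ha⟩ := exists_prime_orderOf_dvd_card' p hpd
    intro h
    have hmem : (a : G) ∈ E := ⟨a.2, by rw [← Subgroup.coe_pow, ← ha, pow_orderOf_eq_one]; rfl⟩
    rw [h, Subgroup.mem_bot] at hmem
    rw [show a = 1 from Subtype.ext hmem, orderOf_one] at ha
    exact hp.one_lt.ne ha

/-- Main step: `p` lies in `S` for a normal elementary abelian `p`-subgroup. -/
theorem main {S : Set ℕ} {G : Type*} [Group G] [Finite G] (hsol : Group.IsSolvable G)
    (h : Sep S G) (hne : ∃ b ∉ S, b.Prime ∧ b ∣ Nat.card G) (E : Subgroup G) (hE : E.Normal)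
    (hE1 : E ≠ ⊥) (hES : Supp S (Nat.card E)) :
    (∃ C : Subgroup G, Cfsg.IsFrobeniusComplement C) ∨
    (∃ (H K : Subgroup G) (_ : H.Normal), K.Normal ∧ H < K ∧
      (∃ C : Subgroup ↥K, Cfsg.IsFrobeniusComplement C ∧ Cfsg.frobeniusKernel C = (H.subgroupOf K : Set ↥K)) ∧
      (∃ C : Subgroup (G ⧸ H), Cfsg.IsFrobeniusComplement C ∧ Cfsg.frobeniusKernel C = (K.map (QuotientGroup.mk' H) : Set (G ⧸ H)))) := by
  obtain ⟨N, hNn, hEN, hNS, hNmax⟩ := exists_core E hE hES
  have hN1 : N ≠ ⊥ := ne_bot_of_le_ne_bot hE1 hEN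
  have hNt : N ≠ ⊤ := by
    rintro rfl
    obtain ⟨b, hb, hbp, hbd⟩ := hne
    exact hb (hNS b hbp (by rwa [Subgroup.card_top]))
  haveI : Nontrivial (G ⧸ N) := by
    rw [← Finite.one_lt_card_iff_nontrivial, ← Subgroup.index_eq_card]
    exact N.one_lt_index_of_ne_top hNt
  haveI := hsol
  obtain ⟨p, A, hp, hAn, hA1, hAab, hAp⟩ := exists_elementary_normal (G ⧸ N) inferInstance
  have := Fact.mk hp
  have hApg : IsPGroup p A := fun a => ⟨1, Subtype.ext (by simpa using hAp a a.2)⟩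
  obtain ⟨k, hk⟩ := IsPGroup.iff_card.1 hApg
  have hk0 : k ≠ 0 := by rintro rfl; exact hA1 (Subgroup.card_eq_one.1 (by simpa using hk))
  have hpS : p ∉ S := by
    intro hpS
    refine hA1 (hNmax A hAn fun r hr hrd => ?_)
    rw [hk] at hrd
    rw [(Nat.prime_dvd_prime_iff_eq hr hp).1 (hr.dvd_of_dvd_pow hrd)]
    exact hpS
  have hAS : Supp Sᶜ (Nat.card A) := fun r hr hrd => by
    rw [hk] at hrd
    rw [(Nat.prime_dvd_prime_iff_eq hr hp).1 (hr.dvd_of_dvd_pow hrd)]
    exact hpS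
  -- `A` is cyclic, as it acts without fixed points on `N`
  have hAcyc : IsCyclic A := by
    set L := A.comap (QuotientGroup.mk' N) with hL
    have hNL : N ≤ L := by
      conv_lhs => rw [← QuotientGroup.ker_mk' N]
      exact Subgroup.comap_mono bot_le
    have hLcard : Nat.card L = Nat.card N * Nat.card A :=
      QuotientGroup.card_preimage_mk N (A : Set (G ⧸ N))
    have hsub : Nat.card (N.subgroupOf L) = Nat.card N :=
      Nat.card_congr (Subgroup.subgroupOfEquivOfLe hNL).toEquiv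
    have hidx : (N.subgroupOf L).index = Nat.card A := by
      have := Subgroup.card_mul_index (N.subgroupOf L)
      rw [hsub, hLcard] at this
      exact Nat.eq_of_mul_eq_mul_left Nat.card_pos this
    obtain ⟨C, hC⟩ := Subgroup.exists_right_complement'_of_coprime
      (N := N.subgroupOf L) (by rw [hsub, hidx]; exact hNS.coprime hAS)
    have hCA : Nat.card C = Nat.card A := by rw [← hC.symm.index_eq_card, hidx]
    let φ : C →* A :=
      { toFun := fun c => ⟨QuotientGroup.mk' N ((c : L) : G), (c : L).2⟩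
        map_one' := Subtype.ext (by simp)
        map_mul' := fun a b => Subtype.ext (by simp) }
    have hinj : Function.Injective φ := (injective_iff_map_eq_one φ).2 fun c hc => by
      have h1 : ((c : L) : G) ∈ N := (QuotientGroup.eq_one_iff _).1 (congrArg Subtype.val hc)
      have h2 : (c : L) = 1 := by
        simpa using hC.disjoint.le_bot (Subgroup.mem_inf.2 ⟨Subgroup.mem_subgroupOf.2 h1, c.2⟩)
      exact Subtype.ext h2
    have hφ : Function.Bijective φ := by
      haveI := Fintype.ofFinite C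
      haveI := Fintype.ofFinite A
      rw [Fintype.bijective_iff_injective_and_card, ← Nat.card_eq_fintype_card, ← Nat.card_eq_fintype_card]
      exact ⟨hinj, hCA⟩
    let e : C ≃* A := MulEquiv.ofBijective φ hφ
    have hN'1 : N.subgroupOf L ≠ ⊥ := by
      rw [Ne, Subgroup.subgroupOf_eq_bot, disjoint_iff, inf_eq_left.2 hNL]
      exact hN1
    have hfpf : ∀ c ∈ C, c ≠ 1 → N.subgroupOf L ⊓ Subgroup.centralizer ({c} : Set L) = ⊥ :=
      fun c hc hc1 => (Subgroup.eq_bot_iff_forall _).2 fun n hn => by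
        obtain ⟨h1, h2⟩ := Subgroup.mem_inf.1 hn
        by_contra hn1
        exact h (n : G) (c : G) (fun e => hn1 (Subtype.ext e)) (fun e => hc1 (Subtype.ext e))
          (hNS.of_dvd (Subgroup.orderOf_dvd_natCard _ (Subgroup.mem_subgroupOf.1 h1)))
          (hAS.of_dvd (by rw [Subgroup.orderOf_coe]; exact hCA ▸ Subgroup.orderOf_dvd_natCard _ hc))
          (congrArg Subtype.val (Subgroup.mem_centralizer_singleton_iff.1 h2))
    have hpC : IsPGroup p C := IsPGroup.of_equiv hApg e.symm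
    obtain ⟨P⟩ : Nonempty (Sylow p C) := inferInstance
    have hPtop : (P : Subgroup C) = ⊤ :=
      (P.is_maximal' (IsPGroup.to_subgroup hpC ⊤) le_top).symm
    rcases S0040.result (N.subgroupOf L) C hC hN'1 hfpf p P with hcyc | ⟨n, ⟨f⟩⟩
    · haveI : IsCyclic (⊤ : Subgroup C) := hPtop ▸ hcyc
      exact isCyclic_of_surjective (e.toMonoidHom.comp (⊤ : Subgroup C).subtype)
        (fun a => ⟨⟨e.symm a, Subgroup.mem_top _⟩, e.apply_symm_apply a⟩)
    · exfalso
      set x := f.symm (QuaternionGroup.xa (0 : ZMod (2 * 2 ^ n)))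
      have hx : orderOf x = 4 := by
        rw [MulEquiv.orderOf_eq f.symm, QuaternionGroup.orderOf_xa]
      have h1 : orderOf (x : C) = 4 := (Subgroup.orderOf_coe x).trans hx
      have h2 : orderOf (e x : A) ∣ p :=
        orderOf_dvd_of_pow_eq_one (Subtype.ext (by simpa using hAp _ (e x).2))
      rw [MulEquiv.orderOf_eq, h1] at h2
      rcases (Nat.dvd_prime hp).1 h2 with h4 | h4
      · omega
      · rw [← h4] at hp; norm_num at hp
  obtain ⟨M, hMn, hAM, hMS, hMmax⟩ := exists_core A hAn hAS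
  -- the quotient by `M` is an `S`-group
  have hQS : Supp S M.index := by
    let ψ : G ⧸ N →* MulAut A := MulAut.conjNormal
    have hMA : ∀ a b : G ⧸ N, a * b * a⁻¹ * b⁻¹ ∈ ψ.ker := fun a b => by
      rw [MonoidHom.mem_ker]
      refine (IsCyclic.mulAutMulEquiv A).injective ?_
      rw [map_mul, map_mul, map_mul, map_inv, map_inv, map_mul, map_mul, map_mul, map_inv, map_inv,
        map_one, mul_comm ((IsCyclic.mulAutMulEquiv A) (ψ a)) _]
      group
    have hK : Supp Sᶜ (Nat.card ψ.ker) := by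
      intro r hr hrd hrS
      have := Fact.mk hr
      obtain ⟨x, hx⟩ := exists_prime_orderOf_dvd_card' r hrd
      obtain ⟨a, ha⟩ := exists_prime_orderOf_dvd_card' p (hk ▸ dvd_pow_self p hk0 : p ∣ Nat.card A)
      refine h.quotient N (x : G ⧸ N) (a : G ⧸ N) ?_ ?_ ?_ ?_ ?_
      · exact fun e => hr.one_lt.ne' (by rw [← hx, ← Subgroup.orderOf_coe, e, orderOf_one])
      · exact fun e => hp.one_lt.ne' (by rw [← ha, ← Subgroup.orderOf_coe, e, orderOf_one])
      · rw [Subgroup.orderOf_coe, hx]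
        intro s hs hsd
        rwa [(Nat.prime_dvd_prime_iff_eq hs hr).1 hsd]
      · exact hAS.of_dvd (Subgroup.orderOf_dvd_natCard _ a.2)
      · have h1 := congrArg Subtype.val (DFunLike.congr_fun (MonoidHom.mem_ker.1 x.2) a)
        rw [MulAut.conjNormal_apply] at h1
        exact mul_inv_eq_iff_eq_mul.1 h1
    have hKM : ψ.ker ≤ M := by
      have h1 := hMmax (ψ.ker.map (QuotientGroup.mk' M))
        (Subgroup.Normal.map inferInstance _ (QuotientGroup.mk'_surjective M))
        (hK.of_dvd (Subgroup.card_map_dvd _ _))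
      rwa [Subgroup.map_eq_bot_iff, QuotientGroup.ker_mk'] at h1
    intro r hr hrd
    by_contra hrS
    rw [Subgroup.index_eq_card] at hrd
    have := Fact.mk hr
    obtain ⟨x, hx⟩ := exists_prime_orderOf_dvd_card' r hrd
    have hcen : ∀ y : (G ⧸ N) ⧸ M, y * x = x * y := fun y => by
      obtain ⟨a, rfl⟩ := QuotientGroup.mk_surjective x
      obtain ⟨b, rfl⟩ := QuotientGroup.mk_surjective y
      have h1 : QuotientGroup.mk' M (b * a * b⁻¹ * a⁻¹) = 1 :=
        (QuotientGroup.eq_one_iff _).2 (hKM (hMA b a))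
      rw [map_mul, map_mul, map_mul, map_inv, map_inv, mul_inv_eq_one, mul_inv_eq_iff_eq_mul] at h1
      exact h1
    have hxn : (Subgroup.zpowers x).Normal := ⟨fun z hz g => by
      obtain ⟨i, rfl⟩ := hz
      have : Commute g (x ^ i) := (show Commute g x from hcen g).zpow_right i
      rw [this.eq, mul_inv_cancel_right]
      exact ⟨i, rfl⟩⟩
    have h1 := hMmax _ hxn (by
      rw [Nat.card_zpowers, hx]
      intro s hs hsd
      rwa [(Nat.prime_dvd_prime_iff_eq hs hr).1 hsd])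
    rw [Subgroup.zpowers_eq_bot] at h1
    rw [h1, orderOf_one] at hx
    exact hr.one_lt.ne hx
  have hM1 : M ≠ ⊥ := ne_bot_of_le_ne_bot hA1 hAM
  by_cases hMt : M = ⊤
  · left
    have hidx : Supp Sᶜ N.index := by
      rw [Subgroup.index_eq_card, ← Subgroup.card_top (G := G ⧸ N), ← hMt]
      exact hMS
    obtain ⟨C, hC, -⟩ := exists_frobenius h N hN1 hNt hNS hidx
    exact ⟨C, hC⟩
  · right
    set K := M.comap (QuotientGroup.mk' N) with hKdef
    have hNK : N ≤ K := by
      conv_lhs => rw [← QuotientGroup.ker_mk' N]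
      exact Subgroup.comap_mono bot_le
    have hmapK : K.map (QuotientGroup.mk' N) = M :=
      Subgroup.map_comap_eq_self_of_surjective (QuotientGroup.mk'_surjective N) M
    have hlt : N < K := lt_of_le_of_ne hNK fun e => hM1 (by
      rw [← hmapK, ← e, Subgroup.map_eq_bot_iff, QuotientGroup.ker_mk'])
    refine ⟨N, K, hNn, hMn.comap _, hlt, ?_, ?_⟩
    · have hsub : Nat.card (N.subgroupOf K) = Nat.card N :=
        Nat.card_congr (Subgroup.subgroupOfEquivOfLe hNK).toEquiv
      have hidx : (N.subgroupOf K).index = Nat.card M := by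
        have := Subgroup.card_mul_index (N.subgroupOf K)
        rw [hsub, show Nat.card K = Nat.card N * Nat.card M from
          QuotientGroup.card_preimage_mk N (M : Set (G ⧸ N))] at this
        exact Nat.eq_of_mul_eq_mul_left Nat.card_pos this
      have hsepK : Sep S K := fun a b ha hb ha' hb' hab => h (a : G) (b : G)
        (fun e => ha (Subtype.ext e)) (fun e => hb (Subtype.ext e))
        (by rwa [Subgroup.orderOf_coe]) (by rwa [Subgroup.orderOf_coe])
        (congrArg Subtype.val hab.eq)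
      refine exists_frobenius hsepK (N.subgroupOf K) ?_ ?_ (hsub ▸ hNS) (hidx ▸ hMS)
      · rw [Ne, Subgroup.subgroupOf_eq_bot, disjoint_iff, inf_eq_left.2 hNK]
        exact hN1
      · rw [Ne, Subgroup.subgroupOf_eq_top]
        exact hlt.not_ge
    · rw [hmapK]
      exact exists_frobenius (S := Sᶜ) (h.quotient N).symm M hM1 hMt hMS (by rwa [compl_compl])

/-- A finite solvable group whose prime graph (prime divisors of the order, two distinct primes joined when there is an element of order their product) is disconnected is a Frobenius group or a 2-Frobenius group (it has normal subgroups H < K with K a Frobenius group with kernel H and G/H a Frobenius group with kernel K/H). -/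
theorem result {G : Type*} [Group G] [Finite G] (hsol : Group.IsSolvable G)
    (hdisc : (∃ A : Set ℕ, (∃ a ∈ A, a.Prime ∧ a ∣ Nat.card G) ∧ (∃ b ∉ A, b.Prime ∧ b ∣ Nat.card G) ∧
      ∀ a ∈ A, ∀ b ∉ A, a.Prime → b.Prime → a ∣ Nat.card G → b ∣ Nat.card G → ¬ ∃ g : G, orderOf g = a * b)) :
    (∃ C : Subgroup G, Cfsg.IsFrobeniusComplement C) ∨
    (∃ (H K : Subgroup G) (_ : H.Normal), K.Normal ∧ H < K ∧
      (∃ C : Subgroup ↥K, Cfsg.IsFrobeniusComplement C ∧ Cfsg.frobeniusKernel C = (H.subgroupOf K : Set ↥K)) ∧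
      (∃ C : Subgroup (G ⧸ H), Cfsg.IsFrobeniusComplement C ∧ Cfsg.frobeniusKernel C = (K.map (QuotientGroup.mk' H) : Set (G ⧸ H)))) := by
  obtain ⟨S, hin, hout, hedge⟩ := hdisc
  have h := sep_of_no_edge hedge
  haveI : Nontrivial G := by
    obtain ⟨a, -, ha, had⟩ := hin
    rw [← Finite.one_lt_card_iff_nontrivial]
    exact ha.one_lt.trans_le (Nat.le_of_dvd Nat.card_pos had)
  obtain ⟨p, E, hp, hEn, hE1, -, hEp⟩ := exists_elementary_normal G hsol
  have := Fact.mk hp
  obtain ⟨k, hk⟩ := IsPGroup.iff_card.1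
    (show IsPGroup p E from fun a => ⟨1, Subtype.ext (by simpa using hEp a a.2)⟩)
  have hES : ∀ T : Set ℕ, p ∈ T → Supp T (Nat.card E) := fun T hpT r hr hrd => by
    rw [hk] at hrd
    rwa [(Nat.prime_dvd_prime_iff_eq hr hp).1 (hr.dvd_of_dvd_pow hrd)]
  by_cases hpS : p ∈ S
  · exact main hsol h hout E hEn hE1 (hES S hpS)
  · obtain ⟨a, ha, ha'⟩ := hin
    exact main hsol h.symm ⟨a, fun hc => hc ha, ha'⟩ E hEn hE1 (hES Sᶜ hpS)

end Cfsg.Agent.S3857
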