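import Cfsg.Statements.S3858
import Mathlib
set_option autoImplicit false
open Cfsg

namespace Cfsg.Agent.S3858

open Subgroup


/-- Let G be a finite group with a normal non-abelian simple subgroup T whose centralizer is trivial (G almost simple with socle T), r a prime and R a Sylow r-subgroup of G meeting T nontrivially. Then R lies in exactly one maximal subgroup of G if and only if G has exactly one conjugacy class of maximal subgroups whose index is prime to r. -/
theorem result {G : Type*} [Group G] [Finite G] (T : Subgroup G) [T.Normal] (hT : IsSimpleGroup T) (hna : ¬ IsMulCommutative T)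
    (hC : Subgroup.centralizer (T : Set G) = ⊥) {r : ℕ} [Fact r.Prime] (R : Sylow r G) (hR0 : (R : Subgroup G) ⊓ T ≠ ⊥) :
    (∃! M : Subgroup G, IsCoatom M ∧ (R : Subgroup G) ≤ M) ↔
      ((∃ M : Subgroup G, IsCoatom M ∧ ¬ r ∣ M.index) ∧
        ∀ M₁ M₂ : Subgroup G, IsCoatom M₁ → ¬ r ∣ M₁.index → IsCoatom M₂ → ¬ r ∣ M₂.index → ∃ g : G, M₂ = M₁.map (MulAut.conj g).toMonoidHom) := by
  have hidx : ∀ M : Subgroup G, (R : Subgroup G) ≤ M → ¬ r ∣ M.index := fun M hM h =>
    R.not_dvd_index (h.trans (index_dvd_of_le hM))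
  have hcontain : ∀ M : Subgroup G, ¬ r ∣ M.index → ∃ g : G, (R : Subgroup G) ≤ M.map (MulAut.conj g).toMonoidHom := by
    intro M hM
    obtain ⟨S⟩ : Nonempty (Sylow r M) := inferInstance
    obtain ⟨R', hR'⟩ := (S.2.map M.subtype).exists_le_sylow
    have heq : (R' : Subgroup G) = (S : Subgroup M).map M.subtype := by
      refine (eq_of_le_of_card_ge hR' ?_).symm
      rw [card_map_of_injective M.subtype_injective, S.card_eq_multiplicity, R'.card_eq_multiplicity,
        ← card_mul_index M, Nat.factorization_mul Nat.card_pos.ne' M.index_ne_zero_of_finite,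
        Finsupp.add_apply, Nat.factorization_eq_zero_of_not_dvd hM, add_zero]
    obtain ⟨g, hg⟩ := MulAction.exists_smul_eq G R' R
    refine ⟨g, fun y hy => ?_⟩
    rw [← hg, ← SetLike.mem_coe, Sylow.smul_def] at hy
    obtain ⟨z, hz, rfl⟩ := hy
    exact mem_map_of_mem _ (map_subtype_le _ (heq.le hz))
  have hcoatom : ∀ (M : Subgroup G) (g : G), IsCoatom M → IsCoatom (M.map (MulAut.conj g).toMonoidHom) := fun M g hM =>
    ((MulEquiv.mapSubgroup (MulAut.conj g)).isCoatom_iff M).mpr hM
  constructor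
  · rintro ⟨M, ⟨hM, hRM⟩, huni⟩
    refine ⟨⟨M, hM, hidx M hRM⟩, fun M₁ M₂ h1 hr1 h2 hr2 => ?_⟩
    obtain ⟨g1, hg1⟩ := hcontain M₁ hr1
    obtain ⟨g2, hg2⟩ := hcontain M₂ hr2
    have e1 := huni _ ⟨hcoatom M₁ g1 h1, hg1⟩
    have e2 := huni _ ⟨hcoatom M₂ g2 h2, hg2⟩
    refine ⟨g2⁻¹ * g1, ?_⟩
    have := congrArg (Subgroup.map (MulAut.conj g2⁻¹).toMonoidHom) (e2.trans e1.symm)
    rw [Subgroup.map_map, Subgroup.map_map] at this
    convert this using 1
    · conv_lhs => rw [← map_id M₂]
      congr 1; ext; simp [mul_assoc]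
    · congr 1; ext; simp [mul_assoc]
  · rintro ⟨⟨M0, hM0, hr0⟩, hconj⟩
    obtain ⟨g, hg⟩ := hcontain M0 hr0
    set M := M0.map (MulAut.conj g).toMonoidHom with hMdef
    have hM := hcoatom M0 g hM0
    refine ⟨M, ⟨hM, hg⟩, fun M' hM' => ?_⟩
    obtain ⟨y, hy⟩ := hconj M M' hM (hidx M hg) hM'.1 (hidx M' hM'.2)
    obtain ⟨c, hc, hcy⟩ : ∃ c ∈ M, c • R = y⁻¹ • R := by
      have hle : ((y⁻¹ • R : Sylow r G) : Subgroup G) ≤ M := by
        intro z hz
        rw [← SetLike.mem_coe, Sylow.smul_def] at hz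
        obtain ⟨w, hw, rfl⟩ := hz
        obtain ⟨m, hm, rfl⟩ := hy.le (hM'.2 hw)
        simpa [mul_assoc] using hm
      obtain ⟨c, hc⟩ := MulAction.exists_smul_eq M (R.subtype hg) ((y⁻¹ • R).subtype hle)
      refine ⟨c, c.2, Sylow.subtype_injective (hP := Sylow.smul_le hg c) (hQ := hle) ?_⟩
      exact (Sylow.smul_subtype hg c).symm.trans hc
    have hyn : y * c ∈ normalizer ((R : Subgroup G) : Set G) := by
      refine Sylow.smul_eq_iff_mem_normalizer.mp ?_
      rw [mul_smul, hcy, smul_inv_smul]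
    have hMnorm : normalizer ((R : Subgroup G) : Set G) ≤ M := by
      by_contra hnle
      have htop : normalizer ((R : Subgroup G) : Set G) = ⊤ := by
        by_contra hN
        obtain ⟨L, hL, hle⟩ := (eq_top_or_exists_le_coatom _).resolve_left hN
        obtain ⟨z, hz⟩ := hconj M L hM (hidx M hg) hL (hidx L (le_normalizer.trans hle))
        refine hnle ?_
        -- `N` lies in a conjugate of `M`, and Sylow conjugacy inside it gives the claim
        have hzR : ((z⁻¹ • R : Sylow r G) : Subgroup G) ≤ M := by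
          intro w hw
          rw [← SetLike.mem_coe, Sylow.smul_def] at hw
          obtain ⟨v, hv, rfl⟩ := hw
          obtain ⟨m, hm, rfl⟩ := hz.le (hle (le_normalizer hv))
          simpa [mul_assoc] using hm
        obtain ⟨c', hc'⟩ := MulAction.exists_smul_eq M (R.subtype hg) ((z⁻¹ • R).subtype hzR)
        have hc'R : (c' : G) • R = z⁻¹ • R := Sylow.subtype_injective (hP := Sylow.smul_le hg c') (hQ := hzR) (by
          exact (Sylow.smul_subtype hg c').symm.trans hc')
        have hzc : z * c' ∈ normalizer ((R : Subgroup G) : Set G) := by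
          refine Sylow.smul_eq_iff_mem_normalizer.mp ?_
          rw [mul_smul, hc'R, smul_inv_smul]
        intro n hn
        have h1 : n ∈ M.map (MulAut.conj z).toMonoidHom := hz.le (hle hn)
        have h2 : z * (c' : G) ∈ M.map (MulAut.conj z).toMonoidHom := hz.le (hle hzc)
        rw [mem_map_equiv] at h1 h2
        simp [mul_assoc] at h1 h2
        have hzM : z ∈ M := (mul_mem_cancel_left c'.2).mp h2
        have := mul_mem (mul_mem hzM h1) (inv_mem hzM)
        simpa [mul_assoc] using this
      have hn := normalizer_eq_top_iff.mp htop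
      rcases hT.eq_bot_or_eq_top_of_normal (((R : Subgroup G)).subgroupOf T) inferInstance with h1 | h1
      · refine hR0 (eq_bot_iff.mpr fun z hz => mem_bot.mpr ?_)
        exact congrArg Subtype.val (mem_bot.mp (h1.le (show (⟨z, hz.2⟩ : T) ∈ _ from hz.1)))
      · have := (R.2.to_le (subgroupOf_eq_top.mp h1)).isNilpotent
        exact hna ⟨⟨fun a b => hT.comm_iff_isSolvable.mpr inferInstance a b⟩⟩
    have hyM : y ∈ M := (mul_mem_cancel_right hc).mp (hMnorm hyn)
    rw [hy]
    exact (mem_normalizer_iff_map_conj_eq.mp (le_normalizer hyM))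

end Cfsg.Agent.S3858
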