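import Cfsg.Statements.S3859
import Mathlib

set_option autoImplicit false
open Cfsg

namespace Cfsg.Agent.S3859

open Subgroup

/-- Let G be a finite group with a normal non-abelian simple subgroup T whose centralizer is trivial (G almost simple with socle T), r a prime and R a Sylow r-subgroup of G meeting T nontrivially. If R lies in exactly one maximal subgroup of G, then G/T is an r-group. -/
theorem result {G : Type*} [Group G] [Finite G] (T : Subgroup G) [T.Normal] (hT : IsSimpleGroup T) (hna : ¬ IsMulCommutative T)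
    (hC : Subgroup.centralizer (T : Set G) = ⊥) {r : ℕ} [Fact r.Prime] (R : Sylow r G) (hR0 : (R : Subgroup G) ⊓ T ≠ ⊥)
    (huniq : ∃! M : Subgroup G, IsCoatom M ∧ (R : Subgroup G) ≤ M) : IsPGroup r (G ⧸ T) := by
  classical
  obtain ⟨P0, hP0⟩ : ∃ P0 : Sylow r T, ((R : Subgroup G) ⊓ T).subgroupOf T ≤ P0 :=
    (((R.2.to_le inf_le_left) : IsPGroup r ((R : Subgroup G) ⊓ T : Subgroup G)).comap_subtype
      (K := T) : IsPGroup r (((R : Subgroup G) ⊓ T).subgroupOf T)).exists_le_sylow
  -- `R ⊓ T` is a Sylow subgroup of `T`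
  have hmap : (P0 : Subgroup T).map T.subtype = (R : Subgroup G) ⊓ T := by
    have hle : (R : Subgroup G) ⊓ T ≤ (P0 : Subgroup T).map T.subtype := by
      intro y hy
      exact ⟨⟨y, hy.2⟩, hP0 hy, rfl⟩
    refine (eq_of_le_of_card_ge hle ?_).symm
    obtain ⟨R', hR'⟩ := ((P0.2.map T.subtype) : IsPGroup r ((P0 : Subgroup T).map T.subtype)).exists_le_sylow
    obtain ⟨g, rfl⟩ := MulAction.exists_smul_eq G R R'
    have h1 : (P0 : Subgroup T).map T.subtype ≤ ((R : Subgroup G) ⊓ T).map (MulAut.conj g).toMonoidHom := by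
      intro y hy
      have h2 : y ∈ (g • R : Sylow r G) := hR' hy
      have h3 : y ∈ T := map_subtype_le _ hy
      rw [mem_map_equiv]
      refine ⟨?_, ?_⟩
      · rw [← SetLike.mem_coe, Sylow.smul_def] at h2
        obtain ⟨z, hz, rfl⟩ := h2
        simpa [mul_assoc] using hz
      · simpa [mul_assoc] using (inferInstance : T.Normal).conj_mem y h3 g⁻¹
    exact (card_le_of_le h1).trans (card_map_of_injective (MulEquiv.injective _)).le
  have hfr : normalizer (((R : Subgroup G) ⊓ T : Subgroup G) : Set G) ⊔ T = ⊤ := by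
    rw [← hmap]; exact Sylow.normalizer_sup_eq_top P0
  obtain ⟨M, ⟨hM, hRM⟩, huni⟩ := huniq
  have hN : normalizer (((R : Subgroup G) ⊓ T : Subgroup G) : Set G) ≠ ⊤ := by
    intro h
    have hn : ((R : Subgroup G) ⊓ T).Normal := normalizer_eq_top_iff.mp h
    have hn' : (((R : Subgroup G) ⊓ T).subgroupOf T).Normal := inferInstance
    rcases hT.eq_bot_or_eq_top_of_normal _ hn' with h1 | h1
    · refine hR0 (eq_bot_iff.mpr fun y hy => mem_bot.mpr ?_)
      have h2 : (⟨y, hy.2⟩ : T) ∈ ((R : Subgroup G) ⊓ T).subgroupOf T := hy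
      rw [h1, mem_bot] at h2
      exact congrArg Subtype.val h2
    · have hTp : IsPGroup r T := R.2.to_le ((subgroupOf_eq_top.mp h1).trans inf_le_left)
      have := hTp.isNilpotent
      exact hna (IsMulCommutative.mk ⟨fun a b => hT.comm_iff_isSolvable.mpr inferInstance a b⟩)
  have hNM : normalizer (((R : Subgroup G) ⊓ T : Subgroup G) : Set G) ≤ M := by
    obtain ⟨M', hM', hle⟩ := (eq_top_or_exists_le_coatom _).resolve_left hN
    have : (R : Subgroup G) ≤ M' := le_trans
      (fun g hg => inf_normalizer_le_normalizer_inf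
        ⟨le_normalizer hg, by rw [normalizer_eq_top_iff.mpr (inferInstance : T.Normal)]; exact mem_top g⟩) hle
    exact huni M' ⟨hM', this⟩ ▸ hle
  have hRT : (R : Subgroup G) ⊔ T = ⊤ := by
    by_contra h
    obtain ⟨M', hM', hle⟩ := (eq_top_or_exists_le_coatom _).resolve_left h
    have hTM : T ≤ M := huni M' ⟨hM', le_sup_left.trans hle⟩ ▸ le_sup_right.trans hle
    exact hM.1 (top_le_iff.mp (hfr ▸ sup_le hNM hTM))
  have h := R.2.map (QuotientGroup.mk' T)
  have e : (R : Subgroup G).map (QuotientGroup.mk' T) = ⊤ := by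
    have := congrArg (Subgroup.map (QuotientGroup.mk' T)) hRT
    rwa [Subgroup.map_sup, QuotientGroup.map_mk'_self, sup_bot_eq,
      map_top_of_surjective _ (QuotientGroup.mk'_surjective T)] at this
  rw [e] at h
  exact h.of_equiv topEquiv

end Cfsg.Agent.S3859
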