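import Cfsg.Statements.S3862
import Cfsg.Agent.Fusion.Frobenius
import Cfsg.Agent.Coprime.Basic
import Cfsg.Agent.Coprime.Derived
import Cfsg.Agent.Coprime.PCoreTools
import Cfsg.Agent.Core.Frattini
-- import your own Cfsg.Agent.* helpers here

set_option autoImplicit false
open Cfsg
open Cfsg.Agent
open scoped commutatorElement Pointwise

namespace Cfsg.Agent.S3862
open Cfsg.Agent in
theorem centralizes {G : Type*} [Group G] [Finite G] (h : ∀ x : G, (∃ j : ℕ, orderOf x = 2 ^ j) → IsConj x x⁻¹ → x ∈ Subgroup.center G)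
    (Q : Subgroup G) (hQ : IsPGroup 2 Q) (g : G) (hg : g ∈ Subgroup.normalizer (Q : Set G))
    (hgo : Nat.Coprime (orderOf g) 2) : g ∈ Subgroup.centralizer (Q : Set G) := by
  induction hn : Nat.card Q using Nat.strong_induction_on generalizing Q with
  | _ n IH =>
  subst hn
  set A := Subgroup.zpowers g with hA
  have hAQ : A ≤ Subgroup.normalizer (Q : Set G) := Subgroup.zpowers_le.mpr hg
  obtain ⟨k, hk⟩ := hQ.exists_card_eq
  have hcop : (Nat.card A).Coprime (Nat.card Q) := by
    rw [hA, Nat.card_zpowers, hk]; exact hgo.pow_right k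
  have hsQ : Group.IsSolvable Q := by
    have := hQ.isNilpotent
    infer_instance
  by_contra hnc
  -- `Q = [Q, A]`
  have hQA : ⁅Q, A⁆ = Q := by
    refine (Coprime.commutator_le_of_le_normalizer hAQ).eq_or_lt.resolve_right fun hlt => hnc ?_
    have hle : ⁅Q, A⁆ ≤ Q := hlt.le
    have hc := IH _ (lt_of_le_of_ne (Subgroup.card_le_of_le hle) fun e => hlt.ne (Subgroup.eq_of_le_of_card_ge hle e.ge))
      ⁅Q, A⁆ (hQ.to_le hle) (le_sup_right.trans (Coprime.le_normalizer_commutator (K := Q) (A := A)) (Subgroup.mem_zpowers g)) rfl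
    have hbot : ⁅⁅Q, A⁆, A⁆ = ⊥ := by
      rw [Subgroup.commutator_eq_bot_iff_le_centralizer, Subgroup.le_centralizer_iff, hA, Subgroup.zpowers_le]
      exact hc
    rw [Coprime.commutator_commutator_eq hAQ hcop (Or.inr hsQ), Subgroup.commutator_eq_bot_iff_le_centralizer,
      Subgroup.le_centralizer_iff, hA, Subgroup.zpowers_le] at hbot
    exact hbot
  -- `g` centralises the derived subgroup and the squares
  set Φ := (frattini Q).map Q.subtype with hΦdef
  have hΦQ : Φ ≤ Q := Subgroup.map_subtype_le _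
  have hne : frattini Q ≠ ⊤ := fun htop => hnc (by
    have h1 := frattini_nongenerating (G := Q) (K := ⊥) (by rw [htop, bot_sup_eq])
    rw [Subgroup.mem_centralizer_iff]
    intro y hy
    have : (⟨y, hy⟩ : Q) ∈ (⊥ : Subgroup Q) := h1 ▸ Subgroup.mem_top _
    rw [Subgroup.mem_bot] at this
    rw [show y = 1 from congrArg Subtype.val this, one_mul, mul_one])
  have hΦlt : Nat.card Φ < Nat.card Q := by
    rw [hΦdef, Subgroup.card_map_of_injective Q.subtype_injective]
    exact lt_of_le_of_ne (Nat.le_of_dvd Nat.card_pos (Subgroup.card_subgroup_dvd_card _))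
      fun e => hne (Subgroup.eq_top_of_card_eq _ e)
  have hgΦ : g ∈ Subgroup.centralizer (Φ : Set G) := IH _ hΦlt Φ (hQ.to_le hΦQ)
    (Coprime.le_normalizer_map_of_characteristic hAQ _ inferInstance (Subgroup.mem_zpowers g)) rfl
  have hfix : ∀ x ∈ Φ, g * x * g⁻¹ = x := fun x hx => by
    rw [← Subgroup.mem_centralizer_iff.mp hgΦ x hx, mul_inv_cancel_right]
  -- fixed points of `g` on `Q` lie in `Φ`
  have hCQ : ∀ x ∈ Q, g * x * g⁻¹ = x → x ∈ Φ := fun x hx hxg => by
    have h1 : x ∈ Q ⊓ Subgroup.centralizer (A : Set G) := ⟨hx, by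
      refine Subgroup.mem_centralizer_iff.mpr fun a ha => ?_
      obtain ⟨i, rfl⟩ := Subgroup.mem_zpowers_iff.mp ha
      exact (Commute.zpow_left (mul_inv_eq_iff_eq_mul.mp hxg : Commute g x) i).eq⟩
    have h2 := Coprime.inf_centralizer_le_derived hAQ hcop hQA h1
    rw [← Subgroup.map_subtype_commutator] at h2
    exact Subgroup.map_mono ((by have := hQ.isNilpotent; exact Core.commutator_le_frattini)) h2
  apply hnc
  rw [Subgroup.mem_centralizer_iff]
  intro x hx
  suffices g * x * g⁻¹ = x from (mul_inv_eq_iff_eq_mul.mp this).symm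
  by_contra hxg
  set x' := g * x * g⁻¹ with hx'
  have hx'Q : x' ∈ Q := (Subgroup.mem_normalizer_iff.mp hg x).mp hx
  set b := x⁻¹ * x' with hb
  have hbQ : b ∈ Q := mul_mem (inv_mem hx) hx'Q
  have hsq : x' ^ 2 = x ^ 2 := by
    rw [hx', conj_pow]
    exact hfix _ ⟨⟨x, hx⟩ ^ 2, Core.pow_mem_frattini hQ _, rfl⟩
  have hconj : x⁻¹ * b * x = b⁻¹ := by
    rw [pow_two, pow_two, show x' = x * b by rw [hb, mul_inv_cancel_left]] at hsq
    have h1 : b * x * b = x := mul_left_cancel (a := x) (by simpa only [mul_assoc] using hsq)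
    rw [eq_inv_iff_mul_eq_one, show x⁻¹ * b * x * b = x⁻¹ * (b * x * b) by group, h1, inv_mul_cancel]
  have hbc : b ∈ Subgroup.center G := h b (by
    obtain ⟨j, hj⟩ := IsPGroup.iff_orderOf.mp hQ ⟨b, hbQ⟩
    exact ⟨j, by rwa [Subgroup.orderOf_mk] at hj⟩) (isConj_iff.mpr ⟨x⁻¹, by rw [inv_inv]; exact hconj⟩)
  have hbx : b ∈ Φ := hCQ b hbQ (by rw [Subgroup.mem_center_iff.mp hbc g, mul_inv_cancel_right])
  -- so `g` fixes `x` modulo `Φ`, hence fixes `b`, and its order kills `b`
  have hbg := hfix b hbx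
  have hpow : ∀ i : ℕ, g ^ i * x * (g ^ i)⁻¹ = x * b ^ i := by
    intro i
    induction i with
    | zero => simp
    | succ i ih =>
      rw [pow_succ', show g * g ^ i * x * (g * g ^ i)⁻¹ = g * (g ^ i * x * (g ^ i)⁻¹) * g⁻¹ by group, ih,
        show g * (x * b ^ i) * g⁻¹ = g * x * g⁻¹ * (g * b ^ i * g⁻¹) by group, ← conj_pow, hbg, ← hx',
        show x' = x * b by rw [hb, mul_inv_cancel_left], mul_assoc, ← pow_succ']
  have h1 := hpow (orderOf g)
  rw [pow_orderOf_eq_one, inv_one, mul_one, one_mul, left_eq_mul] at h1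
  obtain ⟨j, hj⟩ := IsPGroup.iff_orderOf.mp hQ ⟨b, hbQ⟩
  rw [Subgroup.orderOf_mk] at hj
  have h2 : orderOf b ∣ 1 := by
    have h3 := orderOf_dvd_of_pow_eq_one h1
    rw [hj] at h3 ⊢
    exact (Nat.Coprime.dvd_of_dvd_mul_left (hgo.symm.pow_left j) (by rw [mul_one]; exact h3))
  refine hxg ?_
  have hb1 : b = 1 := orderOf_eq_one_iff.mp (Nat.dvd_one.mp h2)
  rw [← mul_inv_cancel_left x x', ← hb, hb1, mul_one]



/-- If every 2-element of the finite group G that is conjugate to its inverse lies in the centre of G, then G has a normal 2-complement. -/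
theorem result {G : Type*} [Group G] [Finite G] (h : ∀ x : G, (∃ j : ℕ, orderOf x = 2 ^ j) → IsConj x x⁻¹ → x ∈ Subgroup.center G) : Cfsg.HasNormalPComplement 2 G := by
  exact Fusion.hasNormalPComplement_of_frobenius fun Q hQ g hg hgo => centralizes h Q hQ g hg hgo

end Cfsg.Agent.S3862
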