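import Cfsg.Statements.S3863
import Mathlib
set_option autoImplicit false
open Cfsg

namespace Cfsg.Agent.S3863

open Subgroup

theorem exists_two_part {G : Type*} [Group G] [Finite G] (g : G) :
    ∃ m : ℕ, Odd m ∧ ∃ j : ℕ, orderOf (g ^ m) = 2 ^ j := by
  refine ⟨orderOf g / 2 ^ (orderOf g).factorization 2, ?_, (orderOf g).factorization 2, ?_⟩
  · rw [Nat.odd_iff, ← Nat.two_dvd_ne_zero]
    exact Nat.not_dvd_ordCompl Nat.prime_two (orderOf_pos g).ne'
  · exact orderOf_pow_orderOf_div (orderOf_pos g).ne' (Nat.ordProj_dvd _ 2)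


/-- Let x be an element of the finite group G that is conjugate to its inverse. Then some 2-element conjugates x to its inverse; if the conjugacy class of x has odd size then x ^ 2 = 1; and x lies in, and is conjugate to its inverse inside, every normal subgroup of odd index. -/
theorem result {G : Type*} [Group G] [Finite G] (x : G) (hx : IsConj x x⁻¹) : (∃ t : G, (∃ j : ℕ, orderOf t = 2 ^ j) ∧ t * x * t⁻¹ = x⁻¹) ∧ (Odd (Subgroup.centralizer ({x} : Set G)).index → x ^ 2 = 1) ∧ ∀ (N : Subgroup G) [N.Normal], Odd N.index → ∃ hxN : x ∈ N, IsConj (⟨x, hxN⟩ : N) (⟨x, hxN⟩ : N)⁻¹ := by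
  obtain ⟨g, hg⟩ := isConj_iff.mp hx
  have hpow : ∀ m : ℕ, g ^ m * x * (g ^ m)⁻¹ = if Even m then x else x⁻¹ := by
    intro m
    induction m with
    | zero => simp
    | succ m ih =>
      calc g ^ (m + 1) * x * (g ^ (m + 1))⁻¹ = g * (g ^ m * x * (g ^ m)⁻¹) * g⁻¹ := by
            rw [pow_succ']; group
        _ = _ := by
          rw [ih]
          by_cases h : Even m
          · rw [if_pos h, if_neg (by simp [Nat.even_add_one, h]), hg]
          · rw [if_neg h, if_pos (by simp [Nat.even_add_one, h])]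
            have := congrArg (·⁻¹) hg
            simpa [mul_assoc] using this
  obtain ⟨m, hm, j, hj⟩ := exists_two_part g
  have ht : g ^ m * x * (g ^ m)⁻¹ = x⁻¹ := by rw [hpow, if_neg (Nat.not_even_iff_odd.mpr hm)]
  refine ⟨⟨g ^ m, ⟨j, hj⟩, ht⟩, fun hodd => ?_, ?_⟩
  · -- the inverting element normalises the centraliser
    by_contra hx2
    set C := centralizer ({x} : Set G)
    set t := g ^ m
    have htC : ∀ c, c ∈ C → t * c * t⁻¹ ∈ C := by
      intro c hc
      have h1 : Commute c x := mem_centralizer_singleton_iff.mp hc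
      have h2 : Commute (t * c * t⁻¹) x⁻¹ := by
        rw [← ht]
        exact h1.map (MulAut.conj t).toMonoidHom
      exact mem_centralizer_singleton_iff.mpr (Commute.inv_right_iff.mp h2).eq
    have htn : t ∈ normalizer (C : Set G) := by
      refine mem_normalizer_iff.mpr fun c => ⟨htC c, fun hc => ?_⟩
      have h1 : Commute (t * c * t⁻¹) x⁻¹ := (show Commute _ x from mem_centralizer_singleton_iff.mp hc).inv_right
      rw [← ht] at h1
      have h2 := h1.map (MulAut.conj t⁻¹).toMonoidHom
      simp [mul_assoc] at h2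
      exact mem_centralizer_singleton_iff.mpr h2.eq
    have ht2 : ¬ t ∈ C := fun h => by
      have h1 : Commute t x := mem_centralizer_singleton_iff.mp h
      rw [h1.eq, mul_inv_cancel_right, eq_inv_iff_mul_eq_one, ← pow_two] at ht
      exact hx2 ht
    have hC : C ≤ normalizer (C : Set G) := le_normalizer
    set N := normalizer (C : Set G)
    have hdvd : C.relIndex N ∣ C.index := relIndex_dvd_index_of_le hC
    have hodd' : Odd (C.relIndex N) := hodd.of_dvd_nat hdvd
    have : (C.subgroupOf N).Normal := normal_in_normalizer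
    set q : N ⧸ C.subgroupOf N := ((⟨t, htn⟩ : N) : N ⧸ C.subgroupOf N)
    have hq : orderOf q ∣ 2 ^ j := hj ▸ (Subgroup.orderOf_mk t htn ▸ orderOf_map_dvd (QuotientGroup.mk' (C.subgroupOf N)) ⟨t, htn⟩)
    have hq2 : orderOf q ∣ C.relIndex N := orderOf_dvd_natCard q
    refine ht2 ?_
    have : q = 1 := orderOf_eq_one_iff.mp (Nat.eq_one_of_dvd_coprimes
      ((Nat.coprime_two_left.mpr hodd').pow_left j) hq hq2)
    exact mem_subgroupOf.mp ((QuotientGroup.eq_one_iff _).mp this)
  · intro N hNn hNodd
    set π := QuotientGroup.mk' N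
    have hQodd : Odd (Nat.card (G ⧸ N)) := by rwa [← index_eq_card]
    have ht1 : π (g ^ m) = 1 := by
      refine orderOf_eq_one_iff.mp (Nat.eq_one_of_dvd_coprimes
        ((Nat.coprime_two_left.mpr hQodd).pow_left j) (hj ▸ orderOf_map_dvd π _) (orderOf_dvd_natCard _))
    have hxx : π x * π x = 1 := by
      have := congrArg π ht
      rw [map_mul, map_mul, map_inv, map_inv, ht1, one_mul, inv_one, mul_one] at this
      nth_rewrite 1 [this]
      exact inv_mul_cancel _
    have hx1 : π x = 1 := orderOf_eq_one_iff.mp (Nat.eq_one_of_dvd_coprimes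
      (Nat.coprime_two_left.mpr hQodd) (orderOf_dvd_of_pow_eq_one (by rw [pow_two, hxx]))
      (orderOf_dvd_natCard _))
    refine ⟨(QuotientGroup.eq_one_iff x).mp hx1, isConj_iff.mpr ⟨⟨g ^ m, (QuotientGroup.eq_one_iff _).mp ht1⟩, ?_⟩⟩
    exact Subtype.ext (by simpa using ht)

end Cfsg.Agent.S3863
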