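import Cfsg.Statements.S3864
import Cfsg.Agent.Invol.DihedralSylow

set_option autoImplicit false
open Cfsg

namespace Cfsg.Agent.S3864

open Cfsg.Agent.Invol DihedralGroup in
theorem sr_conj_parity {k : ℕ} (hk : 1 ≤ k) (d : DihedralGroup (2 ^ k)) (a b : ZMod (2 ^ k)) (h : d * sr a * d⁻¹ = sr b) :
    ∃ c, b = a + 2 * c := by
  rcases d with c | c
  · rw [r_conj_sr hk] at h
    injection h with h'
    exact ⟨-c, by rw [← h']; ring⟩
  · rw [inv_sr, sr_mul_sr, r_mul_sr] at h
    injection h with h'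
    exact ⟨c - a, by rw [← h']; ring⟩

/-- Let G be a finite group whose Sylow 2-subgroups are dihedral of order 2 ^ n with n ≥ 3, and count the conjugacy classes of involutions of G. Then exactly one of the following holds: there is one class of involutions and no normal subgroup of index 2; there are two classes of involutions, a normal subgroup of index 2 and none of index 4; there are three classes of involutions and G has a normal 2-complement. -/
theorem result {G : Type*} [Group G] [Finite G] (P : Sylow 2 G) (n : ℕ) (hn : 3 ≤ n) (hdih : Nonempty (↥(P : Subgroup G) ≃* DihedralGroup (2 ^ (n - 1)))) : (Nat.card {C : ConjClasses G // ∃ g : G, ConjClasses.mk g = C ∧ orderOf g = 2} = 1 ∧ ∀ N : Subgroup G, N.Normal → N.index ≠ 2) ∨ (Nat.card {C : ConjClasses G // ∃ g : G, ConjClasses.mk g = C ∧ orderOf g = 2} = 2 ∧ (∃ N : Subgroup G, N.Normal ∧ N.index = 2) ∧ ∀ N : Subgroup G, N.Normal → N.index ≠ 4) ∨ (Nat.card {C : ConjClasses G // ∃ g : G, ConjClasses.mk g = C ∧ orderOf g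 = 2} = 3 ∧ Cfsg.HasNormalPComplement 2 G) := by
  obtain ⟨k, ι, D, hk'⟩ := Invol.ddata_exists P (m := 2 ^ (n - 1)) (by
    calc 2 = 2 ^ 1 := (pow_one 2).symm
      _ ≤ 2 ^ (n - 1) := Nat.pow_le_pow_right two_pos (by omega)) hdih.some
  have hk : 2 ≤ k := by rw [← Nat.pow_right_injective le_rfl hk']; omega
  set z := ι (DihedralGroup.r (Invol.dh k)) with hz
  set T : Set (ConjClasses G) := {C | ∃ g : G, ConjClasses.mk g = C ∧ orderOf g = 2} with hT
  have hcountdef : Nat.card {C : ConjClasses G // ∃ g : G, ConjClasses.mk g = C ∧ orderOf g = 2} = T.ncard :=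
    Nat.card_coe_set_eq T
  rw [hcountdef]
  set t : ZMod (2 ^ k) → G := fun a => ι (DihedralGroup.sr a) with ht
  have hpar : ∀ a c : ZMod (2 ^ k), IsConj (t (a + 2 * c)) (t a) := fun a c => isConj_iff.2
    ⟨ι (DihedralGroup.r c), by
      show ι _ * ι _ * (ι _)⁻¹ = ι _
      rw [← map_inv, ← map_mul, ← map_mul, Invol.r_conj_sr D.pos, add_sub_cancel_right]⟩
  have hstd : ∀ a, IsConj (t a) (t 0) ∨ IsConj (t a) (t 1) := by
    intro a
    obtain ⟨c, rfl | rfl⟩ := Invol.dparity a
    · exact Or.inl (by simpa using hpar 0 c)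
    · exact Or.inr (by simpa [add_comm] using hpar 1 c)
  have hTeq : T = {ConjClasses.mk z, ConjClasses.mk (t 0), ConjClasses.mk (t 1)} := by
    ext C
    simp only [hT, Set.mem_ofPred_eq, Set.mem_insert_iff, Set.mem_singleton_iff]
    constructor
    · rintro ⟨g, rfl, hg⟩
      rcases D.exists_conj_involution hg with h | ⟨a, h⟩
      · exact Or.inl (ConjClasses.mk_eq_mk_iff_isConj.2 h)
      · rcases hstd a with h' | h'
        exacts [Or.inr (Or.inl (ConjClasses.mk_eq_mk_iff_isConj.2 (h.trans h'))),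
          Or.inr (Or.inr (ConjClasses.mk_eq_mk_iff_isConj.2 (h.trans h')))]
    · rintro (rfl | rfl | rfl)
      exacts [⟨z, rfl, D.z_order⟩, ⟨_, rfl, D.sr_order 0⟩, ⟨_, rfl, D.sr_order 1⟩]
  have habel : ∀ (N : Subgroup G) [N.Normal] (u v : G ⧸ N), N.index = 4 ∨ N.index = 2 → u * v = v * u := by
    intro N _ u v hi
    rcases hi with hi | hi
    · exact (IsPGroup.commGroupOfCardEqPrimeSq (p := 2) (by rw [← Subgroup.index_eq_card, hi]; rfl)).mul_comm u v
    · have : Fact (Nat.Prime 2) := ⟨Nat.prime_two⟩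
      have hcyc : IsCyclic (G ⧸ N) := isCyclic_of_prime_card (p := 2) (by rw [← Subgroup.index_eq_card, hi])
      exact (IsCyclic.commGroup (α := G ⧸ N)).mul_comm u v
  have hzN : ∀ (N : Subgroup G) [N.Normal], (N.index = 4 ∨ N.index = 2) → z ∈ N := by
    intro N _ hi
    rw [← QuotientGroup.eq_one_iff, ← QuotientGroup.mk'_apply, hz, Invol.dh_even hk, two_mul,
      ← DihedralGroup.r_mul_r, show DihedralGroup.r ((2 : ZMod (2 ^ k)) ^ (k - 2)) =
        DihedralGroup.sr 0 * DihedralGroup.sr (2 ^ (k - 2)) by rw [DihedralGroup.sr_mul_sr, sub_zero]]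
    simp only [map_mul]
    set p := QuotientGroup.mk' N (ι (DihedralGroup.sr 0))
    set q := QuotientGroup.mk' N (ι (DihedralGroup.sr (2 ^ (k - 2))))
    have hp : p * p = 1 := by rw [← map_mul, ← map_mul, DihedralGroup.sr_mul_self, map_one, map_one]
    have hq : q * q = 1 := by rw [← map_mul, ← map_mul, DihedralGroup.sr_mul_self, map_one, map_one]
    rw [mul_assoc, ← mul_assoc q, habel N q p hi, mul_assoc, hq, mul_one, hp]
  have hgen : ∀ H : Subgroup G, t 0 ∈ H → t 1 ∈ H → Odd H.index := by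
    intro H h0 h1
    have hle : (P : Subgroup G) ≤ H := by
      intro x hx
      obtain ⟨d, rfl⟩ := D.exists_eq hx
      have hr : ι (DihedralGroup.r 1) ∈ H := by
        have := mul_mem h0 h1
        simp only [ht] at this
        rwa [← map_mul, DihedralGroup.sr_mul_sr, sub_zero] at this
      have hri : ∀ i, ι (DihedralGroup.r i) ∈ H := fun i => by
        rw [← ZMod.natCast_zmod_val i, ← DihedralGroup.r_one_pow, map_pow]
        exact pow_mem hr _
      rcases d with i | i
      · exact hri i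
      · have := mul_mem h0 (hri i)
        simp only [ht] at this
        rwa [← map_mul, DihedralGroup.sr_mul_r, zero_add] at this
    rw [← Nat.not_even_iff_odd, even_iff_two_dvd]
    exact fun h => P.not_dvd_index (h.trans (Subgroup.index_dvd_of_le hle))
  by_cases h0 : IsConj (t 0) z <;> by_cases h1 : IsConj (t 1) z
  · refine Or.inl ⟨?_, fun N hN hi => ?_⟩
    · rw [hTeq, ConjClasses.mk_eq_mk_iff_isConj.2 h0, ConjClasses.mk_eq_mk_iff_isConj.2 h1]
      simp
    · have hmem : ∀ g, IsConj g z → g ∈ N := fun g hg => by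
        obtain ⟨c, hc⟩ := isConj_iff.1 hg.symm
        exact hc ▸ hN.conj_mem _ (hzN N (Or.inr hi)) c
      have := hgen N (hmem _ h0) (hmem _ h1)
      rw [hi] at this
      exact absurd this (by decide)
  on_goal 3 =>
    have hall : ∀ a, ¬ IsConj (t a) z := fun a h => (hstd a).elim (fun e => h0 (e.symm.trans h))
      (fun e => h1 (e.symm.trans h))
    have hc := D.complement_of_not_conj hall
    refine Or.inr (Or.inr ⟨?_, hc⟩)
    rw [hTeq]
    refine Set.ncard_eq_three.2 ⟨_, _, _, fun e => h0 (ConjClasses.mk_eq_mk_iff_isConj.1 e).symm,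
      fun e => h1 (ConjClasses.mk_eq_mk_iff_isConj.1 e).symm, fun e => ?_, rfl⟩
    obtain ⟨g, hg⟩ := isConj_iff.1 (ConjClasses.mk_eq_mk_iff_isConj.1 e)
    obtain ⟨-, -, s, hs, -, hsc⟩ := Invol.conj_in_sylow_of_complement P hc (s := t 0) (g := g) (D.mem _) (by rw [hg]; exact D.mem _)
    rw [hg] at hsc
    obtain ⟨d, rfl⟩ := D.exists_eq hs
    simp only [ht] at hsc
    rw [← map_inv, ← map_mul, ← map_mul] at hsc
    obtain ⟨c, hc'⟩ := sr_conj_parity D.pos d 0 1 (D.inj hsc)
    exact Invol.even_ne_odd' D.pos c 0 (by rw [mul_zero, zero_add]; exact (hc'.trans (zero_add _)).symm)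
  all_goals
    obtain ⟨i, j, hi, hj, hij⟩ : ∃ i j : ZMod (2 ^ k), ¬ IsConj (t i) z ∧ IsConj (t j) z ∧
        (i = 0 ∧ j = 1 ∨ i = 1 ∧ j = 0) := by
      first
        | exact ⟨1, 0, h1, h0, Or.inr ⟨rfl, rfl⟩⟩
        | exact ⟨0, 1, h0, h1, Or.inl ⟨rfl, rfl⟩⟩
    refine Or.inr (Or.inl ⟨?_, ?_, fun N hN hi4 => ?_⟩)
    · rw [Set.ncard_eq_two]
      refine ⟨_, _, fun e => hi (ConjClasses.mk_eq_mk_iff_isConj.1 e), hTeq.trans ?_⟩
      rcases hij with ⟨rfl, rfl⟩ | ⟨rfl, rfl⟩ <;>
        rw [ConjClasses.mk_eq_mk_iff_isConj.2 hj] <;> simp [Set.pair_comm]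
    · obtain ⟨N, hN, hNi, -⟩ := D.index_two_of_not_conj hi
      exact ⟨N, hN, hNi⟩
    · obtain ⟨c, hc⟩ := isConj_iff.1 hj.symm
      have hjN : t j ∈ N := hc ▸ hN.conj_mem _ (hzN N (Or.inl hi4)) c
      let H : Subgroup G := (Subgroup.zpowers (QuotientGroup.mk' N (t i))).comap (QuotientGroup.mk' N)
      have hHi : H.index = (Subgroup.zpowers (QuotientGroup.mk' N (t i))).index :=
        Subgroup.index_comap_of_surjective _ (QuotientGroup.mk'_surjective N)
      have hj' : t j ∈ H := by
        refine Subgroup.mem_comap.2 ?_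
        rw [show QuotientGroup.mk' N (t j) = 1 from (QuotientGroup.eq_one_iff _).2 hjN]
        exact one_mem _
      have hi' : t i ∈ H := Subgroup.mem_zpowers _
      have hodd : Odd H.index := by
        rcases hij with ⟨rfl, rfl⟩ | ⟨rfl, rfl⟩
        exacts [hgen H hi' hj', hgen H hj' hi']
      have hmul := (Subgroup.zpowers (QuotientGroup.mk' N (t i))).card_mul_index
      rw [← Subgroup.index_eq_card, hi4, Nat.card_zpowers, ← hHi] at hmul
      have h2 : orderOf (QuotientGroup.mk' N (t i)) ∣ 2 := by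
        rw [orderOf_dvd_iff_pow_eq_one, ← map_pow, pow_two]
        simp [ht, ← map_mul]
      rcases (Nat.dvd_prime Nat.prime_two).1 h2 with e | e <;> rw [e] at hmul
      · rw [one_mul] at hmul; rw [hmul] at hodd; exact absurd hodd (by decide)
      · rw [show H.index = 2 by omega] at hodd; exact absurd hodd (by decide)

end Cfsg.Agent.S3864
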