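import Cfsg.Statements.S3865
import Cfsg.Agent.MaxClass.GoodElement
import Cfsg.Agent.MaxClass.SelfCentFusion
import Cfsg.Agent.Thompson.Stable
import Cfsg.Agent.Fusion.Frattini
import Cfsg.Agent.S0662

set_option autoImplicit false
open Cfsg

namespace Cfsg.Agent.S3865

open Subgroup
open scoped commutatorElement

variable {G : Type*} [Group G] [Finite G] {p : ℕ} [hp : Fact p.Prime]

theorem card_inf_centralizer_eq (P : Subgroup G) (y : P) :
    Nat.card ↥(P ⊓ centralizer ({(y : G)} : Set G)) = Nat.card (centralizer ({y} : Set P)) := by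
  have e : centralizer ({y} : Set P) = (P ⊓ centralizer ({(y : G)} : Set G)).subgroupOf P := by
    ext g
    rw [mem_subgroupOf, mem_inf, mem_centralizer_singleton_iff, mem_centralizer_singleton_iff,
      Subtype.ext_iff]
    exact ⟨fun h => ⟨g.2, h⟩, fun h => h.2⟩
  rw [e, Nat.card_congr (subgroupOfEquivOfLe inf_le_left).toEquiv]

theorem factorization_eq_two {m : ℕ} (hm : m ≠ 0) (h2 : p ^ 2 ∣ m) (h3 : ¬ p ^ 3 ∣ m) :
    m.factorization p = 2 := by
  have a := (hp.out.pow_dvd_iff_le_factorization hm).1 h2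
  have b : ¬ 3 ≤ m.factorization p := fun h => h3 ((hp.out.pow_dvd_iff_le_factorization hm).2 h)
  omega

/-- The witness from an element of `P` outside a normal subgroup containing `P'`. -/
theorem witness (P : Sylow p G) {n : ℕ} (hP : Nat.card P = p ^ n) (N : Subgroup G) [N.Normal]
    (hder : ∀ g ∈ (P : Subgroup G), ∀ h ∈ (P : Subgroup G), ⁅g, h⁆ ∈ N) (y : (P : Subgroup G))
    (hy : (y : G) ∉ N) (hc : Nat.card (centralizer ({y} : Set (P : Subgroup G))) = p ^ 2) :
    ∃ x ∈ (P : Subgroup G), (Nat.card (centralizer ({x} : Set G))).factorization p = 2 := by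
  rw [← card_inf_centralizer_eq (P : Subgroup G) y] at hc
  exact ⟨y, y.2, factorization_eq_two Nat.card_pos.ne' (hc ▸ card_dvd_of_le inf_le_right)
    (MaxClass.SelfCentFusion.not_cube_dvd n G P N y hP y.2 hy hc hder)⟩

/-- A normal subgroup whose Sylow subgroup has order `p`, central in `P` and inside `P'`. -/
theorem central_of_small (P : Sylow p G) (hcore : Cfsg.pPrimeCore p G = ⊥)
    (hres : ∀ N : Subgroup G, N.Normal → (N.index).Coprime p → N = ⊤) (N : Subgroup G) [hN : N.Normal]
    (hcard : Nat.card ↥((P : Subgroup G) ⊓ N) = p)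
    (hder : (P : Subgroup G) ⊓ N ≤ ⁅(P : Subgroup G), (P : Subgroup G)⁆)
    (hcen : ∀ z ∈ (P : Subgroup G) ⊓ N, ∀ g ∈ (P : Subgroup G), g * z = z * g) :
    Nat.card N = p ∧ N ≤ center G := by
  have hpp := hp.out
  set Z := (P : Subgroup G) ⊓ N with hZ
  set H := centralizer (Z : Set G) with hH
  have hPH : (P : Subgroup G) ≤ H := fun g hg => mem_centralizer_iff.2 fun z hz => (hcen z hz g hg).symm
  set K := N ⊓ H with hK
  have hZK : Z ≤ K := le_inf inf_le_right (inf_le_left.trans hPH)
  have hZc : ∀ z ∈ Z, ∀ h ∈ H, h * z = z * h := fun z hz h hh => (mem_centralizer_iff.1 hh z hz).symm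
  have hpZ : ∀ z : G, z ∈ Z → z ^ p = 1 := fun z hz => by
    have h := pow_card_eq_one' (x := (⟨z, hz⟩ : Z))
    rw [hcard] at h
    exact congrArg Subtype.val h
  have hZrel : ¬ p ∣ Z.relIndex N := by
    rw [hZ, inf_relIndex_right]; exact Thompson.not_dvd_relIndex_sylow P N
  have hZrelK : ¬ p ∣ Z.relIndex K := fun h =>
    hZrel (h.trans ⟨K.relIndex N, (relIndex_mul_relIndex Z K N hZK inf_le_left).symm⟩)
  -- the power map into Z
  set K' := K.subgroupOf H with hK'
  set ZK : Subgroup K := Z.subgroupOf K with hZKdef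
  have hZKc : ZK ≤ center K := fun z hz => mem_center_iff.2 fun g =>
    Subtype.ext (hZc _ (mem_subgroupOf.1 hz) _ (mem_inf.1 g.2).2)
  set c := (center K).index with hcdef
  set d := Nat.card (center K) / p with hd
  have hZcard : Nat.card ZK = p := by
    rw [Nat.card_congr (subgroupOfEquivOfLe hZK).toEquiv, hcard]
  have hrelmul : ZK.relIndex (center K) * c = ZK.index := relIndex_mul_index hZKc
  have hcd : ¬ p ∣ c * d := by
    have h1 : ZK.relIndex (center K) = d := by
      have h2 := relIndex_mul_relIndex ⊥ ZK (center K) bot_le hZKc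
      rw [relIndex_bot_left, relIndex_bot_left, hZcard] at h2
      rw [hd, ← h2, Nat.mul_div_cancel_left _ hpp.pos]
    intro h
    refine hZrelK ?_
    show p ∣ ZK.index
    rwa [← hrelmul, h1, mul_comm]
  have hpow : ∀ k : K, ((k : G)) ^ (c * d) ∈ Z := fun k => by
    have h1 : k ^ c ∈ center K := by
      haveI : (center K).FiniteIndex := inferInstance
      rw [hcdef, ← MonoidHom.transferCenterPow_apply]
      exact (MonoidHom.transferCenterPow K k).2
    haveI : (ZK.subgroupOf (center K)).Normal := ⟨fun a ha g => by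
      have e : g * a * g⁻¹ = a := Subtype.ext (by
        show (g : K) * (a : K) * ((g : K))⁻¹ = (a : K)
        rw [mem_center_iff.1 a.2 (g : K), mul_inv_cancel_right])
      rw [e]; exact ha⟩
    have h2 := pow_index_mem (ZK.subgroupOf (center K)) ⟨k ^ c, h1⟩
    have h3 : (ZK.subgroupOf (center K)).index = d := by
      show ZK.relIndex (center K) = d
      have h4 := relIndex_mul_relIndex ⊥ ZK (center K) bot_le hZKc
      rw [relIndex_bot_left, relIndex_bot_left, hZcard] at h4
      rw [hd, ← h4, Nat.mul_div_cancel_left _ hpp.pos]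
    rw [h3] at h2
    have h5 := mem_subgroupOf.1 (mem_subgroupOf.1 h2)
    rw [SubmonoidClass.coe_pow, SubmonoidClass.coe_pow, SubmonoidClass.coe_pow, ← pow_mul] at h5
    exact h5
  have hmulpow : ∀ a b : K, ((a * b : K) : G) ^ (c * d) = (a : G) ^ (c * d) * (b : G) ^ (c * d) := by
    intro a b
    have h1 := map_mul (MonoidHom.transferCenterPow K) a b
    have h2 : (a * b) ^ c = a ^ c * b ^ c := by
      have := congrArg Subtype.val h1
      rwa [MonoidHom.transferCenterPow_apply, Subgroup.coe_mul, MonoidHom.transferCenterPow_apply,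
        MonoidHom.transferCenterPow_apply] at this
    have h3 : Commute (a ^ c) (b ^ c) := by
      have hb : b ^ c ∈ center K := by
        rw [hcdef, ← MonoidHom.transferCenterPow_apply]
        exact (MonoidHom.transferCenterPow K b).2
      exact mem_center_iff.1 hb _
    have h4 : (a * b) ^ (c * d) = a ^ (c * d) * b ^ (c * d) := by
      rw [pow_mul, pow_mul, pow_mul, h2, h3.mul_pow]
    simpa using congrArg (fun w : K => (w : G)) h4
  -- elements of N normalizing Z centralize it
  have hnc : N ⊓ normalizer (Z : Set G) ≤ H := by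
    intro a ha
    obtain ⟨haN, haZ⟩ := mem_inf.1 ha
    have haH : ∀ h ∈ H, ⁅a, h⁆ ∈ K := fun h hh => by
      refine mem_inf.2 ⟨?_, ?_⟩
      · rw [commutatorElement_def, mul_assoc, mul_assoc]
        exact N.mul_mem haN (by rw [← mul_assoc]; exact hN.conj_mem _ (inv_mem haN) h)
      · rw [commutatorElement_def]
        refine mul_mem ?_ (inv_mem hh)
        rw [hH, mem_centralizer_iff]
        intro z hz
        have hz' : a⁻¹ * z * a ∈ Z := by
          simpa using (mem_normalizer_iff.1 (inv_mem haZ) z).1 hz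
        have := (mem_centralizer_iff.1 hh) _ hz'
        calc z * (a * h * a⁻¹) = a * ((a⁻¹ * z * a) * h) * a⁻¹ := by group
          _ = a * (h * (a⁻¹ * z * a)) * a⁻¹ := by rw [this]
          _ = a * h * a⁻¹ * z := by group
    let θ : H →* G :=
      { toFun := fun h => ⁅a, (h : G)⁆ ^ (c * d)
        map_one' := by simp
        map_mul' := fun h h' => by
          show ⁅a, (h : G) * h'⁆ ^ (c * d) = ⁅a, (h : G)⁆ ^ (c * d) * ⁅a, (h' : G)⁆ ^ (c * d)
          have hw : (h : G) * ⁅a, (h' : G)⁆ * (h : G)⁻¹ ∈ K := mem_inf.2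
            ⟨hN.conj_mem _ (mem_inf.1 (haH _ h'.2)).1 _,
              mul_mem (mul_mem h.2 (mem_inf.1 (haH _ h'.2)).2) (inv_mem h.2)⟩
          have e : ⁅a, (h : G) * h'⁆ = ⁅a, (h : G)⁆ * ((h : G) * ⁅a, (h' : G)⁆ * (h : G)⁻¹) := by
            simp only [commutatorElement_def]; group
          have e2 := hmulpow ⟨_, haH _ h.2⟩ ⟨_, hw⟩
          simp only [Subgroup.coe_mul] at e2
          rw [e, e2]
          congr 1
          rw [conj_pow]
          rw [hZc _ (hpow ⟨_, haH _ h'.2⟩) _ h.2, mul_inv_cancel_right] }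
    have hPθ : ⁅(P : Subgroup G), (P : Subgroup G)⁆ ≤ θ.ker.map H.subtype := by
      rw [commutator_le]
      intro g hg k hk
      refine ⟨⁅(⟨g, hPH hg⟩ : H), ⟨k, hPH hk⟩⁆, ?_, rfl⟩
      rw [SetLike.mem_coe, MonoidHom.mem_ker, map_commutatorElement, commutatorElement_eq_one_iff_mul_comm]
      exact hZc _ (hpow ⟨_, haH _ (hPH hk)⟩) _ (mem_inf.1 (hZK (hpow ⟨_, haH _ (hPH hg)⟩))).2
    rw [hH, mem_centralizer_iff]
    intro z hz
    obtain ⟨w, hw, hwz⟩ := hPθ (hder hz)
    have hθ : ⁅a, z⁆ ^ (c * d) = 1 := hwz ▸ MonoidHom.mem_ker.1 hw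
    have haz : ⁅a, z⁆ ∈ Z := by
      rw [commutatorElement_def]
      exact mul_mem ((mem_normalizer_iff.1 haZ z).1 hz) (inv_mem hz)
    have hone : ⁅a, z⁆ = 1 := by
      refine orderOf_eq_one_iff.1 (Nat.eq_one_of_dvd_coprimes
        ((hpp.coprime_iff_not_dvd.2 hcd)) (orderOf_dvd_of_pow_eq_one (hpZ _ haz))
        (orderOf_dvd_of_pow_eq_one hθ))
    exact (commutatorElement_eq_one_iff_mul_comm.1 hone).symm
  -- Burnside
  let Q : Sylow p N := IsPGroup.toSylow (P := (P : Subgroup G).subgroupOf N)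
    (P.isPGroup'.comap_of_injective N.subtype N.subtype_injective)
    (Thompson.not_dvd_relIndex_sylow P N)
  have hQ : (Q : Subgroup N) = (P : Subgroup G).subgroupOf N := rfl
  have hQN : normalizer ((Q : Subgroup N) : Set N) ≤ centralizer ((Q : Subgroup N) : Set N) := by
    intro a ha
    have ha' : (a : G) ∈ H := by
      refine hnc (mem_inf.2 ⟨a.2, mem_normalizer_iff.2 fun z => ⟨fun hz => ?_, fun hz => ?_⟩⟩)
      · have h1 : (⟨z, (mem_inf.1 hz).2⟩ : N) ∈ (Q : Subgroup N) := by
          rw [hQ]; exact mem_subgroupOf.2 (mem_inf.1 hz).1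
        have h2 := (mem_normalizer_iff.1 ha _).1 h1
        rw [hQ, mem_subgroupOf] at h2
        exact mem_inf.2 ⟨h2, hN.conj_mem _ (mem_inf.1 hz).2 _⟩
      · have hzN : z ∈ N := by
          have := hN.conj_mem _ (mem_inf.1 hz).2 (a : G)⁻¹
          simpa [mul_assoc] using this
        have h2 : a * (⟨z, hzN⟩ : N) * a⁻¹ ∈ (Q : Subgroup N) := by
          rw [hQ]; exact mem_subgroupOf.2 (mem_inf.1 hz).1
        have h1 := (mem_normalizer_iff.1 ha _).2 h2
        rw [hQ, mem_subgroupOf] at h1
        exact mem_inf.2 ⟨h1, hzN⟩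
    rw [mem_centralizer_iff]
    intro q hq
    rw [hQ] at hq
    exact Subtype.ext ((mem_centralizer_iff.1 ha') _ (mem_inf.2 ⟨mem_subgroupOf.1 hq, q.2⟩))
  have hR := MonoidHom.ker_transferSylow_isComplement' Q hQN
  set R := (MonoidHom.transferSylow Q hQN).ker with hRdef
  have hRnd : ¬ p ∣ Nat.card R := MonoidHom.not_dvd_card_ker_transferSylow Q hQN
  have hRmem : ∀ v : N, v ∈ R ↔ ¬ p ∣ orderOf v := fun v => by
    constructor
    · intro hv hd
      exact hRnd (hd.trans (Subgroup.orderOf_dvd_natCard R hv))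
    · intro hv
      rw [hRdef, MonoidHom.mem_ker]
      obtain ⟨i, hi⟩ := IsPGroup.iff_orderOf.1 Q.isPGroup' (MonoidHom.transferSylow Q hQN v)
      rw [← orderOf_eq_one_iff, hi]
      rcases i with - | i
      · rfl
      · exact absurd ((dvd_pow_self p (Nat.succ_ne_zero i)).trans (hi ▸ orderOf_map_dvd _ v)) hv
  have hRn : (R.map N.subtype).Normal := ⟨by
    rintro _ ⟨v, hv, rfl⟩ g
    refine ⟨⟨g * v * g⁻¹, hN.conj_mem _ v.2 g⟩, ?_, rfl⟩
    rw [SetLike.mem_coe, hRmem, ← Subgroup.orderOf_coe, ← (SemiconjBy.conj_mk g (v : G)).orderOf_eq,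
      Subgroup.orderOf_coe, ← hRmem]
    exact hv⟩
  have hRbot : R = ⊥ := by
    have hle : R.map N.subtype ≤ Cfsg.pPrimeCore p G := le_sSup ⟨hRn, by
      rw [card_map_of_injective N.subtype_injective]
      exact (hpp.coprime_iff_not_dvd.2 hRnd).symm⟩
    rw [hcore, le_bot_iff] at hle
    exact (map_eq_bot_iff_of_injective R N.subtype_injective).1 hle
  have hQtop : (Q : Subgroup N) = ⊤ := isComplement'_bot_left.1 (hRbot ▸ hR)
  have hNP : N = Z := le_antisymm (fun v hv => mem_inf.2 ⟨mem_subgroupOf.1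
    (show (⟨v, hv⟩ : N) ∈ (P : Subgroup G).subgroupOf N from hQ ▸ hQtop.symm ▸ mem_top _), hv⟩) inf_le_right
  have hNcard : Nat.card N = p := by rw [hNP, hcard]
  refine ⟨hNcard, ?_⟩
  haveI : IsCyclic N := isCyclic_of_prime_card hNcard
  have hCtop : centralizer (N : Set G) = ⊤ := by
    refine hres _ (normal_centralizer (H := N)) ?_
    refine Nat.Coprime.coprime_dvd_left (k := p.totient) ?_ ?_
    · let φ : G →* MulAut N := MulAut.conjNormal
      have hker : φ.ker ≤ centralizer (N : Set G) := fun g hg => mem_centralizer_iff.2 fun v hv => by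
        have h1 := congrArg (fun f : MulAut N => ((f ⟨v, hv⟩ : N) : G)) (MonoidHom.mem_ker.1 hg)
        simp only [φ, MulAut.conjNormal_apply, MulAut.one_apply] at h1
        rw [mul_inv_eq_iff_eq_mul] at h1
        exact h1.symm
      refine (index_dvd_of_le hker).trans ?_
      rw [index_ker, ← hNcard, ← IsCyclic.card_mulAut N]
      exact card_subgroup_dvd_card _
    · rw [Nat.totient_prime hpp, Nat.coprime_comm, hpp.coprime_iff_not_dvd]
      intro h
      have := Nat.le_of_dvd (by have := hpp.two_le; omega) h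
      have := hpp.two_le
      omega
  intro v hv
  exact mem_center_iff.2 fun g => ((mem_centralizer_iff.1 (hCtop.symm ▸ mem_top g)) v hv).symm

/-- Let G be a finite group whose Sylow p-subgroup P has order p ^ n with n ≥ 2 and nilpotency class n - 1 (maximal class), whose largest normal subgroup of order prime to p is trivial, and which has no proper normal subgroup of index prime to p. Then either some x ∈ P has a centralizer in G whose order has p-part p ^ 2, or G is quasisimple with centre of order at most p. -/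
theorem result {G : Type*} [Group G] [Finite G] (p : ℕ) [Fact p.Prime] (P : Sylow p G) (n : ℕ) (hP : Nat.card P = p ^ n) (hn : 2 ≤ n) (hmax : Group.nilpotencyClass ↥(P : Subgroup G) = n - 1) (hcore : Cfsg.pPrimeCore p G = ⊥) (hres : ∀ N : Subgroup G, N.Normal → (N.index).Coprime p → N = ⊤) : (∃ x ∈ (P : Subgroup G), (Nat.card (Subgroup.centralizer ({x} : Set G))).factorization p = 2) ∨ (Cfsg.IsQuasisimple G ∧ Nat.card (Subgroup.center G) ≤ p) := by
  have hpp : p.Prime := Fact.out
  rcases eq_or_lt_of_le hn with rfl | hn3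
  · left
    have : IsMulCommutative ↥(P : Subgroup G) := IsPGroup.isMulCommutative_of_card_eq_prime_sq hP
    refine ⟨1, one_mem _, factorization_eq_two Nat.card_pos.ne' ?_ ?_⟩
    · rw [← hP]
      exact card_dvd_of_le fun g _ => mem_centralizer_singleton_iff.2 (by simp)
    · intro hd
      have h := hd.trans (card_subgroup_dvd_card _)
      rw [← (P : Subgroup G).card_mul_index, hP] at h
      have h2 := ((hpp.coprime_iff_not_dvd.2 P.not_dvd_index).pow_left 3).dvd_of_dvd_mul_right h
      rw [Nat.pow_dvd_pow_iff_le_right hpp.one_lt] at h2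
      omega
  set X := (P : Subgroup G) with hXdef
  have hM : MaxClass.TwoStep.MCl p n X := ⟨hn3, hP, hmax⟩
  have hXne : ¬ IsMulCommutative X := fun hc => by
    obtain ⟨y, -, hy⟩ := MaxClass.GoodElement.exists_good hM ⊥ (fun e => by
      have := congrArg (fun H : Subgroup X => Nat.card H) e
      simp only [card_bot, card_top, hP] at this
      exact (Nat.one_lt_pow (by omega) hpp.one_lt).ne this)
    have htop : centralizer ({y} : Set X) = ⊤ :=
      eq_top_iff.2 fun g _ => mem_centralizer_singleton_iff.2 (hc.is_comm.comm g y)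
    rw [htop, card_top, hP] at hy
    have := Nat.pow_right_injective hpp.two_le hy
    omega
  by_cases hsim : ∀ N : Subgroup G, N.Normal → N = ⊥ ∨ N = ⊤
  · right
    have hnt : Nontrivial G := by
      by_contra hh
      rw [not_nontrivial_iff_subsingleton] at hh
      exact hXne ⟨⟨fun a b => Subsingleton.elim _ _⟩⟩
    haveI : IsSimpleGroup G := ⟨hsim⟩
    have hc : center G = ⊥ := (hsim _ inferInstance).resolve_right fun e => hXne
      ⟨⟨fun a b => Subtype.ext (mem_center_iff.1 (e.symm ▸ mem_top (b : G) : (b : G) ∈ center G) a)⟩⟩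
    refine ⟨⟨⟨(hsim _ inferInstance).resolve_left fun e => hXne ⟨⟨fun a b => Subtype.ext
      (commutatorElement_eq_one_iff_mul_comm.1 (mem_bot.1 (e ▸ commutator_mem_commutator (mem_top (a : G))
        (mem_top (b : G)))))⟩⟩⟩, ?_⟩, by rw [hc, card_bot]; exact hpp.pos⟩
    haveI : Nontrivial (G ⧸ center G) := Finite.one_lt_card_iff_nontrivial.1 (by
      rw [← index_eq_card, hc, index_bot]; exact Finite.one_lt_card)
    exact IsSimpleGroup.isSimpleGroup_of_surjective (QuotientGroup.mk' (center G)) (QuotientGroup.mk'_surjective _)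
  push Not at hsim
  obtain ⟨N₀, hN₀, hN₀b, hN₀t⟩ := hsim
  obtain ⟨N, hN₀N, ⟨hNn, hNb, hNt⟩, hmax'⟩ := Finite.exists_le_maximal
    (p := fun N : Subgroup G => N.Normal ∧ N ≠ ⊥ ∧ N ≠ ⊤) ⟨hN₀, hN₀b, hN₀t⟩
  haveI := hNn
  have hmaxN : ∀ S : Subgroup G, S.Normal → N ≤ S → S = N ∨ S = ⊤ := fun S hS hle => by
    by_cases hSt : S = ⊤
    · exact Or.inr hSt
    · exact Or.inl (le_antisymm (hmax' ⟨hS, fun e => hNb (le_bot_iff.1 (e ▸ hle)), hSt⟩ hle) hle)
  have hrel : ¬ p ∣ (X ⊓ N).relIndex N := by
    rw [inf_relIndex_right]; exact Thompson.not_dvd_relIndex_sylow P N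
  set M := N.subgroupOf X with hMdef
  have hMcard : Nat.card ↥(X ⊓ N) = Nat.card M := by
    rw [← Nat.card_congr (subgroupOfEquivOfLe (inf_le_left : X ⊓ N ≤ X)).toEquiv]
    congr 1
    rw [hMdef, inf_subgroupOf_left]
  obtain ⟨k, hk⟩ := IsPGroup.iff_card.1 (hM.pgrp.to_subgroup M)
  have hk1 : 1 ≤ k := by
    by_contra hlt
    refine hNb (le_bot_iff.1 ?_)
    rw [← hcore]
    refine le_sSup ⟨hNn, (hpp.coprime_iff_not_dvd.2 fun hd => hrel ?_).symm⟩
    have h0 : Nat.card ↥(X ⊓ N) = 1 := by rw [hMcard, hk, show k = 0 by omega, pow_zero]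
    rwa [card_eq_one.1 h0, relIndex_bot_left]
  have hMt : M ≠ ⊤ := fun e => by
    refine hNt (hres N hNn ((hpp.coprime_iff_not_dvd.2 fun hd => ?_).symm))
    exact P.not_dvd_index (hd.trans (index_dvd_of_le (subgroupOf_eq_top.1 e)))
  obtain ⟨r, hr⟩ := hM.pgrp.index M
  have hkr : k + r = n := Nat.pow_right_injective hpp.two_le (show p ^ (k + r) = p ^ n by
    rw [pow_add, ← hk, ← hr, M.card_mul_index, hP])
  have hr1 : r ≠ 0 := fun e => hMt (index_eq_one.1 (by rw [hr, e, pow_zero]))
  have hMn : M.Normal := inferInstance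
  by_cases hr' : r = 1
  · -- P' ≤ N
    left
    obtain ⟨y, hy, hyc⟩ := MaxClass.GoodElement.exists_good hM M hMt
    refine witness P hP N (fun g hg h hh => ?_) y (fun e => hy (mem_subgroupOf.2 e)) hyc
    haveI : IsCyclic (X ⧸ M) := isCyclic_of_prime_card (p := p) (by rw [← index_eq_card, hr, hr', pow_one])
    exact mem_subgroupOf.1 (Subgroup.Normal.quotient_commutative_iff_commutator_le.1
      (IsCyclic.isMulCommutative (α := X ⧸ M)) (commutator_mem_commutator (mem_top (⟨g, hg⟩ : X)) (mem_top ⟨h, hh⟩)))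
  have hML : M = (⊤ : Subgroup X).lowerCentralSeries (r - 1) :=
    (S0662.result n hP hmax (by omega)).1 M r (by omega) hr
  rcases (by omega : k = 1 ∨ k = 2 ∨ 3 ≤ k) with hk' | hk' | hk'
  · -- N is central
    right
    have hd1 : X ⊓ N ≤ ⁅X, X⁆ := by
      intro z hz
      have h1 : (⟨z, (mem_inf.1 hz).1⟩ : X) ∈ (⊤ : Subgroup X).lowerCentralSeries 1 :=
        Subgroup.lowerCentralSeries_antitone _ (show 1 ≤ r - 1 by omega)
          (hML ▸ mem_subgroupOf.2 (mem_inf.1 hz).2)
      have h2 := mem_map_of_mem X.subtype h1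
      rwa [show ((⊤ : Subgroup X).lowerCentralSeries 1).map X.subtype = ⁅X, X⁆ from by
        show ((⁅(⊤ : Subgroup ↥X), (⊤ : Subgroup ↥X)⁆ : Subgroup ↥X)).map X.subtype = _
        rw [map_commutator, ← MonoidHom.range_eq_map, range_subtype]] at h2
    have hd2 : ∀ z ∈ X ⊓ N, ∀ g ∈ X, g * z = z * g := by
      intro z hz g hg
      have h1 : (⟨z, (mem_inf.1 hz).1⟩ : X) ∈ (⊤ : Subgroup X).lowerCentralSeries (n - 2) := by
        have this : (⟨z, (mem_inf.1 hz).1⟩ : X) ∈ M := mem_subgroupOf.2 (mem_inf.1 hz).2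
        rw [hML, show r - 1 = n - 2 by omega] at this
        exact this
      have h2 := h1
      exact congrArg Subtype.val (hM.commute_of_mem (i := 0) (a := (⟨g, hg⟩ : X))
        (by simp) h2 (by omega)).eq
    obtain ⟨hNp, hNc⟩ := central_of_small P hcore hres N (by rw [hMcard, hk, hk', pow_one]) hd1 hd2
    have hcN : center G = N := by
      refine (hmaxN _ inferInstance hNc).resolve_right fun e => hXne ⟨⟨fun a b => Subtype.ext ?_⟩⟩
      exact mem_center_iff.1 (e.symm ▸ mem_top (b : G) : (b : G) ∈ center G) a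
    haveI hnt : Nontrivial (G ⧸ center G) := Finite.one_lt_card_iff_nontrivial.1 (by
      rw [← index_eq_card, hcN]
      rcases Nat.eq_zero_or_pos N.index with h0 | h0
      · exact absurd h0 index_ne_zero_of_finite
      · exact lt_of_le_of_ne h0 fun e => hNt (index_eq_one.1 e.symm))
    haveI hsimple : IsSimpleGroup (G ⧸ center G) := ⟨fun S hS => by
      rcases hmaxN _ (hS.comap (QuotientGroup.mk' (center G)))
        (hcN ▸ (QuotientGroup.ker_mk' (center G)).symm.le.trans (ker_le_comap _ _)) with h | h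
      · left
        rw [← map_comap_eq_self_of_surjective (QuotientGroup.mk'_surjective (center G)) S, h, ← hcN,
          Subgroup.map_eq_bot_iff, QuotientGroup.ker_mk']
      · right
        rw [← map_comap_eq_self_of_surjective (QuotientGroup.mk'_surjective (center G)) S, h,
          map_top_of_surjective _ (QuotientGroup.mk'_surjective (center G))]⟩
    refine ⟨⟨⟨?_⟩, hsimple⟩, by rw [hcN, hNp]⟩
    by_contra hG'
    have hNG' : N ≤ commutator G := by
      have hne : commutator G ≠ ⊥ := fun e => hXne ⟨⟨fun a b => Subtype.ext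
        (commutatorElement_eq_one_iff_mul_comm.1 (mem_bot.1 (e ▸ commutator_mem_commutator (mem_top (a : G))
          (mem_top (b : G)))))⟩⟩
      rcases (Nat.dvd_prime hpp).1 (hNp ▸ card_dvd_of_le (inf_le_left : N ⊓ commutator G ≤ N)) with h | h
      · exfalso
        rcases hmaxN (N ⊔ commutator G) inferInstance le_sup_left with h1 | h1
        · have h2 : commutator G ≤ N ⊓ commutator G := le_inf (h1 ▸ le_sup_right) le_rfl
          rw [card_eq_one.1 h, le_bot_iff] at h2
          exact hne h2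
        · have hd : (commutator G).index ∣ p := by
            rw [← hNp, ← relIndex_top_right, ← h1, relIndex_sup_right]
            exact Subgroup.relIndex_dvd_card _ _
          rcases (Nat.dvd_prime hpp).1 hd with h2 | h2
          · exact hG' (index_eq_one.1 h2)
          · have hPd : ∀ a b : X, ⁅(a : G), (b : G)⁆ ∈ commutator G := fun a b =>
              commutator_mem_commutator (mem_top _) (mem_top _)
            have hPN : N ≤ commutator G := fun v hv => by
              have hvX : v ∈ ⁅X, X⁆ := by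
                have hvP : v ∈ X := (mem_inf.1 ((eq_of_le_of_card_ge (inf_le_right : X ⊓ N ≤ N)
                  (by rw [hNp, hMcard, hk, hk', pow_one])).symm ▸ hv : v ∈ X ⊓ N)).1
                have h4 : (⟨v, hvP⟩ : X) ∈ (⊤ : Subgroup X).lowerCentralSeries 1 :=
                  Subgroup.lowerCentralSeries_antitone _ (show 1 ≤ r - 1 by omega)
                    (hML ▸ mem_subgroupOf.2 hv)
                have h5 := mem_map_of_mem X.subtype h4
                rwa [show ((⊤ : Subgroup X).lowerCentralSeries 1).map X.subtype = ⁅X, X⁆ from by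
                  show ((⁅(⊤ : Subgroup ↥X), (⊤ : Subgroup ↥X)⁆ : Subgroup ↥X)).map X.subtype = _
                  rw [map_commutator, ← MonoidHom.range_eq_map, range_subtype]] at h5
              exact commutator_mono le_top le_top hvX
            rw [inf_eq_left.2 hPN, hNp] at h
            exact hpp.ne_one h
      · exact inf_eq_left.1 (eq_of_le_of_card_ge inf_le_left (by rw [h, hNp]))
    have hG'eq : commutator G = N := (hmaxN _ inferInstance hNG').resolve_right hG'
    haveI : IsCyclic (G ⧸ center G) := by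
      haveI : IsMulCommutative (G ⧸ center G) := Subgroup.Normal.quotient_commutative_iff_commutator_le.2
        (hcN ▸ hG'eq.le)
      letI : CommGroup (G ⧸ center G) := { mul_comm := fun a b => IsMulCommutative.is_comm.comm a b }
      infer_instance
    exact hXne ⟨⟨fun a b => Subtype.ext (commutative_of_cyclic_center_quotient
      (QuotientGroup.mk' (center G)) (QuotientGroup.ker_mk' _).le (a : G) b)⟩⟩
  · -- the Sylow subgroup of N has order p²
    exfalso
    set L := (⊤ : Subgroup X).lowerCentralSeries (n - 3) with hLdef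
    have hML3 : M = L := by rw [hML, hLdef, show r - 1 = n - 3 by omega]
    obtain ⟨a, ha, ha'⟩ := hM.ne_step (i := n - 3) (by omega) (by omega)
    have hcen : ∀ u : X, Commute u a → (u : G) ∈ centralizer ((X ⊓ N : Subgroup G) : Set G) := by
      intro u hu
      refine mem_centralizer_iff.2 fun v hv => ?_
      have hvL : (⟨v, (mem_inf.1 hv).1⟩ : X) ∈ L := hML3 ▸ mem_subgroupOf.2 (mem_inf.1 hv).2
      obtain ⟨i, e, he, hve⟩ := hM.decomp (by omega) ha ha' hvL
      have h1 : Commute u e := hM.commute_of_mem (i := 0) (by simp) he (by omega)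
      have h2 := ((hu.zpow_right i).mul_right h1).symm.eq
      rw [← hve] at h2
      exact congrArg Subtype.val h2
    have hcard := MaxClass.GoodElement.card_le_mul_centralizer (⊤ : Subgroup X)
      ((⊤ : Subgroup X).lowerCentralSeries (n - 2)) a fun u _ => by
        have := MaxClass.Graded.L_comm (i := 0) (a := u) (by simp) ha
        rwa [show 0 + (n - 3) + 1 = n - 2 by omega] at this
    rw [card_top, top_inf_eq, hP, hM.cardL (by omega), show n - 1 - (n - 2) = 1 by omega, pow_one] at hcard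
    set C := centralizer ((X ⊓ N : Subgroup G) : Set G) with hCdef
    set Γ := normalizer ((X ⊓ N : Subgroup G) : Set G) with hΓdef
    have hΓN : Γ ⊔ N = ⊤ := Fusion.normalizer_sylow_inf_sup_eq_top P N
    have hconjC : ∀ g ∈ Γ, ∀ w ∈ C, g * w * g⁻¹ ∈ C := fun g hg w hw => mem_centralizer_iff.2 fun v hv => by
      have hv' : g⁻¹ * v * g ∈ X ⊓ N := by simpa using (mem_normalizer_iff.1 (inv_mem hg) v).1 hv
      calc v * (g * w * g⁻¹) = g * ((g⁻¹ * v * g) * w) * g⁻¹ := by group
        _ = g * (w * (g⁻¹ * v * g)) * g⁻¹ := by rw [(mem_centralizer_iff.1 hw) _ hv']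
        _ = g * w * g⁻¹ * v := by group
    have hCN : (C ⊔ N).Normal := by
      refine ⟨fun w hw g => ?_⟩
      have hg : g ∈ Γ ⊔ N := hΓN ▸ mem_top g
      obtain ⟨g₁, hg₁, v, hv, rfl⟩ := mem_sup_of_normal_right.1 hg
      have h1 : ∀ w ∈ C ⊔ N, g₁ * w * g₁⁻¹ ∈ C ⊔ N := by
        have : C ⊔ N ≤ (C ⊔ N).comap (MulAut.conj g₁).toMonoidHom := sup_le
          (fun w hw => mem_comap.2 (mem_sup_left (hconjC g₁ hg₁ w hw)))
          (fun w hw => mem_comap.2 (mem_sup_right (hNn.conj_mem w hw g₁)))
        exact fun w hw => this hw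
      rw [show g₁ * v * w * (g₁ * v)⁻¹ = g₁ * (v * w * v⁻¹) * g₁⁻¹ by group]
      exact h1 _ (mul_mem (mul_mem (mem_sup_right hv) hw) (inv_mem (mem_sup_right hv)))
    rcases hmaxN _ hCN le_sup_right with h | h
    · have hle : centralizer ({a} : Set X) ≤ M := fun u hu => mem_subgroupOf.2
        (h ▸ mem_sup_left (hcen u (mem_centralizer_singleton_iff.1 hu)))
      have h1 := hcard.trans (Nat.mul_le_mul_left p (card_le_of_le hle))
      rw [hk, hk', ← pow_succ', Nat.pow_le_pow_iff_right hpp.one_lt] at h1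
      omega
    · have hMC : X ⊓ N ≤ C := fun u hu => mem_centralizer_iff.2 fun v hv => by
        have hc2 : IsMulCommutative ↥(X ⊓ N) :=
          IsPGroup.isMulCommutative_of_card_eq_prime_sq (p := p) (by rw [hMcard, hk, hk'])
        exact congrArg Subtype.val (hc2.is_comm.comm (⟨v, hv⟩ : ↥(X ⊓ N)) ⟨u, hu⟩)
      haveI hCn : (C.subgroupOf Γ).Normal := ⟨fun w hw g => mem_subgroupOf.2
        (hconjC _ g.2 _ (mem_subgroupOf.1 hw))⟩
      have hXΓ : X ≤ Γ := fun g hg => mem_normalizer_iff.2 fun v => ⟨fun hv => mem_inf.2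
        ⟨mul_mem (mul_mem hg (mem_inf.1 hv).1) (inv_mem hg), hNn.conj_mem _ (mem_inf.1 hv).2 g⟩,
        fun hv => mem_inf.2 ⟨(mul_mem_cancel_left hg).1 ((mul_mem_cancel_right (inv_mem hg)).1 (mem_inf.1 hv).1),
          by simpa [mul_assoc] using hNn.conj_mem _ (mem_inf.1 hv).2 g⁻¹⟩⟩
      have hXC : X ≤ C := by
        intro g hg
        obtain ⟨c', hc', v, hv, hgv⟩ := mem_sup_of_normal_right.1 (h.symm ▸ mem_top g : g ∈ C ⊔ N)
        have hc'Γ : c' ∈ Γ := centralizer_le_normalizer _ hc'
        have hvΓ : v ∈ Γ := by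
          rw [show v = c'⁻¹ * g by rw [← hgv]; group]; exact mul_mem (inv_mem hc'Γ) (hXΓ hg)
        set q := QuotientGroup.mk' (C.subgroupOf Γ) with hq
        set v' : Γ := ⟨v, hvΓ⟩
        set g' : Γ := ⟨g, hXΓ hg⟩
        have e1 : q g' = q v' := by
          have : g' = ⟨c', hc'Γ⟩ * v' := Subtype.ext hgv.symm
          rw [this, map_mul, show q ⟨c', hc'Γ⟩ = 1 from (QuotientGroup.eq_one_iff _).2 (mem_subgroupOf.2 hc'), one_mul]
        haveI : ((C.subgroupOf Γ).subgroupOf (N.subgroupOf Γ)).Normal := inferInstance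
        have h2 := pow_index_mem ((C.subgroupOf Γ).subgroupOf (N.subgroupOf Γ)) ⟨v', mem_subgroupOf.2 hv⟩
        set e := ((C.subgroupOf Γ).subgroupOf (N.subgroupOf Γ)).index with hedef
        have he : ¬ p ∣ e := by
          intro hd
          refine hrel (hd.trans ?_)
          have e2 : e = C.relIndex (N ⊓ Γ) := by
            rw [hedef, ← inf_subgroupOf_right N Γ]
            exact relIndex_subgroupOf inf_le_right
          rw [e2]
          refine (relIndex_dvd_of_le_left _ hMC).trans ?_
          exact Dvd.intro _ (relIndex_mul_relIndex (X ⊓ N) (N ⊓ Γ) N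
            (le_inf inf_le_right le_normalizer) inf_le_left)
        have h3 : q g' ^ e = 1 := by
          rw [e1, ← map_pow]
          exact (QuotientGroup.eq_one_iff _).2 (mem_subgroupOf.1 h2)
        have h4 : q g' ^ (p ^ n) = 1 := by
          have h6 := pow_card_eq_one' (x := (⟨g, hg⟩ : X))
          rw [hP] at h6
          have h7 : g' ^ (p ^ n) = 1 := Subtype.ext (by simpa [g', Subtype.ext_iff] using h6)
          rw [← map_pow, h7, map_one]
        have h5 : q g' = 1 := orderOf_eq_one_iff.1 (Nat.eq_one_of_dvd_coprimes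
          ((hpp.coprime_iff_not_dvd.2 he).pow_left n) (orderOf_dvd_of_pow_eq_one h4)
          (orderOf_dvd_of_pow_eq_one h3))
        exact mem_subgroupOf.1 ((QuotientGroup.eq_one_iff _).1 h5)
      have hK : MaxClass.TwoStep.K X (n - 3) = ⊤ := by
        refine eq_top_iff.2 fun g _ => MaxClass.TwoStep.mem_K.2 fun b hb => ?_
        rw [commutatorElement_eq_one_iff_mul_comm.2 ?_]
        · exact one_mem _
        · exact Subtype.ext ((mem_centralizer_iff.1 (hXC g.2)) (b : G)
            (mem_inf.2 ⟨b.2, mem_subgroupOf.1 (hML3.symm ▸ hb : b ∈ M)⟩)).symm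
      exact hM.K_ne_top (by omega) le_rfl hK
  · -- the Sylow subgroup of N has order at least p³
    left
    obtain ⟨y, hy, hyc⟩ := MaxClass.GoodElement.exists_good hM M hMt
    refine ⟨y, y.2, factorization_eq_two Nat.card_pos.ne'
      (hyc ▸ card_inf_centralizer_eq X y ▸ card_dvd_of_le inf_le_right) fun hd => ?_⟩
    set x : G := y.1 with hx
    have hxN : x ∉ N := fun e => hy (mem_subgroupOf.2 e)
    have hxA : Nat.card ↥(X ⊓ centralizer ({x} : Set G)) = p ^ 2 := (card_inf_centralizer_eq X y).trans hyc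
    -- p ^ 2 does not divide the centraliser of x in N
    have hCN : ¬ p ^ 2 ∣ Nat.card ↥(N ⊓ centralizer ({x} : Set G)) := by
      set G₁ := (zpowers (QuotientGroup.mk' N x)).comap (QuotientGroup.mk' N) with hG₁
      have hxG₁ : x ∈ G₁ := mem_zpowers _
      have hNG₁ : N ≤ G₁ := fun v hv => by
        rw [hG₁, mem_comap, show QuotientGroup.mk' N v = 1 from (QuotientGroup.eq_one_iff v).2 hv]; exact one_mem _
      have hiG₁ : N.relIndex G₁ = orderOf (QuotientGroup.mk' N x) := by
        conv_lhs => rw [show N = (QuotientGroup.mk' N).ker from (QuotientGroup.ker_mk' N).symm]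
        rw [relIndex_ker, hG₁, map_comap_eq_self_of_surjective (QuotientGroup.mk'_surjective N), Nat.card_zpowers]
      have hord : orderOf (QuotientGroup.mk' N x) ∣ p ^ n := (orderOf_map_dvd _ x).trans (by
        rw [← hP, hx, Subgroup.orderOf_coe]; exact orderOf_dvd_natCard y)
      have hsyl : ¬ p ∣ X.relIndex G₁ := by
        intro hd
        have h1 : (X ⊓ G₁).relIndex G₁ * 1 = X.relIndex G₁ := by rw [mul_one, inf_relIndex_right]
        set T := X ⊓ G₁ with hT
        have h2 := relIndex_mul_relIndex T (T ⊔ N) G₁ le_sup_left (sup_le inf_le_right hNG₁)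
        have h3 : T ⊔ N = G₁ := by
          refine le_antisymm (sup_le inf_le_right hNG₁) fun g hg => ?_
          obtain ⟨i, hi⟩ := mem_zpowers_iff.1 (mem_comap.1 hg)
          rw [← map_zpow] at hi
          obtain ⟨v, hv, hgv⟩ := (QuotientGroup.mk'_eq_mk' N).1 hi
          rw [← hgv]
          exact mul_mem (mem_sup_left (mem_inf.2 ⟨zpow_mem (y.2) i, zpow_mem hxG₁ i⟩)) (mem_sup_right hv)
        rw [h3, relIndex_self, mul_one] at h2
        rw [← inf_relIndex_right, ← hT, ← h3] at hd
        refine hrel (hd.trans (dvd_of_eq ?_))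
        have h6 : X ⊓ N = T ⊓ N := by rw [hT, inf_assoc, inf_eq_right.2 hNG₁]
        have h4 := Core.card_sup_mul_card_inf T N
        have h7 := relIndex_mul_relIndex ⊥ T (T ⊔ N) bot_le le_sup_left
        have h8 := relIndex_mul_relIndex ⊥ (T ⊓ N) N bot_le inf_le_right
        rw [relIndex_bot_left, relIndex_bot_left] at h7 h8
        rw [h6]
        refine Nat.eq_of_mul_eq_mul_left (Nat.mul_pos (Nat.card_pos (α := T)) (Nat.card_pos (α := ↥(T ⊓ N)))) ?_
        calc _ = Nat.card ↥(T ⊔ N) * Nat.card ↥(T ⊓ N) := by rw [← h7]; ring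
          _ = Nat.card T * Nat.card N := h4
          _ = _ := by rw [← h8]; ring
      let P₁ : Sylow p G₁ := IsPGroup.toSylow (P := X.subgroupOf G₁)
        (P.isPGroup'.comap_of_injective G₁.subtype G₁.subtype_injective) hsyl
      have hP₁ : (P₁ : Subgroup G₁) = X.subgroupOf G₁ := rfl
      obtain ⟨n₁, hn₁⟩ := IsPGroup.iff_card.1 P₁.isPGroup'
      haveI : (N.subgroupOf G₁).Normal := inferInstance
      set x₁ : G₁ := ⟨x, hxG₁⟩
      have hcent : centralizer ({x₁} : Set G₁) = (centralizer ({x} : Set G)).subgroupOf G₁ := by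
        ext g
        rw [mem_subgroupOf, mem_centralizer_singleton_iff, mem_centralizer_singleton_iff, Subtype.ext_iff]
        rfl
      have hAle : X ⊓ centralizer ({x} : Set G) ≤ G₁ := by
        intro g hg
        have hgA := hg
        set A := X ⊓ centralizer ({x} : Set G) with hA
        have hxA' : x ∈ A := mem_inf.2 ⟨y.2, mem_centralizer_singleton_iff.2 rfl⟩
        rcases eq_or_ne (A ⊓ G₁) A with h | h
        · exact (mem_inf.1 (h.symm ▸ hg : g ∈ A ⊓ G₁)).2
        exfalso
        obtain ⟨Z, hZM, hZc, -, hZp⟩ := Fusion.exists_central_card_prime hM.pgrp M (fun e => by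
          rw [e, card_bot] at hk
          exact (Nat.one_lt_pow (by omega) hpp.one_lt).ne hk)
        have hle : Z.map X.subtype ⊔ zpowers x ≤ A ⊓ G₁ := sup_le (by
          rintro _ ⟨z, hz, rfl⟩
          exact mem_inf.2 ⟨mem_inf.2 ⟨z.2, mem_centralizer_singleton_iff.2
            (congrArg Subtype.val (mem_center_iff.1 (hZc hz) y)).symm⟩, hNG₁ (mem_subgroupOf.1 (hZM hz))⟩)
          (zpowers_le.2 (mem_inf.2 ⟨hxA', hxG₁⟩))
        have h1 : p < Nat.card ↥(A ⊓ G₁) := by
          refine lt_of_lt_of_le ?_ (card_le_of_le hle)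
          have h2 : Nat.card ↥(Z.map X.subtype) = p := by
            rw [card_map_of_injective X.subtype_injective, hZp]
          rw [← h2]
          refine lt_of_le_of_ne (card_le_of_le le_sup_left) fun e => hxN ?_
          have h3 := eq_of_le_of_card_ge (le_sup_left : Z.map X.subtype ≤ _) e.ge
          obtain ⟨z, hz, hzx⟩ := (h3.symm ▸ mem_sup_right (mem_zpowers x) : x ∈ Z.map X.subtype)
          rw [← hzx]
          exact mem_subgroupOf.1 (hZM hz)
        obtain ⟨j, hj, hj'⟩ := (Nat.dvd_prime_pow hpp).1 (hxA ▸ card_dvd_of_le (inf_le_left : A ⊓ G₁ ≤ A))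
        refine h (eq_of_le_of_card_ge inf_le_left ?_)
        rw [hxA, hj']
        refine Nat.pow_le_pow_right hpp.pos ?_
        by_contra hlt
        rw [hj'] at h1
        have := Nat.pow_le_pow_right hpp.pos (show j ≤ 1 by omega)
        rw [pow_one] at this
        omega
      have hA₁ : Nat.card ↥((P₁ : Subgroup G₁) ⊓ centralizer ({x₁} : Set G₁)) = p ^ 2 := by
        rw [hP₁, hcent, show X.subgroupOf G₁ ⊓ (centralizer ({x} : Set G)).subgroupOf G₁ =
          (X ⊓ centralizer ({x} : Set G)).subgroupOf G₁ from (comap_inf _ _ G₁.subtype).symm,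
          Nat.card_congr (subgroupOfEquivOfLe hAle).toEquiv, hxA]
      have hkey := MaxClass.SelfCentFusion.not_cube_dvd n₁ G₁ P₁ (N.subgroupOf G₁) x₁ hn₁
        (by rw [hP₁]; exact mem_subgroupOf.2 y.2) (fun e => hxN (mem_subgroupOf.1 e)) hA₁
        (fun g _ h _ => by
          rw [mem_subgroupOf]
          show ⁅(g : G), (h : G)⁆ ∈ N
          obtain ⟨i, hi⟩ := mem_zpowers_iff.1 (mem_comap.1 g.2)
          obtain ⟨j, hj⟩ := mem_zpowers_iff.1 (mem_comap.1 h.2)
          rw [← QuotientGroup.eq_one_iff, ← QuotientGroup.mk'_apply, map_commutatorElement,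
            commutatorElement_eq_one_iff_mul_comm, ← hi, ← hj, zpow_mul_comm])
      intro hd2
      refine hkey ?_
      rw [hcent]
      have hsub : N ⊓ centralizer ({x} : Set G) ≤ G₁ ⊓ centralizer ({x} : Set G) := inf_le_inf_right _ hNG₁
      have h1 := relIndex_mul_relIndex ⊥ _ _ bot_le hsub
      rw [relIndex_bot_left, relIndex_bot_left] at h1
      have h2 : (N ⊓ centralizer ({x} : Set G)).relIndex (G₁ ⊓ centralizer ({x} : Set G)) ∣ p ^ n := by
        rw [← inf_relIndex_right, show N ⊓ centralizer ({x} : Set G) ⊓ (G₁ ⊓ centralizer ({x} : Set G)) =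
          N ⊓ (G₁ ⊓ centralizer ({x} : Set G)) by rw [inf_inf_inf_comm]; simp [inf_assoc],
          inf_relIndex_right]
        rw [← relIndex_subgroupOf (inf_le_left : G₁ ⊓ centralizer ({x} : Set G) ≤ G₁)]
        exact (relIndex_dvd_index_of_normal (N.subgroupOf G₁) _).trans ((dvd_of_eq hiG₁).trans hord)
      obtain ⟨j, -, hj⟩ := (Nat.dvd_prime_pow hpp).1 h2
      have hj0 : j ≠ 0 := fun e => by
        rw [e, pow_zero] at hj
        exact hxN (mem_inf.1 (relIndex_eq_one.1 hj (mem_inf.2 ⟨hxG₁, mem_centralizer_singleton_iff.2 rfl⟩))).1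
      rw [show (centralizer ({x} : Set G)).subgroupOf G₁ =
        (G₁ ⊓ centralizer ({x} : Set G)).subgroupOf G₁ from (inf_subgroupOf_left _ _).symm,
        Nat.card_congr (subgroupOfEquivOfLe inf_le_left).toEquiv, ← h1, hj, pow_succ p 2]
      exact Nat.mul_dvd_mul hd2 (dvd_pow_self p hj0)
    -- transport the Sylow subgroup of the centraliser into P
    obtain ⟨Q', hQ'⟩ := Sylow.exists_subgroup_card_pow_prime p hd
    have hxQ : Nat.card ↥(Q'.map (centralizer ({x} : Set G)).subtype) = p ^ 3 := by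
      rw [card_map_of_injective (subtype_injective _), hQ']
    set Q := Q'.map (centralizer ({x} : Set G)).subtype with hQdef
    have hxQp : IsPGroup p ↥(Q ⊔ zpowers x) := by
      refine IsPGroup.to_sup_of_normal_right' (IsPGroup.of_card hxQ)
        (P.isPGroup'.to_le (zpowers_le.2 y.2)) ?_
      refine le_trans (fun g hg => mem_centralizer_iff.2 fun v hv => ?_) (centralizer_le_normalizer _)
      obtain ⟨i, rfl⟩ := mem_zpowers_iff.1 hv
      exact ((show Commute x g from (mem_centralizer_singleton_iff.1 (map_subtype_le _ hg)).symm).zpow_left i).eq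
    obtain ⟨S, hS⟩ := hxQp.exists_le_sylow
    obtain ⟨g, hg⟩ := MulAction.exists_smul_eq G S P
    have hin : ∀ v ∈ Q ⊔ zpowers x, g * v * g⁻¹ ∈ X := fun v hv => by
      rw [hXdef, ← hg, Sylow.coe_subgroup_smul, mem_smul_pointwise_iff_exists]
      exact ⟨v, hS hv, rfl⟩
    set w : X := ⟨g * x * g⁻¹, hin x (mem_sup_right (mem_zpowers x))⟩
    have hwbig : p ^ 3 ≤ Nat.card (centralizer ({w} : Set X)) := by
      rw [← card_inf_centralizer_eq X w, ← hxQ,
        ← card_map_of_injective (f := (MulAut.conj g).toMonoidHom) (MulAut.conj g).injective]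
      refine card_le_of_le ?_
      rintro _ ⟨v, hv, rfl⟩
      refine mem_inf.2 ⟨hin v (mem_sup_left hv), mem_centralizer_singleton_iff.2 ?_⟩
      show g * v * g⁻¹ * (g * x * g⁻¹) = g * x * g⁻¹ * (g * v * g⁻¹)
      have := mem_centralizer_singleton_iff.1 (map_subtype_le _ hv)
      calc g * v * g⁻¹ * (g * x * g⁻¹) = g * (v * x) * g⁻¹ := by group
        _ = g * (x * v) * g⁻¹ := by rw [this]
        _ = _ := by group
    rcases MaxClass.GoodElement.good_or_centralizes hM (by omega) w with h | h
    · exact absurd (hwbig.trans h) (by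
        rw [Nat.pow_le_pow_iff_right hpp.one_lt]; omega)
    refine hCN ?_
    obtain ⟨i, hi⟩ := IsPGroup.iff_card.1 (hM.pgrp.to_subgroup
      ((⊤ : Subgroup X).lowerCentralSeries (n - 4) ⊓ centralizer ({w} : Set X)))
    rw [hi, Nat.pow_le_pow_iff_right hpp.one_lt] at h
    refine (pow_dvd_pow p h).trans ?_
    rw [← hi, ← card_map_of_injective X.subtype_injective,
      ← card_map_of_injective (f := (MulAut.conj g⁻¹).toMonoidHom) (MulAut.conj g⁻¹).injective]
    refine card_dvd_of_le ?_
    rintro _ ⟨_, ⟨v, hv, rfl⟩, rfl⟩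
    obtain ⟨hv1, hv2⟩ := mem_inf.1 hv
    have hvM : v ∈ M := hML ▸ Subgroup.lowerCentralSeries_antitone _ (show r - 1 ≤ n - 4 by omega) hv1
    refine mem_inf.2 ⟨hNn.conj_mem _ (mem_subgroupOf.1 hvM) _, mem_centralizer_singleton_iff.2 ?_⟩
    have h7 : (v : G) * (g * x * g⁻¹) = g * x * g⁻¹ * v :=
      congrArg Subtype.val (mem_centralizer_singleton_iff.1 hv2)
    show g⁻¹ * (v : G) * g⁻¹⁻¹ * x = x * (g⁻¹ * (v : G) * g⁻¹⁻¹)
    calc g⁻¹ * (v : G) * g⁻¹⁻¹ * x = g⁻¹ * ((v : G) * (g * x * g⁻¹)) * g := by group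
      _ = g⁻¹ * (g * x * g⁻¹ * v) * g := by rw [h7]
      _ = _ := by group

end Cfsg.Agent.S3865
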