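import Cfsg.Statements.S3866
import Mathlib
set_option autoImplicit false
open Cfsg

namespace Cfsg.Agent.S3866

open Subgroup
open scoped commutatorElement


/-- Let A be a commutative normal subgroup of the finite group G with G generated by A and an element x. Then a ↦ x a x⁻¹ a⁻¹ is a surjective homomorphism from A onto the commutator subgroup of G whose kernel is the centralizer of x in A; in particular the commutator subgroup has order equal to the index in A of that centralizer. -/
theorem result {G : Type*} [Group G] [Finite G] (A : Subgroup G) [A.Normal] (hA : IsMulCommutative A) (x : G) (hgen : A ⊔ Subgroup.zpowers x = ⊤) : (∀ a ∈ A, x * a * x⁻¹ * a⁻¹ ∈ commutator G) ∧ (∀ c ∈ commutator G, ∃ a ∈ A, x * a * x⁻¹ * a⁻¹ = c) ∧ (∀ a ∈ A, ∀ b ∈ A, x * (a * b) * x⁻¹ * (a * b)⁻¹ = (x * a * x⁻¹ * a⁻¹) * (x * b * x⁻¹ * b⁻¹)) ∧ Nat.card (commutator G) * Nat.card ↥(A ⊓ Subgroup.centralizer ({x} : Set G)) = Nat.card A := by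
  have hmem : ∀ a ∈ A, ⁅x, a⁆ ∈ A := fun a ha =>
    A.mul_mem ((inferInstance : A.Normal).conj_mem a ha x) (A.inv_mem ha)
  have hmul : ∀ a ∈ A, ∀ b ∈ A, ⁅x, a * b⁆ = ⁅x, a⁆ * ⁅x, b⁆ := by
    intro a ha b hb
    have h1 : Commute a ⁅x, b⁆ := setLike_mul_comm ha (hmem b hb)
    calc ⁅x, a * b⁆ = ⁅x, a⁆ * (a * ⁅x, b⁆ * a⁻¹) := by simp only [commutatorElement_def]; group
      _ = _ := by rw [h1.eq, mul_inv_cancel_right]
  let f : A →* G := MonoidHom.mk' (fun a => ⁅x, (a : G)⁆) fun a b => hmul a a.2 b b.2
  have hfA : f.range ≤ A := by rintro _ ⟨a, rfl⟩; exact hmem a a.2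
  have hn : f.range.Normal := by
    refine normalizer_eq_top_iff.mp (top_le_iff.mp ?_)
    rw [← hgen, sup_le_iff, zpowers_le]
    constructor
    · intro a ha
      refine mem_normalizer_iff.mpr fun y => ⟨fun hy => ?_, fun hy => ?_⟩
      · rwa [setLike_mul_comm ha (hfA hy), mul_inv_cancel_right]
      · have h1 := hfA hy
        have h2 : y ∈ A := by
          have := A.mul_mem (A.mul_mem (A.inv_mem ha) h1) ha
          simpa [mul_assoc] using this
        rwa [setLike_mul_comm ha h2, mul_inv_cancel_right] at hy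
    · refine mem_normalizer_iff.mpr fun y => ⟨?_, ?_⟩
      · rintro ⟨a, rfl⟩
        exact ⟨⟨x * a * x⁻¹, (inferInstance : A.Normal).conj_mem a a.2 x⟩, by
          simp only [f, MonoidHom.mk'_apply, commutatorElement_def]; group⟩
      · rintro ⟨a, ha⟩
        refine ⟨⟨x⁻¹ * a * x, by simpa using (inferInstance : A.Normal).conj_mem a a.2 x⁻¹⟩, ?_⟩
        simp only [f, MonoidHom.mk'_apply, commutatorElement_def] at ha ⊢
        have : y = x⁻¹ * (x * a * x⁻¹ * (a : G)⁻¹) * x := by rw [ha]; group
        rw [this]; group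
  have hcomm : commutator G ≤ f.range := by
    set π := QuotientGroup.mk' f.range
    have hab : ∀ u v : G, Commute (π u) (π v) := by
      have h0 : (⊤ : Subgroup (G ⧸ f.range)) ≤ centralizer ((⊤ : Subgroup (G ⧸ f.range)) : Set _) := by
        have htop : (⊤ : Subgroup (G ⧸ f.range)) = A.map π ⊔ zpowers (π x) := by
          rw [← MonoidHom.map_zpowers, ← Subgroup.map_sup, hgen,
            map_top_of_surjective _ (QuotientGroup.mk'_surjective _)]
        have hx : ∀ a ∈ A, Commute (π x) (π a) := fun a ha => by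
          rw [← commutatorElement_eq_one_iff_commute, ← map_commutatorElement]
          exact (QuotientGroup.eq_one_iff _).mpr ⟨⟨a, ha⟩, rfl⟩
        rw [htop, sup_le_iff, zpowers_le]
        constructor
        · rintro _ ⟨a, ha, rfl⟩
          refine le_centralizer_iff.mp (show A.map π ⊔ zpowers (π x) ≤ centralizer (zpowers (π a) : Set _) from
            sup_le ?_ (zpowers_le.mpr ?_)) (mem_zpowers _)
          · rintro _ ⟨b, hb, rfl⟩
            rintro _ ⟨k, rfl⟩
            exact ((show Commute (π a) (π b) from Commute.map (setLike_mul_comm ha hb) π).zpow_left k).eq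
          · rintro _ ⟨k, rfl⟩
            exact ((hx a ha).symm.zpow_left k).eq
        · refine le_centralizer_iff.mp (show A.map π ⊔ zpowers (π x) ≤ centralizer (zpowers (π x) : Set _) from
            sup_le ?_ (zpowers_le.mpr ?_)) (mem_zpowers _)
          · rintro _ ⟨b, hb, rfl⟩
            rintro _ ⟨k, rfl⟩
            exact ((hx b hb).zpow_left k).eq
          · rintro _ ⟨k, rfl⟩
            exact ((Commute.refl (π x)).zpow_left k).eq
      exact fun u v => h0 (mem_top (π v)) (π u) (mem_top _)
    rw [commutator_eq_closure, closure_le]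
    rintro _ ⟨u, v, rfl⟩
    rw [SetLike.mem_coe, ← QuotientGroup.eq_one_iff]
    change π ⁅u, v⁆ = 1
    rw [map_commutatorElement, commutatorElement_eq_one_iff_commute]
    exact hab u v
  have hle : f.range ≤ commutator G := by
    rintro _ ⟨a, rfl⟩
    exact commutator_mem_commutator (mem_top x) (mem_top (a : G))
  refine ⟨fun a ha => hle ⟨⟨a, ha⟩, rfl⟩, fun c hc => ?_, hmul, ?_⟩
  · obtain ⟨a, ha⟩ := hcomm hc
    exact ⟨a, a.2, ha⟩
  · rw [le_antisymm hcomm hle, ← card_mul_index f.ker, index_ker, mul_comm]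
    congr 1
    refine Nat.card_congr
      { toFun := fun a => ⟨⟨a, a.2.1⟩, MonoidHom.mem_ker.mpr (commutatorElement_eq_one_iff_commute.mpr
          (show Commute (a : G) x from mem_centralizer_singleton_iff.mp a.2.2).symm)⟩
        invFun := fun a => ⟨((a : A) : G), (a : A).2, mem_centralizer_singleton_iff.mpr
          (commutatorElement_eq_one_iff_commute.mp (MonoidHom.mem_ker.mp a.2)).symm.eq⟩
        left_inv := fun a => rfl
        right_inv := fun a => rfl }

end Cfsg.Agent.S3866
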