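import Cfsg.Statements.S3867
import Cfsg.Agent.SylowNumber.Formula

set_option autoImplicit false
open Cfsg

namespace Cfsg.Agent.S3867

/-- Let M and N be nontrivial normal subgroups of the finite group G with M ⊓ N trivial, and let p be a prime. Writing n(X) for the number of Sylow p-subgroups of a group X, one has n(G) · n(G/MN) = n(G/M) · n(G/N). -/
theorem result {G : Type*} [Group G] [Finite G] (p : ℕ) [Fact p.Prime] (M N : Subgroup G) [M.Normal] [N.Normal] (hM : M ≠ ⊥) (hN : N ≠ ⊥) (hMN : M ⊓ N = ⊥) : Nat.card (Sylow p G) * Nat.card (Sylow p (G ⧸ (M ⊔ N))) = Nat.card (Sylow p (G ⧸ M)) * Nat.card (Sylow p (G ⧸ N)) := by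
  let P : Sylow p G := default
  set H := Subgroup.normalizer ((P : Subgroup G) : Set G) with hH
  have key : (H ⊔ M) ⊓ N ≤ H := by
    intro y hy0
    obtain ⟨hy, hyN⟩ : y ∈ H ⊔ M ∧ y ∈ N := hy0
    set K := N ⊓ ((P : Subgroup G) ⊔ M) with hK
    have hKp : IsPGroup p K := by
      intro z
      obtain ⟨a, ha, m, hm, e⟩ := Subgroup.mem_sup_of_normal_right.1 z.2.2
      obtain ⟨k, hk⟩ := P.isPGroup' ⟨a, ha⟩
      refine ⟨k, Subtype.ext ?_⟩
      have h1 : ((z : G) ^ p ^ k) ∈ M ⊓ N := by
        refine ⟨?_, pow_mem z.2.1 _⟩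
        show (z : G) ^ p ^ k ∈ M
        rw [← QuotientGroup.eq_one_iff, QuotientGroup.mk_pow, ← e, QuotientGroup.mk_mul,
          (QuotientGroup.eq_one_iff m).2 hm, mul_one, ← QuotientGroup.mk_pow]
        rw [show a ^ p ^ k = 1 from congrArg Subtype.val hk, QuotientGroup.mk_one]
      rw [hMN, Subgroup.mem_bot] at h1
      exact h1
    have hnorm : (P : Subgroup G) ≤ Subgroup.normalizer (K : Set G) :=
      (le_inf Subgroup.le_normalizer_of_normal (le_sup_left.trans Subgroup.le_normalizer)).trans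
        Subgroup.inf_normalizer_le_normalizer_inf
    have hsup := P.3 (IsPGroup.to_sup_of_normal_right' P.isPGroup' hKp hnorm) le_sup_left
    have hKP : K ≤ (P : Subgroup G) := hsup ▸ le_sup_right
    have hyPM : y ∈ Subgroup.normalizer (((P : Subgroup G) ⊔ M : Subgroup G) : Set G) := by
      rw [Cfsg.Agent.SylowNumber.normalizer_sup]
      exact hy
    have h1 : ∀ g : G, g ∈ N → g ∈ Subgroup.normalizer (((P : Subgroup G) ⊔ M : Subgroup G) : Set G) →
        ∀ x ∈ (P : Subgroup G), g * x * g⁻¹ ∈ (P : Subgroup G) := by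
      intro g hg hgn x hx
      have hc : g * x * g⁻¹ * x⁻¹ ∈ (P : Subgroup G) := by
        refine hKP (Subgroup.mem_inf.2 ⟨?_, ?_⟩)
        · show g * x * g⁻¹ * x⁻¹ ∈ N
          rw [mul_assoc, mul_assoc, ← mul_assoc x]
          exact mul_mem hg (Subgroup.Normal.conj_mem inferInstance _ (inv_mem hg) x)
        · exact mul_mem ((Subgroup.mem_normalizer_iff.1 hgn x).1 (Subgroup.mem_sup_left hx))
            (inv_mem (Subgroup.mem_sup_left hx))
      have := mul_mem hc hx
      rwa [inv_mul_cancel_right] at this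
    rw [hH, Subgroup.mem_normalizer_iff]
    refine fun x => ⟨h1 y hyN hyPM x, fun hx => ?_⟩
    have := h1 y⁻¹ (inv_mem hyN) (inv_mem hyPM) _ hx
    rwa [inv_inv, show y⁻¹ * (y * x * y⁻¹) * y = x by group] at this
  have hrel : (H ⊔ M).relIndex (H ⊔ (M ⊔ N)) = H.relIndex N := by
    rw [← sup_assoc, Cfsg.Agent.SylowNumber.relIndex_sup_normal (H ⊔ M) N,
      ← Subgroup.inf_relIndex_right (H := H ⊔ M), ← Subgroup.inf_relIndex_right (H := H)]
    congr 1
    exact le_antisymm (le_inf key inf_le_right) (inf_le_inf_right N le_sup_left)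
  have hmul := Subgroup.relIndex_mul_index (sup_le_sup_left (le_sup_left (a := M) (b := N)) H)
  rw [hrel] at hmul
  rw [SylowNumber.card_sylow_eq_mul P N, SylowNumber.card_sylow_quotient P (M ⊔ N),
    SylowNumber.card_sylow_quotient P M, ← hH, ← hmul]
  ring

end Cfsg.Agent.S3867
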