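import Cfsg.Statements.S3870
import Mathlib
set_option autoImplicit false
open Cfsg

namespace Cfsg.Agent.S3870

open Subgroup


/-- Let G be a finite simple group whose Sylow p-subgroups are not normal but such that every proper subgroup of G has a normal Sylow p-subgroup. Then any two distinct Sylow p-subgroups of G intersect trivially, and for every Sylow p-subgroup P the normalizer of every non-identity subgroup of P lies in the normalizer of P. -/
theorem result {G : Type*} [Group G] [Finite G] [IsSimpleGroup G] {p : ℕ} [Fact p.Prime]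
    (hnc : ¬ Cfsg.IsPClosed p G) (hsub : ∀ H : Subgroup G, H ≠ ⊤ → Cfsg.IsPClosed p ↥H) :
    (∀ P Q : Sylow p G, P ≠ Q → (P : Subgroup G) ⊓ (Q : Subgroup G) = ⊥) ∧
      ∀ (P : Sylow p G) (R : Subgroup G), R ≤ P → R ≠ ⊥ →
        Subgroup.normalizer (R : Set G) ≤ Subgroup.normalizer ((P : Subgroup G) : Set G) := by
  have hp := (Fact.out : p.Prime)
  -- maximal intersection
  have hTI : ∀ P Q : Sylow p G, P ≠ Q → (P : Subgroup G) ⊓ (Q : Subgroup G) = ⊥ := by
    intro P Q hPQ
    by_contra hne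
    set s : Set (Subgroup G) := {D | ∃ P Q : Sylow p G, P ≠ Q ∧ D = (P : Subgroup G) ⊓ Q}
    obtain ⟨D, hle, ⟨P, Q, hPQ, rfl⟩, hmax⟩ := (Set.toFinite s).exists_le_maximal (show (P : Subgroup G) ⊓ Q ∈ s from ⟨P, Q, hPQ, rfl⟩)
    have hD : (P : Subgroup G) ⊓ Q ≠ ⊥ := fun h => hne (le_bot_iff.mp (h ▸ hle))
    set D : Subgroup G := (P : Subgroup G) ⊓ (Q : Subgroup G) with hDdef
    set N := normalizer (D : Set G) with hN
    have hNtop : N ≠ ⊤ := by
      intro h
      rcases (normalizer_eq_top_iff.mp h).eq_bot_or_eq_top with h1 | h1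
      · exact hD h1
      · refine hPQ (Sylow.ext ?_)
        rw [top_le_iff.mp (h1.symm.le.trans inf_le_left), top_le_iff.mp (h1.symm.le.trans inf_le_right)]
    obtain ⟨T⟩ : Nonempty (Sylow p N) := inferInstance
    have hTn := hsub N hNtop T
    have hkey : ∀ R : Sylow p G, D < (R : Subgroup G) → D < (R : Subgroup G) ⊓ N ∧ (R : Subgroup G) ⊓ N ≤ (T : Subgroup N).map N.subtype := by
      intro R hDR
      constructor
      · have := R.2.isNilpotent
        have h1 : D.subgroupOf (R : Subgroup G) < ⊤ := lt_top_iff_ne_top.mpr fun h => hDR.not_ge (subgroupOf_eq_top.mp h)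
        obtain ⟨x, hx, hx'⟩ := SetLike.exists_of_lt (Group.normalizerCondition_of_isNilpotent _ h1)
        refine lt_of_le_of_ne (le_inf hDR.le le_normalizer) fun e => hx' ?_
        rw [mem_subgroupOf, e]
        refine ⟨x.2, mem_normalizer_iff.mpr fun y => ?_⟩
        by_cases hy : y ∈ (R : Subgroup G)
        · exact mem_normalizer_iff.mp hx ⟨y, hy⟩
        · refine iff_of_false (fun h => hy (hDR.le h)) fun h => hy ?_
          have := R.mul_mem (R.mul_mem (R.inv_mem x.2) (hDR.le h)) x.2
          simpa [mul_assoc] using this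
      · intro y hy
        obtain ⟨T', hT'⟩ := ((R.2.to_le inf_le_left : IsPGroup p ((R : Subgroup G) ⊓ N : Subgroup G)).comap_subtype
          (K := N) : IsPGroup p (((R : Subgroup G) ⊓ N).subgroupOf N)).exists_le_sylow
        obtain ⟨n, hn⟩ := MulAction.exists_smul_eq N T T'
        rw [Sylow.smul_eq_of_normal] at hn
        exact ⟨⟨y, hy.2⟩, hn ▸ hT' hy, rfl⟩
    have hDP : D < (P : Subgroup G) := lt_of_le_of_ne inf_le_left fun e => hPQ (Sylow.ext
      ((P.is_maximal' Q.2 (e ▸ inf_le_right)).symm))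
    have hDQ : D < (Q : Subgroup G) := lt_of_le_of_ne inf_le_right fun e => hPQ (Sylow.ext
      (Q.is_maximal' P.2 (e ▸ inf_le_left)))
    obtain ⟨S, hS⟩ := (T.2.map N.subtype).exists_le_sylow
    have hall : ∀ R : Sylow p G, D < (R : Subgroup G) → R = S := by
      intro R hDR
      by_contra hRS
      obtain ⟨h1, h2⟩ := hkey R hDR
      have h3 : (R : Subgroup G) ⊓ N ≤ (R : Subgroup G) ⊓ S := le_inf inf_le_left (h2.trans hS)
      exact (h1.trans_le h3).not_ge (hmax ⟨R, S, hRS, rfl⟩ (h1.trans_le h3).le)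
    exact hPQ ((hall P hDP).trans (hall Q hDQ).symm)
  refine ⟨hTI, fun P R hR hR1 g hg => ?_⟩
  have hgP : g • P = P := by
    by_contra hne
    refine hR1 (le_bot_iff.mp ((hTI (g • P) P hne) ▸ le_inf (fun r hr => ?_) hR))
    rw [← SetLike.mem_coe, Sylow.smul_def]
    exact ⟨g⁻¹ * r * g, hR ((mem_normalizer_iff''.mp hg r).mp hr), by simp [mul_assoc]⟩
  exact Sylow.smul_eq_iff_mem_normalizer.mp hgP

end Cfsg.Agent.S3870
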