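import Cfsg.Statements.S3875
import Cfsg.Agent.Fg24.NonPClosed.Lower
import Cfsg.Agent.Fg24.NonPClosed.Examples

set_option autoImplicit false
open Cfsg

namespace Cfsg.Agent.S3875

/-- Let p be an odd prime and let m be the least prime power congruent to 1 modulo p. Then the least order of a finite group whose Sylow p-subgroups are not normal is the smaller of p · m and p(p² − 1)/2: every finite group whose Sylow p-subgroups are not normal has at least that order, and some group of exactly that order has non-normal Sylow p-subgroups. -/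
theorem result (p : ℕ) [Fact p.Prime] (hp : p ≠ 2) (m : ℕ) (hm : IsPrimePow m) (hm1 : m % p = 1)
    (hleast : ∀ k : ℕ, IsPrimePow k → k % p = 1 → m ≤ k) :
    (∀ (H : Type) [Group H] [Finite H], ¬ Cfsg.IsPClosed p H → min (p * m) (p * (p ^ 2 - 1) / 2) ≤ Nat.card H) ∧
      ∃ (H : Type) (_ : Group H) (_ : Finite H), Nat.card H = min (p * m) (p * (p ^ 2 - 1) / 2) ∧ ¬ Cfsg.IsPClosed p H := by
  refine ⟨fun H _ _ hH => Fg24.NonPClosed.lower hp hleast _ H rfl hH, ?_⟩
  have hm1' : p ∣ m - 1 := by
    rw [← Nat.modEq_iff_dvd' hm.one_lt.le, Nat.ModEq, hm1, Nat.mod_eq_of_lt (Fact.out : p.Prime).one_lt]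
  rcases le_or_gt (p * m) (p * (p ^ 2 - 1) / 2) with h | h
  · rw [min_eq_left h]
    exact Fg24.NonPClosed.exists_frobenius hm hm1'
  · rw [min_eq_right h.le]
    refine Fg24.NonPClosed.exists_psl ?_
    by_contra hlt
    have h2 := (Fact.out : p.Prime).two_le
    interval_cases p
    · exact hp rfl
    · have := hleast 4 ⟨2, 2, Nat.prime_two.prime, two_pos, rfl⟩ rfl
      omega
    · exact absurd (Fact.out : Nat.Prime 4) (by norm_num)

end Cfsg.Agent.S3875
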