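import Cfsg.Statements.S3878
import Mathlib.GroupTheory.GroupAction.Jordan
import Mathlib.GroupTheory.SpecificGroups.Alternating.Simple

set_option autoImplicit false
open Cfsg


namespace Cfsg.Agent.S3878

open Equiv Equiv.Perm

universe u

theorem exists_conj_mem {G : Type*} [Group G] [Finite G] {H : Subgroup G} {p k : ℕ}
    [Fact p.Prime] (hp : ¬ p ∣ H.index) {g : G} (hg : g ^ p ^ k = 1) :
    ∃ c : G, c⁻¹ * g * c ∈ H := by
  have hP : IsPGroup p (Subgroup.zpowers g) :=
    IsPGroup.of_card ((Nat.card_zpowers g).trans (Classical.choose_spec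
      ((Nat.dvd_prime_pow Fact.out).mp (orderOf_dvd_of_pow_eq_one hg))).2)
  obtain ⟨a, ha⟩ := hP.nonempty_fixed_point_of_prime_not_dvd_card (G ⧸ H) hp
  obtain ⟨c, rfl⟩ := QuotientGroup.mk_surjective a
  refine ⟨c, ?_⟩
  have h := ha ⟨g, Subgroup.mem_zpowers g⟩
  change ((g * c : G) : G ⧸ H) = c at h
  rw [eq_comm, QuotientGroup.eq] at h
  rwa [mul_assoc]

theorem exists_cycle {q m : ℕ} (h2 : 2 ≤ m) (hm : m ≤ q) :
    ∃ g : Perm (Fin q), g.IsCycle ∧ g.support.card = m := by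
  classical
  obtain ⟨g, hg⟩ := (exists_with_cycleType_iff (Fin q) (m := {m})).mpr
    ⟨by simpa using hm, by simpa using h2⟩
  exact ⟨g, card_cycleType_eq_one.mp (by rw [hg]; simp), by rw [← sum_cycleType, hg]; simp⟩

/-- A Hall subgroup of a symmetric group of prime degree in `π` is primitive and contains a
conjugate of every cycle of prime length in `π`. -/
theorem hall_prime_degree {π : Set ℕ} {q : ℕ} (hq : q.Prime) (hqπ : q ∈ π)
    {H : Subgroup (Perm (Fin q))} (hH : Cfsg.IsPiHall π H) :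
    MulAction.IsPreprimitive H (Fin q) ∧ ∀ p : ℕ, p.Prime → p ∈ π → p ≤ q →
      ∃ g ∈ H, g.IsCycle ∧ g.support.card = p := by
  classical
  have hkey : ∀ p : ℕ, p.Prime → p ∈ π → p ≤ q →
      ∃ g ∈ H, g.IsCycle ∧ g.support.card = p := by
    intro p hp hpπ hpq
    haveI : Fact p.Prime := ⟨hp⟩
    obtain ⟨g, hg, hgs⟩ := exists_cycle hp.two_le hpq
    obtain ⟨c, hc⟩ := exists_conj_mem (hH.2 p hp hpπ) (g := g) (k := 1)
      (by rw [pow_one, ← hgs, ← hg.orderOf]; exact pow_orderOf_eq_one g)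
    refine ⟨c⁻¹ * g * c, hc, ?_, ?_⟩
    · simpa using hg.conj (g := c⁻¹)
    · rw [← hgs]; simpa using card_support_conj (σ := c⁻¹) (τ := g)
  refine ⟨?_, hkey⟩
  obtain ⟨g, hgH, hg, hgs⟩ := hkey q hq hqπ le_rfl
  have hall : ∀ x, g x ≠ x := fun x => by
    rw [← mem_support, Finset.eq_univ_of_card g.support (by rw [hgs, Fintype.card_fin])]
    exact Finset.mem_univ x
  haveI : MulAction.IsPretransitive H (Fin q) := ⟨fun x y => by
    obtain ⟨i, hi⟩ := hg.sameCycle (hall x) (hall y)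
    exact ⟨⟨g ^ i, zpow_mem hgH i⟩, hi⟩⟩
  exact MulAction.IsPreprimitive.of_prime_card (by rwa [Nat.card_fin])

/-- No Hall subgroup when `π` has two primes and misses two. -/
theorem no_hall_of_two_not_mem {π : Set ℕ} {p q : ℕ} (h2 : 2 ∉ π) (hp : p.Prime) (hq : q.Prime)
    (hpπ : p ∈ π) (hqπ : q ∈ π) (hpq : p < q) :
    ¬ Cfsg.IsEPiGroup π (Perm (Fin q)) := by
  classical
  rintro ⟨H, hH⟩
  obtain ⟨hprim, hkey⟩ := hall_prime_degree hq hqπ hH
  obtain ⟨g, hgH, hg, hgs⟩ := hkey p hp hpπ hpq.le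
  have h2p := hp.two_le
  have hs : ((g.support : Set (Fin q))ᶜ).ncard = (q - p - 1) + 1 := by
    rw [Set.ncard_compl, Nat.card_fin, Set.ncard_coe_finset, hgs]; omega
  have htwo := hprim.is_two_pretransitive hs (by rw [Nat.card_fin]; omega)
    (isPretransitive_of_isCycle_mem hg hgH)
  obtain ⟨a, b, hab⟩ : ∃ a b : Fin q, a ≠ b :=
    ⟨⟨0, by omega⟩, ⟨1, by omega⟩, by simp⟩
  obtain ⟨t, ht1, ht2⟩ := MulAction.is_two_pretransitive_iff.mp htwo hab hab.symm
  refine h2 (hH.1 2 Nat.prime_two ((Nat.dvd_trans ?_ (orderOf_dvd_natCard t))))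
  rw [← even_iff_two_dvd]
  by_contra hodd
  obtain ⟨k, hk⟩ := Nat.not_even_iff_odd.mp hodd
  have hsq : t ^ 2 • a = a := by rw [pow_two, mul_smul, ht1, ht2]
  have hk' : (t ^ 2) ^ k • a = a := by
    clear hk
    induction k with
    | zero => simp
    | succ k ih => rw [pow_succ, mul_smul, hsq, ih]
  have h1 : (1 : H) • a = b := by
    rw [← pow_orderOf_eq_one t, hk, pow_succ', mul_smul, pow_mul, hk', ht1]
  exact hab (by simpa using h1)

/-- No Hall subgroup when `2 ∈ π` and a prime outside `π` is smaller than one inside. -/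
theorem no_hall_of_lt {π : Set ℕ} {q r : ℕ} (h2 : 2 ∈ π) (hq : q.Prime) (hr : r.Prime)
    (hqπ : q ∈ π) (hrπ : r ∉ π) (hrq : r < q) :
    ¬ Cfsg.IsEPiGroup π (Perm (Fin q)) := by
  classical
  rintro ⟨H, hH⟩
  obtain ⟨hprim, hkey⟩ := hall_prime_degree hq hqπ hH
  obtain ⟨g, hgH, -, hgs⟩ := hkey 2 Nat.prime_two h2 hq.two_le
  have htop := subgroup_eq_top_of_isPreprimitive_of_isSwap_mem hprim g
    (card_support_eq_two.mp hgs) hgH
  refine hrπ (hH.1 r hr ?_)
  rw [htop, Subgroup.card_top, Nat.card_perm, Nat.card_fin]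
  exact hr.dvd_factorial.mpr hrq.le

/-- No Hall subgroup when the primes of `π` are those below a prime `r ≥ 5`. -/
theorem no_hall_succ {π : Set ℕ} {r : ℕ} (hr : r.Prime) (hr5 : 5 ≤ r)
    (hlt : ∀ p : ℕ, p.Prime → p < r → p ∈ π) (hrπ : r ∉ π) :
    ¬ Cfsg.IsEPiGroup π (Perm (Fin (r + 1))) := by
  classical
  rintro ⟨H, hH⟩
  have hcard : Nat.card (Perm (Fin (r + 1))) = (r + 1) * r * (r - 1).factorial := by
    rw [Nat.card_perm, Nat.card_fin, Nat.factorial_succ, ← Nat.mul_factorial_pred hr.ne_zero,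
      mul_assoc]
  have hmul := H.card_mul_index
  rw [hcard] at hmul
  have hco : H.index.Coprime ((r + 1) * (r - 1).factorial) := by
    refine Nat.coprime_of_dvd fun p hp hp1 hp2 => ?_
    refine hH.2 p hp (hlt p hp ?_) hp1
    rcases (Nat.Prime.dvd_mul hp).mp hp2 with h | h
    · have hle := Nat.le_of_dvd (Nat.succ_pos r) h
      rcases eq_or_ne p (r + 1) with rfl | hne
      · exact absurd hp (fun hp' => by
          rcases hp'.eq_two_or_odd with h' | h'
          · omega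
          · rcases hr.eq_two_or_odd with h'' | h'' <;> omega)
      · rcases eq_or_ne p r with rfl | hne'
        · exact absurd ((Nat.dvd_add_right dvd_rfl).mp h) hp.not_dvd_one
        · omega
    · have := hp.dvd_factorial.mp h
      omega
  have hdvd : H.index ∣ r := by
    refine hco.dvd_of_dvd_mul_left (m := (r + 1) * (r - 1).factorial) ?_
    rw [show (r + 1) * (r - 1).factorial * r = (r + 1) * r * (r - 1).factorial by ring, ← hmul]
    exact dvd_mul_left _ _
  rcases (Nat.dvd_prime hr).mp hdvd with h1 | h1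
  · refine hrπ (hH.1 r hr ?_)
    rw [Subgroup.index_eq_one.mp h1, Subgroup.card_top, hcard]
    exact dvd_mul_of_dvd_left (dvd_mul_left _ _) _
  · haveI : Nontrivial (Fin (r + 1)) := Fin.nontrivial_iff_two_le.mpr (by omega)
    haveI := alternatingGroup.isSimpleGroup (α := Fin (r + 1)) (by rw [Nat.card_fin]; omega)
    let φ := (MulAction.toPermHom (Perm (Fin (r + 1))) (Perm (Fin (r + 1)) ⧸ H)).comp
      (alternatingGroup (Fin (r + 1))).subtype
    rcases φ.normal_ker.eq_bot_or_eq_top with hk | hk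
    · have hle := Nat.card_le_card_of_injective φ ((MonoidHom.ker_eq_bot_iff φ).mp hk)
      rw [Nat.card_perm, ← Subgroup.index_eq_card, h1, nat_card_alternatingGroup, Nat.card_fin,
        Nat.factorial_succ] at hle
      have h3 : 4 * r.factorial ≤ (r + 1) * r.factorial := Nat.mul_le_mul_right _ (by omega)
      have := r.factorial_pos
      omega
    · have hle : alternatingGroup (Fin (r + 1)) ≤ H := fun x hx => by
        have h2 : φ ⟨x, hx⟩ = 1 := MonoidHom.mem_ker.mp (hk ▸ Subgroup.mem_top _)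
        have h3 := congrArg (fun e => e ((1 : Perm (Fin (r + 1))) : Perm (Fin (r + 1)) ⧸ H)) h2
        have h4 : ((x * 1 : Perm (Fin (r + 1))) : Perm (Fin (r + 1)) ⧸ H) =
            ((1 : Perm (Fin (r + 1))) : Perm (Fin (r + 1)) ⧸ H) := h3
        rw [QuotientGroup.eq, mul_one, mul_one] at h4
        simpa using h4
      have h5 := Subgroup.index_dvd_of_le hle
      rw [h1, alternatingGroup.index_eq_two] at h5
      have := Nat.le_of_dvd two_pos h5
      omega

theorem exists_no_hall {π : Set ℕ}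
    (h : ¬ ((∀ p q : ℕ, p.Prime → q.Prime → p ∈ π → q ∈ π → p = q) ∨
      ∀ p : ℕ, p.Prime → p ∈ π)) :
    ∃ n : ℕ, ¬ Cfsg.IsEPiGroup π (Perm (Fin n)) := by
  classical
  push_neg at h
  obtain ⟨⟨p, q, hp, hq, hpπ, hqπ, hpq⟩, hex⟩ := h
  by_cases h2 : 2 ∈ π
  · obtain ⟨hr, hrπ⟩ := Nat.find_spec hex
    set r := Nat.find hex
    by_cases hbig : ∃ s : ℕ, s.Prime ∧ s ∈ π ∧ r < s
    · obtain ⟨s, hs, hsπ, hrs⟩ := hbig
      exact ⟨s, no_hall_of_lt h2 hs hr hsπ hrπ hrs⟩
    push_neg at hbig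
    have hlt : ∀ s : ℕ, s.Prime → s < r → s ∈ π := fun s hs hsr => by
      by_contra hc
      exact Nat.find_min hex hsr ⟨hs, hc⟩
    have hne : ∀ s ∈ π, s ≠ r := fun s hs e => hrπ (e ▸ hs)
    have h1 := hbig p hp hpπ
    have h1' := hne p hpπ
    have h3 := hbig q hq hqπ
    have h3' := hne q hqπ
    have h4 := hp.two_le
    have h5 := hq.two_le
    have hr4 : r ≠ 4 := fun e => absurd (e ▸ hr) (by decide)
    exact ⟨r + 1, no_hall_succ hr (by omega) hlt hrπ⟩
  · rcases lt_or_gt_of_ne hpq with hlt | hlt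
    · exact ⟨q, no_hall_of_two_not_mem h2 hp hq hpπ hqπ hlt⟩
    · exact ⟨p, no_hall_of_two_not_mem h2 hq hp hqπ hpπ hlt⟩

theorem e_of_d {π : Set ℕ} {G : Type u} [Group G] [Finite G] (hD : Cfsg.IsDPiGroup π G) :
    Cfsg.IsEPiGroup π G := by
  obtain ⟨H, hH⟩ := Set.Finite.exists_maximal
    (Set.toFinite {K : Subgroup G | Cfsg.IsPiSubgroup π K})
    ⟨⊥, fun p hp hd => absurd (Subgroup.card_bot (G := G) ▸ hd) hp.not_dvd_one⟩
  refine ⟨H, hH.1, fun p hp hpπ => ?_⟩
  haveI : Fact p.Prime := ⟨hp⟩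
  let P : Sylow p G := default
  have hP : Cfsg.IsPiSubgroup π (P : Subgroup G) := fun r hr hd => by
    obtain ⟨k, hk⟩ := IsPGroup.iff_card.mp P.2
    rw [hk] at hd
    exact ((Nat.prime_dvd_prime_iff_eq hr hp).mp (hr.dvd_of_dvd_pow hd)) ▸ hpπ
  obtain ⟨K, hPK, hK⟩ := Set.Finite.exists_le_maximal
    (Set.toFinite {K : Subgroup G | Cfsg.IsPiSubgroup π K}) hP
  obtain ⟨g, hg⟩ := hD H K hH hK
  have hcard : Nat.card H = Nat.card K :=
    hg ▸ (Nat.card_congr (H.equivMapOfInjective _ (MulAut.conj g).injective).toEquiv)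
  have hidx : H.index = K.index := by
    have h1 := H.card_mul_index
    rw [← K.card_mul_index, hcard] at h1
    exact Nat.eq_of_mul_eq_mul_left Nat.card_pos h1
  rw [hidx]
  exact fun hd => P.not_dvd_index (hd.trans (Subgroup.index_dvd_of_le hPK))

theorem ed_of_cond {π : Set ℕ}
    (h : (∀ p q : ℕ, p.Prime → q.Prime → p ∈ π → q ∈ π → p = q) ∨ ∀ p : ℕ, p.Prime → p ∈ π)
    (G : Type u) [Group G] [Finite G] : Cfsg.IsDPiGroup π G := by
  intro H K hH hK
  rcases h with h | h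
  · by_cases hex : ∃ p : ℕ, p.Prime ∧ p ∈ π
    · obtain ⟨p, hp, hpπ⟩ := hex
      haveI : Fact p.Prime := ⟨hp⟩
      have hiff : ∀ L : Subgroup G, Cfsg.IsPiSubgroup π L ↔ IsPGroup p L := by
        intro L
        constructor
        · intro hL
          exact IsPGroup.of_card (n := (Nat.card L).primeFactorsList.length)
            (Nat.eq_prime_pow_of_unique_prime_dvd Nat.card_pos.ne'
              fun {r} hr hd => h r p hr hp (hL r hr hd) hpπ)
        · intro hL r hr hd
          obtain ⟨k, hk⟩ := IsPGroup.iff_card.mp hL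
          rw [hk] at hd
          exact ((Nat.prime_dvd_prime_iff_eq hr hp).mp (hr.dvd_of_dvd_pow hd)) ▸ hpπ
      let PH : Sylow p G := ⟨H, (hiff H).mp hH.1,
        fun {Q} hQ hle => le_antisymm (hH.2 ((hiff Q).mpr hQ) hle) hle⟩
      let PK : Sylow p G := ⟨K, (hiff K).mp hK.1,
        fun {Q} hQ hle => le_antisymm (hK.2 ((hiff Q).mpr hQ) hle) hle⟩
      obtain ⟨g, hg⟩ := MulAction.exists_smul_eq G PH PK
      exact ⟨g, (congrArg Sylow.toSubgroup hg).symm⟩
    · have hbot : ∀ L : Subgroup G, Cfsg.IsPiSubgroup π L → L = ⊥ := by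
        intro L hL
        rw [← Subgroup.card_eq_one]
        by_contra hne
        exact hex ⟨_, Nat.minFac_prime hne, hL _ (Nat.minFac_prime hne) (Nat.minFac_dvd _)⟩
      exact ⟨1, by rw [hbot H hH.1, hbot K hK.1, Subgroup.map_bot]⟩
  · have htop : ∀ L : Subgroup G, Maximal (Cfsg.IsPiSubgroup π) L → L = ⊤ := fun L hL =>
      top_le_iff.mp (hL.2 (fun r hr _ => h r hr) le_top)
    exact ⟨1, by
      rw [htop H hH, htop K hK, Subgroup.map_top_of_surjective _ (MulAut.conj (1 : G)).surjective]⟩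


/-- For a set of primes π the following are equivalent: every finite group has a Hall π-subgroup; in every finite group the maximal π-subgroups are pairwise conjugate; π contains at most one prime or contains every prime. -/
theorem result (π : Set ℕ) :
    ((∀ (G : Type) [Group G] [Finite G], Cfsg.IsEPiGroup π G) ↔
      ((∀ p q : ℕ, p.Prime → q.Prime → p ∈ π → q ∈ π → p = q) ∨ ∀ p : ℕ, p.Prime → p ∈ π)) ∧
    ((∀ (G : Type) [Group G] [Finite G], Cfsg.IsDPiGroup π G) ↔
      ((∀ p q : ℕ, p.Prime → q.Prime → p ∈ π → q ∈ π → p = q) ∨ ∀ p : ℕ, p.Prime → p ∈ π)) := by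
  refine ⟨⟨fun hE => ?_, fun h G _ _ => e_of_d (ed_of_cond h G)⟩,
    ⟨fun hD => ?_, fun h G _ _ => ed_of_cond h G⟩⟩
  · by_contra h
    obtain ⟨n, hn⟩ := exists_no_hall h
    exact hn (hE _)
  · by_contra h
    obtain ⟨n, hn⟩ := exists_no_hall h
    exact hn (e_of_d (hD _))

end Cfsg.Agent.S3878
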