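import Cfsg.Statements.S3880
import Cfsg.Agent.Metacyclic.Subgroups
-- import your own Cfsg.Agent.* helpers here

set_option autoImplicit false
open Cfsg
open Cfsg.Agent

namespace Cfsg.Agent.S3880
open Cfsg.Agent in
theorem isMulCommutative_iff_card_le {G : Type*} [Group G] [Finite G] {p : ℕ} [Fact p.Prime] (D : Metacyclic.Data p G) (L : Subgroup G) :
    IsMulCommutative ↥L ↔ Nat.card ↥L ≤ (commutator G).index := by
  obtain ⟨Q⟩ := D.exists_sub L
  have h1 := Q.card
  have h2 := (commutator G).card_mul_index
  rw [D.card_commutator_top] at h2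
  rw [Q.isMulCommutative_iff, ← Nat.pow_le_pow_iff_right (Fact.out : p.Prime).one_lt]
  constructor
  · intro h
    refine Nat.le_of_mul_le_mul_left ?_ (pow_pos (Fact.out : p.Prime).pos D.n)
    rw [h2, ← h1, mul_comm]
    exact Nat.mul_le_mul_left _ h
  · intro h
    refine Nat.le_of_mul_le_mul_left ?_ (Nat.card_pos (α := L))
    rw [h1, ← h2, mul_comm (Nat.card L)]
    exact Nat.mul_le_mul_left _ h

open Cfsg.Agent in
theorem maximal_iff_card_eq {G : Type*} [Group G] [Finite G] {p : ℕ} [Fact p.Prime] (hG : IsPGroup p G) (D : Metacyclic.Data p G) (L : Subgroup G) :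
    Maximal (fun K : Subgroup G => IsMulCommutative ↥K) L ↔ Nat.card ↥L = (commutator G).index := by
  constructor
  · intro h
    have hle := (isMulCommutative_iff_card_le D L).mp h.prop
    refine hle.antisymm (le_of_not_gt fun hlt => ?_)
    obtain ⟨m, hm⟩ := (hG.to_subgroup L).exists_card_eq
    obtain ⟨k, hk⟩ := hG.exists_card_eq
    obtain ⟨c, hc⟩ := hG.index (commutator G)
    have hmk : p ^ (m + 1) ≤ p ^ c := by
      refine Nat.pow_le_pow_right (Fact.out : p.Prime).pos ?_
      rw [hm, hc, Nat.pow_lt_pow_iff_right (Fact.out : p.Prime).one_lt] at hlt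
      omega
    obtain ⟨K, hK, hLK⟩ := Sylow.exists_subgroup_card_pow_succ (p := p) (n := m)
      (show p ^ (m + 1) ∣ Nat.card G from (pow_dvd_pow p
        ((Nat.pow_le_pow_iff_right (Fact.out : p.Prime).one_lt).mp hmk)).trans (hc ▸ (commutator G).index_dvd_card)) hm
    have hKa := (isMulCommutative_iff_card_le D K).mpr (by rw [hK, hc]; exact hmk)
    have := h.eq_of_ge hKa hLK
    rw [this, hm] at hK
    exact absurd (Nat.pow_right_injective (Fact.out : p.Prime).two_le hK) (by omega)
  · intro h
    refine ⟨(isMulCommutative_iff_card_le D L).mpr h.le, fun K hK hLK => ?_⟩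
    exact (Subgroup.eq_of_le_of_card_ge hLK (h ▸ (isMulCommutative_iff_card_le D K).mp hK)).ge


/-- Let p be an odd prime and G a finite metacyclic p-group (G has a cyclic normal subgroup with cyclic quotient). Then a subgroup L of G is abelian if and only if |L| ≤ |G : G'|, and L is a maximal abelian subgroup of G if and only if |L| = |G : G'|. -/
theorem result {G : Type*} [Group G] [Finite G] {p : ℕ} [Fact p.Prime] (hp : p ≠ 2) (hG : IsPGroup p G) (hmc : Cfsg.IsMetacyclic G) (L : Subgroup G) :
    (IsMulCommutative ↥L ↔ Nat.card ↥L ≤ (commutator G).index) ∧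
      (Maximal (fun K : Subgroup G => IsMulCommutative ↥K) L ↔ Nat.card ↥L = (commutator G).index) := by
  obtain ⟨D⟩ := Metacyclic.exists_data hp hG hmc
  exact ⟨isMulCommutative_iff_card_le D L, maximal_iff_card_eq hG D L⟩

end Cfsg.Agent.S3880
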