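import Cfsg.Statements.S3881
import Cfsg.Agent.Metacyclic.Subgroups
-- import your own Cfsg.Agent.* helpers here

set_option autoImplicit false
open Cfsg
open Cfsg.Agent

namespace Cfsg.Agent.S3881

/-- Let p be an odd prime and G a finite metacyclic p-group (G has a cyclic normal subgroup with cyclic quotient). Suppose G is non-abelian with |G'| = p^n. Then for 1 ≤ i ≤ n the number of elements of G whose conjugacy class has exactly p^i elements is |Z(G)| · (p^(2i) − p^(2i−2)). -/
theorem result {G : Type*} [Group G] [Finite G] {p : ℕ} [Fact p.Prime] (hp : p ≠ 2) (hG : IsPGroup p G) (hmc : Cfsg.IsMetacyclic G) (n : ℕ) (hn : n ≠ 0) (hGn : Nat.card ↥(commutator G) = p ^ n) (i : ℕ) (hi : 1 ≤ i) (hin : i ≤ n) :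
    Nat.card {g : G // (Subgroup.centralizer ({g} : Set G)).index = p ^ i} =
      Nat.card ↥(Subgroup.center G) * (p ^ (2 * i) - p ^ (2 * i - 2)) := by
  obtain ⟨D⟩ := Metacyclic.exists_data hp hG hmc
  have hn' : n = D.n := Nat.pow_right_injective (Fact.out : p.Prime).two_le (hGn.symm.trans D.card_commutator_top)
  subst hn'
  have hp0 := (Fact.out : p.Prime).pos
  have hset : {g : G | (Subgroup.centralizer ({g} : Set G)).index = p ^ i}
      = (D.cong (D.n - i) : Set G) \ (D.cong (D.n - i + 1) : Set G) := by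
    ext g
    rw [Set.mem_diff, SetLike.mem_coe, SetLike.mem_coe, ← D.index_centralizer_le_iff g (by omega),
      ← D.index_centralizer_le_iff g (k := D.n - i + 1) (by omega), show D.n - (D.n - i) = i by omega,
      show D.n - (D.n - i + 1) = i - 1 by omega, Set.mem_setOf_eq]
    obtain ⟨k, hk, hgk, hmax⟩ := D.exists_level g
    rw [D.index_centralizer hk hgk hmax, Nat.pow_le_pow_iff_right (Fact.out : p.Prime).one_lt,
      Nat.pow_le_pow_iff_right (Fact.out : p.Prime).one_lt,
      (Nat.pow_right_injective (Fact.out : p.Prime).two_le).eq_iff]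
    omega
  rw [show {g : G // (Subgroup.centralizer ({g} : Set G)).index = p ^ i}
      = ↥{g : G | (Subgroup.centralizer ({g} : Set G)).index = p ^ i} from rfl, Nat.card_coe_set_eq, hset,
    Set.ncard_sdiff (D.cong_antitone (Nat.le_succ _) : D.cong (D.n - i + 1) ≤ D.cong (D.n - i)) (Set.toFinite _),
    ← Nat.card_coe_set_eq, ← Nat.card_coe_set_eq]
  have h1 := D.card_cong (k := D.n - i) (by omega)
  have h2 := D.card_cong (k := D.n - i + 1) (by omega)
  have h3 := D.card_cong (k := D.n) le_rfl
  rw [← D.center_eq] at h3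
  have e1 : Nat.card (D.cong (D.n - i)) = Nat.card ↥(Subgroup.center G) * p ^ (2 * i) := by
    refine Nat.eq_of_mul_eq_mul_right (pow_pos hp0 (2 * (D.n - i))) ?_
    rw [h1, ← h3, mul_assoc, ← pow_add]; congr 2; omega
  have e2 : Nat.card (D.cong (D.n - i + 1)) = Nat.card ↥(Subgroup.center G) * p ^ (2 * i - 2) := by
    refine Nat.eq_of_mul_eq_mul_right (pow_pos hp0 (2 * (D.n - i + 1))) ?_
    rw [h2, ← h3, mul_assoc, ← pow_add]; congr 2; omega
  show Nat.card (D.cong (D.n - i)) - Nat.card (D.cong (D.n - i + 1)) = _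
  rw [e1, e2, Nat.mul_sub]

end Cfsg.Agent.S3881
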