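import Cfsg.Statements.S3882
import Cfsg.Agent.Metacyclic.Subgroups
-- import your own Cfsg.Agent.* helpers here

set_option autoImplicit false
open Cfsg
open Cfsg.Agent

namespace Cfsg.Agent.S3882

/-- Let p be an odd prime and G a finite metacyclic p-group (G has a cyclic normal subgroup with cyclic quotient). Suppose |G'| = p^n and 0 ≤ s ≤ n. Then an element g lies in the subgroup generated by the p^s-th powers if and only if its conjugacy class has at most p^(n−s) elements; in particular the subgroup generated by the p^n-th powers is the center of G. -/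
theorem result {G : Type*} [Group G] [Finite G] {p : ℕ} [Fact p.Prime] (hp : p ≠ 2) (hG : IsPGroup p G) (hmc : Cfsg.IsMetacyclic G) (n : ℕ) (hGn : Nat.card ↥(commutator G) = p ^ n) (s : ℕ) (hs : s ≤ n) (g : G) :
    (g ∈ Subgroup.closure {x : G | ∃ y : G, y ^ p ^ s = x} ↔ (Subgroup.centralizer ({g} : Set G)).index ≤ p ^ (n - s)) ∧
      Subgroup.closure {x : G | ∃ y : G, y ^ p ^ n = x} = Subgroup.center G := by
  obtain ⟨D⟩ := Metacyclic.exists_data hp hG hmc
  have hn' : n = D.n := Nat.pow_right_injective (Fact.out : p.Prime).two_le (hGn.symm.trans D.card_commutator_top)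
  subst hn'
  have key : ∀ k ≤ D.n, Subgroup.closure {x : G | ∃ y : G, y ^ p ^ k = x} = D.cong k := by
    intro k hk
    refine le_antisymm ((Subgroup.closure_le _).mpr ?_) fun g hg => ?_
    · rintro _ ⟨y, rfl⟩
      obtain ⟨x, z, rfl⟩ := D.hgen' y
      rw [SetLike.mem_coe, D.el_pow, D.el_mem_cong_iff hk]
      exact ⟨((Metacyclic.pow_dvd_geo_iff D.hp2 D.ht1 (D.dvd_pow_sub_one' z) k (p ^ k)).mpr dvd_rfl).mul_left x,
        dvd_mul_left _ _⟩
    · obtain ⟨x, z, ⟨x', rfl⟩, ⟨z', rfl⟩, rfl⟩ := D.mem_cong.mp hg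
      refine mul_mem (Subgroup.subset_closure ⟨D.a ^ x', ?_⟩) (Subgroup.subset_closure ⟨D.b ^ z', ?_⟩)
      · rw [← zpow_natCast, ← zpow_mul, Nat.cast_pow, mul_comm]
      · rw [← pow_mul, mul_comm]
  rw [key s hs, key D.n le_rfl, ← D.center_eq]
  exact ⟨(D.index_centralizer_le_iff g hs).symm, rfl⟩

end Cfsg.Agent.S3882
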