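import Cfsg.Statements.S3883
import Cfsg.Agent.Metacyclic.Subgroups
import Cfsg.Agent.S3880
-- import your own Cfsg.Agent.* helpers here

set_option autoImplicit false
open Cfsg
open Cfsg.Agent

namespace Cfsg.Agent.S3883
open Cfsg.Agent in
theorem frattini_eq {G : Type*} [Group G] [Finite G] {p : ℕ} [Fact p.Prime] (hG : IsPGroup p G) (D : Metacyclic.Data p G) (hn0 : 0 < D.n) :
    frattini G = D.cong 1 := by
  have hpp := (Fact.out : p.Prime)
  have : Group.IsNilpotent G := hG.isNilpotent
  refine le_antisymm (fun g hg => ?_) (le_iInf₂ fun M hM g hg => ?_)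
  · by_contra h
    obtain ⟨x, y, rfl⟩ := D.hgen' g
    rw [D.el_mem_cong_iff hn0, pow_one, pow_one, not_and_or] at h
    have key : ∀ (H : Subgroup G), D.el x y ∉ H → Nat.card H * p = Nat.card G → False := by
      intro H hnot hc
      refine hnot (frattini_le_coatom ?_ hg)
      have hidx : H.index = p := Nat.eq_of_mul_eq_mul_left Nat.card_pos ((H.card_mul_index).trans hc.symm)
      refine ⟨fun h => hnot (h ▸ Subgroup.mem_top _), fun K hK => ?_⟩
      have h1 := Subgroup.relIndex_mul_index hK.le
      rw [hidx] at h1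
      rcases (Nat.dvd_prime hpp).mp (Dvd.intro_left _ h1) with h2 | h2
      · exact Subgroup.index_eq_one.mp h2
      · rw [h2, Nat.mul_eq_right hpp.pos.ne'] at h1
        exact absurd (Subgroup.relIndex_eq_one.mp h1) hK.not_ge
    rcases h with h | h
    · -- first coordinate divisible by `p`
      let H : Subgroup G :=
        { carrier := {u | ∃ (x : ℤ) (y : ℕ), (p : ℤ) ∣ x ∧ u = D.el x y}
          one_mem' := ⟨0, 0, dvd_zero _, D.el_zero.symm⟩
          mul_mem' := by
            rintro _ _ ⟨a, b, ha, rfl⟩ ⟨c, d, hc, rfl⟩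
            exact ⟨_, _, dvd_add ha (hc.mul_left _), D.el_mul a c b d⟩
          inv_mem' := by
            rintro _ ⟨a, b, ha, rfl⟩
            obtain ⟨m, hm⟩ : ∃ m, (D.el a b)⁻¹ = D.el a b ^ m :=
              ⟨_, inv_eq_of_mul_eq_one_right (by rw [← pow_succ', Nat.sub_add_cancel
                (orderOf_pos (D.el a b)), pow_orderOf_eq_one])⟩
            rw [hm, D.el_pow]
            exact ⟨_, _, ha.mul_right _, rfl⟩ }
      have hmem : ∀ a b, D.el a b ∈ H ↔ (p : ℤ) ∣ a := fun a b => ⟨fun ⟨a', b', ha, he⟩ => by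
        have := (D.coord he hn0).1; rw [pow_one] at this; exact this.mpr ha, fun ha => ⟨a, b, ha, rfl⟩⟩
      refine key H (fun hh => h ((hmem x y).mp hh)) ?_
      rw [D.card_group, ← D.card_mul_pow H 1 0 0 (by have := D.hnα; omega) (Nat.zero_le _) (fun z => by
        rw [show D.a ^ z = D.el z 0 by simp [Metacyclic.Data.el], hmem, pow_one])
        ((hmem _ _).mpr (dvd_zero _)) (by simp)]
      simp
    · let H : Subgroup G :=
        { carrier := {u | ∃ (x : ℤ) (y : ℕ), p ∣ y ∧ u = D.el x y}
          one_mem' := ⟨0, 0, dvd_zero _, D.el_zero.symm⟩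
          mul_mem' := by
            rintro _ _ ⟨a, b, ha, rfl⟩ ⟨c, d, hc, rfl⟩
            exact ⟨_, _, dvd_add ha hc, D.el_mul a c b d⟩
          inv_mem' := by
            rintro _ ⟨a, b, ha, rfl⟩
            obtain ⟨m, hm⟩ : ∃ m, (D.el a b)⁻¹ = D.el a b ^ m :=
              ⟨_, inv_eq_of_mul_eq_one_right (by rw [← pow_succ', Nat.sub_add_cancel
                (orderOf_pos (D.el a b)), pow_orderOf_eq_one])⟩
            rw [hm, D.el_pow]
            exact ⟨_, _, ha.mul_right _, rfl⟩ }
      have hmem : ∀ a b, D.el a b ∈ H ↔ p ∣ b := fun a b => ⟨fun ⟨a', b', ha, he⟩ => by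
        have := (D.coord he hn0).2; rw [pow_one] at this; exact this.mpr ha, fun ha => ⟨a, b, ha, rfl⟩⟩
      refine key H (fun hh => h ((hmem x y).mp hh)) ?_
      rw [D.card_group, ← D.card_mul_pow H 0 1 0 (Nat.zero_le _) (le_trans hn0 D.n_le_β) (fun z => by
        rw [show D.a ^ z = D.el z 0 by simp [Metacyclic.Data.el], hmem]; simp)
        ((hmem _ _).mpr (by rw [pow_one])) (fun a b hb => by rw [pow_one]; exact (hmem a b).mp hb)]
      simp
  · have : M.Normal := (Group.isNilpotent_of_finite_tfae.out 0 2 rfl rfl).mp hG.isNilpotent M hM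
    obtain ⟨x, y, ⟨x', rfl⟩, ⟨y', rfl⟩, rfl⟩ := D.mem_cong.mp hg
    have hidx : M.index = p := by
      obtain ⟨m, hm⟩ := hG.index M
      have hcard := (hG.to_subgroup M).exists_card_eq
      obtain ⟨c, hc⟩ := hcard
      have h1 := M.card_mul_index
      rw [hc, hm, ← pow_add] at h1
      rcases m with _ | _ | m
      · exact absurd (Subgroup.index_eq_one.mp (by rw [hm]; rfl)) hM.1
      · rw [hm]; simp
      · obtain ⟨K, hK, hMK⟩ := Sylow.exists_subgroup_card_pow_succ (p := p) (n := c)
          (h1 ▸ pow_dvd_pow p (by omega)) hc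
        rcases (hMK.eq_or_lt) with rfl | hlt
        · rw [hc] at hK
          exact absurd (Nat.pow_right_injective hpp.two_le hK) (by omega)
        · rw [hM.2 K hlt, Subgroup.card_top, ← h1] at hK
          exact absurd (Nat.pow_right_injective hpp.two_le hK) (by omega)
    have hpow : ∀ u : G, u ^ p ∈ M := fun u => by
      have := (QuotientGroup.eq_one_iff (N := M) (u ^ p)).mp (by
        rw [QuotientGroup.mk_pow, ← hidx, Subgroup.index_eq_card]
        exact pow_card_eq_one')
      exact this
    refine mul_mem ?_ ?_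
    · rw [pow_one, mul_comm, zpow_mul, zpow_natCast]; exact hpow _
    · rw [pow_one, mul_comm, pow_mul]; exact hpow _


/-- Let p be an odd prime and G a finite metacyclic p-group (G has a cyclic normal subgroup with cyclic quotient). Suppose G is non-abelian. Then an element g of G lies outside the Frattini subgroup if and only if its centralizer C_G(g) is abelian. -/
theorem result {G : Type*} [Group G] [Finite G] {p : ℕ} [Fact p.Prime] (hp : p ≠ 2) (hG : IsPGroup p G) (hmc : Cfsg.IsMetacyclic G) (hna : ¬ IsMulCommutative G) (g : G) :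
    g ∉ frattini G ↔ IsMulCommutative ↥(Subgroup.centralizer ({g} : Set G)) := by
  obtain ⟨D⟩ := Metacyclic.exists_data hp hG hmc
  have hn0 : 0 < D.n := by
    by_contra h
    apply hna
    have : IsMulCommutative ↥(⊤ : Subgroup G) := (S3880.isMulCommutative_iff_card_le D ⊤).mpr (by
      have h2 := (commutator G).card_mul_index
      rw [D.card_commutator_top, show D.n = 0 by omega, pow_zero, one_mul] at h2
      rw [Subgroup.card_top, h2])
    exact ⟨⟨fun a b => setLike_mul_comm (s := (⊤ : Subgroup G)) (Subgroup.mem_top a) (Subgroup.mem_top b)⟩⟩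
  have hfr : frattini G = D.cong 1 := frattini_eq hG D hn0
  rw [hfr, ← D.index_centralizer_le_iff g hn0, S3880.isMulCommutative_iff_card_le D]
  obtain ⟨k, hk, hgk, hmax⟩ := D.exists_level g
  have h2 := (commutator G).card_mul_index
  have h3 := (Subgroup.centralizer ({g} : Set G)).card_mul_index
  rw [D.card_commutator_top] at h2
  rw [D.index_centralizer hk hgk hmax] at h3 ⊢
  rw [Nat.pow_le_pow_iff_right (Fact.out : p.Prime).one_lt]
  constructor
  · intro h
    refine le_of_eq (Nat.eq_of_mul_eq_mul_right (pow_pos (Fact.out : p.Prime).pos D.n) ?_)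
    rw [mul_comm (commutator G).index, h2, ← h3]; congr 2; omega
  · intro h hle
    have h4 : p ^ D.n ≤ p ^ (D.n - k) := by
      refine Nat.le_of_mul_le_mul_left ?_ (Nat.card_pos (α := ↥(Subgroup.centralizer ({g} : Set G))))
      rw [h3, ← h2, mul_comm (p ^ D.n)]
      exact Nat.mul_le_mul_right _ h
    rw [Nat.pow_le_pow_iff_right (Fact.out : p.Prime).one_lt] at h4
    omega

end Cfsg.Agent.S3883
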