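import Cfsg.Statements.S3887
import Cfsg.Agent.Metacyclic.Subgroups
-- import your own Cfsg.Agent.* helpers here

set_option autoImplicit false
open Cfsg
open Cfsg.Agent

namespace Cfsg.Agent.S3887
open Cfsg.Agent in
theorem card_mul_card_centralizer {G : Type*} [Group G] [Finite G] {p : ℕ} [Fact p.Prime] (D : Metacyclic.Data p G) {R : Subgroup G} (hR : Subgroup.center G ≤ R) :
    Nat.card R * Nat.card (Subgroup.centralizer (R : Set G)) = Nat.card G * Nat.card (Subgroup.center G) := by
  obtain ⟨Q⟩ := D.exists_sub R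
  have h1 := Q.card
  have h2 := Q.index_centralizer hR
  have h3 := (Subgroup.centralizer (R : Set G)).card_mul_index
  have h4 := D.card_cong (k := D.n) le_rfl
  rw [← D.center_eq] at h4
  refine Nat.eq_of_mul_eq_mul_right (pow_pos (Fact.out : p.Prime).pos (2 * D.n)) ?_
  rw [mul_assoc (Nat.card G) (Nat.card (Subgroup.center G)), h4]
  conv_rhs => rw [← h3]; arg 1; rw [h3, ← h1]
  rw [← h2]; ring

open Cfsg.Agent in
theorem card_mul_card_centralizer_le {G : Type*} [Group G] [Finite G] {p : ℕ} [Fact p.Prime] (D : Metacyclic.Data p G) (R : Subgroup G) :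
    Nat.card R * Nat.card (Subgroup.centralizer (R : Set G)) ≤ Nat.card G * Nat.card (Subgroup.center G) ∧
      (Nat.card R * Nat.card (Subgroup.centralizer (R : Set G)) = Nat.card G * Nat.card (Subgroup.center G) →
        Subgroup.center G ≤ R) := by
  have hC : Subgroup.centralizer (R : Set G) ≤ Subgroup.centralizer ((R ⊔ Subgroup.center G : Subgroup G) : Set G) := by
    rw [Subgroup.le_centralizer_iff, sup_le_iff]
    exact ⟨Subgroup.le_centralizer_iff.mp le_rfl, Subgroup.center_le_centralizer _⟩
  have h1 := Subgroup.card_le_of_le hC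
  have h2 := Subgroup.card_le_of_le (le_sup_left : R ≤ R ⊔ Subgroup.center G)
  have h3 := card_mul_card_centralizer D (le_sup_right : Subgroup.center G ≤ R ⊔ Subgroup.center G)
  refine ⟨(Nat.mul_le_mul h2 h1).trans h3.le, fun h => ?_⟩
  by_contra hZ
  have hlt : R < R ⊔ Subgroup.center G := lt_of_le_of_ne le_sup_left fun e => hZ (e ▸ le_sup_right)
  have h4 : Nat.card R < Nat.card ↥(R ⊔ Subgroup.center G) := lt_of_le_of_ne h2 fun e => hlt.ne (Subgroup.eq_of_le_of_card_ge hlt.le e.ge)
  have := (Nat.mul_le_mul_left (Nat.card R) h1).trans_lt (Nat.mul_lt_mul_of_pos_right h4 Nat.card_pos)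
  omega

open Cfsg.Agent in
theorem centralizerLarge_iff {G : Type*} [Group G] [Finite G] {p : ℕ} [Fact p.Prime] (D : Metacyclic.Data p G) (R : Subgroup G) :
    Cfsg.IsCentralizerLarge R ↔ Subgroup.center G ≤ R := by
  have hmax : Cfsg.maxCentralizerProduct G = Nat.card G * Nat.card (Subgroup.center G) := by
    refine IsGreatest.csSup_eq ⟨⟨Subgroup.center G, card_mul_card_centralizer D le_rfl⟩, ?_⟩
    rintro k ⟨R', rfl⟩
    exact (card_mul_card_centralizer_le D R').1
  unfold Cfsg.IsCentralizerLarge
  rw [hmax]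
  exact ⟨(card_mul_card_centralizer_le D R).2, card_mul_card_centralizer D⟩


/-- Let p be an odd prime and G a finite metacyclic p-group (G has a cyclic normal subgroup with cyclic quotient). Then a subgroup R of G maximizes |R| · |C_G(R)| over all subgroups of G if and only if R contains the center of G. -/
theorem result {G : Type*} [Group G] [Finite G] {p : ℕ} [Fact p.Prime] (hp : p ≠ 2) (hG : IsPGroup p G) (hmc : Cfsg.IsMetacyclic G) (R : Subgroup G) : Cfsg.IsCentralizerLarge R ↔ Subgroup.center G ≤ R := by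
  obtain ⟨D⟩ := Metacyclic.exists_data hp hG hmc
  exact centralizerLarge_iff D R

end Cfsg.Agent.S3887
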