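import Cfsg.Statements.S3886
import Cfsg.Agent.Metacyclic.Subgroups
import Cfsg.Agent.S3880
-- import your own Cfsg.Agent.* helpers here

set_option autoImplicit false
open Cfsg
open Cfsg.Agent

namespace Cfsg.Agent.S3886
theorem isMetacyclic_subgroup {G : Type*} [Group G] (h : Cfsg.IsMetacyclic G) (R : Subgroup G) : Cfsg.IsMetacyclic ↥R := by
  obtain ⟨N, hN, hNc, hQc⟩ := h
  refine ⟨N.subgroupOf R, hN.subgroupOf R, ?_, ?_⟩
  · exact isCyclic_of_injective
      ({ toFun := fun x => ⟨((x : R) : G), x.2⟩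
         map_one' := rfl
         map_mul' := fun _ _ => rfl } : N.subgroupOf R →* N)
      (fun x y h => Subtype.ext (Subtype.ext (congrArg (fun z : N => (z : G)) h)))
  · refine isCyclic_of_injective (QuotientGroup.map (N.subgroupOf R) N R.subtype le_rfl) ?_
    rw [← MonoidHom.ker_eq_bot_iff, eq_bot_iff]
    intro x hx
    obtain ⟨r, rfl⟩ := QuotientGroup.mk_surjective x
    rw [Subgroup.mem_bot, QuotientGroup.eq_one_iff]
    exact (QuotientGroup.eq_one_iff (N := N) (r : G)).mp hx


/-- Let p be an odd prime and G a finite metacyclic p-group (G has a cyclic normal subgroup with cyclic quotient). Then the largest value of |R| · |Z(R)| over subgroups R of G is |G : G'|², and the subgroups attaining it (the centrally large subgroups) are exactly the non-abelian subgroups together with the maximal abelian subgroups of G. -/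
theorem result {G : Type*} [Group G] [Finite G] {p : ℕ} [Fact p.Prime] (hp : p ≠ 2) (hG : IsPGroup p G) (hmc : Cfsg.IsMetacyclic G) : Cfsg.maxCentralProduct G = (commutator G).index ^ 2 ∧
    ∀ R : Subgroup G, Cfsg.IsCentrallyLarge R ↔ (¬ IsMulCommutative ↥R ∨ Maximal (fun K : Subgroup G => IsMulCommutative ↥K) R) := by
  obtain ⟨D⟩ := Metacyclic.exists_data hp hG hmc
  have hb := (commutator G).card_mul_index
  rw [D.card_commutator_top] at hb
  set B := (commutator G).index with hB
  have hnonab : ∀ R : Subgroup G, ¬ IsMulCommutative ↥R → Nat.card ↥R * Nat.card ↥(Subgroup.center ↥R) = B ^ 2 := by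
    intro R hR
    have hmcR : Cfsg.IsMetacyclic ↥R := isMetacyclic_subgroup hmc R
    obtain ⟨DR⟩ := Metacyclic.exists_data hp (hG.to_subgroup R) hmcR
    obtain ⟨Q⟩ := D.exists_sub R
    have hlt : Q.i + Q.j < D.n := by
      by_contra h
      exact hR (Q.isMulCommutative_iff.mpr (by omega))
    have hRn : Nat.card ↥(commutator ↥R) = p ^ (D.n - (Q.i + Q.j)) := by
      rw [← Q.card_commutator, ← Subgroup.map_subtype_commutator,
        Subgroup.card_map_of_injective R.subtype_injective]
    have hm : DR.n = D.n - (Q.i + Q.j) :=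
      Nat.pow_right_injective (Fact.out : p.Prime).two_le (DR.card_commutator_top.symm.trans hRn)
    have h1 := DR.card_cong (k := DR.n) le_rfl
    rw [← DR.center_eq, hm] at h1
    have h2 := Q.card
    refine Nat.eq_of_mul_eq_mul_left (pow_pos (Fact.out : p.Prime).pos (2 * D.n)) ?_
    calc p ^ (2 * D.n) * (Nat.card ↥R * Nat.card ↥(Subgroup.center ↥R))
        = (Nat.card ↥(Subgroup.center ↥R) * p ^ (2 * (D.n - (Q.i + Q.j)))) * (Nat.card ↥R * p ^ (2 * (Q.i + Q.j))) := by
          rw [show 2 * D.n = 2 * (D.n - (Q.i + Q.j)) + 2 * (Q.i + Q.j) by omega, pow_add]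
          ring
      _ = (Nat.card ↥R * p ^ (Q.i + Q.j)) ^ 2 := by rw [h1, pow_mul' p 2 (Q.i + Q.j)]; ring
      _ = p ^ (2 * D.n) * B ^ 2 := by rw [h2, ← hb, pow_mul' p 2 D.n]; ring
  have hab : ∀ R : Subgroup G, IsMulCommutative ↥R → Nat.card ↥R * Nat.card ↥(Subgroup.center ↥R) = Nat.card ↥R ^ 2 := by
    intro R hR
    rw [show Subgroup.center ↥R = ⊤ from eq_top_iff.mpr fun x _ => Subgroup.mem_center_iff.mpr fun y => hR.is_comm.comm y x,
      Subgroup.card_top, sq]
  have hmax : Cfsg.maxCentralProduct G = B ^ 2 := by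
    refine IsGreatest.csSup_eq ⟨?_, ?_⟩
    · by_cases h : IsMulCommutative ↥(⊤ : Subgroup G)
      · refine ⟨⊤, ?_⟩
        rw [hab _ h]
        congr 1
        refine le_antisymm ((S3880.isMulCommutative_iff_card_le D _).mp h) ?_
        rw [Subgroup.card_top]
        exact Nat.le_of_dvd Nat.card_pos (commutator G).index_dvd_card
      · exact ⟨⊤, hnonab _ h⟩
    · rintro k ⟨R, rfl⟩
      by_cases h : IsMulCommutative ↥R
      · rw [hab _ h]; exact Nat.pow_le_pow_left ((S3880.isMulCommutative_iff_card_le D _).mp h) 2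
      · exact (hnonab _ h).le
  refine ⟨hmax, fun R => ?_⟩
  unfold Cfsg.IsCentrallyLarge
  rw [hmax]
  by_cases h : IsMulCommutative ↥R
  · rw [hab _ h, S3880.maximal_iff_card_eq hG D, Nat.pow_left_injective (by norm_num : 2 ≠ 0) |>.eq_iff]
    exact ⟨Or.inr, fun h' => h'.resolve_left (not_not.mpr h)⟩
  · exact ⟨fun _ => Or.inl h, fun _ => hnonab _ h⟩

end Cfsg.Agent.S3886
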