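import Cfsg.Statements.S3888
import Cfsg.Agent.RankTwo.Generators
-- import your own Cfsg.Agent.* helpers here

set_option autoImplicit false
open Cfsg

namespace Cfsg.Agent.S3888

/-- The classification of the p-groups of rank at most two for odd p. Let p be an odd prime and G a group of order p^n with no elementary abelian subgroup of order p³. Then one of the following holds: G is metacyclic; n ≥ 3 and G is generated by elements x, y, z with x^p = y^p = z^(p^(n−2)) = 1, z commuting with x and y, and x⁻¹yx = y z^(p^(n−3)); n ≥ 4 and G is generated by elements x, y, z with x^p = y^p = z^(p^(n−2)) = 1, yz = zy, x⁻¹yx = y z^(s p^(n−3)) and x⁻¹zx = yz, where s = 1 or s is a quadratic non-residue modulo p; or p = 3 and G has maximal class (nilpotency class n − 1). -/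
theorem result {G : Type*} [Group G] [Finite G] {p : ℕ} [Fact p.Prime] (hp : p ≠ 2) (n : ℕ) (hG : Nat.card G = p ^ n)
    (hrk : Cfsg.PRankLE p 2 G) :
    Cfsg.IsMetacyclic G ∨
    (3 ≤ n ∧ ∃ x y z : G, Subgroup.closure ({x, y, z} : Set G) = ⊤ ∧ x ^ p = 1 ∧ y ^ p = 1 ∧ z ^ p ^ (n - 2) = 1 ∧
        x * z = z * x ∧ y * z = z * y ∧ x⁻¹ * y * x = y * z ^ p ^ (n - 3)) ∨
    (4 ≤ n ∧ ∃ (s : ℕ) (x y z : G), (s = 1 ∨ ¬ IsSquare (s : ZMod p)) ∧ Subgroup.closure ({x, y, z} : Set G) = ⊤ ∧
        x ^ p = 1 ∧ y ^ p = 1 ∧ z ^ p ^ (n - 2) = 1 ∧ y * z = z * y ∧ x⁻¹ * y * x = y * z ^ (s * p ^ (n - 3)) ∧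
        x⁻¹ * z * x = y * z) ∨
    (p = 3 ∧ 2 ≤ n ∧ (⊤ : Subgroup G).lowerCentralSeries (n - 2) ≠ ⊥) := by
  classical
  have hGp : IsPGroup p G := IsPGroup.of_card hG
  by_cases hcy : IsCyclic G
  · haveI := hcy
    refine Or.inl ⟨⊤, inferInstance, inferInstance, ?_⟩
    haveI := QuotientGroup.subsingleton_quotient_top (G := G)
    infer_instance
  obtain ⟨E, hEn, hE, hEc⟩ := Fusion.exists_normal_elementary_card_sq hp hGp hcy
  haveI := hEn
  have hω : ∀ x ∈ Subgroup.centralizer (E : Set G), x ^ p = 1 → x ∈ E := by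
    intro x hx hxp
    by_contra hxE
    set A := Subgroup.closure ((E : Set G) ∪ {x}) with hA
    have hcomm : ∀ a ∈ A, ∀ b ∈ A, a * b = b * a := by
      have hle : A ≤ Subgroup.centralizer (A : Set G) := by
        rw [hA, Subgroup.closure_le, Subgroup.centralizer_closure]
        rintro a (ha | rfl) <;> refine Subgroup.mem_centralizer_iff.mpr ?_
        · rintro b (hb | rfl)
          exacts [congrArg Subtype.val (hE.1.is_comm.comm (⟨b, hb⟩ : E) ⟨a, ha⟩),
            (Subgroup.mem_centralizer_iff.mp hx a ha).symm]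
        · rintro b (hb | rfl)
          exacts [Subgroup.mem_centralizer_iff.mp hx b hb, rfl]
      exact fun a ha b hb => Subgroup.mem_centralizer_iff.mp (hle hb) a ha
    have hexp : ∀ a ∈ A, a ^ p = 1 := by
      intro a ha
      rw [hA] at ha
      induction ha using Subgroup.closure_induction with
      | mem w hw =>
        rcases hw with hw | rfl
        exacts [hE.2 w hw, hxp]
      | one => exact one_pow p
      | mul a b ha hb iha ihb =>
        rw [(show Commute a b from hcomm a (hA ▸ ha) b (hA ▸ hb)).mul_pow, iha, ihb, one_mul]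
      | inv a _ iha => rw [inv_pow, iha, inv_one]
    have h1 := RankTwo.card_le_of_rank hrk hcomm hexp
    have h2 := RankTwo.card_mul_le_of_lt hGp (lt_of_le_of_ne
      (fun a ha => Subgroup.subset_closure (Or.inl ha) : E ≤ A)
      fun h => hxE (h ▸ Subgroup.subset_closure (Or.inr rfl)))
    rw [hEc, ← pow_succ'] at h2
    exact absurd ((Nat.pow_le_pow_iff_right (Fact.out : p.Prime).one_lt).mp (h2.trans h1)) (by norm_num)
  have hn2 : 2 ≤ n := by
    refine (Nat.pow_le_pow_iff_right (Fact.out : p.Prime).one_lt).mp ?_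
    rw [← hEc, ← hG]
    exact Nat.le_of_dvd Nat.card_pos (Subgroup.card_subgroup_dvd_card E)
  by_cases hcen : E ≤ Subgroup.center G
  · refine Or.inl (RankTwo.isMetacyclic_of_pCentral hp hGp (fun z hz => hcen (hω z ?_ hz)) ?_)
    · exact Subgroup.mem_centralizer_iff.mpr fun e he => (Subgroup.mem_center_iff.mp (hcen he) z).symm
    · rw [← hEc]
      exact Nat.le_of_dvd Nat.card_pos (Subgroup.card_dvd_of_le ((Subgroup.closure_le _).mpr
        fun z hz => hω z (Subgroup.mem_centralizer_iff.mpr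
          fun e he => (Subgroup.mem_center_iff.mp (hcen he) z).symm) hz.2))
  obtain ⟨Z, F⟩ := RankTwo.exists_frame hGp hEc hE.2 hcen hω
  by_cases hu : ∃ u : G, u ^ p = 1 ∧ u ∉ Subgroup.centralizer (E : Set G)
  · obtain ⟨u, hup, huC⟩ := hu
    by_cases hp3 : 3 < p
    · obtain ⟨c, k, D⟩ := F.genData_of_rank hGp hp3 hrk hup huC
      exact Or.inr ((F.relations hGp hp hG hup huC D).imp_right Or.inl)
    have hp' : p = 3 := by have := (Fact.out : p.Prime).two_le; omega
    by_cases hbig : p ^ 2 < Nat.card (Subgroup.centralizer ({u} : Set G))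
    · obtain ⟨c, k, D⟩ := F.genData_of_big hGp hp hup huC hbig
      exact Or.inr ((F.relations hGp hp hG hup huC D).imp_right Or.inl)
    exact Or.inr (Or.inr (Or.inr ⟨hp', hn2,
      RankTwo.maxClass_of_centralizer n G hG hn2 ⟨u, not_lt.mp hbig⟩⟩))
  push Not at hu
  by_cases hp3 : 3 < p
  · refine Or.inl (RankTwo.isMetacyclic_of_omega hp3 hGp ?_)
    rw [← hEc]
    exact Nat.le_of_dvd Nat.card_pos (Subgroup.card_dvd_of_le ((Subgroup.closure_le _).mpr
      fun z hz => hω z (hu z hz.2) hz.2))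
  have hp' : p = 3 := by have := (Fact.out : p.Prime).two_le; omega
  rcases RankTwo.frame_dichotomy _ G E Z rfl hp hGp F (fun g hg h => hg (hu g h)) with h | h
  · exact Or.inl h
  · exact Or.inr (Or.inr (Or.inr ⟨hp', hn2, h n hG⟩))

end Cfsg.Agent.S3888
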