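import Cfsg.Statements.S3889
import Mathlib
set_option autoImplicit false
open Cfsg

namespace Cfsg.Agent.S3889

open Subgroup


/-- A finite abelian group that is the union of a family of proper subgroups any two of which intersect trivially is elementary abelian: its exponent is a prime. -/
theorem result {G : Type*} [CommGroup G] [Finite G] (𝓑 : Set (Subgroup G)) (hprop : ∀ B ∈ 𝓑, B ≠ ⊤)
    (hcov : ∀ g : G, ∃ B ∈ 𝓑, g ∈ B) (hdisj : ∀ B ∈ 𝓑, ∀ C ∈ 𝓑, B ≠ C → B ⊓ C = ⊥) :
    (Monoid.exponent G).Prime := by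
  obtain ⟨x, hx⟩ := Monoid.exists_orderOf_eq_exponent (Monoid.ExponentExists.of_finite : Monoid.ExponentExists G)
  obtain ⟨B, hB, hxB⟩ := hcov x
  obtain ⟨y, hy⟩ : ∃ y, y ∉ B := by
    by_contra! h
    exact hprop B hB (eq_top_iff.mpr fun z _ => h z)
  set e := Monoid.exponent G with he
  have hout : ∀ y, y ∉ B → orderOf y = e := by
    intro y hy
    by_contra hne
    have hdvd : orderOf y ∣ e := Monoid.order_dvd_exponent y
    have h1 : x ^ orderOf y ≠ 1 := fun h => hne (Nat.dvd_antisymm hdvd (hx ▸ orderOf_dvd_of_pow_eq_one h))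
    obtain ⟨D, hD, hxy⟩ := hcov (x * y)
    have hDB : D ≠ B := by
      rintro rfl
      exact hy ((mul_mem_cancel_left hxB).mp hxy)
    refine h1 (mem_bot.mp ((hdisj D hD B hB hDB).le ⟨?_, pow_mem hxB _⟩))
    have := pow_mem hxy (orderOf y)
    rwa [mul_pow, pow_orderOf_eq_one, mul_one] at this
  have he1 : e ≠ 1 := fun h => hy (by
    rw [orderOf_eq_one_iff.mp ((hout y hy).trans h)]; exact one_mem B)
  obtain ⟨r, hr, hre⟩ := Nat.exists_prime_and_dvd he1
  by_contra hnp
  have hne : r ≠ e := fun h => hnp (h ▸ hr)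
  obtain ⟨C, hC, hyC⟩ := hcov y
  have hCB : C ≠ B := by rintro rfl; exact hy hyC
  have he0 : 0 < e := by rw [← hout y hy]; exact orderOf_pos y
  have hyr : y ^ r ≠ 1 := fun h =>
    hne (Nat.dvd_antisymm hre (hout y hy ▸ orderOf_dvd_of_pow_eq_one h))
  have hyrB : y ^ r ∈ B := by
    by_contra h
    have h1 := hout _ h
    rw [orderOf_pow_of_dvd hr.ne_zero ((hout y hy).symm ▸ hre), hout y hy] at h1
    have := Nat.div_lt_self he0 hr.one_lt
    omega
  exact hyr (mem_bot.mp ((hdisj C hC B hB hCB).le ⟨pow_mem hyC r, hyrB⟩))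

end Cfsg.Agent.S3889
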