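import Cfsg.Statements.S3891
import Cfsg.Agent.NilMinCover.Basic

set_option autoImplicit false
open Cfsg

namespace Cfsg.Agent.S3891

/-- A cover of a group is a finite set of proper subgroups whose union is the whole group; it is minimal when no cover has fewer members, and nilpotent when all its members are nilpotent. Let G be a finite group with trivial center admitting a nilpotent minimal cover, and let P be a non-normal Sylow p-subgroup of G that is cyclic, or abelian but not elementary abelian. Then the centralizer of P is nilpotent and the normalizer of P is the unique maximal subgroup of G containing the centralizer of P. -/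
theorem result {G : Type*} [Group G] [Finite G] (hZ : Subgroup.center G = ⊥) (𝓐 : Finset (Subgroup G))
    (h𝓐 : ((∀ A ∈ 𝓐, A ≠ ⊤) ∧ (∀ g : G, ∃ A ∈ 𝓐, g ∈ A)) ∧ (∀ 𝓑 : Finset (Subgroup G), (∀ A ∈ 𝓑, A ≠ ⊤) ∧ (∀ g : G, ∃ A ∈ 𝓑, g ∈ A) → 𝓐.card ≤ 𝓑.card) ∧ (∀ A ∈ 𝓐, Group.IsNilpotent ↥A)) {p : ℕ} [Fact p.Prime] (P : Sylow p G)
    (hP : IsCyclic ↥(P : Subgroup G) ∨ (IsMulCommutative ↥(P : Subgroup G) ∧ ¬ Cfsg.IsElementaryAbelian p (P : Subgroup G)))
    (hnn : ¬ (P : Subgroup G).Normal) :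
    Group.IsNilpotent ↥(Subgroup.centralizer ((P : Subgroup G) : Set G)) ∧
      IsCoatom (Subgroup.normalizer ((P : Subgroup G) : Set G)) ∧
      ∀ M : Subgroup G, IsCoatom M → Subgroup.centralizer ((P : Subgroup G) : Set G) ≤ M →
        M = Subgroup.normalizer ((P : Subgroup G) : Set G) := by
  have h : NilMinCover.IsCover 𝓐 := ⟨h𝓐.1.1, h𝓐.1.2, h𝓐.2.1, h𝓐.2.2⟩
  have hab : IsMulCommutative ↥(P : Subgroup G) := by
    rcases hP with hc | hc
    · haveI := hc
      exact ⟨⟨fun a b => IsCyclic.commGroup.mul_comm a b⟩⟩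
    · exact hc.1
  have hP' : ¬ ((∀ a ∈ (P : Subgroup G), a ^ p = 1) ∧ p < Nat.card (P : Subgroup G)) := by
    rintro ⟨hexp, hlt⟩
    rcases hP with hc | hc
    · haveI := hc
      obtain ⟨x, hx⟩ := isCyclic_iff_exists_orderOf_eq_natCard.1 hc
      have h1 : orderOf x ∣ p := orderOf_dvd_of_pow_eq_one (Subtype.ext (hexp x x.2))
      have h2 := Nat.le_of_dvd (Fact.out : p.Prime).pos h1
      omega
    · exact hc.2 ⟨hab, hexp⟩
  obtain ⟨A, hA, hPA⟩ := h.exists_member hZ P hab hP'
  obtain ⟨h1, h2, -, h4⟩ := h.conclusions hZ P hab hnn hP' hA hPA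
  exact ⟨h1.symm ▸ h.nilp A hA, h2, h4⟩

end Cfsg.Agent.S3891
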