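import Cfsg.Statements.S3892
import Cfsg.Agent.NilCover.Merge

set_option autoImplicit false
open Cfsg

namespace Cfsg.Agent.S3892

open Equiv Equiv.Perm Cfsg.Agent.NilCover

theorem card_perm (n : ℕ) : Nat.card (Perm (Fin n)) = n.factorial := by
  rw [Nat.card_eq_fintype_card, Fintype.card_perm, Fintype.card_fin]

theorem alt_dvd (n : ℕ) : Nat.card ↥(alternatingGroup (Fin n)) ∣ n.factorial := by
  rw [← card_perm n]; exact Subgroup.card_subgroup_dvd_card _

def rot012 (n : ℕ) [NeZero n] : Perm (Fin n) := swap (Fin.ofNat n 0) (Fin.ofNat n 1) * swap (Fin.ofNat n 1) (Fin.ofNat n 2)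

def rot013 (n : ℕ) [NeZero n] : Perm (Fin n) := swap (Fin.ofNat n 0) (Fin.ofNat n 1) * swap (Fin.ofNat n 1) (Fin.ofNat n 3)

theorem alt_ne_top {n : ℕ} (hn : 2 ≤ n) : alternatingGroup (Fin n) ≠ ⊤ := by
  intro h
  have hs : swap (⟨0, by omega⟩ : Fin n) ⟨1, by omega⟩ ∈ alternatingGroup (Fin n) := h ▸ Subgroup.mem_top _
  rw [Equiv.Perm.mem_alternatingGroup, sign_swap (Fin.ne_of_val_ne (show (0:ℕ) ≠ 1 by omega))] at hs
  exact absurd hs (by decide)

theorem alt_case (n : ℕ) (hn : 5 ≤ n) :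
    ¬ ∃ 𝓐 : Finset (Subgroup ↥(alternatingGroup (Fin n))), ((∀ A ∈ 𝓐, A ≠ ⊤) ∧ (∀ g : ↥(alternatingGroup (Fin n)), ∃ A ∈ 𝓐, g ∈ A)) ∧ (∀ 𝓑 : Finset (Subgroup ↥(alternatingGroup (Fin n))), (∀ A ∈ 𝓑, A ≠ ⊤) ∧ (∀ g : ↥(alternatingGroup (Fin n)), ∃ A ∈ 𝓑, g ∈ A) → 𝓐.card ≤ 𝓑.card) ∧ (∀ A ∈ 𝓐, Group.IsNilpotent ↥A) := by
  rcases Nat.lt_or_ge n 6 with h | h
  · obtain rfl : n = 5 := by omega
    haveI := Fact.mk (show Nat.Prime 3 by decide)
    let c : ↥(alternatingGroup (Fin 5)) := ⟨rot012 5, Equiv.Perm.mem_alternatingGroup.2 (by decide +kernel)⟩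
    let c' : ↥(alternatingGroup (Fin 5)) := ⟨rot013 5, Equiv.Perm.mem_alternatingGroup.2 (by decide +kernel)⟩
    refine no_nilpotent_minimal_cover (p := 3) (by decide)
      (fun hd => absurd (hd.trans (alt_dvd 5)) (by decide)) c c' ?_ ?_ ?_
      ((MulAction.stabilizer (Perm (Fin 5)) (4 : Fin 5)).subgroupOf (alternatingGroup (Fin 5))) ?_ ?_ ?_
    · rw [← Subgroup.orderOf_coe]
      exact orderOf_eq_prime (show rot012 5 ^ 3 = 1 by decide +kernel) (show rot012 5 ≠ 1 by decide +kernel)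
    · rw [← Subgroup.orderOf_coe]
      exact orderOf_eq_prime (show rot013 5 ^ 3 = 1 by decide +kernel) (show rot013 5 ≠ 1 by decide +kernel)
    · intro hcomm
      have hne : rot012 5 * rot013 5 ≠ rot013 5 * rot012 5 := by decide +kernel
      exact hne (congrArg Subtype.val hcomm.eq)
    · intro htop
      have hall : ∀ g : ↥(alternatingGroup (Fin 5)), (g : Perm (Fin 5)) (4 : Fin 5) = 4 := fun g =>
        (Subgroup.mem_subgroupOf.1 (htop ▸ Subgroup.mem_top g) : _)
      have := hall ⟨swap 0 4 * swap 1 2, Equiv.Perm.mem_alternatingGroup.2 (by decide +kernel)⟩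
      revert this
      decide +kernel
    · intro g hg
      have key : ∀ g : Perm (Fin 5), sign g = 1 → g * rot012 5 = rot012 5 * g → g (4 : Fin 5) = 4 := by
        decide +kernel
      exact key g (Equiv.Perm.mem_alternatingGroup.1 g.2)
        (congrArg Subtype.val (Subgroup.mem_centralizer_singleton_iff.1 hg))
    · intro g hg
      have key : ∀ g : Perm (Fin 5), sign g = 1 → g * rot013 5 = rot013 5 * g → g (4 : Fin 5) = 4 := by
        decide +kernel
      exact key g (Equiv.Perm.mem_alternatingGroup.1 g.2)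
        (congrArg Subtype.val (Subgroup.mem_centralizer_singleton_iff.1 hg))
  · obtain ⟨p, hp, hp5, hpn, hn2⟩ := exists_prime_between h
    obtain ⟨c, c', hc, hc', hs, hs', hne, h1, h2⟩ := exists_cycles hp hp5 hpn
    refine no_nilpotent_minimal_cover hp
      (fun hd => not_sq_dvd_factorial hp n hn2 (hd.trans (alt_dvd n)))
      ⟨c, Equiv.Perm.mem_alternatingGroup.2 hs⟩ ⟨c', Equiv.Perm.mem_alternatingGroup.2 hs'⟩ ?_ ?_ ?_
      ((firstStab n p).subgroupOf (alternatingGroup (Fin n))) ?_ ?_ ?_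
    · rw [← Subgroup.orderOf_coe]; exact hc
    · rw [← Subgroup.orderOf_coe]; exact hc'
    · exact fun hcomm => hne (congrArg Subtype.val hcomm.eq)
    · intro htop
      obtain ⟨g, hg, hgn⟩ := firstStab_ne_top (n := n) hp5 hpn
      exact hgn (Subgroup.mem_subgroupOf.1
        (htop ▸ Subgroup.mem_top (⟨g, Equiv.Perm.mem_alternatingGroup.2 hg⟩ : ↥(alternatingGroup (Fin n)))))
    · intro g hg
      exact h1 g (congrArg Subtype.val (Subgroup.mem_centralizer_singleton_iff.1 hg))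
    · intro g hg
      exact h2 g (congrArg Subtype.val (Subgroup.mem_centralizer_singleton_iff.1 hg))

theorem sym_case (n : ℕ) (hn : 4 ≤ n) :
    ¬ ∃ 𝓐 : Finset (Subgroup (Equiv.Perm (Fin n))), ((∀ A ∈ 𝓐, A ≠ ⊤) ∧ (∀ g : (Equiv.Perm (Fin n)), ∃ A ∈ 𝓐, g ∈ A)) ∧ (∀ 𝓑 : Finset (Subgroup (Equiv.Perm (Fin n))), (∀ A ∈ 𝓑, A ≠ ⊤) ∧ (∀ g : (Equiv.Perm (Fin n)), ∃ A ∈ 𝓑, g ∈ A) → 𝓐.card ≤ 𝓑.card) ∧ (∀ A ∈ 𝓐, Group.IsNilpotent ↥A) := by
  rcases Nat.lt_or_ge n 6 with h | h
  · obtain rfl | rfl : n = 4 ∨ n = 5 := by omega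
    · haveI := Fact.mk (show Nat.Prime 3 by decide)
      refine no_nilpotent_minimal_cover (p := 3) (by decide)
        (by rw [card_perm]; decide) (rot012 4) (rot013 4)
        (orderOf_eq_prime (by decide +kernel) (by decide +kernel))
        (orderOf_eq_prime (by decide +kernel) (by decide +kernel))
        (fun hcomm => absurd hcomm.eq (by decide +kernel))
        (alternatingGroup (Fin 4)) (alt_ne_top (by omega)) ?_ ?_
      · intro g hg
        have key : ∀ g : Perm (Fin 4), g * rot012 4 = rot012 4 * g → sign g = 1 := by decide +kernel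
        exact Equiv.Perm.mem_alternatingGroup.2 (key g (Subgroup.mem_centralizer_singleton_iff.1 hg))
      · intro g hg
        have key : ∀ g : Perm (Fin 4), g * rot013 4 = rot013 4 * g → sign g = 1 := by decide +kernel
        exact Equiv.Perm.mem_alternatingGroup.2 (key g (Subgroup.mem_centralizer_singleton_iff.1 hg))
    · haveI := Fact.mk (show Nat.Prime 5 by decide)
      refine no_nilpotent_minimal_cover (p := 5) (by decide)
        (by rw [card_perm]; decide) (finRotate 5) (swap 0 1 * finRotate 5 * swap 0 1)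
        (orderOf_eq_prime (by decide +kernel) (by decide +kernel))
        (orderOf_eq_prime (by decide +kernel) (by decide +kernel))
        (fun hcomm => absurd hcomm.eq (by decide +kernel))
        (alternatingGroup (Fin 5)) (alt_ne_top (by omega)) ?_ ?_
      · intro g hg
        have key : ∀ g : Perm (Fin 5), g * finRotate 5 = finRotate 5 * g → sign g = 1 := by decide +kernel
        exact Equiv.Perm.mem_alternatingGroup.2 (key g (Subgroup.mem_centralizer_singleton_iff.1 hg))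
      · intro g hg
        have key : ∀ g : Perm (Fin 5), g * (swap 0 1 * finRotate 5 * swap 0 1) = (swap 0 1 * finRotate 5 * swap 0 1) * g → sign g = 1 := by
          decide +kernel
        exact Equiv.Perm.mem_alternatingGroup.2 (key g (Subgroup.mem_centralizer_singleton_iff.1 hg))
  · obtain ⟨p, hp, hp5, hpn, hn2⟩ := exists_prime_between h
    obtain ⟨c, c', hc, hc', hs, hs', hne, h1, h2⟩ := exists_cycles hp hp5 hpn
    refine no_nilpotent_minimal_cover hp
      (by rw [card_perm]; exact not_sq_dvd_factorial hp n hn2) c c' hc hc' hne (firstStab n p) ?_ ?_ ?_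
    · intro htop
      obtain ⟨g, -, hgn⟩ := firstStab_ne_top (n := n) hp5 hpn
      exact hgn (htop ▸ Subgroup.mem_top g)
    · intro g hg; exact h1 g (Subgroup.mem_centralizer_singleton_iff.1 hg)
    · intro g hg; exact h2 g (Subgroup.mem_centralizer_singleton_iff.1 hg)

/-- A cover of a group is a finite set of proper subgroups whose union is the whole group; it is minimal when no cover has fewer members, and nilpotent when all its members are nilpotent. The alternating groups of degree at least 5 and the symmetric groups of degree at least 4 have no nilpotent minimal cover. -/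
theorem result (n : ℕ) :
    (5 ≤ n → ¬ ∃ 𝓐 : Finset (Subgroup ↥(alternatingGroup (Fin n))), ((∀ A ∈ 𝓐, A ≠ ⊤) ∧ (∀ g : ↥(alternatingGroup (Fin n)), ∃ A ∈ 𝓐, g ∈ A)) ∧ (∀ 𝓑 : Finset (Subgroup ↥(alternatingGroup (Fin n))), (∀ A ∈ 𝓑, A ≠ ⊤) ∧ (∀ g : ↥(alternatingGroup (Fin n)), ∃ A ∈ 𝓑, g ∈ A) → 𝓐.card ≤ 𝓑.card) ∧ (∀ A ∈ 𝓐, Group.IsNilpotent ↥A)) ∧
    (4 ≤ n → ¬ ∃ 𝓐 : Finset (Subgroup (Equiv.Perm (Fin n))), ((∀ A ∈ 𝓐, A ≠ ⊤) ∧ (∀ g : (Equiv.Perm (Fin n)), ∃ A ∈ 𝓐, g ∈ A)) ∧ (∀ 𝓑 : Finset (Subgroup (Equiv.Perm (Fin n))), (∀ A ∈ 𝓑, A ≠ ⊤) ∧ (∀ g : (Equiv.Perm (Fin n)), ∃ A ∈ 𝓑, g ∈ A) → 𝓐.card ≤ 𝓑.card) ∧ (∀ A ∈ 𝓐, Group.IsNilpotent ↥A)) := by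
  exact ⟨alt_case n, sym_case n⟩

end Cfsg.Agent.S3892
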