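import Cfsg.Statements.S3895
import Mathlib
import Cfsg.Agent.Fusion.Frobenius

set_option autoImplicit false
open Cfsg

namespace Cfsg.Agent.S3895

theorem count_le {G : Type*} [Group G] [Finite G] (P : Sylow 2 G) (Q : Subgroup G) (hQP : Q ≤ P)
    (hZ : ∀ x ∈ (P : Subgroup G), (∀ y ∈ (P : Subgroup G), y * x = x * y) → x ∈ Q)
    (a : G) (ha : a ∈ Subgroup.normalizer (Q : Set G)) (hodd : Odd (orderOf a)) (hnc : a ∉ Subgroup.centralizer (Q : Set G)) :
    2 * Nat.card {c : ConjClasses G // ∀ x ∈ c.carrier, ∃ k : ℕ, orderOf x = 2 ^ k} ≤ Nat.card (P : Subgroup G) := by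
  classical
  haveI : Fintype G := Fintype.ofFinite G
  haveI : Fact (Nat.Prime 2) := ⟨Nat.prime_two⟩
  set F : Subgroup G := Q ⊓ Subgroup.centralizer ({a} : Set G) with hF
  have hFQ : F ≤ Q := inf_le_left
  have hQp : IsPGroup 2 Q := P.2.to_le hQP
  have hfix : ∀ {x : G} {j : ℕ}, x ∈ Q → Nat.Coprime j (orderOf a) → a ^ j * x = x * a ^ j → x ∈ F := by
    intro x j hx hj h
    refine ⟨hx, Subgroup.mem_centralizer_singleton_iff.2 ?_⟩
    obtain ⟨m, hm⟩ := exists_pow_eq_self_of_coprime hj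
    have := (show Commute (a ^ j) x from h).pow_left m
    rw [hm] at this
    exact this.eq.symm
  have hF4 : 4 * Nat.card F ≤ Nat.card Q := by
    obtain ⟨d, hd⟩ := Subgroup.card_dvd_of_le hFQ
    obtain ⟨e, he⟩ := hQp.exists_card_eq
    obtain ⟨i, -, hi⟩ := (Nat.dvd_prime_pow Nat.prime_two).1 (show d ∣ 2 ^ e from he ▸ ⟨Nat.card F, by rw [hd, mul_comm]⟩)
    have h2 : 2 ≤ i := by
      by_contra hlt
      apply hnc
      rw [Subgroup.mem_centralizer_iff]
      intro x hx
      by_cases hxF : x ∈ F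
      · exact Subgroup.mem_centralizer_singleton_iff.1 hxF.2
      have hi1 : i = 1 := by
        rcases Nat.lt_or_ge i 1 with h0 | h0
        · exfalso; apply hxF
          have : d = 1 := by rw [hi, show i = 0 by omega, pow_zero]
          rw [this, mul_one] at hd
          exact (Subgroup.eq_of_le_of_card_ge hFQ hd.le) ▸ hx
        · omega
      have hidx : (F.subgroupOf Q).index = 2 := by
        have := Subgroup.card_mul_index (F.subgroupOf Q)
        rw [Nat.card_congr (Subgroup.subgroupOfEquivOfLe hFQ).toEquiv, hd, hi, hi1, pow_one] at this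
        exact Nat.eq_of_mul_eq_mul_left Nat.card_pos this
      have hy : a * x * a⁻¹ ∈ Q := (Subgroup.mem_normalizer_iff.1 ha x).1 hx
      have hf : x⁻¹ * (a * x * a⁻¹) ∈ F := by
        have hnF : a * x * a⁻¹ ∉ F := fun h => hxF (by
          refine ⟨hx, Subgroup.mem_centralizer_singleton_iff.2 ?_⟩
          have h2 := Subgroup.mem_centralizer_singleton_iff.1 h.2
          calc x * a = a⁻¹ * (a * x * a⁻¹ * a) * a := by group
            _ = a⁻¹ * (a * (a * x * a⁻¹)) * a := by rw [h2]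
            _ = a * x := by group)
        have := (Subgroup.mul_mem_iff_of_index_two hidx (a := (⟨x, hx⟩ : Q)⁻¹) (b := ⟨_, hy⟩))
        simp only [Subgroup.mem_subgroupOf, Subgroup.coe_mul, Subgroup.coe_inv, inv_mem_iff] at this
        exact this.2 (iff_of_false hxF hnF)
      set f := x⁻¹ * (a * x * a⁻¹) with hff
      have hfa : Commute f a := Subgroup.mem_centralizer_singleton_iff.1 hf.2
      have hiter : ∀ j : ℕ, a ^ j * x * (a ^ j)⁻¹ = x * f ^ j := by
        intro j
        induction j with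
        | zero => simp
        | succ j ihj =>
          calc a ^ (j + 1) * x * (a ^ (j + 1))⁻¹ = a * (a ^ j * x * (a ^ j)⁻¹) * a⁻¹ := by group
            _ = (a * x * a⁻¹) * (a * f ^ j * a⁻¹) := by rw [ihj]; group
            _ = x * f * (a * f ^ j * a⁻¹) := by rw [hff]; group
            _ = _ := by rw [← (hfa.pow_left j).eq, mul_inv_cancel_right, mul_assoc, ← pow_succ']
      have h1 := hiter (orderOf a)
      rw [pow_orderOf_eq_one, one_mul, inv_one, mul_one, left_eq_mul] at h1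
      obtain ⟨r, hr⟩ := hQp ⟨f, hFQ hf⟩
      have hr' : f ^ 2 ^ r = 1 := congrArg Subtype.val hr
      have hc : Nat.Coprime (2 ^ r) (orderOf a) := Nat.Coprime.pow_left _ (Nat.coprime_two_left.2 hodd)
      have hf1 : f = 1 := orderOf_eq_one_iff.1 (Nat.eq_one_of_dvd_coprimes hc (orderOf_dvd_of_pow_eq_one hr') (orderOf_dvd_of_pow_eq_one h1))
      rw [hff, inv_mul_eq_one] at hf1
      calc x * a = (a * x * a⁻¹) * a := by rw [← hf1]
        _ = a * x := by group
    rw [hd, hi, mul_comm (Nat.card F)]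
    exact Nat.mul_le_mul_right _ ((show 4 = 2 ^ 2 by norm_num) ▸ Nat.pow_le_pow_right (by norm_num) h2)
  let Cl := {c : ConjClasses G // ∀ x ∈ c.carrier, ∃ k : ℕ, orderOf x = 2 ^ k}
  haveI : Fintype Cl := Fintype.ofFinite _
  let φ : ↥(P : Subgroup G) → Cl := fun x => ⟨ConjClasses.mk (x : G), fun y hy => by
    obtain ⟨c, hc⟩ := isConj_iff.1 (ConjClasses.mk_eq_mk_iff_isConj.1 (ConjClasses.mem_carrier_iff_mk_eq.1 hy))
    obtain ⟨k, hk⟩ := IsPGroup.iff_orderOf.1 P.2 x
    refine ⟨k, ?_⟩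
    rw [← hk, ← Subgroup.orderOf_coe, ← hc]
    exact (MulEquiv.orderOf_eq (MulAut.conj c) y).symm⟩
  have hφ : Function.Surjective φ := by
    rintro ⟨c, hc⟩
    obtain ⟨y, rfl⟩ := ConjClasses.mk_surjective c
    obtain ⟨k, hk⟩ := hc y ConjClasses.mem_carrier_mk
    have hyp : IsPGroup 2 (Subgroup.zpowers y) := IsPGroup.of_card (n := k) (by rw [Nat.card_zpowers, hk])
    obtain ⟨S, hS⟩ := hyp.exists_le_sylow
    obtain ⟨g, hg⟩ := MulAction.exists_smul_eq G S P
    have hgy : g * y * g⁻¹ ∈ (P : Subgroup G) := by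
      rw [← hg, Sylow.coe_subgroup_smul]
      exact ⟨y, hS (Subgroup.mem_zpowers y), rfl⟩
    exact ⟨⟨_, hgy⟩, Subtype.ext (ConjClasses.mk_eq_mk_iff_isConj.2 (isConj_iff.2 ⟨g⁻¹, by group⟩))⟩
  let w : G → ℕ := fun x => if x ∈ F then 6 else if x ∈ Q then 2 else 3
  have hfib : ∀ c : Cl, 6 ≤ ∑ x ∈ Finset.univ.filter (fun x => φ x = c), w (x : G) := by
    intro c
    obtain ⟨x, rfl⟩ := hφ c
    set S := Finset.univ.filter (fun z => φ z = φ x)
    by_cases hQx : ∃ z ∈ S, (z : G) ∈ Q
    · obtain ⟨z, hzS, hzQ⟩ := hQx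
      by_cases hzF : (z : G) ∈ F
      · calc 6 = w (z : G) := by simp [w, hzF]
          _ ≤ _ := Finset.single_le_sum (f := fun u : ↥(P : Subgroup G) => w (u : G)) (fun u _ => Nat.zero_le _) hzS
      have hmem : ∀ j : ℕ, a ^ j * z * (a ^ j)⁻¹ ∈ Q := fun j => (Subgroup.mem_normalizer_iff.1 (pow_mem ha j) _).1 hzQ
      let u : Fin 3 → ↥(P : Subgroup G) := fun j => ⟨a ^ (j : ℕ) * z * (a ^ (j : ℕ))⁻¹, hQP (hmem j)⟩
      have hu : Function.Injective u := by
        have key : ∀ i j : ℕ, i < j → j < 3 → a ^ i * (z : G) * (a ^ i)⁻¹ ≠ a ^ j * z * (a ^ j)⁻¹ := by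
          intro i j hij hj he
          apply hzF
          refine hfix (j := j - i) hzQ ?_ ?_
          · rcases (show j - i = 1 ∨ j - i = 2 by omega) with h | h <;> rw [h]
            · exact Nat.coprime_one_left _
            · exact Nat.coprime_two_left.2 hodd
          · have e : a ^ j = a ^ i * a ^ (j - i) := by rw [← pow_add]; congr 1; omega
            rw [e] at he
            calc a ^ (j - i) * z = (a ^ i)⁻¹ * (a ^ i * a ^ (j - i) * z * (a ^ i * a ^ (j - i))⁻¹) * a ^ i * a ^ (j - i) := by group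
              _ = _ := by rw [← he]; group
        intro i j h
        have h' := congrArg Subtype.val h
        rcases lt_trichotomy (i : ℕ) j with hl | hl | hl
        · exact absurd h' (key i j hl j.2)
        · exact Fin.ext hl
        · exact absurd h'.symm (key j i hl i.2)
      have hsub : Finset.univ.image u ⊆ S := by
        intro v hv
        obtain ⟨j, -, rfl⟩ := Finset.mem_image.1 hv
        refine Finset.mem_filter.2 ⟨Finset.mem_univ _, Eq.trans (Subtype.ext ?_) (Finset.mem_filter.1 hzS).2⟩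
        exact ConjClasses.mk_eq_mk_iff_isConj.2 (isConj_iff.2 ⟨(a ^ (j : ℕ))⁻¹, by simp [u, mul_assoc]⟩)
      calc 6 = ∑ _v ∈ Finset.univ.image u, 2 := by
            rw [Finset.sum_const, Finset.card_image_of_injective _ hu, Finset.card_univ, Fintype.card_fin, smul_eq_mul]
        _ ≤ ∑ v ∈ Finset.univ.image u, w (v : G) := by
            refine Finset.sum_le_sum fun v _ => ?_
            simp only [w]; split_ifs <;> omega
        _ ≤ _ := Finset.sum_le_sum_of_subset_of_nonneg hsub fun _ _ _ => Nat.zero_le _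
    · push Not at hQx
      have hxS : x ∈ S := Finset.mem_filter.2 ⟨Finset.mem_univ _, rfl⟩
      obtain ⟨y, hyP, hy⟩ : ∃ y ∈ (P : Subgroup G), y * x ≠ x * y := by
        by_contra! h
        exact hQx x hxS (hZ x x.2 h)
      let x' : (P : Subgroup G) := ⟨y * x * y⁻¹, mul_mem (mul_mem hyP x.2) (inv_mem hyP)⟩
      have hx'S : x' ∈ S := Finset.mem_filter.2 ⟨Finset.mem_univ _, Subtype.ext
        (ConjClasses.mk_eq_mk_iff_isConj.2 (isConj_iff.2 ⟨y⁻¹, by simp [x', mul_assoc]⟩))⟩
      have hne : x ≠ x' := fun h => hy (by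
        have h' : (x : G) = y * x * y⁻¹ := congrArg Subtype.val h
        calc y * (x : G) = (y * x * y⁻¹) * y := by group
          _ = x * y := by rw [← h'])
      have hw : ∀ z ∈ S, 3 ≤ w (z : G) := fun z hz => by
        simp only [w, hQx z hz, if_false]; split_ifs <;> omega
      calc 6 ≤ w (x : G) + w (x' : G) := by have := hw x hxS; have := hw x' hx'S; omega
        _ = ∑ v ∈ {x, x'}, w ((v : (P : Subgroup G)) : G) := (Finset.sum_pair (f := fun v : ↥(P : Subgroup G) => w (v : G)) hne).symm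
        _ ≤ _ := Finset.sum_le_sum_of_subset_of_nonneg (by simp [Finset.insert_subset_iff, hxS, hx'S]) fun _ _ _ => Nat.zero_le _
  have htot : 6 * Fintype.card Cl ≤ ∑ x : (P : Subgroup G), w (x : G) := by
    rw [← Finset.sum_fiberwise Finset.univ φ]
    calc 6 * Fintype.card Cl = ∑ _c : Cl, 6 := by simp [mul_comm]
      _ ≤ _ := Finset.sum_le_sum fun c _ => hfib c
  have hw2 : ∑ x : (P : Subgroup G), w (x : G) + Nat.card Q = 3 * Nat.card (P : Subgroup G) + 4 * Nat.card F := by
    have cardOf : ∀ H : Subgroup G, H ≤ P → Nat.card H = (Finset.univ.filter fun x : (P : Subgroup G) => (x : G) ∈ H).card := by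
      intro H hH
      rw [← Nat.card_congr (Subgroup.subgroupOfEquivOfLe hH).toEquiv, Nat.card_eq_fintype_card, ← Fintype.card_subtype]
      exact Fintype.card_congr (Equiv.subtypeEquivRight fun x => Subgroup.mem_subgroupOf)
    rw [cardOf Q hQP, cardOf F (hFQ.trans hQP), Nat.card_eq_fintype_card, Finset.card_filter, Finset.card_filter,
      ← Finset.card_univ, Finset.card_eq_sum_ones, Finset.mul_sum, Finset.mul_sum, ← Finset.sum_add_distrib, ← Finset.sum_add_distrib]
    refine Finset.sum_congr rfl fun x _ => ?_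
    simp only [w]
    by_cases h1 : (x : G) ∈ F
    · simp [h1, hFQ h1]
    · by_cases h2 : (x : G) ∈ Q <;> simp [h1, h2]
  show 2 * Nat.card Cl ≤ _
  have hCl : Nat.card Cl = Fintype.card Cl := Nat.card_eq_fintype_card
  omega

open scoped Pointwise in
theorem complement_of_large {G : Type*} [Group G] [Finite G] (P : Sylow 2 G)
    (h : Nat.card ↥(P : Subgroup G) < 2 * Nat.card {c : ConjClasses G // ∀ x ∈ c.carrier, ∃ k : ℕ, orderOf x = 2 ^ k}) :
    Cfsg.HasNormalPComplement 2 G := by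
  haveI : Fact (Nat.Prime 2) := ⟨Nat.prime_two⟩
  refine Cfsg.Agent.Fusion.hasNormalPComplement_of_frobenius fun Q hQ g hg hgo => ?_
  by_contra hgc
  set N := Subgroup.normalizer (Q : Set G) with hN
  obtain ⟨R, hR⟩ := (IsPGroup.of_equiv hQ (Subgroup.subgroupOfEquivOfLe (Subgroup.le_normalizer (H := Q))).symm).exists_le_sylow
  obtain ⟨P', hP'⟩ := (R.2.map N.subtype).exists_le_sylow
  set C : Subgroup N := (Subgroup.centralizer (Q : Set G)).subgroupOf N with hC
  haveI : C.Normal := by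
    constructor
    intro c hc n
    rw [hC, Subgroup.mem_subgroupOf, Subgroup.mem_centralizer_iff] at hc ⊢
    intro q hq
    have hq' : (n : G)⁻¹ * q * n ∈ Q := (Subgroup.mem_normalizer_iff''.1 n.2 q).1 hq
    have := hc _ hq'
    simp only [Subgroup.coe_mul, Subgroup.coe_inv]
    calc q * ((n : G) * c * (n : G)⁻¹) = n * ((n : G)⁻¹ * q * n * c) * (n : G)⁻¹ := by group
      _ = n * ((c : G) * ((n : G)⁻¹ * q * n)) * (n : G)⁻¹ := by rw [this]
      _ = _ := by group
  have hinter : ∀ x : N, (x : G) ∈ (P' : Subgroup G) → x ∈ (R : Subgroup N) := by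
    intro x hx
    have hle : (R : Subgroup N) ≤ (P' : Subgroup G).comap N.subtype := fun y hy => hP' ⟨y, hy, rfl⟩
    rw [R.3 (P'.2.comap_of_injective N.subtype N.subtype_injective) hle |>.symm]
    exact hx
  have hrd : ¬ 2 ∣ ((R : Subgroup N).subgroupOf C).index := by
    obtain ⟨S, hS⟩ := (show IsPGroup 2 ((R : Subgroup N).subgroupOf C) from
      R.2.comap_of_injective C.subtype C.subtype_injective).exists_le_sylow
    obtain ⟨R', hR'⟩ := (S.2.map C.subtype).exists_le_sylow
    obtain ⟨x, hx⟩ := MulAction.exists_smul_eq N R' R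
    suffices heq : (R : Subgroup N).subgroupOf C = S by rw [heq]; exact S.not_dvd_index
    refine Subgroup.eq_of_le_of_card_ge hS ?_
    refine Nat.card_le_card_of_injective (fun s : ↥(S : Subgroup C) => (⟨⟨x * ((s : C) : N) * x⁻¹, (‹C.Normal›).conj_mem _ (s : C).2 x⟩, ?_⟩ : ↥((R : Subgroup N).subgroupOf C))) ?_
    · rw [Subgroup.mem_subgroupOf, ← hx, Sylow.coe_subgroup_smul]
      exact ⟨_, hR' ⟨_, s.2, rfl⟩, rfl⟩
    · intro u v huv
      have h' := congrArg (fun z : ↥((R : Subgroup N).subgroupOf C) => ((z : C) : N)) huv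
      exact Subtype.ext (Subtype.ext (mul_left_cancel (mul_right_cancel h')))
  let RC : Sylow 2 C := (show IsPGroup 2 ((R : Subgroup N).subgroupOf C) from R.2.comap_of_injective C.subtype C.subtype_injective).toSylow hrd
  have hfr := Sylow.normalizer_sup_eq_top RC
  have hg' : (⟨g, hg⟩ : N) ∈ ((Subgroup.normalizer (((RC : Subgroup C).map C.subtype : Subgroup N) : Set N) : Subgroup N) : Set N) * (C : Set N) := by
    rw [← Subgroup.mul_normal, hfr]; trivial
  obtain ⟨n, hn, c, hc, hnc⟩ := hg'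
  obtain ⟨i, j, hj2, hij⟩ := Nat.exists_eq_pow_mul_and_not_dvd (orderOf_pos n).ne' 2 (by norm_num)
  set a := n ^ 2 ^ i with ha
  have haord : orderOf a = j := by
    rw [ha, orderOf_pow' n (by positivity), hij, Nat.gcd_eq_right (Dvd.intro j rfl), Nat.mul_div_cancel_left _ (by positivity)]
  set U := ((RC : Subgroup C).map C.subtype).map N.subtype with hU
  set Q1 := Q ⊔ U with hQ1
  have hUP : U ≤ (P' : Subgroup G) := by
    rintro _ ⟨_, ⟨x, hx, rfl⟩, rfl⟩
    exact hP' ⟨_, hx, rfl⟩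
  have hQP : Q ≤ (P' : Subgroup G) := fun x hx => hP' ⟨⟨x, Subgroup.le_normalizer hx⟩, hR hx, rfl⟩
  have hanorm : (a : G) ∈ Subgroup.normalizer (Q1 : Set G) := by
    have haU : a ∈ Subgroup.normalizer (((RC : Subgroup C).map C.subtype : Subgroup N) : Set N) := pow_mem hn _
    have hmap : Q1.map (MulAut.conj (a : G)).toMonoidHom ≤ Q1 := by
      rw [hQ1, Subgroup.map_sup]
      refine sup_le_sup ?_ ?_
      · rintro _ ⟨q, hq, rfl⟩
        exact (Subgroup.mem_normalizer_iff.1 a.2 q).1 hq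
      · rintro _ ⟨_, ⟨x, hx, rfl⟩, rfl⟩
        exact ⟨a * x * a⁻¹, (Subgroup.mem_normalizer_iff.1 haU x).1 hx, by simp⟩
    exact Subgroup.mem_normalizer_fintype fun x hx => hmap ⟨x, hx, rfl⟩
  have hnc1 : (a : G) ∉ Subgroup.centralizer (Q1 : Set G) := by
    intro hcen
    have haC : a ∈ C := by
      rw [hC, Subgroup.mem_subgroupOf]
      exact Subgroup.centralizer_le (SetLike.coe_subset_coe.2 (le_sup_left : Q ≤ Q1)) hcen
    apply hgc
    let π := QuotientGroup.mk' C
    have hπ : π ⟨g, hg⟩ = π n := by rw [← hnc, map_mul, show π c = 1 from (QuotientGroup.eq_one_iff c).2 hc, mul_one]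
    have h1 : π ⟨g, hg⟩ ^ 2 ^ i = 1 := by rw [hπ, ← map_pow]; exact (QuotientGroup.eq_one_iff _).2 haC
    have hd : orderOf (π ⟨g, hg⟩) ∣ orderOf g :=
      (orderOf_map_dvd π _).trans (by rw [Subgroup.orderOf_mk])
    have h2 : π ⟨g, hg⟩ = 1 := orderOf_eq_one_iff.1
      (Nat.eq_one_of_dvd_coprimes (hgo.pow_right i) hd (orderOf_dvd_of_pow_eq_one h1))
    exact (QuotientGroup.eq_one_iff (N := C) _).1 h2
  have hZ : ∀ x ∈ (P' : Subgroup G), (∀ y ∈ (P' : Subgroup G), y * x = x * y) → x ∈ Q1 := by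
    intro x hx hcom
    have hxC : x ∈ Subgroup.centralizer (Q : Set G) := Subgroup.mem_centralizer_iff.2 fun q hq => hcom q (hQP hq)
    have hxN : x ∈ N := Subgroup.centralizer_le_normalizer _ hxC
    exact Subgroup.mem_sup_right ⟨⟨x, hxN⟩, ⟨⟨⟨x, hxN⟩, hxC⟩, hinter ⟨x, hxN⟩ hx, rfl⟩, rfl⟩
  have hodd : Odd (orderOf (a : G)) := by
    rw [Subgroup.orderOf_coe, haord, Nat.odd_iff]; omega
  have := count_le P' Q1 (sup_le hQP hUP) hZ a hanorm hodd hnc1
  rw [P'.card_eq_multiplicity, ← P.card_eq_multiplicity] at this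
  omega

theorem card_eq_of_complement {G : Type*} [Group G] [Finite G] (P : Sylow 2 G) (h : Cfsg.HasNormalPComplement 2 G) :
    Nat.card {c : ConjClasses G // ∀ x ∈ c.carrier, ∃ k : ℕ, orderOf x = 2 ^ k} = Nat.card (ConjClasses ↥(P : Subgroup G)) := by
  haveI : Fact (Nat.Prime 2) := ⟨Nat.prime_two⟩
  obtain ⟨P₀, N, hN, hcompl⟩ := h
  haveI := hN
  have hcP : Nat.card (P : Subgroup G) = N.index := by
    rw [P.card_eq_multiplicity, ← P₀.card_eq_multiplicity, hcompl.symm.index_eq_card]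
  have hNodd : (Nat.card N).Coprime (Nat.card (P : Subgroup G)) := by
    obtain ⟨k, hk⟩ := P.2.exists_card_eq
    have hd : ¬ 2 ∣ (P₀ : Subgroup G).index := P₀.not_dvd_index
    rw [hcompl.index_eq_card] at hd
    rw [hk]
    exact Nat.Coprime.pow_right k (Nat.coprime_comm.1 ((Nat.prime_two.coprime_iff_not_dvd).2 hd))
  let f : ↥(P : Subgroup G) →* G ⧸ N := (QuotientGroup.mk' N).comp (P : Subgroup G).subtype
  have hf : Function.Bijective f := by
    refine (Nat.bijective_iff_injective_and_card _).2 ⟨?_, ?_⟩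
    · rw [← MonoidHom.ker_eq_bot_iff, Subgroup.eq_bot_iff_forall]
      intro x hx
      have hxN : (x : G) ∈ N := (QuotientGroup.eq_one_iff _).1 hx
      refine orderOf_eq_one_iff.1 (Nat.eq_one_of_dvd_coprimes hNodd ?_ (orderOf_dvd_natCard x))
      rw [← Subgroup.orderOf_coe]; exact Subgroup.orderOf_dvd_natCard N hxN
    · rw [hcP]; rfl
  let e := MulEquiv.ofBijective f hf
  let Φ : ConjClasses ↥(P : Subgroup G) → {c : ConjClasses G // ∀ x ∈ c.carrier, ∃ k : ℕ, orderOf x = 2 ^ k} := fun c =>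
    ⟨ConjClasses.map (P : Subgroup G).subtype c, by
      obtain ⟨x, rfl⟩ := ConjClasses.mk_surjective c
      intro y hy
      obtain ⟨g, hg⟩ := isConj_iff.1 (ConjClasses.mk_eq_mk_iff_isConj.1 (ConjClasses.mem_carrier_iff_mk_eq.1 hy))
      obtain ⟨k, hk⟩ := IsPGroup.iff_orderOf.1 P.2 x
      refine ⟨k, ?_⟩
      rw [← hk, ← Subgroup.orderOf_coe, show (x : G) = g * y * g⁻¹ from hg.symm]
      exact (MulEquiv.orderOf_eq (MulAut.conj g) y).symm⟩
  refine (Nat.card_congr (Equiv.ofBijective Φ ⟨?_, ?_⟩)).symm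
  · intro c d hcd
    obtain ⟨x, rfl⟩ := ConjClasses.mk_surjective c
    obtain ⟨y, rfl⟩ := ConjClasses.mk_surjective d
    obtain ⟨g, hg⟩ := isConj_iff.1 (ConjClasses.mk_eq_mk_iff_isConj.1 (congrArg Subtype.val hcd))
    refine ConjClasses.mk_eq_mk_iff_isConj.2 (isConj_iff.2 ⟨e.symm (QuotientGroup.mk' N g), e.injective ?_⟩)
    rw [map_mul, map_mul, map_inv, e.apply_symm_apply]
    show _ * QuotientGroup.mk' N (x : G) * _ = QuotientGroup.mk' N (y : G)
    rw [← map_inv, ← map_mul, ← map_mul]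
    exact congrArg _ hg
  · rintro ⟨c, hc⟩
    obtain ⟨y, rfl⟩ := ConjClasses.mk_surjective c
    obtain ⟨k, hk⟩ := hc y ConjClasses.mem_carrier_mk
    have hyp : IsPGroup 2 (Subgroup.zpowers y) := IsPGroup.of_card (n := k) (by rw [Nat.card_zpowers, hk])
    obtain ⟨S, hS⟩ := hyp.exists_le_sylow
    obtain ⟨g, hg⟩ := MulAction.exists_smul_eq G S P
    have hgy : g * y * g⁻¹ ∈ (P : Subgroup G) := by
      rw [← hg, Sylow.coe_subgroup_smul]
      exact ⟨y, hS (Subgroup.mem_zpowers y), rfl⟩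
    exact ⟨ConjClasses.mk ⟨_, hgy⟩, Subtype.ext (ConjClasses.mk_eq_mk_iff_isConj.2 (isConj_iff.2 ⟨g⁻¹, by
      show g⁻¹ * (g * y * g⁻¹) * g⁻¹⁻¹ = y
      group⟩))⟩


/-- Let G be a finite group with Sylow 2-subgroup P, and write k₂(G) for the number of conjugacy classes of G consisting of 2-elements (elements of 2-power order, the identity included). Then k₂(G) > |P|/2 if and only if G has a normal 2-complement and P has more than |P|/2 conjugacy classes. -/
theorem result {G : Type*} [Group G] [Finite G] (P : Sylow 2 G) :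
    Nat.card ↥(P : Subgroup G) < 2 * Nat.card {c : ConjClasses G // ∀ x ∈ c.carrier, ∃ k : ℕ, orderOf x = 2 ^ k} ↔
      Cfsg.HasNormalPComplement 2 G ∧ Nat.card ↥(P : Subgroup G) < 2 * Nat.card (ConjClasses ↥(P : Subgroup G)) := by
  constructor
  · intro h
    have hc := complement_of_large P h
    exact ⟨hc, by rwa [← card_eq_of_complement P hc]⟩
  · rintro ⟨hc, h⟩
    rwa [card_eq_of_complement P hc]

end Cfsg.Agent.S3895
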