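import Cfsg.Statements.S3897
import Cfsg.Agent.ClassCount.Basic

set_option autoImplicit false
open Cfsg

namespace Cfsg.Agent.S3897

theorem result {G : Type*} [Group G] [Finite G] {p : ℕ} [Fact p.Prime] (hp : p ≠ 2) (P : Sylow p G) :
    (p + 1) * Nat.card ↥(P : Subgroup G) < 2 * p * Nat.card {c : ConjClasses G // ∀ x ∈ c.carrier, ∃ k : ℕ, orderOf x = p ^ k} ↔
      Cfsg.HasNormalPComplement p G ∧ IsMulCommutative ↥(P : Subgroup G) := by
  constructor
  · intro h
    obtain ⟨hc, N, hN, hNc⟩ := ClassCount.complement_of_many_classes hp P h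
    exact ⟨⟨P, N, hN, hNc⟩, hc⟩
  · rintro ⟨hN, hab⟩
    have hk := ClassCount.card_le_kP P hN hab
    have h1 := (Fact.out : p.Prime).one_lt
    have h2 : 0 < Nat.card ↥(P : Subgroup G) := Nat.card_pos
    calc (p + 1) * Nat.card ↥(P : Subgroup G) < 2 * p * Nat.card ↥(P : Subgroup G) := by
          apply Nat.mul_lt_mul_of_pos_right _ h2
          omega
      _ ≤ _ := Nat.mul_le_mul_left _ hk

end Cfsg.Agent.S3897
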