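import Cfsg.Statements.S3898
import Cfsg.Agent.S3895
import Cfsg.Agent.ClassCount.TwoPrime

set_option autoImplicit false
open Cfsg

namespace Cfsg.Agent.S3898

/-- Let π be a finite set of primes containing 2 and G a finite group. Write k_π(G) for the number of conjugacy classes of G consisting of π-elements (elements all of whose order's prime divisors lie in π) and |G|_π for the π-part of the order of G. If k_π(G) > |G|_π/2, then G has a normal π-complement (a normal subgroup of order prime to π whose index is a π-number) and an abelian Hall subgroup for the set of odd primes in π. -/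
theorem result {G : Type*} [Group G] [Finite G] (π : Finset ℕ) (hπ : ∀ r ∈ π, r.Prime) (h2 : 2 ∈ π)
    (hk : π.prod (fun r => r ^ (Nat.card G).factorization r) < 2 * Nat.card {c : ConjClasses G // ∀ x ∈ c.carrier, ∀ r : ℕ, r.Prime → r ∣ orderOf x → r ∈ π}) :
    (∃ N : Subgroup G, N.Normal ∧ (∀ r : ℕ, r.Prime → r ∣ Nat.card ↥N → r ∉ π) ∧ ∀ r : ℕ, r.Prime → r ∣ N.index → r ∈ π) ∧ ∃ H : Subgroup G, Cfsg.IsPiHall ((↑π : Set ℕ) \ {2}) H ∧ IsMulCommutative ↥H := by
  classical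
  haveI : Fact (Nat.Prime 2) := ⟨Nat.prime_two⟩
  obtain ⟨S⟩ : Nonempty (Sylow 2 G) := inferInstance
  set σ := π.erase 2 with hσ
  have hσp : ∀ r ∈ σ, r.Prime := fun r hr => hπ r (Finset.mem_of_mem_erase hr)
  have hprod : π.prod (fun r => r ^ (Nat.card G).factorization r) =
      Nat.card (S : Subgroup G) * ClassCount.piPart σ G := by
    rw [S.card_eq_multiplicity]
    exact (Finset.mul_prod_erase π (fun r => r ^ (Nat.card G).factorization r) h2).symm
  rw [hprod] at hk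
  have hb := ClassCount.kPi_le_kP_mul (G := G) π hπ 2 Nat.prime_two fun H =>
    ClassCount.kPi_le_piPart σ hσp ↥(H : Subgroup G)
  have hk2 : Nat.card (S : Subgroup G) < 2 * ClassCount.kP 2 G := by
    have h3 := lt_of_lt_of_le hk (Nat.mul_le_mul_left 2 hb)
    rw [← mul_assoc] at h3
    exact Nat.lt_of_mul_lt_mul_right h3
  obtain ⟨Q, K, hKn, hKQ⟩ := Cfsg.Agent.S3895.complement_of_large S hk2
  haveI := hKn
  obtain ⟨a, ha⟩ := IsPGroup.iff_card.1 Q.2
  have hKi : K.index = 2 ^ a := hKQ.symm.index_eq_card.trans ha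
  have hKodd : Odd (Nat.card K) := by
    rw [← Nat.not_even_iff_odd, even_iff_two_dvd]
    exact hKQ.index_eq_card ▸ Q.not_dvd_index
  have key : ∀ r ∈ σ, ∃ N : Subgroup G, N.Normal ∧ N ≤ K ∧ ¬ r ∣ Nat.card N ∧
      (∃ j : ℕ, N.relIndex K = r ^ j) ∧ ∀ x ∈ K, ∀ y ∈ K, x * y * x⁻¹ * y⁻¹ ∈ N := by
    intro r hr
    haveI := Fact.mk (hσp r hr)
    refine ClassCount.exists_pComplement_of_many K (Finset.ne_of_mem_erase hr) S hKodd hKi ?_
    have hrest : ClassCount.piPart σ G =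
        r ^ (Nat.card G).factorization r * ClassCount.piPart (σ.erase r) G :=
      (Finset.mul_prod_erase σ (fun s => s ^ (Nat.card G).factorization s) hr).symm
    have hle : Nat.card {c : ConjClasses G // ∀ x ∈ c.carrier, ∀ r : ℕ, r.Prime → r ∣ orderOf x → r ∈ π} ≤
        (∑ᶠ c : {c : ConjClasses G // ∀ x ∈ c.carrier, ∃ k : ℕ, orderOf x = 2 ^ k},
          ClassCount.kP r ↥(Subgroup.centralizer ({c.1.out} : Set G))) * ClassCount.piPart (σ.erase r) G := by
      haveI := Fintype.ofFinite {c : ConjClasses G // ∀ x ∈ c.carrier, ∃ k : ℕ, orderOf x = 2 ^ k}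
      refine (ClassCount.kPi_le_sum (G := G) π 2 Nat.prime_two).trans ?_
      rw [finsum_eq_sum_of_fintype, finsum_eq_sum_of_fintype, Finset.sum_mul]
      refine Finset.sum_le_sum fun c _ => ?_
      refine (ClassCount.kPi_le_kP_mul σ hσp r (hσp r hr) fun H =>
        ClassCount.kPi_le_piPart (σ.erase r) (fun s hs => hσp s (Finset.mem_of_mem_erase hs)) _).trans ?_
      exact Nat.mul_le_mul_left _ (ClassCount.piPart_subgroup_le _
        (fun s hs => hσp s (Finset.mem_of_mem_erase hs)) _)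
    have h3 := lt_of_lt_of_le hk (Nat.mul_le_mul_left 2 hle)
    rw [hrest, ← mul_assoc, ← mul_assoc] at h3
    exact Nat.lt_of_mul_lt_mul_right h3
  choose Nf hn hnK hnd hidx hcomm using key
  let N : Subgroup G := K ⊓ ⨅ r : σ, Nf r.1 r.2
  haveI hNn : N.Normal := by
    haveI : (⨅ r : σ, Nf r.1 r.2).Normal := Subgroup.normal_iInf_normal fun r : σ => hn r.1 r.2
    exact Subgroup.normal_inf_normal K _
  have hNσ : ∀ r : ℕ, r.Prime → r ∣ Nat.card ↥N → r ∉ π := by
    intro r hr hrd hrπ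
    have hrσ : r ∈ σ := Finset.mem_erase.2 ⟨fun h => by
      subst h
      exact Nat.not_even_iff_odd.2 hKodd (even_iff_two_dvd.2 (hrd.trans (Subgroup.card_dvd_of_le inf_le_left))), hrπ⟩
    exact hnd r hrσ (hrd.trans (Subgroup.card_dvd_of_le
      (inf_le_right.trans (iInf_le (fun s : σ => Nf s.1 s.2) ⟨r, hrσ⟩))))
  have hNK : ∀ r : ℕ, r.Prime → r ∣ (N.subgroupOf K).index → r ∈ σ := by
    intro r hr hrd
    haveI := Fact.mk hr
    obtain ⟨q, hq⟩ := exists_prime_orderOf_dvd_card' r (G := K ⧸ N.subgroupOf K) hrd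
    obtain ⟨g, rfl⟩ := QuotientGroup.mk_surjective q
    have hgr : (g : G) ^ r ∈ N := by
      have h : g ^ r ∈ N.subgroupOf K := by
        rw [← QuotientGroup.eq_one_iff, QuotientGroup.mk_pow, ← hq, pow_orderOf_eq_one]
      exact h
    obtain ⟨⟨t, ht⟩, hgt⟩ : ∃ t : σ, (g : G) ∉ Nf t.1 t.2 := by
      by_contra! h
      refine hr.ne_one (hq ▸ orderOf_eq_one_iff.2 ((QuotientGroup.eq_one_iff g).2 ?_))
      exact Subgroup.mem_subgroupOf.2 ⟨g.2, Subgroup.mem_iInf.2 h⟩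
    haveI := hn t ht
    have hord : orderOf (QuotientGroup.mk g : K ⧸ (Nf t ht).subgroupOf K) = r := orderOf_eq_prime
      (by rw [← QuotientGroup.mk_pow, QuotientGroup.eq_one_iff]
          exact (iInf_le (fun s : σ => Nf s.1 s.2) ⟨t, ht⟩) hgr.2)
      (fun h => hgt ((QuotientGroup.eq_one_iff g).1 h))
    obtain ⟨j, hj⟩ := hidx t ht
    have hd : r ∣ t ^ j := hord ▸ hj ▸ orderOf_dvd_natCard (QuotientGroup.mk g : K ⧸ (Nf t ht).subgroupOf K)
    rwa [(Nat.prime_dvd_prime_iff_eq hr (hσp t ht)).1 (hr.dvd_of_dvd_pow hd)]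
  have hNi : ∀ r : ℕ, r.Prime → r ∣ N.index → r ∈ π := by
    intro r hr hrd
    rw [← Subgroup.relIndex_mul_index (show N ≤ K from inf_le_left), hKi] at hrd
    rcases (Nat.Prime.dvd_mul hr).1 hrd with h | h
    · exact Finset.mem_of_mem_erase (hNK r hr h)
    · rwa [(Nat.prime_dvd_prime_iff_eq hr Nat.prime_two).1 (hr.dvd_of_dvd_pow h)]
  refine ⟨⟨N, hNn, hNσ, hNi⟩, ?_⟩
  have hco : (Nat.card ↥(N.subgroupOf K)).Coprime (N.subgroupOf K).index := by
    rw [Nat.card_congr (Subgroup.subgroupOfEquivOfLe (show N ≤ K from inf_le_left)).toEquiv]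
    exact Nat.coprime_of_dvd fun r hr h1 h2 => hNσ r hr h1 (Finset.mem_of_mem_erase (hNK r hr h2))
  obtain ⟨H, hH⟩ := Subgroup.exists_right_complement'_of_coprime hco
  refine ⟨H.map K.subtype, ⟨fun r hr hrd => ?_, fun r hr hrπ hrd => ?_⟩, ⟨⟨?_⟩⟩⟩
  · rw [Subgroup.card_map_of_injective K.subtype_injective, ← hH.symm.index_eq_card] at hrd
    have h := hNK r hr hrd
    exact ⟨Finset.mem_coe.2 (Finset.mem_of_mem_erase h), Finset.ne_of_mem_erase h⟩
  · rw [Subgroup.index_map_subtype, hH.index_eq_card,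
      Nat.card_congr (Subgroup.subgroupOfEquivOfLe (show N ≤ K from inf_le_left)).toEquiv, hKi] at hrd
    rcases (Nat.Prime.dvd_mul hr).1 hrd with h | h
    · exact hNσ r hr h (Finset.mem_coe.1 hrπ.1)
    · exact hrπ.2 ((Nat.prime_dvd_prime_iff_eq hr Nat.prime_two).1 (hr.dvd_of_dvd_pow h))
  · rintro ⟨_, x, hx, rfl⟩ ⟨_, y, hy, rfl⟩
    have hmem : x * y * x⁻¹ * y⁻¹ ∈ N.subgroupOf K ⊓ H :=
      Subgroup.mem_inf.2 ⟨Subgroup.mem_subgroupOf.2 ⟨(x * y * x⁻¹ * y⁻¹ : K).2,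
        Subgroup.mem_iInf.2 fun r => hcomm r.1 r.2 (x : G) x.2 (y : G) y.2⟩,
        H.mul_mem (H.mul_mem (H.mul_mem hx hy) (H.inv_mem hx)) (H.inv_mem hy)⟩
    rw [hH.disjoint.eq_bot, Subgroup.mem_bot, mul_inv_eq_one, mul_inv_eq_iff_eq_mul] at hmem
    exact Subtype.ext (congrArg K.subtype hmem)

end Cfsg.Agent.S3898
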