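import Cfsg.Statements.S3903
import Cfsg.Agent.Core.Basics
-- import your own Cfsg.Agent.* helpers here

set_option autoImplicit false
open Cfsg

namespace Cfsg.Agent.S3903

open Subgroup

variable {G : Type*} [Group G] [Finite G]

/-- A group with a normal maximal subgroup that is a `p`-group is solvable. -/
theorem isSolvable_of_normal_coatom {p : ℕ} [Fact p.Prime] (Q : Subgroup G) [Q.Normal]
    (hQ : IsPGroup p Q) (hmax : IsCoatom Q) : Group.IsSolvable G := by
  have hcyc : IsCyclic (G ⧸ Q) := by
    obtain ⟨g, -, hg⟩ := SetLike.exists_of_lt hmax.lt_top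
    refine ⟨⟨QuotientGroup.mk' Q g, ?_⟩⟩
    intro y
    have h1 : (zpowers (QuotientGroup.mk' Q g)).comap (QuotientGroup.mk' Q) = ⊤ := by
      refine hmax.2 _ (lt_of_le_of_ne ?_ fun e => hg ?_)
      · intro q hq
        rw [mem_comap, show QuotientGroup.mk' Q q = 1 from (QuotientGroup.eq_one_iff q).2 hq]
        exact one_mem _
      · rw [e, mem_comap]
        exact mem_zpowers _
    obtain ⟨y, rfl⟩ := QuotientGroup.mk'_surjective Q y
    have := h1.ge (mem_top y)
    exact mem_comap.1 this
  have : Group.IsNilpotent Q := hQ.isNilpotent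
  have : Group.IsSolvable (G ⧸ Q) := by
    let _ := hcyc.commGroup
    exact inferInstance
  refine Group.isSolvable_of_ker_le_range Q.subtype (QuotientGroup.mk' Q) ?_
  rw [QuotientGroup.ker_mk', range_subtype]

/-- The centralizer of an element outside `N` is a `p`-group. -/
theorem isPGroup_centralizer (N : Subgroup G) [N.Normal]
    (h : ∀ x : G, x ∉ N → IsPrimePow (orderOf x)) {x : G} (hx : x ∉ N) {p k : ℕ} (hp : p.Prime)
    (hxo : orderOf x = p ^ k) : IsPGroup p (centralizer ({x} : Set G)) := by
  have : Fact p.Prime := ⟨hp⟩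
  have hk : k ≠ 0 := fun e => hx (by
    rw [e, pow_zero, orderOf_eq_one_iff] at hxo
    exact hxo ▸ N.one_mem)
  refine IsPGroup.of_card (n := (Nat.card (centralizer ({x} : Set G))).primeFactorsList.length)
    (Nat.eq_prime_pow_of_unique_prime_dvd Nat.card_pos.ne' fun {q} hq hd => ?_)
  by_contra hne
  have : Fact q.Prime := ⟨hq⟩
  obtain ⟨⟨y, hy⟩, hyo⟩ := exists_prime_orderOf_dvd_card' q hd
  rw [Subgroup.orderOf_mk] at hyo
  have hcomm : Commute x y := (mem_centralizer_singleton_iff.1 hy).symm
  have hcop : (orderOf x).Coprime (orderOf y) := by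
    rw [hxo, hyo]
    exact Nat.Coprime.pow_left _ ((Nat.coprime_primes hp hq).2 (Ne.symm hne))
  have hxy : x * y ∉ N := by
    intro hm
    have h1 : x ^ q ∈ N := by
      have := N.pow_mem hm q
      rwa [hcomm.mul_pow, show y ^ q = 1 from hyo ▸ pow_orderOf_eq_one y, mul_one] at this
    have h2 : q.Coprime (orderOf x) := hyo ▸ hcop.symm
    obtain ⟨m, hm'⟩ := exists_pow_eq_self_of_coprime h2
    exact hx (hm' ▸ N.pow_mem h1 m)
  obtain ⟨s, m, hs, -, hsm⟩ := (isPrimePow_nat_iff _).1 (h _ hxy)
  rw [hcomm.orderOf_mul_eq_mul_orderOf_of_coprime hcop, hxo, hyo] at hsm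
  have h1 : p = s := (Nat.prime_dvd_prime_iff_eq hp hs).1
    (hp.dvd_of_dvd_pow (hsm ▸ (dvd_pow_self p hk).mul_right q))
  have h2 : q = s := (Nat.prime_dvd_prime_iff_eq hq hs).1
    (hq.dvd_of_dvd_pow (hsm ▸ dvd_mul_left q (p ^ k)))
  exact hne (h2.trans h1.symm)

theorem isSolvable_of_hyp (N : Subgroup G) [N.Normal] (hN : N ≠ ⊤)
    (h : ∀ x : G, x ∉ N → IsPrimePow (orderOf x) ∧ IsCoatom (centralizer ({x} : Set G))) :
    Group.IsSolvable N := by
  classical
  obtain ⟨x0, -, hx0⟩ := SetLike.exists_of_lt (lt_top_iff_ne_top.2 hN)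
  obtain ⟨p, k, hp, hk, hxo'⟩ := (isPrimePow_nat_iff _).1 (h x0 hx0).1
  have hxo := hxo'.symm
  have hF : Fact p.Prime := ⟨hp⟩
  by_cases hnorm : ∃ (x : G) (q : ℕ) (_ : Fact q.Prime),
      x ∉ N ∧ IsPGroup q (centralizer ({x} : Set G)) ∧ (centralizer ({x} : Set G)).Normal
  · obtain ⟨x, q, _, hx, hq, hn⟩ := hnorm
    have := isSolvable_of_normal_coatom _ hq (h x hx).2
    infer_instance
  -- every centraliser of an element outside `N` is a Sylow subgroup
  have hsyl : ∀ (x : G) (q : ℕ) (_ : Fact q.Prime), x ∉ N → IsPGroup q (centralizer ({x} : Set G)) →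
      ∃ S : Sylow q G, (S : Subgroup G) = centralizer ({x} : Set G) ∧
        normalizer ((S : Subgroup G) : Set G) = S := by
    intro x q _ hx hq
    set Q := centralizer ({x} : Set G) with hQ
    have hNQ : normalizer (Q : Set G) = Q := by
      rcases (h x hx).2.le_iff.1 (le_normalizer (H := Q)) with e | e
      · exact absurd ⟨x, q, inferInstance, hx, hq, normalizer_eq_top_iff.1 e⟩ hnorm
      · exact e
    obtain ⟨S, hS⟩ := hq.exists_le_sylow
    have hSQ : (S : Subgroup G) = Q := by
      rcases (h x hx).2.le_iff.1 hS with e | e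
      · refine le_antisymm ?_ hS
        by_contra hlt
        have hlt' : Q.subgroupOf (S : Subgroup G) < ⊤ :=
          lt_top_iff_ne_top.2 fun e' => hlt (subgroupOf_eq_top.1 e')
        have := S.2.isNilpotent
        have h1 := Group.normalizerCondition_of_isNilpotent _ hlt'
        obtain ⟨⟨s, hs⟩, hs1, hs2⟩ := SetLike.exists_of_lt h1
        refine hs2 (mem_subgroupOf.2 (hNQ.le ?_))
        rw [mem_normalizer_iff] at hs1 ⊢
        intro y
        constructor
        · intro hy
          exact (hs1 ⟨y, hS hy⟩).1 hy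
        · intro hy
          have hy' : y ∈ (S : Subgroup G) := by
            have := (S : Subgroup G).mul_mem ((S : Subgroup G).mul_mem
              ((S : Subgroup G).inv_mem hs) (hS hy)) hs
            convert this using 1
            group
          exact (hs1 ⟨y, hy'⟩).2 hy
      · exact e
    exact ⟨S, hSQ, by rw [hSQ]; exact hNQ⟩
  obtain ⟨P, hPc, hPN⟩ := hsyl x0 p hF hx0
    (isPGroup_centralizer N (fun x hx => (h x hx).1) hx0 hp hxo)
  have hPmax : IsCoatom (P : Subgroup G) := hPc ▸ (h x0 hx0).2
  have hPN' : normalizer (P : Set G) = (P : Subgroup G) := hPN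
  -- `G ⧸ N` is a `p`-group
  rcases hPmax.le_iff.1 (le_sup_left : (P : Subgroup G) ≤ (P : Subgroup G) ⊔ N) with htop | hle
  swap
  · have : Group.IsNilpotent N := (P.2.to_le (sup_eq_left.1 hle)).isNilpotent
    infer_instance
  have hquot : IsPGroup p (G ⧸ N) := by
    have h1 : (P : Subgroup G).map (QuotientGroup.mk' N) = ⊤ := by
      have := congrArg (map (QuotientGroup.mk' N)) htop
      rwa [Subgroup.map_sup, QuotientGroup.map_mk'_self, sup_bot_eq,
        map_top_of_surjective _ (QuotientGroup.mk'_surjective N)] at this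
    exact IsPGroup.of_equiv (h1 ▸ P.2.map (QuotientGroup.mk' N)) Subgroup.topEquiv
  have hcent : ∀ x : G, x ∉ N → IsPGroup p (centralizer ({x} : Set G)) := by
    intro x hx
    obtain ⟨q, m, hq, hm, hxm⟩ := (isPrimePow_nat_iff _).1 (h x hx).1
    suffices q = p from this ▸ isPGroup_centralizer N (fun x hx => (h x hx).1) hx hq hxm.symm
    obtain ⟨a, ha⟩ := IsPGroup.iff_orderOf.1 hquot (QuotientGroup.mk' N x)
    have h1 : orderOf (QuotientGroup.mk' N x) ∣ q ^ m := hxm ▸ orderOf_map_dvd _ x
    rw [ha] at h1
    have ha0 : a ≠ 0 := fun e => hx (by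
      rw [e, pow_zero, orderOf_eq_one_iff] at ha
      exact (QuotientGroup.eq_one_iff x).1 ha)
    exact ((Nat.prime_dvd_prime_iff_eq hp hq).1
      (hp.dvd_of_dvd_pow ((dvd_pow_self p ha0).trans h1))).symm
  -- `P` is abelian, by counting the elements outside `N`
  have hcomm : IsMulCommutative (P : Subgroup G) := by
    by_contra hnc
    have hsel : ∀ x : {x : G // x ∉ N}, ∃ w : Sylow p G × {z : center P // z ≠ 1},
        ∃ g : G, g • P = w.1 ∧ g * (w.2.1.1.1) * g⁻¹ = x.1 ∧
          ∀ g' : G, g' • P = w.1 → (centralizer ({x.1} : Set G)) = (w.1 : Subgroup G) := by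
      rintro ⟨x, hx⟩
      obtain ⟨S, hS, -⟩ := hsyl x p hF hx (hcent x hx)
      obtain ⟨g, hg⟩ := MulAction.exists_smul_eq G P S
      have hxS : x ∈ (S : Subgroup G) := hS ▸ mem_centralizer_singleton_iff.2 rfl
      have hmem : g⁻¹ * x * g ∈ (P : Subgroup G) := by
        rw [← hg, Sylow.coe_subgroup_smul, Subgroup.mem_pointwise_smul_iff_inv_smul_mem] at hxS
        simpa [MulAut.smul_def, MulAut.conj_apply] using hxS
      have hz : (⟨g⁻¹ * x * g, hmem⟩ : (P : Subgroup G)) ∈ center P := by
        rw [mem_center_iff]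
        rintro ⟨y, hy⟩
        apply Subtype.ext
        have hy' : g * y * g⁻¹ ∈ (S : Subgroup G) := by
          rw [← hg, Sylow.coe_subgroup_smul]
          exact smul_mem_pointwise_smul y (MulAut.conj g) _ hy
        rw [hS, mem_centralizer_singleton_iff] at hy'
        show y * (g⁻¹ * x * g) = g⁻¹ * x * g * y
        calc y * (g⁻¹ * x * g) = g⁻¹ * ((g * y * g⁻¹) * x) * g := by group
          _ = g⁻¹ * (x * (g * y * g⁻¹)) * g := by rw [hy']
          _ = g⁻¹ * x * g * y := by group
      refine ⟨(S, ⟨⟨_, hz⟩, fun e => hx ?_⟩), g, hg, ?_, fun _ _ => hS.symm⟩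
      · have e' : g⁻¹ * x * g = 1 := congrArg (fun z : center P => (z.1 : G)) e
        have : x = 1 := by
          have := congrArg (fun z => g * z * g⁻¹) e'
          simpa [mul_assoc] using this
        exact this ▸ N.one_mem
      · show g * (g⁻¹ * x * g) * g⁻¹ = x
        group
    choose w g hg hgx hw using hsel
    have hinj : Function.Injective w := by
      intro a b e
      have h1 : (g b)⁻¹ * g a ∈ normalizer ((P : Subgroup G) : Set G) := by
        change (g b)⁻¹ * g a ∈ normalizer (P : Set G)
        rw [← Sylow.smul_eq_iff_mem_normalizer, mul_smul, hg a, e, ← hg b, inv_smul_smul]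
      simp only [hPN] at h1
      have h2 := congrArg Subtype.val (mem_center_iff.1 (w a).2.1.2 ⟨_, h1⟩)
      apply Subtype.ext
      rw [← hgx a, ← hgx b]
      rw [← e]
      simp only [Subgroup.coe_mul] at h2
      calc g a * (w a).2.1.1.1 * (g a)⁻¹
          = g b * (((g b)⁻¹ * g a) * (w a).2.1.1.1) * (g a)⁻¹ := by group
        _ = g b * ((w a).2.1.1.1 * ((g b)⁻¹ * g a)) * (g a)⁻¹ := by rw [h2]
        _ = g b * (w a).2.1.1.1 * (g b)⁻¹ := by group
    have hle := Nat.card_le_card_of_injective w hinj
    rw [Nat.card_prod, P.card_eq_index_normalizer, hPN'] at hle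
    have hzlt : 2 * Nat.card (center P) ≤ Nat.card (P : Subgroup G) := by
      obtain ⟨c, hc⟩ := Subgroup.card_subgroup_dvd_card (center P)
      have hpos : 0 < Nat.card (P : Subgroup G) := Nat.card_pos
      rcases c with _ | _ | c
      · simp [hc] at hpos
      · exfalso
        refine hnc ⟨⟨fun a b => ?_⟩⟩
        have : center P = ⊤ := Subgroup.eq_top_of_card_eq _ (by omega)
        exact (mem_center_iff.1 (this ▸ mem_top b : b ∈ center P) a)
      · rw [hc, mul_comm 2]
        exact Nat.mul_le_mul_left _ (by omega)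
    have hz1 : Nat.card {z : center P // z ≠ 1} < Nat.card (center P) :=
      Finite.card_subtype_lt (p := fun z : center P => z ≠ 1) (x := 1) (by simp)
    have hNc : Nat.card {x : G // x ∉ N} + Nat.card N = Nat.card G := by
      have h1 := Nat.card_congr (Equiv.sumCompl (fun x => x ∈ N))
      rw [Nat.card_sum] at h1
      rw [add_comm]
      exact h1
    have h2N : 2 * Nat.card N ≤ Nat.card G := by
      rw [← N.card_mul_index, mul_comm 2]
      exact Nat.mul_le_mul_left _ (N.one_lt_index_of_ne_top hN)
    have hPi := (P : Subgroup G).card_mul_index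
    have hi : 0 < (P : Subgroup G).index := Nat.pos_of_ne_zero (P : Subgroup G).index_ne_zero_of_finite
    have h3 : (P : Subgroup G).index * (Nat.card {z : center P // z ≠ 1} + 1) ≤
        (P : Subgroup G).index * Nat.card (center P) := Nat.mul_le_mul_left _ hz1
    have h4 : (P : Subgroup G).index * (2 * Nat.card (center P)) ≤
        (P : Subgroup G).index * Nat.card (P : Subgroup G) := Nat.mul_le_mul_left _ hzlt
    nlinarith
  -- Burnside's transfer
  have hle : normalizer ((P : Subgroup G) : Set G) ≤ centralizer ((P : Subgroup G) : Set G) := by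
    rw [hPN]
    intro a ha b hb
    exact congrArg Subtype.val (hcomm.is_comm.comm ⟨b, hb⟩ ⟨a, ha⟩)
  set K := (MonoidHom.transferSylow P hle).ker with hK
  have hKP : K.IsComplement' (P : Subgroup G) := MonoidHom.ker_transferSylow_isComplement' P hle
  have hKp : ¬ p ∣ Nat.card K := MonoidHom.not_dvd_card_ker_transferSylow P hle
  have hKs : Group.IsSolvable K := by
    rcases eq_or_ne (Nat.card K) 1 with h1 | h1
    · have := (Nat.card_eq_one_iff_unique.1 h1).1
      infer_instance
    obtain ⟨r, hr, hrd⟩ := Nat.exists_prime_and_dvd h1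
    have : Fact r.Prime := ⟨hr⟩
    obtain ⟨R⟩ := (inferInstance : Nonempty (Sylow r K))
    set R' : Subgroup G := (R : Subgroup K).map K.subtype with hR'
    have hsup := Sylow.normalizer_sup_eq_top R
    set M := normalizer (R' : Set G) with hM
    have hMi : M.index ∣ Nat.card K := by
      refine Nat.dvd_of_mul_dvd_mul_left (Nat.card_pos (α := M)) ?_
      have h1 := Core.card_sup_dvd_mul M K
      rwa [show M ⊔ K = ⊤ from hsup, card_top, ← M.card_mul_index] at h1
    obtain ⟨S⟩ := (inferInstance : Nonempty (Sylow p M))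
    have hSi : ¬ p ∣ ((S : Subgroup M).map M.subtype).index := by
      rw [index_map_subtype]
      intro hd
      rcases hp.dvd_mul.1 hd with hd | hd
      · exact S.not_dvd_index hd
      · exact hKp (hd.trans hMi)
    set S' : Sylow p G := (S.2.map M.subtype).toSylow hSi
    have hS'M : (S' : Subgroup G) ≤ M := map_subtype_le _
    obtain ⟨g, hg⟩ := MulAction.exists_smul_eq G P S'
    have hS'max : IsCoatom (S' : Subgroup G) := by
      rw [← hg, Sylow.coe_subgroup_smul]
      exact ((MulAut.conj g).mapSubgroup.isCoatom_iff (P : Subgroup G)).2 hPmax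
    have hR'p : IsPGroup r R' := R.2.map _
    have hR'1 : R' ≠ ⊥ := by
      rw [hR', Ne, map_eq_bot_iff_of_injective _ K.subtype_injective]
      exact R.ne_bot_of_dvd_card hrd
    have hpr : p ≠ r := by
      rintro rfl
      exact hKp hrd
    have hnle : ¬ R' ≤ (S' : Subgroup G) := fun hle =>
      hR'1 (disjoint_self.1 ((IsPGroup.disjoint_of_ne r p (Ne.symm hpr) R' S' hR'p S'.2).mono_right hle))
    have hMtop : M = ⊤ := by
      rcases hS'max.le_iff.1 hS'M with e | e
      · exact e
      · exact absurd (le_normalizer.trans_eq e) hnle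
    have : R'.Normal := normalizer_eq_top_iff.1 hMtop
    have hsup2 : (S' : Subgroup G) ⊔ R' = ⊤ := by
      rcases hS'max.le_iff.1 (le_sup_left : (S' : Subgroup G) ≤ (S' : Subgroup G) ⊔ R') with e | e
      · exact e
      · exact absurd (le_sup_right.trans_eq e) hnle
    have hinf : (S' : Subgroup G) ⊓ R' = ⊥ :=
      disjoint_iff.1 (IsPGroup.disjoint_of_ne p r hpr S' R' S'.2 hR'p)
    have hc := Core.card_sup_of_inf_eq_bot hinf
    rw [hsup2, card_top, ← hKP.card_mul, hR', card_map_of_injective K.subtype_injective] at hc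
    have hSP : Nat.card (S' : Subgroup G) = Nat.card (P : Subgroup G) :=
      Nat.card_congr (Sylow.equiv S' P).toEquiv
    rw [hSP, mul_comm (Nat.card (P : Subgroup G))] at hc
    have hcK : Nat.card (R : Subgroup K) = Nat.card K :=
      (Nat.eq_of_mul_eq_mul_right Nat.card_pos hc).symm
    have : Group.IsNilpotent K :=
      ((IsPGroup.of_equiv R.2 ((MulEquiv.subgroupCongr (Subgroup.eq_top_of_card_eq _ hcK)).trans
        Subgroup.topEquiv))).isNilpotent
    infer_instance
  have : Group.IsNilpotent (P : Subgroup G) := P.2.isNilpotent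
  have : Group.IsSolvable G :=
    Group.isSolvable_of_ker_le_range K.subtype (MonoidHom.transferSylow P hle)
      (by rw [range_subtype])
  infer_instance


/-- Let N be a proper normal subgroup of the finite group G such that every element x of G outside N has prime power order and has centralizer C_G(x) a maximal subgroup of G. Then N is solvable. -/
theorem result {G : Type*} [Group G] [Finite G] (N : Subgroup G) [N.Normal] (hN : N ≠ ⊤)
    (h : ∀ x : G, x ∉ N → IsPrimePow (orderOf x) ∧ IsCoatom (Subgroup.centralizer ({x} : Set G))) : Group.IsSolvable ↥N := by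
  exact isSolvable_of_hyp N hN h

end Cfsg.Agent.S3903
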