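import Cfsg.Statements.S3908
import Cfsg.Agent.Fusion.UniqueInvolution
import Cfsg.Agent.Core.Basics
-- import your own Cfsg.Agent.* helpers here

set_option autoImplicit false
open Cfsg

namespace Cfsg.Agent.S3908

open Subgroup in
theorem no_cyclic_sq {G : Type*} [Group G] [Finite G]
    (hB : ∀ A B : Subgroup G, IsMulCommutative ↥A → IsMulCommutative ↥B → Nat.card ↥A = Nat.card ↥B →
      ∃ g : G, B = A.map (MulAut.conj g).toMonoidHom)
    {p : ℕ} [hp : Fact p.Prime] (V : Subgroup G) (hV : IsMulCommutative V) (hVc : Nat.card V = p ^ 2)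
    (hVp : ∀ v ∈ V, v ^ p = 1) (x : G) : orderOf x ≠ p ^ 2 := by
  intro hx
  obtain ⟨g, hg⟩ := hB (zpowers x) V inferInstance hV (by rw [Nat.card_zpowers, hx, hVc])
  have h1 : g * x * g⁻¹ ∈ V := hg ▸ ⟨x, mem_zpowers x, rfl⟩
  have h2 := orderOf_dvd_of_pow_eq_one (hVp _ h1)
  rw [show orderOf (g * x * g⁻¹) = p ^ 2 from ((MulAut.conj g).orderOf_eq x).trans hx] at h2
  have := Nat.le_of_dvd hp.out.pos h2
  have := hp.out.one_lt
  nlinarith

open Subgroup in
theorem forall_pow_eq_one {G : Type*} [Group G] [Finite G] {p : ℕ} [hp : Fact p.Prime] (P : Sylow p G)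
    (h : ∀ x : G, orderOf x ≠ p ^ 2) : ∀ x ∈ (P : Subgroup G), x ^ p = 1 := by
  intro x hx
  obtain ⟨k, hk⟩ := IsPGroup.iff_orderOf.mp P.isPGroup' ⟨x, hx⟩
  rw [Subgroup.orderOf_mk] at hk
  apply orderOf_dvd_iff_pow_eq_one.mp
  rw [hk]
  by_contra hd
  have hk2 : 2 ≤ k := by
    by_contra h2
    exact hd ((Nat.pow_dvd_pow p (by omega : k ≤ 1)).trans (by rw [pow_one]))
  refine h (x ^ p ^ (k - 2)) ?_
  rw [orderOf_pow_of_dvd (pow_ne_zero _ hp.out.ne_zero) (hk ▸ Nat.pow_dvd_pow p (by omega)), hk,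
    Nat.pow_div (by omega) hp.out.pos, show k - (k - 2) = 2 by omega]



/-- Let G be a finite group in which any two abelian subgroups of the same order are conjugate. Then a Sylow 2-subgroup of G is cyclic, elementary abelian or generalized quaternion, and for an odd prime p a Sylow p-subgroup of G is cyclic or has exponent dividing p. -/
theorem result {G : Type*} [Group G] [Finite G] (hB : ∀ A B : Subgroup G, IsMulCommutative ↥A → IsMulCommutative ↥B → Nat.card ↥A = Nat.card ↥B → ∃ g : G, B = A.map (MulAut.conj g).toMonoidHom) :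
    (∀ P : Sylow 2 G, IsCyclic ↥(P : Subgroup G) ∨ Cfsg.IsElementaryAbelian 2 (P : Subgroup G) ∨ ∃ k : ℕ, Nonempty (↥(P : Subgroup G) ≃* QuaternionGroup (2 ^ k))) ∧
    ∀ (p : ℕ) [Fact p.Prime], p ≠ 2 → ∀ P : Sylow p G, IsCyclic ↥(P : Subgroup G) ∨ ∀ x ∈ (P : Subgroup G), x ^ p = 1 := by
  constructor
  · intro P
    have h2 : Fact (Nat.Prime 2) := ⟨Nat.prime_two⟩
    by_cases huniq : ∀ u v : (P : Subgroup G), orderOf u = 2 → orderOf v = 2 → u = v
    · rcases Cfsg.Agent.Fusion.cyclic_or_quaternion P.isPGroup' huniq with h | ⟨k, -, hk⟩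
      · exact Or.inl h
      · exact Or.inr (Or.inr ⟨k, hk⟩)
    · refine Or.inr (Or.inl ?_)
      push Not at huniq
      obtain ⟨u, v, hu, hv, huv⟩ := huniq
      have hnt : Nontrivial (P : Subgroup G) := ⟨⟨u, v, huv⟩⟩
      obtain ⟨Z, -, hZc, -, hZcard⟩ :=
        Cfsg.Agent.Fusion.exists_central_card_prime (G := (P : Subgroup G)) P.isPGroup' ⊤ top_ne_bot
      obtain ⟨w, hw, hwZ⟩ : ∃ w : (P : Subgroup G), orderOf w = 2 ∧ w ∉ Z := by
        by_contra hcon
        push Not at hcon
        have h3 := hcon u hu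
        have h4 := hcon v hv
        have : Nat.card Z ≥ 3 := by
          classical
          have := Fintype.ofFinite Z
          rw [Nat.card_eq_fintype_card]
          have hone : ∀ {y : (P : Subgroup G)}, orderOf y = 2 → y ≠ 1 := fun hy e => by
            rw [e, orderOf_one] at hy; omega
          calc (3 : ℕ) = ({⟨u, h3⟩, ⟨v, h4⟩, 1} : Finset Z).card := by
                rw [Finset.card_eq_three.mpr ⟨⟨u, h3⟩, ⟨v, h4⟩, 1, fun e => huv (congrArg Subtype.val e),
                  fun e => hone hu (congrArg Subtype.val e), fun e => hone hv (congrArg Subtype.val e), rfl⟩]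
            _ ≤ _ := Finset.card_le_univ _
        omega
      set E : Subgroup (P : Subgroup G) := Subgroup.zpowers w ⊔ Z
      have hZn : Z.Normal := ⟨fun z hz q => by
        rw [Subgroup.mem_center_iff.mp (hZc hz) q]; simpa using hz⟩
      have hcw : ∀ b ∈ Z, ∀ a ∈ Subgroup.zpowers w, Commute a b := fun b hb a _ =>
        Subgroup.mem_center_iff.mp (hZc hb) a
      have hEc : IsMulCommutative E :=
        Cfsg.Agent.Fusion.isMulCommutative_sup_of_le_centralizer inferInstance
          ((isCyclic_of_prime_card hZcard).isMulCommutative)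
          (fun a ha b hb => (hcw b hb a ha).symm.eq)
      have hEcard : Nat.card E = 4 := by
        have hdisj : Subgroup.zpowers w ⊓ Z = ⊥ := by
          refine ((Subgroup.zpowers w ⊓ Z).eq_bot_of_card_le ?_)
          have hd := Subgroup.card_dvd_of_le (inf_le_left : Subgroup.zpowers w ⊓ Z ≤ Subgroup.zpowers w)
          rw [Nat.card_zpowers, hw] at hd
          rcases (Nat.dvd_prime Nat.prime_two).mp hd with h | h
          · omega
          · exfalso
            refine hwZ ?_
            have := Subgroup.eq_of_le_of_card_ge (inf_le_left : Subgroup.zpowers w ⊓ Z ≤ _)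
              (by rw [h, Nat.card_zpowers, hw])
            have hm : w ∈ Subgroup.zpowers w ⊓ Z := by rw [this]; exact Subgroup.mem_zpowers w
            exact hm.2
        rw [Cfsg.Agent.Core.card_sup_of_inf_eq_bot hdisj, Nat.card_zpowers, hw, hZcard]
      have hE2 : ∀ e ∈ E, e ^ 2 = 1 := by
        intro e he
        rw [Subgroup.mem_sup_of_normal_right] at he
        obtain ⟨a, ha, b, hb, rfl⟩ := he
        rw [(hcw b hb a ha).mul_pow,
          orderOf_dvd_iff_pow_eq_one.mp ((orderOf_dvd_of_mem_zpowers ha).trans hw.dvd),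
          orderOf_dvd_iff_pow_eq_one.mp ((Z.orderOf_dvd_natCard hb).trans hZcard.dvd), mul_one]
      set ι := (P : Subgroup G).subtype
      have hV : IsMulCommutative (E.map ι) := ⟨⟨by
        rintro ⟨_, a, ha, rfl⟩ ⟨_, b, hb, rfl⟩
        apply Subtype.ext
        show ι a * ι b = ι b * ι a
        rw [← map_mul, ← map_mul]
        exact congrArg ι (congrArg Subtype.val (hEc.is_comm.comm (⟨a, ha⟩ : E) ⟨b, hb⟩))⟩⟩
      have hno := no_cyclic_sq (p := 2) hB (E.map ι) hV
        (by rw [Subgroup.card_map_of_injective (Subgroup.subtype_injective _), hEcard]; rfl)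
        (by rintro _ ⟨e, he, rfl⟩; rw [← map_pow, hE2 e he, map_one])
      have hexp := forall_pow_eq_one P hno
      refine ⟨⟨⟨fun a b => ?_⟩⟩, hexp⟩
      have hsq : ∀ c : (P : Subgroup G), c⁻¹ = c := fun c => by
        rw [inv_eq_iff_mul_eq_one, ← pow_two]; exact Subtype.ext (hexp c c.2)
      calc a * b = (a * b)⁻¹ := (hsq _).symm
        _ = b * a := by rw [mul_inv_rev, hsq, hsq]
  · intro p _ hp P
    by_cases hc : IsCyclic (P : Subgroup G)
    · exact Or.inl hc
    obtain ⟨A, -, hA, hAc⟩ := Cfsg.Agent.Fusion.exists_normal_elementary_card_sq hp P.isPGroup' hc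
    right
    set ι := (P : Subgroup G).subtype
    have hV : IsMulCommutative (A.map ι) := ⟨⟨by
      rintro ⟨_, a, ha, rfl⟩ ⟨_, b, hb, rfl⟩
      apply Subtype.ext
      show ι a * ι b = ι b * ι a
      rw [← map_mul, ← map_mul]
      exact congrArg ι (congrArg Subtype.val (hA.1.is_comm.comm (⟨a, ha⟩ : A) ⟨b, hb⟩))⟩⟩
    exact forall_pow_eq_one P (no_cyclic_sq (p := p) hB (A.map ι) hV
      (by rw [Subgroup.card_map_of_injective (Subgroup.subtype_injective _), hAc])
      (by rintro _ ⟨e, he, rfl⟩; rw [← map_pow, hA.2 e he, map_one]))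

end Cfsg.Agent.S3908
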