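import Cfsg.Statements.S3910
import Cfsg.Agent.S0015
import Cfsg.Agent.Core.Basics

set_option autoImplicit false
open Cfsg

namespace Cfsg.Agent.S3910

/-- A finite nilpotent group in which any two abelian subgroups of the same order are conjugate is cyclic. -/
theorem result {G : Type*} [Group G] [Finite G] (hB : ∀ A B : Subgroup G, IsMulCommutative ↥A → IsMulCommutative ↥B → Nat.card ↥A = Nat.card ↥B → ∃ g : G, B = A.map (MulAut.conj g).toMonoidHom) (hnil : Group.IsNilpotent G) : IsCyclic G := by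
  haveI := hnil
  haveI : Finite (Subgroup G) :=
    Finite.of_injective (fun H : Subgroup G => (H : Set G)) SetLike.coe_injective
  obtain ⟨A, ⟨hAn, hAc⟩, hAmax⟩ := (Set.toFinite
    {A : Subgroup G | A.Normal ∧ IsMulCommutative ↥A}).exists_maximal
    ⟨⊥, Subgroup.normal_bot, inferInstance⟩
  haveI := hAn
  haveI := hAc
  have hself : Subgroup.centralizer (A : Set G) = A :=
    Cfsg.Agent.S0015.result A fun M hM hMc hle => le_antisymm (hAmax ⟨hM, hMc⟩ hle) hle
  -- every element of prime-power order lies in `A`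
  have hpp : ∀ (g : G) (p j : ℕ), p.Prime → orderOf g = p ^ j → g ∈ A := by
    intro g p j hp hg
    haveI := Fact.mk hp
    set k := (Nat.card A).factorization p
    have hcyc : ∀ i ≤ k, ∀ B : Subgroup G, IsMulCommutative B → Nat.card B = p ^ i → B ≤ A := by
      intro i hi B hBab hBc
      obtain ⟨B', hB'⟩ := Sylow.exists_subgroup_card_pow_prime (G := A) p
        ((pow_dvd_pow p hi).trans (Nat.ordProj_dvd _ _))
      have hB'c : IsMulCommutative (B'.map A.subtype) := inferInstance
      obtain ⟨x, hx⟩ := hB (B'.map A.subtype) B hB'c hBab (by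
        rw [Subgroup.card_map_of_injective A.subtype_injective, hB', hBc])
      rw [hx]
      rintro _ ⟨y, hy, rfl⟩
      exact hAn.conj_mem y (Subgroup.map_subtype_le B' hy) x
    rcases le_total j k with hjk | hkj
    · exact hcyc j hjk (Subgroup.zpowers g) inferInstance (by rw [Nat.card_zpowers, hg])
        (Subgroup.mem_zpowers g)
    -- otherwise `g` centralizes `A`
    rw [← hself]
    obtain ⟨Ap, hAp⟩ := Sylow.exists_subgroup_card_pow_prime (G := Subgroup.zpowers g) p
      (show p ^ k ∣ Nat.card (Subgroup.zpowers g) by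
        rw [Nat.card_zpowers, hg]; exact pow_dvd_pow p hkj)
    have hApA : Ap.map (Subgroup.zpowers g).subtype ≤ A :=
      hcyc k le_rfl _ inferInstance (by
        rw [Subgroup.card_map_of_injective (Subgroup.zpowers g).subtype_injective, hAp])
    set X := A ⊓ Subgroup.centralizer ({g} : Set G) with hX
    have hAcard : Nat.card A ∣ Nat.card X := by
      refine Nat.dvd_iff_prime_pow_dvd_dvd _ _ |>.2 fun q i hq hdvd => ?_
      rcases eq_or_ne q p with rfl | hqp
      · have hik : i ≤ k := (hq.pow_dvd_iff_le_factorization Nat.card_pos.ne').1 hdvd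
        refine (pow_dvd_pow q hik).trans ?_
        rw [← hAp, ← Subgroup.card_map_of_injective (Subgroup.zpowers g).subtype_injective]
        refine Subgroup.card_dvd_of_le (le_inf hApA ?_)
        rintro _ ⟨⟨z, m, rfl⟩, -, rfl⟩
        exact Subgroup.mem_centralizer_singleton_iff.2 ((Commute.refl g).zpow_left m).eq
      · haveI := Fact.mk hq
        obtain ⟨B, hBc⟩ := Sylow.exists_subgroup_card_pow_prime (G := A) q hdvd
        rw [← hBc, ← Subgroup.card_map_of_injective A.subtype_injective]
        refine Subgroup.card_dvd_of_le (le_inf (Subgroup.map_subtype_le B) fun b hb => ?_)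
        obtain ⟨Q, hQ⟩ := ((IsPGroup.of_card hBc).map A.subtype).exists_le_sylow
        obtain ⟨P, hP⟩ := (IsPGroup.of_card (n := j) (by rw [Nat.card_zpowers, hg]) :
          IsPGroup p (Subgroup.zpowers g)).exists_le_sylow
        have hnorm : ∀ (r : ℕ) (_ : Fact r.Prime) (R : Sylow r G), (R : Subgroup G).Normal :=
          ((Group.isNilpotent_of_finite_tfae (G := G)).out 0 3).mp hnil
        haveI := hnorm q ‹_› Q
        haveI := hnorm p ‹_› P
        refine Subgroup.mem_centralizer_singleton_iff.2 (Core.commute_of_coprime ?_ (hQ hb)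
          (hP (Subgroup.mem_zpowers g))).eq
        obtain ⟨a₁, ha₁⟩ := IsPGroup.iff_card.1 Q.2
        obtain ⟨a₂, ha₂⟩ := IsPGroup.iff_card.1 P.2
        rw [ha₁, ha₂]
        exact Nat.coprime_pow_primes _ _ hq hp hqp
    have hXA : X = A := Subgroup.eq_of_le_of_card_ge inf_le_left (Nat.le_of_dvd Nat.card_pos hAcard)
    refine Subgroup.mem_centralizer_iff.2 fun a ha => ?_
    exact Subgroup.mem_centralizer_singleton_iff.1 (hXA.ge ha).2
  have hGA : A = ⊤ := by
    refine Subgroup.eq_top_of_card_eq A (Nat.dvd_antisymm (Subgroup.card_subgroup_dvd_card A) ?_)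
    refine Nat.dvd_iff_prime_pow_dvd_dvd _ _ |>.2 fun q i hq hdvd => ?_
    haveI := Fact.mk hq
    obtain ⟨B, hBc⟩ := Sylow.exists_subgroup_card_pow_prime (G := G) q hdvd
    rw [← hBc]
    refine Subgroup.card_dvd_of_le fun b hb => ?_
    obtain ⟨m, -, hm⟩ := (Nat.dvd_prime_pow hq).1 (hBc ▸ B.orderOf_dvd_natCard hb)
    exact hpp b q m hq hm
  have hcomm : ∀ x y : G, x * y = y * x := fun x y =>
    congrArg (Subtype.val : ↥A → G)
      (hAc.is_comm.comm ⟨x, hGA ▸ Subgroup.mem_top x⟩ ⟨y, hGA ▸ Subgroup.mem_top y⟩)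
  let _ : CommGroup G := { (inferInstance : Group G) with mul_comm := hcomm }
  obtain ⟨g, hg⟩ : ∃ g : G, orderOf g = Monoid.exponent G :=
    Monoid.exists_orderOf_eq_exponent (Monoid.ExponentExists.of_finite)
  refine ⟨⟨g, fun x => ?_⟩⟩
  have hd : orderOf x ∣ orderOf g := hg ▸ Monoid.order_dvd_exponent x
  obtain ⟨c, hc⟩ := hd
  have hc0 : c ≠ 0 := fun e => (orderOf_pos g).ne' (by rw [hc, e, mul_zero])
  have hord : orderOf (g ^ c) = orderOf x := by
    rw [orderOf_pow' _ hc0, hc, Nat.gcd_eq_right (Dvd.intro_left _ rfl),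
      Nat.mul_div_cancel _ (Nat.pos_of_ne_zero hc0)]
  obtain ⟨t, ht⟩ := hB (Subgroup.zpowers (g ^ c)) (Subgroup.zpowers x) inferInstance inferInstance
    (by rw [Nat.card_zpowers, Nat.card_zpowers, hord])
  have hxm : x ∈ (Subgroup.zpowers (g ^ c)).map (MulAut.conj t).toMonoidHom :=
    ht ▸ Subgroup.mem_zpowers x
  obtain ⟨y, ⟨i, rfl⟩, hy⟩ := hxm
  have hyx : (g ^ c) ^ i = x := by
    rw [← hy]
    show _ = t * (g ^ c) ^ i * t⁻¹
    rw [hcomm t, mul_inv_cancel_right]
  exact hyx ▸ Subgroup.zpow_mem _ (Subgroup.pow_mem _ (Subgroup.mem_zpowers g) c) i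

end Cfsg.Agent.S3910
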