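import Cfsg.Statements.S3917

set_option autoImplicit false
open Cfsg

namespace Cfsg.Agent.S3917

/-- Say that a group has self-centralizing non-cyclic subgroups when every non-cyclic subgroup H satisfies C_G(H) ≤ H. A finite abelian group with self-centralizing non-cyclic subgroups is cyclic or elementary abelian of order p² for a prime p. -/
theorem result {G : Type*} [CommGroup G] [Finite G] (hX : (∀ H : Subgroup G, ¬ IsCyclic ↥H → Subgroup.centralizer (H : Set G) ≤ H)) :
    IsCyclic G ∨ ∃ p : ℕ, p.Prime ∧ Nat.card G = p ^ 2 ∧ Monoid.exponent G = p := by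
  by_cases hcyc : IsCyclic G
  · exact Or.inl hcyc
  right
  have htop : ∀ H : Subgroup G, ¬ IsCyclic ↥H → H = ⊤ := fun H hH =>
    eq_top_iff.2 fun x _ => hX H hH (Subgroup.mem_centralizer_iff.2 fun y _ => mul_comm y x)
  obtain ⟨g, hg⟩ : ∃ g : G, orderOf g = Monoid.exponent G :=
    Monoid.exists_orderOf_eq_exponent (Monoid.ExponentExists.of_finite)
  have hne : Subgroup.zpowers g ≠ ⊤ := fun e =>
    hcyc ⟨⟨g, fun x => (Subgroup.eq_top_iff' _).1 e x⟩⟩
  obtain ⟨x, hx, hxp⟩ : ∃ x : G, x ∉ Subgroup.zpowers g ∧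
      ∃ p : ℕ, p.Prime ∧ x ^ p ∈ Subgroup.zpowers g := by
    obtain ⟨x, hx⟩ := not_forall.1 fun h => hne (eq_top_iff.2 fun x _ => h x)
    classical
    have hex : ∃ n, 0 < n ∧ x ^ n ∈ Subgroup.zpowers g :=
      ⟨orderOf x, orderOf_pos x, by rw [pow_orderOf_eq_one]; exact Subgroup.one_mem _⟩
    obtain ⟨hn0, hn⟩ := Nat.find_spec hex
    set n := Nat.find hex
    have hn1 : n ≠ 1 := fun e => hx (by simpa [e] using hn)
    obtain ⟨p, hp, m, hm⟩ := Nat.exists_prime_and_dvd hn1
    refine ⟨x ^ m, fun h' => ?_, p, hp, by rwa [← pow_mul, mul_comm, ← hm]⟩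
    have hm0 : 0 < m := Nat.pos_of_ne_zero fun e => by simp [e] at hm; omega
    have : n ≤ m := Nat.find_min' hex ⟨hm0, h'⟩
    have h2 : m < n := by rw [hm]; exact lt_mul_of_one_lt_left hm0 hp.one_lt
    omega
  obtain ⟨p, hp, i, hi⟩ := hxp
  haveI := Fact.mk hp
  have hexp : ∀ z : G, z ^ Monoid.exponent G = 1 := Monoid.pow_exponent_eq_one
  have hpe : p ∣ Monoid.exponent G := by
    by_contra hnd
    have hcp : Nat.Coprime (orderOf x) p :=
      (Nat.Coprime.symm ((hp.coprime_iff_not_dvd).2 fun hd =>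
        hnd (hd.trans (Monoid.order_dvd_exponent x))))
    obtain ⟨m, hm⟩ := exists_pow_eq_self_of_coprime hcp.symm
    exact hx (hm ▸ Subgroup.pow_mem _ (Subgroup.mem_zpowers_iff.2 ⟨i, hi⟩) m)
  have hpi : (p : ℤ) ∣ i := by
    obtain ⟨c, hc⟩ := hpe
    have h1 : g ^ (i * c) = 1 := by
      simp only at hi
      rw [zpow_mul, hi, zpow_natCast, ← pow_mul, ← hc]
      exact hexp x
    have h2 : ((orderOf g : ℤ)) ∣ i * c := orderOf_dvd_iff_zpow_eq_one.2 h1
    rw [hg, hc, Nat.cast_mul] at h2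
    have hc0 : (c : ℤ) ≠ 0 := by
      simp only [ne_eq, Nat.cast_eq_zero]
      rintro rfl
      exact absurd hc (by simpa using Monoid.exponent_ne_zero_of_finite (G := G))
    exact Int.dvd_of_mul_dvd_mul_right hc0 h2
  obtain ⟨l, rfl⟩ := hpi
  set T : Subgroup G := (powMonoidHom p : G →* G).ker
  have hy : x * (g ^ l)⁻¹ ∈ T := by
    show (x * (g ^ l)⁻¹) ^ p = 1
    rw [mul_pow, inv_pow, ← hi, ← zpow_natCast (g ^ l), ← zpow_mul, mul_comm l]
    exact mul_inv_cancel _
  have hTnc : ¬ IsCyclic T := by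
    intro hT
    have hcard : Nat.card T ≤ p := by
      rw [← IsCyclic.exponent_eq_card]
      refine Nat.le_of_dvd hp.pos (Monoid.exponent_dvd_of_forall_pow_eq_one fun t => ?_)
      exact Subtype.ext t.2
    obtain ⟨c, hc⟩ := hpe
    have hc0 : c ≠ 0 := by
      rintro rfl
      exact absurd hc (by simpa using Monoid.exponent_ne_zero_of_finite (G := G))
    have hord : orderOf (g ^ c) = p := by
      rw [orderOf_pow' _ hc0, hg, hc, Nat.gcd_eq_right (Dvd.intro_left _ rfl),
        Nat.mul_div_cancel _ (Nat.pos_of_ne_zero hc0)]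
    have hle : Subgroup.zpowers (g ^ c) ≤ T := Subgroup.zpowers_le.2 (show (g ^ c) ^ p = 1 by
      rw [← hord]; exact pow_orderOf_eq_one _)
    have heq : Subgroup.zpowers (g ^ c) = T :=
      Subgroup.eq_of_le_of_card_ge hle (by rwa [Nat.card_zpowers, hord])
    refine hx ?_
    have h3 : x * (g ^ l)⁻¹ ∈ Subgroup.zpowers g :=
      (heq ▸ (Subgroup.zpowers_le.2 (Subgroup.pow_mem _ (Subgroup.mem_zpowers g) c))) hy
    simpa using Subgroup.mul_mem _ h3 (Subgroup.zpow_mem _ (Subgroup.mem_zpowers g) l)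
  have hT : T = ⊤ := htop T hTnc
  have hpow : ∀ z : G, z ^ p = 1 := fun z => (Subgroup.eq_top_iff' T).1 hT z
  have hexpp : Monoid.exponent G = p := by
    rcases (Nat.dvd_prime hp).1 (Monoid.exponent_dvd_of_forall_pow_eq_one hpow) with h1 | h1
    · exact absurd (Monoid.exp_eq_one_iff.1 h1) fun hs => hx (Subsingleton.elim x 1 ▸ Subgroup.one_mem _)
    · exact h1
  have hpG : IsPGroup p G := fun z => ⟨1, by rw [pow_one]; exact hpow z⟩
  obtain ⟨n, hn⟩ := IsPGroup.iff_card.1 hpG
  have hn2 : 2 ≤ n := by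
    by_contra hlt
    refine hcyc ?_
    rcases (by omega : n = 0 ∨ n = 1) with rfl | rfl
    · haveI : Subsingleton G := (Nat.card_eq_one_iff_unique.1 (by simpa using hn)).1
      exact isCyclic_of_subsingleton
    · exact isCyclic_of_prime_card (p := p) (by simpa using hn)
  obtain ⟨E, hE⟩ := Sylow.exists_subgroup_card_pow_prime p
    (show p ^ 2 ∣ Nat.card G from hn ▸ pow_dvd_pow p hn2)
  have hEnc : ¬ IsCyclic E := by
    intro hc
    have h2 : Nat.card E ∣ p := by
      rw [← IsCyclic.exponent_eq_card]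
      exact Monoid.exponent_dvd_of_forall_pow_eq_one fun t => Subtype.ext (hpow t)
    rw [hE] at h2
    have h3 := Nat.le_of_dvd hp.pos h2
    nlinarith [hp.two_le]
  exact ⟨p, hp, by rw [← hE, htop E hEnc, Subgroup.card_top], hexpp⟩

end Cfsg.Agent.S3917
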