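import Cfsg.Statements.S3918
import Cfsg.Agent.MaxClass.OddP
import Cfsg.Agent.Fusion.RankTwo

set_option autoImplicit false
open Cfsg

namespace Cfsg.Agent.S3918

/-- Say that a group has self-centralizing non-cyclic subgroups when every non-cyclic subgroup H satisfies C_G(H) ≤ H. For an odd prime p, a finite non-abelian p-group has self-centralizing non-cyclic subgroups if and only if it has order p³. -/
theorem result {G : Type*} [Group G] [Finite G] {p : ℕ} [Fact p.Prime] (hp : p ≠ 2) (hG : IsPGroup p G) (hna : ¬ IsMulCommutative G) :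
    (∀ H : Subgroup G, ¬ IsCyclic ↥H → Subgroup.centralizer (H : Set G) ≤ H) ↔ Nat.card G = p ^ 3 := by
  have hpp : p.Prime := Fact.out
  have hZ := MaxClass.sq_le_index_center hG hna
  obtain ⟨n, hn⟩ := IsPGroup.iff_card.1 hG
  have hn3 : 3 ≤ n := by
    by_contra hlt
    have h := (Subgroup.center G).card_mul_index
    have hnt : Nontrivial G := by
      by_contra hh; rw [not_nontrivial_iff_subsingleton] at hh
      exact hna ⟨⟨fun x y => Subsingleton.elim _ _⟩⟩
    have := hG.center_nontrivial
    have h1 : 1 < Nat.card (Subgroup.center G) := Finite.one_lt_card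
    have h2 := Nat.pow_le_pow_right hpp.pos (show n ≤ 2 by omega)
    rw [hn] at h
    nlinarith [Nat.mul_le_mul (show 2 ≤ Nat.card (Subgroup.center G) from h1) hZ, Nat.pow_pos (n := 2) hpp.pos]
  constructor
  · intro h
    have hnc : ¬ IsCyclic G := fun hc => hna IsCyclic.isMulCommutative
    obtain ⟨E, hEn, hE, hE2⟩ := Fusion.exists_normal_elementary_card_sq hp hG hnc
    have hEc : ¬ IsCyclic E := by
      rintro ⟨e, he⟩
      have h1 : orderOf e ∣ p := orderOf_dvd_iff_pow_eq_one.2 (Subtype.ext (hE.2 _ e.2))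
      rw [orderOf_eq_card_of_forall_mem_zpowers he, hE2] at h1
      have := Nat.le_of_dvd hpp.pos h1
      have := hpp.two_le
      nlinarith
    have hCE : Subgroup.centralizer (E : Set G) = E :=
      le_antisymm (h E hEc) (Subgroup.le_centralizer_iff_isMulCommutative.2 hE.1)
    obtain ⟨Z, hZE, hZc, -, hZ2⟩ := Fusion.exists_central_card_prime hG E (fun hb => by
      rw [hb, Subgroup.card_bot] at hE2
      have := hpp.two_le
      nlinarith)
    obtain ⟨e, heE, heZ⟩ : ∃ e ∈ E, e ∉ Z := by
      by_contra! hle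
      have := Subgroup.card_le_of_le (show E ≤ Z from hle)
      rw [hE2, hZ2] at this
      have := hpp.two_le
      nlinarith
    have hgen : E ≤ Z ⊔ Subgroup.zpowers e := by
      have hlt : Z < Z ⊔ Subgroup.zpowers e := lt_of_le_of_ne le_sup_left fun he => heZ (he ▸ le_sup_right (a := Z) (Subgroup.mem_zpowers e))
      have hle : Z ⊔ Subgroup.zpowers e ≤ E := sup_le hZE (Subgroup.zpowers_le.2 heE)
      obtain ⟨j, hj⟩ := IsPGroup.iff_card.1 (hG.to_subgroup (Z ⊔ Subgroup.zpowers e))
      have hj2 : 2 ≤ j := by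
        by_contra hj'
        have := Nat.pow_le_pow_right hpp.pos (show j ≤ 1 by omega)
        exact hlt.ne (Subgroup.eq_of_le_of_card_ge hlt.le (by rw [hZ2, hj]; simpa using this))
      exact (Subgroup.eq_of_le_of_card_ge hle (by rw [hE2, hj]; exact Nat.pow_le_pow_right hpp.pos hj2)).symm.le
    have hC : Subgroup.centralizer ({e} : Set G) = E := by
      refine le_antisymm (fun x hx => hCE.le ?_) fun x hx =>
        Subgroup.mem_centralizer_singleton_iff.2 (congrArg Subtype.val (hE.1.is_comm.comm ⟨x, hx⟩ ⟨e, heE⟩))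
      refine Subgroup.mem_centralizer_iff.2 fun v hv => ?_
      have hle : Z ⊔ Subgroup.zpowers e ≤ Subgroup.centralizer ({x} : Set G) := sup_le
        (fun z hz => Subgroup.mem_centralizer_singleton_iff.2 (Subgroup.mem_center_iff.1 (hZc hz) x).symm)
        (Subgroup.zpowers_le.2 (Subgroup.mem_centralizer_singleton_iff.2 (Subgroup.mem_centralizer_singleton_iff.1 hx).symm))
      exact Subgroup.mem_centralizer_singleton_iff.1 (hle (hgen hv))
    have hidx : (Subgroup.centralizer ({e} : Set G)).index ≤ p := by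
      let f : G ⧸ Subgroup.centralizer ({e} : Set G) → {v : E // (v : G) ∉ Z} := fun q =>
        ⟨⟨q.out * e * q.out⁻¹, hEn.conj_mem e heE _⟩, fun hz => heZ (by
          have := (⟨fun n hn g => by rw [Subgroup.mem_center_iff.1 (hZc hn) g, mul_inv_cancel_right]; exact hn⟩ : Z.Normal)
          have := this.conj_mem _ hz q.out⁻¹
          simpa [mul_assoc] using this)⟩
      have hf : Function.Injective f := fun x y hxy => by
        have h' : x.out * e * x.out⁻¹ = y.out * e * y.out⁻¹ :=
          congrArg (fun v : {v : E // (v : G) ∉ Z} => ((v : E) : G)) hxy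
        rw [← Quotient.out_eq x, ← Quotient.out_eq y]
        refine QuotientGroup.eq.2 (Subgroup.mem_centralizer_singleton_iff.2 ?_)
        calc x.out⁻¹ * y.out * e = x.out⁻¹ * (y.out * e * y.out⁻¹) * y.out := by group
          _ = x.out⁻¹ * (x.out * e * x.out⁻¹) * y.out := by rw [h']
          _ = e * (x.out⁻¹ * y.out) := by group
      have hlt : Nat.card {v : E // (v : G) ∉ Z} < p ^ 2 := by
        rw [← hE2]
        exact Finite.card_subtype_lt (x := (1 : E)) fun h1 => h1 (one_mem Z)
      have hle := (Nat.card_le_card_of_injective f hf).trans_lt hlt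
      rw [← Subgroup.index_eq_card] at hle
      obtain ⟨j, hj⟩ := hG.index (Subgroup.centralizer ({e} : Set G))
      rw [hj] at hle ⊢
      have := (Nat.pow_lt_pow_iff_right hpp.one_lt).1 hle
      exact (Nat.pow_le_pow_right hpp.pos (show j ≤ 1 by omega)).trans (pow_one p).le
    have hcc := (Subgroup.centralizer ({e} : Set G)).card_mul_index
    have hcardC : Nat.card ↥(Subgroup.centralizer ({e} : Set G)) = p ^ 2 := hC.symm ▸ hE2
    rw [hcardC, hn] at hcc
    have hle : p ^ n ≤ p ^ 3 := by rw [← hcc, pow_succ p 2]; exact Nat.mul_le_mul_left _ hidx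
    rw [hn, le_antisymm ((Nat.pow_le_pow_iff_right hpp.one_lt).1 hle) hn3]
  · intro hc H hH x hx
    by_contra hxH
    obtain ⟨j, hj3, hj⟩ := (Nat.dvd_prime_pow hpp).1 (hc ▸ H.card_subgroup_dvd_card : Nat.card H ∣ p ^ 3)
    have hj2 : j = 2 := by
      rcases (by omega : j = 0 ∨ j = 1 ∨ j = 2 ∨ j = 3) with rfl | rfl | rfl | rfl
      · have := (Nat.card_eq_one_iff_unique.1 hj).1
        exact absurd (inferInstance : IsCyclic H) hH
      · exact absurd (isCyclic_of_prime_card (p := p) (hj.trans (pow_one p))) hH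
      · rfl
      · exact absurd ((Subgroup.eq_top_of_card_eq H (hj.trans hc.symm)).symm ▸ Subgroup.mem_top x) hxH
    subst hj2
    have hHab : ∀ u ∈ H, ∀ v ∈ H, u * v = v * u := fun u hu v hv =>
      congrArg Subtype.val ((IsPGroup.commGroupOfCardEqPrimeSq hj).mul_comm (⟨u, hu⟩ : H) ⟨v, hv⟩)
    have hHC : H ≤ Subgroup.center G := by
      intro u hu
      have hlt : H < Subgroup.centralizer ({u} : Set G) := lt_of_le_of_ne
        (fun v hv => Subgroup.mem_centralizer_singleton_iff.2 (hHab v hv u hu)) fun e =>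
          hxH (e ▸ Subgroup.mem_centralizer_singleton_iff.2 (Subgroup.mem_centralizer_iff.1 hx u hu).symm)
      obtain ⟨i, hi⟩ := IsPGroup.iff_card.1 (hG.to_subgroup (Subgroup.centralizer ({u} : Set G)))
      have h2i : 2 < i := by
        by_contra hh
        exact hlt.ne (Subgroup.eq_of_le_of_card_ge hlt.le (by
          rw [hi, hj]; exact Nat.pow_le_pow_right hpp.pos (by omega)))
      have hle := Nat.le_of_dvd (Nat.card_pos (α := G)) (Subgroup.card_subgroup_dvd_card (Subgroup.centralizer ({u} : Set G)))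
      have htop : Subgroup.centralizer ({u} : Set G) = ⊤ := Subgroup.eq_top_of_le_card _ (by
        rw [hi, hc]; exact Nat.pow_le_pow_right hpp.pos h2i)
      exact Subgroup.mem_center_iff.2 fun g => Subgroup.mem_centralizer_singleton_iff.1 (htop ▸ Subgroup.mem_top g)
    have h1 := Subgroup.card_le_of_le hHC
    have h2 := (Subgroup.center G).card_mul_index
    rw [hc] at h2
    have := Nat.mul_le_mul (hj ▸ h1) hZ
    have := hpp.two_le
    have : p ^ 2 * p ^ 2 > p ^ 3 := by
      rw [← pow_add]; exact Nat.pow_lt_pow_right hpp.one_lt (by norm_num)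
    omega

end Cfsg.Agent.S3918
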