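import Cfsg.Statements.S3920
import Cfsg.Agent.FGS.DihedralSubgroups

set_option autoImplicit false
open Cfsg

namespace Cfsg.Agent.S3920

/-- Say that a group has self-centralizing non-cyclic subgroups when every non-cyclic subgroup H satisfies C_G(H) ≤ H. For n ≥ 3, the dihedral group of order 2n has self-centralizing non-cyclic subgroups if and only if n is odd or a power of 2. -/
theorem result (n : ℕ) (hn : 3 ≤ n) : (∀ H : Subgroup (DihedralGroup n), ¬ IsCyclic ↥H → Subgroup.centralizer (H : Set (DihedralGroup n)) ≤ H) ↔ (Odd n ∨ ∃ k : ℕ, n = 2 ^ k) := by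
  haveI : NeZero n := ⟨by omega⟩
  constructor
  · intro h
    by_contra hc
    push Not at hc
    obtain ⟨ho, hnp⟩ := hc
    rw [Nat.not_odd_iff_even] at ho
    obtain ⟨a, m, hm, hn'⟩ := Nat.exists_eq_pow_mul_and_not_dvd (n := n) (by omega) 2 (by norm_num)
    have ha : a ≠ 0 := by
      rintro rfl
      rw [pow_zero, one_mul] at hn'
      exact hm (hn' ▸ even_iff_two_dvd.1 ho)
    obtain ⟨b, rfl⟩ : ∃ b, a = b + 1 := ⟨a - 1, by omega⟩
    have hm1 : 1 < m := by
      rcases m with - | - | m
      · simp at hm
      · exact absurd (by rw [hn']; ring) (hnp (b + 1))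
      · omega
    let φ := ZMod.castHom (show 2 ^ (b + 1) ∣ n from ⟨m, hn'⟩) (ZMod (2 ^ (b + 1)))
    have hnc : ¬ IsMulCommutative (FGS.dihedralKer φ) := by
      refine FGS.dihedralKer_not_comm φ ((2 ^ (b + 1) : ℕ) : ZMod n) (by rw [map_natCast, ZMod.natCast_self]) ?_
      rw [← Nat.cast_add, Ne, ZMod.natCast_eq_zero_iff, hn']
      intro hd
      rw [← two_mul, mul_comm 2, Nat.mul_dvd_mul_iff_left (by positivity)] at hd
      have := Nat.le_of_dvd two_pos hd
      interval_cases m
      exact hm dvd_rfl
    have hz : DihedralGroup.r ((2 ^ b * m : ℕ) : ZMod n) ∈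
        Subgroup.centralizer (FGS.dihedralKer φ : Set (DihedralGroup n)) := by
      rw [Subgroup.mem_centralizer_iff]
      rintro (c | c) -
      · simp [add_comm]
      · rw [eq_comm, FGS.commute_r_sr, ← Nat.cast_add, ZMod.natCast_eq_zero_iff, hn']
        exact ⟨1, by rw [pow_succ]; ring⟩
    have := h _ (fun hcy => hnc (by haveI := hcy; exact IsCyclic.isMulCommutative)) hz
    rw [FGS.r_mem_dihedralKer, map_natCast, ZMod.natCast_eq_zero_iff, pow_succ,
      Nat.mul_dvd_mul_iff_left (by positivity)] at this
    exact hm this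
  · intro h H hH g hg
    obtain ⟨i, hi⟩ := FGS.exists_sr_of_not_isCyclic hH
    have hc := Subgroup.mem_centralizer_iff.1 hg _ hi
    -- every element of order two in the rotations lies in H
    have key : ∀ j : ZMod n, j + j = 0 → DihedralGroup.r j ∈ H := by
      intro j hj
      rcases h with ⟨k, hk⟩ | ⟨k, rfl⟩
      · have hn0 : ((2 * k + 1 : ℕ) : ZMod n) = 0 := by rw [← hk, ZMod.natCast_self]
        push_cast at hn0
        have : j = 0 := by linear_combination j * hn0 - (k : ZMod n) * hj
        rw [this]; exact H.one_mem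
      · by_cases hj0 : j = 0
        · rw [hj0]; exact H.one_mem
        obtain ⟨c, hc0, hcm⟩ : ∃ c : ZMod (2 ^ k), c ≠ 0 ∧ DihedralGroup.r c ∈ H := by
          by_contra hno
          push Not at hno
          refine hH ?_
          have hle : H ≤ Subgroup.zpowers (DihedralGroup.sr i) := by
            rintro (c | c) hc'
            · by_cases hc0 : c = 0
              · subst hc0; exact one_mem _
              · exact absurd hc' (hno c hc0)
            · have h2 := H.mul_mem hi hc'
              rw [DihedralGroup.sr_mul_sr] at h2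
              by_cases hc0 : c - i = 0
              · rw [sub_eq_zero.1 hc0]; exact Subgroup.mem_zpowers _
              · exact absurd h2 (hno _ hc0)
          exact isCyclic_of_injective (Subgroup.inclusion hle) (Subgroup.inclusion_injective hle)
        -- c = 2^t u with u odd; a multiple of c is 2^(k-1)
        have hcv : c.val ≠ 0 := fun e => hc0 ((ZMod.val_eq_zero c).1 e)
        obtain ⟨t, u, hu, hce⟩ := Nat.exists_eq_pow_mul_and_not_dvd hcv 2 (by norm_num)
        have ht : t < k := by
          by_contra htk
          have hpos : 0 < u := Nat.pos_of_ne_zero fun e => hcv (by rw [hce, e, mul_zero])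
          have h1 : 2 ^ k ≤ 2 ^ t * u :=
            (Nat.pow_le_pow_right two_pos (not_lt.1 htk)).trans (Nat.le_mul_of_pos_right _ hpos)
          have := c.val_lt
          omega
        obtain ⟨d, hd⟩ : ∃ d, k = t + d + 1 := ⟨k - t - 1, by omega⟩
        obtain ⟨v, hv⟩ : Odd u := Nat.not_even_iff_odd.1 fun e => hu (even_iff_two_dvd.1 e)
        have hjv : j.val = 2 ^ (t + d) := by
          have h1 : 2 ^ k ∣ j.val + j.val := by
            rw [← ZMod.natCast_eq_zero_iff, Nat.cast_add, ZMod.natCast_zmod_val, hj]
          have h2 := j.val_lt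
          have h3 : j.val ≠ 0 := fun e => hj0 ((ZMod.val_eq_zero j).1 e)
          obtain ⟨w, hw⟩ := h1
          have hk2 : 2 ^ k = 2 * 2 ^ (t + d) := by rw [hd, pow_succ]; ring
          rcases w with - | - | w
          · omega
          · omega
          · nlinarith
        have h4 := H.pow_mem hcm (2 ^ d)
        rw [DihedralGroup.r_pow] at h4
        convert h4 using 2
        have hz : ((2 ^ t * 2 ^ d * 2 : ℕ) : ZMod (2 ^ k)) = 0 := by
          rw [ZMod.natCast_eq_zero_iff, hd, pow_succ, pow_add]
        rw [← ZMod.natCast_zmod_val j, hjv, ← ZMod.natCast_zmod_val c, hce, hv]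
        push_cast at hz ⊢
        rw [pow_add]
        linear_combination -(v : ZMod (2 ^ k)) * hz
    rcases g with j | j
    · exact key j (FGS.commute_r_sr.1 hc.symm)
    · have h2 := key _ (FGS.commute_sr_sr.1 hc.symm)
      have h3 := H.mul_mem hi (H.inv_mem h2)
      simp only [DihedralGroup.inv_r, DihedralGroup.sr_mul_r] at h3
      rwa [show i + -(i - j) = j by ring] at h3

end Cfsg.Agent.S3920
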