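import Cfsg.Statements.S3927
import Cfsg.Agent.Zipper.IterComm

set_option autoImplicit false
open Cfsg

namespace Cfsg.Agent.S3927

/-- Let G be a finite group and α an automorphism of G with [G, α] = G, that is, the elements g·α(g)⁻¹ generate G. Then for every k ≥ 1 the iterated commutators [g, α, …, α] with k entries α — the values of the k-th iterate of the map c ↦ c·α(c)⁻¹ — also generate G. -/
theorem result {G : Type*} [Group G] [Finite G] (α : MulAut G) (hG : Subgroup.closure (Set.range (fun c : G => c * (α c)⁻¹)) = ⊤) (k : ℕ) (hk : 1 ≤ k) :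
    Subgroup.closure (Set.range ((fun c : G => c * (α c)⁻¹)^[k])) = ⊤ := by
  let φ : ↥(Subgroup.zpowers α) →* MulAut G := (Subgroup.zpowers α).subtype
  let a' : ↥(Subgroup.zpowers α) := ⟨α, Subgroup.mem_zpowers α⟩
  haveI : Finite (G ⋊[φ] ↥(Subgroup.zpowers α)) :=
    Finite.of_equiv _ SemidirectProduct.equivProd.symm
  let a : G ⋊[φ] ↥(Subgroup.zpowers α) := SemidirectProduct.inr a'
  let N : Subgroup (G ⋊[φ] ↥(Subgroup.zpowers α)) := SemidirectProduct.inl.range
  let f : G → G := fun c => c * (α c)⁻¹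
  have hcomm : ∀ c : G, Zipper.comm a (SemidirectProduct.inl c) = SemidirectProduct.inl (f c) := by
    intro c
    have h := SemidirectProduct.inl_aut (φ := φ) a' c
    simp only [Zipper.comm, a]
    rw [← map_inv (SemidirectProduct.inr (φ := φ)) a', ← h, map_mul, map_inv]
    rfl
  have hit : ∀ (j : ℕ) (c : G),
      (Zipper.comm a)^[j] (SemidirectProduct.inl c) = SemidirectProduct.inl (f^[j] c) := by
    intro j
    induction j with
    | zero => exact fun _ => rfl
    | succ j ih =>
      intro c
      rw [Function.iterate_succ_apply, Function.iterate_succ_apply, hcomm, ih]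
  have himg : ∀ j : ℕ, Subgroup.closure ((Zipper.comm a)^[j] '' (N : Set _)) =
      (Subgroup.closure (Set.range f^[j])).map SemidirectProduct.inl := by
    intro j
    rw [MonoidHom.map_closure]
    congr 1
    ext x
    constructor
    · rintro ⟨_, ⟨c, rfl⟩, rfl⟩
      exact ⟨f^[j] c, ⟨c, rfl⟩, (hit j c).symm⟩
    · rintro ⟨_, ⟨c, rfl⟩, rfl⟩
      exact ⟨_, ⟨c, rfl⟩, hit j c⟩
  have hzero : ∀ b : ↥(Subgroup.zpowers α), SemidirectProduct.inr (φ := φ) b ∈ Subgroup.zpowers a := by
    rintro ⟨b, hb⟩
    obtain ⟨i, rfl⟩ := Subgroup.mem_zpowers_iff.mp hb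
    refine Subgroup.mem_zpowers_iff.mpr ⟨i, ?_⟩
    rw [show (⟨α ^ i, hb⟩ : ↥(Subgroup.zpowers α)) = a' ^ i from Subtype.ext (by simp [a']), map_zpow]
  have hN : N.Normal := by
    rw [show N = SemidirectProduct.rightHom.ker from SemidirectProduct.range_inl_eq_ker_rightHom]
    infer_instance
  have hsplit : N ⊔ Subgroup.zpowers a = ⊤ := top_le_iff.mp fun x _ => by
    rw [← SemidirectProduct.inl_left_mul_inr_right x]
    exact Subgroup.mul_mem_sup ⟨_, rfl⟩ (hzero _)
  have hdisj : N ⊓ Subgroup.zpowers a = ⊥ := by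
    refine (Subgroup.eq_bot_iff_forall _).mpr ?_
    rintro x ⟨⟨c, hc⟩, hx⟩
    obtain ⟨i, hi⟩ := Subgroup.mem_zpowers_iff.mp hx
    have hl : c = 1 := by
      have : (SemidirectProduct.inr (φ := φ) (a' ^ i)).left = c := by
        rw [map_zpow, show SemidirectProduct.inr (φ := φ) a' = a from rfl, hi, ← hc]
        exact SemidirectProduct.left_inl c
      rw [← this]
      exact SemidirectProduct.left_inr _
    rw [← hc, hl, map_one]
  have hgen : Subgroup.closure (Zipper.comm a '' (N : Set _)) = N := by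
    have h1 := himg 1
    simp only [Function.iterate_one] at h1
    rw [h1, hG, ← MonoidHom.range_eq_map]
  have key := Zipper.closure_iterate_eq k _ (G ⋊[φ] ↥(Subgroup.zpowers α)) N a rfl hN hsplit hdisj hgen
  rw [himg k] at key
  refine Subgroup.map_injective (SemidirectProduct.inl_injective (φ := φ)) ?_
  rw [key, ← MonoidHom.range_eq_map]

end Cfsg.Agent.S3927
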