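import Cfsg.Statements.S3933
import Cfsg.Agent.Char.Integral
import Cfsg.Agent.Core.Basics
-- import your own Cfsg.Agent.* helpers here

set_option autoImplicit false
open Cfsg

namespace Cfsg.Agent.S3933

open Subgroup

universe u

section Card

variable {G : Type u} [Group G] [Finite G] (r : ℕ) [Fact r.Prime]

theorem card_sylow_normal_dvd (N : Subgroup G) [N.Normal] :
    Nat.card (Sylow r N) ∣ Nat.card (Sylow r G) := by
  obtain ⟨T⟩ := (inferInstance : Nonempty (Sylow r N))
  obtain ⟨S, hS⟩ := (T.2.map N.subtype).exists_le_sylow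
  have hSN : (S : Subgroup G).subgroupOf N = (T : Subgroup N) :=
    T.3 (S.2.comap_of_injective _ N.subtype_injective) fun x hx => hS ⟨x, hx, rfl⟩
  have hle : normalizer ((S : Subgroup G) : Set G) ≤
      normalizer (((T : Subgroup N).map N.subtype : Subgroup G) : Set G) := by
    intro g hg
    have e : (T : Subgroup N).map N.subtype = (S : Subgroup G) ⊓ N := by
      rw [← hSN, subgroupOf_map_subtype]
    rw [e, mem_normalizer_iff]
    intro x
    constructor
    · exact fun hx => ⟨(mem_normalizer_iff.1 hg x).1 hx.1, ‹N.Normal›.conj_mem x hx.2 g⟩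
    · rintro ⟨h1, h2⟩
      refine ⟨(mem_normalizer_iff.1 hg x).2 h1, ?_⟩
      have := ‹N.Normal›.conj_mem _ h2 g⁻¹
      simpa [mul_assoc] using this
  set M := normalizer (((T : Subgroup N).map N.subtype : Subgroup G) : Set G) with hM
  have hnT : normalizer ((T : Subgroup N) : Set N) = M.subgroupOf N := by
    ext n
    rw [mem_subgroupOf, hM, mem_normalizer_iff, mem_normalizer_iff]
    constructor
    · intro h x
      constructor
      · rintro ⟨y, hy, rfl⟩
        exact ⟨n * y * n⁻¹, (h y).1 hy, rfl⟩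
      · rintro ⟨y, hy, e⟩
        refine ⟨n⁻¹ * y * n, (h _).2 (by rw [show n * (n⁻¹ * y * n) * n⁻¹ = y by group]; exact hy), ?_⟩
        show (n : G)⁻¹ * (y : G) * n = x
        rw [show (y : G) = n * x * (n : G)⁻¹ from e]
        group
    · intro h x
      constructor
      · intro hx
        obtain ⟨y, hy, e⟩ := (h x).1 ⟨x, hx, rfl⟩
        have e' : y = n * x * n⁻¹ := Subtype.ext e
        exact e' ▸ hy
      · intro hx
        obtain ⟨y, hy, e⟩ := (h x).2 ⟨n * x * n⁻¹, hx, rfl⟩
        have e' : y = x := Subtype.ext e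
        exact e' ▸ hy
  have h1 : (M ⊔ N).index = 1 := by
    rw [index_eq_one]
    exact Sylow.normalizer_sup_eq_top T
  have h3 : Nat.card (Sylow r N) = M.index := by
    rw [T.card_eq_index_normalizer]
    show (normalizer ((T : Subgroup N) : Set N)).index = M.index
    rw [hnT]
    show M.relIndex N = M.index
    have e1 : Nat.card (M ⊓ N : Subgroup G) * M.relIndex N = Nat.card N := by
      rw [← inf_relIndex_right M N, ← relIndex_bot_left,
        relIndex_mul_relIndex ⊥ (M ⊓ N) N bot_le inf_le_right, relIndex_bot_left]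
    have e2 := Core.card_sup_mul_card_inf M N
    rw [index_eq_one.1 h1, card_top, ← M.card_mul_index, ← e1, mul_assoc, mul_comm M.index] at e2
    exact (Nat.eq_of_mul_eq_mul_left Nat.card_pos (Nat.eq_of_mul_eq_mul_left Nat.card_pos e2)).symm
  rw [h3, S.card_eq_index_normalizer]
  exact index_dvd_of_le hle

theorem card_sylow_quotient_dvd (N : Subgroup G) [N.Normal] :
    Nat.card (Sylow r (G ⧸ N)) ∣ Nat.card (Sylow r G) := by
  obtain ⟨S⟩ := (inferInstance : Nonempty (Sylow r G))
  rw [(S.mapSurjective (QuotientGroup.mk'_surjective N)).card_eq_index_normalizer,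
    S.card_eq_index_normalizer]
  refine dvd_trans (index_dvd_of_le ?_) (index_map_dvd _ (QuotientGroup.mk'_surjective N))
  exact le_normalizer_map (QuotientGroup.mk' N) (H := (S : Subgroup G))

end Card

/-- The key lemma: if the two Sylow numbers are coprime and one is prime to the other prime,
then the group is not simple. -/
theorem false_of_coprime {G : Type u} [Group G] [Finite G] [IsSimpleGroup G] {r x : ℕ}
    [Fact r.Prime] [Fact x.Prime] (hr : r ∣ Nat.card G) (hx1 : Nat.card (Sylow x G) ≠ 1)
    (hcop : (Nat.card (Sylow r G)).Coprime (Nat.card (Sylow x G)))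
    (hrx : ¬ r ∣ Nat.card (Sylow x G)) : False := by
  obtain ⟨R⟩ := (inferInstance : Nonempty (Sylow r G))
  have hkey : ∀ X : Sylow x G, ∀ g ∈ (R : Subgroup G), g • X = X := by
    intro X g hg
    set A := normalizer (R : Set G)
    set B := normalizer (X : Set G)
    have hA : A.index = Nat.card (Sylow r G) := R.card_eq_index_normalizer.symm
    have hB : B.index = Nat.card (Sylow x G) := X.card_eq_index_normalizer.symm
    have hM : (A ⊓ B).index = A.index * B.index := by
      refine le_antisymm Subgroup.index_inf_le (Nat.le_of_dvd (Nat.pos_of_ne_zero index_ne_zero_of_finite) ?_)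
      exact (hA ▸ hB ▸ hcop).mul_dvd_of_dvd_of_dvd (index_dvd_of_le inf_le_left) (index_dvd_of_le inf_le_right)
    obtain ⟨S⟩ := (inferInstance : Nonempty (Sylow r (A ⊓ B : Subgroup G)))
    have hSi : ¬ r ∣ ((S : Subgroup _).map (A ⊓ B).subtype).index := by
      rw [index_map_subtype, hM, hA, hB]
      intro hd
      rcases (Fact.out : r.Prime).dvd_mul.1 hd with hd | hd
      · exact S.not_dvd_index hd
      rcases (Fact.out : r.Prime).dvd_mul.1 hd with hd | hd
      · exact not_dvd_card_sylow r G hd
      · exact hrx hd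
    set S' : Sylow r G := (S.2.map _).toSylow hSi
    have hS' : (S' : Subgroup G) ≤ A ⊓ B := map_subtype_le _
    have hle : (S' : Subgroup G) ≤ (R : Subgroup G) := by
      have h := S'.2.inf_normalizer_sylow R
      rw [inf_eq_left.2 (hS'.trans inf_le_left), eq_comm, inf_eq_left] at h
      exact h
    have heq : (S' : Subgroup G) = (R : Subgroup G) := (S'.3 R.2 hle).symm
    have : g ∈ B := (heq ▸ hS' : (R : Subgroup G) ≤ A ⊓ B) hg |>.2
    exact Sylow.smul_eq_iff_mem_normalizer.2 this
  obtain ⟨X⟩ := (inferInstance : Nonempty (Sylow x G))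
  have hker : (MulAction.toPermHom G (Sylow x G)).ker = ⊤ := by
    rcases (MonoidHom.normal_ker (MulAction.toPermHom G (Sylow x G))).eq_bot_or_eq_top with h | h
    · exfalso
      refine R.ne_bot_of_dvd_card hr (eq_bot_iff.2 (h ▸ fun g hg => ?_))
      exact Equiv.ext fun Y => hkey Y g hg
    · exact h
  refine hx1 (Nat.card_eq_one_iff_unique.2 ⟨⟨fun Y Z => ?_⟩, inferInstance⟩)
  obtain ⟨g, rfl⟩ := MulAction.exists_smul_eq G Y Z
  have hg : g ∈ (MulAction.toPermHom G (Sylow x G)).ker := hker ▸ mem_top g
  exact (Equiv.congr_fun (MonoidHom.mem_ker.1 hg) Y).symm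

theorem key : ∀ (n : ℕ) (G : Type u) [Group G] [Finite G], Nat.card G = n →
    (∀ r : ℕ, r.Prime → Nat.card (Sylow r G) = 1 ∨ IsPrimePow (Nat.card (Sylow r G))) →
    Group.IsSolvable G := by
  intro n
  induction n using Nat.strong_induction_on with
  | _ n ih =>
  intro G _ _ hn h
  rcases subsingleton_or_nontrivial G with h1 | h1
  · infer_instance
  by_cases hs : IsSimpleGroup G
  swap
  · obtain ⟨N, hN, hN1, hN2⟩ : ∃ N : Subgroup G, N.Normal ∧ N ≠ ⊥ ∧ N ≠ ⊤ := by
      by_contra hc
      push Not at hc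
      exact hs ⟨fun N hN => or_iff_not_imp_left.2 (hc N hN)⟩
    have hdiv : ∀ {m k : ℕ}, m ∣ k → (k = 1 ∨ IsPrimePow k) → m = 1 ∨ IsPrimePow m := by
      intro m k hmk hk
      rcases hk with rfl | hk
      · exact Or.inl (Nat.dvd_one.1 hmk)
      · exact or_iff_not_imp_left.2 fun hm => hk.dvd hmk hm
    rw [Group.isSolvable_iff_subgroup_quotient N]
    refine ⟨ih _ (hn ▸ Core.card_lt_of_ne_top hN2) N rfl fun r hr => ?_,
      ih _ (hn ▸ Core.card_quotient_lt hN1) (G ⧸ N) rfl fun r hr => ?_⟩
    · have := Fact.mk hr; exact hdiv (card_sylow_normal_dvd r N) (h r hr)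
    · have := Fact.mk hr; exact hdiv (card_sylow_quotient_dvd r N) (h r hr)
  by_contra hns
  set π := (Nat.card G).primeFactors with hπ
  have hne1 : ∀ r ∈ π, Nat.card (Sylow r G) ≠ 1 := by
    intro r hr hc
    obtain ⟨hrp, hrd, -⟩ := Nat.mem_primeFactors.1 hr
    have := Fact.mk hrp
    have := (Nat.card_eq_one_iff_unique.1 hc).1
    obtain ⟨R⟩ := (inferInstance : Nonempty (Sylow r G))
    rcases (R.normal_of_subsingleton).eq_bot_or_eq_top with e | e
    · exact R.ne_bot_of_dvd_card hrd e
    · have : Group.IsNilpotent G := (IsPGroup.of_equiv (e ▸ R.2) Subgroup.topEquiv).isNilpotent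
      exact hns inferInstance
  have hex : ∀ r ∈ π, ∃ u b, u.Prime ∧ 0 < b ∧ Nat.card (Sylow r G) = u ^ b := by
    intro r hr
    obtain ⟨u, b, hu, hb, e⟩ := (isPrimePow_nat_iff _).1
      ((h r (Nat.prime_of_mem_primeFactors hr)).resolve_left (hne1 r hr))
    exact ⟨u, b, hu, hb, e.symm⟩
  choose! s b hs' hb he using hex
  have hmem : ∀ r ∈ π, s r ∈ π := by
    intro r hr
    have := Fact.mk (Nat.prime_of_mem_primeFactors hr)
    obtain ⟨R⟩ := (inferInstance : Nonempty (Sylow r G))
    refine Nat.mem_primeFactors.2 ⟨hs' r hr, ?_, Nat.card_pos.ne'⟩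
    exact ((dvd_pow_self _ (hb r hr).ne').trans (he r hr ▸ dvd_rfl)).trans
      ((R.card_dvd_index).trans (index_dvd_card _))
  have hne : ∀ r ∈ π, s r ≠ r := by
    intro r hr e
    have := Fact.mk (Nat.prime_of_mem_primeFactors hr)
    exact not_dvd_card_sylow r G (by rw [he r hr, e]; exact dvd_pow_self _ (hb r hr).ne')
  have hkey : ∀ r ∈ π, ∀ x ∈ π, s x = s r ∨ s x = r := by
    intro r hr x hx
    by_contra hc
    push Not at hc
    have := Fact.mk (Nat.prime_of_mem_primeFactors hr)
    have := Fact.mk (Nat.prime_of_mem_primeFactors hx)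
    refine false_of_coprime (r := r) (x := x) (Nat.dvd_of_mem_primeFactors hr) (hne1 x hx) ?_ ?_
    · rw [he r hr, he x hx]
      exact Nat.coprime_pow_primes _ _ (hs' r hr) (hs' x hx) (Ne.symm hc.1)
    · rw [he x hx]
      intro hd
      exact hc.2 ((Nat.prime_dvd_prime_iff_eq (Nat.prime_of_mem_primeFactors hr) (hs' x hx)).1
        ((Nat.prime_of_mem_primeFactors hr).dvd_of_dvd_pow hd)).symm
  have hinv : ∀ r ∈ π, s (s r) = r := fun r hr =>
    (hkey r hr (s r) (hmem r hr)).resolve_left (hne (s r) (hmem r hr))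
  obtain ⟨r, hr⟩ : π.Nonempty :=
    (Nat.nonempty_primeFactors).2 Finite.one_lt_card
  have hsub : π ⊆ {r, s r} := by
    intro x hx
    rcases hkey r hr x hx with e | e
    · have := congrArg s e
      rw [hinv x hx, hinv r hr] at this
      simp [this]
    · have := congrArg s e
      rw [hinv x hx] at this
      simp [this]
  refine hns (Char.isSolvable_of_card_eq r (s r) (Nat.prime_of_mem_primeFactors hr) (hs' r hr) _ G rfl
    ⟨(Nat.card G).factorization r, (Nat.card G).factorization (s r), ?_⟩)
  have heq : π = {r, s r} := Finset.Subset.antisymm hsub (by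
    intro x hx
    rcases Finset.mem_insert.1 hx with rfl | hx
    · exact hr
    · exact (Finset.mem_singleton.1 hx) ▸ hmem r hr)
  conv_lhs => rw [← Nat.prod_factorization_pow_eq_self (Nat.card_pos (α := G)).ne']
  rw [Finsupp.prod, Nat.support_factorization, ← hπ, heq, Finset.prod_pair (hne r hr).symm]


/-- If for every prime r the number of Sylow r-subgroups of the finite group G is a prime power or 1, then G is solvable. -/
theorem result {G : Type*} [Group G] [Finite G] (h : ∀ (r : ℕ) [Fact r.Prime], Nat.card (Sylow r G) = 1 ∨ IsPrimePow (Nat.card (Sylow r G))) :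
    Group.IsSolvable G := by
  exact key _ G rfl fun r hr => by
    have := Fact.mk hr
    exact h r

end Cfsg.Agent.S3933
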