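import Cfsg.Statements.S3941
import Mathlib

set_option autoImplicit false
open Cfsg

namespace Cfsg.Agent.S3941

/-- Let n ≥ 5 and p an odd prime with p ≤ n, and suppose that every proper subgroup of the alternating group of degree n whose order is divisible by p has a normal Sylow p-subgroup. Then n = p. -/
theorem result (n p : ℕ) (hn : 5 ≤ n) [Fact p.Prime] (hp : p ≠ 2) (hpn : p ≤ n)
    (h : ∀ H : Subgroup ↥(alternatingGroup (Fin n)), H ≠ ⊤ → p ∣ Nat.card ↥H → Cfsg.IsPClosed p ↥H) : n = p := by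
  classical
  have hpp : p.Prime := Fact.out
  have hp3 : 3 ≤ p := by have := hpp.two_le; omega
  by_contra hne
  have hpn' : p < n := lt_of_le_of_ne hpn (Ne.symm hne)
  haveI : NeZero n := ⟨by omega⟩
  set A := alternatingGroup (Fin n)
  set last : Fin n := ⟨n - 1, by omega⟩ with hlast
  set H : Subgroup A := (MulAction.stabilizer (Equiv.Perm (Fin n)) last).subgroupOf A with hH
  have hcyc : ∀ e : Fin p → Fin n, Function.Injective e →
      ∃ c : A, (c : Equiv.Perm (Fin n)).IsCycle ∧ orderOf c = p ∧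
        (∀ i : Fin p, (c : Equiv.Perm (Fin n)) (e i) = e (i + 1)) ∧ ∀ x, x ∉ Set.range e → (c : Equiv.Perm (Fin n)) x = x := by
    intro e he
    haveI : NeZero p := ⟨hpp.ne_zero⟩
    set l := List.ofFn e with hl
    have hnd : l.Nodup := List.nodup_ofFn.2 he
    have hlen : l.length = p := List.length_ofFn
    have hcy : (l.formPerm).IsCycle := List.isCycle_formPerm hnd (by omega)
    have hsupp : (l.formPerm).support = l.toFinset := List.support_formPerm_of_nodup l hnd (by
      intro x hx; have := congrArg List.length hx; simp [hlen] at this; omega)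
    have hcard : (l.formPerm).support.card = p := by rw [hsupp, List.toFinset_card_of_nodup hnd, hlen]
    have hmem : l.formPerm ∈ A := by
      rw [Equiv.Perm.mem_alternatingGroup, hcy.sign, hcard, (hpp.odd_of_ne_two hp).neg_one_pow, neg_neg]
    refine ⟨⟨_, hmem⟩, hcy, ?_, fun i => ?_, fun x hx => ?_⟩
    · rw [← Subgroup.orderOf_coe, hcy.orderOf, hcard]
    · show l.formPerm (e i) = e (i + 1)
      have h1 := List.formPerm_apply_getElem l hnd i.val (by rw [hlen]; exact i.isLt)
      simp only [hl, List.getElem_ofFn, List.length_ofFn] at h1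
      convert h1 using 2
      exact Fin.ext (by simp [Fin.val_add])
    · exact List.formPerm_apply_of_notMem (by rw [hl, List.mem_ofFn]; exact hx)
  have hfix : ∀ c : A, (c : Equiv.Perm (Fin n)) last = last → c ∈ H := fun c hc => hc
  let e₁ : Fin p → Fin n := fun i => ⟨i.val, by omega⟩
  obtain ⟨c, -, hcord, hce, hcfix⟩ := hcyc e₁ (fun i j h => Fin.ext (by simpa [e₁] using h))
  have hcH : c ∈ H := hfix c (hcfix _ (by
    rintro ⟨i, hi⟩; have := congrArg Fin.val hi; simp [e₁, hlast] at this; omega))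
  have hproper : H ≠ ⊤ := by
    intro hT
    obtain ⟨d, -, -, hde, -⟩ := hcyc (fun i => ⟨n - 1 - i.val, by omega⟩) (fun i j h => Fin.ext (by
      have := congrArg Fin.val h; simp at this; omega))
    haveI : NeZero p := ⟨hpp.ne_zero⟩
    have hd : (d : Equiv.Perm (Fin n)) last = last := (hT ▸ Subgroup.mem_top d : d ∈ H)
    have h0 := hde 0
    simp [hlast] at hd h0
    rw [hd] at h0
    haveI : Fact (1 < p) := ⟨hpp.one_lt⟩
    simp [Fin.ext_iff, Fin.val_one', Nat.one_mod_eq_one.2 hpp.one_lt.ne'] at h0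
    omega
  have hdvd : p ∣ Nat.card H := by
    have := orderOf_dvd_natCard (⟨c, hcH⟩ : H)
    rwa [← Subgroup.orderOf_coe, hcord] at this
  haveI : Fact p.Prime := ⟨hpp⟩
  obtain ⟨P⟩ : Nonempty (Sylow p H) := inferInstance
  have hPn := h H hproper hdvd P
  haveI : Unique (Sylow p H) := Sylow.unique_of_normal P hPn
  -- every element of order p fixing the last point lies in P
  have hall : ∀ d : A, orderOf d = p → d ∈ H → ∀ hd : d ∈ H, (⟨d, hd⟩ : H) ∈ (P : Subgroup H) := by
    intro d hd _ hd'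
    have hzp : IsPGroup p (Subgroup.zpowers (⟨d, hd'⟩ : H)) :=
      IsPGroup.of_card (n := 1) (by rw [Nat.card_zpowers, ← Subgroup.orderOf_coe, hd, pow_one])
    obtain ⟨Q, hQ⟩ := hzp.exists_le_sylow
    rw [Subsingleton.elim Q P] at hQ
    exact hQ (Subgroup.mem_zpowers _)
  haveI : NeZero p := ⟨hpp.ne_zero⟩
  suffices hbad : ∃ g : A, g ∈ H ∧ orderOf g ∣ 6 ∧ ¬ orderOf g ∣ p ∧ ∃ hg : g ∈ H, (⟨g, hg⟩ : H) ∈ (P : Subgroup H) by
    obtain ⟨g, -, h6, hnp, hg, hgP⟩ := hbad
    obtain ⟨k, hk⟩ := IsPGroup.iff_orderOf.1 P.2 ⟨_, hgP⟩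
    rw [← Subgroup.orderOf_coe, ← Subgroup.orderOf_coe] at hk
    change orderOf g = p ^ k at hk
    rcases k with - | - | k
    · exact hnp (hk ▸ one_dvd _)
    · exact hnp (by rw [hk, pow_one])
    · have h9 : p ^ 2 ∣ 6 := (pow_dvd_pow p (by omega)).trans (hk ▸ h6)
      have := Nat.le_of_dvd (by norm_num) h9
      nlinarith
  rcases Nat.lt_or_ge p 5 with hp5 | hp5
  · -- p = 3
    have hp' : p = 3 := by
      interval_cases p <;> first | rfl | exact absurd hpp (by norm_num)
    subst hp'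
    let e₂ : Fin 3 → Fin n := ![⟨0, by omega⟩, ⟨1, by omega⟩, ⟨3, by omega⟩]
    obtain ⟨d, -, hdord, hde, hdfix⟩ := hcyc e₂ (by
      intro i j h; fin_cases i <;> fin_cases j <;> simp_all [e₂, Fin.ext_iff])
    have hdH : d ∈ H := hfix d (hdfix _ (by
      rintro ⟨i, hi⟩; fin_cases i <;> (have := congrArg Fin.val hi; simp [e₂, hlast] at this; omega)))
    refine ⟨c * d, H.mul_mem hcH hdH, ?_, ?_, H.mul_mem hcH hdH, ?_⟩
    all_goals first
      | exact mul_mem (hall c hcord hcH hcH) (hall d hdord hdH hdH)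
      | skip
    all_goals
      have hsq : (c * d) ^ 2 = 1 := by
        refine Subtype.ext (Equiv.ext fun x => ?_)
        rw [SubgroupClass.coe_pow, Subgroup.coe_mul, pow_two, Equiv.Perm.mul_apply, Equiv.Perm.mul_apply,
          Equiv.Perm.mul_apply, OneMemClass.coe_one, Equiv.Perm.one_apply]
        have c0 := hce 0; have c1 := hce 1; have c2 := hce 2
        have d0 := hde 0; have d1 := hde 1; have d2 := hde 2
        simp [e₁, e₂] at c0 c1 c2 d0 d1 d2
        have c3 : (c : Equiv.Perm (Fin n)) ⟨3, by omega⟩ = ⟨3, by omega⟩ := hcfix _ (by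
          rintro ⟨i, hi⟩; have := congrArg Fin.val hi; simp [e₁] at this; omega)
        have d3 : (d : Equiv.Perm (Fin n)) ⟨2, by omega⟩ = ⟨2, by omega⟩ := hdfix _ (by
          rintro ⟨i, hi⟩; fin_cases i <;> simp [e₂, Fin.ext_iff] at hi)
        rcases Nat.lt_or_ge x.val 4 with hx | hx
        · obtain ⟨x, hxn⟩ := x
          interval_cases x <;> simp_all
        · have hc' : (c : Equiv.Perm (Fin n)) x = x := hcfix _ (by
            rintro ⟨i, hi⟩; have := congrArg Fin.val hi; simp [e₁] at this; omega)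
          have hd' : (d : Equiv.Perm (Fin n)) x = x := hdfix _ (by
            rintro ⟨i, hi⟩; fin_cases i <;> (have := congrArg Fin.val hi; simp [e₂] at this; omega))
          rw [hd', hc', hd', hc']
    · exact (orderOf_dvd_of_pow_eq_one hsq).trans (by norm_num)
    · intro hd3
      have h1 : orderOf (c * d) ∣ Nat.gcd 2 3 := Nat.dvd_gcd (orderOf_dvd_of_pow_eq_one hsq) hd3
      rw [show Nat.gcd 2 3 = 1 by norm_num, Nat.dvd_one, orderOf_eq_one_iff] at h1
      have h2 : ((c * d : A) : Equiv.Perm (Fin n)) ⟨0, by omega⟩ = ⟨0, by omega⟩ := by rw [h1]; rfl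
      have d0 := hde 0
      have c1 := hce 1
      simp [e₁, e₂] at d0 c1
      simp [Subgroup.coe_mul, d0, c1, Fin.ext_iff] at h2
  · -- p ≥ 5: conjugate by a transposition
    let τ : Equiv.Perm (Fin n) := Equiv.swap ⟨0, by omega⟩ ⟨1, by omega⟩
    let e₂ : Fin p → Fin n := fun i => τ (e₁ i)
    obtain ⟨d, -, hdord, hde, hdfix⟩ := hcyc e₂ (fun i j h => by
      have := τ.injective h
      exact Fin.ext (by simpa [e₁] using this))
    have hdH : d ∈ H := hfix d (hdfix _ (by
      rintro ⟨i, hi⟩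
      have hlast' : τ last = last := Equiv.swap_apply_of_ne_of_ne (by simp [hlast, Fin.ext_iff]; omega) (by simp [hlast, Fin.ext_iff]; omega)
      have : e₁ i = last := τ.injective (hi.trans hlast'.symm)
      have := congrArg Fin.val this
      simp [e₁, hlast] at this; omega))
    have hdc : (d : Equiv.Perm (Fin n)) = τ * c * τ⁻¹ := by
      refine Equiv.ext fun x => ?_
      simp only [Equiv.Perm.mul_apply]
      by_cases hx : x ∈ Set.range e₂
      · obtain ⟨i, rfl⟩ := hx
        rw [hde, show τ⁻¹ (e₂ i) = e₁ i from τ.symm_apply_apply _, hce]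
      · rw [hdfix x hx, hcfix (τ⁻¹ x) (fun ⟨i, hi⟩ => hx ⟨i, by show τ (e₁ i) = x; rw [hi]; exact τ.apply_symm_apply x⟩)]
        exact (τ.apply_symm_apply x).symm
    let g : A := c⁻¹ * d
    have hgH : g ∈ H := H.mul_mem (H.inv_mem hcH) hdH
    have hg3 : (g : Equiv.Perm (Fin n)).IsThreeCycle := by
      have hval : (g : Equiv.Perm (Fin n)) = Equiv.swap ((c : Equiv.Perm (Fin n))⁻¹ ⟨0, by omega⟩) ((c : Equiv.Perm (Fin n))⁻¹ ⟨1, by omega⟩) * τ := by
        show (c : Equiv.Perm (Fin n))⁻¹ * (d : Equiv.Perm (Fin n)) = _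
        rw [hdc, Equiv.swap_apply_apply, inv_inv, show τ⁻¹ = τ from Equiv.swap_inv _ _]
        show (c : Equiv.Perm (Fin n))⁻¹ * (τ * c * τ) = (c : Equiv.Perm (Fin n))⁻¹ * τ * c * τ
        group
      have c0 := hce 0
      have cl := hce (-1)
      have hc1 : (c : Equiv.Perm (Fin n))⁻¹ ⟨1, by omega⟩ = ⟨0, by omega⟩ := by
        rw [Equiv.Perm.inv_eq_iff_eq]
        simp [e₁, Fin.val_one', Nat.one_mod_eq_one.2 hpp.one_lt.ne'] at c0
        exact c0.symm
      have hc0 : (c : Equiv.Perm (Fin n))⁻¹ ⟨0, by omega⟩ = ⟨p - 1, by omega⟩ := by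
        rw [Equiv.Perm.inv_eq_iff_eq]
        have := hce ⟨p - 1, by omega⟩
        simp only [e₁, Fin.val_add, Fin.val_one', Nat.one_mod_eq_one.2 hpp.one_lt.ne',
          show p - 1 + 1 = p by omega, Nat.mod_self] at this
        exact this.symm
      rw [hval, hc0, hc1, Equiv.swap_comm (⟨p - 1, by omega⟩ : Fin n) ⟨0, by omega⟩]
      exact Equiv.Perm.isThreeCycle_swap_mul_swap_same (by simp [Fin.ext_iff]; omega) (by simp [Fin.ext_iff]) (by simp [Fin.ext_iff]; omega)
    have hgo : orderOf g = 3 := by rw [← Subgroup.orderOf_coe]; exact hg3.orderOf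
    refine ⟨g, hgH, by rw [hgo]; norm_num, ?_, hgH, mul_mem (inv_mem (hall c hcord hcH hcH)) (hall d hdord hdH hdH)⟩
    rw [hgo, Nat.prime_dvd_prime_iff_eq Nat.prime_three hpp]
    omega

end Cfsg.Agent.S3941
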