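import Cfsg.Statements.S3946
import Cfsg.Agent.Fusion.Splitting

set_option autoImplicit false
open Cfsg

namespace Cfsg.Agent.S3946

/-- Call an automorphism α of order n of a group G splitting when x · α(x) · α²(x) ⋯ α^(n−1)(x) = 1 for every x ∈ G. A finite group admitting a splitting automorphism of prime order is nilpotent (this contains the case of a fixed-point-free automorphism of prime order). -/
theorem result {G : Type*} [Group G] [Finite G] (α : MulAut G) (hp : (orderOf α).Prime)
    (hsplit : ∀ x : G, (((List.range (orderOf α)).map (fun i : ℕ => (α ^ i) x)).prod = 1)) : Group.IsNilpotent G := by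
  let φ : Subgroup.zpowers α →* MulAut G := (Subgroup.zpowers α).subtype
  let a : Subgroup.zpowers α := ⟨α, Subgroup.mem_zpowers α⟩
  have : Finite (MulAut G) := Finite.of_injective
    (fun e : MulAut G => (e : G → G)) DFunLike.coe_injective
  have : Finite (G ⋊[φ] Subgroup.zpowers α) :=
    Finite.of_equiv (G × Subgroup.zpowers α) SemidirectProduct.equivProd.symm
  let c : G ⋊[φ] Subgroup.zpowers α := SemidirectProduct.inr a
  have hpow : ∀ (x : G) (i : ℕ), (SemidirectProduct.inl x * c) ^ i =
      SemidirectProduct.inl ((List.range i).map (fun j : ℕ => (α ^ j) x)).prod * c ^ i := by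
    intro x i
    induction i with
    | zero => simp
    | succ i ih =>
      rw [pow_succ, ih, List.range_succ, List.map_append, List.prod_append, List.map_singleton,
        List.prod_singleton, map_mul, pow_succ]
      have h2 : c ^ i * SemidirectProduct.inl x =
          SemidirectProduct.inl ((α ^ i) x) * c ^ i := by
        have h3 : (φ (a ^ i)) x = (α ^ i) x := by rw [map_pow]; rfl
        have h4 : (SemidirectProduct.inl ((φ (a ^ i)) x) : G ⋊[φ] Subgroup.zpowers α) =
            SemidirectProduct.inr (a ^ i) * SemidirectProduct.inl x *
              SemidirectProduct.inr (a ^ i)⁻¹ := SemidirectProduct.inl_aut (a ^ i) x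
        rw [← h3, h4, map_inv, map_pow]
        exact (inv_mul_cancel_right _ _).symm
      rw [mul_assoc (SemidirectProduct.inl _) (c ^ i), ← mul_assoc (c ^ i), h2]
      group
  have hc : c ^ orderOf α = 1 := by
    rw [← map_pow, show a ^ orderOf α = 1 from Subtype.ext (by simpa [a] using pow_orderOf_eq_one α),
      map_one]
  set L : Subgroup (G ⋊[φ] Subgroup.zpowers α) :=
    (SemidirectProduct.inl : G →* G ⋊[φ] Subgroup.zpowers α).range with hL
  have hLn : L.Normal := by
    rw [hL, SemidirectProduct.range_inl_eq_ker_rightHom]; infer_instance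
  have hnil : Group.IsNilpotent L := by
    refine Fusion.isNilpotent_of_splitting hp (c := c)
      ((Subgroup.normalizer_eq_top (H := L)).ge (Subgroup.mem_top _)) ?_
    rintro _ ⟨x, rfl⟩
    rw [hpow, hsplit, map_one, one_mul, hc]
  exact (Group.isNilpotent_congr
    (MonoidHom.ofInjective SemidirectProduct.inl_injective).symm).mp hnil

end Cfsg.Agent.S3946
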