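import Cfsg.Statements.S3949
-- import your own Cfsg.Agent.* helpers here

set_option autoImplicit false
open Cfsg

namespace Cfsg.Agent.S3949

theorem iterate_eq {G : Type*} [Group G] (α : MulAut G) {y : G} (hy : α y = y⁻¹) :
    ∀ k : ℕ, (fun c : G => c * (α c)⁻¹)^[k] y = y ^ 2 ^ k := by
  intro k
  induction k with
  | zero => simp
  | succ k ih =>
    rw [Function.iterate_succ_apply', ih]
    show y ^ 2 ^ k * (α (y ^ 2 ^ k))⁻¹ = _
    rw [map_pow, hy, inv_pow, inv_inv, ← pow_add, pow_succ, mul_two]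



/-- Let G be a finite group and α an automorphism of G of order 2 such that the elements g·α(g)⁻¹ generate G. Let j be a positive integer such that 2^j divides the order of no element inverted by α. Then the set of values of the j-th iterate of the map c ↦ c·α(c)⁻¹ is exactly the set of elements of odd order inverted by α. -/
theorem result {G : Type*} [Group G] [Finite G] (α : MulAut G) (hα : orderOf α = 2) (hG : Subgroup.closure (Set.range (fun c : G => c * (α c)⁻¹)) = ⊤)
    (j : ℕ) (hj : ∀ g : G, α g = g⁻¹ → ¬ 2 ^ j ∣ orderOf g) :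
    Set.range ((fun c : G => c * (α c)⁻¹)^[j]) = {g : G | Odd (orderOf g) ∧ α g = g⁻¹} := by
  have hα2 : ∀ x, α (α x) = x := fun x => by
    have h1 : α ^ 2 = 1 := by rw [← hα]; exact pow_orderOf_eq_one α
    calc α (α x) = (α ^ 2) x := by rw [pow_two]; rfl
      _ = x := by rw [h1]; rfl
  have hinv : ∀ c : G, α (c * (α c)⁻¹) = (c * (α c)⁻¹)⁻¹ := fun c => by
    rw [map_mul, map_inv, hα2, mul_inv_rev, inv_inv]
  obtain ⟨i, rfl⟩ : ∃ i, j = i + 1 := Nat.exists_eq_succ_of_ne_zero (by
    rintro rfl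
    exact hj 1 (by simp) (by simp))
  ext x
  constructor
  · rintro ⟨c, rfl⟩
    show Odd (orderOf _) ∧ _
    rw [Function.iterate_succ_apply, iterate_eq α (hinv c)]
    set y := c * (α c)⁻¹ with hy
    refine ⟨?_, by rw [map_pow, hinv c, inv_pow]⟩
    obtain ⟨e, m, hm, he⟩ := Nat.exists_eq_pow_mul_and_not_dvd (orderOf_pos y).ne' 2 (by decide)
    have hei : e ≤ i := by
      by_contra hlt
      exact hj y (hinv c) (he ▸ (Nat.pow_dvd_pow 2 (by omega : i + 1 ≤ e)).trans (dvd_mul_right _ _))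
    have hd : orderOf (y ^ 2 ^ i) ∣ m := by
      apply orderOf_dvd_of_pow_eq_one
      rw [← pow_mul]
      apply orderOf_dvd_iff_pow_eq_one.mp
      rw [he]
      exact Nat.mul_dvd_mul_right (Nat.pow_dvd_pow 2 hei) m
    exact (Nat.odd_iff.mpr (by omega : m % 2 = 1)).of_dvd_nat hd
  · rintro ⟨hodd, hx⟩
    obtain ⟨k, hk⟩ := exists_pow_eq_self_of_coprime (x := x) (n := 2 ^ (i + 1))
      (Nat.Coprime.pow_left _ (Nat.coprime_two_left.mpr hodd))
    refine ⟨x ^ k, ?_⟩
    rw [iterate_eq α (by rw [map_pow, hx, inv_pow])]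
    rw [← pow_mul, mul_comm, pow_mul]
    exact hk

end Cfsg.Agent.S3949
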