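import Cfsg.Statements.S3950
import Cfsg.Agent.ProjExt.Stem
import Cfsg.Agent.Coprime.Generation
import Cfsg.Agent.S3979
import Mathlib.LinearAlgebra.FreeModule.Finite.Basic
-- import your own Cfsg.Agent.* helpers here

set_option autoImplicit false
open Cfsg

namespace Cfsg.Agent.S3950

theorem exists_module (V : Type*) [CommGroup V] (p : ℕ) (hexp : ∀ g : V, g ^ p = 1) :
    Nonempty (Module (ZMod p) (Additive V)) :=
  ⟨AddCommGroup.zmodModule fun v => Additive.toMul.injective (hexp (Additive.toMul v))⟩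

/-- A noncyclic finite abelian group has two independent maps to some `ZMod r`. -/
theorem exists_coordinates {G : Type*} [CommGroup G] [Finite G] (h : ¬ IsCyclic G) :
    ∃ (r : ℕ) (_ : r.Prime) (φ ψ : G →* Multiplicative (ZMod r)) (a b : G),
      (φ a).toAdd * (ψ b).toAdd - (φ b).toAdd * (ψ a).toAdd = 1 := by
  obtain ⟨r, hr, a, b, ha, hb, ha1, hba⟩ := Cfsg.Agent.Coprime.exists_two_generated_of_not_isCyclic h
  have := Fact.mk hr
  let f : G →* G := powMonoidHom r
  have hexp : ∀ g : G ⧸ f.range, g ^ r = 1 := by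
    intro g
    obtain ⟨x, rfl⟩ := QuotientGroup.mk_surjective g
    rw [← QuotientGroup.mk_pow, QuotientGroup.eq_one_iff]
    exact ⟨x, rfl⟩
  have hcard : r ^ 2 ≤ Nat.card (G ⧸ f.range) := by
    have hk : Nat.card f.ker = Nat.card (G ⧸ f.range) := by
      rw [← Subgroup.index_eq_card]
      have e1 : Nat.card f.ker * Nat.card f.range = Nat.card G := by
        rw [← Subgroup.index_ker, Subgroup.card_mul_index]
      exact Nat.eq_of_mul_eq_mul_left (Nat.card_pos (α := f.range))
        (by rw [mul_comm, e1, Subgroup.card_mul_index])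
    rw [← hk]
    have hb1 : b ≠ 1 := fun e => hba (e ▸ one_mem _)
    obtain ⟨k, hkk⟩ := IsPGroup.iff_card.mp (show IsPGroup r f.ker from fun x => ⟨1, by
      rw [pow_one]; exact Subtype.ext x.2⟩)
    rw [hkk]
    refine Nat.pow_le_pow_right hr.pos ?_
    by_contra h2
    have hle : Subgroup.zpowers a ≤ f.ker := Subgroup.zpowers_le.mpr ha
    have heq := Subgroup.eq_of_le_of_card_ge hle (by
      rw [hkk, Nat.card_zpowers, orderOf_eq_prime ha ha1]
      exact (Nat.pow_le_pow_right hr.pos (by omega : k ≤ 1)).trans (le_of_eq (pow_one r)))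
    exact hba (heq ▸ hb)
  obtain ⟨inst⟩ := exists_module (G ⧸ f.range) r hexp
  let B := Module.Free.chooseBasis (ZMod r) (Additive (G ⧸ f.range))
  have : Fintype (Module.Free.ChooseBasisIndex (ZMod r) (Additive (G ⧸ f.range))) := inferInstance
  have h2 : 1 < Fintype.card (Module.Free.ChooseBasisIndex (ZMod r) (Additive (G ⧸ f.range))) := by
    by_contra h2
    have hc : Nat.card (G ⧸ f.range) = r ^ Fintype.card (Module.Free.ChooseBasisIndex (ZMod r) (Additive (G ⧸ f.range))) := by
      rw [show Nat.card (G ⧸ f.range) = Nat.card (Additive (G ⧸ f.range)) from Nat.card_congr Additive.ofMul,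
        Nat.card_congr B.equivFun.toEquiv, Nat.card_fun, Nat.card_zmod, Nat.card_eq_fintype_card]
    rw [hc] at hcard
    have := (Nat.pow_le_pow_iff_right hr.one_lt).mp hcard
    omega
  obtain ⟨i, j, hij⟩ := Fintype.exists_pair_of_one_lt_card h2
  let co : Module.Free.ChooseBasisIndex (ZMod r) (Additive (G ⧸ f.range)) → (G →* Multiplicative (ZMod r)) :=
    fun k => (AddMonoidHom.toMultiplicativeRight (B.coord k).toAddMonoidHom).comp (QuotientGroup.mk' f.range)
  obtain ⟨x, hx⟩ := QuotientGroup.mk_surjective (Additive.toMul (B i))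
  obtain ⟨y, hy⟩ := QuotientGroup.mk_surjective (Additive.toMul (B j))
  refine ⟨r, hr, co i, co j, x, y, ?_⟩
  show B.coord i (Additive.ofMul (x : G ⧸ f.range)) * B.coord j (Additive.ofMul (y : G ⧸ f.range)) -
    B.coord i (Additive.ofMul (y : G ⧸ f.range)) * B.coord j (Additive.ofMul (x : G ⧸ f.range)) = 1
  rw [hx, hy, ofMul_toMul, ofMul_toMul]
  simp [Module.Basis.coord_apply, Finsupp.single_eq_of_ne hij.symm, hij]



/-- A finite abelian group has trivial Schur multiplier if and only if it is cyclic. -/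
theorem result {G : Type*} [CommGroup G] [Finite G] : Cfsg.HasCyclicSchurMultiplier G 1 ↔ IsCyclic G := by
  constructor
  · intro h
    by_contra hnc
    obtain ⟨r, hr, φ, ψ, a, b, hab⟩ := exists_coordinates hnc
    have : NeZero r := ⟨hr.ne_zero⟩
    have hst := Cfsg.Agent.ProjExt.Stem.Heis.isStemExtension (φ := φ) (ψ := ψ) hab
    have hbot := Cfsg.Agent.ProjExt.Stem.ker_eq_bot_of_trivial h _ _ hst
    have hc := Nat.card_congr (Cfsg.Agent.ProjExt.Stem.Heis.kerEquiv (φ := φ) (ψ := ψ)).toEquiv
    rw [hbot, Subgroup.card_bot, Nat.card_congr Multiplicative.toAdd, Nat.card_zmod] at hc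
    exact hr.ne_one hc.symm
  · intro h
    exact Cfsg.Agent.S3979.result

end Cfsg.Agent.S3950
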