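import Cfsg.Statements.S3951
import Cfsg.Agent.ProjExt.Stem
-- import your own Cfsg.Agent.* helpers here

set_option autoImplicit false
open Cfsg

namespace Cfsg.Agent.S3951

/-- For positive integers `m` and `n` with `n` dividing `m`, the Schur multiplier of the abelian group `ZMod m × ZMod n` (written multiplicatively) is cyclic of order `n`. In particular the elementary abelian group of order `p ^ 2` has multiplier of order `p`. -/
theorem result (m n : ℕ) [NeZero m] [NeZero n] (hnm : n ∣ m) : Cfsg.HasCyclicSchurMultiplier (Multiplicative (ZMod m × ZMod n)) n := by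
  set G := Multiplicative (ZMod m × ZMod n)
  let φ : G →* Multiplicative (ZMod n) :=
    AddMonoidHom.toMultiplicative ((ZMod.castHom hnm (ZMod n)).toAddMonoidHom.comp (AddMonoidHom.fst (ZMod m) (ZMod n)))
  let ψ : G →* Multiplicative (ZMod n) := AddMonoidHom.toMultiplicative (AddMonoidHom.snd (ZMod m) (ZMod n))
  set a : G := Multiplicative.ofAdd (1, 0)
  set b : G := Multiplicative.ofAdd (0, 1)
  have hab : (φ a).toAdd * (ψ b).toAdd - (φ b).toAdd * (ψ a).toAdd = 1 := by
    show ZMod.castHom hnm (ZMod n) 1 * 1 - ZMod.castHom hnm (ZMod n) 0 * 0 = 1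
    rw [map_one, map_zero, one_mul, zero_mul, sub_zero]
  refine Cfsg.Agent.ProjExt.Stem.hasCyclicSchurMultiplier_of _
    (Cfsg.Agent.ProjExt.Stem.Heis.isStemExtension (φ := φ) (ψ := ψ) hab)
    Cfsg.Agent.ProjExt.Stem.Heis.kerEquiv fun Γ _ _ σ hσ => ?_
  obtain ⟨a', ha'⟩ := hσ.1 a
  obtain ⟨b', hb'⟩ := hσ.1 b
  have hgenG : Subgroup.closure ({a, b} : Set G) = ⊤ := by
    rw [eq_top_iff]
    intro x _
    obtain ⟨⟨s, t⟩, rfl⟩ := Multiplicative.ofAdd.surjective x
    obtain ⟨i, rfl⟩ := ZMod.intCast_surjective s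
    obtain ⟨j, rfl⟩ := ZMod.intCast_surjective t
    have e : (Multiplicative.ofAdd ((i : ZMod m), (j : ZMod n)) : G) = a ^ i * b ^ j := by
      apply Multiplicative.toAdd.injective
      show ((i : ZMod m), (j : ZMod n)) = i • ((1 : ZMod m), (0 : ZMod n)) + j • ((0 : ZMod m), (1 : ZMod n))
      simp
    rw [e]
    exact mul_mem (zpow_mem (Subgroup.subset_closure (by simp)) i)
      (zpow_mem (Subgroup.subset_closure (by simp)) j)
  have hgen := Cfsg.Agent.ProjExt.Stem.closure_sup_center_eq_top σ hσ.2.1 (S := {a', b'})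
    (by rw [Set.image_insert_eq, Set.image_singleton, ha', hb']; exact hgenG)
  set c := b' * a' * b'⁻¹ * a'⁻¹
  have hcK : c ∈ σ.ker := by
    rw [MonoidHom.mem_ker]
    simp only [c, map_mul, map_inv]
    rw [mul_comm (σ b'), mul_inv_cancel_right, mul_inv_cancel]
  have hcc : ∀ x : Γ, x * c * x⁻¹ = c := fun x => by
    rw [Subgroup.mem_center_iff.mp (hσ.2.1 hcK) x, mul_inv_cancel_right]
  have hder : commutator Γ ≤ Subgroup.zpowers c :=
    Cfsg.Agent.ProjExt.Stem.commutator_le_zpowers hgen ⟨c, Subgroup.mem_zpowers c, rfl⟩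
      (by rw [hcc]; exact Subgroup.mem_zpowers c)
      (by have := hcc a'⁻¹; rw [inv_inv] at this; rw [this]; exact Subgroup.mem_zpowers c)
      (by rw [hcc]; exact Subgroup.mem_zpowers c)
      (by have := hcc b'⁻¹; rw [inv_inv] at this; rw [this]; exact Subgroup.mem_zpowers c)
  refine ⟨c, hcK, hσ.2.2.trans hder, ?_⟩
  have hbn : b' ^ n ∈ Subgroup.center Γ := hσ.2.1 (by
    rw [MonoidHom.mem_ker, map_pow, hb']
    apply Multiplicative.toAdd.injective
    show n • ((0 : ZMod m), (1 : ZMod n)) = 0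
    simp)
  have hpow : ∀ k : ℕ, b' ^ k * a' * (b' ^ k)⁻¹ = c ^ k * a' := by
    intro k
    induction k with
    | zero => simp
    | succ k ih =>
      calc b' ^ (k + 1) * a' * (b' ^ (k + 1))⁻¹ = b' * (b' ^ k * a' * (b' ^ k)⁻¹) * b'⁻¹ := by
            rw [pow_succ']; group
        _ = (b' * c ^ k * b'⁻¹) * (c * a') := by rw [ih]; simp only [c]; group
        _ = c ^ (k + 1) * a' := by rw [← conj_pow, hcc, pow_succ]; group
  have h1 := hpow n
  rw [← Subgroup.mem_center_iff.mp hbn a', mul_inv_cancel_right] at h1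
  exact right_eq_mul.mp h1

end Cfsg.Agent.S3951
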