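import Cfsg.Statements.S3952
import Cfsg.Agent.ProjExt.CubeOrder
import Cfsg.Agent.ProjExt.SchurLift
-- import your own Cfsg.Agent.* helpers here

set_option autoImplicit false
open Cfsg

namespace Cfsg.Agent.S3952

open Cfsg.Agent.ProjExt in
theorem aux {Q : Type*} [Group Q] [Finite Q] {Γ : Type*} [Group Γ] [Finite Γ] {σ : Γ →* Q}
    (hσ : Cfsg.IsStemExtension σ) (g : σ.ker →* ℂˣ) (x : σ.ker) (hg : ∀ y, g y ^ orderOf (g x) = 1) :
    orderOf (g x) ^ 2 ∣ Nat.card Q := by
  classical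
  set e := orderOf (g x) with he
  have he0 : e ≠ 0 := ((g.isOfFinOrder (isOfFinOrder_of_finite x)).orderOf_pos).ne'
  set N : Subgroup Γ := g.ker.map σ.ker.subtype with hN
  have hn : N.Normal := ⟨fun n hn a => by
    obtain ⟨y, hy, rfl⟩ := hn
    rw [Subgroup.mem_center_iff.1 (hσ.2.1 (show (σ.ker.subtype y : Γ) ∈ σ.ker from y.2)) a,
      mul_inv_cancel_right]
    exact ⟨y, hy, rfl⟩⟩
  have hz : ((x : Γ) : Γ ⧸ N) ∈ Subgroup.center (Γ ⧸ N) := by
    rw [Subgroup.mem_center_iff]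
    intro a
    obtain ⟨a, rfl⟩ := QuotientGroup.mk_surjective a
    rw [← QuotientGroup.mk_mul, ← QuotientGroup.mk_mul, Subgroup.mem_center_iff.1 (hσ.2.1 x.2) a]
  have hz' : ((x : Γ) : Γ ⧸ N) ∈ _root_.commutator (Γ ⧸ N) := by
    have h : (_root_.commutator Γ).map (QuotientGroup.mk' N) ≤ _root_.commutator (Γ ⧸ N) := by
      rw [_root_.commutator_def, _root_.commutator_def, Subgroup.map_commutator]
      exact Subgroup.commutator_mono le_top le_top
    exact h ⟨_, hσ.2.2 x.2, rfl⟩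
  have hmem : ∀ y : σ.ker, (y : Γ) ∈ N ↔ g y = 1 := fun y =>
    ⟨fun ⟨y', hy', e'⟩ => by rwa [← Subtype.ext e'], fun h => ⟨y, h, rfl⟩⟩
  have hord : orderOf ((x : Γ) : Γ ⧸ N) = e := orderOf_eq_orderOf_iff.2 fun n => by
    rw [← QuotientGroup.mk_pow, QuotientGroup.eq_one_iff, ← Subgroup.coe_pow, hmem, map_pow]
  have h1 := orderOf_pow_three_dvd_card hz hz'
  rw [hord, ← Subgroup.index_eq_card] at h1
  have hle : N ≤ σ.ker := by rintro _ ⟨y, -, rfl⟩; exact y.2
  have h2 : N.relIndex σ.ker ∣ e := by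
    rw [Subgroup.relIndex, Subgroup.subgroupOf, hN,
      Subgroup.comap_map_eq_self_of_injective Subtype.val_injective, Subgroup.index_ker]
    have : NeZero e := ⟨he0⟩
    have hr : g.range ≤ rootsOfUnity e ℂ := by
      rintro _ ⟨y, rfl⟩; exact hg y
    calc Nat.card g.range ∣ Nat.card (rootsOfUnity e ℂ) := Subgroup.card_dvd_of_le hr
      _ = e := HasEnoughRootsOfUnity.natCard_rootsOfUnity ℂ e
  rw [← Subgroup.relIndex_mul_index hle, Subgroup.index_ker,
    MonoidHom.range_eq_top.2 hσ.1, Subgroup.card_top, pow_succ'] at h1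
  exact Nat.dvd_of_mul_dvd_mul_left (Nat.pos_of_ne_zero he0)
    (h1.trans (Nat.mul_dvd_mul_right h2 _))



/-- If `A` is the Schur multiplier of the finite group `Q`, then the square of the exponent of `A` divides the order of `Q`. -/
theorem result {Q : Type*} [Group Q] [Finite Q] {A : Type*} [CommGroup A] (hA : Cfsg.HasSchurMultiplier Q A) : Monoid.exponent A ^ 2 ∣ Nat.card Q := by
  obtain ⟨Γ, i, j, σ, hσ, ⟨iso⟩⟩ := hA.1
  have : Finite A := Finite.of_equiv _ iso.toEquiv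
  obtain ⟨a, ha⟩ := Monoid.exists_orderOf_eq_exponent (Monoid.ExponentExists.of_finite (G := A))
  have : NeZero (orderOf a) := ⟨(orderOf_pos a).ne'⟩
  obtain ⟨ζ, hζ⟩ : ∃ ζ : ℂˣ, orderOf ζ = orderOf a :=
    ⟨((Complex.isPrimitiveRoot_exp (orderOf a) (orderOf_pos a).ne').isUnit (orderOf_pos a).ne').unit,
      (IsPrimitiveRoot.coe_units_iff.1 (Complex.isPrimitiveRoot_exp _ (orderOf_pos a).ne')).eq_orderOf.symm⟩
  have hcard : Nat.card (Subgroup.zpowers a) = Nat.card (Subgroup.zpowers ζ) := by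
    rw [Nat.card_zpowers, Nat.card_zpowers, hζ]
  let θ : Subgroup.zpowers a →* ℂˣ :=
    (Subgroup.zpowers ζ).subtype.comp (mulEquivOfCyclicCardEq hcard).toMonoidHom
  have hbot : Subgroup.zpowers a ⊓ _root_.commutator A = ⊥ := by
    rw [show _root_.commutator A = ⊥ from (Subgroup.eq_bot_iff_forall _).2 fun y hy => by
      simpa using (Abelianization.commutator_subset_ker (MonoidHom.id A) hy), inf_bot_eq]
  obtain ⟨f, hf⟩ := Cfsg.Agent.ProjExt.Schur.exists_extension (W := ℂˣ)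
    (fun y n hn => by
      obtain ⟨d, hd⟩ := IsAlgClosed.exists_pow_nat_eq (y : ℂ) (Nat.pos_of_ne_zero hn)
      have hd0 : d ≠ 0 := fun e => y.ne_zero (by rw [← hd, e, zero_pow hn])
      exact ⟨Units.mk0 d hd0, Units.ext hd⟩)
    (Subgroup.zpowers a) hbot θ
  have hfa : orderOf (f a) = orderOf a := by
    rw [show f a = θ ⟨a, Subgroup.mem_zpowers a⟩ from hf ⟨a, Subgroup.mem_zpowers a⟩,
      orderOf_injective θ ((Subgroup.subtype_injective _).comp (mulEquivOfCyclicCardEq hcard).injective),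
      Subgroup.orderOf_mk]
  have key := aux hσ (f.comp iso.toMonoidHom) (iso.symm a) (fun y => by
    show f (iso y) ^ orderOf (f (iso (iso.symm a))) = 1
    rw [iso.apply_symm_apply, hfa, ha, ← map_pow, Monoid.pow_exponent_eq_one, map_one])
  rw [← ha, ← hfa, ← show (f.comp iso.toMonoidHom) (iso.symm a) = f a from congrArg f (iso.apply_symm_apply a)]
  exact key

end Cfsg.Agent.S3952
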