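import Cfsg.Statements.S3953
import Cfsg.Agent.ProjExt.SchurTransfer
import Mathlib.GroupTheory.SchurZassenhaus
-- import your own Cfsg.Agent.* helpers here

set_option autoImplicit false
open Cfsg

namespace Cfsg.Agent.S3953

/-- Let `P` be a Sylow `p`-subgroup of the finite group `G`, let `A` be the Schur multiplier of `G` and `B` that of `P`. Then the `p`-primary component of `A` is isomorphic to a direct factor of `B`: there are subgroups `C` and `D` of `B` meeting trivially and generating `B`, with `C` isomorphic to the `p`-primary component of `A`. -/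
theorem result {G : Type*} [Group G] [Finite G] (p : ℕ) [Fact p.Prime] (P : Sylow p G) {A B : Type*} [CommGroup A] [CommGroup B] (hA : Cfsg.HasSchurMultiplier G A) (hB : Cfsg.HasSchurMultiplier P B) : ∃ C D : Subgroup B, C ⊓ D = ⊥ ∧ C ⊔ D = ⊤ ∧ Nonempty (CommGroup.primaryComponent A p ≃* C) := by
  obtain ⟨a, b, hab⟩ := Cfsg.Agent.ProjExt.Schur.exists_corestriction (P : Subgroup G) hA hB
  obtain ⟨Γ, i, j, σ, hσ, ⟨iso⟩⟩ := hA.1
  have : Finite A := Finite.of_equiv _ iso.toEquiv
  set m := (P : Subgroup G).index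
  set r := Nat.card A / p ^ (Nat.card A).factorization p with hr
  have hn0 : Nat.card A ≠ 0 := Nat.card_pos.ne'
  have hpr : Nat.Coprime p r := Nat.coprime_ordCompl (Fact.out) hn0
  have hpm : Nat.Coprime p m :=
    ((Fact.out : p.Prime).coprime_iff_not_dvd).2 P.not_dvd_index
  set AP := CommGroup.primaryComponent A p with hAP
  have hmemP : ∀ x : A, x ^ r ∈ AP := fun x => by
    have h : (x ^ r) ^ p ^ (Nat.card A).factorization p = 1 := by
      rw [← pow_mul, mul_comm, Nat.ordProj_mul_ordCompl_eq_self, pow_card_eq_one']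
    exact ⟨_, h⟩
  have hbij : Function.Bijective (fun x : AP => x ^ (m * r)) := by
    refine (powCoprime (n := m * r) ?_).bijective
    obtain ⟨k, hk⟩ := (IsPGroup.iff_card (p := p)).1 (CommGroup.primaryComponent.isPGroup (G := A) (p := p))
    rw [hk]
    exact Nat.Coprime.pow_left _ (hpm.mul_right hpr)
  refine ⟨AP.map b, ((powMonoidHom r).comp a).ker, ?_, ?_, ⟨MulEquiv.ofBijective (b.subgroupMap AP) ⟨?_, MonoidHom.subgroupMap_surjective _ _⟩⟩⟩
  · rw [eq_bot_iff]
    rintro y ⟨⟨x, hx, rfl⟩, hy⟩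
    have h : a (b x) ^ r = 1 := hy
    rw [hab, ← pow_mul] at h
    have := hbij.1 (a₁ := ⟨x, hx⟩) (a₂ := 1) (Subtype.ext (by simpa using h))
    rw [Subgroup.mem_bot, show x = 1 from congrArg Subtype.val this, map_one]
  · rw [eq_top_iff]
    intro y _
    obtain ⟨x, hx⟩ := hbij.2 ⟨a y ^ r, hmemP (a y)⟩
    have hx' : (x : A) ^ (m * r) = a y ^ r := by simpa using congrArg Subtype.val hx
    rw [show y = b x * ((b x)⁻¹ * y) by group]
    refine Subgroup.mul_mem_sup ⟨x, x.2, rfl⟩ ?_
    show a ((b x)⁻¹ * y) ^ r = 1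
    rw [map_mul, map_inv, mul_pow, inv_pow, hab, ← pow_mul, hx', inv_mul_cancel]
  · rw [injective_iff_map_eq_one]
    rintro ⟨x, hx⟩ h
    have h1 : a (b x) ^ r = 1 := by
      rw [show b x = 1 from congrArg Subtype.val h, map_one, one_pow]
    rw [hab, ← pow_mul] at h1
    exact hbij.1 (a₁ := ⟨x, hx⟩) (a₂ := 1) (Subtype.ext (by simpa using h1))

end Cfsg.Agent.S3953
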