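import Cfsg.Statements.S3954
import Cfsg.Agent.ProjExt.SchurTransfer
import Mathlib.GroupTheory.FiniteAbelian.Duality
import Mathlib.Analysis.Complex.Polynomial.Basic
import Mathlib.RingTheory.RootsOfUnity.AlgebraicallyClosed
-- import your own Cfsg.Agent.* helpers here

set_option autoImplicit false
open Cfsg

namespace Cfsg.Agent.S3954

/-- Let `U` be a subgroup of index `m` in the finite group `G`, let `A` be the Schur multiplier of `G` and `B` that of `U`. Then the subgroup of `m`-th powers of `A` is isomorphic to a subgroup of `B`. -/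
theorem result {G : Type*} [Group G] [Finite G] (U : Subgroup G) {A B : Type*} [CommGroup A] [CommGroup B] (hA : Cfsg.HasSchurMultiplier G A) (hB : Cfsg.HasSchurMultiplier U B) : ∃ C : Subgroup B, Nonempty ((powMonoidHom U.index : A →* A).range ≃* C) := by
  obtain ⟨a, b, hab⟩ := Cfsg.Agent.ProjExt.Schur.exists_corestriction U hA hB
  obtain ⟨Γ, i, j, σ, hσ, ⟨iso⟩⟩ := hB.1
  have : Finite B := Finite.of_equiv _ iso.toEquiv
  -- the range of the power map is a quotient of the finite abelian group `b.range`
  let ρ : b.range →* (powMonoidHom U.index : A →* A).range :=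
    (a.comp b.range.subtype).codRestrict _ (by
      rintro ⟨_, x, rfl⟩
      exact ⟨x, (hab x).symm⟩)
  have hρ : Function.Surjective ρ := by
    rintro ⟨_, x, rfl⟩
    exact ⟨⟨b x, x, rfl⟩, Subtype.ext (hab x)⟩
  have : Finite (powMonoidHom U.index : A →* A).range := Finite.of_surjective ρ hρ
  obtain ⟨e1⟩ := CommGroup.monoidHom_mulEquiv_of_hasEnoughRootsOfUnity (powMonoidHom U.index : A →* A).range ℂ
  obtain ⟨e2⟩ := CommGroup.monoidHom_mulEquiv_of_hasEnoughRootsOfUnity b.range ℂ
  let pre : ((powMonoidHom U.index : A →* A).range →* ℂˣ) →* (b.range →* ℂˣ) :=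
    MonoidHom.compHom' ρ
  have hpre : Function.Injective pre := fun f g h => MonoidHom.ext fun y => by
    obtain ⟨x, rfl⟩ := hρ y
    exact DFunLike.congr_fun h x
  let emb : (powMonoidHom U.index : A →* A).range →* B :=
    (b.range.subtype.comp e2.toMonoidHom).comp (pre.comp e1.symm.toMonoidHom)
  have hemb : Function.Injective emb :=
    (b.range.subtype_injective.comp e2.injective).comp (hpre.comp e1.symm.injective)
  exact ⟨emb.range, ⟨MonoidHom.ofInjective hemb⟩⟩

end Cfsg.Agent.S3954
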