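import Cfsg.Statements.S3956
import Cfsg.Agent.ProjExt.SchurLift
-- import your own Cfsg.Agent.* helpers here

set_option autoImplicit false
universe u v
open Cfsg

namespace Cfsg.Agent.S3956

/-- Let `σ : Γ →* Q` be a finite stem extension of the finite group `Q` such that every homomorphism from `Q` to the quotient of `GL n ℂ` by its centre, for every `n`, lifts along `σ` to a homomorphism `Γ →* GL n ℂ`. Then `σ` is a Schur covering group of `Q`: for every finite stem extension `τ : Δ →* Q` with `Δ` in the same universe as `Q`, the kernel of `τ` is a homomorphic image of the kernel of `σ`. -/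
theorem result {Q : Type u} [Group Q] [Finite Q] {Γ : Type v} [Group Γ] [Finite Γ] (σ : Γ →* Q) (hσ : Cfsg.IsStemExtension σ) (hlift : ∀ (n : ℕ) (γ : Q →* (GL (Fin n) ℂ ⧸ Subgroup.center (GL (Fin n) ℂ))), ∃ ρ : Γ →* GL (Fin n) ℂ, (QuotientGroup.mk' (Subgroup.center (GL (Fin n) ℂ))).comp ρ = γ.comp σ) (Δ : Type u) [Group Δ] [Finite Δ] (τ : Δ →* Q) (hτ : Cfsg.IsStemExtension τ) : ∃ π : σ.ker →* τ.ker, Function.Surjective π := by
  obtain ⟨ψ, hψ⟩ := Cfsg.Agent.ProjExt.Schur.exists_lift (π := Cfsg.Agent.ProjExt.Schur.std Q) σ hσ.2.1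
    (MonoidHom.id Q) (fun q _ => (hσ.1 q).elim fun x hx => ⟨x, hx⟩)
  have hmap := Cfsg.Agent.ProjExt.Schur.map_mult_eq_ker (Cfsg.Agent.ProjExt.Schur.std_surjective Q) hσ Function.bijective_id hψ
  have hinj := Cfsg.Agent.ProjExt.Schur.injective_of_lifting hlift (hψ.trans (MonoidHom.id_comp _))
  obtain ⟨g, hg⟩ := Cfsg.Agent.ProjExt.Schur.exists_surjective τ hτ
  let F := (MulEquiv.subgroupCongr hmap).toMonoidHom.comp
    (ψ.subgroupMap (Cfsg.Agent.ProjExt.Schur.mult (Cfsg.Agent.ProjExt.Schur.std Q)))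
  have hF : Function.Bijective F := ⟨by
    rw [injective_iff_map_eq_one]
    rintro ⟨m, hm⟩ h
    exact Subtype.ext (hinj m hm (congrArg Subtype.val h :)),
    (MulEquiv.subgroupCongr hmap).surjective.comp (MonoidHom.subgroupMap_surjective _ _)⟩
  exact ⟨g.comp (MulEquiv.ofBijective F hF).symm.toMonoidHom, hg.comp (MulEquiv.surjective _)⟩

end Cfsg.Agent.S3956
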