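import Cfsg.Statements.S3958
import Cfsg.Agent.ProjExt.Schur
-- import your own Cfsg.Agent.* helpers here

set_option autoImplicit false
universe u v
open Cfsg

namespace Cfsg.Agent.S3958

/-- Let `σ : Γ →* Q` be a finite stem extension of the finite group `Q` with `Γ` of trivial Schur multiplier. Then `σ` is a Schur covering group of `Q`: for every finite stem extension `τ : Δ →* Q` with `Δ` in the same universe as `Q`, the kernel of `τ` is a homomorphic image of the kernel of `σ`. -/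
theorem result {Q : Type u} [Group Q] [Finite Q] {Γ : Type v} [Group Γ] [Finite Γ] (σ : Γ →* Q) (hσ : Cfsg.IsStemExtension σ) (hΓ : Cfsg.HasCyclicSchurMultiplier Γ 1) (Δ : Type u) [Group Δ] [Finite Δ] (τ : Δ →* Q) (hτ : Cfsg.IsStemExtension τ) : ∃ π : σ.ker →* τ.ker, Function.Surjective π := by
  obtain ⟨Γ₀, i₀, j₀, σ₀, hσ₀, ⟨e⟩, β, hβ, hβσ⟩ := Cfsg.Agent.ProjExt.Schur.exists_cover_over σ hσ
  have hker : β.ker ≤ σ₀.ker := fun x hx => by
    rw [MonoidHom.mem_ker, ← hβσ, MonoidHom.comp_apply, MonoidHom.mem_ker.mp hx, map_one]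
  have hst : Cfsg.IsStemExtension β := ⟨hβ, hker.trans hσ₀.2.1, hker.trans hσ₀.2.2⟩
  obtain ⟨eΓ⟩ := Cfsg.Agent.ProjExt.Schur.equiv_of_hasSchurMultiplier hΓ
  obtain ⟨f, hf⟩ := Cfsg.Agent.ProjExt.Schur.exists_surjective β hst
  have hinj : Function.Injective β := by
    rw [← MonoidHom.ker_eq_bot_iff, Subgroup.eq_bot_iff_forall]
    intro x hx
    obtain ⟨m, hm⟩ := hf ⟨x, hx⟩
    have h1 : m = 1 := eΓ.injective (Subsingleton.elim _ _)
    rw [h1, map_one] at hm
    exact (congrArg Subtype.val hm).symm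
  obtain ⟨g, hg⟩ := Cfsg.Agent.ProjExt.Schur.exists_surjective τ hτ
  have hmap : σ₀.ker.map β = σ.ker := by
    ext y
    constructor
    · rintro ⟨x, hx, rfl⟩
      rw [MonoidHom.mem_ker, ← MonoidHom.comp_apply, hβσ]
      exact hx
    · intro hy
      obtain ⟨x, rfl⟩ := hβ y
      exact ⟨x, by rw [SetLike.mem_coe, MonoidHom.mem_ker, ← hβσ]; exact hy, rfl⟩
  let f0 : σ.ker ≃* Cfsg.Agent.ProjExt.Schur.mult (Cfsg.Agent.ProjExt.Schur.std Q) :=
    ((MulEquiv.subgroupCongr hmap).symm.trans (σ₀.ker.equivMapOfInjective β hinj).symm).trans e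
  exact ⟨g.comp f0.toMonoidHom, hg.comp f0.surjective⟩

end Cfsg.Agent.S3958
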