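import Cfsg.Statements.S3959
import Cfsg.Agent.ProjExt.SchurProd
import Mathlib.GroupTheory.FiniteAbelian.Basic
import Mathlib.RingTheory.TensorProduct.Finite
import Mathlib.Algebra.Group.MinimalAxioms
-- import your own Cfsg.Agent.* helpers here

set_option autoImplicit false
universe u v w
open Cfsg

namespace Cfsg.Agent.S3959

open scoped commutatorElement TensorProduct

/-- A twist of a direct product by a bimultiplicative pairing. -/
structure Tw {G : Type u} {H : Type v} {T : Type w} [Group G] [Group H] [CommGroup T] (β : G →* H →* T) where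
  t : T
  x : G
  y : H

namespace Tw

variable {G : Type u} {H : Type v} {T : Type w} [Group G] [Group H] [CommGroup T] (β : G →* H →* T)

@[ext] theorem ext' {a b : Tw β} (h1 : a.t = b.t) (h2 : a.x = b.x) (h3 : a.y = b.y) : a = b := by
  cases a; cases b; cases h1; cases h2; cases h3; rfl

instance : Mul (Tw β) := ⟨fun a b => ⟨a.t * b.t * β a.x b.y, a.x * b.x, a.y * b.y⟩⟩
instance : One (Tw β) := ⟨⟨1, 1, 1⟩⟩
instance : Inv (Tw β) := ⟨fun a => ⟨a.t⁻¹ * β a.x a.y, a.x⁻¹, a.y⁻¹⟩⟩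

@[simp] theorem mul_t (a b : Tw β) : (a * b).t = a.t * b.t * β a.x b.y := rfl
@[simp] theorem mul_x (a b : Tw β) : (a * b).x = a.x * b.x := rfl
@[simp] theorem mul_y (a b : Tw β) : (a * b).y = a.y * b.y := rfl
@[simp] theorem one_t : (1 : Tw β).t = 1 := rfl
@[simp] theorem one_x : (1 : Tw β).x = 1 := rfl
@[simp] theorem one_y : (1 : Tw β).y = 1 := rfl
@[simp] theorem inv_t (a : Tw β) : a⁻¹.t = a.t⁻¹ * β a.x a.y := rfl
@[simp] theorem inv_x (a : Tw β) : a⁻¹.x = a.x⁻¹ := rfl
@[simp] theorem inv_y (a : Tw β) : a⁻¹.y = a.y⁻¹ := rfl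

instance : Group (Tw β) :=
  Group.ofLeftAxioms
    (fun a b c => ext' β (by simp [mul_comm, mul_assoc, mul_left_comm])
      (mul_assoc a.x b.x c.x) (mul_assoc a.y b.y c.y))
    (fun a => ext' β (by simp) (one_mul a.x) (one_mul a.y))
    (fun a => ext' β (by
      simp only [mul_t, inv_t, inv_x, one_t, map_inv, MonoidHom.inv_apply]
      rw [mul_right_comm a.t⁻¹, inv_mul_cancel, one_mul, mul_inv_cancel]) (inv_mul_cancel a.x) (inv_mul_cancel a.y))

theorem finite [Finite G] [Finite H] [Finite T] : Finite (Tw β) :=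
  Finite.of_injective (fun a => (a.t, a.x, a.y)) fun a b h => by
    simp only [Prod.mk.injEq] at h
    exact ext' β h.1 h.2.1 h.2.2

def inX : G →* Tw β := MonoidHom.mk' (fun g => ⟨1, g, 1⟩) fun g g' => ext' β (by simp) rfl (one_mul 1).symm

def inY : H →* Tw β := MonoidHom.mk' (fun h => ⟨1, 1, h⟩) fun h h' => ext' β (by simp) (one_mul 1).symm rfl

def inT : T →* Tw β := MonoidHom.mk' (fun t => ⟨t, 1, 1⟩) fun t t' => ext' β (by simp) (one_mul 1).symm (one_mul 1).symm

def proj {G' H' : Type*} [Group G'] [Group H'] (σ : G →* G') (ρ : H →* H') : Tw β →* G' × H' :=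
  MonoidHom.mk' (fun a => (σ a.x, ρ a.y)) fun a b => by simp

theorem comm_inX_inY (g : G) (h : H) : ⁅inX β g, inY β h⁆ = inT β (β g h) := by
  rw [commutatorElement_def, mul_inv_eq_iff_eq_mul, mul_inv_eq_iff_eq_mul]
  refine ext' β ?_ ?_ ?_ <;> simp [inX, inY, inT]

end Tw

open Cfsg.Agent.ProjExt.Schur in
theorem part2 {Q₁ : Type u} {Q₂ : Type v} [Group Q₁] [Group Q₂] [Finite Q₁] [Finite Q₂] {A B : Type*} [CommGroup A] [CommGroup B]
    (hA : Cfsg.HasSchurMultiplier Q₁ A) (hB : Cfsg.HasSchurMultiplier Q₂ B)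
    {Δ : Type*} [Group Δ] (τ : Δ →* Q₁ × Q₂) (hτ : Cfsg.IsStemExtension τ) :
    ∃ f : A × B × Multiplicative (TensorProduct ℤ (Additive (Abelianization Q₁)) (Additive (Abelianization Q₂))) →* τ.ker,
      Function.Surjective f := by
  have hrng : τ.range = ⊤ := MonoidHom.range_eq_top.2 hτ.1
  obtain ⟨ψ₁, h₁⟩ := exists_lift (π := std Q₁) τ hτ.2.1 (MonoidHom.inl Q₁ Q₂) (by rw [hrng]; exact le_top)
  obtain ⟨ψ₂, h₂⟩ := exists_lift (π := std Q₂) τ hτ.2.1 (MonoidHom.inr Q₁ Q₂) (by rw [hrng]; exact le_top)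
  haveI : IsMulCommutative τ.ker :=
    ⟨⟨fun a b => Subtype.ext (Subgroup.mem_center_iff.1 (hτ.2.1 b.2) a)⟩⟩
  open scoped IsMulCommutative in
  obtain ⟨P, hP⟩ := exists_pairing h₁ h₂ hτ.2.1 (std_surjective Q₁) (std_surjective Q₂)
  open scoped IsMulCommutative in
  let Pa : Additive (Abelianization Q₁) →+ Additive (Abelianization Q₂) →+ Additive τ.ker :=
    AddMonoidHom.mk' (fun a => MonoidHom.toAdditive (P a.toMul)) fun a a' => by
      ext b; simp
  open scoped IsMulCommutative in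
  let f3 : Multiplicative (TensorProduct ℤ (Additive (Abelianization Q₁)) (Additive (Abelianization Q₂))) →* τ.ker :=
    AddMonoidHom.toMultiplicativeLeft (TensorProduct.liftAddHom Pa fun n a b => by
      simp only [map_zsmul, AddMonoidHom.zsmul_apply])
  obtain ⟨eA⟩ := equiv_of_hasSchurMultiplier hA
  obtain ⟨eB⟩ := equiv_of_hasSchurMultiplier hB
  open scoped IsMulCommutative in
  let f1 : A →* τ.ker := ((ψ₁.comp (mult (std Q₁)).subtype).codRestrict τ.ker fun m => by
    show τ (ψ₁ m) = 1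
    rw [show τ (ψ₁ m) = (proj (std Q₁) m, 1) from DFunLike.congr_fun h₁ _,
      show proj (std Q₁) m = 1 from m.2.1]; rfl).comp eA.symm.toMonoidHom
  open scoped IsMulCommutative in
  let f2 : B →* τ.ker := ((ψ₂.comp (mult (std Q₂)).subtype).codRestrict τ.ker fun m => by
    show τ (ψ₂ m) = 1
    rw [show τ (ψ₂ m) = (1, proj (std Q₂) m) from DFunLike.congr_fun h₂ _,
      show proj (std Q₂) m = 1 from m.2.1]; rfl).comp eB.symm.toMonoidHom
  open scoped IsMulCommutative in
  refine ⟨MonoidHom.coprod f1 (MonoidHom.coprod f2 f3), fun k => ?_⟩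
  obtain ⟨m₁, hm₁, m₂, hm₂, c, hc, e⟩ := exists_mul_mul_closure (std_surjective Q₁) (std_surjective Q₂) hτ h₁ h₂ k.2
  open scoped IsMulCommutative in
  have hc' : c ∈ f3.range.map τ.ker.subtype := by
    refine (Subgroup.closure_le _).2 ?_ hc
    rintro _ ⟨⟨x, y⟩, rfl⟩
    refine ⟨_, ⟨Multiplicative.ofAdd (Additive.ofMul (Abelianization.of (proj _ x)) ⊗ₜ[ℤ]
      Additive.ofMul (Abelianization.of (proj _ y))), rfl⟩, ?_⟩
    show _ = ⁅ψ₁ x, ψ₂ y⁆
    rw [← hP x y]; rfl
  obtain ⟨_, ⟨t, rfl⟩, ht⟩ := hc'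
  refine ⟨(eA ⟨m₁, hm₁⟩, eB ⟨m₂, hm₂⟩, t), Subtype.ext ?_⟩
  show ψ₁ ((eA.symm (eA ⟨m₁, hm₁⟩) : mult (std Q₁)) : E (std Q₁)) *
    (ψ₂ ((eB.symm (eB ⟨m₂, hm₂⟩) : mult (std Q₂)) : E (std Q₂)) * τ.ker.subtype (f3 t)) = k
  rw [MulEquiv.symm_apply_apply, MulEquiv.symm_apply_apply, ht, e, mul_assoc]

open scoped TensorProduct in
theorem part1 {Q₁ : Type u} {Q₂ : Type v} [Group Q₁] [Group Q₂] [Finite Q₁] [Finite Q₂] {A B : Type w} [CommGroup A] [CommGroup B]
    (hA : Cfsg.HasSchurMultiplier Q₁ A) (hB : Cfsg.HasSchurMultiplier Q₂ B) :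
    ∃ (Γ : Type (max u v)) (_ : Group Γ) (_ : Finite Γ) (σ : Γ →* Q₁ × Q₂), Cfsg.IsStemExtension σ ∧
      Nonempty (σ.ker ≃* A × B × Multiplicative (TensorProduct ℤ (Additive (Abelianization Q₁)) (Additive (Abelianization Q₂)))) := by
  obtain ⟨Γ₁, i₁, j₁, σ₁, h₁, ⟨e₁⟩⟩ := hA.1
  obtain ⟨Γ₂, i₂, j₂, σ₂, h₂, ⟨e₂⟩⟩ := hB.1
  let β : Γ₁ →* Γ₂ →* Multiplicative (Additive (Abelianization Q₁) ⊗[ℤ] Additive (Abelianization Q₂)) :=
    MonoidHom.mk' (fun x => MonoidHom.mk'
      (fun y => Multiplicative.ofAdd (Additive.ofMul (Abelianization.of (σ₁ x)) ⊗ₜ[ℤ] Additive.ofMul (Abelianization.of (σ₂ y))))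
      fun y y' => by rw [map_mul, map_mul, ofMul_mul, TensorProduct.tmul_add, ofAdd_add])
      fun x x' => MonoidHom.ext fun y => by
        show Multiplicative.ofAdd (Additive.ofMul (Abelianization.of (σ₁ (x * x'))) ⊗ₜ[ℤ] Additive.ofMul (Abelianization.of (σ₂ y))) =
          Multiplicative.ofAdd (Additive.ofMul (Abelianization.of (σ₁ x)) ⊗ₜ[ℤ] Additive.ofMul (Abelianization.of (σ₂ y))) *
          Multiplicative.ofAdd (Additive.ofMul (Abelianization.of (σ₁ x')) ⊗ₜ[ℤ] Additive.ofMul (Abelianization.of (σ₂ y)))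
        rw [map_mul, map_mul, ofMul_mul, TensorProduct.add_tmul, ofAdd_add]
  have : Finite (Abelianization Q₁) := Finite.of_surjective Abelianization.of QuotientGroup.mk_surjective
  have : Finite (Abelianization Q₂) := Finite.of_surjective Abelianization.of QuotientGroup.mk_surjective
  have : Module.Finite ℤ (Additive (Abelianization Q₁)) :=
    have := Finite.of_equiv _ (Additive.ofMul : Abelianization Q₁ ≃ Additive (Abelianization Q₁))
    Module.Finite.of_finite
  have : Module.Finite ℤ (Additive (Abelianization Q₂)) :=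
    have := Finite.of_equiv _ (Additive.ofMul : Abelianization Q₂ ≃ Additive (Abelianization Q₂))
    Module.Finite.of_finite
  have hfin : Finite (Additive (Abelianization Q₁) ⊗[ℤ] Additive (Abelianization Q₂)) := by
    have hfg : Module.Finite ℤ (Additive (Abelianization Q₁) ⊗[ℤ] Additive (Abelianization Q₂)) :=
      Module.Finite.tensorProduct ℤ (Additive (Abelianization Q₁)) (Additive (Abelianization Q₂))
    refine Module.finite_of_fg_torsion _ fun {t} => ?_
    refine ⟨⟨Nat.card (Abelianization Q₁), mem_nonZeroDivisors_of_ne_zero (by exact_mod_cast Nat.card_pos.ne')⟩, ?_⟩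
    show ((Nat.card (Abelianization Q₁) : ℕ) : ℤ) • t = 0
    induction t using TensorProduct.induction_on with
    | zero => exact smul_zero _
    | tmul a b =>
      rw [TensorProduct.smul_tmul', natCast_zsmul,
        show Nat.card (Abelianization Q₁) • a = 0 from Additive.toMul.injective (by rw [toMul_nsmul, pow_card_eq_one', toMul_zero]),
        TensorProduct.zero_tmul]
    | add a b ha hb => rw [smul_add, ha, hb, add_zero]
  have := Tw.finite β
  refine ⟨Tw β, inferInstance, inferInstance, Tw.proj β σ₁ σ₂, ⟨?_, ?_, ?_⟩, ?_⟩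
  · rintro ⟨a, b⟩
    obtain ⟨x, rfl⟩ := h₁.1 a
    obtain ⟨y, rfl⟩ := h₂.1 b
    exact ⟨⟨1, x, y⟩, rfl⟩
  · rintro ⟨t, k, l⟩ h
    have hk : σ₁ k = 1 := congrArg Prod.fst h
    have hl : σ₂ l = 1 := congrArg Prod.snd h
    have hk0 : ∀ y, β k y = 1 := fun y => by
      show Multiplicative.ofAdd _ = 1
      rw [hk, map_one, ofMul_one, TensorProduct.zero_tmul, ofAdd_zero]
    have hl0 : ∀ x, β x l = 1 := fun x => by
      show Multiplicative.ofAdd _ = 1
      rw [hl, map_one, ofMul_one, TensorProduct.tmul_zero, ofAdd_zero]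
    rw [Subgroup.mem_center_iff]
    intro a
    refine Tw.ext' β ?_ ?_ ?_
    · simp [hk0, hl0, mul_comm]
    · exact Subgroup.mem_center_iff.1 (h₁.2.1 hk) a.x
    · exact Subgroup.mem_center_iff.1 (h₂.2.1 hl) a.y
  · rintro ⟨t, k, l⟩ h
    have hcomX : (_root_.commutator Γ₁).map (Tw.inX β) ≤ _root_.commutator (Tw β) := by
      rw [_root_.commutator_def, _root_.commutator_def, Subgroup.map_commutator]
      exact Subgroup.commutator_mono le_top le_top
    have hcomY : (_root_.commutator Γ₂).map (Tw.inY β) ≤ _root_.commutator (Tw β) := by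
      rw [_root_.commutator_def, _root_.commutator_def, Subgroup.map_commutator]
      exact Subgroup.commutator_mono le_top le_top
    have hk : σ₁ k = 1 := congrArg Prod.fst h
    have hl : σ₂ l = 1 := congrArg Prod.snd h
    have e : (⟨t, k, l⟩ : Tw β) = Tw.inT β t * (Tw.inX β k * Tw.inY β l) := by
      have hkl : β k l = 1 := by
        show Multiplicative.ofAdd _ = 1
        rw [hk, map_one, ofMul_one, TensorProduct.zero_tmul, ofAdd_zero]
      refine Tw.ext' β ?_ ?_ ?_ <;> simp [Tw.inT, Tw.inX, Tw.inY, hkl]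
    rw [e]
    refine mul_mem ?_ (mul_mem (hcomX ⟨k, h₁.2.2 hk, rfl⟩) ?_)
    · have hT : ∀ u : Additive (Abelianization Q₁) ⊗[ℤ] Additive (Abelianization Q₂),
          Tw.inT β (Multiplicative.ofAdd u) ∈ _root_.commutator (Tw β) := fun u => by
        induction u using TensorProduct.induction_on with
        | zero => rw [ofAdd_zero, map_one]; exact one_mem _
        | tmul a b =>
          obtain ⟨q₁, hq₁⟩ := QuotientGroup.mk_surjective a.toMul
          obtain ⟨x, hx⟩ := h₁.1 q₁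
          obtain ⟨q₂, hq₂⟩ := QuotientGroup.mk_surjective b.toMul
          obtain ⟨y, hy⟩ := h₂.1 q₂
          have hab : Multiplicative.ofAdd (a ⊗ₜ[ℤ] b) = β x y := by
            show _ = Multiplicative.ofAdd (Additive.ofMul (Abelianization.of (σ₁ x)) ⊗ₜ[ℤ] Additive.ofMul (Abelianization.of (σ₂ y)))
            rw [hx, hy, show Abelianization.of q₁ = a.toMul from hq₁, show Abelianization.of q₂ = b.toMul from hq₂]
            rfl
          rw [hab, ← Tw.comm_inX_inY]
          exact Subgroup.commutator_mem_commutator (Subgroup.mem_top _) (Subgroup.mem_top _)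
        | add a b ha hb => rw [ofAdd_add, map_mul]; exact mul_mem ha hb
      exact hT t.toAdd
    · exact hcomY ⟨l, h₂.2.2 hl, rfl⟩
  · refine ⟨MulEquiv.mk ⟨fun a => (e₁ ⟨a.1.x, congrArg Prod.fst a.2⟩, e₂ ⟨a.1.y, congrArg Prod.snd a.2⟩, a.1.t),
      fun p => ⟨⟨p.2.2, e₁.symm p.1, e₂.symm p.2.1⟩,
        Prod.ext (e₁.symm p.1).2 (e₂.symm p.2.1).2⟩, fun a => ?_, fun p => ?_⟩ fun a b => ?_⟩
    · refine Subtype.ext (Tw.ext' β rfl ?_ ?_) <;> simp
    · exact Prod.ext (e₁.apply_symm_apply p.1) (Prod.ext (e₂.apply_symm_apply p.2.1) rfl)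
    · have hab : β a.1.x b.1.y = 1 := by
        show Multiplicative.ofAdd _ = 1
        rw [show σ₁ a.1.x = 1 from congrArg Prod.fst a.2, map_one, ofMul_one, TensorProduct.zero_tmul, ofAdd_zero]
      refine Prod.ext ?_ (Prod.ext ?_ ?_)
      · exact e₁.map_mul ⟨a.1.x, congrArg Prod.fst a.2⟩ ⟨b.1.x, congrArg Prod.fst b.2⟩
      · exact e₂.map_mul ⟨a.1.y, congrArg Prod.snd a.2⟩ ⟨b.1.y, congrArg Prod.snd b.2⟩
      · show a.1.t * b.1.t * β a.1.x b.1.y = a.1.t * b.1.t
        rw [hab, mul_one]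



/-- Let `Q₁` and `Q₂` be finite groups with Schur multipliers `A` and `B`. Then the Schur multiplier of `Q₁ × Q₂` is isomorphic to `A × B × (Q₁ᵃᵇ ⊗ Q₂ᵃᵇ)`, the last factor being the tensor product over the integers of the commutator quotients, written multiplicatively. -/
theorem result {Q₁ : Type u} {Q₂ : Type v} [Group Q₁] [Group Q₂] [Finite Q₁] [Finite Q₂] {A B : Type w} [CommGroup A] [CommGroup B] (hA : Cfsg.HasSchurMultiplier Q₁ A) (hB : Cfsg.HasSchurMultiplier Q₂ B) : Cfsg.HasSchurMultiplier (Q₁ × Q₂) (A × B × Multiplicative (TensorProduct ℤ (Additive (Abelianization Q₁)) (Additive (Abelianization Q₂)))) := by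
  exact ⟨part1 hA hB, fun Δ _ _ τ hτ => part2 hA hB τ hτ⟩

end Cfsg.Agent.S3959
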