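import Cfsg.Statements.S3960
import Cfsg.Agent.ProjExt.Schur
import Mathlib.GroupTheory.IsPerfect
-- import your own Cfsg.Agent.* helpers here

set_option autoImplicit false
universe u
open Cfsg

namespace Cfsg.Agent.S3960

universe v w

open Subgroup in
/-- Homomorphisms from a perfect group which agree modulo a central kernel are equal. -/
theorem eq_of_perfect {G : Type v} [Group G] {X : Type w} [Group X] {Q : Type*} [Group Q]
    (hG : _root_.commutator G = ⊤) (ξ : X →* Q) (hc : ξ.ker ≤ center X) (η η' : G →* X)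
    (h : ∀ g, ξ (η g) = ξ (η' g)) : η = η' := by
  have hd : ∀ g, (η g)⁻¹ * η' g ∈ center X := fun g => hc (by
    rw [MonoidHom.mem_ker, map_mul, map_inv, h, inv_mul_cancel])
  let d : G →* center X := MonoidHom.mk' (fun g => ⟨_, hd g⟩) fun a b => by
    apply Subtype.ext
    show (η (a * b))⁻¹ * η' (a * b) = (η a)⁻¹ * η' a * ((η b)⁻¹ * η' b)
    rw [map_mul, map_mul, mul_inv_rev]
    calc (η b)⁻¹ * (η a)⁻¹ * (η' a * η' b) = (η b)⁻¹ * ((η a)⁻¹ * η' a) * η' b := by group
      _ = (η a)⁻¹ * η' a * (η b)⁻¹ * η' b := by rw [mem_center_iff.mp (hd a) (η b)⁻¹]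
      _ = _ := by group
  have hle : _root_.commutator G ≤ d.ker := by
    rw [_root_.commutator_def, commutator_le]
    intro a _ b _
    rw [MonoidHom.mem_ker, map_commutatorElement, commutatorElement_eq_one_iff_commute]
    exact Subtype.ext (mem_center_iff.mp (d b).2 (d a : X))
  refine MonoidHom.ext fun g => ?_
  have h1 : d g = 1 := hle (by rw [hG]; exact mem_top g)
  have h2 : (η g)⁻¹ * η' g = 1 := congrArg Subtype.val h1
  exact inv_mul_eq_one.mp h2

open Subgroup in
/-- The derived group of the universal extension of a perfect group. -/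
theorem perfect_data {Q : Type v} [Group Q] (hQ : _root_.commutator Q = ⊤) :
    Group.IsPerfect (_root_.commutator (Cfsg.Agent.ProjExt.Schur.E (Cfsg.Agent.ProjExt.Schur.std Q))) ∧
      Function.Surjective ((Cfsg.Agent.ProjExt.Schur.proj (Cfsg.Agent.ProjExt.Schur.std Q)).comp
        (_root_.commutator (Cfsg.Agent.ProjExt.Schur.E (Cfsg.Agent.ProjExt.Schur.std Q))).subtype) := by
  set p := Cfsg.Agent.ProjExt.Schur.proj (Cfsg.Agent.ProjExt.Schur.std Q)
  have hp : Function.Surjective p := Cfsg.Agent.ProjExt.Schur.proj_surjective _ (Cfsg.Agent.ProjExt.Schur.std_surjective Q)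
  set G := _root_.commutator (Cfsg.Agent.ProjExt.Schur.E (Cfsg.Agent.ProjExt.Schur.std Q))
  have hs : Function.Surjective (p.comp G.subtype) := by
    rw [← MonoidHom.range_eq_top, MonoidHom.range_comp, range_subtype]
    show (_root_.commutator _).map p = ⊤
    rw [_root_.commutator_def, Subgroup.map_commutator, Subgroup.map_top_of_surjective p hp, ← _root_.commutator_def, hQ]
  refine ⟨Group.isPerfect_def.mpr ?_, hs⟩
  apply Subgroup.map_injective G.subtype_injective
  rw [← MonoidHom.range_eq_map, range_subtype]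
  exact le_antisymm (map_subtype_le _)
    (Cfsg.Agent.ProjExt.Schur.commutator_le_range (τ := p) G.subtype
      (Cfsg.Agent.ProjExt.Schur.ker_le_center _) hs)



/-- A finite perfect group `Q` has a universal central extension: a finite perfect group `G` in the universe of `Q` and a surjective homomorphism `π : G →* Q` with central kernel such that for every group `X` in that universe and every surjective homomorphism `ξ : X →* Q` with central kernel there is exactly one homomorphism `η : G →* X` with `ξ ∘ η = π`. -/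
theorem result {Q : Type u} [Group Q] [Finite Q] (hQ : Group.IsPerfect Q) : ∃ (G : Type u) (_ : Group G) (_ : Finite G) (π : G →* Q), Group.IsPerfect G ∧ Function.Surjective π ∧ π.ker ≤ Subgroup.center G ∧ ∀ (X : Type u) [Group X] (ξ : X →* Q), Function.Surjective ξ → ξ.ker ≤ Subgroup.center X → ∃! η : G →* X, ξ.comp η = π := by
  obtain ⟨hperf, hs⟩ := perfect_data (Group.isPerfect_def.mp hQ)
  set E' := commutator (Cfsg.Agent.ProjExt.Schur.E (Cfsg.Agent.ProjExt.Schur.std Q))
  have hfin : Finite E' := Cfsg.Agent.ProjExt.Schur.finite_commutator _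
  refine ⟨E', inferInstance, hfin, (Cfsg.Agent.ProjExt.Schur.proj _).comp E'.subtype, hperf, hs, ?_, ?_⟩
  · intro x hx
    rw [Subgroup.mem_center_iff]
    intro y
    exact Subtype.ext (Subgroup.mem_center_iff.mp (Cfsg.Agent.ProjExt.Schur.ker_le_center _ hx) (y : Cfsg.Agent.ProjExt.Schur.E _))
  · intro X _ ξ hξ hc
    obtain ⟨ψ, hψ⟩ := Cfsg.Agent.ProjExt.Schur.exists_lift (π := Cfsg.Agent.ProjExt.Schur.std Q) ξ hc
      (MonoidHom.id Q) (fun q _ => (hξ q).elim fun x hx => ⟨x, hx⟩)
    refine ⟨ψ.comp E'.subtype, ?_, fun η hη => ?_⟩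
    · show ξ.comp (ψ.comp E'.subtype) = _
      rw [← MonoidHom.comp_assoc, hψ, MonoidHom.id_comp]
    · exact eq_of_perfect (Group.isPerfect_def.mp hperf) ξ hc η _ fun g =>
        ((DFunLike.congr_fun hη g).trans (DFunLike.congr_fun hψ (g : Cfsg.Agent.ProjExt.Schur.E _)).symm)

end Cfsg.Agent.S3960
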