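import Cfsg.Statements.S3962
-- import your own Cfsg.Agent.* helpers here

set_option autoImplicit false
open Cfsg

namespace Cfsg.Agent.S3962

/-- Let `G` be a perfect group and `π : G →* Q` a surjective homomorphism whose kernel is central. Then `π` maps the centre of `G` onto the centre of `Q`. Taking `π` to be the map to `G ⧸ Z(G)` shows that the central quotient of a perfect group has trivial centre. -/
theorem result {G Q : Type*} [Group G] [Group Q] (hG : Group.IsPerfect G) (π : G →* Q) (hπ : Function.Surjective π) (hker : π.ker ≤ Subgroup.center G) : (Subgroup.center G).map π = Subgroup.center Q := by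
  refine le_antisymm ?_ fun q hq => ?_
  · rintro _ ⟨z, hz, rfl⟩
    rw [Subgroup.mem_center_iff]
    intro q
    obtain ⟨g, rfl⟩ := hπ q
    rw [← map_mul, ← map_mul, Subgroup.mem_center_iff.mp hz g]
  · obtain ⟨x, rfl⟩ := hπ q
    have hk : ∀ g, x * g * x⁻¹ * g⁻¹ ∈ Subgroup.center G := fun g => hker (by
      rw [MonoidHom.mem_ker, map_mul, map_mul, map_mul, map_inv, map_inv,
        ← Subgroup.mem_center_iff.mp hq (π g), mul_inv_cancel_right, mul_inv_cancel])
    let h : G →* Subgroup.center G := MonoidHom.mk' (fun g => ⟨x * g * x⁻¹ * g⁻¹, hk g⟩) fun a b => by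
      apply Subtype.ext
      show x * (a * b) * x⁻¹ * (a * b)⁻¹ = (x * a * x⁻¹ * a⁻¹) * (x * b * x⁻¹ * b⁻¹)
      have h1 := Subgroup.mem_center_iff.mp (hk b) a
      calc x * (a * b) * x⁻¹ * (a * b)⁻¹ = (x * a * x⁻¹) * (x * b * x⁻¹ * b⁻¹) * a⁻¹ := by group
        _ = (x * a * x⁻¹) * ((x * b * x⁻¹ * b⁻¹) * a⁻¹) := by rw [mul_assoc]
        _ = (x * a * x⁻¹) * (a⁻¹ * (x * b * x⁻¹ * b⁻¹)) := by
          rw [(show Commute a (x * b * x⁻¹ * b⁻¹) from h1).symm.inv_right.eq]
        _ = _ := by group
    have htop : commutator G = ⊤ := Group.isPerfect_def.mp hG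
    have hle : commutator G ≤ h.ker := by
      rw [commutator_def, Subgroup.commutator_le]
      intro a _ b _
      rw [MonoidHom.mem_ker, map_commutatorElement, commutatorElement_eq_one_iff_commute]
      exact Subtype.ext (Subgroup.mem_center_iff.mp (h b).2 (h a : G))
    have htriv : ∀ g, h g = 1 := fun g => by
      have hg : g ∈ commutator G := by rw [htop]; exact Subgroup.mem_top g
      exact MonoidHom.mem_ker.mp (hle hg)
    refine ⟨x, Subgroup.mem_center_iff.mpr fun g => ?_, rfl⟩
    have h2 : x * g * x⁻¹ * g⁻¹ = 1 := congrArg Subtype.val (htriv g)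
    calc g * x = (x * g * x⁻¹ * g⁻¹) * g * x := by rw [h2, one_mul]
      _ = x * g := by group

end Cfsg.Agent.S3962
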