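import Cfsg.Statements.S3961
import Cfsg.Agent.ProjExt.Schur
import Cfsg.Agent.ProjExt.Stem
import Cfsg.Agent.S3962
import Cfsg.Agent.S3960
-- import your own Cfsg.Agent.* helpers here

set_option autoImplicit false
universe u v
open Cfsg

namespace Cfsg.Agent.S3961

/-- Let `π : G →* Q` be a surjective homomorphism with central kernel from a finite perfect group `G` (a perfect cover of `Q`). Then `π` is universal, in the sense that every surjective homomorphism `ξ : X →* Q` with central kernel from a group `X` in the universe of `G` admits a homomorphism `η : G →* X` with `ξ ∘ η = π`, if and only if `G` has trivial Schur multiplier. -/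
theorem result {G : Type u} {Q : Type v} [Group G] [Group Q] [Finite G] (hG : Group.IsPerfect G) (π : G →* Q) (hπ : Function.Surjective π) (hker : π.ker ≤ Subgroup.center G) : (∀ (X : Type u) [Group X] (ξ : X →* Q), Function.Surjective ξ → ξ.ker ≤ Subgroup.center X → ∃ η : G →* X, ξ.comp η = π) ↔ Cfsg.HasCyclicSchurMultiplier G 1 := by
  have hGc : commutator G = ⊤ := Group.isPerfect_def.mp hG
  constructor
  · intro h
    refine Cfsg.Agent.ProjExt.Stem.hasCyclicSchurMultiplier_one fun Γ _ _ τ hτ => ?_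
    have hΓ : commutator Γ = ⊤ := by
      rw [eq_top_iff]
      intro x _
      have h1 : τ x ∈ (commutator Γ).map τ := by
        rw [commutator_def, Subgroup.map_commutator, Subgroup.map_top_of_surjective τ hτ.1, ← commutator_def, hGc]
        exact Subgroup.mem_top _
      obtain ⟨y, hy, hxy⟩ := h1
      rw [show x = y * (y⁻¹ * x) by group]
      exact mul_mem hy (hτ.2.2 (by rw [MonoidHom.mem_ker, map_mul, map_inv, hxy, inv_mul_cancel]))
    have hc : (π.comp τ).ker ≤ Subgroup.center Γ := fun x hx => by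
      have hτx : τ x ∈ Subgroup.center G := hker hx
      have := Cfsg.Agent.S3962.result (Group.isPerfect_def.mpr hΓ) τ hτ.1 hτ.2.1
      rw [← this] at hτx
      obtain ⟨z, hz, hzx⟩ := hτx
      rw [show x = z * (z⁻¹ * x) by group]
      exact mul_mem hz (hτ.2.1 (by rw [MonoidHom.mem_ker, map_mul, map_inv, hzx, inv_mul_cancel]))
    obtain ⟨η, hη⟩ := h Γ (π.comp τ) (hπ.comp hτ.1) hc
    have hid : τ.comp η = MonoidHom.id G := Cfsg.Agent.S3960.eq_of_perfect hGc π hker _ _ fun g =>
      DFunLike.congr_fun hη g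
    have hle := hτ.2.2.trans (Cfsg.Agent.ProjExt.Schur.commutator_le_range (τ := τ) η hτ.2.1 (fun g => ⟨g, by rw [hid]; rfl⟩))
    rw [Subgroup.eq_bot_iff_forall]
    intro x hx
    obtain ⟨g, -, rfl⟩ := hle hx
    have : g = 1 := by
      rw [← show τ (η g) = g from DFunLike.congr_fun hid g]
      exact hx
    rw [this, map_one]
  · intro h X _ ξ hξ hc
    obtain ⟨e⟩ := Cfsg.Agent.ProjExt.Schur.equiv_of_hasSchurMultiplier h
    obtain ⟨-, hs⟩ := Cfsg.Agent.S3960.perfect_data hGc
    set p := (Cfsg.Agent.ProjExt.Schur.proj (Cfsg.Agent.ProjExt.Schur.std G)).comp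
      (commutator (Cfsg.Agent.ProjExt.Schur.E (Cfsg.Agent.ProjExt.Schur.std G))).subtype
    have hinj : Function.Injective p := by
      rw [injective_iff_map_eq_one]
      intro x hx
      have h1 : (⟨(x : Cfsg.Agent.ProjExt.Schur.E (Cfsg.Agent.ProjExt.Schur.std G)), hx, x.2⟩ :
          Cfsg.Agent.ProjExt.Schur.mult (Cfsg.Agent.ProjExt.Schur.std G)) = 1 := e.injective (Subsingleton.elim _ _)
      exact Subtype.ext (congrArg (fun z : Cfsg.Agent.ProjExt.Schur.mult _ =>
        (z : Cfsg.Agent.ProjExt.Schur.E (Cfsg.Agent.ProjExt.Schur.std G))) h1)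
    obtain ⟨ψ, hψ⟩ := Cfsg.Agent.ProjExt.Schur.exists_lift (π := Cfsg.Agent.ProjExt.Schur.std G) ξ hc π
      (fun q _ => (hξ q).elim fun x hx => ⟨x, hx⟩)
    let q := MulEquiv.ofBijective p ⟨hinj, hs⟩
    refine ⟨(ψ.comp (commutator _).subtype).comp q.symm.toMonoidHom, MonoidHom.ext fun g => ?_⟩
    show ξ (ψ (q.symm g : Cfsg.Agent.ProjExt.Schur.E _)) = π g
    rw [show ξ (ψ (q.symm g : Cfsg.Agent.ProjExt.Schur.E _)) = π (p (q.symm g)) from DFunLike.congr_fun hψ _]
    exact congrArg π (q.apply_symm_apply g)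

end Cfsg.Agent.S3961
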