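import Cfsg.Statements.S3964
import Cfsg.Agent.ProjExt.Stem
import Mathlib.GroupTheory.SpecificGroups.Dihedral
import Mathlib.RingTheory.Int.Basic
-- import your own Cfsg.Agent.* helpers here

set_option autoImplicit false
open Cfsg

namespace Cfsg.Agent.S3964

open Subgroup in
/-- Two lifts inverting modulo the centre: the commutator spans the derived subgroup. -/
theorem inverting_lifts {Γ : Type*} [Group Γ] {a b : Γ} (hgen : closure ({a, b} : Set Γ) ⊔ center Γ = ⊤)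
    (hk : b * a * b⁻¹ * a ∈ center Γ) :
    commutator Γ ≤ zpowers (b * a * b⁻¹ * a⁻¹) ∧
    (∀ j : ℤ, (b * a * b⁻¹ * a⁻¹) ^ j ∈ center Γ → ((b * a * b⁻¹ * a⁻¹) ^ j) ^ 2 = 1) ∧
    (∀ n : ℕ, Commute b (a ^ n) → (b * a * b⁻¹ * a⁻¹) ^ n = 1) := by
  set k := b * a * b⁻¹ * a with hkdef
  set c := b * a * b⁻¹ * a⁻¹ with hc
  have hkc : ∀ x, x * k = k * x := mem_center_iff.mp hk
  have hck : c = k * (a⁻¹) ^ 2 := by rw [hc, hkdef, pow_two]; group
  have hba : b * a * b⁻¹ = k * a⁻¹ := by rw [hkdef]; group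
  have hac : Commute a c := by
    rw [hck]
    exact (show Commute a k from hkc a).mul_right ((Commute.refl a).inv_right.pow_right 2)
  have hbc : b * c * b⁻¹ = c⁻¹ := by
    rw [hck, mul_inv_rev, inv_pow, inv_inv]
    calc b * (k * (a ^ 2)⁻¹) * b⁻¹ = (b * k * b⁻¹) * ((b * a * b⁻¹) ^ 2)⁻¹ := by rw [conj_pow]; group
      _ = k * ((k * a⁻¹) ^ 2)⁻¹ := by rw [hkc b, mul_inv_cancel_right, hba]
      _ = k * ((k⁻¹) ^ 2 * a ^ 2) := by
          rw [(show Commute k a⁻¹ from ((show Commute a k from hkc a).symm.inv_right)).mul_pow, mul_inv_rev,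
            inv_pow a, inv_inv, inv_pow k]
          congr 1
          exact ((show Commute a k from hkc a).pow_pow 2 2).inv_right.eq
      _ = k⁻¹ * a ^ 2 := by group
      _ = a ^ 2 * k⁻¹ := ((show Commute a k from hkc a).symm.inv_left.pow_right 2).eq
  have hbci : b⁻¹ * c * b = c⁻¹ := by
    have h1 : b⁻¹ * (b * c * b⁻¹) * b = c := by group
    rw [hbc] at h1
    have h2 := congrArg Inv.inv h1
    rw [mul_inv_rev, mul_inv_rev, inv_inv, inv_inv, ← mul_assoc] at h2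
    exact h2
  refine ⟨Cfsg.Agent.ProjExt.Stem.commutator_le_zpowers hgen ⟨c, mem_zpowers c, rfl⟩ ?_ ?_ ?_ ?_, ?_, ?_⟩
  · rw [hac.eq, mul_inv_cancel_right]; exact mem_zpowers c
  · rw [(hac.inv_left).eq, inv_mul_cancel_right]; exact mem_zpowers c
  · rw [hbc]; exact inv_mem (mem_zpowers c)
  · rw [hbci]; exact inv_mem (mem_zpowers c)
  · intro j hj
    have h1 : b * c ^ j * b⁻¹ = c ^ j := by rw [mem_center_iff.mp hj b, mul_inv_cancel_right]
    rw [← conj_zpow, hbc, inv_zpow] at h1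
    rw [pow_two]
    nth_rewrite 1 [← h1]
    exact inv_mul_cancel _
  · intro n hn
    have h1 : (b * a * b⁻¹) ^ n = a ^ n := by rw [conj_pow, hn.eq, mul_inv_cancel_right]
    rw [hba, (show Commute k a⁻¹ from ((show Commute a k from hkc a).symm.inv_right)).mul_pow,
      inv_pow] at h1
    have h2 : k ^ n = a ^ n * a ^ n := mul_inv_eq_iff_eq_mul.mp h1
    rw [hck, (((show Commute a k from hkc a).symm.inv_right).pow_right 2).mul_pow, h2, ← pow_mul,
      inv_pow, mul_comm 2 n, pow_mul, pow_two]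
    group

open Subgroup in
/-- The lifts of the standard generators of a dihedral group. -/
theorem dihedral_lifts {n : ℕ} {Γ : Type*} [Group Γ] (σ : Γ →* DihedralGroup n)
    (hσ : Cfsg.IsStemExtension σ) :
    ∃ c : Γ, σ.ker ≤ zpowers c ∧ c ^ n = 1 ∧ (∀ j : ℤ, c ^ j ∈ σ.ker → (n : ℤ) ∣ 2 * j) ∧
      (∀ j : ℤ, c ^ j ∈ σ.ker → (c ^ j) ^ 2 = 1) := by
  obtain ⟨a, ha⟩ := hσ.1 (DihedralGroup.r 1)
  obtain ⟨b, hb⟩ := hσ.1 (DihedralGroup.sr 0)
  have hgen := Cfsg.Agent.ProjExt.Stem.closure_sup_center_eq_top σ hσ.2.1 (S := {a, b}) (by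
    rw [Set.image_insert_eq, Set.image_singleton, ha, hb, eq_top_iff]
    intro x _
    rcases x with i | i
    · obtain ⟨j, rfl⟩ := ZMod.intCast_surjective i
      rw [← DihedralGroup.r_one_zpow]
      exact zpow_mem (subset_closure (by simp)) j
    · obtain ⟨j, rfl⟩ := ZMod.intCast_surjective i
      rw [show DihedralGroup.sr (j : ZMod n) = DihedralGroup.sr 0 * DihedralGroup.r 1 ^ j by
        rw [DihedralGroup.r_one_zpow, DihedralGroup.sr_mul_r, zero_add]]
      exact mul_mem (subset_closure (by simp)) (zpow_mem (subset_closure (by simp)) j))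
  have hbinv : (σ b)⁻¹ = DihedralGroup.sr 0 := by
    rw [hb, inv_eq_iff_mul_eq_one, DihedralGroup.sr_mul_self]
  have hk : b * a * b⁻¹ * a ∈ center Γ := hσ.2.1 (by
    rw [MonoidHom.mem_ker, map_mul, map_mul, map_mul, map_inv, hbinv, ha, hb]
    simp [DihedralGroup.sr_mul_r, DihedralGroup.sr_mul_sr, DihedralGroup.r_mul_r])
  obtain ⟨hder, hsq, hpow⟩ := inverting_lifts hgen hk
  set c := b * a * b⁻¹ * a⁻¹ with hcdef
  have hz : a ^ n ∈ center Γ := hσ.2.1 (by
    rw [MonoidHom.mem_ker, map_pow, ha, DihedralGroup.r_one_pow_n])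
  have hainv : (σ a)⁻¹ = DihedralGroup.r (-1) := by
    rw [ha, inv_eq_iff_mul_eq_one, DihedralGroup.r_mul_r, add_neg_cancel]; rfl
  have hσc : σ c = DihedralGroup.r 1 ^ (-2 : ℤ) := by
    rw [hcdef, map_mul, map_mul, map_mul, map_inv, map_inv, hbinv, hainv, ha, hb, DihedralGroup.r_one_zpow]
    simp only [DihedralGroup.sr_mul_r, DihedralGroup.sr_mul_sr, DihedralGroup.r_mul_r]
    congr 1
    push_cast
    ring
  refine ⟨c, hσ.2.2.trans hder, hpow n (mem_center_iff.mp hz b), fun j hj => ?_, fun j hj => hsq j (hσ.2.1 hj)⟩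
  rw [MonoidHom.mem_ker, map_zpow, hσc, ← zpow_mul, ← orderOf_dvd_iff_zpow_eq_one,
    DihedralGroup.orderOf_r_one, show (-2 : ℤ) * j = -(2 * j) by ring] at hj
  exact Int.dvd_neg.mp hj



/-- For odd `n` the dihedral group of order `2 n` has trivial Schur multiplier. -/
theorem result (n : ℕ) (hn : Odd n) : Cfsg.HasCyclicSchurMultiplier (DihedralGroup n) 1 := by
  have : NeZero n := ⟨by rintro rfl; exact Nat.not_odd_zero hn⟩
  refine Cfsg.Agent.ProjExt.Stem.hasCyclicSchurMultiplier_one fun Γ _ _ σ hσ => ?_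
  obtain ⟨c, hK, hcn, hdvd, -⟩ := dihedral_lifts σ hσ
  rw [eq_bot_iff]
  intro x hx
  obtain ⟨j, rfl⟩ := hK hx
  have h1 : (n : ℤ) ∣ j := by
    have h2 := hdvd j hx
    have hco : IsCoprime (n : ℤ) 2 := by
      rw [Int.isCoprime_iff_nat_coprime]
      exact (Nat.coprime_two_right.mpr hn)
    exact hco.dvd_of_dvd_mul_left h2
  obtain ⟨i, rfl⟩ := h1
  rw [Subgroup.mem_bot]
  show c ^ ((n : ℤ) * i) = 1
  rw [zpow_mul, zpow_natCast, hcn, one_zpow]

end Cfsg.Agent.S3964
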