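import Cfsg.Statements.S3963
import Cfsg.Agent.S3964
import Mathlib.GroupTheory.SpecificGroups.Quaternion
-- import your own Cfsg.Agent.* helpers here

set_option autoImplicit false
open Cfsg

namespace Cfsg.Agent.S3963

/-- For every `n ≥ 1` the dicyclic (generalized quaternion) group of order `4 n` has trivial Schur multiplier. -/
theorem result (n : ℕ) [NeZero n] : Cfsg.HasCyclicSchurMultiplier (QuaternionGroup n) 1 := by
  refine Cfsg.Agent.ProjExt.Stem.hasCyclicSchurMultiplier_one fun Γ _ _ σ hσ => ?_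
  have : NeZero (2 * n) := ⟨by have := NeZero.ne n; omega⟩
  obtain ⟨a, ha⟩ := hσ.1 (QuaternionGroup.a 1)
  obtain ⟨b, hb⟩ := hσ.1 (QuaternionGroup.xa 0)
  have hgen := Cfsg.Agent.ProjExt.Stem.closure_sup_center_eq_top σ hσ.2.1 (S := {a, b}) (by
    rw [Set.image_insert_eq, Set.image_singleton, ha, hb, eq_top_iff]
    intro x _
    rcases x with i | i
    · rw [show QuaternionGroup.a i = QuaternionGroup.a 1 ^ i.val by
        rw [QuaternionGroup.a_one_pow, ZMod.natCast_zmod_val]]
      exact pow_mem (Subgroup.subset_closure (by simp)) _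
    · rw [show QuaternionGroup.xa i = QuaternionGroup.xa 0 * QuaternionGroup.a 1 ^ i.val by
        rw [QuaternionGroup.a_one_pow, ZMod.natCast_zmod_val, QuaternionGroup.xa_mul_a, zero_add]]
      exact mul_mem (Subgroup.subset_closure (by simp)) (pow_mem (Subgroup.subset_closure (by simp)) _))
  have hbinv : (σ b)⁻¹ = QuaternionGroup.xa (n : ZMod (2 * n)) := by
    rw [hb, inv_eq_iff_mul_eq_one, QuaternionGroup.xa_mul_xa]
    show QuaternionGroup.a _ = QuaternionGroup.a 0
    congr 1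
    rw [sub_zero, ← Nat.cast_add, show n + n = 2 * n by ring, ZMod.natCast_self]
  have hk : b * a * b⁻¹ * a ∈ Subgroup.center Γ := hσ.2.1 (by
    rw [MonoidHom.mem_ker, map_mul, map_mul, map_mul, map_inv, hbinv, ha, hb]
    simp only [QuaternionGroup.xa_mul_a, QuaternionGroup.xa_mul_xa, QuaternionGroup.a_mul_a]
    show QuaternionGroup.a _ = QuaternionGroup.a 0
    congr 1
    have h2 : ((n : ZMod (2 * n)) + (n : ZMod (2 * n))) = 0 := by
      rw [← Nat.cast_add, show n + n = 2 * n by ring, ZMod.natCast_self]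
    linear_combination h2)
  obtain ⟨hder, -, hpow⟩ := Cfsg.Agent.S3964.inverting_lifts hgen hk
  set c := b * a * b⁻¹ * a⁻¹ with hcdef
  have hbn : Commute b (a ^ n) := by
    have hk2 : (a ^ n)⁻¹ * b ^ 2 ∈ Subgroup.center Γ := hσ.2.1 (by
      rw [MonoidHom.mem_ker, map_mul, map_inv, map_pow, map_pow, ha, hb, QuaternionGroup.a_one_pow,
        QuaternionGroup.xa_sq, inv_mul_cancel])
    have h1 : Commute b ((a ^ n)⁻¹ * b ^ 2) := Subgroup.mem_center_iff.mp hk2 b
    have h2 : (a ^ n) = b ^ 2 * ((a ^ n)⁻¹ * b ^ 2)⁻¹ := by group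
    rw [h2]
    exact ((Commute.refl b).pow_right 2).mul_right h1.inv_right
  have hσc : σ c = QuaternionGroup.a 1 ^ (-2 : ℤ) := by
    have h1 : σ (b * a * b⁻¹ * a) = 1 := by
      rw [map_mul, map_mul, map_mul, map_inv, hbinv, ha, hb]
      simp only [QuaternionGroup.xa_mul_a, QuaternionGroup.xa_mul_xa, QuaternionGroup.a_mul_a]
      show QuaternionGroup.a _ = QuaternionGroup.a 0
      congr 1
      have h2 : ((n : ZMod (2 * n)) + (n : ZMod (2 * n))) = 0 := by
        rw [← Nat.cast_add, show n + n = 2 * n by ring, ZMod.natCast_self]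
      linear_combination h2
    have h2 : c = (b * a * b⁻¹ * a) * a ^ (-2 : ℤ) := by rw [hcdef]; group
    rw [h2, map_mul, h1, one_mul, map_zpow, ha]
  rw [eq_bot_iff]
  intro x hx
  obtain ⟨j, rfl⟩ := (hσ.2.2.trans hder) hx
  rw [Subgroup.mem_bot]
  have hj : c ^ j ∈ σ.ker := hx
  rw [MonoidHom.mem_ker, map_zpow, hσc, ← zpow_mul, ← orderOf_dvd_iff_zpow_eq_one,
    QuaternionGroup.orderOf_a_one] at hj
  obtain ⟨i, hi⟩ := hj
  push_cast at hi
  show c ^ j = 1
  rw [show j = (n : ℤ) * (-i) by linarith, zpow_mul, zpow_natCast, hpow n hbn, one_zpow]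

end Cfsg.Agent.S3963
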