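import Cfsg.Statements.S3966
import Mathlib.GroupTheory.SpecificGroups.Quaternion
import Mathlib.GroupTheory.SpecificGroups.Dihedral
-- import your own Cfsg.Agent.* helpers here

set_option autoImplicit false
open Cfsg

namespace Cfsg.Agent.S3966

open scoped commutatorElement

/-- For even `n ≥ 2` the dicyclic group of order `4 n` is a stem extension of the dihedral group of order `2 n` with kernel of order `2`: there is a surjective homomorphism `QuaternionGroup n →* DihedralGroup n` whose kernel is central, lies in the commutator subgroup and has two elements. Together with the order of the multiplier this exhibits the dicyclic group as a Schur covering group of the dihedral group. -/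
theorem result (n : ℕ) [NeZero n] (hn : Even n) : ∃ σ : QuaternionGroup n →* DihedralGroup n, Cfsg.IsStemExtension σ ∧ Nat.card σ.ker = 2 := by
  let φ : ZMod (2 * n) →+* ZMod n := ZMod.castHom (dvd_mul_left n 2) (ZMod n)
  let f : QuaternionGroup n → DihedralGroup n := fun q => match q with
    | .a i => .r (φ i)
    | .xa i => .sr (φ i)
  have hn0 : φ (n : ZMod (2 * n)) = 0 := by rw [map_natCast, ZMod.natCast_self]
  have hm : ∀ x y, f (x * y) = f x * f y := by
    rintro (i | i) (j | j)
    · show f (QuaternionGroup.a (i + j)) = _; simp [f, map_add, DihedralGroup.r_mul_r]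
    · show f (QuaternionGroup.xa (j - i)) = _; simp [f, map_sub, DihedralGroup.r_mul_sr]
    · show f (QuaternionGroup.xa (i + j)) = _; simp [f, map_add, DihedralGroup.sr_mul_r]
    · show f (QuaternionGroup.a (n + j - i)) = _; simp [f, map_add, map_sub, DihedralGroup.sr_mul_sr]
  let σ := MonoidHom.mk' f hm
  have : NeZero (2 * n) := ⟨by have := NeZero.ne n; omega⟩
  have hker : ∀ x, x ∈ σ.ker → x = 1 ∨ x = QuaternionGroup.a (n : ZMod (2 * n)) := by
    rintro (i | i) hx
    · have h0 : φ i = 0 := by
        exact DihedralGroup.r.inj (hx : DihedralGroup.r (φ i) = DihedralGroup.r 0)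
      obtain ⟨k, rfl⟩ : ∃ k : ℕ, (k : ZMod (2 * n)) = i := ⟨i.val, ZMod.natCast_zmod_val i⟩
      rw [map_natCast, ZMod.natCast_eq_zero_iff] at h0
      obtain ⟨m, rfl⟩ := h0
      rcases Nat.even_or_odd m with ⟨l, rfl⟩ | ⟨l, rfl⟩
      · left
        rw [show n * (l + l) = 2 * n * l by ring, Nat.cast_mul, ZMod.natCast_self, zero_mul]
        rfl
      · right
        rw [show n * (2 * l + 1) = 2 * n * l + n by ring, Nat.cast_add, Nat.cast_mul, ZMod.natCast_self,
          zero_mul, zero_add]
    · exact absurd (hx : DihedralGroup.sr (φ i) = DihedralGroup.r 0) (fun e => by cases e)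
  have hmem : QuaternionGroup.a (n : ZMod (2 * n)) ∈ σ.ker := by
    show DihedralGroup.r (φ (n : ZMod (2 * n))) = 1
    rw [hn0]; rfl
  have hne : QuaternionGroup.a (n : ZMod (2 * n)) ≠ (1 : QuaternionGroup n) := by
    intro e
    have e' : QuaternionGroup.a (n : ZMod (2 * n)) = QuaternionGroup.a 0 := e
    have h0 : (n : ZMod (2 * n)) = 0 := QuaternionGroup.a.inj e'
    rw [ZMod.natCast_eq_zero_iff] at h0
    have := Nat.le_of_dvd (Nat.pos_of_ne_zero (NeZero.ne n)) h0
    have := NeZero.ne n
    omega
  refine ⟨σ, ⟨?_, ?_, ?_⟩, ?_⟩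
  · rintro (i | i)
    · obtain ⟨j, rfl⟩ := ZMod.intCast_surjective i
      exact ⟨.a (j : ZMod (2 * n)), by show DihedralGroup.r _ = _; rw [map_intCast]⟩
    · obtain ⟨j, rfl⟩ := ZMod.intCast_surjective i
      exact ⟨.xa (j : ZMod (2 * n)), by show DihedralGroup.sr _ = _; rw [map_intCast]⟩
  · intro x hx
    rw [Subgroup.mem_center_iff]
    rcases hker x hx with rfl | rfl
    · simp
    · have h2 : ((n : ZMod (2 * n)) + (n : ZMod (2 * n))) = 0 := by
        rw [← Nat.cast_add, show n + n = 2 * n by ring, ZMod.natCast_self]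
      rintro (i | i)
      · rw [QuaternionGroup.a_mul_a, QuaternionGroup.a_mul_a, add_comm]
      · rw [QuaternionGroup.a_mul_xa, QuaternionGroup.xa_mul_a]
        congr 1
        rw [sub_eq_add_neg, eq_neg_of_add_eq_zero_left h2, neg_neg]
        congr 1
        exact (eq_neg_of_add_eq_zero_left h2).symm
  · intro x hx
    rcases hker x hx with rfl | rfl
    · exact one_mem _
    · obtain ⟨h, rfl⟩ := hn
      have hc : (QuaternionGroup.a (2 : ZMod (2 * (h + h)))) ∈ commutator (QuaternionGroup (h + h)) := by
        have e : QuaternionGroup.a (2 : ZMod (2 * (h + h))) =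
            ⁅QuaternionGroup.a (1 : ZMod (2 * (h + h))), QuaternionGroup.xa (0 : ZMod (2 * (h + h)))⁆ := by
          rw [commutatorElement_def, eq_mul_inv_iff_mul_eq, eq_mul_inv_iff_mul_eq]
          simp only [QuaternionGroup.a_mul_xa, QuaternionGroup.xa_mul_a, QuaternionGroup.a_mul_a]
          congr 1; ring
        rw [e, commutator_def]
        exact Subgroup.commutator_mem_commutator (Subgroup.mem_top _) (Subgroup.mem_top _)
      have hp : ∀ k : ℕ, QuaternionGroup.a (2 : ZMod (2 * (h + h))) ^ k = QuaternionGroup.a ((2 * k : ℕ) : ZMod (2 * (h + h))) := by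
        intro k
        induction k with
        | zero => simp
        | succ k ih => rw [pow_succ, ih, QuaternionGroup.a_mul_a]; congr 1; push_cast; ring
      have := pow_mem hc h
      rw [hp, show 2 * h = h + h by ring] at this
      exact this
  · rw [Nat.card_eq_two_iff]
    refine ⟨1, ⟨_, hmem⟩, fun e => hne (congrArg Subtype.val e).symm, ?_⟩
    rw [Set.eq_univ_iff_forall]
    rintro ⟨x, hx⟩
    rcases hker x hx with rfl | rfl
    · left; rfl
    · right; rfl

end Cfsg.Agent.S3966
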