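import Cfsg.Statements.S3965
import Cfsg.Agent.S3964
import Cfsg.Agent.S3966
-- import your own Cfsg.Agent.* helpers here

set_option autoImplicit false
open Cfsg

namespace Cfsg.Agent.S3965

/-- For even `n ≥ 2` the dihedral group of order `2 n` has Schur multiplier cyclic of order `2`. -/
theorem result (n : ℕ) [NeZero n] (hn : Even n) : Cfsg.HasCyclicSchurMultiplier (DihedralGroup n) 2 := by
  obtain ⟨σ₀, hσ₀, hcard⟩ := Cfsg.Agent.S3966.result n hn
  have : Fact (Nat.Prime 2) := ⟨Nat.prime_two⟩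
  have hC : IsCyclic σ₀.ker := isCyclic_of_prime_card (p := 2) hcard
  have hZ : Nat.card (Multiplicative (ZMod 2)) = 2 := (Nat.card_congr Multiplicative.toAdd).trans (Nat.card_zmod 2)
  refine Cfsg.Agent.ProjExt.Stem.hasCyclicSchurMultiplier_of σ₀ hσ₀
    (mulEquivOfCyclicCardEq (hcard.trans hZ.symm)) fun Γ _ _ σ hσ => ?_
  obtain ⟨c, hK, hcn, hdvd, hsq⟩ := Cfsg.Agent.S3964.dihedral_lifts σ hσ
  obtain ⟨h, rfl⟩ := hn
  have key : ∀ x ∈ σ.ker, ∃ i : ℤ, x = (c ^ h) ^ i := by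
    intro x hx
    obtain ⟨j, rfl⟩ := hK hx
    obtain ⟨i, hi⟩ := hdvd j hx
    exact ⟨i, by show c ^ j = (c ^ h) ^ i; rw [← zpow_natCast, ← zpow_mul]; congr 1; push_cast at hi; linarith⟩
  have h2 : (c ^ h) ^ 2 = 1 := by rw [← pow_mul, mul_two]; exact hcn
  by_cases hz : c ^ h ∈ σ.ker
  · refine ⟨c ^ h, hz, fun x hx => ?_, h2⟩
    obtain ⟨i, rfl⟩ := key x hx
    exact zpow_mem (Subgroup.mem_zpowers _) i
  · refine ⟨1, one_mem _, fun x hx => ?_, one_pow _⟩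
    obtain ⟨i, rfl⟩ := key x hx
    rcases Int.even_or_odd' i with ⟨t, rfl | rfl⟩
    · rw [zpow_mul, show (2 : ℤ) = ((2 : ℕ) : ℤ) from rfl, zpow_natCast, h2, one_zpow]; exact one_mem _
    · refine absurd ?_ hz
      rwa [zpow_add, zpow_mul, show (2 : ℤ) = ((2 : ℕ) : ℤ) from rfl, zpow_natCast, h2, one_zpow, one_mul,
        zpow_one] at hx

end Cfsg.Agent.S3965
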