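import Cfsg.Statements.S3967
import Cfsg.Agent.ProjExt.Stem
import Mathlib

set_option autoImplicit false
open Cfsg

namespace Cfsg.Agent.S3967

open Cfsg.Agent.ProjExt.Stem

/-- The relators of the metacyclic group. -/
def rels (m n r t : ℕ) : Set (FreeGroup Bool) :=
  {FreeGroup.of true ^ m, (FreeGroup.of false) ^ n * (FreeGroup.of true ^ t)⁻¹,
    FreeGroup.of false * FreeGroup.of true * (FreeGroup.of false)⁻¹ * (FreeGroup.of true ^ r)⁻¹}

variable {m n r t : ℕ}

theorem rel_pow : (PresentedGroup.of (rels := rels m n r t) true) ^ m = 1 := by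
  show PresentedGroup.mk (rels m n r t) (FreeGroup.of true) ^ m = 1
  rw [← map_pow]
  exact PresentedGroup.one_of_mem (by simp [rels])

theorem rel_bn : (PresentedGroup.of (rels := rels m n r t) false) ^ n =
    (PresentedGroup.of (rels := rels m n r t) true) ^ t := by
  show PresentedGroup.mk (rels m n r t) (FreeGroup.of false) ^ n =
    PresentedGroup.mk (rels m n r t) (FreeGroup.of true) ^ t
  rw [← map_pow, ← map_pow, ← mul_inv_eq_one, ← map_inv, ← map_mul]
  exact PresentedGroup.one_of_mem (by simp [rels])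

theorem rel_conj : (PresentedGroup.of (rels := rels m n r t) false) *
    (PresentedGroup.of (rels := rels m n r t) true) * (PresentedGroup.of (rels := rels m n r t) false)⁻¹ =
      (PresentedGroup.of (rels := rels m n r t) true) ^ r := by
  show PresentedGroup.mk (rels m n r t) (FreeGroup.of false) *
    PresentedGroup.mk (rels m n r t) (FreeGroup.of true) *
      (PresentedGroup.mk (rels m n r t) (FreeGroup.of false))⁻¹ =
    PresentedGroup.mk (rels m n r t) (FreeGroup.of true) ^ r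
  rw [← map_inv, ← map_mul, ← map_mul, ← map_pow, ← mul_inv_eq_one, ← map_inv, ← map_mul]
  exact PresentedGroup.one_of_mem (by simp [rels])

section Model

variable (m k : ℕ) (u : ℤ)

/-- The lattice of relations between the two abelian generators. -/
def lat : AddSubgroup (ℤ × ℤ) :=
  (AddMonoidHom.mk' (fun p : ℤ × ℤ => ((m : ℤ) * p.1, -u * p.1 + (k : ℤ) * p.2)) fun p q => by
    ext <;> simp <;> ring).range

theorem mem_lat {p : ℤ × ℤ} :
    p ∈ lat m k u ↔ ∃ a b : ℤ, (m : ℤ) * a = p.1 ∧ -u * a + (k : ℤ) * b = p.2 := by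
  constructor
  · rintro ⟨⟨a, b⟩, rfl⟩
    exact ⟨a, b, rfl, rfl⟩
  · rintro ⟨a, b, h1, h2⟩
    exact ⟨(a, b), Prod.ext h1 h2⟩

/-- The abelian normal subgroup of the covering group. -/
abbrev Ab : Type := (ℤ × ℤ) ⧸ lat m k u

theorem mk_eq_zero_iff {p : ℤ × ℤ} : (QuotientAddGroup.mk p : Ab m k u) = 0 ↔
    ∃ a b : ℤ, (m : ℤ) * a = p.1 ∧ -u * a + (k : ℤ) * b = p.2 :=
  (QuotientAddGroup.eq_zero_iff p).trans (mem_lat m k u)

theorem mk_eq_iff {p q : ℤ × ℤ} : (QuotientAddGroup.mk p : Ab m k u) = QuotientAddGroup.mk q ↔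
    ∃ a b : ℤ, (m : ℤ) * a = p.1 - q.1 ∧ -u * a + (k : ℤ) * b = p.2 - q.2 := by
  rw [← sub_eq_zero, ← QuotientAddGroup.mk_sub]
  exact mk_eq_zero_iff m k u

theorem finite_ab (hm : 0 < m) (hk : 0 < k) : Finite (Ab m k u) := by
  refine Finite.of_surjective
    (fun x : Fin m × Fin k => (QuotientAddGroup.mk ((x.1 : ℤ), (x.2 : ℤ)) : Ab m k u)) fun y => ?_
  obtain ⟨⟨i, j⟩, rfl⟩ := QuotientAddGroup.mk_surjective y
  have hm' : (0 : ℤ) < m := by exact_mod_cast hm
  have hk' : (0 : ℤ) < k := by exact_mod_cast hk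
  set j' := j + u * (i / m) with hj'
  refine ⟨(⟨(i % m).toNat, ?_⟩, ⟨(j' % k).toNat, ?_⟩), ?_⟩
  · have := Int.emod_lt_of_pos i hm'; have := Int.emod_nonneg i hm'.ne'; omega
  · have := Int.emod_lt_of_pos j' hk'; have := Int.emod_nonneg j' hk'.ne'; omega
  · refine (mk_eq_iff m k u).mpr ⟨-(i / m), -(j' / k), ?_, ?_⟩
    · simp only [Int.toNat_of_nonneg (Int.emod_nonneg i hm'.ne')]
      linear_combination -Int.emod_add_mul_ediv i m
    · simp only [Int.toNat_of_nonneg (Int.emod_nonneg j' hk'.ne')]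
      linear_combination -Int.emod_add_mul_ediv j' k + hj'

end Model

set_option maxHeartbeats 2000000 in
/-- The multiplier of the metacyclic group, in reduced parameters. -/
theorem main {d m₁ R₁ q l n k : ℕ} (u v : ℤ) (hd : 0 < d) (hm₁ : 0 < m₁) (hn : 0 < n)
    (huv : u * R₁ + v * m₁ = 1) (hq : ∑ i ∈ Finset.range n, (d * R₁ + 1) ^ i = m₁ * q)
    (hk : k = Nat.gcd l (Nat.gcd d q)) :
    Cfsg.HasCyclicSchurMultiplier
      (PresentedGroup (rels (d * m₁) n (d * R₁ + 1) (m₁ * l))) k := by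
  classical
  have hk0 : 0 < k := hk ▸ Nat.gcd_pos_of_pos_right _ (Nat.gcd_pos_of_pos_left _ hd)
  haveI : NeZero k := ⟨hk0.ne'⟩
  obtain ⟨k₁, hk₁⟩ : k ∣ d := hk ▸ (Nat.gcd_dvd_right _ _).trans (Nat.gcd_dvd_left _ _)
  obtain ⟨k₂, hk₂⟩ : k ∣ q := hk ▸ (Nat.gcd_dvd_right _ _).trans (Nat.gcd_dvd_right _ _)
  obtain ⟨k₃, hk₃⟩ : k ∣ l := hk ▸ Nat.gcd_dvd_left _ _
  set r := d * R₁ + 1 with hr
  set m := d * m₁ with hm
  set t := m₁ * l with ht
  set S := ∑ i ∈ Finset.range n, r ^ i with hS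
  have hrn : r ^ n = S * (d * R₁) + 1 := by rw [hS, hr, geom_sum_mul_add]
  have hkd : (d : ℤ) = k * k₁ := by exact_mod_cast hk₁
  have hkq : (q : ℤ) = k * k₂ := by exact_mod_cast hk₂
  have hkl : (l : ℤ) = k * k₃ := by exact_mod_cast hk₃
  have hmi : (m : ℤ) = d * m₁ := by rw [hm]; push_cast; ring
  have hri : (r : ℤ) = d * R₁ + 1 := by rw [hr]; push_cast; ring
  -- the model
  haveI := finite_ab m k u (Nat.mul_pos hd hm₁) hk0
  let T₀ : ℤ × ℤ →+ ℤ × ℤ := AddMonoidHom.mk' (fun p => ((r : ℤ) * p.1, v * p.1 + p.2))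
    fun p p' => by ext <;> simp <;> ring
  have hT₀ : lat m k u ≤ (lat m k u).comap T₀ := by
    intro p hp
    obtain ⟨a, b, h1, h2⟩ := (mem_lat m k u).mp hp
    refine AddSubgroup.mem_comap.mpr ((mem_lat m k u).mpr ⟨r * a, b + k₁ * a, ?_, ?_⟩)
    · show (m : ℤ) * (r * a) = r * p.1
      rw [← h1]; ring
    · show -u * (r * a) + (k : ℤ) * (b + k₁ * a) = v * p.1 + p.2
      rw [← h1, ← h2, hri, hmi]
      linear_combination -(d : ℤ) * a * huv - a * hkd
  let T : Ab m k u →+ Ab m k u := QuotientAddGroup.map _ _ T₀ hT₀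
  have hTmk : ∀ p : ℤ × ℤ, T (QuotientAddGroup.mk p) =
      QuotientAddGroup.mk ((r : ℤ) * p.1, v * p.1 + p.2) := fun p => rfl
  have hTiter : ∀ (j : ℕ) (p : ℤ × ℤ), T^[j] (QuotientAddGroup.mk p) =
      QuotientAddGroup.mk ((r : ℤ) ^ j * p.1, v * (∑ i ∈ Finset.range j, (r : ℤ) ^ i) * p.1 + p.2) := by
    intro j
    induction j with
    | zero => intro p; simp
    | succ j ih =>
      intro p
      rw [Function.iterate_succ_apply', ih, hTmk]
      congr 1
      refine Prod.ext (by show _ = _; ring) ?_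
      show v * ((r : ℤ) ^ j * p.1) + (v * (∑ i ∈ Finset.range j, (r : ℤ) ^ i) * p.1 + p.2) = _
      rw [Finset.sum_range_succ]
      ring
  have hTn : ∀ x, T^[n] x = x := by
    intro x
    obtain ⟨⟨i, j⟩, rfl⟩ := QuotientAddGroup.mk_surjective x
    rw [hTiter, mk_eq_iff]
    have hSi : (∑ i ∈ Finset.range n, (r : ℤ) ^ i) = (m₁ : ℤ) * q := by exact_mod_cast hq
    have hrni : (r : ℤ) ^ n = (m₁ : ℤ) * q * (d * R₁) + 1 := by
      have h : ((r ^ n : ℕ) : ℤ) = ((S * (d * R₁) + 1 : ℕ) : ℤ) := congrArg Nat.cast hrn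
      rw [hq] at h
      push_cast at h
      exact h
    refine ⟨R₁ * q * i, k₂ * i, ?_, ?_⟩
    · show (m : ℤ) * (R₁ * q * i) = (r : ℤ) ^ n * i - i
      rw [hrni, hmi]; ring
    · show -u * (R₁ * q * i) + (k : ℤ) * (k₂ * i) = v * _ * i + j - j
      rw [hSi]
      linear_combination -(q : ℤ) * i * huv - i * hkq
  have hTbij : Function.Bijective T := by
    obtain ⟨n', rfl⟩ : ∃ n', n = n' + 1 := ⟨n - 1, by omega⟩
    refine ⟨fun a b h => ?_, fun a => ⟨T^[n'] a, ?_⟩⟩
    · rw [← hTn a, ← hTn b, Function.iterate_succ_apply, Function.iterate_succ_apply, h]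
    · rw [← Function.iterate_succ_apply' T]; exact hTn a
  let τ : MulAut (Multiplicative (Ab m k u)) :=
    AddEquiv.toMultiplicative (AddEquiv.ofBijective T hTbij)
  have hτ : ∀ x : Ab m k u, τ (Multiplicative.ofAdd x) = Multiplicative.ofAdd (T x) := fun _ => rfl
  have hτpow : ∀ (j : ℕ) (x : Ab m k u),
      (τ ^ j) (Multiplicative.ofAdd x) = Multiplicative.ofAdd (T^[j] x) := by
    intro j
    induction j with
    | zero => intro x; rfl
    | succ j ih =>
      intro x
      rw [pow_succ', MulAut.mul_apply, ih, hτ, Function.iterate_succ_apply']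
  have hτn : τ ^ n = 1 := MulEquiv.ext fun x => by
    rw [← ofAdd_toAdd x, hτpow, hTn]; rfl
  let φ : Multiplicative ℤ →* MulAut (Multiplicative (Ab m k u)) := zpowersHom _ τ
  let gA : Multiplicative (Ab m k u) := Multiplicative.ofAdd (QuotientAddGroup.mk ((1 : ℤ), (0 : ℤ)))
  let gz : Multiplicative (Ab m k u) := Multiplicative.ofAdd (QuotientAddGroup.mk ((0 : ℤ), (1 : ℤ)))
  have hAzmk : ∀ i j : ℤ, gA ^ i * gz ^ j = Multiplicative.ofAdd (QuotientAddGroup.mk (i, j)) := by
    intro i j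
    apply Multiplicative.toAdd.injective
    simp only [toAdd_mul, toAdd_zpow, toAdd_ofAdd, gA, gz, ← QuotientAddGroup.mk_zsmul,
      ← QuotientAddGroup.mk_add]
    congr 1
    simp
  let P := Multiplicative (Ab m k u) ⋊[φ] Multiplicative ℤ
  let one' : Multiplicative ℤ := Multiplicative.ofAdd 1
  have hφ1 : φ one' = τ := by simp [φ, one', zpowersHom_apply]
  have hφn : φ (one' ^ n) = 1 := by rw [map_pow, hφ1, hτn]
  let B₀ : P := SemidirectProduct.inr one'
  let A₀ : P := SemidirectProduct.inl gA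
  let w : P := (A₀ ^ t)⁻¹ * B₀ ^ n
  have hτA : τ gA = gA ^ (r : ℤ) * gz ^ v := by
    rw [hAzmk, hτ, hTmk]; congr 2; simp
  have hτz : τ gz = gz := by
    rw [hτ, hTmk]; congr 2; simp
  have hτt : τ (gA ^ t) = gA ^ t := by
    have h : gA ^ t = Multiplicative.ofAdd (QuotientAddGroup.mk ((t : ℤ), (0 : ℤ))) := by
      rw [← hAzmk, zpow_natCast, zpow_zero, mul_one]
    rw [h, hτ, hTmk]
    congr 1
    rw [mk_eq_iff]
    refine ⟨l * R₁, k₃, ?_, ?_⟩
    · show (m : ℤ) * (l * R₁) = r * t - t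
      rw [hmi, hri, ht]; push_cast; ring
    · show -u * (l * R₁) + (k : ℤ) * k₃ = v * t + 0 - 0
      rw [ht]; push_cast
      linear_combination -(l : ℤ) * huv - hkl
  have hwB : Commute B₀ w := by
    refine Commute.mul_right (Commute.inv_right ?_) (Commute.pow_right (Commute.refl B₀) n)
    show B₀ * A₀ ^ t = A₀ ^ t * B₀
    rw [← map_pow, ← mul_inv_eq_iff_eq_mul, ← map_inv (SemidirectProduct.inr (φ := φ)) one',
      ← SemidirectProduct.inl_aut, hφ1, hτt]
  have hwN : ∀ x, Commute (SemidirectProduct.inl x : P) w := by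
    intro x
    refine Commute.mul_right (Commute.inv_right ?_) ?_
    · show SemidirectProduct.inl x * A₀ ^ t = A₀ ^ t * SemidirectProduct.inl x
      rw [← map_pow, ← map_mul, ← map_mul, mul_comm]
    · show SemidirectProduct.inl x * B₀ ^ n = B₀ ^ n * SemidirectProduct.inl x
      rw [← map_pow, eq_comm, ← mul_inv_eq_iff_eq_mul, ← map_inv (SemidirectProduct.inr (φ := φ)),
        ← SemidirectProduct.inl_aut, hφn, MulAut.one_apply]
  have hinr : ∀ g : Multiplicative ℤ, (SemidirectProduct.inr g : P) = B₀ ^ g.toAdd := by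
    intro g
    rw [← map_zpow]
    congr 1
    apply Multiplicative.toAdd.injective
    simp [one']
  have hwc : w ∈ Subgroup.center P := by
    rw [Subgroup.mem_center_iff]
    intro g
    rw [← SemidirectProduct.inl_left_mul_inr_right g, hinr]
    exact ((hwN _).mul_left (hwB.zpow_left _)).eq
  haveI : (Subgroup.zpowers w).Normal := ⟨fun x hx g => by
    rw [Subgroup.mem_center_iff.mp (Subgroup.zpowers_le.mpr hwc hx) g, mul_assoc, mul_inv_cancel,
      mul_one]
    exact hx⟩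
  let Γ := P ⧸ Subgroup.zpowers w
  let π := QuotientGroup.mk' (Subgroup.zpowers w)
  -- finiteness of the model
  haveI : Finite Γ := by
    refine Finite.of_surjective
      (fun x : Multiplicative (Ab m k u) × Fin n => π (SemidirectProduct.inl x.1 * B₀ ^ (x.2 : ℕ)))
      fun y => ?_
    obtain ⟨g, rfl⟩ := QuotientGroup.mk'_surjective _ y
    have hn' : (0 : ℤ) < n := by exact_mod_cast hn
    set i : ℤ := g.right.toAdd with hi
    refine ⟨(g.left * (gA ^ t) ^ (i / n), ⟨(i % n).toNat, ?_⟩), ?_⟩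
    · have := Int.emod_lt_of_pos i hn'; have := Int.emod_nonneg i hn'.ne'; omega
    show π (SemidirectProduct.inl (g.left * (gA ^ t) ^ (i / n)) * B₀ ^ (i % n).toNat) = π g
    have hBw : π (B₀ ^ n) = π (A₀ ^ t) := by
      have h : π w = 1 := (QuotientGroup.eq_one_iff _).mpr (Subgroup.mem_zpowers w)
      rw [map_mul, map_inv, inv_mul_eq_one] at h
      exact h.symm
    conv_rhs => rw [← SemidirectProduct.inl_left_mul_inr_right g, hinr, ← hi,
      ← Int.emod_add_mul_ediv i n, add_comm, zpow_add, zpow_mul, map_mul, map_mul, map_zpow π _ (i / n),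
      zpow_natCast, hBw]
    rw [← zpow_natCast B₀, Int.toNat_of_nonneg (Int.emod_nonneg i hn'.ne'), map_mul π]
    rw [map_mul (SemidirectProduct.inl : _ →* P), map_mul π, mul_assoc, map_zpow, map_pow, map_zpow]
  -- the map to the presented group
  set G := PresentedGroup (rels m n r t) with hG
  let a : G := PresentedGroup.of true
  let b : G := PresentedGroup.of false
  let fN₀ : ℤ × ℤ →+ Additive G :=
    (zmultiplesHom (Additive G) (Additive.ofMul a)).comp (AddMonoidHom.fst ℤ ℤ)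
  have hfN₀ : lat m k u ≤ fN₀.ker := by
    intro p hp
    obtain ⟨x, y, h1, -⟩ := (mem_lat m k u).mp hp
    rw [AddMonoidHom.mem_ker]
    show p.1 • Additive.ofMul a = 0
    rw [← h1, ← ofMul_zpow, ofMul_eq_zero, zpow_mul, zpow_natCast, rel_pow, one_zpow]
  let fN : Multiplicative (Ab m k u) →* G :=
    AddMonoidHom.toMultiplicativeLeft (QuotientAddGroup.lift _ fN₀ hfN₀)
  have hfN : ∀ p : ℤ × ℤ, fN (Multiplicative.ofAdd (QuotientAddGroup.mk p)) = a ^ p.1 := fun p => rfl
  let fZ : Multiplicative ℤ →* G := zpowersHom G b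
  have hfZ1 : fZ one' = b := by simp [fZ, one', zpowersHom_apply]
  have hcompat : ∀ g : Multiplicative ℤ, fN.comp (φ g).toMonoidHom =
      (MulAut.conj (fZ g)).toMonoidHom.comp fN := by
    intro g
    let H : Subgroup (Multiplicative ℤ) :=
      { carrier := {g | ∀ x, fN (φ g x) = MulAut.conj (fZ g) (fN x)}
        one_mem' := fun x => by simp
        mul_mem' := fun {g h} hg hh x => by
          rw [map_mul, map_mul, map_mul, MulAut.mul_apply, MulAut.mul_apply, hg, hh]
        inv_mem' := fun {g} hg x => by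
          have h := hg (φ g⁻¹ x)
          rw [← MulAut.mul_apply, ← map_mul, mul_inv_cancel, map_one, MulAut.one_apply] at h
          rw [h, map_inv fZ, map_inv MulAut.conj, MulAut.inv_apply, MulEquiv.symm_apply_apply] }
    have h1 : one' ∈ H := by
      intro x
      rw [hφ1, hfZ1, ← ofAdd_toAdd x]
      obtain ⟨p, hp⟩ := QuotientAddGroup.mk_surjective x.toAdd
      rw [← hp, hτ, hTmk, hfN, hfN, MulAut.conj_apply, ← conj_zpow]
      show a ^ ((r : ℤ) * p.1) = (b * a * b⁻¹) ^ p.1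
      rw [zpow_mul, zpow_natCast, rel_conj]
    have hg : g ∈ H := by
      have : g = one' ^ g.toAdd := Multiplicative.toAdd.injective (by simp [one'])
      rw [this]
      exact zpow_mem h1 _
    exact MonoidHom.ext hg
  let σP : P →* G := SemidirectProduct.lift fN fZ hcompat
  have hσA₀ : σP A₀ = a := by
    rw [SemidirectProduct.lift_inl, hfN, zpow_one]
  have hσB₀ : σP B₀ = b := by
    rw [SemidirectProduct.lift_inr, hfZ1]
  have hσw : Subgroup.zpowers w ≤ σP.ker := by
    rw [Subgroup.zpowers_le, MonoidHom.mem_ker, map_mul, map_inv, map_pow, map_pow, hσA₀, hσB₀,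
      rel_bn, inv_mul_cancel]
  let σ : Γ →* G := QuotientGroup.lift _ σP hσw
  let A : Γ := π A₀
  let B : Γ := π B₀
  let z : Γ := π (SemidirectProduct.inl gz)
  have hσA : σ A = a := hσA₀
  have hσB : σ B = b := hσB₀
  have hσz : σ z = 1 := by
    show σP (SemidirectProduct.inl gz) = 1
    rw [SemidirectProduct.lift_inl, hfN, zpow_zero]
  have hzc : z ∈ Subgroup.center Γ := by
    rw [Subgroup.mem_center_iff]
    intro y
    obtain ⟨g, rfl⟩ := QuotientGroup.mk'_surjective _ y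
    rw [← map_mul, ← map_mul]
    congr 1
    rw [← SemidirectProduct.inl_left_mul_inr_right g, hinr]
    refine (Commute.mul_left ?_ (Commute.zpow_left ?_ _)).eq
    · show _ * _ = _ * _
      rw [← map_mul, ← map_mul, mul_comm]
    · show B₀ * SemidirectProduct.inl gz = SemidirectProduct.inl gz * B₀
      rw [← mul_inv_eq_iff_eq_mul, ← map_inv (SemidirectProduct.inr (φ := φ)) one',
        ← SemidirectProduct.inl_aut, hφ1, hτz]
  -- intersection of the quotient subgroup with the abelian part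
  have hNinj : ∀ x, π (SemidirectProduct.inl x) = 1 → x = 1 := by
    intro x hx
    obtain ⟨j, hj⟩ := (QuotientGroup.eq_one_iff _).mp hx
    have hj' : w ^ j = SemidirectProduct.inl x := hj
    have h := congrArg SemidirectProduct.rightHom hj'
    simp only [SemidirectProduct.rightHom_inl, map_zpow, map_mul, map_inv, map_pow, w, A₀, B₀,
      SemidirectProduct.rightHom_inr, inv_one, one_pow, one_mul] at h
    have h' := congrArg Multiplicative.toAdd h
    simp [one'] at h'
    have hj0 : j = 0 := h'.resolve_right hn.ne'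
    rw [hj0, zpow_zero, ← map_one (SemidirectProduct.inl : _ →* P)] at hj'
    exact (SemidirectProduct.inl_injective hj').symm
  have hAzΓ : ∀ i j : ℤ, A ^ i * z ^ j =
      π (SemidirectProduct.inl (Multiplicative.ofAdd (QuotientAddGroup.mk (i, j)))) := by
    intro i j
    rw [← hAzmk, map_mul, map_mul, map_zpow, map_zpow, map_zpow, map_zpow]
  have hzi : ∀ i j : ℤ, A ^ i * z ^ j = 1 →
      ∃ a b : ℤ, (m : ℤ) * a = i ∧ -u * a + (k : ℤ) * b = j := by
    intro i j h
    rw [hAzΓ] at h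
    exact (mk_eq_zero_iff m k u).mp (congrArg Multiplicative.toAdd (hNinj _ h))
  have hzk : z ^ k = 1 := by
    have h := hAzΓ 0 k
    rw [zpow_zero, one_mul, zpow_natCast] at h
    rw [h, (mk_eq_zero_iff m k u).mpr ⟨0, 1, by simp, by simp⟩]
    simp
  have hzo : orderOf z = k := by
    refine Nat.dvd_antisymm (orderOf_dvd_of_pow_eq_one hzk) ?_
    obtain ⟨x, y, h1, h2⟩ := hzi 0 (orderOf z) (by
      rw [zpow_zero, one_mul, zpow_natCast, pow_orderOf_eq_one])
    have hx : x = 0 := (mul_eq_zero.mp h1).resolve_left (by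
      exact_mod_cast (Nat.mul_pos hd hm₁).ne')
    rw [hx, mul_zero, zero_add] at h2
    exact Int.natCast_dvd_natCast.mp ⟨y, h2.symm⟩
  have hAm : A ^ m = z ^ u := by
    have h1 := hAzΓ m 0
    have h2 := hAzΓ 0 u
    rw [zpow_zero, mul_one, zpow_natCast] at h1
    rw [zpow_zero, one_mul] at h2
    rw [h1, h2, show (QuotientAddGroup.mk ((m : ℤ), (0 : ℤ)) : Ab m k u) =
      QuotientAddGroup.mk ((0 : ℤ), u) from (mk_eq_iff m k u).mpr ⟨1, 0, by simp, by simp⟩]
  have hBA : B * A * B⁻¹ = A ^ r * z ^ v := by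
    show π B₀ * π A₀ * (π B₀)⁻¹ = _
    rw [← map_inv π, ← map_mul, ← map_mul, ← map_inv (SemidirectProduct.inr (φ := φ)) one',
      ← SemidirectProduct.inl_aut, hφ1, hτA, map_mul, map_zpow, map_zpow, map_mul, map_zpow,
      map_zpow, zpow_natCast]
  have hBn : B ^ n = A ^ t := by
    have h : π w = 1 := (QuotientGroup.eq_one_iff _).mpr (Subgroup.mem_zpowers w)
    rw [map_mul, map_inv, map_pow, map_pow, inv_mul_eq_one] at h
    exact h.symm
  haveI : (Subgroup.zpowers z).Normal := ⟨fun x hx g => by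
    rw [Subgroup.mem_center_iff.mp (Subgroup.zpowers_le.mpr hzc hx) g, mul_assoc, mul_inv_cancel,
      mul_one]
    exact hx⟩
  let μ := QuotientGroup.mk' (Subgroup.zpowers z)
  have hμz : μ z = 1 := (QuotientGroup.eq_one_iff _).mpr (Subgroup.mem_zpowers z)
  let back : G →* Γ ⧸ Subgroup.zpowers z :=
    PresentedGroup.toGroup (rels := rels m n r t) (f := fun c => if c then μ A else μ B) (by
      rintro x (rfl | rfl | rfl)
      · simp only [map_pow, FreeGroup.lift_apply_of, if_true]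
        rw [← map_pow, hAm, map_zpow, hμz, one_zpow]
      · simp only [map_mul, map_inv, map_pow, FreeGroup.lift_apply_of, if_true, Bool.false_eq_true,
          if_false]
        rw [← map_pow μ, ← map_pow μ, ← map_inv, ← map_mul, hBn, mul_inv_cancel, map_one]
      · simp only [map_mul, map_inv, map_pow, FreeGroup.lift_apply_of, if_true, Bool.false_eq_true,
          if_false]
        rw [← map_inv, ← map_mul, ← map_mul, hBA, map_mul, map_zpow, hμz, one_zpow, mul_one,
          map_pow, mul_inv_cancel])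
  have hba : back a = μ A := PresentedGroup.toGroup.of _
  have hbb : back b = μ B := PresentedGroup.toGroup.of _
  have hback : ∀ y : Γ, back (σ y) = μ y := by
    have h : back.comp σ = μ := by
      refine MonoidHom.ext fun y => ?_
      obtain ⟨g, rfl⟩ := QuotientGroup.mk'_surjective _ y
      rw [← SemidirectProduct.inl_left_mul_inr_right g, hinr, ← ofAdd_toAdd g.left]
      obtain ⟨⟨i, j⟩, hp⟩ := QuotientAddGroup.mk_surjective g.left.toAdd
      rw [← hp, map_mul π, ← hAzΓ, map_zpow π]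
      show back (σ (A ^ i * z ^ j * B ^ _)) = μ (A ^ i * z ^ j * B ^ _)
      simp only [map_mul, map_zpow, hσA, hσB, hσz, hμz, one_zpow, mul_one, map_one]
      simp only [hba, hbb]
    exact fun y => DFunLike.congr_fun h y
  have hker : σ.ker = Subgroup.zpowers z := by
    refine le_antisymm (fun y hy => ?_) (Subgroup.zpowers_le.mpr hσz)
    rw [← QuotientGroup.eq_one_iff]
    show μ y = 1
    rw [← hback, MonoidHom.mem_ker.mp hy, map_one]
  have hsurj : Function.Surjective σ := by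
    rw [← MonoidHom.range_eq_top, eq_top_iff, ← PresentedGroup.closure_range_of, Subgroup.closure_le]
    rintro _ ⟨c, rfl⟩
    cases c
    · exact ⟨B, hσB⟩
    · exact ⟨A, hσA⟩
  have ha_order : ∀ i : ℤ, a ^ i = 1 → (m : ℤ) ∣ i := by
    intro i hi
    have h : A ^ i ∈ σ.ker := by rw [MonoidHom.mem_ker, map_zpow, hσA, hi]
    rw [hker] at h
    obtain ⟨j, hj⟩ := h
    obtain ⟨x, y, h1, -⟩ := hzi i (-j) (by
      rw [← hj, zpow_neg, mul_inv_cancel])
    exact ⟨x, h1.symm⟩
  -- the stem extension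
  have hstem : Cfsg.IsStemExtension σ := by
    refine ⟨hsurj, hker ▸ Subgroup.zpowers_le.mpr hzc, ?_⟩
    rw [hker, Subgroup.zpowers_le]
    have hc : A ^ (d * R₁ : ℕ) * z ^ v ∈ commutator Γ := by
      have h : A ^ (d * R₁ : ℕ) * z ^ v = B * A * B⁻¹ * A⁻¹ := by
        rw [hBA, hr, pow_succ', mul_assoc A, mul_assoc A,
          Subgroup.mem_center_iff.mp (zpow_mem hzc v) (A ^ (d * R₁))]
        calc z ^ v * A ^ (d * R₁) = (z ^ v * A ^ (d * R₁)) * (A * A⁻¹) := by
              rw [mul_inv_cancel, mul_one]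
          _ = A * (z ^ v * A ^ (d * R₁)) * A⁻¹ := by
              rw [← mul_assoc]
              congr 1
              rw [← mul_assoc A, Subgroup.mem_center_iff.mp (zpow_mem hzc v) A, mul_assoc,
                mul_assoc, ← pow_succ, ← pow_succ']
          _ = _ := by simp only [mul_assoc]
      rw [h, _root_.commutator_def, ← commutatorElement_def]
      exact Subgroup.commutator_mem_commutator (Subgroup.mem_top _) (Subgroup.mem_top _)
    have h2 := pow_mem hc m₁
    have h3 : (A ^ (d * R₁ : ℕ) * z ^ v) ^ m₁ = z := by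
      rw [(show Commute (A ^ (d * R₁ : ℕ)) (z ^ v) from
        Subgroup.mem_center_iff.mp (zpow_mem hzc v) _).mul_pow, ← pow_mul,
        show d * R₁ * m₁ = m * R₁ by rw [hm]; ring, pow_mul, hAm, ← zpow_natCast (z ^ u),
        ← zpow_natCast (z ^ v), ← zpow_mul, ← zpow_mul, ← zpow_add, huv, zpow_one]
    rwa [h3] at h2
  have e : σ.ker ≃* Multiplicative (ZMod k) := by
    rw [hker]
    refine mulEquivOfCyclicCardEq ?_
    rw [Nat.card_zpowers, hzo]
    exact (Nat.card_zmod k).symm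
  refine hasCyclicSchurMultiplier_of σ hstem e ?_
  -- every stem extension
  intro Δ _ _ τ' hτ'
  obtain ⟨A', hA'⟩ := hτ'.1 a
  obtain ⟨B', hB'⟩ := hτ'.1 b
  have hgen := closure_sup_center_eq_top τ' hτ'.2.1 (S := {A', B'}) (by
    rw [Set.image_insert_eq, Set.image_singleton, hA', hB', eq_top_iff,
      ← PresentedGroup.closure_range_of]
    refine Subgroup.closure_mono ?_
    rintro _ ⟨c, rfl⟩
    cases c <;> simp [a, b])
  have hcen : ∀ x, τ' x = 1 → ∀ y, Commute y x := fun x hx y =>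
    Subgroup.mem_center_iff.mp (hτ'.2.1 hx) y
  set z₁ := (A' ^ r)⁻¹ * (B' * A' * B'⁻¹) with hz₁
  have hz₁k : τ' z₁ = 1 := by
    rw [map_mul, map_inv, map_pow, map_mul, map_mul, map_inv, hA', hB', rel_conj, inv_mul_cancel]
  have hconj : B' * A' * B'⁻¹ = A' ^ r * z₁ := by rw [hz₁, mul_inv_cancel_left]
  set c := A' ^ (d * R₁) * z₁ with hc
  have hcA : Commute A' c := (Commute.pow_right (Commute.refl A') _).mul_right (hcen z₁ hz₁k A')
  have hceq : B' * A' * B'⁻¹ * A'⁻¹ = c := by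
    rw [hconj, hr, pow_succ', mul_assoc A', ← hc, hcA.eq, mul_inv_cancel_right]
  have hBc : ∀ j : ℕ, B' ^ j * c * (B' ^ j)⁻¹ = c ^ r ^ j := by
    have h1 : B' * c * B'⁻¹ = c ^ r := by
      rw [hc, (hcen z₁ hz₁k (A' ^ (d * R₁))).mul_pow, ← pow_mul]
      calc B' * (A' ^ (d * R₁) * z₁) * B'⁻¹
          = (B' * A' * B'⁻¹) ^ (d * R₁) * z₁ := by
            rw [conj_pow]
            rw [← mul_assoc B', mul_assoc (B' * A' ^ (d * R₁)), ← (hcen z₁ hz₁k B'⁻¹).eq]
            simp only [mul_assoc]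
        _ = A' ^ (d * R₁ * r) * (z₁ ^ (d * R₁) * z₁) := by
            rw [hconj, (hcen z₁ hz₁k (A' ^ r)).mul_pow, ← pow_mul, mul_comm r, mul_assoc]
        _ = A' ^ (d * R₁ * r) * z₁ ^ r := by rw [← pow_succ]
    intro j
    induction j with
    | zero => simp
    | succ j ih =>
      calc B' ^ (j + 1) * c * (B' ^ (j + 1))⁻¹ = B' * (B' ^ j * c * (B' ^ j)⁻¹) * B'⁻¹ := by
            rw [pow_succ']; group
        _ = (B' * c * B'⁻¹) ^ r ^ j := by rw [ih, conj_pow]
        _ = c ^ r ^ (j + 1) := by rw [h1, ← pow_mul, pow_succ']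
  have hAj : ∀ j : ℕ, B' ^ j * A' * (B' ^ j)⁻¹ =
      A' ^ r ^ j * z₁ ^ (∑ i ∈ Finset.range j, r ^ i) := by
    intro j
    induction j with
    | zero => simp
    | succ j ih =>
      calc B' ^ (j + 1) * A' * (B' ^ (j + 1))⁻¹ = B' * (B' ^ j * A' * (B' ^ j)⁻¹) * B'⁻¹ := by
            rw [pow_succ']; group
        _ = (B' * A' * B'⁻¹) ^ r ^ j * z₁ ^ (∑ i ∈ Finset.range j, r ^ i) := by
            rw [ih, conj_pow, ← mul_assoc B',
              mul_assoc (B' * A' ^ r ^ j), ← ((hcen z₁ hz₁k B'⁻¹).pow_right _).eq]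
            simp only [mul_assoc]
        _ = A' ^ r ^ (j + 1) * z₁ ^ (∑ i ∈ Finset.range (j + 1), r ^ i) := by
            rw [hconj, (hcen z₁ hz₁k (A' ^ r)).mul_pow, ← pow_mul, mul_assoc, ← pow_add, pow_succ',
              Finset.sum_range_succ, add_comm (r ^ j)]
  have hBnA : Commute (B' ^ n) A' := by
    have h1 : τ' ((A' ^ t)⁻¹ * B' ^ n) = 1 := by
      rw [map_mul, map_inv, map_pow, map_pow, hA', hB', rel_bn, inv_mul_cancel]
    rw [show B' ^ n = A' ^ t * ((A' ^ t)⁻¹ * B' ^ n) by group]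
    exact (Commute.pow_left (Commute.refl A') t).mul_left (hcen _ h1 A').symm
  have hcS : c ^ S = 1 := by
    have h := hAj n
    rw [hBnA.eq, mul_inv_cancel_right, hrn, pow_succ', mul_assoc] at h
    rw [hc, (hcen z₁ hz₁k (A' ^ (d * R₁))).mul_pow, ← pow_mul, mul_comm (d * R₁) S]
    exact mul_eq_left.mp h.symm
  have hBAt : B' * A' ^ t * B'⁻¹ = A' ^ t := by
    have h1 : τ' ((A' ^ t)⁻¹ * B' ^ n) = 1 := by
      rw [map_mul, map_inv, map_pow, map_pow, hA', hB', rel_bn, inv_mul_cancel]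
    rw [mul_inv_eq_iff_eq_mul]
    have h2 : A' ^ t = B' ^ n * ((A' ^ t)⁻¹ * B' ^ n)⁻¹ := by group
    rw [h2]
    exact ((Commute.pow_right (Commute.refl B') n).mul_right (hcen _ h1 B').inv_right).eq
  have hct : c ^ t = 1 := by
    rw [← conj_pow, hconj, (hcen z₁ hz₁k (A' ^ r)).mul_pow, ← pow_mul] at hBAt
    rw [hc, (hcen z₁ hz₁k (A' ^ (d * R₁))).mul_pow, ← pow_mul]
    rw [show r * t = t + d * R₁ * t by rw [hr]; ring, pow_add, mul_assoc] at hBAt
    exact mul_eq_left.mp hBAt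
  have hcm : c ^ m = 1 := by
    have hAm1 : τ' (A' ^ m) = 1 := by rw [map_pow, hA', rel_pow]
    have h : (B' * A' * B'⁻¹) ^ m = A' ^ m := by
      rw [conj_pow, (hcen _ hAm1 B').eq, mul_inv_cancel_right]
    rw [hconj, (hcen z₁ hz₁k (A' ^ r)).mul_pow, ← pow_mul,
      show r * m = m + d * R₁ * m by rw [hr]; ring, pow_add, mul_assoc] at h
    rw [hc, (hcen z₁ hz₁k (A' ^ (d * R₁))).mul_pow, ← pow_mul]
    exact mul_eq_left.mp h
  have hcB' : B'⁻¹ * c * B' ∈ Subgroup.zpowers c := by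
    obtain ⟨n', rfl⟩ : ∃ n', n = n' + 1 := ⟨n - 1, by omega⟩
    have hBnc : Commute (B' ^ (n' + 1)) c :=
      (hBnA.pow_right _).mul_right (hcen z₁ hz₁k _)
    have h : B'⁻¹ * c * B' = c ^ r ^ n' := by
      rw [← hBc n']
      calc B'⁻¹ * c * B' = B'⁻¹ * (c * B' ^ (n' + 1)) * (B' ^ n')⁻¹ := by
            rw [pow_succ']; group
        _ = B'⁻¹ * (B' ^ (n' + 1) * c) * (B' ^ n')⁻¹ := by rw [hBnc.eq]
        _ = B' ^ n' * c * (B' ^ n')⁻¹ := by rw [pow_succ']; group
    rw [h]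
    exact pow_mem (Subgroup.mem_zpowers c) _
  have hder : commutator Δ ≤ Subgroup.zpowers c := by
    refine commutator_le_zpowers hgen ⟨c, Subgroup.mem_zpowers c, hceq⟩ ?_ ?_ ?_ hcB'
    · rw [hcA.eq, mul_inv_cancel_right]; exact Subgroup.mem_zpowers c
    · rw [mul_assoc, ← hcA.eq, inv_mul_cancel_left]; exact Subgroup.mem_zpowers c
    · have h := hBc 1
      rw [pow_one, pow_one] at h
      rw [h]; exact pow_mem (Subgroup.mem_zpowers c) _
  refine ⟨c ^ m₁, ?_, ?_, ?_⟩
  · rw [MonoidHom.mem_ker, map_pow, map_mul, map_pow, hA', hz₁k, mul_one, ← pow_mul,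
      show d * R₁ * m₁ = m * R₁ by rw [hm]; ring, pow_mul, rel_pow, one_pow]
  · intro x hx
    obtain ⟨j, rfl⟩ := (hτ'.2.2.trans hder) hx
    have h : τ' (c ^ j) = 1 := hx
    rw [map_zpow, map_mul, map_pow, hA', hz₁k, mul_one, ← zpow_natCast, ← zpow_mul] at h
    have hdvd := ha_order _ h
    have hcop : IsCoprime (m₁ : ℤ) (R₁ : ℤ) := ⟨v, u, by linear_combination huv⟩
    have h3 : (d : ℤ) * m₁ ∣ (d : ℤ) * (R₁ * j) := by
      rw [hmi] at hdvd
      push_cast at hdvd
      rwa [← mul_assoc]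
    have h4 : (m₁ : ℤ) ∣ R₁ * j :=
      (mul_dvd_mul_iff_left (by exact_mod_cast hd.ne' : (d : ℤ) ≠ 0)).mp h3
    obtain ⟨i, hi⟩ := hcop.dvd_of_dvd_mul_left h4
    refine ⟨i, ?_⟩
    show (c ^ m₁) ^ i = c ^ j
    rw [hi, zpow_mul, zpow_natCast]
  · rw [← orderOf_dvd_iff_pow_eq_one, hk]
    refine Nat.dvd_gcd ?_ (Nat.dvd_gcd ?_ ?_) <;> rw [orderOf_dvd_iff_pow_eq_one, ← pow_mul]
    · exact hct
    · rw [mul_comm m₁ d]; exact hcm
    · rw [← hq]; exact hcS

/-- Let `m, n ≥ 1`, `r ≥ 1` with `r ^ n ≡ 1 (mod m)`, and `l` a natural number; put `d = gcd(m, r - 1)`, `t = m l / d` and `h = d · gcd(m, 1 + r + ⋯ + r^(n-1)) / m`. The group presented by generators `a, b` and relations `a ^ m = 1`, `b ^ n = a ^ t`, `b a b⁻¹ = a ^ r` (a metacyclic group of order `m n`) has Schur multiplier cyclic of order `gcd(l, h)`. -/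
theorem result (m n r l : ℕ) (hm : 0 < m) (hn : 0 < n) (hr : 0 < r) (hrn : r ^ n ≡ 1 [MOD m]) : Cfsg.HasCyclicSchurMultiplier (PresentedGroup ({FreeGroup.of true ^ m, (FreeGroup.of false) ^ n * (FreeGroup.of true ^ (m * l / Nat.gcd m (r - 1)))⁻¹, FreeGroup.of false * FreeGroup.of true * (FreeGroup.of false)⁻¹ * (FreeGroup.of true ^ r)⁻¹} : Set (FreeGroup Bool))) (Nat.gcd l (Nat.gcd m (r - 1) * Nat.gcd m (∑ i ∈ Finset.range n, r ^ i) / m)) := by
  set d := Nat.gcd m (r - 1) with hd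
  have hd0 : 0 < d := Nat.gcd_pos_of_pos_left _ hm
  set m₁ := m / d with hm₁
  set R₁ := (r - 1) / d with hR₁
  have hmd : d * m₁ = m := Nat.mul_div_cancel' (Nat.gcd_dvd_left m (r - 1))
  have hrd : d * R₁ = r - 1 := Nat.mul_div_cancel' (Nat.gcd_dvd_right m (r - 1))
  have hcop : Nat.Coprime R₁ m₁ := (Nat.coprime_div_gcd_div_gcd hd0).symm
  have hm₁0 : 0 < m₁ := by
    rcases Nat.eq_zero_or_pos m₁ with h | h
    · rw [h, mul_zero] at hmd; omega
    · exact h
  obtain ⟨u, v, huv⟩ : IsCoprime (R₁ : ℤ) (m₁ : ℤ) := Int.isCoprime_iff_gcd_eq_one.mpr hcop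
  have hr' : d * R₁ + 1 = r := by omega
  obtain ⟨q, hq⟩ : m₁ ∣ ∑ i ∈ Finset.range n, r ^ i := by
    have h1 : d * m₁ ∣ d * (R₁ * ∑ i ∈ Finset.range n, r ^ i) := by
      rw [hmd]
      have h2 : r ^ n = (∑ i ∈ Finset.range n, r ^ i) * (d * R₁) + 1 := by
        rw [← hr', geom_sum_mul_add]
      have h3 := (Nat.modEq_iff_dvd' (Nat.one_le_pow n r hr)).mp hrn.symm
      rw [h2, Nat.add_sub_cancel] at h3
      rwa [← mul_assoc, mul_comm]
    exact hcop.symm.dvd_of_dvd_mul_left ((Nat.mul_dvd_mul_iff_left hd0).mp h1)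
  have ht : m * l / d = m₁ * l := Nat.mul_div_right_comm (Nat.gcd_dvd_left m (r - 1)) l
  have hh : d * Nat.gcd m (∑ i ∈ Finset.range n, r ^ i) / m = Nat.gcd d q := by
    rw [hq, ← hmd, mul_comm d m₁, Nat.gcd_mul_left, mul_comm m₁ d, ← mul_assoc,
      Nat.mul_div_cancel_left _ (Nat.mul_pos hd0 hm₁0)]
  rw [ht, hh, ← hmd]
  have h := main (d := d) (m₁ := m₁) (R₁ := R₁) (q := q) (l := l) (n := n) u v hd0 hm₁0 hn huv
    (by rw [hr']; exact hq) rfl
  rw [hr'] at h
  exact h

end Cfsg.Agent.S3967
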