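import Cfsg.Statements.S3968
import Cfsg.Agent.Char.SolvableDegree
import Cfsg.Agent.Char.ClassAlg
import Cfsg.Agent.Core.Solvable
-- import your own Cfsg.Agent.* helpers here

set_option autoImplicit false
open Cfsg

namespace Cfsg.Agent.S3968

/-- Let `p` be a prime and `G` a finite group with a faithful irreducible complex character of degree `p` (so `G` is an irreducible linear group in `p` variables). If `p ^ 2` divides the order of `G`, then the centre of `G` is nontrivial. -/
theorem result {G : Type*} [Group G] [Finite G] (p : ℕ) (hp : p.Prime) (χ : Cfsg.IrrCharacter G) (hdeg : χ.1 1 = p) (hfaith : ∀ g : G, χ.1 g = χ.1 1 → g = 1) (hdiv : p ^ 2 ∣ Nat.card G) : Subgroup.center G ≠ ⊥ := by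
  classical
  have := Fintype.ofFinite G
  have := Fact.mk hp
  intro hZ
  obtain ⟨P⟩ : Nonempty (Sylow p G) := inferInstance
  have hP2 : p ^ 2 ∣ Nat.card (P : Subgroup G) := P.pow_dvd_card_of_pow_dvd_card hdiv
  have : Nontrivial (P : Subgroup G) := Finite.one_lt_card_iff_nontrivial.1
    ((Nat.one_lt_pow two_ne_zero hp.one_lt).trans_le (Nat.le_of_dvd Nat.card_pos hP2))
  have hirr := χ.2
  have hχ := Agent.Char.IsIrr.isCharacter hirr
  -- central elements of `P` are zeros
  have hzero : ∀ x : (P : Subgroup G), x ∈ Subgroup.center (P : Subgroup G) → x ≠ 1 → χ.1 x = 0 := by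
    intro x hx hx1
    have hcop : p.Coprime (Subgroup.centralizer ({(x : G)} : Set G)).index :=
      hp.coprime_iff_not_dvd.2 fun h => P.not_dvd_index (h.trans (Subgroup.index_dvd_of_le fun y hy =>
        Subgroup.mem_centralizer_singleton_iff.2
          (congrArg Subtype.val (Subgroup.mem_center_iff.1 hx ⟨y, hy⟩))))
    refine (Agent.Char.IsIrr.zero_or_norm_eq hirr (x : G) hdeg hcop).resolve_right fun h => hx1 ?_
    obtain ⟨m, ρ, hρ, he⟩ := hirr
    have hm : (Module.finrank ℂ (Fin m → ℂ) : ℂ) = p := by rw [← ρ.char_one, he, hdeg]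
    have hm' : Module.finrank ℂ (Fin m → ℂ) = p := by exact_mod_cast hm
    obtain ⟨ω, hω, -⟩ := Agent.Char.scalar_of_norm_character_eq (ρ := ρ) (x : G)
      (by rw [he, h, hm'])
    have hc : (x : G) ∈ Subgroup.center G := Subgroup.mem_center_iff.2 fun g => by
      have e : ρ (g * x * g⁻¹) = ρ (x : G) := by
        rw [map_mul, map_mul, hω, mul_smul_comm, smul_mul_assoc]
        congr 1
        rw [show (LinearMap.id : (Fin m → ℂ) →ₗ[ℂ] _) = (1 : Module.End ℂ (Fin m → ℂ)) from rfl,
          mul_one, ← map_mul, mul_inv_cancel, map_one]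
      have h1 : g * x * g⁻¹ * (x : G)⁻¹ = 1 := hfaith _ (by
        rw [← he]
        simp only [Representation.character]
        rw [map_mul, e, ← map_mul, mul_inv_cancel])
      rwa [mul_inv_eq_one, mul_inv_eq_iff_eq_mul] at h1
    rw [hZ, Subgroup.mem_bot] at hc
    exact Subtype.ext hc
  -- the centre of `P` has order `p`
  set Z := Subgroup.center (P : Subgroup G) with hZdef
  have := Fintype.ofFinite Z
  obtain ⟨k, hk⟩ : ∃ k : ℕ, Cfsg.classInner (fun z : Z => χ.1 ((z : (P : Subgroup G)) : G))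
      (fun _ => 1) = k :=
    Agent.Char.classInner_isCharacter_eq_natCast
      (Agent.Char.isCharacter_comp ((P : Subgroup G).subtype.comp Z.subtype) hχ)
      Agent.Char.isCharacter_one
  have hcard : Nat.card Z = p := by
    simp only [Cfsg.classInner, map_one, mul_one] at hk
    rw [Finset.sum_eq_single (1 : Z) (fun z _ hz => hzero z z.2 fun e => hz (Subtype.ext e))
      (by simp), OneMemClass.coe_one, OneMemClass.coe_one, hdeg,
      inv_mul_eq_iff_eq_mul₀ (Nat.cast_ne_zero.2 Nat.card_pos.ne')] at hk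
    have hk' : p = Nat.card Z * k := by exact_mod_cast hk
    refine (hp.eq_one_or_self_of_dvd _ ⟨k, hk'⟩).resolve_left fun h => ?_
    have := P.isPGroup'.center_nontrivial
    exact absurd h (Finite.one_lt_card (α := Z)).ne'
  obtain ⟨z, hz, hz1⟩ : ∃ z ∈ Z, z ≠ 1 := (Subgroup.ne_bot_iff_exists_ne_one.1
    (P.isPGroup'.bot_lt_center.ne')).elim fun z hz => ⟨z, z.2, fun e => hz (Subtype.ext e)⟩
  obtain ⟨s, hs⟩ := Agent.Char.IsChar.exists_multiset
    (Agent.Char.isCharacter_comp (P : Subgroup G).subtype hχ)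
  have hsum : ∀ g : (P : Subgroup G),
      χ.1 g = (s.map fun ψ : Cfsg.IrrCharacter (P : Subgroup G) => ψ.1 g).sum := fun g => by
    have e := congrFun hs g
    rw [Pi.multiset_sum_apply, Multiset.map_map] at e
    exact e
  by_cases hlin : ∀ ψ ∈ s, (ψ : Cfsg.IrrCharacter (P : Subgroup G)).1 1 = 1
  · -- all constituents linear
    have hna : commutator (P : Subgroup G) ≠ ⊥ := fun h => by
      have hall : ∀ a : (P : Subgroup G), a ∈ Z := fun a => Subgroup.mem_center_iff.2 fun b =>
        commutatorElement_eq_one_iff_mul_comm.1 (Subgroup.mem_bot.1 (h ▸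
          Subgroup.commutator_mem_commutator (Subgroup.mem_top b) (Subgroup.mem_top a)))
      rw [(Subgroup.eq_top_iff' Z).2 hall, Subgroup.card_top] at hcard
      have := Nat.le_of_dvd hp.pos (hcard ▸ hP2)
      nlinarith [hp.one_lt]
    have := P.isPGroup'.isNilpotent
    obtain ⟨c, hc1⟩ := Subgroup.ne_bot_iff_exists_ne_one.1
      (Agent.Core.inf_center_ne_bot (N := commutator (P : Subgroup G)) hna)
    have hc : (c : (P : Subgroup G)) ≠ 1 := fun e => hc1 (Subtype.ext e)
    have h0 : χ.1 ((c : (P : Subgroup G)) : G) = χ.1 1 := by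
      have e := hsum 1
      rw [OneMemClass.coe_one] at e
      rw [hsum, e]
      congr 1
      refine Multiset.map_congr rfl fun ψ hψ => ?_
      obtain ⟨f, hf⟩ := Agent.Char.IsChar.exists_hom (Agent.Char.IsIrr.isCharacter ψ.2) (hlin ψ hψ)
      simp only [hf]
      rw [Abelianization.commutator_subset_ker f c.2.1, map_one]
    exact hc (Subtype.ext (hfaith _ h0))
  · -- an irreducible restriction
    push Not at hlin
    obtain ⟨ψ, hψ, hψ1⟩ := hlin
    obtain ⟨d, hd0, hd⟩ := Agent.Char.IsIrr.degree ψ.2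
    obtain ⟨j, hj⟩ := P.isPGroup'.exists_card_eq
    obtain ⟨i, -, rfl⟩ := (Nat.dvd_prime_pow hp).1 (hj ▸ Agent.Char.IsIrr.degree_dvd_card ψ.2 hd)
    have hi : p ≤ p ^ i := Nat.le_self_pow (fun e => hψ1 (by rw [hd, e]; simp)) p
    obtain ⟨t, rfl⟩ := Multiset.exists_cons_of_mem hψ
    have e1 := hsum 1
    rw [OneMemClass.coe_one, hdeg, Multiset.map_cons, Multiset.sum_cons, hd] at e1
    have ht : t = 0 := by
      by_contra h
      obtain ⟨φ, hφ⟩ := Multiset.exists_mem_of_ne_zero h
      obtain ⟨r, rfl⟩ := Multiset.exists_cons_of_mem hφ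
      obtain ⟨a, ha0, ha⟩ := Agent.Char.IsIrr.degree φ.2
      have hn : ∀ r : Multiset (Cfsg.IrrCharacter (P : Subgroup G)), ∃ b : ℕ,
          (r.map fun ψ => ψ.1 1).sum = (b : ℂ) := fun r => by
        induction r using Multiset.induction with
        | empty => exact ⟨0, by simp⟩
        | cons x r ih =>
          obtain ⟨b, hb⟩ := ih
          obtain ⟨a, -, ha⟩ := Agent.Char.IsIrr.degree x.2
          exact ⟨a + b, by simp [hb, ha]⟩
      obtain ⟨b, hb⟩ := hn r
      rw [Multiset.map_cons, Multiset.sum_cons, ha, hb] at e1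
      have : p = p ^ i + (a + b) := by exact_mod_cast e1
      omega
    have h0 := hzero z hz hz1
    rw [hsum, ht, Multiset.map_cons, Multiset.map_zero, Multiset.sum_cons, Multiset.sum_zero,
      add_zero] at h0
    obtain ⟨m, ρ, hρ, he⟩ := ψ.2
    obtain ⟨c, hc, hct⟩ := Agent.Char.commute_eq_scalar ρ hρ (ρ z) fun g => by
      rw [← map_mul, ← map_mul, Subgroup.mem_center_iff.1 hz g]
    rw [show LinearMap.trace ℂ (Fin m → ℂ) (ρ z) = ψ.1 z from congrFun he z, h0, mul_eq_zero] at hct
    rcases hct with rfl | h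
    · have e : (1 : Module.End ℂ (Fin m → ℂ)) = 0 := by
        rw [← map_one ρ, ← inv_mul_cancel z, map_mul, hc, zero_smul, mul_zero]
      refine Agent.Char.IsIrr.one_ne_zero ψ.2 ?_
      rw [← he]
      simp only [Representation.character]
      rw [map_one, e, map_zero]
    · exact Agent.Char.IsIrr.one_ne_zero ψ.2 (by rw [← he, ρ.char_one, h])

end Cfsg.Agent.S3968
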