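import Cfsg.Statements.S3969
import Cfsg.Agent.Fusion.Transfer
import Cfsg.Agent.Fusion.Control
import Cfsg.Agent.Coprime.Basic
import Cfsg.Agent.Invol.BaerSuzuki
import Mathlib.GroupTheory.Schreier
-- import your own Cfsg.Agent.* helpers here

set_option autoImplicit false
open Cfsg

namespace Cfsg.Agent.S3969

open Subgroup in
theorem normalizer_le_centralizer_of_rank {G : Type*} [Group G] [Finite G] {p : ℕ} [hp : Fact p.Prime]
    (P : Sylow p G) (hab : IsMulCommutative (P : Subgroup G))
    (h : ∀ q : ℕ, q.Prime → q ≠ p → q ∣ Nat.card G →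
      ∀ i, 1 ≤ i → i ≤ Group.rank (P : Subgroup G) → ¬ q ∣ p ^ i - 1) :
    normalizer (P : Set G) ≤ centralizer (P : Set G) := by
  open scoped IsMulCommutative in
  refine Cfsg.Agent.Fusion.normalizer_le_centralizer_of_primePow P hab fun q hq hqp hqd n hn hord => ?_
  have := Fact.mk hq
  let f : (P : Subgroup G) →* (P : Subgroup G) := powMonoidHom p
  let T : Subgroup G := f.ker.map (P : Subgroup G).subtype
  have hTdvd : Nat.card T ∣ p ^ Group.rank (P : Subgroup G) := by
    have h1 : Nat.card T = Nat.card ((P : Subgroup G) ⧸ f.range) := by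
      rw [Subgroup.card_map_of_injective (Subgroup.subtype_injective _), ← Subgroup.index_eq_card]
      have e1 : Nat.card f.ker * Nat.card f.range = Nat.card (P : Subgroup G) := by
        rw [← Subgroup.index_ker, card_mul_index]
      have e2 : Nat.card f.range * f.range.index = Nat.card (P : Subgroup G) := card_mul_index _
      exact Nat.eq_of_mul_eq_mul_left (Nat.card_pos (α := f.range)) (by rw [mul_comm, e1, e2])
    have hexp : ∀ g : (P : Subgroup G) ⧸ f.range, g ^ p = 1 := by
      intro g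
      obtain ⟨x, rfl⟩ := QuotientGroup.mk_surjective g
      rw [← QuotientGroup.mk_pow, QuotientGroup.eq_one_iff]
      exact ⟨x, rfl⟩
    rw [h1]
    exact (card_dvd_exponent_pow_rank' _ hexp).trans
      (Nat.pow_dvd_pow p (Group.rank_le_of_surjective (QuotientGroup.mk' f.range)
        QuotientGroup.mk_surjective))
  have hmemT : ∀ x : G, x ∈ T ↔ x ∈ (P : Subgroup G) ∧ x ^ p = 1 := by
    intro x
    constructor
    · rintro ⟨y, hy, rfl⟩
      exact ⟨y.2, congrArg Subtype.val hy⟩
    · rintro ⟨hx, hxp⟩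
      exact ⟨⟨x, hx⟩, Subtype.ext hxp, rfl⟩
  have hnT : n ∈ normalizer (T : Set G) := by
    refine Cfsg.Agent.Invol.mem_normalizer_of_conj_le ?_
    rintro _ ⟨x, hx, rfl⟩
    obtain ⟨hxP, hxp⟩ := (hmemT x).mp hx
    refine (hmemT _).mpr ⟨?_, ?_⟩
    · exact (Subgroup.mem_normalizer_iff.mp hn x).mp hxP
    · simp [hxp]
  have hTc : n ∈ centralizer (T : Set G) := by
    refine Cfsg.Agent.Fusion.mem_centralizer_of_card_modEq hnT hord fun d hd hne hmod => ?_
    obtain ⟨a, ha, hca⟩ := (Nat.dvd_prime_pow hp.out).mp hTdvd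
    rw [hca] at hd hne hmod
    obtain ⟨b, hb, rfl⟩ := (Nat.dvd_prime_pow hp.out).mp hd
    have hlt : b < a := lt_of_le_of_ne hb fun e => hne (by rw [e])
    have h1 : q ∣ p ^ a - p ^ b := (Nat.modEq_iff_dvd' (Nat.pow_le_pow_right hp.out.pos hb)).mp hmod
    have h2 : p ^ a - p ^ b = p ^ b * (p ^ (a - b) - 1) := by
      rw [Nat.mul_sub, mul_one, ← pow_add]; congr 2; omega
    rw [h2] at h1
    rcases (hq.dvd_mul).mp h1 with h3 | h3
    · exact hqp ((Nat.prime_dvd_prime_iff_eq hq hp.out).mp (hq.dvd_of_dvd_pow h3))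
    · exact h q hq hqp hqd (a - b) (by omega) (by omega) h3
  obtain ⟨k, hk⟩ := hord
  obtain ⟨m, hm⟩ := IsPGroup.iff_card.mp P.isPGroup'
  refine Cfsg.Agent.Coprime.le_centralizer_of_fixes_prime_order (A := zpowers n)
    (V := (P : Subgroup G)) (zpowers_le.mpr hn) ?_ ?_ (mem_zpowers n)
  · rw [Nat.card_zpowers, hm]
    obtain ⟨j, -, hj⟩ := (Nat.dvd_prime_pow hq).mp hk
    rw [hj]
    exact Nat.Coprime.pow _ _ ((Nat.coprime_primes hq hp.out).mpr hqp)
  · intro v hv hvp a ha
    have hvT : v ∈ T := by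
      refine (hmemT v).mpr ⟨hv, ?_⟩
      have hd : orderOf v ∣ p ^ m := hm ▸ Subgroup.orderOf_dvd_natCard _ hv
      rw [← (Nat.prime_dvd_prime_iff_eq hvp hp.out).mp (hvp.dvd_of_dvd_pow hd), pow_orderOf_eq_one]
    have hcomm : Commute v n := hTc v hvT
    obtain ⟨j, rfl⟩ := ha
    exact ((hcomm.zpow_right j).symm).eq



/-- Let `P` be an abelian Sylow `p`-subgroup of the finite group `G`, generated by `d` elements (`d` its minimal number of generators). If the order of `G` is coprime to `(p - 1)(p ^ 2 - 1) ⋯ (p ^ d - 1)`, then `G` has a normal `p`-complement. (The classical statement needs only the largest number of cyclic factors of `P` of equal order in place of `d`; the form here follows from it.) -/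
theorem result {G : Type*} [Group G] [Finite G] (p : ℕ) [Fact p.Prime] (P : Sylow p G) (hab : IsMulCommutative (P : Subgroup G)) (hcop : Nat.Coprime (Nat.card G) (∏ i ∈ Finset.Icc 1 (Group.rank (P : Subgroup G)), (p ^ i - 1))) : Cfsg.HasNormalPComplement p G := by
  refine Cfsg.Agent.Fusion.hasNormalPComplement_of_normalizer_le_centralizer (P := P)
    (normalizer_le_centralizer_of_rank P hab fun q hq hqp hqd i hi hir hdvd => ?_)
  exact hq.not_dvd_one (hcop ▸ Nat.dvd_gcd hqd
    (hdvd.trans (Finset.dvd_prod_of_mem (fun i => p ^ i - 1) (Finset.mem_Icc.mpr ⟨hi, hir⟩))))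

end Cfsg.Agent.S3969
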