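import Cfsg.Statements.S3970
import Cfsg.Agent.S3969
import Cfsg.Agent.Core.Basics
-- import your own Cfsg.Agent.* helpers here

set_option autoImplicit false
open Cfsg

namespace Cfsg.Agent.S3970

universe u

open Subgroup in
theorem isSolvable_aux : ∀ (n : ℕ) (G : Type u) [Group G] [Finite G], Nat.card G = n →
    (∀ p : ℕ, p.Prime → p ∣ Nat.card G → (∃ q : ℕ, q.Prime ∧ q ∣ Nat.card G ∧ p < q) →
      ∀ P : Sylow p G, IsMulCommutative (P : Subgroup G) ∧ Group.rank (P : Subgroup G) ≤ 2) →
    ¬ 12 ∣ Nat.card G → Group.IsSolvable G := by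
  intro n
  induction n using Nat.strong_induction_on with
  | _ n IH =>
  intro G _ _ hn h h12
  subst hn
  rcases eq_or_ne (Nat.card G) 1 with h1 | h1
  · have := (Nat.card_eq_one_iff_unique.mp h1).1
    exact Group.isSolvable_of_comm fun a b => Subsingleton.elim _ _
  set p := (Nat.card G).minFac
  have hp : p.Prime := Nat.minFac_prime h1
  have := Fact.mk hp
  by_cases hq : ∀ q : ℕ, q.Prime → q ∣ Nat.card G → q = p
  · obtain ⟨P⟩ : Nonempty (Sylow p G) := inferInstance
    have hG : IsPGroup p G := by
      rw [IsPGroup.iff_card]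
      exact ⟨(Nat.card G).primeFactorsList.length,
        Nat.eq_prime_pow_of_unique_prime_dvd Nat.card_pos.ne' fun {q} hq' hd => hq q hq' hd⟩
    have := hG.isNilpotent
    infer_instance
  push Not at hq
  obtain ⟨q₀, hq₀, hq₀d, hq₀p⟩ := hq
  have hlt : ∀ q : ℕ, q.Prime → q ∣ Nat.card G → q ≠ p → p < q := fun q hq hd hne =>
    lt_of_le_of_ne (Nat.minFac_le_of_dvd hq.two_le hd) (Ne.symm hne)
  obtain ⟨P⟩ : Nonempty (Sylow p G) := inferInstance
  obtain ⟨hab, hrk⟩ := h p hp (Nat.minFac_dvd _) ⟨q₀, hq₀, hq₀d, hlt q₀ hq₀ hq₀d hq₀p⟩ P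
  have hN := Cfsg.Agent.Fusion.hasNormalPComplement_of_normalizer_le_centralizer (P := P)
    (Cfsg.Agent.S3969.normalizer_le_centralizer_of_rank P hab fun q hq hne hd i hi1 hi2 hdvd => by
      have hpq := hlt q hq hd hne
      have hp2 := hp.two_le
      rcases (show i = 1 ∨ i = 2 by omega) with rfl | rfl
      · rw [pow_one] at hdvd
        have := Nat.le_of_dvd (by omega) hdvd
        omega
      · have hfac : p ^ 2 - 1 = (p + 1) * (p - 1) := by simpa using Nat.sq_sub_sq p 1
        rw [hfac] at hdvd
        rcases hq.dvd_mul.mp hdvd with h3 | h3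
        · have := Nat.le_of_dvd (by omega) h3
          have hq' : q = p + 1 := by omega
          have hp' : p = 2 := by
            rcases hp.eq_two_or_odd with h' | h'
            · exact h'
            · have h2q : 2 ∣ q := by omega
              have := (Nat.prime_dvd_prime_iff_eq Nat.prime_two hq).mp h2q
              omega
          obtain ⟨k, hk⟩ := IsPGroup.iff_card.mp P.isPGroup'
          have hk1 : k ≤ 1 := by
            by_contra hk1
            refine h12 ?_
            have h4 : 4 ∣ Nat.card G := by
              have : 4 ∣ Nat.card (P : Subgroup G) := by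
                rw [hk, hp']; exact (Nat.pow_dvd_pow 2 (show 2 ≤ k by omega))
              exact this.trans (Subgroup.card_subgroup_dvd_card _)
            have h3' : 3 ∣ Nat.card G := by rw [show (3 : ℕ) = q by omega]; exact hd
            exact (show Nat.Coprime 4 3 by decide).mul_dvd_of_dvd_of_dvd h4 h3'
          have : IsCyclic (P : Subgroup G) := by
            rcases (show k = 0 ∨ k = 1 by omega) with rfl | rfl
            · have := (Nat.card_eq_one_iff_unique.mp (hk.trans (pow_zero p))).1
              infer_instance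
            · exact isCyclic_of_prime_card (p := p) (hk.trans (pow_one p))
          obtain ⟨g, hg⟩ := IsCyclic.exists_generator (α := (P : Subgroup G))
          have h2r : Group.rank (P : Subgroup G) ≤ 1 := by
            refine Group.rank_le (S := {g}) ?_
            rw [Finset.coe_singleton, ← zpowers_eq_closure, eq_top_iff]
            exact fun x _ => hg x
          omega
        · have := Nat.le_of_dvd (by omega) h3
          omega)
  obtain ⟨P', N, hNn, hNc⟩ := hN
  have := hNn
  have hidx : N.index = Nat.card (P' : Subgroup G) := hNc.symm.index_eq_card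
  have hPne : Nat.card (P' : Subgroup G) ≠ 1 := fun e => by
    have := P'.dvd_card_of_dvd_card (Nat.minFac_dvd (Nat.card G))
    rw [e] at this
    exact hp.not_dvd_one this
  have hNlt : Nat.card N < Nat.card G := by
    refine Cfsg.Agent.Core.card_lt_of_ne_top fun e => hPne ?_
    rw [← hidx, e, Subgroup.index_top]
  have hpN : ¬ p ∣ Nat.card N := hNc.index_eq_card ▸ P'.not_dvd_index
  have hNsol : Group.IsSolvable N := by
    refine IH _ hNlt N rfl ?_ fun e => h12 (e.trans (Subgroup.card_subgroup_dvd_card N))
    intro q hq hqN hex Q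
    have := Fact.mk hq
    have hqp : q ≠ p := fun e => hpN (e ▸ hqN)
    obtain ⟨S, hS⟩ := (Q.isPGroup'.map N.subtype).exists_le_sylow
    have heq : (Q : Subgroup N).map N.subtype = (S : Subgroup G) := by
      refine Subgroup.eq_of_le_of_card_ge hS (le_of_eq ?_)
      rw [Subgroup.card_map_of_injective (Subgroup.subtype_injective _), Sylow.card_eq_multiplicity,
        Sylow.card_eq_multiplicity, ← card_mul_index N, Nat.factorization_mul Nat.card_pos.ne'
        index_ne_zero_of_finite, Finsupp.add_apply, Nat.factorization_eq_zero_of_not_dvd (n := N.index) ?_, add_zero]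
      intro e
      rw [hidx] at e
      obtain ⟨k, hk⟩ := IsPGroup.iff_card.mp P'.isPGroup'
      rw [hk] at e
      exact hqp ((Nat.prime_dvd_prime_iff_eq hq hp).mp (hq.dvd_of_dvd_pow e))
    obtain ⟨r, hr, hrd, hqr⟩ := hex
    have hd := fun {d : ℕ} (e : d ∣ Nat.card N) => e.trans (Subgroup.card_subgroup_dvd_card N)
    obtain ⟨hc, hrk⟩ := h q hq (hd hqN) ⟨r, hr, hd hrd, hqr⟩ S
    let e : (Q : Subgroup N) ≃* (S : Subgroup G) :=
      (Subgroup.equivMapOfInjective _ _ (Subgroup.subtype_injective N)).trans (MulEquiv.subgroupCongr heq)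
    refine ⟨⟨⟨fun a b => e.injective ?_⟩⟩, (Group.rank_congr e).trans_le hrk⟩
    rw [map_mul, map_mul]
    exact hc.is_comm.comm _ _
  have hQ : IsPGroup p (G ⧸ N) := by
    obtain ⟨k, hk⟩ := IsPGroup.iff_card.mp P'.isPGroup'
    exact IsPGroup.of_card (n := k) (by rw [← Subgroup.index_eq_card, hidx, hk])
  have := hQ.isNilpotent
  exact (Group.isSolvable_iff_subgroup_quotient N).mpr ⟨hNsol, inferInstance⟩



/-- Let `G` be a finite group such that for every prime `p` dividing its order, other than the largest such prime, the Sylow `p`-subgroups are abelian and generated by at most two elements, and suppose `12` does not divide the order of `G`. Then `G` is solvable. In particular a group of cube-free order not divisible by `12` is solvable. -/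
theorem result {G : Type*} [Group G] [Finite G] (h : ∀ p : ℕ, p.Prime → p ∣ Nat.card G → (∃ q : ℕ, q.Prime ∧ q ∣ Nat.card G ∧ p < q) → ∀ P : Sylow p G, IsMulCommutative (P : Subgroup G) ∧ Group.rank (P : Subgroup G) ≤ 2) (h12 : ¬ 12 ∣ Nat.card G) : Group.IsSolvable G := by
  exact isSolvable_aux _ G rfl h h12

end Cfsg.Agent.S3970
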