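import Cfsg.Statements.S3971
import Cfsg.Agent.MaxClass.SmallAut
import Cfsg.Agent.Fusion.Control
import Cfsg.Agent.Invol.SylowConj

set_option autoImplicit false
open Cfsg

namespace Cfsg.Agent.S3971

/-- Let `G` be a finite group of order `2 ^ a * n` with `n` odd and not divisible by `3`, and suppose `G` has an element of order `2 ^ (a - 1)` (so a Sylow `2`-subgroup has a cyclic subgroup of index at most `2`). Then `G` has a normal subgroup of order `n`. -/
theorem result {G : Type*} [Group G] [Finite G] (a n : ℕ) (hG : Nat.card G = 2 ^ a * n) (hn : Odd n) (h3 : ¬ 3 ∣ n) (hx : ∃ x : G, orderOf x = 2 ^ (a - 1)) : ∃ N : Subgroup G, N.Normal ∧ Nat.card N = n := by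
  have : Fact (Nat.Prime 2) := ⟨Nat.prime_two⟩
  obtain ⟨x, hx⟩ := hx
  obtain ⟨P⟩ := (inferInstance : Nonempty (Sylow 2 G))
  have hP : Nat.card (P : Subgroup G) = 2 ^ a := by
    rw [P.card_eq_multiplicity, hG, Nat.factorization_mul (by positivity) hn.pos.ne',
      Nat.Prime.factorization_pow Nat.prime_two, Finsupp.add_apply, Finsupp.single_eq_same,
      Nat.factorization_eq_zero_of_not_dvd (by rw [Nat.two_dvd_ne_zero]; exact Nat.odd_iff.1 hn), add_zero]
  obtain ⟨d, hd⟩ := Invol.exists_conj_mem_of_isPGroup P ⟨a - 1, hx⟩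
  have hod : orderOf (d * x * d⁻¹) = 2 ^ (a - 1) := by
    rw [← MulAut.conj_apply, MulEquiv.orderOf_eq, hx]
  have hidx : Nat.card (P : Subgroup G) ∣ 2 * orderOf (d * x * d⁻¹) := by
    rw [hP, hod, ← pow_succ']; exact pow_dvd_pow 2 (by omega)
  have hc : Cfsg.HasNormalPComplement 2 G := Fusion.hasNormalPComplement_of_frobenius_sylow P fun Q hQ g hg h2 => by
    refine MaxClass.centralize_of_coprime_six Q (P.2.to_le hQ)
      (MaxClass.frattini_index_dvd_four _ P.2 _ hd hidx Q hQ) hg h2 ?_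
    rw [Nat.coprime_comm, Nat.prime_three.coprime_iff_not_dvd]
    intro hd3
    have := hd3.trans (_root_.orderOf_dvd_natCard g)
    rw [hG] at this
    exact (Nat.prime_three.dvd_mul.1 this).elim (fun h => by
      have := Nat.prime_three.dvd_of_dvd_pow h; omega) h3
  obtain ⟨N, hN, hcop, k, hk⟩ := Fusion.hasNormalPComplement_iff_exists.1 hc
  refine ⟨N, hN, ?_⟩
  have h := N.card_mul_index
  rw [hk, hG] at h
  have hn2 : n.Coprime 2 := by
    rw [Nat.coprime_two_right]; exact hn
  refine Nat.dvd_antisymm ?_ ?_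
  · exact ((hcop.pow_right a).dvd_of_dvd_mul_left ⟨2 ^ k, h.symm⟩)
  · exact ((hn2.pow_right k).dvd_of_dvd_mul_right ⟨2 ^ a, by rw [h, mul_comm]⟩)

end Cfsg.Agent.S3971
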