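import Cfsg.Statements.S3973
import Cfsg.Agent.ProjExt.SchurTransfer
import Mathlib.LinearAlgebra.Dimension.Localization
import Mathlib.LinearAlgebra.Dimension.RankNullity
import Mathlib.LinearAlgebra.FreeModule.Finite.Basic
-- import your own Cfsg.Agent.* helpers here

set_option autoImplicit false
open Cfsg

namespace Cfsg.Agent.S3973

open scoped commutatorElement

open Cfsg.Agent.ProjExt.Schur Module in
theorem aux {n : ℕ} {Q : Type} [Group Q] [Finite Q] (π : FreeGroup (Fin n) →* Q) (hπ : Function.Surjective π)
    (rels : Finset (FreeGroup (Fin n))) (hker : π.ker = Subgroup.normalClosure (rels : Set (FreeGroup (Fin n))))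
    {A : Type*} [CommGroup A] [Finite A] (eA : mult π ≃* A) : Group.rank A ≤ rels.card - n := by
  classical
  set K := (proj π).ker with hKdef
  haveI : IsMulCommutative K :=
    ⟨⟨fun a b => Subtype.ext (Subgroup.mem_center_iff.1 (ker_le_center π b.2) a)⟩⟩
  open scoped IsMulCommutative in
  let v : {x // x ∈ rels} → Additive K := fun r => Additive.ofMul
    ⟨QuotientGroup.mk (r : FreeGroup (Fin n)),
      show π (r : FreeGroup (Fin n)) = 1 from
        MonoidHom.mem_ker.1 (by rw [hker]; exact Subgroup.subset_normalClosure r.2)⟩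
  open scoped IsMulCommutative in
  let φ : ({x // x ∈ rels} → ℤ) →ₗ[ℤ] Additive K := Fintype.linearCombination ℤ v
  open scoped IsMulCommutative in
  have hφ : Function.Surjective φ := by
    let S : Subgroup K := AddSubgroup.toSubgroup' φ.toAddMonoidHom.range
    have hS : ∀ r (hr : r ∈ π.ker), (⟨QuotientGroup.mk r, show π r = 1 from hr⟩ : K) ∈ S := by
      have hn : ((S.map K.subtype).comap (QuotientGroup.mk' ⁅π.ker, (⊤ : Subgroup (FreeGroup (Fin n)))⁆)).Normal := by
        refine Subgroup.Normal.comap (⟨fun x hx g => ?_⟩) _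
        obtain ⟨y, hy, rfl⟩ := hx
        rw [show g * K.subtype y * g⁻¹ = K.subtype y from by
          rw [Subgroup.mem_center_iff.1 (ker_le_center π y.2 : K.subtype y ∈ _) g, mul_inv_cancel_right]]
        exact ⟨y, hy, rfl⟩
      intro r hr
      have h : (rels : Set (FreeGroup (Fin n))) ⊆
          (S.map K.subtype).comap (QuotientGroup.mk' ⁅π.ker, (⊤ : Subgroup (FreeGroup (Fin n)))⁆) := fun x hx => by
        refine ⟨(v ⟨x, hx⟩).toMul, ⟨Pi.single ⟨x, hx⟩ 1, ?_⟩, rfl⟩
        show φ _ = v ⟨x, hx⟩
        simp [φ, Fintype.linearCombination_apply_single]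
      rw [hker] at hr
      obtain ⟨y, hy, hyx⟩ := Subgroup.normalClosure_le_normal h hr
      rwa [show y = ⟨QuotientGroup.mk r, show π r = 1 from MonoidHom.mem_ker.1 (hker ▸ hr)⟩ from Subtype.ext hyx] at hy
    intro k
    obtain ⟨x, hx⟩ := QuotientGroup.mk_surjective ((k.toMul : K) : E π)
    have hxk : x ∈ π.ker := by
      show π x = 1
      rw [← proj_mk π x, hx]; exact k.toMul.2
    obtain ⟨c, hc⟩ := hS x hxk
    exact ⟨c, hc.trans (congrArg Additive.ofMul (Subtype.ext hx))⟩
  let w : E π →* Multiplicative (Fin n → ℤ) :=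
    QuotientGroup.lift _ (FreeGroup.lift fun i => Multiplicative.ofAdd (Pi.single i 1)) (by
      rw [Subgroup.commutator_le]
      intro a _ b _
      rw [MonoidHom.mem_ker, map_commutatorElement, commutatorElement_eq_one_iff_mul_comm, mul_comm])
  have hw : ∀ x, w x = 1 → x ∈ _root_.commutator (E π) := by
    intro x hx
    let back : (Fin n → ℤ) →+ Additive (Abelianization (E π)) :=
      (Fintype.linearCombination ℤ fun i : Fin n =>
        Additive.ofMul (Abelianization.of (QuotientGroup.mk (FreeGroup.of i) : E π))).toAddMonoidHom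
    have h : ∀ x : E π, back (w x).toAdd = Additive.ofMul (Abelianization.of x) := by
      intro x
      obtain ⟨y, rfl⟩ := QuotientGroup.mk_surjective x
      induction y using FreeGroup.induction_on with
      | C1 => simp [QuotientGroup.mk_one]
      | of q =>
        show back (Multiplicative.toAdd (FreeGroup.lift (fun i => Multiplicative.ofAdd (Pi.single i 1)) (FreeGroup.of q))) = _
        rw [FreeGroup.lift_apply_of, toAdd_ofAdd]
        simp [back, Fintype.linearCombination_apply_single]
      | inv_of q ih => rw [QuotientGroup.mk_inv, map_inv w, toAdd_inv, map_neg, ih, map_inv Abelianization.of, ofMul_inv]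
      | mul a b iha ihb =>
        rw [QuotientGroup.mk_mul, map_mul w, toAdd_mul, map_add, iha, ihb, map_mul Abelianization.of, ofMul_mul]
    have h1 := h x
    rw [hx, toAdd_one, map_zero] at h1
    rw [← Abelianization.ker_of, MonoidHom.mem_ker]
    exact Additive.ofMul.injective h1.symm
  open scoped IsMulCommutative in
  let θ : Additive K →ₗ[ℤ] (Fin n → ℤ) := (MonoidHom.toAdditiveLeft (w.comp K.subtype)).toIntLinearMap
  open scoped IsMulCommutative in
  have hrank : n ≤ finrank ℤ (LinearMap.range θ) := by
    have hmem : ∀ x : Fin n → ℤ, (Nat.card Q : ℤ) • x ∈ LinearMap.range θ := by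
      intro x
      have hb : ∀ i, (Nat.card Q : ℤ) • (Pi.single i 1 : Fin n → ℤ) ∈ LinearMap.range θ := fun i =>
        ⟨Additive.ofMul ⟨QuotientGroup.mk (FreeGroup.of i ^ Nat.card Q),
          show π (FreeGroup.of i ^ Nat.card Q) = 1 by rw [map_pow, pow_card_eq_one']⟩, by
        show Multiplicative.toAdd (w (QuotientGroup.mk (FreeGroup.of i ^ Nat.card Q))) = _
        rw [QuotientGroup.mk_pow, map_pow, toAdd_pow]
        show Nat.card Q • Multiplicative.toAdd (FreeGroup.lift (fun i => Multiplicative.ofAdd (Pi.single i 1)) (FreeGroup.of i)) = _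
        rw [FreeGroup.lift_apply_of, toAdd_ofAdd, natCast_zsmul]⟩
      rw [pi_eq_sum_univ' x, Finset.smul_sum]
      exact Submodule.sum_mem _ fun i _ => by rw [smul_comm]; exact Submodule.smul_mem _ _ (hb i)
    let j : (Fin n → ℤ) →ₗ[ℤ] LinearMap.range θ :=
      ((Nat.card Q : ℤ) • LinearMap.id).codRestrict _ hmem
    have hj : Function.Injective j := fun a b h =>
      smul_right_injective (Fin n → ℤ) (by exact_mod_cast Nat.card_pos.ne' : (Nat.card Q : ℤ) ≠ 0) (congrArg Subtype.val h)
    simpa using LinearMap.finrank_le_finrank_of_injective hj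
  open scoped IsMulCommutative in
  have hsum := (LinearMap.ker (θ.comp φ)).finrank_quotient_add_finrank
  open scoped IsMulCommutative in
  rw [(θ.comp φ).quotKerEquivRange.finrank_eq, LinearMap.range_comp, LinearMap.range_eq_top.2 hφ,
    Submodule.map_top, Module.finrank_fintype_fun_eq_card, Fintype.card_coe] at hsum
  open scoped IsMulCommutative in
  let b := Module.finBasis ℤ (LinearMap.ker (θ.comp φ))
  open scoped IsMulCommutative in
  have hin : ∀ c : LinearMap.ker (θ.comp φ), (((φ c).toMul : K) : E π) ∈ mult π := fun c =>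
    ⟨((φ c).toMul : K).2, hw _ (Multiplicative.toAdd.injective (LinearMap.mem_ker.1 c.2 : θ (φ c) = 0))⟩
  open scoped IsMulCommutative in
  let g : LinearMap.ker (θ.comp φ) →+ Additive A :=
    { toFun := fun c => Additive.ofMul (eA ⟨_, hin c⟩)
      map_zero' := by
        rw [show (⟨_, hin 0⟩ : mult π) = 1 from Subtype.ext (by simp), map_one]; rfl
      map_add' := fun c d => by
        rw [show (⟨_, hin (c + d)⟩ : mult π) = ⟨_, hin c⟩ * ⟨_, hin d⟩ from Subtype.ext (by simp),
          map_mul]; rfl }
  have hg : Function.Surjective g := by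
    intro a
    obtain ⟨⟨m, hm⟩, hma⟩ := eA.surjective a.toMul
    open scoped IsMulCommutative in
    obtain ⟨c, hc⟩ := hφ (Additive.ofMul (⟨m, mult_le_ker π hm⟩ : K))
    have hwm : w m = 1 := MonoidHom.mem_ker.1 (Abelianization.commutator_subset_ker w (mult_le_commutator π hm))
    refine ⟨⟨c, LinearMap.mem_ker.2 ?_⟩, ?_⟩
    · show θ (φ c) = 0
      rw [hc]
      show Multiplicative.toAdd (w m) = 0
      rw [hwm, toAdd_one]
    · show Additive.ofMul (eA _) = a
      rw [show (⟨_, hin ⟨c, _⟩⟩ : mult π) = ⟨m, hm⟩ from Subtype.ext (by simp [hc]), hma]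
      rfl
  let S : Finset A := Finset.univ.image fun i => (g (b i)).toMul
  have hS : Subgroup.closure (S : Set A) = ⊤ := by
    rw [eq_top_iff]
    intro a _
    obtain ⟨c, hc⟩ := hg (Additive.ofMul a)
    have h1 : a = ∏ i, (g (b i)).toMul ^ (b.repr c i) := by
      apply Additive.ofMul.injective
      rw [← hc, ofMul_prod]
      conv_lhs => rw [← b.sum_repr c, map_sum]
      exact Finset.sum_congr rfl fun i _ => by rw [map_zsmul, ofMul_zpow, ofMul_toMul]
    rw [h1]
    exact Subgroup.prod_mem _ fun i _ => Subgroup.zpow_mem _ (Subgroup.subset_closure (by simp [S])) _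
  calc Group.rank A ≤ S.card := Group.rank_le hS
    _ ≤ finrank ℤ (LinearMap.ker (θ.comp φ)) := Finset.card_image_le.trans (by simp)
    _ ≤ rels.card - n := by omega



/-- If a finite group is presented by `n` generators and a finite set of `r` relators, then its Schur multiplier can be generated by `r - n` elements. In particular a finite group with a presentation having as many relators as generators has trivial Schur multiplier. -/
theorem result (n : ℕ) (rels : Finset (FreeGroup (Fin n))) [Finite (PresentedGroup (rels : Set (FreeGroup (Fin n))))] {A : Type*} [CommGroup A] [Finite A] (hA : Cfsg.HasSchurMultiplier (PresentedGroup (rels : Set (FreeGroup (Fin n)))) A) : Group.rank A ≤ rels.card - n := by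
  obtain ⟨eA⟩ := Cfsg.Agent.ProjExt.Schur.equiv_of_hasSchurMultiplier hA
  obtain ⟨e⟩ := Cfsg.Agent.ProjExt.Schur.mult_equiv (π := PresentedGroup.mk (rels : Set (FreeGroup (Fin n))))
    (π' := Cfsg.Agent.ProjExt.Schur.std _) (PresentedGroup.mk_surjective _) (Cfsg.Agent.ProjExt.Schur.std_surjective _)
  exact aux _ (PresentedGroup.mk_surjective _) rels (QuotientGroup.ker_mk' _) (e.trans eA)

end Cfsg.Agent.S3973
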