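import Cfsg.Statements.S3974
import Cfsg.Agent.ProjExt.Schur
import Mathlib.GroupTheory.SchurZassenhaus
import Mathlib.GroupTheory.Perm.Cycle.Type
import Mathlib.Data.Nat.Prime.Int
-- import your own Cfsg.Agent.* helpers here

set_option autoImplicit false
universe u v
open Cfsg

namespace Cfsg.Agent.S3974

open Cfsg.Agent.ProjExt.Schur

section
open scoped IsMulCommutative
variable {Q : Type u} [Group Q] [Finite Q] {A : Type v} [CommGroup A]

theorem card_eq {Γ : Type u} [Group Γ] {σ : Γ →* Q} (hσ : Cfsg.IsStemExtension σ) (he : Nonempty (σ.ker ≃* A)) :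
    Nat.card Γ = Nat.card Q * Nat.card A := by
  obtain ⟨e⟩ := he
  rw [← Subgroup.card_mul_index σ.ker, Subgroup.index_ker, MonoidHom.range_eq_top.2 hσ.1,
    Subgroup.card_top, Nat.card_congr e.toEquiv, mul_comm]

/-- Coprimality makes homomorphisms on a kernel complement extend. -/
theorem exists_extend (hcop : Nat.Coprime (Nat.card (Abelianization Q)) (Nat.card A)) [Finite A]
    {C : Subgroup (E (std Q))} (hC : C ≤ (proj (std Q)).ker) (hCm : C ⊓ mult (std Q) = ⊥)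
    (hsup : C ⊔ mult (std Q) = (proj (std Q)).ker) (lam : C →* A) :
    ∃ h : E (std Q) →* A, ∀ c : C, h c = lam c := by
  classical
  set N : Subgroup (Abelianization (E (std Q))) := C.map Abelianization.of with hN
  let j : C →* N := Abelianization.of.subgroupMap C
  have hj : Function.Bijective j := by
    refine ⟨(injective_iff_map_eq_one j).2 fun c hc => ?_, MonoidHom.subgroupMap_surjective _ _⟩
    have h1 : (c : E (std Q)) ∈ _root_.commutator (E (std Q)) := by
      rw [← Abelianization.ker_of, MonoidHom.mem_ker]; exact congrArg Subtype.val hc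
    exact Subtype.ext ((Subgroup.eq_bot_iff_forall _).1 hCm c ⟨c.2, hC c.2, h1⟩)
  let n := Nat.card (Abelianization Q)
  have hmem : ∀ x : E (std Q), Abelianization.of x ^ n ∈ N := fun x => by
    have h1 : proj (std Q) (x ^ n) ∈ _root_.commutator Q := by
      rw [← Abelianization.ker_of, MonoidHom.mem_ker, map_pow, map_pow, pow_card_eq_one']
    have h2 : _root_.commutator Q = (_root_.commutator (E (std Q))).map (proj (std Q)) := by
      rw [_root_.commutator_def, _root_.commutator_def, Subgroup.map_commutator,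
        Subgroup.map_top_of_surjective _ (proj_surjective _ (std_surjective Q))]
    rw [h2] at h1
    obtain ⟨d, hd, hdx⟩ := h1
    have h3 : x ^ n * d⁻¹ ∈ (proj (std Q)).ker := by
      rw [MonoidHom.mem_ker, map_mul, map_inv, hdx, mul_inv_cancel]
    rw [← hsup] at h3
    haveI : C.Normal := ⟨fun c hc g => by
      rw [Subgroup.mem_center_iff.mp (ker_le_center _ (hC hc)) g, mul_inv_cancel_right]; exact hc⟩
    obtain ⟨c, hc, m, hm, hcm⟩ := Subgroup.mem_sup_of_normal_left.1 h3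
    refine ⟨c, hc, ?_⟩
    rw [← map_pow, show x ^ n = c * m * d by rw [hcm, inv_mul_cancel_right], map_mul, map_mul,
      show Abelianization.of m = 1 by rw [← MonoidHom.mem_ker, Abelianization.ker_of]; exact hm.2,
      show Abelianization.of d = 1 by rw [← MonoidHom.mem_ker, Abelianization.ker_of]; exact hd,
      mul_one, mul_one]
  let pw : E (std Q) →* N := ((powMonoidHom n).comp Abelianization.of).codRestrict N hmem
  let root : A →* A := MonoidHom.mk' (powCoprime (n := n) hcop.symm).symm fun a b => by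
    apply (powCoprime (n := n) hcop.symm).injective
    rw [Equiv.apply_symm_apply]
    show a * b = (_ * _) ^ n
    rw [mul_pow]
    exact congrArg₂ (· * ·) (Equiv.apply_symm_apply (powCoprime hcop.symm) a).symm
      (Equiv.apply_symm_apply (powCoprime hcop.symm) b).symm
  refine ⟨root.comp ((lam.comp (MulEquiv.ofBijective j hj).symm.toMonoidHom).comp pw), fun c => ?_⟩
  have h1 : pw c = j c ^ n := Subtype.ext rfl
  show (powCoprime (n := n) hcop.symm).symm (lam ((MulEquiv.ofBijective j hj).symm (pw c))) = lam c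
  rw [h1, show j c = (MulEquiv.ofBijective j hj) c from rfl, ← map_pow, MulEquiv.symm_apply_apply,
    map_pow, Equiv.symm_apply_eq]
  rfl

theorem unique_of_coprime (hA : Cfsg.HasSchurMultiplier Q A)
    (hcop : Nat.Coprime (Nat.card (Abelianization Q)) (Nat.card A))
    (Γ₁ Γ₂ : Type u) [Group Γ₁] [Finite Γ₁] [Group Γ₂] [Finite Γ₂] (σ₁ : Γ₁ →* Q) (σ₂ : Γ₂ →* Q)
    (h₁ : Cfsg.IsStemExtension σ₁) (h₂ : Cfsg.IsStemExtension σ₂) (e₁ : Nonempty (σ₁.ker ≃* A))
    (e₂ : Nonempty (σ₂.ker ≃* A)) : ∃ e : Γ₁ ≃* Γ₂, σ₂.comp e.toMonoidHom = σ₁ := by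
  classical
  obtain ⟨eA⟩ := equiv_of_hasSchurMultiplier hA
  have : Finite A := Finite.of_equiv _ eA.toEquiv
  obtain ⟨ψ₁, hψ₁⟩ := exists_lift (π := std Q) σ₁ h₁.2.1 (MonoidHom.id Q)
    (by rw [MonoidHom.range_eq_top.2 h₁.1]; exact le_top)
  obtain ⟨ψ₂, hψ₂⟩ := exists_lift (π := std Q) σ₂ h₂.2.1 (MonoidHom.id Q)
    (by rw [MonoidHom.range_eq_top.2 h₂.1]; exact le_top)
  rw [MonoidHom.id_comp] at hψ₁ hψ₂
  have hs₁ := surjective_of_stem (std_surjective Q) h₁ (η := MonoidHom.id Q) Function.bijective_id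
    (ψ := ψ₁) (by rw [MonoidHom.id_comp]; exact hψ₁)
  obtain ⟨g₁⟩ := e₁
  obtain ⟨g₂⟩ := e₂
  have hinj := cover_bijective h₁ (by rw [Nat.card_congr eA.toEquiv, Nat.card_congr g₁.toEquiv]) hψ₁
  set C := ψ₁.ker with hCdef
  have hC : C ≤ (proj (std Q)).ker := fun c hc => by
    rw [MonoidHom.mem_ker, ← show σ₁ (ψ₁ c) = proj (std Q) c from DFunLike.congr_fun hψ₁ c,
      MonoidHom.mem_ker.1 hc, map_one]
  have hCm : C ⊓ mult (std Q) = ⊥ := (Subgroup.eq_bot_iff_forall _).2 fun m hm => hinj m hm.2 hm.1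
  have hmap := map_mult_eq_ker (std_surjective Q) h₁ (η := MonoidHom.id Q) Function.bijective_id
    (ψ := ψ₁) (by rw [MonoidHom.id_comp]; exact hψ₁)
  have hsup : C ⊔ mult (std Q) = (proj (std Q)).ker := by
    refine le_antisymm (sup_le hC (mult_le_ker _)) fun x hx => ?_
    have h : ψ₁ x ∈ σ₁.ker := by
      rw [MonoidHom.mem_ker, show σ₁ (ψ₁ x) = proj (std Q) x from DFunLike.congr_fun hψ₁ x]; exact hx
    rw [← hmap] at h
    obtain ⟨m, hm, hmx⟩ := h
    rw [show x = (x * m⁻¹) * m by group]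
    exact Subgroup.mul_mem_sup (by rw [hCdef, MonoidHom.mem_ker, map_mul, map_inv, hmx, mul_inv_cancel]) hm
  have hker₂ : ∀ c : C, ψ₂ c ∈ σ₂.ker := fun c => by
    rw [MonoidHom.mem_ker, show σ₂ (ψ₂ c) = proj (std Q) c from DFunLike.congr_fun hψ₂ _]; exact hC c.2
  let lam : C →* A := (g₂.toMonoidHom.comp ((ψ₂.comp C.subtype).codRestrict σ₂.ker hker₂))⁻¹
  obtain ⟨h, hh⟩ := exists_extend hcop hC hCm hsup lam
  have hcen : ∀ a : A, (g₂.symm a : Γ₂) ∈ Subgroup.center Γ₂ := fun a => h₂.2.1 (g₂.symm a).2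
  let ψ : E (std Q) →* Γ₂ := MonoidHom.mk' (fun x => ψ₂ x * (g₂.symm (h x) : Γ₂)) fun x y => by
    show ψ₂ (x * y) * (g₂.symm (h (x * y)) : Γ₂) = _
    rw [map_mul, map_mul h, map_mul g₂.symm, Subgroup.coe_mul, mul_assoc (ψ₂ x),
      ← mul_assoc (ψ₂ y), Subgroup.mem_center_iff.1 (hcen (h x)) (ψ₂ y)]
    group
  have hψ : σ₂.comp ψ = proj (std Q) := MonoidHom.ext fun x => by
    show σ₂ (ψ₂ x * _) = _
    rw [map_mul, MonoidHom.mem_ker.1 (g₂.symm (h x)).2, mul_one]
    exact DFunLike.congr_fun hψ₂ x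
  have hCψ : C ≤ ψ.ker := fun c hc => by
    show ψ₂ c * (g₂.symm (h c) : Γ₂) = 1
    rw [show h c = lam ⟨c, hc⟩ from hh ⟨c, hc⟩]
    show ψ₂ c * (g₂.symm (g₂ ⟨ψ₂ c, hker₂ ⟨c, hc⟩⟩)⁻¹ : Γ₂) = 1
    rw [map_inv, MulEquiv.symm_apply_apply, Subgroup.coe_inv, mul_inv_cancel]
  have hs : Function.Surjective ψ := surjective_of_stem (std_surjective Q) h₂ (η := MonoidHom.id Q)
    Function.bijective_id (by rw [MonoidHom.id_comp]; exact hψ)
  let Φ : Γ₁ →* Γ₂ := MonoidHom.liftOfSurjective ψ₁ hs₁ ⟨ψ, hCψ⟩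
  have hΦ : ∀ x, Φ (ψ₁ x) = ψ x := fun x => MonoidHom.liftOfRightInverse_comp_apply _ _ _ ⟨ψ, hCψ⟩ x
  have hΦs : Function.Surjective Φ := fun y => by
    obtain ⟨x, rfl⟩ := hs y
    exact ⟨ψ₁ x, hΦ x⟩
  refine ⟨MulEquiv.ofBijective Φ (hΦs.bijective_of_nat_card_le
    (by rw [card_eq h₁ ⟨g₁⟩, card_eq h₂ ⟨g₂⟩])), MonoidHom.ext fun y => ?_⟩
  obtain ⟨x, rfl⟩ := hs₁ y
  show σ₂ (Φ (ψ₁ x)) = σ₁ (ψ₁ x)
  rw [hΦ, show σ₂ (ψ x) = proj (std Q) x from DFunLike.congr_fun hψ x]
  exact (DFunLike.congr_fun hψ₁ x).symm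

theorem coprime_of_unique (hA : Cfsg.HasSchurMultiplier Q A)
    (huniq : ∀ (Γ₁ Γ₂ : Type u) [Group Γ₁] [Finite Γ₁] [Group Γ₂] [Finite Γ₂] (σ₁ : Γ₁ →* Q) (σ₂ : Γ₂ →* Q),
      Cfsg.IsStemExtension σ₁ → Cfsg.IsStemExtension σ₂ → Nonempty (σ₁.ker ≃* A) → Nonempty (σ₂.ker ≃* A) →
      ∃ e : Γ₁ ≃* Γ₂, σ₂.comp e.toMonoidHom = σ₁) :
    Nat.Coprime (Nat.card (Abelianization Q)) (Nat.card A) := by
  classical
  obtain ⟨eA⟩ := equiv_of_hasSchurMultiplier hA
  have : Finite A := Finite.of_equiv _ eA.toEquiv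
  have : Finite (Abelianization Q) := Finite.of_surjective Abelianization.of QuotientGroup.mk_surjective
  by_contra hnc
  obtain ⟨p, hp, hpQ, hpA⟩ := Nat.Prime.not_coprime_iff_dvd.1 hnc
  haveI := Fact.mk hp
  -- an element of `A` that is not a `p`-th power
  obtain ⟨a, ha⟩ : ∃ a : A, ∀ b : A, b ^ p ≠ a := by
    by_contra hall
    push Not at hall
    obtain ⟨b, hb⟩ := exists_prime_orderOf_dvd_card' p hpA
    have hinj := Function.Surjective.bijective_of_nat_card_le (f := fun b : A => b ^ p) hall le_rfl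
    have h1 : b = 1 := hinj.1 (show b ^ p = 1 ^ p by rw [one_pow, ← hb, pow_orderOf_eq_one])
    rw [h1, orderOf_one] at hb
    exact hp.one_lt.ne hb
  obtain ⟨C, hC, hCm, hsup, -⟩ := exists_complement (R := Q) (1 : (proj (std Q)).ker →* PUnit.{1})
    fun x => ⟨1, one_mem _, rfl⟩
  haveI hCn : C.Normal := ⟨fun c hc g => by
    rw [Subgroup.mem_center_iff.mp (ker_le_center _ (hC hc)) g, mul_inv_cancel_right]; exact hc⟩
  obtain ⟨q, hq⟩ := exists_prime_orderOf_dvd_card' p hpQ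
  obtain ⟨q, rfl⟩ := QuotientGroup.mk_surjective q
  obtain ⟨x, rfl⟩ := proj_surjective _ (std_surjective Q) q
  obtain ⟨y, hy, d, hd, hyd⟩ : ∃ y ∈ C, ∃ d ∈ _root_.commutator (E (std Q)), x ^ p = y * d := by
    have h1 : proj (std Q) (x ^ p) ∈ _root_.commutator Q := by
      rw [← Abelianization.ker_of, MonoidHom.mem_ker, map_pow, map_pow]
      exact hq ▸ pow_orderOf_eq_one _
    have h2 : _root_.commutator Q = (_root_.commutator (E (std Q))).map (proj (std Q)) := by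
      rw [_root_.commutator_def, _root_.commutator_def, Subgroup.map_commutator,
        Subgroup.map_top_of_surjective _ (proj_surjective _ (std_surjective Q))]
    rw [h2] at h1
    obtain ⟨d, hd, hdx⟩ := h1
    have h3 : x ^ p * d⁻¹ ∈ (proj (std Q)).ker := by
      rw [MonoidHom.mem_ker, map_mul, map_inv, hdx, mul_inv_cancel]
    rw [← hsup] at h3
    obtain ⟨c, hc, m, hm, hcm⟩ := Subgroup.mem_sup_of_normal_left.1 h3
    exact ⟨c, hc, m * d, mul_mem hm.2 hd, by rw [← mul_assoc, hcm, inv_mul_cancel_right]⟩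
  -- an integral functional on `C` prime to `p` at `y`
  haveI : IsMulCommutative C := ⟨⟨fun a b => Subtype.ext (Subgroup.mem_center_iff.mp (ker_le_center _ (hC b.2)) a)⟩⟩
  let θ : Additive C →+ (Q →₀ ℤ) := MonoidHom.toAdditiveLeft ((weight Q).comp C.subtype)
  let θl : Additive C →+ (θ.toIntLinearMap.range : Submodule ℤ (Q →₀ ℤ)) :=
    { toFun := fun c => ⟨θ c, c, rfl⟩
      map_zero' := Subtype.ext (map_zero θ)
      map_add' := fun c c' => Subtype.ext (map_add θ c c') }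
  obtain ⟨k, ⟨B⟩⟩ := Submodule.nonempty_basis_of_pid (Finsupp.basisSingleOne (R := ℤ) (ι := Q)) θ.toIntLinearMap.range
  obtain ⟨i, hi⟩ : ∃ i, ¬ (p : ℤ) ∣ B.repr (θl (Additive.ofMul ⟨y, hy⟩)) i := by
    by_contra hall
    push Not at hall
    choose f hf using hall
    obtain ⟨z, hz⟩ : ∃ z : Additive C, θl z = B.equivFun.symm f := by
      obtain ⟨z, hz⟩ := (B.equivFun.symm f).2
      exact ⟨z, Subtype.ext hz⟩
    have e : θl (Additive.ofMul ⟨y, hy⟩) = (p : ℤ) • θl z := by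
      apply B.repr.injective
      ext j
      rw [map_zsmul, Finsupp.smul_apply, hz, smul_eq_mul, hf j]
      congr 1
      rw [← B.equivFun_apply, LinearEquiv.apply_symm_apply]
    have e' : Multiplicative.toAdd (weight Q y) = (p : ℤ) • Multiplicative.toAdd (weight Q (z.toMul : E (std Q))) :=
      congrArg Subtype.val e
    have hx : Multiplicative.toAdd (weight Q (x ^ p)) = Multiplicative.toAdd (weight Q y) := by
      rw [hyd, map_mul, MonoidHom.mem_ker.1 (weight_ker.ge hd), mul_one]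
    rw [map_pow, toAdd_pow, e', natCast_zsmul] at hx
    have hw : weight Q x = weight Q (z.toMul : E (std Q)) :=
      Multiplicative.toAdd.injective (smul_right_injective (Q →₀ ℤ) hp.ne_zero hx)
    have hxz : x * (z.toMul : E (std Q))⁻¹ ∈ _root_.commutator (E (std Q)) := by
      rw [← weight_ker, MonoidHom.mem_ker, map_mul, map_inv, hw, mul_inv_cancel]
    have hq1 : proj (std Q) x ∈ _root_.commutator Q := by
      have h2 : (_root_.commutator (E (std Q))).map (proj (std Q)) ≤ _root_.commutator Q := by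
        rw [_root_.commutator_def, _root_.commutator_def, Subgroup.map_commutator]
        exact Subgroup.commutator_mono le_top le_top
      have h3 := h2 ⟨_, hxz, rfl⟩
      rwa [map_mul, map_inv, MonoidHom.mem_ker.1 (hC z.toMul.2), inv_one, mul_one] at h3
    rw [← Abelianization.ker_of, MonoidHom.mem_ker] at hq1
    exact hp.one_lt.ne ((orderOf_eq_one_iff.2 hq1).symm.trans hq)
  let g : Multiplicative ℤ →* A := zpowersHom A a
  let gC : C →* Multiplicative ℤ :=
    AddMonoidHom.toMultiplicativeRight (((B.coord i).toAddMonoidHom).comp θl)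
  have : IsMulCommutative (mult (std Q)) := inferInstance
  let mC : C →* E (std Q) := (mult (std Q)).subtype.comp ((eA.symm.toMonoidHom.comp g).comp gC)
  let fC : C →* E (std Q) := MonoidHom.mk' (fun c => (c : E (std Q)) * mC c) fun c c' => by
    show ((c : E (std Q)) * c') * mC (c * c') = _
    rw [map_mul, mul_assoc (c : E (std Q)), ← mul_assoc (c' : E (std Q)),
      Subgroup.mem_center_iff.1 (mult_le_center _ ((eA.symm.toMonoidHom.comp g).comp gC c).2 : mC c ∈ _) (c' : E (std Q))]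
    group
  have hC₂ : fC.range ≤ (proj (std Q)).ker := by
    rintro _ ⟨c, rfl⟩
    exact mul_mem (hC c.2) (mult_le_ker _ ((eA.symm.toMonoidHom.comp g).comp gC c).2)
  have hC₂m : fC.range ⊓ mult (std Q) = ⊥ := by
    rw [Subgroup.eq_bot_iff_forall]
    rintro _ ⟨⟨c, rfl⟩, hm⟩
    have h : (c : E (std Q)) ∈ C ⊓ mult (std Q) := by
      refine ⟨c.2, ?_⟩
      have h' := (mult (std Q)).mul_mem hm ((mult (std Q)).inv_mem ((eA.symm.toMonoidHom.comp g).comp gC c).2)
      rwa [show fC c * (((eA.symm.toMonoidHom.comp g).comp gC c : mult (std Q)) : E (std Q))⁻¹ = c from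
        mul_inv_cancel_right _ _] at h'
    rw [hCm, Subgroup.mem_bot] at h
    rw [show c = 1 from Subtype.ext h, map_one]
  have hsup₂ : fC.range ⊔ mult (std Q) = (proj (std Q)).ker := by
    refine le_antisymm (sup_le hC₂ (mult_le_ker _)) ?_
    rw [← hsup, sup_le_iff]
    refine ⟨fun c hc => ?_, le_sup_right⟩
    rw [show c = fC ⟨c, hc⟩ * (mC ⟨c, hc⟩)⁻¹ from (mul_inv_cancel_right _ _).symm]
    exact Subgroup.mul_mem_sup ⟨_, rfl⟩ (inv_mem ((eA.symm.toMonoidHom.comp g).comp gC ⟨c, hc⟩).2)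
  obtain ⟨hn₁, σ₁, hσ₁, hf₁, hst₁, ⟨k₁⟩⟩ := exists_cover_of_complement hC hCm hsup
  obtain ⟨hn₂, σ₂, hσ₂, hf₂, hst₂, ⟨k₂⟩⟩ := exists_cover_of_complement hC₂ hC₂m hsup₂
  obtain ⟨e, he⟩ := huniq _ _ σ₁ σ₂ hst₁ hst₂ ⟨k₁.trans eA⟩ ⟨k₂.trans eA⟩
  let u : E (std Q) →* E (std Q) ⧸ fC.range := e.toMonoidHom.comp (QuotientGroup.mk' C)
  have hu : ∀ z, σ₂ (u z) = σ₂ (QuotientGroup.mk z) := fun z => by
    show σ₂ (e (QuotientGroup.mk z)) = _
    rw [show σ₂ (e (QuotientGroup.mk z)) = σ₁ (QuotientGroup.mk z) from DFunLike.congr_fun he _,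
      show σ₁ (QuotientGroup.mk z) = proj (std Q) z from DFunLike.congr_fun hσ₁ z]
    exact (DFunLike.congr_fun hσ₂ z).symm
  have hh : ∀ z, (QuotientGroup.mk z : E (std Q) ⧸ fC.range)⁻¹ * u z ∈ σ₂.ker := fun z => by
    rw [MonoidHom.mem_ker, map_mul, map_inv, hu, inv_mul_cancel]
  let h : E (std Q) →* E (std Q) ⧸ fC.range := MonoidHom.mk' (fun z => (QuotientGroup.mk z)⁻¹ * u z) fun z w => by
    show (QuotientGroup.mk (z * w))⁻¹ * u (z * w) = _
    rw [QuotientGroup.mk_mul, mul_inv_rev, map_mul, mul_assoc, ← mul_assoc _ (u z),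
      ← mul_assoc _ _ (u w), Subgroup.mem_center_iff.1 (hst₂.2.1 (hh z)) (QuotientGroup.mk w)⁻¹]
    group
  have hhd : h d = 1 := by
    haveI : IsMulCommutative h.range := ⟨⟨fun a b => Subtype.ext (Subgroup.mem_center_iff.1
      (hst₂.2.1 (by obtain ⟨z, hz⟩ := b.2; rw [← hz]; exact hh z)) a)⟩⟩
    open scoped IsMulCommutative in
    exact congrArg Subtype.val (Abelianization.commutator_subset_ker h.rangeRestrict hd)
  have hhy : h y = QuotientGroup.mk (mC ⟨y, hy⟩) := by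
    show (QuotientGroup.mk y)⁻¹ * u y = _
    rw [show u y = 1 from by
      show e (QuotientGroup.mk y) = 1
      rw [(QuotientGroup.eq_one_iff y).2 hy, map_one], mul_one, inv_eq_iff_mul_eq_one,
      ← QuotientGroup.mk_mul, QuotientGroup.eq_one_iff]
    exact ⟨⟨y, hy⟩, rfl⟩
  -- the value at `x` lies in the image of the multiplier
  obtain ⟨n, hn, hnx⟩ : ∃ n ∈ mult (std Q), QuotientGroup.mk n = h x := by
    obtain ⟨w, hw⟩ := QuotientGroup.mk_surjective (h x)
    have hwk : w ∈ (proj (std Q)).ker := by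
      rw [MonoidHom.mem_ker, ← show σ₂ (QuotientGroup.mk w) = proj (std Q) w from DFunLike.congr_fun hσ₂ w, hw]
      exact hh x
    rw [← hsup₂] at hwk
    haveI : (fC.range).Normal := hn₂
    obtain ⟨c, hc, m, hm, rfl⟩ := Subgroup.mem_sup_of_normal_left.1 hwk
    exact ⟨m, hm, by rw [← hw, QuotientGroup.mk_mul, (QuotientGroup.eq_one_iff c).2 hc, one_mul]⟩
  have hnp : n ^ p = mC ⟨y, hy⟩ := by
    have h1 : (QuotientGroup.mk (n ^ p) : E (std Q) ⧸ fC.range) = QuotientGroup.mk (mC ⟨y, hy⟩) := by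
      rw [QuotientGroup.mk_pow, hnx, ← map_pow, hyd, map_mul, hhd, mul_one, hhy]
    rw [QuotientGroup.eq] at h1
    have h2 := (Subgroup.eq_bot_iff_forall _).1 hC₂m _ ⟨h1, (mult (std Q)).mul_mem ((mult (std Q)).inv_mem (pow_mem hn p))
      ((eA.symm.toMonoidHom.comp g).comp gC ⟨y, hy⟩).2⟩
    exact inv_mul_eq_one.1 h2
  have hb : (eA ⟨n, hn⟩) ^ p = a ^ (B.repr (θl (Additive.ofMul ⟨y, hy⟩)) i) := by
    rw [← map_pow, show (⟨n, hn⟩ : mult (std Q)) ^ p = (eA.symm.toMonoidHom.comp g).comp gC ⟨y, hy⟩ from Subtype.ext hnp]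
    show eA (eA.symm (g (gC ⟨y, hy⟩))) = _
    rw [MulEquiv.apply_symm_apply]
    rfl
  set K := B.repr (θl (Additive.ofMul ⟨y, hy⟩)) i
  obtain ⟨s, t, hst⟩ : IsCoprime (p : ℤ) K := (Nat.prime_iff_prime_int.1 hp).coprime_iff_not_dvd.2 hi
  refine ha (a ^ s * (eA ⟨n, hn⟩) ^ t) ?_
  have h1 : ((eA ⟨n, hn⟩) ^ t) ^ p = a ^ (K * t) := by
    rw [← zpow_natCast ((eA ⟨n, hn⟩) ^ t), ← zpow_mul, mul_comm t (p : ℤ), zpow_mul, zpow_natCast, hb, ← zpow_mul]
  rw [mul_pow, h1, ← zpow_natCast (a ^ s), ← zpow_mul, ← zpow_add, mul_comm K t, hst, zpow_one]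

end



/-- Let `Q` be a finite group with Schur multiplier `A`. Any two Schur covering groups of `Q` (finite stem extensions `σ₁ : Γ₁ →* Q`, `σ₂ : Γ₂ →* Q` with kernels isomorphic to `A`, `Γ₁, Γ₂` in the universe of `Q`) are isomorphic over `Q` — there is a group isomorphism `e : Γ₁ ≃* Γ₂` with `σ₂ ∘ e = σ₁` — if and only if the order of the commutator quotient of `Q` is coprime to the order of `A`. In particular a finite perfect group has a unique Schur covering group up to isomorphism over it. -/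
theorem result {Q : Type u} [Group Q] [Finite Q] {A : Type v} [CommGroup A] (hA : Cfsg.HasSchurMultiplier Q A) : (∀ (Γ₁ Γ₂ : Type u) [Group Γ₁] [Finite Γ₁] [Group Γ₂] [Finite Γ₂] (σ₁ : Γ₁ →* Q) (σ₂ : Γ₂ →* Q), Cfsg.IsStemExtension σ₁ → Cfsg.IsStemExtension σ₂ → Nonempty (σ₁.ker ≃* A) → Nonempty (σ₂.ker ≃* A) → ∃ e : Γ₁ ≃* Γ₂, σ₂.comp e.toMonoidHom = σ₁) ↔ Nat.Coprime (Nat.card (Abelianization Q)) (Nat.card A) := by
  exact ⟨coprime_of_unique hA, unique_of_coprime hA⟩

end Cfsg.Agent.S3974
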