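import Cfsg.Statements.S3975
import Mathlib.GroupTheory.Sylow
-- import your own Cfsg.Agent.* helpers here

set_option autoImplicit false
open Cfsg

namespace Cfsg.Agent.S3975

universe u v

open Pointwise

theorem ncard_smul {G : Type u} [Group G] (g : G) (S : Set G) : (g • S).ncard = S.ncard :=
  Set.ncard_image_of_injective S (mul_right_injective g)

/-- The subsets of a given size. -/
abbrev Subsets (G : Type u) (q : ℕ) := {S : Set G // S.ncard = q}

@[reducible] noncomputable def subsetsAction (G : Type u) [Group G] (q : ℕ) : MulAction G (Subsets G q) where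
  smul g S := ⟨g • (S : Set G), by rw [ncard_smul, S.2]⟩
  one_smul S := Subtype.ext (one_smul G (S : Set G))
  mul_smul g h S := Subtype.ext (mul_smul g h (S : Set G))

/-- Wielandt's count of the subgroups of prime power order. -/
theorem card_subsets_modEq (G : Type u) [Group G] [Finite G] {p β n : ℕ} (hp : p.Prime)
    (hG : Nat.card G = p ^ β * n) :
    Nat.card (Subsets G (p ^ β)) ≡ Nat.card {H : Subgroup G // Nat.card H = p ^ β} * n [MOD p * n] := by
  classical
  set q := p ^ β with hq
  letI := subsetsAction G q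
  set Sub := {H : Subgroup G // Nat.card H = q}
  let f : (Σ H : Sub, G ⧸ H.1) → Subsets G q := fun z =>
    ⟨z.2.out • ((z.1.1 : Subgroup G) : Set G), by
      rw [ncard_smul, ← Nat.card_coe_set_eq]; exact z.1.2⟩
  have hfinj : Function.Injective f := by
    rintro ⟨H, a⟩ ⟨K, b⟩ h
    have h' : a.out • ((H.1 : Subgroup G) : Set G) = b.out • ((K.1 : Subgroup G) : Set G) :=
      congrArg Subtype.val h
    have h1 : b.out⁻¹ * a.out ∈ K.1 := by
      have : a.out ∈ b.out • ((K.1 : Subgroup G) : Set G) := h' ▸ ⟨1, H.1.one_mem, mul_one _⟩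
      obtain ⟨k, hk, hk'⟩ := this
      rw [← hk']; simpa using hk
    have hHK : H = K := by
      refine Subtype.ext (SetLike.coe_injective ?_)
      have h2 : (b.out⁻¹ * a.out) • ((H.1 : Subgroup G) : Set G) = ((K.1 : Subgroup G) : Set G) := by
        rw [mul_smul, h', inv_smul_smul]
      ext x
      constructor
      · intro hx
        have h3 : (b.out⁻¹ * a.out) * x ∈ K.1 := by
          rw [← SetLike.mem_coe, ← h2]; exact ⟨x, hx, rfl⟩
        have h4 := K.1.mul_mem (K.1.inv_mem h1) h3
        simpa [mul_assoc] using h4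
      · intro hx
        have h3 : (b.out⁻¹ * a.out) * x ∈ K.1 := K.1.mul_mem h1 hx
        rw [← SetLike.mem_coe, ← h2] at h3
        obtain ⟨y, hy, hy'⟩ := h3
        exact (mul_left_cancel hy' : y = x) ▸ hy
    subst hHK
    congr 1
    rw [← QuotientGroup.out_eq' a, ← QuotientGroup.out_eq' b]
    exact (QuotientGroup.eq.mpr h1).symm
  have hfrange : ∀ (g : G) (H : Sub), ∃ z, (f z : Set G) = g • ((H.1 : Subgroup G) : Set G) := by
    intro g H
    refine ⟨⟨H, QuotientGroup.mk g⟩, ?_⟩
    obtain ⟨h, hh⟩ := QuotientGroup.mk_out_eq_mul H.1 g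
    show (QuotientGroup.mk g : G ⧸ H.1).out • _ = _
    rw [hh, mul_smul]
    congr 1
    ext x
    constructor
    · rintro ⟨y, hy, rfl⟩; exact H.1.mul_mem h.2 hy
    · intro hx; exact ⟨(h : G)⁻¹ * x, H.1.mul_mem (H.1.inv_mem h.2) hx, by simp⟩
  have hcardT : Nat.card (Set.range f) = Nat.card Sub * n := by
    rw [Nat.card_range_of_injective hfinj]
    have := Fintype.ofFinite Sub
    rw [Nat.card_sigma, Finset.sum_congr rfl (fun H _ => (show Nat.card (G ⧸ H.1) = n from ?_)),
      Finset.sum_const, smul_eq_mul, Finset.card_univ, Nat.card_eq_fintype_card]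
    have h1 := Subgroup.card_eq_card_quotient_mul_card_subgroup H.1
    rw [hG, H.2, mul_comm] at h1
    exact (Nat.eq_of_mul_eq_mul_right (pow_pos hp.pos β) h1).symm
  have hinv : ∀ (g : G) (S : Subsets G q), S ∈ Set.range f → g • S ∈ Set.range f := by
    rintro g _ ⟨⟨H, a⟩, rfl⟩
    obtain ⟨z, hz⟩ := hfrange (g * a.out) H
    refine ⟨z, Subtype.ext (hz.trans ?_)⟩
    show _ = g • (a.out • ((H.1 : Subgroup G) : Set G))
    rw [mul_smul]
  -- outside the range every orbit has size divisible by `p * n`
  have horb : ∀ S : Subsets G q, S ∉ Set.range f → p * n ∣ Nat.card (MulAction.orbit G S) := by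
    intro S hS
    set K := MulAction.stabilizer G S
    letI : MulAction K (S : Set G) :=
      { smul := fun k s => ⟨(k : G) * s, by
          have hk : (k : G) • (S : Set G) = (S : Set G) := congrArg Subtype.val k.2
          have : (k : G) * s ∈ (k : G) • (S : Set G) := ⟨s, s.2, rfl⟩
          rwa [hk] at this⟩
        one_smul := fun s => Subtype.ext (one_mul _)
        mul_smul := fun a b s => Subtype.ext (mul_assoc _ _ _) }
    have horbK : ∀ s : (S : Set G), Nat.card (MulAction.orbit K s) = Nat.card K := fun s => by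
      refine (Nat.card_congr (Equiv.ofBijective (fun k : K => (⟨k • s, ⟨k, rfl⟩⟩ : MulAction.orbit K s))
        ⟨fun a b hab => Subtype.ext (mul_right_cancel
          (congrArg Subtype.val (congrArg Subtype.val hab) : (a : G) * s = (b : G) * s)),
          by rintro ⟨_, k, rfl⟩; exact ⟨k, rfl⟩⟩)).symm
    have hdvd : Nat.card K ∣ q := by
      have := Fintype.ofFinite (Quotient (MulAction.orbitRel K (S : Set G)))
      rw [← S.2, ← Nat.card_coe_set_eq, Nat.card_congr (MulAction.selfEquivSigmaOrbits K (S : Set G)),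
        Nat.card_sigma]
      exact Finset.dvd_sum fun c _ => (horbK _).symm.dvd
    obtain ⟨j, hj, hKj⟩ := (Nat.dvd_prime_pow hp).mp hdvd
    have hos : Nat.card (MulAction.orbit G S) * p ^ j = p ^ β * n := by
      rw [← hKj, ← hG, Nat.card_congr (MulAction.orbitEquivQuotientStabilizer G S)]
      exact (Subgroup.card_eq_card_quotient_mul_card_subgroup K).symm
    rcases hj.lt_or_eq with hlt | rfl
    · refine ⟨p ^ (β - j - 1), Nat.eq_of_mul_eq_mul_right (pow_pos hp.pos j) ?_⟩
      rw [hos, show p * n * p ^ (β - j - 1) * p ^ j = n * (p * p ^ (β - j - 1) * p ^ j) by ring,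
        ← pow_succ', ← pow_add, show β - j - 1 + 1 + j = β by omega, mul_comm]
    · exfalso
      obtain ⟨s, hs⟩ := Set.nonempty_of_ncard_ne_zero
        (show (S : Set G).ncard ≠ 0 by rw [S.2]; exact pow_ne_zero _ hp.ne_zero)
      have hHs : Nat.card (K.map (MulAut.conj s⁻¹).toMonoidHom) = q := by
        rw [Subgroup.card_map_of_injective (MulAut.conj s⁻¹).injective, hKj]
      obtain ⟨z, hz⟩ := hfrange s ⟨_, hHs⟩
      refine hS ⟨z, Subtype.ext (hz.trans ?_)⟩
      refine Set.eq_of_subset_of_ncard_le ?_ (le_of_eq ?_) (Set.toFinite _)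
      · rintro _ ⟨_, ⟨k, hk, rfl⟩, rfl⟩
        show s * (s⁻¹ * k * s⁻¹⁻¹) ∈ (S : Set G)
        rw [show s * (s⁻¹ * k * s⁻¹⁻¹) = k * s by group]
        have hk' : k • (S : Set G) = (S : Set G) := congrArg Subtype.val hk
        rw [← hk']
        exact ⟨s, hs, rfl⟩
      · rw [ncard_smul, S.2, ← Nat.card_coe_set_eq]; exact hHs.symm
  have hsplit : Nat.card (Subsets G q) = Nat.card (Set.range f) +
      Nat.card ↥(Set.range f)ᶜ := by
    rw [← Nat.card_sum, Nat.card_congr (Equiv.Set.sumCompl (Set.range f))]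
  have hcompl : p * n ∣ Nat.card ↥(Set.range f)ᶜ := by
    letI : MulAction G ↥(Set.range f)ᶜ :=
      { smul := fun g S => ⟨g • (S : Subsets G q), fun h => S.2 (by
          have := hinv g⁻¹ _ h; rwa [inv_smul_smul] at this)⟩
        one_smul := fun S => Subtype.ext (one_smul G (S : Subsets G q))
        mul_smul := fun g h S => Subtype.ext (mul_smul g h (S : Subsets G q)) }
    have := Fintype.ofFinite (Quotient (MulAction.orbitRel G ↥(Set.range f)ᶜ))
    rw [Nat.card_congr (MulAction.selfEquivSigmaOrbits G ↥(Set.range f)ᶜ), Nat.card_sigma]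
    refine Finset.dvd_sum fun c _ => ?_
    set S := c.out
    have heq : Nat.card (MulAction.orbit G S) = Nat.card (MulAction.orbit G (S : Subsets G q)) := by
      refine Nat.card_congr (Equiv.ofBijective
        (fun T : MulAction.orbit G S => (⟨(T.1 : Subsets G q), by
          obtain ⟨g, hg⟩ := T.2; exact ⟨g, congrArg Subtype.val hg⟩⟩ : MulAction.orbit G (S : Subsets G q))) ⟨?_, ?_⟩)
      · intro a b hab
        exact Subtype.ext (Subtype.ext (congrArg Subtype.val hab :))
      · rintro ⟨_, g, rfl⟩; exact ⟨⟨g • S, ⟨g, rfl⟩⟩, rfl⟩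
    exact heq ▸ horb _ S.2
  rw [hsplit, hcardT]
  calc _ ≡ Nat.card Sub * n + 0 [MOD p * n] := (Nat.modEq_zero_iff_dvd.mpr hcompl).add_left _
    _ = _ := add_zero _



/-- Let `p` be a prime and `G` a finite group whose order is divisible by `p ^ β`. Then the number of subgroups of `G` of order `p ^ β` is congruent to `1` modulo `p`. (When `p ^ β` is the full power of `p` dividing the order, these are the Sylow `p`-subgroups and this is the usual Sylow count.) -/
theorem result {G : Type*} [Group G] [Finite G] (p β : ℕ) (hp : p.Prime) (hdiv : p ^ β ∣ Nat.card G) : Nat.card {H : Subgroup G // Nat.card H = p ^ β} ≡ 1 [MOD p] := by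
  obtain ⟨n, hn⟩ := hdiv
  have hn0 : n ≠ 0 := fun e => Nat.card_pos.ne' (by rw [hn, e, mul_zero] : Nat.card G = 0)
  have h1 := card_subsets_modEq G hp hn
  set m := Nat.card G with hm
  have : NeZero m := ⟨Nat.card_pos.ne'⟩
  set C := Multiplicative (ZMod m)
  have hC : Nat.card C = m := (Nat.card_congr Multiplicative.toAdd).trans (Nat.card_zmod m)
  have h2 := card_subsets_modEq C hp (hC.trans hn)
  have hX : Nat.card (Subsets G (p ^ β)) = Nat.card (Subsets C (p ^ β)) := by
    obtain ⟨e⟩ : Nonempty (G ≃ C) := ⟨Finite.equivFinOfCardEq rfl |>.trans (Finite.equivFinOfCardEq hC).symm⟩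
    exact Nat.card_congr ((Equiv.Set.congr e).subtypeEquiv fun S => by
      rw [Equiv.Set.congr_apply, Set.ncard_image_of_injective _ e.injective])
  have hone : Nat.card {H : Subgroup C // Nat.card H = p ^ β} = 1 := by
    have := Fact.mk hp
    rw [Nat.card_eq_one_iff_unique]
    obtain ⟨K, hK⟩ := Sylow.exists_subgroup_card_pow_prime (G := C) p (n := β) (hC ▸ ⟨n, hn⟩)
    refine ⟨⟨fun A B => Subtype.ext ?_⟩, ⟨⟨K, hK⟩⟩⟩
    classical
    have := Fintype.ofFinite C
    have key : ∀ H : Subgroup C, Nat.card H = p ^ β →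
        ∀ x, (x ∈ H ↔ x ^ p ^ β = 1) := by
      intro H hH x
      refine ⟨fun hx => orderOf_dvd_iff_pow_eq_one.mp ((H.orderOf_dvd_natCard hx).trans hH.dvd), ?_⟩
      intro hx
      have hsub : (Finset.univ.filter fun y : C => y ∈ H) ⊆ Finset.univ.filter fun y : C => y ^ p ^ β = 1 := by
        intro y hy
        simp only [Finset.mem_filter, Finset.mem_univ, true_and] at hy ⊢
        exact orderOf_dvd_iff_pow_eq_one.mp ((H.orderOf_dvd_natCard hy).trans hH.dvd)
      have heq := Finset.eq_of_subset_of_card_le hsub ((IsCyclic.card_pow_eq_one_le (pow_pos hp.pos β)).trans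
        (le_of_eq (by rw [← hH, Nat.card_eq_fintype_card, Fintype.card_subtype])))
      have : x ∈ Finset.univ.filter fun y : C => y ∈ H := by
        rw [heq]; simpa using hx
      simpa using this
    ext x
    rw [key A A.2, key B B.2]
  rw [hX] at h1
  rw [hone] at h2
  have h3 := h1.symm.trans h2
  exact Nat.ModEq.mul_right_cancel' hn0 h3

end Cfsg.Agent.S3975
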