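import Cfsg.Statements.S3976
import Cfsg.Agent.S3975
import Cfsg.Agent.Layer.Subnormal
-- import your own Cfsg.Agent.* helpers here

set_option autoImplicit false
open Cfsg

namespace Cfsg.Agent.S3976

/-- Let `p` be a prime and `G` a group of order `p ^ m`. For every `s ≤ m` the number of normal subgroups of `G` of order `p ^ s` is congruent to `1` modulo `p`. -/
theorem result {G : Type*} [Group G] [Finite G] (p m s : ℕ) (hp : p.Prime) (hG : Nat.card G = p ^ m) (hs : s ≤ m) : Nat.card {H : Subgroup G // H.Normal ∧ Nat.card H = p ^ s} ≡ 1 [MOD p] := by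
  have : Fact p.Prime := ⟨hp⟩
  have hpG : IsPGroup p G := IsPGroup.of_card hG
  set X := {H : Subgroup G // Nat.card H = p ^ s}
  letI : MulAction G X :=
    { smul := fun g H => ⟨H.1.map (MulAut.conj g).toMonoidHom, by
        rw [Subgroup.card_map_of_injective (MulAut.conj g).injective, H.2]⟩
      one_smul := fun H => Subtype.ext (Cfsg.Agent.Layer.map_conj_one H.1)
      mul_smul := fun g h H => Subtype.ext (Cfsg.Agent.Layer.map_conj_map_conj H.1 h g).symm }
  have h1 := hpG.card_modEq_card_fixedPoints X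
  have h2 := Cfsg.Agent.S3975.result (G := G) p s hp (hG ▸ Nat.pow_dvd_pow p hs)
  have h3 : Nat.card (MulAction.fixedPoints G X) =
      Nat.card {H : Subgroup G // H.Normal ∧ Nat.card H = p ^ s} := by
    refine Nat.card_congr (Equiv.ofBijective (fun H => ⟨H.1.1, ?_, H.1.2⟩) ⟨?_, ?_⟩)
    · rw [← Subgroup.normalizer_eq_top_iff, eq_top_iff]
      intro g _
      exact Subgroup.mem_normalizer_iff_map_conj_eq.mpr (congrArg Subtype.val (H.2 g))
    · intro a b hab
      exact Subtype.ext (Subtype.ext (congrArg Subtype.val hab :))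
    · rintro ⟨H, hn, hc⟩
      exact ⟨⟨⟨H, hc⟩, fun g => Subtype.ext (Cfsg.Agent.Layer.map_conj_eq_of_normal H g)⟩, rfl⟩
  rw [h3] at h1
  exact h1.symm.trans h2

end Cfsg.Agent.S3976
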