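import Cfsg.Statements.S3977
import Cfsg.Agent.Fusion.UniqueInvolution
-- import your own Cfsg.Agent.* helpers here

set_option autoImplicit false
open Cfsg

namespace Cfsg.Agent.S3977

/-- Let `p` be a prime and `G` a group of order `p ^ m` which has exactly one subgroup of order `p ^ s`, where `1 ≤ s < m`, and where `s ≥ 2` if `p = 2`. Then `G` is cyclic. (For `p = 2` and `s = 1` the generalized quaternion groups also occur; that case is the classical criterion for a unique involution.) -/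
theorem result {G : Type*} [Group G] [Finite G] (p m s : ℕ) (hp : p.Prime) (hG : Nat.card G = p ^ m) (hs : 1 ≤ s) (hsm : s < m) (h2 : p ≠ 2 ∨ 2 ≤ s) (huniq : ∀ H K : Subgroup G, Nat.card H = p ^ s → Nat.card K = p ^ s → H = K) : IsCyclic G := by
  have : Fact p.Prime := ⟨hp⟩
  have hpG : IsPGroup p G := IsPGroup.of_card hG
  obtain ⟨H, hH⟩ := Sylow.exists_subgroup_card_pow_prime (G := G) p (n := s) (hG ▸ Nat.pow_dvd_pow p hsm.le)
  have hsmall : ∀ (K : Subgroup G) (k : ℕ), Nat.card K = p ^ k → k ≤ s → K ≤ H := by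
    intro K k hK hk
    obtain ⟨L, hL, hKL⟩ := Sylow.exists_subgroup_card_pow_prime_le p
      (hG ▸ Nat.pow_dvd_pow p hsm.le) K hK hk
    exact hKL.trans (huniq L H hL hH).le
  have hbig : ∀ x : G, x ∉ H → p ^ s < orderOf x := by
    intro x hx
    obtain ⟨k, hk⟩ := IsPGroup.iff_orderOf.mp hpG x
    rw [hk]
    refine Nat.pow_lt_pow_right hp.one_lt (lt_of_not_ge fun hks => hx ?_)
    exact hsmall (Subgroup.zpowers x) k (by rw [Nat.card_zpowers, hk]) hks (Subgroup.mem_zpowers x)
  obtain ⟨x, hx⟩ : ∃ x : G, x ∉ H := by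
    by_contra hcon
    push Not at hcon
    rw [Subgroup.eq_top_iff' H |>.mpr hcon, Subgroup.card_top, hG] at hH
    exact hsm.ne (Nat.pow_right_injective hp.two_le hH).symm
  obtain ⟨k, hk⟩ := IsPGroup.iff_orderOf.mp hpG x
  have hks : s < k := by
    have := hbig x hx
    rw [hk] at this
    exact (Nat.pow_lt_pow_iff_right hp.one_lt).mp this
  obtain ⟨h, hh⟩ : ∃ h : G, orderOf h = p ^ s ∧ H = Subgroup.zpowers h := by
    refine ⟨x ^ p ^ (k - s), ?_, ?_⟩
    · rw [orderOf_pow_of_dvd (pow_ne_zero _ hp.ne_zero) (hk ▸ Nat.pow_dvd_pow p (by omega)), hk,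
        Nat.pow_div (by omega) hp.pos, show k - (k - s) = s by omega]
    · refine (huniq _ H ?_ hH).symm
      rw [Nat.card_zpowers, orderOf_pow_of_dvd (pow_ne_zero _ hp.ne_zero) (hk ▸ Nat.pow_dvd_pow p (by omega)), hk,
        Nat.pow_div (by omega) hp.pos, show k - (k - s) = s by omega]
  have hHc : IsCyclic H := hh.2 ▸ inferInstance
  have huniq' : ∀ U V : Subgroup G, Nat.card U = p → Nat.card V = p → U = V := by
    intro U V hU hV
    have hUH := hsmall U 1 (hU.trans (pow_one p).symm) hs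
    have hVH := hsmall V 1 (hV.trans (pow_one p).symm) hs
    refine Subgroup.eq_of_le_of_card_ge (fun u hu => ?_) (hV.trans hU.symm).le
    have hv : ∃ v ∈ V, v ≠ 1 := by
      by_contra hcon
      push Not at hcon
      rw [(Subgroup.eq_bot_iff_forall V).mpr hcon, Subgroup.card_bot] at hV
      exact hp.ne_one hV.symm
    obtain ⟨v, hv, hv1⟩ := hv
    have hvo : orderOf v = p := orderOf_eq_prime
      (orderOf_dvd_iff_pow_eq_one.mp ((V.orderOf_dvd_natCard hv).trans hV.dvd)) hv1
    exact Subgroup.zpowers_le.mpr hv (Cfsg.Agent.Fusion.mem_zpowers_of_orderOf_dvd hHc (hUH hu) (hVH hv)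
      (hvo ▸ (U.orderOf_dvd_natCard hu).trans hU.dvd))
  rcases Cfsg.Agent.Fusion.cyclic_or_quaternion_of_unique hpG huniq' with hc | ⟨hp2, j, -, ⟨e⟩⟩
  · exact hc
  exfalso
  have hs2 : 2 ≤ s := h2.resolve_left (fun hne => hne hp2)
  have : NeZero (2 ^ j) := ⟨by positivity⟩
  have h4 : 4 ≤ p ^ s := by
    rw [hp2]
    exact le_trans (by norm_num) (Nat.pow_le_pow_right (by norm_num) hs2)
  have hxa : ∀ i, e.symm (QuaternionGroup.xa i) ∈ H := fun i => by
    by_contra hn
    have h1 := hbig _ hn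
    rw [MulEquiv.orderOf_eq, QuaternionGroup.orderOf_xa] at h1
    omega
  refine hx ?_
  have key : ∀ q, e.symm q ∈ H := by
    rintro (i | i)
    · have e1 : (QuaternionGroup.a i : QuaternionGroup (2 ^ j)) = QuaternionGroup.xa 0 * QuaternionGroup.xa (i - ((2 ^ j : ℕ) : ZMod (2 * 2 ^ j))) := by
        rw [QuaternionGroup.xa_mul_xa]; congr 1; ring
      rw [e1, map_mul]
      exact H.mul_mem (hxa _) (hxa _)
    · exact hxa i
  simpa using key (e x)

end Cfsg.Agent.S3977
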