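import Cfsg.Statements.S3978
import Cfsg.Agent.ProjExt.SchurLift
-- import your own Cfsg.Agent.* helpers here

set_option autoImplicit false
open Cfsg

namespace Cfsg.Agent.S3978

/-- A finite group `Q` has trivial Schur multiplier if and only if, for every `n`, every homomorphism from `Q` to the projective general linear group (the quotient of `GL n ℂ` by its centre) lifts to a homomorphism into `GL n ℂ`. -/
theorem result {Q : Type*} [Group Q] [Finite Q] : Cfsg.HasCyclicSchurMultiplier Q 1 ↔ ∀ (n : ℕ) (γ : Q →* (GL (Fin n) ℂ ⧸ Subgroup.center (GL (Fin n) ℂ))), ∃ ρ : Q →* GL (Fin n) ℂ, (QuotientGroup.mk' (Subgroup.center (GL (Fin n) ℂ))).comp ρ = γ := by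
  have hid : Cfsg.IsStemExtension (MonoidHom.id Q) :=
    ⟨Function.surjective_id, by rw [MonoidHom.ker_id]; exact bot_le, by rw [MonoidHom.ker_id]; exact bot_le⟩
  constructor
  · intro h n γ
    obtain ⟨e⟩ := Cfsg.Agent.ProjExt.Schur.equiv_of_hasSchurMultiplier h
    have h1 : Nat.card (Cfsg.Agent.ProjExt.Schur.mult (Cfsg.Agent.ProjExt.Schur.std Q)) = 1 := by
      rw [Nat.card_congr e.toEquiv, Nat.card_congr Multiplicative.toAdd, Nat.card_zmod]
    obtain ⟨ρ, hρ⟩ := Cfsg.Agent.ProjExt.Schur.exists_lift_rep hid (h1.trans_le Nat.card_pos) n γ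
    exact ⟨ρ, hρ⟩
  · intro h
    have h1 := Cfsg.Agent.ProjExt.Schur.injective_of_lifting (σ := MonoidHom.id Q) h
      (ψ := Cfsg.Agent.ProjExt.Schur.proj (Cfsg.Agent.ProjExt.Schur.std Q)) (MonoidHom.id_comp _)
    have hone : ∀ m : Cfsg.Agent.ProjExt.Schur.mult (Cfsg.Agent.ProjExt.Schur.std Q), m = 1 :=
      fun m => Subtype.ext (h1 m m.2 m.2.1)
    have : Subsingleton (Cfsg.Agent.ProjExt.Schur.mult (Cfsg.Agent.ProjExt.Schur.std Q)) :=
      ⟨fun a b => (hone a).trans (hone b).symm⟩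
    have : Unique (Multiplicative (ZMod 1)) := uniqueOfSubsingleton 1
    have : Unique (Cfsg.Agent.ProjExt.Schur.mult (Cfsg.Agent.ProjExt.Schur.std Q)) := uniqueOfSubsingleton 1
    exact Cfsg.Agent.ProjExt.Schur.hasSchurMultiplier_of_equiv MulEquiv.ofUnique

end Cfsg.Agent.S3978
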