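import Cfsg.Statements.S3980
import Cfsg.Agent.ProjExt.SchurProd
-- import your own Cfsg.Agent.* helpers here

set_option autoImplicit false
universe u v w
open Cfsg

namespace Cfsg.Agent.S3980

open Cfsg.Agent.ProjExt.Schur in
theorem part2 {Q₁ : Type*} {Q₂ : Type*} [Group Q₁] [Group Q₂] [Finite Q₁] [Finite Q₂] {A B : Type*} [CommGroup A] [CommGroup B]
    (hA : Cfsg.HasSchurMultiplier Q₁ A) (hB : Cfsg.HasSchurMultiplier Q₂ B)
    (hcop : Nat.Coprime (Nat.card (Abelianization Q₁)) (Nat.card (Abelianization Q₂)))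
    {Δ : Type*} [Group Δ] (τ : Δ →* Q₁ × Q₂) (hτ : Cfsg.IsStemExtension τ) :
    ∃ f : A × B →* τ.ker, Function.Surjective f := by
  have hr : ∀ {Q : Type _} [Group Q] (η : Q →* Q₁ × Q₂), η.range ≤ τ.range := fun η => by
    rw [MonoidHom.range_eq_top.2 hτ.1]; exact le_top
  obtain ⟨ψ₁, h₁⟩ := exists_lift (π := std Q₁) τ hτ.2.1 (MonoidHom.inl Q₁ Q₂) (hr _)
  obtain ⟨ψ₂, h₂⟩ := exists_lift (π := std Q₂) τ hτ.2.1 (MonoidHom.inr Q₁ Q₂)
    (by rw [MonoidHom.range_eq_top.2 hτ.1]; exact le_top)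
  haveI : IsMulCommutative τ.ker :=
    ⟨⟨fun a b => Subtype.ext (Subgroup.mem_center_iff.1 (hτ.2.1 b.2) a)⟩⟩
  open scoped IsMulCommutative in
  obtain ⟨P, hP⟩ := exists_pairing h₁ h₂ hτ.2.1 (std_surjective Q₁) (std_surjective Q₂)
  open scoped IsMulCommutative in
  have hcomm : ∀ x y, Commute (ψ₁ x) (ψ₂ y) := fun x y => by
    have ha : P (Abelianization.of (proj _ x)) (Abelianization.of (proj _ y)) = 1 := by
      rw [← orderOf_eq_one_iff]
      refine Nat.eq_one_of_dvd_coprimes hcop (orderOf_dvd_of_pow_eq_one ?_) (orderOf_dvd_of_pow_eq_one ?_)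
      · rw [← MonoidHom.pow_apply, ← map_pow, pow_card_eq_one', map_one, MonoidHom.one_apply]
      · rw [← map_pow, pow_card_eq_one', map_one]
    have h := hP x y
    rw [ha] at h
    exact commutatorElement_eq_one_iff_mul_comm.1 h.symm
  obtain ⟨eA⟩ := equiv_of_hasSchurMultiplier hA
  obtain ⟨eB⟩ := equiv_of_hasSchurMultiplier hB
  open scoped IsMulCommutative in
  let f1 : A →* τ.ker := ((ψ₁.comp (mult (std Q₁)).subtype).codRestrict τ.ker fun m => by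
    show τ (ψ₁ m) = 1
    rw [show τ (ψ₁ m) = (proj (std Q₁) m, 1) from DFunLike.congr_fun h₁ _,
      show proj (std Q₁) m = 1 from m.2.1]; rfl).comp eA.symm.toMonoidHom
  open scoped IsMulCommutative in
  let f2 : B →* τ.ker := ((ψ₂.comp (mult (std Q₂)).subtype).codRestrict τ.ker fun m => by
    show τ (ψ₂ m) = 1
    rw [show τ (ψ₂ m) = (1, proj (std Q₂) m) from DFunLike.congr_fun h₂ _,
      show proj (std Q₂) m = 1 from m.2.1]; rfl).comp eB.symm.toMonoidHom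
  open scoped IsMulCommutative in
  refine ⟨MonoidHom.coprod f1 f2, fun k => ?_⟩
  obtain ⟨m₁, hm₁, m₂, hm₂, e⟩ := exists_mul_of_commuting (std_surjective Q₁) (std_surjective Q₂) hτ h₁ h₂ hcomm k.2
  refine ⟨(eA ⟨m₁, hm₁⟩, eB ⟨m₂, hm₂⟩), Subtype.ext ?_⟩
  show ψ₁ ((eA.symm (eA ⟨m₁, hm₁⟩) : mult (std Q₁)) : E (std Q₁)) *
    ψ₂ ((eB.symm (eB ⟨m₂, hm₂⟩) : mult (std Q₂)) : E (std Q₂)) = k
  rw [MulEquiv.symm_apply_apply, MulEquiv.symm_apply_apply, e]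



/-- Let `Q₁` and `Q₂` be finite groups whose commutator quotients have coprime orders, with Schur multipliers `A` and `B`. Then the Schur multiplier of `Q₁ × Q₂` is isomorphic to `A × B`. -/
theorem result {Q₁ : Type u} {Q₂ : Type v} [Group Q₁] [Group Q₂] [Finite Q₁] [Finite Q₂] {A B : Type w} [CommGroup A] [CommGroup B] (hA : Cfsg.HasSchurMultiplier Q₁ A) (hB : Cfsg.HasSchurMultiplier Q₂ B) (hcop : Nat.Coprime (Nat.card (Abelianization Q₁)) (Nat.card (Abelianization Q₂))) : Cfsg.HasSchurMultiplier (Q₁ × Q₂) (A × B) := by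
  refine ⟨?_, fun Δ _ _ τ hτ => part2 hA hB hcop τ hτ⟩
  obtain ⟨Γ₁, i₁, j₁, σ₁, h₁, ⟨e₁⟩⟩ := hA.1
  obtain ⟨Γ₂, i₂, j₂, σ₂, h₂, ⟨e₂⟩⟩ := hB.1
  exact ⟨Γ₁ × Γ₂, inferInstance, inferInstance, σ₁.prodMap σ₂,
    Cfsg.Agent.ProjExt.Schur.isStemExtension_prodMap h₁ h₂,
    ⟨(MulEquiv.subgroupCongr (Cfsg.Agent.ProjExt.Schur.prodMap_ker σ₁ σ₂)).trans
      ((Subgroup.prodEquiv σ₁.ker σ₂.ker).trans (MulEquiv.prodCongr e₁ e₂))⟩⟩

end Cfsg.Agent.S3980
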