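import Cfsg.Statements.S3981
import Mathlib

set_option autoImplicit false
open Cfsg

namespace Cfsg.Agent.S3981

/-- Let p be an odd prime, Q a p-subgroup of the finite group G and y an involution normalizing Q. Then Q is maximal among the p-subgroups of G normalized by y if and only if the image of y in N_G(Q) ⧸ Q neither inverts nor centralizes any element of order p there; the latter is phrased inside N_G(Q): for every x in N_G(Q) outside Q with x ^ p ∈ Q, neither y x y⁻¹ x nor y x y⁻¹ x⁻¹ lies in Q. -/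
theorem result {G : Type*} [Group G] [Finite G] (p : ℕ) [Fact p.Prime] (hp2 : p ≠ 2) (Q : Subgroup G) (hQ : IsPGroup p ↥Q) (y : G) (hy : orderOf y = 2) (hyQ : y ∈ Subgroup.normalizer (Q : Set G)) : (∀ R : Subgroup G, IsPGroup p ↥R → Q ≤ R → y ∈ Subgroup.normalizer (R : Set G) → R = Q) ↔ ∀ x : G, x ∈ Subgroup.normalizer (Q : Set G) → x ∉ Q → x ^ p ∈ Q → (y * x * y⁻¹ * x ∉ Q ∧ y * x * y⁻¹ * x⁻¹ ∉ Q) := by
  have hp : p.Prime := Fact.out
  have hyy : y * y = 1 := by rw [← pow_two, ← hy, pow_orderOf_eq_one]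
  have hyi : y⁻¹ = y := inv_eq_of_mul_eq_one_right hyy
  have hinvol : ∀ a : G, y * (y * a * y⁻¹) * y⁻¹ = a := fun a => by
    rw [hyi]
    calc y * (y * a * y) * y = (y * y) * a * (y * y) := by group
      _ = a := by rw [hyy, one_mul, mul_one]
  constructor
  · intro hmax x hxN hxQ hxp
    suffices h : ∀ e : G, (e = x ∨ e = x⁻¹) → y * x * y⁻¹ * e⁻¹ ∈ Q → False by
      exact ⟨fun h1 => h x⁻¹ (Or.inr rfl) (by rwa [inv_inv]), fun h2 => h x (Or.inl rfl) h2⟩
    intro e he hmem
    set R := Q ⊔ Subgroup.zpowers x with hR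
    have hxR : x ∈ R := Subgroup.mem_sup_right (Subgroup.mem_zpowers x)
    have hxpg : IsPGroup p (Subgroup.zpowers x) := by
      obtain ⟨k, hk⟩ := hQ ⟨x ^ p, hxp⟩
      have hk' : (x ^ p) ^ p ^ k = 1 := congrArg Subtype.val hk
      intro z
      obtain ⟨i, hi⟩ := Subgroup.mem_zpowers_iff.1 z.2
      refine ⟨k + 1, Subtype.ext ?_⟩
      show (z : G) ^ p ^ (k + 1) = 1
      rw [← hi, ← zpow_natCast, ← zpow_mul, mul_comm, zpow_mul, zpow_natCast,
        pow_succ', pow_mul, hk', one_zpow]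
    have hRp : IsPGroup p R :=
      hQ.to_sup_of_normal_left' hxpg ((Subgroup.zpowers_le).2 hxN)
    have hyR : y ∈ Subgroup.normalizer (R : Set G) := by
      have hle : R.map (MulAut.conj y).toMonoidHom ≤ R := by
        rw [hR, Subgroup.map_sup, sup_le_iff, MonoidHom.map_zpowers, Subgroup.zpowers_le]
        refine ⟨?_, ?_⟩
        · rintro _ ⟨a, ha, rfl⟩
          exact Subgroup.mem_sup_left ((Subgroup.mem_normalizer_iff.1 hyQ a).1 ha)
        · show y * x * y⁻¹ ∈ R
          have heR : e ∈ R := by rcases he with rfl | rfl; exacts [hxR, inv_mem hxR]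
          have := mul_mem (Subgroup.mem_sup_left hmem : y * x * y⁻¹ * e⁻¹ ∈ R) heR
          rwa [inv_mul_cancel_right] at this
      rw [Subgroup.mem_normalizer_iff]
      intro a
      refine ⟨fun ha => hle ⟨a, ha, rfl⟩, fun ha => ?_⟩
      have h : y * (y * a * y⁻¹) * y⁻¹ ∈ R := hle ⟨_, ha, rfl⟩
      rwa [hinvol] at h
    exact hxQ (hmax R hRp le_sup_left hyR ▸ hxR)
  · intro h R hR hQR hyR
    by_contra hne
    set N := Subgroup.normalizer (Q : Set G)
    set R' := R ⊓ N with hR'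
    have hQR' : Q ≤ R' := le_inf hQR Subgroup.le_normalizer
    haveI : (Q.subgroupOf R').Normal :=
      (Subgroup.normal_subgroupOf_iff_le_normalizer hQR').2 inf_le_right
    have hlt : ¬ R' ≤ Q := by
      intro hle
      haveI : Group.IsNilpotent R := hR.isNilpotent
      have h1 : Q.subgroupOf R < ⊤ := by
        rw [lt_top_iff_ne_top, Ne, Subgroup.subgroupOf_eq_top]
        exact fun h2 => hne (le_antisymm h2 hQR)
      obtain ⟨a, ha, haQ⟩ := SetLike.exists_of_lt (Group.normalizerCondition_of_isNilpotent _ h1)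
      refine haQ (hle ⟨a.2, Subgroup.mem_normalizer_iff.2 fun b => ⟨fun hb => ?_, fun hb => ?_⟩⟩)
      · have := (Subgroup.mem_normalizer_iff.1 ha ⟨b, hQR hb⟩).1 hb
        simpa [Subgroup.mem_subgroupOf] using this
      · have hbR : b ∈ R := by
          have := mul_mem (mul_mem (inv_mem a.2) (hQR hb)) a.2
          simpa [mul_assoc] using this
        exact (Subgroup.mem_normalizer_iff.1 ha ⟨b, hbR⟩).2 (by simpa [Subgroup.mem_subgroupOf] using hb)
    set M := R' ⧸ Q.subgroupOf R'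
    haveI : Nontrivial M := (QuotientGroup.nontrivial_iff (N := Q.subgroupOf R')).2
      (fun e => hlt (Subgroup.subgroupOf_eq_top.1 e))
    have hM : IsPGroup p M := (hR.to_le inf_le_left).to_quotient _
    haveI : Nontrivial (Subgroup.center M) := hM.center_nontrivial
    obtain ⟨k, hk⟩ := IsPGroup.iff_card.1 (hM.to_subgroup (Subgroup.center M))
    have hk1 : k ≠ 0 := fun e => by
      rw [e, pow_zero] at hk
      exact (Finite.one_lt_card_iff_nontrivial.2 ‹Nontrivial (Subgroup.center M)›).ne' hk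
    obtain ⟨z, hz⟩ := exists_prime_orderOf_dvd_card' (G := Subgroup.center M) p (hk ▸ dvd_pow_self p hk1)
    obtain ⟨x, hx⟩ := QuotientGroup.mk'_surjective (Q.subgroupOf R') (z : M)
    have hmk : ∀ a : R', (QuotientGroup.mk' (Q.subgroupOf R')) a = 1 ↔ (a : G) ∈ Q := fun a => by
      rw [QuotientGroup.mk'_apply, QuotientGroup.eq_one_iff, Subgroup.mem_subgroupOf]
    have hord : orderOf (z : M) = p := by rw [Subgroup.orderOf_coe, hz]
    have hxQ : (x : G) ∉ Q := fun hq => by
      have h2 := (hmk x).2 hq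
      rw [hx] at h2
      rw [h2, orderOf_one] at hord
      exact hp.one_lt.ne hord
    have hxp : (x : G) ^ p ∈ Q := by
      have h2 := (hmk (x ^ p)).1 (by rw [map_pow, hx, ← hord, pow_orderOf_eq_one])
      rwa [SubgroupClass.coe_pow] at h2
    -- conjugate of x by y
    have hx'mem : y * x * y⁻¹ ∈ R' := by
      refine ⟨(Subgroup.mem_normalizer_iff.1 hyR x).1 x.2.1, ?_⟩
      exact N.mul_mem (N.mul_mem hyQ x.2.2) (N.inv_mem hyQ)
    set x' : R' := ⟨y * x * y⁻¹, hx'mem⟩
    obtain ⟨hn1, -⟩ := h x x.2.2 hxQ hxp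
    set w : R' := x * x'
    have hwQ : (w : G) ∉ Q := by
      intro hw
      refine hn1 ?_
      have hn := (Subgroup.normalizer (Q : Set G))
      have := (Subgroup.mem_normalizer_iff.1 (inv_mem x.2.2) _).1 hw
      have e : (x : G)⁻¹ * (w : G) * ((x : G)⁻¹)⁻¹ = y * x * y⁻¹ * x := by
        show (x : G)⁻¹ * (x * (y * x * y⁻¹)) * ((x : G)⁻¹)⁻¹ = _
        group
      rwa [e] at this
    have hcomm : Commute (QuotientGroup.mk' (Q.subgroupOf R') x) (QuotientGroup.mk' (Q.subgroupOf R') x') := by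
      rw [hx]
      exact ((Subgroup.mem_center_iff.1 z.2) _).symm
    have hx'p : QuotientGroup.mk' (Q.subgroupOf R') x' ^ p = 1 := by
      rw [← map_pow, hmk, SubgroupClass.coe_pow]
      show (y * x * y⁻¹) ^ p ∈ Q
      rw [conj_pow]
      exact (Subgroup.mem_normalizer_iff.1 hyQ _).1 hxp
    have hwp : (w : G) ^ p ∈ Q := by
      have h2 := (hmk (w ^ p)).1 (by
        rw [map_pow, map_mul, hcomm.mul_pow, hx'p, mul_one, hx, ← hord, pow_orderOf_eq_one])
      rwa [SubgroupClass.coe_pow] at h2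
    refine (h w w.2.2 hwQ hwp).2 ?_
    have e : y * (w : G) * y⁻¹ = ((x' * x : R') : G) := by
      show y * (x * (y * x * y⁻¹)) * y⁻¹ = y * x * y⁻¹ * x
      calc y * ((x : G) * (y * x * y⁻¹)) * y⁻¹ = y * x * y⁻¹ * (y * (y * x * y⁻¹) * y⁻¹) := by group
        _ = y * x * y⁻¹ * x := by rw [hinvol]
    have h2 := (hmk (x' * x * w⁻¹)).1 (by
      rw [map_mul, map_mul, map_inv, map_mul, hcomm.eq, mul_inv_cancel])
    rw [e]
    exact h2

end Cfsg.Agent.S3981
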