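import Cfsg.Statements.S3982
import Mathlib

set_option autoImplicit false
open Cfsg
open scoped Pointwise

namespace Cfsg.Agent.S3982

/-- Let p be an odd prime and G a finite group of even order divisible by p in which the centralizer of every non-identity p-element has odd order. If some nontrivial p-subgroup of G has a normalizer of even order, then the normalizer of every Sylow p-subgroup of G has even order. -/
theorem result {G : Type*} [Group G] [Finite G] (p : ℕ) [Fact p.Prime] (hp2 : p ≠ 2) (hpG : p ∣ Nat.card G) (h2G : 2 ∣ Nat.card G) (hC : ∀ g : G, g ≠ 1 → (∃ k : ℕ, orderOf g = p ^ k) → Odd (Nat.card ↥(Subgroup.centralizer ({g} : Set G)))) (Q : Subgroup G) (hQ : IsPGroup p ↥Q) (hQ1 : Q ≠ ⊥) (hev : Even (Nat.card ↥(Subgroup.normalizer (Q : Set G)))) (P : Sylow p G) : Even (Nat.card ↥(Subgroup.normalizer ((P : Subgroup G) : Set G))) := by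
  have hp : p.Prime := Fact.out
  set N0 := Subgroup.normalizer (Q : Set G)
  obtain ⟨y0, hy0⟩ := exists_prime_orderOf_dvd_card' (G := N0) 2 (even_iff_two_dvd.1 hev)
  have hy : orderOf (y0 : G) = 2 := by rw [Subgroup.orderOf_coe, hy0]
  set y : G := (y0 : G) with hydef
  have hy2 : y * y = 1 := by rw [← pow_two, ← hy, pow_orderOf_eq_one]
  have hyi : y⁻¹ = y := inv_eq_of_mul_eq_one_right hy2
  -- no p-element commutes with y
  have hno : ∀ g : G, (∃ k : ℕ, orderOf g = p ^ k) → Commute g y → g = 1 := by
    intro g hg hc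
    by_contra h1
    have hodd := hC g h1 hg
    have hd : 2 ∣ Nat.card (Subgroup.centralizer ({g} : Set G)) := by
      rw [← hy]
      have := orderOf_dvd_natCard (⟨y, Subgroup.mem_centralizer_singleton_iff.2 hc.symm.eq⟩ :
        Subgroup.centralizer ({g} : Set G))
      rwa [← Subgroup.orderOf_coe] at this
    exact (Nat.not_even_iff_odd.2 hodd) (even_iff_two_dvd.2 hd)
  -- a maximal y-invariant p-subgroup
  obtain ⟨R, hQR, hR⟩ := (Set.toFinite {R : Subgroup G | IsPGroup p R ∧
    y ∈ Subgroup.normalizer (R : Set G)}).exists_le_maximal (a := Q) ⟨hQ, y0.2⟩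
  obtain ⟨⟨hRp, hyR⟩, hRmax⟩ := hR
  have hR1 : R ≠ ⊥ := fun h => hQ1 (le_bot_iff.1 (h ▸ hQR))
  -- y inverts R
  have hinv : ∀ r ∈ R, y * r * y⁻¹ = r⁻¹ := by
    intro r hr
    let ψ : R →* R :=
      { toFun := fun a => ⟨y * a * y⁻¹, (Subgroup.mem_normalizer_iff.1 hyR a).1 a.2⟩
        map_one' := Subtype.ext (by simp)
        map_mul' := fun a b => Subtype.ext (by simp [mul_assoc]) }
    have hff : MonoidHom.FixedPointFree ψ := by
      intro a ha
      refine Subtype.ext (hno a ?_ ?_)
      · obtain ⟨k, hk⟩ := IsPGroup.iff_orderOf.1 hRp a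
        exact ⟨k, by rw [Subgroup.orderOf_coe, hk]⟩
      · have e : y * (a : G) * y⁻¹ = a := congrArg Subtype.val ha
        exact (eq_mul_inv_iff_mul_eq.1 e.symm : (a : G) * y = y * a)
    have hinvol : Function.Involutive ψ := fun a => Subtype.ext (by
      show y * (y * a * y⁻¹) * y⁻¹ = a
      rw [hyi]
      calc y * (y * a * y) * y = (y * y) * a * (y * y) := by group
        _ = a := by rw [hy2, one_mul, mul_one])
    have := congrFun (MonoidHom.FixedPointFree.coe_eq_inv_of_involutive hff hinvol) ⟨r, hr⟩
    exact congrArg Subtype.val this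
  have hRs : ∀ P' : Sylow p G, R ≤ P' → R = P' := by
    intro P' hle
    by_contra hne
    set N := Subgroup.normalizer (R : Set G) with hN
    set C := Subgroup.centralizer (R : Set G) with hCdef
    have hCN : C ≤ N := Subgroup.centralizer_le_normalizer (R : Set G)
    -- R is properly contained in a p-subgroup of its normalizer
    have hgrow : p ∣ R.relIndex N := by
      have hlt : R < (P' : Subgroup G) := lt_of_le_of_ne hle hne
      have hlt' : R.subgroupOf (P' : Subgroup G) < ⊤ := by
        rw [lt_top_iff_ne_top, Ne, Subgroup.subgroupOf_eq_top]; exact not_le_of_gt hlt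
      haveI : Group.IsNilpotent (P' : Subgroup G) := P'.2.isNilpotent
      obtain ⟨a, haN, haR⟩ := SetLike.exists_of_lt (Group.normalizerCondition_of_isNilpotent _ hlt')
      have haN' : (a : G) ∈ N := by
        rw [hN, Subgroup.mem_normalizer_iff]
        intro h
        constructor
        · intro hh
          have := (Subgroup.mem_normalizer_iff.1 haN ⟨h, hle hh⟩).1 hh
          simpa [Subgroup.mem_subgroupOf] using this
        · intro hh
          have hhP : h ∈ (P' : Subgroup G) := by
            have := mul_mem (mul_mem (inv_mem a.2) (hle hh)) a.2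
            convert this using 1; group
          exact (Subgroup.mem_normalizer_iff.1 haN ⟨h, hhP⟩).2 (by simpa [Subgroup.mem_subgroupOf] using hh)
      haveI : (R.subgroupOf N).Normal :=
        (Subgroup.normal_subgroupOf_iff_le_normalizer Subgroup.le_normalizer).2 le_rfl
      show p ∣ (R.subgroupOf N).index
      obtain ⟨k, hk⟩ := IsPGroup.iff_orderOf.1 P'.2 a
      have hne1 : ((⟨(a : G), haN'⟩ : N) : N ⧸ R.subgroupOf N) ≠ 1 := by
        rw [Ne, QuotientGroup.eq_one_iff, Subgroup.mem_subgroupOf]; exact haR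
      have hdvd : orderOf ((⟨(a : G), haN'⟩ : N) : N ⧸ R.subgroupOf N) ∣ p ^ k := by
        refine (orderOf_map_dvd (QuotientGroup.mk' (R.subgroupOf N)) _).trans ?_
        rw [← Subgroup.orderOf_coe (⟨(a : G), haN'⟩ : N)]
        rw [← Subgroup.orderOf_coe] at hk
        exact (dvd_of_eq hk)
      obtain ⟨j, -, hj⟩ := (Nat.dvd_prime_pow hp).1 hdvd
      rcases j with - | j
      · exact absurd (orderOf_eq_one_iff.1 (by simpa using hj)) hne1
      · exact (dvd_pow_self p j.succ_ne_zero).trans (hj ▸ orderOf_dvd_natCard _)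
    -- C has odd order
    have hCodd : Odd (Nat.card C) := by
      obtain ⟨a, ha⟩ := (R.ne_bot_iff_exists_ne_one).1 hR1
      obtain ⟨k, hk⟩ := IsPGroup.iff_orderOf.1 hRp a
      refine Odd.of_dvd_nat (hC a (fun h => ha (Subtype.ext h)) ⟨k, by rw [Subgroup.orderOf_coe, hk]⟩)
        (Subgroup.card_dvd_of_le ?_)
      intro c hc
      rw [Subgroup.mem_centralizer_singleton_iff]
      exact (Subgroup.mem_centralizer_iff.1 hc a a.2).symm
    -- N = C * C_N(y)
    have hfac : ∀ n ∈ N, ∃ c ∈ C, ∃ m : G, Commute m y ∧ n = c * m := by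
      intro n hn
      set k := n * y * n⁻¹ * y⁻¹ with hk
      have hkC : k ∈ C := by
        rw [hCdef, Subgroup.mem_centralizer_iff]
        intro r hr
        set r' := n⁻¹ * r * n with hr'
        have hr'R : r' ∈ R := by
          have := (Subgroup.mem_normalizer_iff.1 (inv_mem hn) r).1 hr
          rwa [inv_inv] at this
        have e1 : y⁻¹ * r * y⁻¹⁻¹ = r⁻¹ := by rw [hyi]; exact hinv r hr
        have e2 : y * r'⁻¹ * y⁻¹ = r' := by rw [hinv _ (inv_mem hr'R), inv_inv]
        have : k * r * k⁻¹ = r := by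
          calc k * r * k⁻¹ = n * (y * (n⁻¹ * (y⁻¹ * r * y⁻¹⁻¹) * n) * y⁻¹) * n⁻¹ := by
                rw [hk]; group
            _ = n * (y * r'⁻¹ * y⁻¹) * n⁻¹ := by rw [e1, hr']; group
            _ = r := by rw [e2, hr']; group
        exact (mul_inv_eq_iff_eq_mul.1 this).symm
      have hinvk : y * k * y⁻¹ = k⁻¹ := by
        rw [hk]
        simp only [mul_inv_rev, inv_inv, hyi]
        calc y * (n * y * n⁻¹ * y) * y = y * n * y * n⁻¹ * (y * y) := by group
          _ = y * (n * (y * n⁻¹)) := by rw [hy2]; group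
      obtain ⟨j, hj⟩ : Odd (orderOf k) :=
        Odd.of_dvd_nat hCodd (by simpa using orderOf_dvd_natCard (⟨k, hkC⟩ : C))
      set w := k ^ (j + 1) with hw
      have hwk : w * w = k := by
        rw [hw, ← pow_add, show j + 1 + (j + 1) = orderOf k + 1 by omega, pow_succ,
          pow_orderOf_eq_one, one_mul]
      have hwi : y * w * y⁻¹ = w⁻¹ := by
        rw [hw, ← MulAut.conj_apply, map_pow, MulAut.conj_apply, hinvk, inv_pow]
      have hwy : w * y * w⁻¹ = k * y := by
        have e : y * w⁻¹ * y⁻¹ = w := by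
          calc y * w⁻¹ * y⁻¹ = (y * w * y⁻¹)⁻¹ := by group
            _ = w := by rw [hwi, inv_inv]
        calc w * y * w⁻¹ = w * (y * w⁻¹ * y⁻¹) * y := by group
          _ = k * y := by rw [e, hwk]
      refine ⟨w, pow_mem hkC _, w⁻¹ * n, ?_, by group⟩
      show w⁻¹ * n * y = y * (w⁻¹ * n)
      calc w⁻¹ * n * y = w⁻¹ * (k * y) * n := by rw [hk]; group
        _ = y * (w⁻¹ * n) := by rw [← hwy]; group
    -- the index of C in N is prime to p
    haveI : (C.subgroupOf N).Normal := by
      rw [hCdef]; infer_instance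
    have hCidx : ¬ p ∣ C.relIndex N := by
      intro hd
      set T := Subgroup.centralizer ({y} : Set G) ⊓ N with hT
      let f : T →* N ⧸ C.subgroupOf N :=
        (QuotientGroup.mk' (C.subgroupOf N)).comp (Subgroup.inclusion inf_le_right)
      have hf : Function.Surjective f := by
        intro q
        induction q using QuotientGroup.induction_on with
        | _ n =>
          obtain ⟨c, hc, m, hm, e⟩ := hfac n n.2
          have hmN : m ∈ N := by
            have : m = c⁻¹ * n := by rw [e]; group
            rw [this]; exact mul_mem (inv_mem (hCN hc)) n.2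
          refine ⟨⟨m, Subgroup.mem_centralizer_singleton_iff.2 hm.eq, hmN⟩, ?_⟩
          refine QuotientGroup.eq.2 ?_
          show (m⁻¹ : G) * n ∈ C
          have hcm : m⁻¹ * c * m⁻¹⁻¹ ∈ C := by
            have := Subgroup.Normal.conj_mem (H := C.subgroupOf N) inferInstance ⟨c, hCN hc⟩ hc
              (⟨m, hmN⟩⁻¹ : N)
            exact this
          rw [e]
          have : m⁻¹ * (c * m) = m⁻¹ * c * m⁻¹⁻¹ := by group
          rw [this]; exact hcm
      have hdT : p ∣ Nat.card T := hd.trans (Subgroup.card_dvd_of_surjective f hf)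
      obtain ⟨t, ht⟩ := exists_prime_orderOf_dvd_card' (G := T) p hdT
      have := hno t ⟨1, by rw [pow_one, Subgroup.orderOf_coe, ht]⟩
        (Subgroup.mem_centralizer_singleton_iff.1 t.2.1)
      rw [show t = 1 from Subtype.ext this, orderOf_one] at ht
      exact hp.one_lt.ne ht
    -- a y-invariant Sylow p-subgroup of C
    have hyN : y ∈ N := hyR
    let σ : C → C := fun c => ⟨y * c * y⁻¹, by
      have := Subgroup.Normal.conj_mem (H := C.subgroupOf N) inferInstance ⟨c, hCN c.2⟩ c.2
        (⟨y, hyN⟩ : N)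
      exact this⟩
    let e : C ≃* C :=
      { toFun := σ, invFun := σ
        left_inv := fun c => Subtype.ext (by
          show y * (y * c * y⁻¹) * y⁻¹ = c
          rw [hyi]
          calc y * (y * c * y) * y = (y * y) * c * (y * y) := by group
            _ = c := by rw [hy2, one_mul, mul_one])
        right_inv := fun c => Subtype.ext (by
          show y * (y * c * y⁻¹) * y⁻¹ = c
          rw [hyi]
          calc y * (y * c * y) * y = (y * y) * c * (y * y) := by group
            _ = c := by rw [hy2, one_mul, mul_one])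
        map_mul' := fun a b => Subtype.ext (by simp [σ, mul_assoc]) }
    have hee : ∀ c, e (e c) = c := e.left_inv
    let τ : Sylow p C → Sylow p C := fun S => e • S
    have hττ : Function.Involutive τ := fun S => by
      show e • e • S = S
      rw [smul_smul]
      have : e * e = 1 := MulEquiv.ext hee
      rw [this, one_smul]
    obtain ⟨S, hS⟩ : ∃ S, τ S = S := by
      haveI : Fintype (Sylow p C) := Fintype.ofFinite _
      refine Equiv.Perm.exists_fixed_point_of_prime (p := 2) (n := 1) ?_ (σ := hττ.toPerm) ?_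
      · intro hd
        have : Odd (Nat.card (Sylow p C)) := by
          obtain ⟨S0⟩ : Nonempty (Sylow p C) := inferInstance
          exact hCodd.of_dvd_nat (S0.card_dvd_index.trans (Subgroup.index_dvd_card _))
        rw [Nat.card_eq_fintype_card] at this
        exact (Nat.not_even_iff_odd.2 this) (even_iff_two_dvd.2 hd)
      · refine Equiv.ext fun x => ?_
        rw [pow_one, pow_two]
        exact hττ x
    set T := (S : Subgroup C).map C.subtype with hT
    have hyT : ∀ c : C, c ∈ (S : Subgroup C) → e c ∈ (S : Subgroup C) := by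
      intro c hc
      have h1 : ((τ S : Sylow p C) : Subgroup C) = S := by rw [hS]
      rw [← h1]
      exact Subgroup.smul_mem_pointwise_smul c e _ hc
    have hyT' : y ∈ Subgroup.normalizer (T : Set G) := by
      rw [Subgroup.mem_normalizer_iff]
      intro h
      constructor
      · rintro ⟨c, hc, rfl⟩
        exact ⟨e c, hyT c hc, rfl⟩
      · rintro ⟨c, hc, hce⟩
        refine ⟨e c, hyT c hc, ?_⟩
        show y * (c : G) * y⁻¹ = h
        have hce' : (c : G) = y * h * y⁻¹ := hce
        rw [hce', hyi]
        calc y * (y * h * y) * y = (y * y) * h * (y * y) := by group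
          _ = h := by rw [hy2, one_mul, mul_one]
    have hRC : R ≤ C := by
      intro a ha
      rw [hCdef, Subgroup.mem_centralizer_iff]
      intro b hb
      have h3 : (a * b)⁻¹ = a⁻¹ * b⁻¹ := by
        rw [← hinv a ha, ← hinv b hb, ← hinv _ (mul_mem ha hb)]; group
      calc b * a = ((b * a)⁻¹)⁻¹ := (inv_inv _).symm
        _ = (a⁻¹ * b⁻¹)⁻¹ := by rw [mul_inv_rev]
        _ = a * b := by rw [← h3, inv_inv]
    have hRS : R.subgroupOf C ≤ (S : Subgroup C) := by
      haveI : (R.subgroupOf C).Normal := ⟨fun r hr c => by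
        rw [Subgroup.mem_subgroupOf] at hr ⊢
        have e' : ((c * r * c⁻¹ : C) : G) = (r : G) := by
          show (c : G) * r * (c : G)⁻¹ = r
          rw [← Subgroup.mem_centralizer_iff.1 c.2 r hr]; group
        rw [e']; exact hr⟩
      have hRC' : IsPGroup p (R.subgroupOf C) := hRp.comap_subtype
      have hsup := IsPGroup.to_sup_of_normal_left hRC' S.2
      exact le_sup_left.trans (S.3 hsup le_sup_right).le
    have hRT : R ≤ T := fun r hr => ⟨⟨r, hRC hr⟩, hRS hr, rfl⟩
    have hTR : T ≤ R := hRmax ⟨S.2.map _, hyT'⟩ hRT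
    have hSR : (S : Subgroup C) = R.subgroupOf C :=
      le_antisymm (fun c hc => hTR ⟨c, hc, rfl⟩) hRS
    have hnd : ¬ p ∣ R.relIndex C := by
      show ¬ p ∣ (R.subgroupOf C).index
      rw [← hSR]; exact S.not_dvd_index
    rw [← Subgroup.relIndex_mul_relIndex R C N hRC hCN] at hgrow
    exact (hp.dvd_mul.1 hgrow).elim hnd hCidx
  obtain ⟨P', hP'⟩ := hRp.exists_le_sylow
  have hyP' : y ∈ Subgroup.normalizer ((P' : Subgroup G) : Set G) := hRs P' hP' ▸ hyR
  obtain ⟨g, rfl⟩ := MulAction.exists_smul_eq G P' P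
  rw [even_iff_two_dvd, ← hy]
  have hmem : g * y * g⁻¹ ∈ Subgroup.normalizer (((g • P' : Sylow p G) : Subgroup G) : Set G) := by
    rw [Sylow.smul_def, Sylow.pointwise_smul_def, Subgroup.mem_normalizer_iff]
    intro h
    rw [Subgroup.mem_pointwise_smul_iff_inv_smul_mem, Subgroup.mem_pointwise_smul_iff_inv_smul_mem]
    simp only [MulAut.smul_def, map_inv, MulAut.inv_def, MulAut.conj_symm_apply]
    rw [Subgroup.mem_normalizer_iff.1 hyP' (g⁻¹ * h * g)]
    simp [mul_assoc]
  have hord := orderOf_dvd_natCard (⟨g * y * g⁻¹, hmem⟩ :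
    Subgroup.normalizer (((g • P' : Sylow p G) : Subgroup G) : Set G))
  rw [← Subgroup.orderOf_coe] at hord
  simpa [← MulAut.conj_apply] using hord

end Cfsg.Agent.S3982
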