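import Cfsg.Statements.S3983

set_option autoImplicit false
open scoped Pointwise
open Cfsg

namespace Cfsg.Agent.S3983

/-- Let P be a Sylow p-subgroup of the finite group G that meets each conjugate g P g⁻¹ with g outside N_G(P) trivially, and let U be a subgroup of G of order divisible by p. Then a Sylow p-subgroup Q of U has the same property inside U: Q meets each conjugate u Q u⁻¹ with u ∈ U outside N_U(Q) trivially. -/
theorem result {G : Type*} [Group G] [Finite G] (p : ℕ) [Fact p.Prime] (P : Sylow p G) (hTI : ∀ g : G, g ∉ Subgroup.normalizer ((P : Subgroup G) : Set G) → (P : Subgroup G) ⊓ (MulAut.conj g • (P : Subgroup G)) = ⊥) (U : Subgroup G) (hU : p ∣ Nat.card ↥U) (Q : Sylow p ↥U) : ∀ u : ↥U, u ∉ Subgroup.normalizer ((Q : Subgroup ↥U) : Set ↥U) → (Q : Subgroup ↥U) ⊓ (MulAut.conj u • (Q : Subgroup ↥U)) = ⊥ := by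
  intro u hu
  obtain ⟨S, hS⟩ := ((Q.2.map U.subtype : IsPGroup p ((Q : Subgroup U).map U.subtype))).exists_le_sylow
  obtain ⟨h, hh⟩ := MulAction.exists_smul_eq G P S
  have hSco : (S : Subgroup G) = MulAut.conj h • (P : Subgroup G) := by
    rw [← hh]; rfl
  have hTIS : ∀ g : G, g ∉ Subgroup.normalizer ((S : Subgroup G) : Set G) →
      ∀ y ∈ (S : Subgroup G), g⁻¹ * y * g ∈ (S : Subgroup G) → y = 1 := by
    intro g hg y hy hgy
    have hn : h⁻¹ * g * h ∉ Subgroup.normalizer ((P : Subgroup G) : Set G) := by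
      intro hn
      refine hg (Subgroup.mem_normalizer_iff.2 fun z => ?_)
      have h1 := Subgroup.mem_normalizer_iff.1 hn (h⁻¹ * z * h)
      rw [hSco, Subgroup.mem_pointwise_smul_iff_inv_smul_mem,
        Subgroup.mem_pointwise_smul_iff_inv_smul_mem]
      simpa [MulAut.smul_def, mul_assoc] using h1
    have h2 := hTI _ hn
    rw [hSco, Subgroup.mem_pointwise_smul_iff_inv_smul_mem] at hy hgy
    have h3 : h⁻¹ * y * h ∈ (P : Subgroup G) ⊓ (MulAut.conj (h⁻¹ * g * h) • (P : Subgroup G)) := by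
      refine ⟨show h⁻¹ * y * h ∈ (P : Subgroup G) by simpa [MulAut.smul_def, mul_assoc] using hy, ?_⟩
      show h⁻¹ * y * h ∈ MulAut.conj (h⁻¹ * g * h) • (P : Subgroup G)
      rw [Subgroup.mem_pointwise_smul_iff_inv_smul_mem]
      simpa [MulAut.smul_def, mul_assoc] using hgy
    rw [h2, Subgroup.mem_bot] at h3
    have h4 := congrArg (fun z => h * z * h⁻¹) h3
    simpa [mul_assoc] using h4
  have hQS : ∀ z : U, z ∈ (Q : Subgroup U) → (z : G) ∈ (S : Subgroup G) := fun z hz => hS ⟨z, hz, rfl⟩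
  have hmax : (S : Subgroup G).subgroupOf U = (Q : Subgroup U) :=
    Q.3 S.2.comap_subtype fun z hz => hQS z hz
  have hun : (u : G) ∉ Subgroup.normalizer ((S : Subgroup G) : Set G) := by
    intro hn
    refine hu (Subgroup.mem_normalizer_iff.2 fun z => ?_)
    rw [← hmax, Subgroup.mem_subgroupOf, Subgroup.mem_subgroupOf]
    exact Subgroup.mem_normalizer_iff.1 hn (z : G)
  rw [eq_bot_iff]
  rintro y ⟨hy, hy'⟩
  obtain ⟨w, hw, rfl⟩ := hy'
  refine Subgroup.mem_bot.2 (Subtype.ext ?_)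
  refine hTIS (u : G) hun _ (hQS _ hy) ?_
  have : (u : G)⁻¹ * ((u : G) * (w : G) * (u : G)⁻¹) * (u : G) = w := by group
  simpa [mul_assoc] using hQS _ hw

end Cfsg.Agent.S3983
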