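import Cfsg.Statements.S3984
import Cfsg.Agent.Coprime.Basic
import Cfsg.Agent.Layer.PConstraint

set_option autoImplicit false
open scoped Pointwise
open Cfsg

namespace Cfsg.Agent.S3984

open Subgroup
open scoped Pointwise

/-- Let P be a Sylow p-subgroup of the finite group G that meets each conjugate g P g⁻¹ with g outside N_G(P) trivially, and let N be a normal subgroup of G of order prime to p. Then every Sylow p-subgroup Q of G ⧸ N meets each conjugate x Q x⁻¹ with x outside its normalizer trivially. -/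
theorem result {G : Type*} [Group G] [Finite G] (p : ℕ) [Fact p.Prime] (P : Sylow p G) (hTI : ∀ g : G, g ∉ Subgroup.normalizer ((P : Subgroup G) : Set G) → (P : Subgroup G) ⊓ (MulAut.conj g • (P : Subgroup G)) = ⊥) (N : Subgroup G) [N.Normal] (hN : (Nat.card ↥N).Coprime p) (Q : Sylow p (G ⧸ N)) : ∀ x : G ⧸ N, x ∉ Subgroup.normalizer ((Q : Subgroup (G ⧸ N)) : Set (G ⧸ N)) → (Q : Subgroup (G ⧸ N)) ⊓ (MulAut.conj x • (Q : Subgroup (G ⧸ N))) = ⊥ := by
  intro x hx
  set f := QuotientGroup.mk' N with hf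
  have hfs : Function.Surjective f := QuotientGroup.mk'_surjective N
  obtain ⟨c, hc⟩ := MulAction.exists_smul_eq (G ⧸ N) (P.mapSurjective hfs) Q
  obtain ⟨a, rfl⟩ := hfs c
  obtain ⟨g, rfl⟩ := hfs x
  have hmap : ∀ (b : G) (H : Subgroup G), (MulAut.conj b • H).map f = MulAut.conj (f b) • H.map f := fun b H => by
    rw [Coprime.conj_smul_eq_map, Coprime.conj_smul_eq_map, Subgroup.map_map, Subgroup.map_map]
    exact congrArg (Subgroup.map · H) (MonoidHom.ext fun y => by simp)
  set P' := a • P with hP'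
  have hP'c : (P' : Subgroup G) = MulAut.conj a • (P : Subgroup G) := rfl
  have hQ : (Q : Subgroup (G ⧸ N)) = (P' : Subgroup G).map f := by
    rw [← hc, hP'c, hmap]; rfl
  have hP'g : (P' : Subgroup G).map f ⊓ MulAut.conj (f g) • (P' : Subgroup G).map f =
      (P' : Subgroup G).map f ⊓ (MulAut.conj g • (P' : Subgroup G)).map f := by rw [hmap]
  rw [hQ, hP'g, eq_bot_iff]
  intro y hy
  obtain ⟨⟨s, hs, rfl⟩, t, ht, hts⟩ := mem_inf.mp hy
  by_contra hne
  have hne' : f s ≠ 1 := fun e => hne (mem_bot.mpr e)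
  -- `⟨s⟩` and `⟨t⟩` are conjugate under `N`
  have hst : s⁻¹ * t ∈ N := by
    rw [← QuotientGroup.eq_one_iff]; show f (s⁻¹ * t) = 1
    rw [map_mul, map_inv, hts, inv_mul_cancel]
  have hsp : IsPGroup p (zpowers s) := P'.2.to_le (zpowers_le.mpr hs)
  have htp : IsPGroup p (zpowers t) := (P'.2.map _).to_le (zpowers_le.mpr (by
    rw [← Coprime.conj_smul_eq_map]; exact ht))
  obtain ⟨m, hm⟩ := IsPGroup.iff_card.mp hsp
  obtain ⟨m', hm'⟩ := IsPGroup.iff_card.mp htp
  have hsK : zpowers s ≤ normalizer (N : Set G) := by rw [normalizer_eq_top]; exact le_top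
  have htK : zpowers t ≤ normalizer (N : Set G) := by rw [normalizer_eq_top]; exact le_top
  have hd1 : N ⊓ zpowers s = ⊥ := inf_eq_bot_of_coprime (by rw [hm]; exact hN.pow_right m)
  have hd2 : N ⊓ zpowers t = ⊥ := inf_eq_bot_of_coprime (by rw [hm']; exact hN.pow_right m')
  have hsup : N ⊔ zpowers t = N ⊔ zpowers s := by
    refine le_antisymm (sup_le le_sup_left ?_) (sup_le le_sup_left ?_)
    · rw [zpowers_le, sup_comm, show t = s * (s⁻¹ * t) by group]; exact mul_mem_sup (mem_zpowers s) hst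
    · rw [zpowers_le, sup_comm, show s = t * (s⁻¹ * t)⁻¹ by group]; exact mul_mem_sup (mem_zpowers t) (inv_mem hst)
  have hcard : Nat.card (zpowers t) = Nat.card (zpowers s) := by
    have h1 := congrArg (fun Y : Subgroup G => Nat.card Y) hsup
    simp only [Coprime.card_sup_eq_mul htK hd2, Coprime.card_sup_eq_mul hsK hd1] at h1
    exact Nat.eq_of_mul_eq_mul_left Nat.card_pos h1
  haveI : IsMulCommutative (zpowers s) := inferInstance
  obtain ⟨n, hn, hnt⟩ := Coprime.exists_conj_eq (B := zpowers t) hsK (by rw [hm]; exact hN.symm.pow_left m)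
    (Or.inl inferInstance) (le_sup_right.trans hsup.le) hcard
  have hfn : f n = 1 := (QuotientGroup.eq_one_iff n).mpr hn
  have hmem : n * t * n⁻¹ ∈ (P' : Subgroup G) := by
    refine zpowers_le.mpr hs ?_
    rw [← hnt, Coprime.mem_conj_smul]
    simp [mul_assoc]
  replace ht : g⁻¹ * t * g ∈ (P' : Subgroup G) := Coprime.mem_conj_smul.mp (show t ∈ MulAut.conj g • (P' : Subgroup G) from ht)
  -- the conjugate `a⁻¹ n g a` meets `P` nontrivially
  set k := a⁻¹ * n * g * a with hk
  rw [hP'c, Coprime.mem_conj_smul] at ht hmem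
  set u := a⁻¹ * (n * t * n⁻¹) * a with hu
  have hu1 : u ≠ 1 := fun e => hne' (by
    have h2 : f u = 1 := by rw [e, map_one]
    rw [hu, map_mul, map_mul, map_mul, map_mul, map_inv, map_inv, hfn, inv_one, one_mul, mul_one, hts] at h2
    have h3 := congrArg (fun z => f a * z * (f a)⁻¹) h2
    simpa [mul_assoc] using h3)
  have hkN : k ∈ normalizer ((P : Subgroup G) : Set G) := by
    by_contra hkn
    have h5 : u ∈ (P : Subgroup G) ⊓ MulAut.conj k • (P : Subgroup G) := mem_inf.mpr ⟨hmem, by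
      rw [Coprime.mem_conj_smul]
      convert ht using 1
      rw [hu, hk]; group⟩
    rw [hTI k hkn, mem_bot] at h5
    exact hu1 h5
  refine hx ?_
  rw [hQ]
  have h6 : n * g ∈ normalizer ((P' : Subgroup G) : Set G) := by
    rw [hP'c, show n * g = a * k * a⁻¹ by rw [hk]; group, Coprime.conj_smul_eq_map]
    rw [mem_normalizer_iff_map_conj_eq] at hkN ⊢
    conv_rhs => rw [← hkN, Subgroup.map_map]
    rw [Subgroup.map_map]
    exact congrArg (Subgroup.map · (P : Subgroup G)) (MonoidHom.ext fun y => by simp [mul_assoc])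
  have h7 := Subgroup.le_normalizer_map f (mem_map_of_mem f h6)
  rwa [map_mul, hfn, one_mul] at h7

end Cfsg.Agent.S3984
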