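import Cfsg.Statements.S3985
import Mathlib

set_option autoImplicit false
open scoped Pointwise
open Cfsg
open scoped Pointwise

namespace Cfsg.Agent.S3985

/-- Let P be a cyclic Sylow p-subgroup of the finite group G. Then P meets each conjugate g P g⁻¹ with g outside N_G(P) trivially if and only if P is weakly self-centralizing: C_G(x) = C_G(P) for every non-identity x ∈ P. -/
theorem result {G : Type*} [Group G] [Finite G] (p : ℕ) [Fact p.Prime] (P : Sylow p G) (hcyc : IsCyclic ↥(P : Subgroup G)) : (∀ g : G, g ∉ Subgroup.normalizer ((P : Subgroup G) : Set G) → (P : Subgroup G) ⊓ (MulAut.conj g • (P : Subgroup G)) = ⊥) ↔ ∀ x : G, x ∈ (P : Subgroup G) → x ≠ 1 → Subgroup.centralizer ({x} : Set G) = Subgroup.centralizer ((P : Subgroup G) : Set G) := by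
  have hp : p.Prime := Fact.out
  set N := Subgroup.normalizer ((P : Subgroup G) : Set G) with hN
  have hconj : ∀ g x : G, x ∈ MulAut.conj g • (P : Subgroup G) ↔ g⁻¹ * x * g ∈ (P : Subgroup G) := by
    intro g x
    simp [Subgroup.mem_pointwise_smul_iff_inv_smul_mem, MulAut.smul_def, mul_assoc]
  have hab : ∀ a b : G, a ∈ (P : Subgroup G) → b ∈ (P : Subgroup G) → a * b = b * a := fun a b ha hb =>
    congrArg Subtype.val (hcyc.commGroup.mul_comm ⟨a, ha⟩ ⟨b, hb⟩)
  constructor
  · intro hTI x hx hx1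
    refine le_antisymm ?_ (Subgroup.centralizer_le (Set.singleton_subset_iff.2 hx))
    intro g hg
    have hgx : g * x = x * g := Subgroup.mem_centralizer_singleton_iff.1 hg
    have hgN : g ∈ N := by
      by_contra hn
      have hm : x ∈ (P : Subgroup G) ⊓ MulAut.conj g • (P : Subgroup G) := by
        refine ⟨hx, (hconj g x).2 ?_⟩
        rw [mul_assoc, ← hgx, inv_mul_cancel_left]
        exact hx
      rw [hTI g hn, Subgroup.mem_bot] at hm
      exact hx1 hm
    obtain ⟨⟨a, ha⟩, hgen⟩ := hcyc.exists_generator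
    obtain ⟨u, hu⟩ : ∃ u : ℤ, a ^ u = g * a * g⁻¹ := by
      obtain ⟨u, hu⟩ := hgen ⟨g * a * g⁻¹, (Subgroup.mem_normalizer_iff.1 hgN a).1 ha⟩
      exact ⟨u, congrArg Subtype.val hu⟩
    obtain ⟨i, hi⟩ : ∃ i : ℤ, a ^ i = x := by
      obtain ⟨i, hi⟩ := hgen ⟨x, hx⟩
      exact ⟨i, congrArg Subtype.val hi⟩
    obtain ⟨k, hk⟩ := IsPGroup.iff_orderOf.1 P.2 ⟨x, hx⟩
    rw [← Subgroup.orderOf_coe] at hk
    change orderOf x = p ^ k at hk
    have hpu : (p : ℤ) ∣ u - 1 := by
      have h1 : x ^ u = x := by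
        rw [← hi, ← zpow_mul, mul_comm, zpow_mul, hu, conj_zpow, hi, hgx, mul_inv_cancel_right]
      have h2 : (orderOf x : ℤ) ∣ u - 1 := by
        rw [orderOf_dvd_iff_zpow_eq_one, zpow_sub, h1, zpow_one, mul_inv_cancel]
      refine dvd_trans ?_ h2
      rcases k with - | k
      · exact absurd (orderOf_eq_one_iff.1 (by simpa using hk)) hx1
      · exact_mod_cast hk ▸ dvd_pow_self p k.succ_ne_zero
    obtain ⟨n, hn⟩ := IsPGroup.iff_orderOf.1 P.2 ⟨a, ha⟩
    rw [← Subgroup.orderOf_coe] at hn
    change orderOf a = p ^ n at hn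
    have hpow : ∀ j : ℕ, g ^ j * a * (g ^ j)⁻¹ = a ^ u ^ j := by
      intro j
      induction j with
      | zero => simp
      | succ j ih =>
        calc g ^ (j + 1) * a * (g ^ (j + 1))⁻¹ = g * (g ^ j * a * (g ^ j)⁻¹) * g⁻¹ := by
              rw [pow_succ']; group
          _ = g * a ^ (u ^ j) * g⁻¹ := by rw [ih]
          _ = (g * a * g⁻¹) ^ (u ^ j) := by rw [conj_zpow]
          _ = a ^ u ^ (j + 1) := by rw [← hu, ← zpow_mul, pow_succ']
    set e := p ^ n with he
    have hce : g ^ e ∈ Subgroup.centralizer ({a} : Set G) := by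
      rw [Subgroup.mem_centralizer_singleton_iff, ← mul_inv_eq_iff_eq_mul, hpow]
      have hd : (p : ℤ) ^ (n + 1) ∣ u ^ (p ^ n) - 1 := by
        have := dvd_sub_pow_of_dvd_sub hpu n
        rwa [one_pow] at this
      have hone : a ^ (u ^ e - 1) = 1 := by
        refine orderOf_dvd_iff_zpow_eq_one.1 ?_
        rw [show orderOf a = p ^ n from hn]
        push_cast
        exact (pow_dvd_pow _ n.le_succ).trans hd
      rwa [zpow_sub, zpow_one, mul_inv_eq_one] at hone
    -- the p'-part
    have hcm : g ^ ((P : Subgroup G).relIndex N) ∈ Subgroup.centralizer ({a} : Set G) := by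
      haveI : ((P : Subgroup G).subgroupOf N).Normal :=
        (Subgroup.normal_subgroupOf_iff_le_normalizer Subgroup.le_normalizer).2 le_rfl
      have := Subgroup.pow_index_mem ((P : Subgroup G).subgroupOf N) (⟨g, hgN⟩ : N)
      rw [Subgroup.mem_subgroupOf, SubgroupClass.coe_pow] at this
      rw [Subgroup.mem_centralizer_singleton_iff]
      exact hab _ _ this ha
    have hco : Nat.Coprime e ((P : Subgroup G).relIndex N) := by
      refine Nat.Coprime.pow_left n ((Nat.Prime.coprime_iff_not_dvd hp).2 fun hd => ?_)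
      exact P.not_dvd_index (hd.trans (Subgroup.relIndex_dvd_index_of_le Subgroup.le_normalizer))
    have hga : g ∈ Subgroup.centralizer ({a} : Set G) := by
      have h1 := (Nat.gcd_eq_gcd_ab e ((P : Subgroup G).relIndex N))
      rw [Nat.coprime_iff_gcd_eq_one.1 hco] at h1
      have : g = (g ^ e) ^ Nat.gcdA e ((P : Subgroup G).relIndex N) *
          (g ^ ((P : Subgroup G).relIndex N)) ^ Nat.gcdB e ((P : Subgroup G).relIndex N) := by
        rw [← zpow_natCast g e, ← zpow_natCast g ((P : Subgroup G).relIndex N), ← zpow_mul,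
          ← zpow_mul, ← zpow_add, ← h1, Nat.cast_one, zpow_one]
      rw [this]
      exact mul_mem (zpow_mem hce _) (zpow_mem hcm _)
    rw [Subgroup.mem_centralizer_iff]
    intro z hz
    obtain ⟨j, hj⟩ : ∃ j : ℤ, a ^ j = z := by
      obtain ⟨j, hj⟩ := hgen ⟨z, hz⟩
      exact ⟨j, congrArg Subtype.val hj⟩
    rw [← hj]
    exact ((show Commute g a from Subgroup.mem_centralizer_singleton_iff.1 hga).zpow_right j).eq.symm
  · intro h g hg
    rw [eq_bot_iff]
    rintro x ⟨hx, hxg⟩
    rw [Subgroup.mem_bot]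
    by_contra hx1
    set C := Subgroup.centralizer ((P : Subgroup G) : Set G) with hC
    have hy := (hconj g x).1 hxg
    have hy1 : g⁻¹ * x * g ≠ 1 := fun e => hx1 (by
      calc x = g * (g⁻¹ * x * g) * g⁻¹ := by group
        _ = 1 := by rw [e, mul_one, mul_inv_cancel])
    -- g P g⁻¹ centralizes P
    have hle : ∀ b ∈ (P : Subgroup G), g * b * g⁻¹ ∈ C := by
      intro b hb
      rw [← h x hx hx1, Subgroup.mem_centralizer_singleton_iff]
      have e := hab b (g⁻¹ * x * g) hb hy
      calc g * b * g⁻¹ * x = g * (b * (g⁻¹ * x * g)) * g⁻¹ := by group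
        _ = g * ((g⁻¹ * x * g) * b) * g⁻¹ := by rw [e]
        _ = x * (g * b * g⁻¹) := by group
    have hPn : (P : Subgroup G) ≤ Subgroup.normalizer ((P : Subgroup G) : Set G) :=
      Subgroup.le_normalizer
    have hgP : MulAut.conj g • (P : Subgroup G) ≤ N := by
      intro b hb
      have hb' := hle _ ((hconj g b).1 hb)
      have e : g * (g⁻¹ * b * g) * g⁻¹ = b := by group
      rw [e] at hb'
      exact Subgroup.centralizer_le_normalizer ((P : Subgroup G) : Set G) hb'
    refine hg ?_
    haveI : ((P : Subgroup G).subgroupOf N).Normal :=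
      (Subgroup.normal_subgroupOf_iff_le_normalizer Subgroup.le_normalizer).2 le_rfl
    haveI : Unique (Sylow p N) := Sylow.unique_of_normal (P.subtype hPn) ‹_›
    have heq : (g • P).subtype (show ((g • P : Sylow p G) : Subgroup G) ≤ N from hgP) =
        P.subtype hPn := Subsingleton.elim _ _
    show g ∈ Subgroup.normalizer (P : Set G)
    rw [← Sylow.smul_eq_iff_mem_normalizer]
    exact Sylow.subtype_injective heq

end Cfsg.Agent.S3985
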