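import Cfsg.Statements.S3986
import Cfsg.Agent.Coprime.Generation
-- import your own Cfsg.Agent.* helpers here

set_option autoImplicit false
open Cfsg

namespace Cfsg.Agent.S3986

/-- Let p be a prime and G a finite group. Then some Sylow p-subgroup of G is a direct factor of G (it is normal and has a normal complement) if and only if every element of p-power order commutes with every element whose order is a power of a prime other than p. -/
theorem result {G : Type*} [Group G] [Finite G] (p : ℕ) [Fact p.Prime] : (∃ (P : Sylow p G) (K : Subgroup G), (P : Subgroup G).Normal ∧ K.Normal ∧ (P : Subgroup G) ⊓ K = ⊥ ∧ (P : Subgroup G) ⊔ K = ⊤) ↔ ∀ x y : G, (∃ a : ℕ, orderOf x = p ^ a) → (∃ q b : ℕ, q.Prime ∧ q ≠ p ∧ orderOf y = q ^ b) → x * y = y * x := by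
  have hp : p.Prime := Fact.out
  constructor
  · rintro ⟨P, K, hPn, hKn, hinf, hsup⟩ x y ⟨a, ha⟩ ⟨q, b, hq, hqp, hb⟩
    have hxP : x ∈ (P : Subgroup G) := by
      have hX : IsPGroup p (Subgroup.zpowers x) := IsPGroup.of_card (n := a) (by rw [Nat.card_zpowers, ha])
      obtain ⟨Q, hQ⟩ := hX.exists_le_sylow
      haveI := P.unique_of_normal hPn
      exact (Subsingleton.elim Q P ▸ hQ) (Subgroup.mem_zpowers x)
    have hyK : y ∈ K := by
      have hcard : Nat.card (G ⧸ K) = Nat.card (P : Subgroup G) := by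
        rw [← Subgroup.index_eq_card]
        refine (Subgroup.IsComplement'.index_eq_card ?_)
        exact Subgroup.isComplement'_of_disjoint_and_mul_eq_univ
          (disjoint_iff.mpr hinf) (by rw [← Subgroup.mul_normal, hsup, Subgroup.coe_top])
      rw [← QuotientGroup.eq_one_iff, ← orderOf_eq_one_iff]
      have h1 : orderOf (y : G ⧸ K) ∣ q ^ b := hb ▸ orderOf_map_dvd (QuotientGroup.mk' K) y
      have h2 : orderOf (y : G ⧸ K) ∣ Nat.card (P : Subgroup G) := hcard ▸ orderOf_dvd_natCard _
      obtain ⟨n, hn⟩ := IsPGroup.iff_card.mp P.2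
      rw [hn] at h2
      exact Nat.eq_one_of_dvd_coprimes
        (Nat.coprime_pow_primes b n hq hp hqp) h1 h2
    exact Subgroup.commute_of_normal_of_disjoint _ _ hPn hKn (disjoint_iff.mpr hinf) x y hxP hyK
  · intro h
    obtain ⟨P⟩ : Nonempty (Sylow p G) := inferInstance
    have hPel : ∀ x ∈ (P : Subgroup G), ∃ a : ℕ, orderOf x = p ^ a := fun x hx => by
      obtain ⟨k, hk⟩ := IsPGroup.iff_orderOf.mp P.2 ⟨x, hx⟩
      exact ⟨k, by rw [← hk, ← Subgroup.orderOf_coe]⟩
    have hcent : ∀ q : ℕ, q.Prime → q ≠ p → ∀ Q : Sylow q G,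
        (Q : Subgroup G) ≤ Subgroup.centralizer ((P : Subgroup G) : Set G) := by
      intro q hq hqp Q y hy
      haveI := Fact.mk hq
      obtain ⟨k, hk⟩ := IsPGroup.iff_orderOf.mp Q.2 ⟨y, hy⟩
      rw [Subgroup.mem_centralizer_iff]
      exact fun x hx => h x y (hPel x hx) ⟨q, k, hq, hqp, by rw [← hk, ← Subgroup.orderOf_coe]⟩
    have hPn : (P : Subgroup G).Normal := by
      rw [← Subgroup.normalizer_eq_top_iff, eq_top_iff]
      refine Coprime.le_of_forall_sylow_le fun q hq => ?_
      haveI := Fact.mk hq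
      by_cases hqp : q = p
      · subst hqp
        let e : (⊤ : Subgroup G) ≃* G := Subgroup.topEquiv
        refine ⟨P.mapSurjective (f := e.symm.toMonoidHom) e.symm.surjective, ?_⟩
        rintro _ ⟨_, ⟨x, hx, rfl⟩, rfl⟩
        exact Subgroup.le_normalizer hx
      · let e : (⊤ : Subgroup G) ≃* G := Subgroup.topEquiv
        obtain ⟨Q⟩ : Nonempty (Sylow q G) := inferInstance
        refine ⟨Q.mapSurjective (f := e.symm.toMonoidHom) e.symm.surjective, ?_⟩
        rintro _ ⟨_, ⟨x, hx, rfl⟩, rfl⟩
        exact Subgroup.centralizer_le_normalizer _ (hcent q hq hqp Q hx)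
    obtain ⟨K, hK⟩ := Subgroup.exists_right_complement'_of_coprime P.card_coprime_index
    refine ⟨P, K, hPn, ?_, disjoint_iff.mp hK.disjoint, hK.sup_eq_top⟩
    -- the complement centralises `P`
    have hKC : K ≤ Subgroup.centralizer ((P : Subgroup G) : Set G) := by
      refine Coprime.le_of_forall_sylow_le fun q hq => ?_
      haveI := Fact.mk hq
      obtain ⟨R⟩ : Nonempty (Sylow q K) := inferInstance
      refine ⟨R, ?_⟩
      by_cases hqp : q = p
      · subst hqp
        obtain ⟨n, hn⟩ := IsPGroup.iff_card.mp R.2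
        have hcop : (Nat.card (P : Subgroup G)).Coprime (Nat.card K) :=
          hK.symm.index_eq_card ▸ P.card_coprime_index
        rcases Nat.eq_zero_or_pos n with rfl | hn0
        · have hb : (R : Subgroup K) = ⊥ := Subgroup.card_eq_one.mp (by rw [hn, pow_zero])
          rw [hb, Subgroup.map_bot]; exact bot_le
        · have h1 : q ∣ Nat.card K := (dvd_pow_self q hn0.ne').trans (hn ▸ Subgroup.card_subgroup_dvd_card _)
          intro x _
          exfalso
          obtain ⟨m, hm⟩ := IsPGroup.iff_card.mp P.2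
          rcases Nat.eq_zero_or_pos m with rfl | hm0
          · have hnd : ¬ q ∣ (P : Subgroup G).index := P.not_dvd_index
            exact hnd (hK.symm.index_eq_card ▸ h1)
          · rw [hm] at hcop
            exact hp.ne_one (Nat.dvd_one.mp (hcop.gcd_eq_one ▸ Nat.dvd_gcd (dvd_pow_self q hm0.ne') h1))
      · rintro _ ⟨x, hx, rfl⟩
        obtain ⟨Q, hQ⟩ := (R.2.map K.subtype).exists_le_sylow
        exact hcent q hq hqp Q (hQ (Subgroup.mem_map_of_mem _ hx))
    rw [← Subgroup.normalizer_eq_top_iff, eq_top_iff, ← hK.sup_eq_top]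
    exact sup_le ((Subgroup.le_centralizer_iff.mp hKC).trans (Subgroup.centralizer_le_normalizer _))
      Subgroup.le_normalizer

end Cfsg.Agent.S3986
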