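import Cfsg.Statements.S3987
import Cfsg.Agent.Core.MinimalNonNilpotent
import Cfsg.Agent.Core.Complements

set_option autoImplicit false
open Cfsg

namespace Cfsg.Agent.S3987

/-- Let p be a prime and G a finite group. Then some Sylow p-subgroup of G is a direct factor of G (normal with a normal complement) if and only if for every element x of p-power order and every element y whose order is a power of a prime other than p, the conjugacy class of x y has as many elements as the product of the sizes of the classes of x and of y. -/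
theorem result {G : Type*} [Group G] [Finite G] (p : ℕ) [Fact p.Prime] : (∃ (P : Sylow p G) (K : Subgroup G), (P : Subgroup G).Normal ∧ K.Normal ∧ (P : Subgroup G) ⊓ K = ⊥ ∧ (P : Subgroup G) ⊔ K = ⊤) ↔ ∀ x y : G, (∃ a : ℕ, orderOf x = p ^ a) → (∃ q b : ℕ, q.Prime ∧ q ≠ p ∧ orderOf y = q ^ b) → (Subgroup.centralizer ({x * y} : Set G)).index = (Subgroup.centralizer ({x} : Set G)).index * (Subgroup.centralizer ({y} : Set G)).index := by
  classical
  have hp : p.Prime := Fact.out
  have hcent : ∀ x y : G, Subgroup.centralizer {x} ⊓ Subgroup.centralizer {y} ≤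
      Subgroup.centralizer {x * y} := by
    intro x y g hg
    refine Subgroup.mem_centralizer_singleton_iff.2 ?_
    have h1 := Subgroup.mem_centralizer_singleton_iff.1 hg.1
    have h2 := Subgroup.mem_centralizer_singleton_iff.1 hg.2
    calc g * (x * y) = x * (g * y) := by rw [← mul_assoc, h1, mul_assoc]
      _ = _ := by rw [h2, mul_assoc]
  constructor
  · rintro ⟨P, K, hPn, hKn, hinf, hsup⟩ x y ⟨a, hxa⟩ ⟨q, b, hq, hqp, hyb⟩
    haveI := hPn
    haveI := hKn
    have hcomm : ∀ u ∈ (P : Subgroup G), ∀ v ∈ K, u * v = v * u := fun u hu v hv =>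
      Subgroup.commute_of_normal_of_disjoint _ _ hPn hKn (disjoint_iff.2 hinf) u v hu hv
    obtain ⟨m, hm⟩ := P.isPGroup'.exists_card_eq
    have hKi : K.index = p ^ m := by
      have h1 := Subgroup.relIndex_sup_right (H := (P : Subgroup G)) (K := K)
      rw [hsup, Subgroup.relIndex_top_right, ← Subgroup.inf_relIndex_right, inf_comm, hinf,
        Subgroup.relIndex_bot_left, hm] at h1
      exact h1
    have hx : x ∈ (P : Subgroup G) := by
      have hz : IsPGroup p (Subgroup.zpowers x) := IsPGroup.of_card (n := a) (by rw [Nat.card_zpowers, hxa])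
      obtain ⟨T, hT⟩ := hz.exists_le_sylow
      haveI := Sylow.unique_of_normal P hPn
      rw [Subsingleton.elim P T]
      exact hT (Subgroup.mem_zpowers x)
    have hy : y ∈ K := by
      rw [← QuotientGroup.eq_one_iff, ← orderOf_eq_one_iff]
      have h1 : orderOf (y : G ⧸ K) ∣ q ^ b := hyb ▸ orderOf_map_dvd (QuotientGroup.mk' K) y
      have h2 : orderOf (y : G ⧸ K) ∣ p ^ m := hKi ▸ orderOf_dvd_natCard _
      exact Nat.eq_one_of_dvd_coprimes (Nat.Coprime.pow b m ((Nat.coprime_primes hq hp).2 hqp)) h1 h2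
    have heq : Subgroup.centralizer {x * y} = Subgroup.centralizer {x} ⊓ Subgroup.centralizer {y} := by
      refine le_antisymm (fun g hg => ?_) (hcent x y)
      have h1 : g * x * g⁻¹ * (g * y * g⁻¹) = x * y := by
        rw [conj_mul, mul_inv_eq_iff_eq_mul]
        exact Subgroup.mem_centralizer_singleton_iff.1 hg
      have h2 : x⁻¹ * (g * x * g⁻¹) ∈ (P : Subgroup G) ⊓ K := by
        refine Subgroup.mem_inf.2 ⟨mul_mem (inv_mem hx) (hPn.conj_mem x hx g), ?_⟩
        show x⁻¹ * (g * x * g⁻¹) ∈ K
        rw [eq_mul_inv_of_mul_eq h1, mul_assoc, inv_mul_cancel_left]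
        exact mul_mem hy (inv_mem (hKn.conj_mem y hy g))
      rw [hinf, Subgroup.mem_bot, inv_mul_eq_one] at h2
      rw [← h2, mul_right_inj] at h1
      exact ⟨Subgroup.mem_centralizer_singleton_iff.2 (mul_inv_eq_iff_eq_mul.1 h2.symm),
        Subgroup.mem_centralizer_singleton_iff.2 (mul_inv_eq_iff_eq_mul.1 h1)⟩
    rw [heq]
    refine Core.index_inf_of_coprime (Nat.Coprime.of_dvd
      (Subgroup.index_dvd_of_le (H := K) fun v hv =>
        Subgroup.mem_centralizer_singleton_iff.2 (hcomm x hx v hv).symm)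
      (Subgroup.index_dvd_of_le (H := (P : Subgroup G)) fun u hu =>
        Subgroup.mem_centralizer_singleton_iff.2 (hcomm u hu y hy)) ?_)
    rw [hKi]
    exact Nat.Coprime.pow_left m (hp.coprime_iff_not_dvd.2 P.not_dvd_index)
  · intro h
    have hcomm : ∀ x y : G, (∃ a : ℕ, orderOf x = p ^ a) →
        (∃ q b : ℕ, q.Prime ∧ q ≠ p ∧ orderOf y = q ^ b) → x * y = y * x := by
      intro x y hx hy
      have h1 := h x y hx hy
      have h2 := Nat.le_of_dvd (Nat.pos_of_ne_zero Subgroup.index_ne_zero_of_finite)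
        (Subgroup.index_dvd_of_le (hcent x y))
      have h3 : (Subgroup.centralizer {x} ⊓ Subgroup.centralizer {y}).index ≤
          (Subgroup.centralizer {x}).index * (Subgroup.centralizer {y}).index := Subgroup.index_inf_le
      have h4 : Subgroup.centralizer {x} ⊓ Subgroup.centralizer {y} = Subgroup.centralizer {x * y} := by
        refine Subgroup.eq_of_le_of_card_ge (hcent x y) (le_of_eq ?_)
        refine Nat.eq_of_mul_eq_mul_right (Nat.pos_of_ne_zero
          (Subgroup.index_ne_zero_of_finite (H := Subgroup.centralizer {x * y}))) ?_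
        conv_rhs => rw [show (Subgroup.centralizer {x * y}).index =
          (Subgroup.centralizer {x} ⊓ Subgroup.centralizer {y}).index by omega]
        rw [Subgroup.card_mul_index, Subgroup.card_mul_index]
      have h5 : x * y ∈ Subgroup.centralizer {x} ⊓ Subgroup.centralizer {y} :=
        h4 ▸ Subgroup.mem_centralizer_singleton_iff.2 rfl
      have h6 := Subgroup.mem_centralizer_singleton_iff.1 h5.1
      rw [mul_assoc] at h6
      exact (mul_left_cancel h6).symm
    obtain ⟨P⟩ : Nonempty (Sylow p G) := inferInstance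
    have hPp : ∀ u ∈ (P : Subgroup G), ∃ a : ℕ, orderOf u = p ^ a := fun u hu => by
      obtain ⟨k, hk⟩ := IsPGroup.iff_orderOf.1 P.isPGroup' ⟨u, hu⟩
      exact ⟨k, by rwa [Subgroup.orderOf_mk] at hk⟩
    have hQC : ∀ (q : ℕ) [Fact q.Prime], q ≠ p → ∀ (Q : Subgroup G), IsPGroup q Q →
        Q ≤ Subgroup.centralizer ((P : Subgroup G) : Set G) := by
      intro q hq hqp Q hQ v hv
      refine Subgroup.mem_centralizer_iff.2 fun u hu => ?_
      obtain ⟨k, hk⟩ := IsPGroup.iff_orderOf.1 hQ ⟨v, hv⟩
      rw [Subgroup.orderOf_mk] at hk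
      exact hcomm u v (hPp u hu) ⟨q, k, hq.out, hqp, hk⟩
    haveI hPn : (P : Subgroup G).Normal := by
      rw [← Subgroup.normalizer_eq_top_iff]
      refine Core.eq_top_of_forall_sylow fun q hq _ => ?_
      haveI := Fact.mk hq
      by_cases hqp : q = p
      · subst hqp
        exact ⟨P, Subgroup.le_normalizer⟩
      · obtain ⟨Q⟩ : Nonempty (Sylow q G) := inferInstance
        exact ⟨Q, (hQC q hqp Q Q.isPGroup').trans (Subgroup.centralizer_le_normalizer _)⟩
    obtain ⟨H, hH⟩ := Subgroup.exists_right_complement'_of_coprime P.card_coprime_index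
    have hHC : H ≤ Subgroup.centralizer ((P : Subgroup G) : Set G) := by
      rw [← Subgroup.subgroupOf_eq_top]
      refine Core.eq_top_of_forall_sylow fun q hq hqd => ?_
      haveI := Fact.mk hq
      obtain ⟨Q⟩ : Nonempty (Sylow q H) := inferInstance
      refine ⟨Q, fun v hv => ?_⟩
      have hqp : q ≠ p := by
        rintro rfl
        rw [← hH.symm.index_eq_card] at hqd
        exact P.not_dvd_index hqd
      exact hQC q hqp _ (Q.isPGroup'.map H.subtype) ⟨v, hv, rfl⟩
    refine ⟨P, H, hPn, ?_, hH.disjoint.eq_bot, hH.sup_eq_top⟩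
    rw [← Subgroup.normalizer_eq_top_iff, eq_top_iff, ← hH.sup_eq_top]
    exact sup_le ((Subgroup.le_centralizer_iff.1 hHC).trans (Subgroup.centralizer_le_normalizer _))
      Subgroup.le_normalizer

end Cfsg.Agent.S3987
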