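import Cfsg.Statements.S3997

set_option autoImplicit false
open Cfsg

namespace Cfsg.Agent.S3997

theorem card_pElements_eq_iff {K : Type*} [Group K] [Finite K] (p : ℕ) [Fact p.Prime]
    (Q : Sylow p K) :
    Nat.card {k : K // ∃ i : ℕ, orderOf k = p ^ i} = Nat.card Q ↔ (Q : Subgroup K).Normal := by
  have hsub : ∀ k ∈ (Q : Subgroup K), ∃ i : ℕ, orderOf k = p ^ i := fun k hk => by
    obtain ⟨i, hi⟩ := (IsPGroup.iff_orderOf.1 Q.2) ⟨k, hk⟩
    exact ⟨i, by rwa [Subgroup.orderOf_mk] at hi⟩
  constructor
  · intro h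
    let f : ↥(Q : Subgroup K) → {k : K // ∃ i : ℕ, orderOf k = p ^ i} :=
      fun k => ⟨k, hsub k k.2⟩
    have hf : Function.Bijective f := (Nat.bijective_iff_injective_and_card f).2
      ⟨fun a b e => Subtype.ext (congrArg Subtype.val e :), h.symm⟩
    refine ⟨fun k hk x => ?_⟩
    obtain ⟨i, hi⟩ := hsub k hk
    obtain ⟨z, hz⟩ := hf.2 ⟨x * k * x⁻¹, i, by
      rw [show x * k * x⁻¹ = MulAut.conj x k from rfl, MulEquiv.orderOf_eq, hi]⟩
    have e : (z : K) = x * k * x⁻¹ := congrArg (Subtype.val : {k : K // ∃ i : ℕ, orderOf k = p ^ i} → K) hz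
    exact e ▸ z.2
  · intro h
    refine Nat.card_congr (Equiv.subtypeEquivRight fun k => ⟨?_, hsub k⟩)
    rintro ⟨i, hi⟩
    obtain ⟨R, hR⟩ := (IsPGroup.of_card (n := i) (by rw [Nat.card_zpowers, hi]) :
      IsPGroup p (Subgroup.zpowers k)).exists_le_sylow
    haveI : Subsingleton (Sylow p K) := Sylow.unique_of_normal Q h |>.instSubsingleton
    exact Subsingleton.elim R Q ▸ hR (Subgroup.mem_zpowers k)

theorem card_subtype_orderOf {K : Type*} [Group K] [Fintype K] (P : ℕ → Prop) [DecidablePred P]
    (N : ℕ) (hN : Fintype.card K < N) :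
    Nat.card {k : K // P (orderOf k)} =
      ∑ m ∈ Finset.range N, if P m then Nat.card {k : K // orderOf k = m} else 0 := by
  classical
  rw [Nat.card_eq_fintype_card, Fintype.card_subtype,
    Finset.card_eq_sum_card_fiberwise (f := orderOf) (t := Finset.range N) fun k _ =>
      Finset.mem_coe.2 (Finset.mem_range.2 (lt_of_le_of_lt orderOf_le_card_univ hN))]
  refine Finset.sum_congr rfl fun m _ => ?_
  rw [Finset.filter_filter]
  split_ifs with hm
  · rw [Nat.card_eq_fintype_card, Fintype.card_subtype]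
    exact congrArg Finset.card (Finset.filter_congr fun k _ => ⟨fun e => e.2, fun e => ⟨e ▸ hm, e⟩⟩)
  · exact Finset.card_eq_zero.2 (Finset.filter_eq_empty_iff.2 fun k _ e => hm (e.2 ▸ e.1))

/-- Let G and H be finite groups with the same order type: for every m they have the same number of elements of order m. If G is nilpotent then so is H. -/
theorem result {G H : Type*} [Group G] [Finite G] [Group H] [Finite H] (hT : (∀ m : ℕ, Nat.card {g : G // orderOf g = m} = Nat.card {h : H // orderOf h = m})) (hG : Group.IsNilpotent G) :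
    Group.IsNilpotent H := by
  have hset : ∀ (P : ℕ → Prop), Nat.card {g : G // P (orderOf g)} = Nat.card {h : H // P (orderOf h)} := by
    intro P
    classical
    cases nonempty_fintype G
    cases nonempty_fintype H
    rw [card_subtype_orderOf (K := G) P (Fintype.card G + Fintype.card H + 1) (by omega),
      card_subtype_orderOf (K := H) P (Fintype.card G + Fintype.card H + 1) (by omega)]
    refine Finset.sum_congr rfl fun m _ => ?_
    rw [hT m]
  have hcard : Nat.card G = Nat.card H := by
    simpa using hset (fun _ => True)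
  have hG' : ∀ (p : ℕ) (_ : Fact p.Prime) (P : Sylow p G), (P : Subgroup G).Normal :=
    ((Group.isNilpotent_of_finite_tfae (G := G)).out 0 3).mp hG
  refine ((Group.isNilpotent_of_finite_tfae (G := H)).out 0 3).mpr fun p hp Q => (@card_pElements_eq_iff _ _ _ p hp Q).1 ?_
  haveI := hp
  obtain ⟨P⟩ : Nonempty (Sylow p G) := inferInstance
  have hP := (card_pElements_eq_iff p P).2 (hG' p hp P)
  rw [← hset (fun m => ∃ i : ℕ, m = p ^ i), hP, P.card_eq_multiplicity, Q.card_eq_multiplicity,
    hcard]

end Cfsg.Agent.S3997
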