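import Cfsg.Statements.S3998
import Cfsg.Agent.Core.Basics
import Mathlib.GroupTheory.SchurZassenhaus
-- import your own Cfsg.Agent.* helpers here

set_option autoImplicit false
open Cfsg

namespace Cfsg.Agent.S3998

open Subgroup

universe u v

variable {G : Type*} [Group G]

/-- `L` is normal and separates the primes of the group at `r`. -/
def IsSplit (r : ℕ) (L : Subgroup G) : Prop :=
  L.Normal ∧ (∀ q : ℕ, q.Prime → q ∣ Nat.card L → r ≤ q) ∧ ∀ q : ℕ, q.Prime → q ∣ L.index → q < r

theorem coprime_of_split {a b r : ℕ} (ha : ∀ q, q.Prime → q ∣ a → r ≤ q)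
    (hb : ∀ q, q.Prime → q ∣ b → q < r) : a.Coprime b :=
  Nat.coprime_of_dvd fun q hq h1 h2 => absurd (ha q hq h1) (not_le.2 (hb q hq h2))

theorem eq_of_split {a b c d r : ℕ} (h : a * b = c * d) (ha : ∀ q, q.Prime → q ∣ a → r ≤ q)
    (hb : ∀ q, q.Prime → q ∣ b → q < r) (hc : ∀ q, q.Prime → q ∣ c → r ≤ q)
    (hd : ∀ q, q.Prime → q ∣ d → q < r) : a = c :=
  Nat.dvd_antisymm ((coprime_of_split ha hd).dvd_of_dvd_mul_right ⟨b, h.symm⟩)
    ((coprime_of_split hc hb).dvd_of_dvd_mul_right ⟨d, h⟩)

theorem mem_iff_of_split [Finite G] {r : ℕ} {L : Subgroup G} (h : IsSplit r L) (x : G) :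
    x ∈ L ↔ ∀ q : ℕ, q.Prime → q ∣ orderOf x → r ≤ q := by
  constructor
  · intro hx q hq hd
    exact h.2.1 q hq (hd.trans (Subgroup.orderOf_dvd_natCard L hx))
  · intro hx
    have := h.1
    rw [← QuotientGroup.eq_one_iff (N := L), ← orderOf_eq_one_iff]
    exact Nat.eq_one_of_dvd_coprimes (coprime_of_split hx h.2.2)
      (orderOf_map_dvd (QuotientGroup.mk' L) x) (L.index_eq_card ▸ orderOf_dvd_natCard _)

theorem supersolvable_quotient (h : Cfsg.IsSupersolvable G) (N : Subgroup G) [N.Normal] :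
    Cfsg.IsSupersolvable (G ⧸ N) := by
  obtain ⟨n, H, h0, hl, hn, hs⟩ := h
  refine ⟨n, fun i => (H i).map (QuotientGroup.mk' N), by simp [h0], ?_,
    fun i => (hn i).map _ (QuotientGroup.mk'_surjective N), fun i => ?_⟩
  · simp only [hl]
    exact Subgroup.map_top_of_surjective _ (QuotientGroup.mk'_surjective N)
  · obtain ⟨g, hg⟩ := hs i
    exact ⟨QuotientGroup.mk' N g, by simp only [hg, Subgroup.map_sup, MonoidHom.map_zpowers]⟩

theorem exists_normal_prime_order [Finite G] [Nontrivial G] (h : Cfsg.IsSupersolvable G) :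
    ∃ C : Subgroup G, C.Normal ∧ (Nat.card C).Prime := by
  obtain ⟨n, H, h0, hl, hn, hs⟩ := h
  have : ∃ g : G, g ≠ 1 ∧ (zpowers g).Normal := by
    by_contra hc
    push Not at hc
    have hall : ∀ i, H i = ⊥ := by
      intro i
      induction i using Fin.induction with
      | zero => exact h0
      | succ i ih =>
        obtain ⟨g, hg⟩ := hs i
        rw [ih, bot_sup_eq] at hg
        by_contra hne
        exact hc g (fun e => hne (by simp [hg, e])) (hg ▸ hn i.succ)
    exact top_ne_bot (hl.symm.trans (hall _))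
  obtain ⟨g, hg, hgn⟩ := this
  obtain ⟨q, hq, hd⟩ := Nat.exists_prime_and_dvd (orderOf_eq_one_iff.not.2 hg)
  refine ⟨zpowers (g ^ (orderOf g / q)), ⟨fun x hx y => ?_⟩, ?_⟩
  · obtain ⟨k, rfl⟩ := mem_zpowers_iff.1 hx
    obtain ⟨j, hj⟩ := mem_zpowers_iff.1 (hgn.conj_mem g (mem_zpowers g) y)
    refine mem_zpowers_iff.2 ⟨j * k, ?_⟩
    rw [← conj_zpow, ← conj_pow, ← hj]
    simp only [← zpow_natCast, ← zpow_mul]
    congr 1
    ring
  · rw [Nat.card_zpowers, orderOf_pow_orderOf_div (orderOf_pos g).ne' hd]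
    exact hq

theorem exists_split : ∀ (n : ℕ) (G : Type u) [Group G] [Finite G], Nat.card G = n →
    Cfsg.IsSupersolvable G → ∀ r : ℕ, ∃ L : Subgroup G, IsSplit r L := by
  intro n
  induction n using Nat.strong_induction_on with
  | _ n ih =>
    intro G _ _ hG hss r
    rcases subsingleton_or_nontrivial G with h1 | h1
    · refine ⟨⊥, inferInstance, fun q hq hd => ?_, fun q hq hd => ?_⟩
      · rw [Subgroup.card_bot, Nat.dvd_one] at hd
        exact absurd hd hq.ne_one
      · rw [Subgroup.index_bot, Nat.card_of_subsingleton (1 : G), Nat.dvd_one] at hd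
        exact absurd hd hq.ne_one
    obtain ⟨C, hCn, hCp⟩ := exists_normal_prime_order hss
    have hCb : C ≠ ⊥ := fun e => hCp.ne_one (by rw [e, Subgroup.card_bot])
    obtain ⟨Kb, hKn, hK1, hK2⟩ := ih _ (hG ▸ Core.card_quotient_lt hCb) (G ⧸ C) rfl
      (supersolvable_quotient hss C) r
    set K := Kb.comap (QuotientGroup.mk' C) with hK
    have hKN : K.Normal := hKn.comap _
    have hKi : K.index = Kb.index :=
      Subgroup.index_comap_of_surjective Kb (QuotientGroup.mk'_surjective C)
    have hKc : Nat.card K = Nat.card C * Nat.card Kb := by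
      refine Nat.eq_of_mul_eq_mul_right (Nat.pos_of_ne_zero (K.index_ne_zero_of_finite)) ?_
      rw [K.card_mul_index, mul_assoc, hKi, Kb.card_mul_index, ← C.index_eq_card, C.card_mul_index]
    set q := Nat.card C with hqdef
    rcases le_or_gt r q with hrq | hqr
    · refine ⟨K, hKN, fun s hs hd => ?_, hKi ▸ hK2⟩
      rw [hKc] at hd
      rcases hs.dvd_mul.1 hd with hd | hd
      · rwa [(Nat.prime_dvd_prime_iff_eq hs hCp).1 hd]
      · exact hK1 s hs hd
    have : Fact q.Prime := ⟨hCp⟩
    have hCK : C ≤ K := fun c hc => by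
      rw [hK, Subgroup.mem_comap, QuotientGroup.mk'_apply, (QuotientGroup.eq_one_iff c).2 hc]
      exact Kb.one_mem
    have hcyc : IsCyclic C := isCyclic_of_prime_card hqdef.symm
    have hcent : ∀ x ∈ K, ∀ c ∈ C, x * c = c * x := by
      intro x hx c hc
      have hd1 : orderOf (MulAut.conjNormal (H := C) x) ∣ q * Nat.card Kb :=
        hKc ▸ (orderOf_map_dvd _ x).trans (K.orderOf_dvd_natCard hx)
      have hd2 : orderOf (MulAut.conjNormal (H := C) x) ∣ q - 1 := by
        have h := orderOf_dvd_natCard (MulAut.conjNormal (H := C) x)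
        rwa [hcyc.card_mulAut, ← hqdef, Nat.totient_prime hCp] at h
      have hco : (q * Nat.card Kb).Coprime (q - 1) := by
        refine Nat.coprime_of_dvd fun s hs h1 h2 => ?_
        have h3 : s ≤ q - 1 := Nat.le_of_dvd (by have := hCp.two_le; omega) h2
        rcases hs.dvd_mul.1 h1 with h4 | h4
        · have h5 := (Nat.prime_dvd_prime_iff_eq hs hCp).1 h4
          have := hCp.two_le
          omega
        · have := hK1 s hs h4
          omega
      have h1 := orderOf_eq_one_iff.1 (Nat.eq_one_of_dvd_coprimes hco hd1 hd2)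
      have h2 : x * c * x⁻¹ = c := by
        rw [← MulAut.conjNormal_apply (H := C) x ⟨c, hc⟩, h1]; rfl
      exact mul_inv_eq_iff_eq_mul.1 h2
    set C' := C.subgroupOf K
    have hC'c : Nat.card C' = q := Nat.card_congr (subgroupOfEquivOfLe hCK).toEquiv
    have hC'i : C'.index = Nat.card Kb := by
      refine Nat.eq_of_mul_eq_mul_left hCp.pos ?_
      rw [← hKc, ← C'.card_mul_index, hC'c]
    have hqKb : q.Coprime (Nat.card Kb) :=
      hCp.coprime_iff_not_dvd.2 fun h => absurd (hK1 q hCp h) (not_le.2 hqr)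
    obtain ⟨R, hR⟩ := Subgroup.exists_left_complement'_of_coprime (N := C')
      (by rw [hC'c, hC'i]; exact hqKb)
    have hRc : Nat.card R = Nat.card Kb := by
      refine Nat.eq_of_mul_eq_mul_right hCp.pos ?_
      rw [mul_comm (Nat.card Kb), ← hKc, ← hR.card_mul, hC'c]
    have hRi : R.index = q := by rw [hR.symm.index_eq_card, hC'c]
    have hRn : R.Normal := by
      rw [← Subgroup.normalizer_eq_top_iff, eq_top_iff, ← hR.sup_eq_top, sup_le_iff]
      refine ⟨Subgroup.le_normalizer, fun c hc => ?_⟩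
      rw [Subgroup.mem_normalizer_iff]
      intro x
      have e : c * x * c⁻¹ = x := by
        rw [mul_inv_eq_iff_eq_mul]
        exact Subtype.ext (hcent x x.2 c (Subgroup.mem_subgroupOf.1 hc)).symm
      rw [e]
    have hRch : R.Characteristic := Core.characteristic_of_coprime (by rw [hRc, hRi]; exact hqKb.symm)
    refine ⟨R.map K.subtype, inferInstance, fun s hs hd => ?_, fun s hs hd => ?_⟩
    · rw [Subgroup.card_map_of_injective K.subtype_injective, hRc] at hd
      exact hK1 s hs hd
    · rw [Subgroup.index_map_subtype, hRi, hKi] at hd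
      rcases hs.dvd_mul.1 hd with h4 | h4
      · rwa [(Nat.prime_dvd_prime_iff_eq hs hCp).1 h4]
      · exact hK2 s hs h4

theorem exists_split_solvable {G : Type u} {H : Type v} [Group G] [Finite G] [Group H] [Finite H]
    (e : G ≃ H) (he : ∀ x, orderOf (e x) = orderOf x) (hG : Cfsg.IsSupersolvable G) :
    ∀ k r : ℕ, Nat.card H < r + k → ∃ M : Subgroup H, IsSplit r M ∧ Group.IsSolvable M := by
  intro k
  induction k with
  | zero =>
    intro r hr
    refine ⟨⊥, ⟨inferInstance, fun q hq hd => ?_, fun q hq hd => ?_⟩, inferInstance⟩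
    · rw [Subgroup.card_bot, Nat.dvd_one] at hd
      exact absurd hd hq.ne_one
    · rw [Subgroup.index_bot] at hd
      exact lt_of_le_of_lt (Nat.le_of_dvd Nat.card_pos hd) (by omega)
  | succ k ih =>
    intro r hr
    obtain ⟨M, ⟨hMn, hM1, hM2⟩, hMs⟩ := ih (r + 1) (by omega)
    by_cases hrp : r.Prime
    swap
    · refine ⟨M, ⟨hMn, fun q hq hd => le_trans (Nat.le_succ r) (hM1 q hq hd), fun q hq hd => ?_⟩, hMs⟩
      refine lt_of_le_of_ne (Nat.lt_succ_iff.1 (hM2 q hq hd)) ?_
      rintro rfl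
      exact hrp hq
    have : Fact r.Prime := ⟨hrp⟩
    obtain ⟨S⟩ := (inferInstance : Nonempty (Sylow r H))
    set T : Subgroup H := M ⊔ (S : Subgroup H) with hT
    have hcopMS : (Nat.card M).Coprime (Nat.card S) := by
      obtain ⟨a, ha⟩ := IsPGroup.iff_card.1 S.2
      rw [ha]
      refine Nat.Coprime.pow_right _ ((hrp.coprime_iff_not_dvd.2 fun h => ?_).symm)
      have := hM1 r hrp h
      omega
    have hTc : Nat.card T = Nat.card M * Nat.card S := by
      rw [hT, sup_comm, Core.card_sup_of_inf_eq_bot (Subgroup.inf_eq_bot_of_coprime hcopMS.symm),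
        mul_comm]
    have hT1 : ∀ q : ℕ, q.Prime → q ∣ Nat.card T → r ≤ q := by
      intro q hq hd
      rw [hTc] at hd
      rcases hq.dvd_mul.1 hd with h4 | h4
      · exact le_trans (Nat.le_succ r) (hM1 q hq h4)
      · obtain ⟨a, ha⟩ := IsPGroup.iff_card.1 S.2
        rw [ha] at h4
        exact ((Nat.prime_dvd_prime_iff_eq hq hrp).1 (hq.dvd_of_dvd_pow h4)).ge
    have hT2 : ∀ q : ℕ, q.Prime → q ∣ T.index → q < r := by
      intro q hq hd
      refine lt_of_le_of_ne (Nat.lt_succ_iff.1 (hM2 q hq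
        (hd.trans (Subgroup.index_dvd_of_le le_sup_left)))) ?_
      rintro rfl
      exact S.not_dvd_index (hd.trans (Subgroup.index_dvd_of_le le_sup_right))
    obtain ⟨L, hL⟩ := exists_split _ G rfl hG r
    have hLc : Nat.card L = Nat.card T := by
      refine eq_of_split (b := L.index) (d := T.index) ?_ hL.2.1 hL.2.2 hT1 hT2
      rw [L.card_mul_index, T.card_mul_index, Nat.card_congr e]
    let A : Set H := {x | ∀ q : ℕ, q.Prime → q ∣ orderOf x → r ≤ q}
    have hTA : (T : Set H) ⊆ A := fun x hx q hq hd =>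
      hT1 q hq (hd.trans (T.orderOf_dvd_natCard hx))
    have hAc : A.ncard = Nat.card L := by
      rw [← Nat.card_coe_set_eq]
      refine (Nat.card_congr (Equiv.subtypeEquiv e fun x => ?_)).symm
      rw [mem_iff_of_split hL]
      show _ ↔ ∀ q : ℕ, q.Prime → q ∣ orderOf (e x) → r ≤ q
      rw [he]
    have hAT : (T : Set H) = A := Set.eq_of_subset_of_ncard_le hTA
      (by rw [hAc, hLc, ← Nat.card_coe_set_eq]; rfl)
    have hTn : T.Normal := ⟨fun x hx y => by
      rw [← SetLike.mem_coe, hAT] at hx ⊢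
      intro q hq hd
      exact hx q hq (by rwa [← MulAut.conj_apply, MulEquiv.orderOf_eq] at hd)⟩
    refine ⟨T, ⟨hTn, hT1, hT2⟩, ?_⟩
    have hSol : Group.IsSolvable (T.map (QuotientGroup.mk' M)) := by
      have e1 : T.map (QuotientGroup.mk' M) = (S : Subgroup H).map (QuotientGroup.mk' M) := by
        rw [hT, Subgroup.map_sup, QuotientGroup.map_mk'_self, bot_sup_eq]
      rw [e1]
      have : Group.IsNilpotent ((S : Subgroup H).map (QuotientGroup.mk' M)) :=
        (S.2.map _).isNilpotent
      infer_instance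
    refine Group.isSolvable_of_ker_le_range (Subgroup.inclusion (le_sup_left : M ≤ T))
      ((QuotientGroup.mk' M).subgroupMap T) ?_
    intro x hx
    have h1 : (QuotientGroup.mk' M) x.1 = 1 := congrArg Subtype.val (MonoidHom.mem_ker.1 hx)
    exact ⟨⟨x.1, (QuotientGroup.eq_one_iff x.1).1 h1⟩, rfl⟩


/-- Let G and H be finite groups with the same order type (for every m the same number of elements of order m). If G is supersolvable then H is solvable. -/
theorem result {G H : Type*} [Group G] [Finite G] [Group H] [Finite H] (hT : (∀ m : ℕ, Nat.card {g : G // orderOf g = m} = Nat.card {h : H // orderOf h = m})) (hG : Cfsg.IsSupersolvable G) :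
    Group.IsSolvable H := by
  let e : G ≃ H := Equiv.ofFiberEquiv (fun m => (Finite.card_eq.1 (hT m)).some)
  have he : ∀ x, orderOf (e x) = orderOf x := fun x => Equiv.ofFiberEquiv_map _ x
  obtain ⟨M, ⟨_, _, hM2⟩, hMs⟩ :=
    exists_split_solvable e he hG (Nat.card H + 1) 0 (by omega)
  have hM : M = ⊤ := Subgroup.index_eq_one.1 (Nat.eq_one_iff_not_exists_prime_dvd.2
    fun q hq hd => Nat.not_lt_zero q (hM2 q hq hd))
  subst hM
  exact Group.isSolvable_of_surjective (f := (⊤ : Subgroup H).subtype) fun x => ⟨⟨x, trivial⟩, rfl⟩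

end Cfsg.Agent.S3998
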