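import Cfsg.Statements.S3999
import Cfsg.Agent.S0039
import Cfsg.Agent.S0040
import Cfsg.Agent.S0042
import Cfsg.Agent.Invol.Pair
import Cfsg.Agent.FGS.AutFrattini
import Cfsg.Agent.Char.Integral
import Cfsg.Agent.Fusion.FixedPointFree
-- import your own Cfsg.Agent.* helpers here

set_option autoImplicit false
open Cfsg

namespace Cfsg.Agent.S3999

open scoped commutatorElement

open Subgroup

universe u v

/-- Every prime divisor of the order of `x` is at least `p`. -/
def Big {H : Type*} [Group H] (p : ℕ) (x : H) : Prop := ∀ r : ℕ, r.Prime → r ∣ orderOf x → p ≤ r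

/-- The numerical shadow of normal Hall subgroups for the sets of primes at least `p`. -/
def HallCond (H : Type*) [Group H] : Prop :=
  ∀ p : ℕ, 5 ≤ p → Nat.card {x : H // Big p x} ∣ Nat.card H ∧
    (∀ r : ℕ, r.Prime → r ∣ Nat.card {x : H // Big p x} → p ≤ r) ∧
    ∀ r : ℕ, r.Prime → r ∣ Nat.card H / Nat.card {x : H // Big p x} → r < p

/-- Odd Sylow subgroups are cyclic and the `2`-subgroups need two generators at most. -/
structure Thin (H : Type*) [Group H] : Prop where
  odd : ∀ r : ℕ, r.Prime → r ≠ 2 → ∀ U : Subgroup H, IsPGroup r U → IsCyclic U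
  two : ∀ U : Subgroup H, IsPGroup 2 U → ∃ a b : H, U = Subgroup.closure {a, b}

theorem Thin.quotient {H : Type*} [Group H] [Finite H] (h : Thin H) (N : Subgroup H) [N.Normal] :
    Thin (H ⧸ N) := by
  have lift : ∀ (r : ℕ), r.Prime → ∀ U : Subgroup (H ⧸ N), IsPGroup r U →
      ∃ V : Subgroup H, IsPGroup r V ∧ V.map (QuotientGroup.mk' N) = U := by
    intro r hr U hU
    haveI := Fact.mk hr
    set L := U.comap (QuotientGroup.mk' N) with hL
    obtain ⟨P⟩ : Nonempty (Sylow r L) := inferInstance
    let f : L →* U := (QuotientGroup.mk' N).subgroupComap U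
    have hf : Function.Surjective f := fun ⟨u, hu⟩ => by
      obtain ⟨g, rfl⟩ := QuotientGroup.mk'_surjective N u
      exact ⟨⟨g, hu⟩, rfl⟩
    have h1 : (P.mapSurjective hf : Subgroup U) = ⊤ := ((P.mapSurjective hf).is_maximal' (hU.to_subgroup ⊤) le_top).symm
    refine ⟨(P : Subgroup L).map L.subtype, P.isPGroup'.map _, le_antisymm ?_ ?_⟩
    · rintro _ ⟨_, ⟨x, -, rfl⟩, rfl⟩
      exact x.2
    · intro u hu
      have h2 : (⟨u, hu⟩ : U) ∈ (P.mapSurjective hf : Subgroup U) := h1 ▸ mem_top _
      obtain ⟨x, hx, hxu⟩ := h2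
      exact ⟨x, ⟨x, hx, rfl⟩, congrArg Subtype.val hxu⟩
  refine ⟨fun r hr h2 U hU => ?_, fun U hU => ?_⟩
  · obtain ⟨V, hV, rfl⟩ := lift r hr U hU
    haveI := h.odd r hr h2 V hV
    exact isCyclic_of_surjective ((QuotientGroup.mk' N).subgroupMap V)
      ((QuotientGroup.mk' N).subgroupMap_surjective V)
  · obtain ⟨V, hV, rfl⟩ := lift 2 Nat.prime_two U hU
    obtain ⟨a, b, rfl⟩ := h.two V hV
    exact ⟨_, _, by rw [MonoidHom.map_closure, Set.image_pair]⟩

/-- Primes dividing the automorphism group of a small normal `r`-subgroup. -/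
theorem Thin.aut_prime_lt {H : Type*} [Group H] [Finite H] (h : Thin H) {N : Subgroup H} {r p s : ℕ}
    (hr : r.Prime) (hN : IsPGroup r N) (hrp : r < p) (hp : 5 ≤ p) (hs : s.Prime)
    (hd : s ∣ Nat.card (MulAut N)) : s < p := by
  haveI := Fact.mk hr
  obtain ⟨n, hn⟩ := IsPGroup.iff_card.mp hN
  rcases eq_or_ne r 2 with rfl | h2
  · obtain ⟨a, b, hab⟩ := h.two N hN
    obtain ⟨j, hj⟩ := IsPGroup.iff_card.mp (hN.to_quotient (frattini N))
    have hj' : (frattini N).index = 2 ^ j := by rw [index_eq_card, hj]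
    obtain ⟨hcomm, hexp⟩ := FGS.frattini_quotient_props hn
    have hgen : Subgroup.closure (Set.range ![((⟨a, hab ▸ subset_closure (Set.mem_insert _ _)⟩ : N) : N ⧸ frattini N),
        ((⟨b, hab ▸ subset_closure (Set.mem_insert_of_mem _ rfl)⟩ : N) : N ⧸ frattini N)]) = ⊤ := by
      have h1 : Subgroup.closure ({⟨a, hab ▸ subset_closure (Set.mem_insert _ _)⟩,
          ⟨b, hab ▸ subset_closure (Set.mem_insert_of_mem _ rfl)⟩} : Set N) = ⊤ := by
        apply map_injective N.subtype_injective
        rw [MonoidHom.map_closure, Set.image_pair, ← MonoidHom.range_eq_map, range_subtype]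
        exact hab.symm
      have h2 := congrArg (Subgroup.map (QuotientGroup.mk' (frattini N))) h1
      rw [MonoidHom.map_closure, map_top_of_surjective _ (QuotientGroup.mk'_surjective _),
        Set.image_pair] at h2
      rw [Matrix.range_cons_cons_empty]
      exact h2
    have h4 := FGS.card_closure_le (p := 2) hcomm hexp 2 _ |>.trans' (le_of_eq (congrArg
      (fun K : Subgroup (N ⧸ frattini N) => Nat.card K) hgen).symm)
    rw [card_top, hj] at h4
    have hj2 : j ≤ 2 := (Nat.pow_le_pow_iff_right (by norm_num)).mp h4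
    have hdvd := hd.trans (FGS.card_mulAut_dvd hn hj')
    rcases hs.dvd_mul.mp hdvd with h5 | h5
    · have := (Nat.prime_dvd_prime_iff_eq hs Nat.prime_two).mp (hs.dvd_of_dvd_pow h5)
      omega
    · interval_cases j
      · simp at h5
        exact absurd h5 hs.ne_one
      · simp [Finset.prod_range_succ] at h5
        exact absurd h5 hs.ne_one
      · simp [Finset.prod_range_succ] at h5
        have := Nat.le_of_dvd (by norm_num) h5
        rcases Nat.lt_or_ge s 5 with h6 | h6
        · omega
        · interval_cases s <;> first | omega | (exfalso; norm_num at hs) | (exfalso; norm_num at h5)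
  · haveI := h.odd r hr h2 N hN
    rw [IsCyclic.card_mulAut, hn] at hd
    rcases n with _ | k
    · simp at hd
      exact absurd hd hs.ne_one
    rw [Nat.totient_prime_pow_succ hr] at hd
    rcases hs.dvd_mul.mp hd with h5 | h5
    · rw [(Nat.prime_dvd_prime_iff_eq hs hr).mp (hs.dvd_of_dvd_pow h5)]
      exact hrp
    · have h6 := hr.two_le
      have := Nat.le_of_dvd (by omega) h5
      omega

/-- A solvable group has a nontrivial normal subgroup of prime power order. -/
theorem exists_normal_pgroup (H : Type*) [Group H] [Finite H] [Nontrivial H] (hs : Group.IsSolvable H) :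
    ∃ (r : ℕ) (N : Subgroup H), r.Prime ∧ N.Normal ∧ IsPGroup r N ∧ N ≠ ⊥ := by
  classical
  obtain ⟨n, hn⟩ := hs
  have hex : ∃ k, derivedSeries H k = ⊥ := ⟨n, hn⟩
  obtain ⟨k, hk⟩ : ∃ k, Nat.find hex = k + 1 := by
    refine ⟨Nat.find hex - 1, (Nat.succ_pred_eq_of_ne_zero fun e => ?_).symm⟩
    have := Nat.find_spec hex
    rw [e, derivedSeries_zero] at this
    exact top_ne_bot this
  set A := derivedSeries H k with hA
  have hAn : A.Normal := derivedSeries_normal H k
  have hA0 : A ≠ ⊥ := Nat.find_min hex (by omega)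
  have hA1 : ⁅A, A⁆ = ⊥ := by
    have := Nat.find_spec hex
    rw [hk, derivedSeries_succ] at this
    exact this
  obtain ⟨r, hr, hrd⟩ := Nat.exists_prime_and_dvd (fun e => hA0 (eq_bot_of_card_eq A e))
  haveI := Fact.mk hr
  haveI : IsMulCommutative A := ⟨⟨fun a b => Subtype.ext (by
    have h1 := commutator_mem_commutator a.2 b.2
    rw [hA1, mem_bot, commutatorElement_eq_one_iff_mul_comm] at h1
    exact h1)⟩⟩
  obtain ⟨P⟩ : Nonempty (Sylow r A) := inferInstance
  haveI : (P : Subgroup A).Normal := ⟨fun x hx g => by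
    rwa [show g * x * g⁻¹ = x by rw [mul_comm' g x, mul_inv_cancel_right]]⟩
  haveI := P.characteristic_of_normal inferInstance
  refine ⟨r, (P : Subgroup A).map A.subtype, hr, inferInstance, P.isPGroup'.map _, fun e => ?_⟩
  rw [map_eq_bot_iff_of_injective _ A.subtype_injective] at e
  exact P.ne_bot_of_dvd_card hrd e

/-- A solvable thin group has normal Hall subgroups for the sets of primes at least `p ≥ 5`. -/
theorem exists_hall : ∀ (n : ℕ) (H : Type u) [Group H] [Finite H], Nat.card H = n → Thin H →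
    Group.IsSolvable H → ∀ p : ℕ, 5 ≤ p → ∃ K : Subgroup H, (∀ x, x ∈ K ↔ Big p x) ∧
      (∀ r : ℕ, r.Prime → r ∣ Nat.card K → p ≤ r) ∧ ∀ r : ℕ, r.Prime → r ∣ K.index → r < p := by
  intro n
  induction n using Nat.strong_induction_on with
  | _ n ih =>
  intro H _ _ hn hT hs p hp
  rcases subsingleton_or_nontrivial H with hsub | hnt
  · refine ⟨⊥, fun x => ⟨fun _ r hr hd => ?_, fun _ => Subsingleton.elim x 1 ▸ one_mem _⟩,
      fun r hr hd => ?_, fun r hr hd => ?_⟩
    · rw [Subsingleton.elim x 1, orderOf_one] at hd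
      exact absurd (Nat.dvd_one.mp hd) hr.ne_one
    · rw [card_bot] at hd
      exact absurd (Nat.dvd_one.mp hd) hr.ne_one
    · rw [index_bot, Nat.card_unique] at hd
      exact absurd (Nat.dvd_one.mp hd) hr.ne_one
  obtain ⟨r, N, hr, hNn, hNp, hN0⟩ := exists_normal_pgroup H hs
  haveI := hNn
  haveI := Fact.mk hr
  obtain ⟨K, hK, hKp, hKi⟩ := ih _ (hn ▸ Core.card_quotient_lt hN0) (H ⧸ N) rfl (hT.quotient N)
    inferInstance p hp
  have hKn : K.Normal := ⟨fun x hx g => by
    rw [hK] at hx ⊢
    intro s hs hd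
    exact hx s hs (by rwa [Invol.orderOf_conj] at hd)⟩
  set L := K.comap (QuotientGroup.mk' N) with hL
  haveI : L.Normal := hKn.comap _
  have hLi : L.index = K.index := index_comap_of_surjective K (QuotientGroup.mk'_surjective N)
  have hLc : Nat.card L = Nat.card N * Nat.card K := by
    have h1 := L.card_mul_index
    have h2 := N.card_mul_index
    rw [index_eq_card, ← K.card_mul_index, ← mul_assoc] at h2
    rw [hLi, ← h2] at h1
    exact Nat.eq_of_mul_eq_mul_right (Nat.pos_of_ne_zero index_ne_zero_of_finite) h1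
  obtain ⟨j, hj⟩ := IsPGroup.iff_card.mp hNp
  -- in a subgroup whose order has only large prime divisors every element is big
  have hbig : ∀ C : Subgroup H, (∀ s : ℕ, s.Prime → s ∣ Nat.card C → p ≤ s) → ∀ x ∈ C, Big p x :=
    fun C hC x hx s hs hd => hC s hs (hd.trans (C.orderOf_dvd_natCard hx))
  -- big elements lie in `L`
  have hin : ∀ x : H, Big p x → x ∈ L := fun x hx => by
    rw [hL, mem_comap, hK]
    exact fun s hs hd => hx s hs (hd.trans (orderOf_map_dvd (QuotientGroup.mk' N) x))
  by_cases hrp : p ≤ r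
  · have hLp : ∀ s : ℕ, s.Prime → s ∣ Nat.card L → p ≤ s := by
      intro s hs hd
      rw [hLc, hj] at hd
      rcases hs.dvd_mul.mp hd with h1 | h1
      · rw [(Nat.prime_dvd_prime_iff_eq hs hr).mp (hs.dvd_of_dvd_pow h1)]
        exact hrp
      · exact hKp s hs h1
    exact ⟨L, fun x => ⟨hbig L hLp x, hin x⟩, hLp, fun s hs hd => hKi s hs (hLi ▸ hd)⟩
  push Not at hrp
  have hcop : (Nat.card N).Coprime (Nat.card K) := by
    rw [hj]
    refine ((Nat.Prime.coprime_iff_not_dvd hr).mpr fun hd => ?_).pow_left j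
    have := hKp r hr hd
    omega
  have hNL : N ≤ L := fun x hx => by
    show QuotientGroup.mk' N x ∈ K
    rw [QuotientGroup.mk'_apply, (QuotientGroup.eq_one_iff x).mpr hx]
    exact one_mem _
  have hrel : Nat.card (N.subgroupOf L) = Nat.card N := Nat.card_congr (subgroupOfEquivOfLe hNL).toEquiv
  have hidx : (N.subgroupOf L).index = Nat.card K := by
    have h1 := (N.subgroupOf L).card_mul_index
    rw [hrel, hLc] at h1
    exact Nat.eq_of_mul_eq_mul_left Nat.card_pos h1
  obtain ⟨C₀, hC₀⟩ := Subgroup.exists_right_complement'_of_coprime (N := N.subgroupOf L)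
    (by rw [hrel, hidx]; exact hcop)
  set C := C₀.map L.subtype with hC
  have hCc : Nat.card C = Nat.card K := by
    rw [hC, card_map_of_injective L.subtype_injective]
    have h1 := hC₀.card_mul
    rw [hrel, hLc] at h1
    exact Nat.eq_of_mul_eq_mul_left Nat.card_pos h1
  have hCp : ∀ s : ℕ, s.Prime → s ∣ Nat.card C → p ≤ s := fun s hs hd => hKp s hs (hCc ▸ hd)
  have hcent : ∀ c ∈ C, ∀ m ∈ N, c * m = m * c := by
    intro c hc m hm
    set α : MulAut N := MulAut.conjNormal c with hα
    have h1 : α = 1 := orderOf_eq_one_iff.mp <| Nat.eq_one_iff_not_exists_prime_dvd.mpr fun s hs hd => by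
      have h2 := hT.aut_prime_lt hr hNp hrp hp hs (hd.trans (_root_.orderOf_dvd_natCard α))
      have h3 := hbig C hCp c hc s hs (hd.trans (orderOf_map_dvd MulAut.conjNormal c))
      omega
    have h2 : c * m * c⁻¹ = m := by
      have := congrArg Subtype.val (DFunLike.congr_fun h1 (⟨m, hm⟩ : N))
      rwa [hα, MulAut.conjNormal_apply] at this
    exact mul_inv_eq_iff_eq_mul.mp h2
  refine ⟨C, fun x => ⟨hbig C hCp x, fun hx => ?_⟩, hCp, fun s hs hd => ?_⟩
  · have hxL := hin x hx
    obtain ⟨a, ha, b, hb, hab⟩ : ∃ a ∈ N, ∃ b ∈ C, a * b = x := by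
      have h1 : (⟨x, hxL⟩ : L) ∈ N.subgroupOf L ⊔ C₀ := by rw [hC₀.sup_eq_top]; exact mem_top _
      obtain ⟨a, ha, b, hb, hab⟩ := mem_sup_of_normal_left.mp h1
      exact ⟨a, mem_subgroupOf.mp ha, b, ⟨b, hb, rfl⟩, congrArg Subtype.val hab⟩
    suffices a = 1 by rw [← hab, this, one_mul]; exact hb
    by_contra ha1
    obtain ⟨i, hi⟩ := IsPGroup.iff_orderOf.mp hNp ⟨a, ha⟩
    rw [orderOf_mk] at hi
    have hi0 : i ≠ 0 := fun e => ha1 (orderOf_eq_one_iff.mp (by rw [hi, e, pow_zero]))
    have hco : (orderOf a).Coprime (orderOf b) := by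
      rw [hi]
      refine ((Nat.Prime.coprime_iff_not_dvd hr).mpr fun hd => ?_).pow_left i
      have := hbig C hCp b hb r hr hd
      omega
    have hxo := (show Commute a b from (hcent b hb a ha).symm).orderOf_mul_eq_mul_orderOf_of_coprime hco
    rw [hab] at hxo
    have := hx r hr (by rw [hxo, hi]; exact (dvd_pow_self r hi0).mul_right _)
    omega
  · have h1 := C.card_mul_index
    rw [← L.card_mul_index, hLc, hCc, hLi, mul_comm (Nat.card N), mul_assoc] at h1
    rw [Nat.eq_of_mul_eq_mul_left Nat.card_pos h1] at hd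
    rcases hs.dvd_mul.mp hd with h2 | h2
    · rw [hj] at h2
      rw [(Nat.prime_dvd_prime_iff_eq hs hr).mp (hs.dvd_of_dvd_pow h2)]
      exact hrp
    · exact hKi s hs h2

theorem hallCond_of_isSolvable (H : Type u) [Group H] [Finite H] (hT : Thin H)
    (hs : Group.IsSolvable H) : HallCond H := by
  intro p hp
  obtain ⟨K, hK, hKp, hKi⟩ := exists_hall _ H rfl hT hs p hp
  rw [Nat.card_congr (Equiv.subtypeEquivRight fun x => (hK x).symm)]
  refine ⟨K.card_subgroup_dvd_card, hKp, fun r hr hd => hKi r hr ?_⟩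
  rw [← K.card_mul_index, Nat.mul_div_cancel_left _ Nat.card_pos] at hd
  exact hd

/-- Burnside plus descending induction on the largest prime. -/
theorem isSolvable_of_hallCond : ∀ (n : ℕ) (H : Type u) [Group H] [Finite H], Nat.card H = n →
    HallCond H → Group.IsSolvable H := by
  intro n
  induction n using Nat.strong_induction_on with
  | _ n ih =>
  intro H _ _ hn hH
  by_cases h5 : ∃ r ∈ (Nat.card H).primeFactors, 5 ≤ r
  swap
  · push Not at h5
    refine Char.isSolvable_of_card_eq 2 3 Nat.prime_two Nat.prime_three _ H rfl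
      ⟨(Nat.card H).factorization 2, (Nat.card H).factorization 3, ?_⟩
    have hne : Nat.card H ≠ 0 := Nat.card_pos.ne'
    refine Nat.eq_of_factorization_eq hne (by positivity) fun q => ?_
    rw [Nat.factorization_mul (by positivity) (by positivity),
      Nat.prime_two.factorization_pow, Nat.prime_three.factorization_pow,
      Finsupp.add_apply, Finsupp.single_apply, Finsupp.single_apply]
    by_cases hq : q ∈ (Nat.card H).primeFactors
    · have h1 := h5 q hq
      have h2 := (Nat.prime_of_mem_primeFactors hq)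
      have h3 := h2.two_le
      interval_cases q <;> simp_all (config := {decide := true})
    · have h1 : (Nat.card H).factorization q = 0 := by
        rw [← Finsupp.notMem_support_iff, Nat.support_factorization]; exact hq
      rw [h1]
      split_ifs with a b b <;> subst_vars <;> simp_all
  obtain ⟨r, hr, hr5⟩ := h5
  obtain ⟨p, hpmem, hpmax⟩ := ((Nat.card H).primeFactors).exists_max_image id ⟨r, hr⟩
  simp only [id] at hpmax
  have hp : p.Prime := Nat.prime_of_mem_primeFactors hpmem
  have hp5 : 5 ≤ p := hr5.trans (hpmax r hr)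
  haveI := Fact.mk hp
  have hmem : ∀ q : ℕ, q.Prime → q ∣ Nat.card H → q ≤ p := fun q hq hd =>
    hpmax q (Nat.mem_primeFactors.mpr ⟨hq, hd, Nat.card_pos.ne'⟩)
  -- big elements are exactly the `p`-elements
  obtain ⟨P⟩ : Nonempty (Sylow p H) := inferInstance
  obtain ⟨hdvd, hc1, hc2⟩ := hH p hp5
  have hPsub : ∀ x ∈ (P : Subgroup H), Big p x := by
    intro x hx s hs hd
    obtain ⟨i, hi⟩ := IsPGroup.iff_orderOf.mp P.isPGroup' ⟨x, hx⟩
    rw [orderOf_mk] at hi
    rw [hi] at hd
    rw [(Nat.prime_dvd_prime_iff_eq hs hp).mp (hs.dvd_of_dvd_pow hd)]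
  have hcard : Nat.card {x : H // Big p x} = Nat.card (P : Subgroup H) := by
    rw [P.card_eq_multiplicity]
    set c := Nat.card {x : H // Big p x} with hc
    haveI : Nonempty {x : H // Big p x} :=
      ⟨⟨1, fun s hs hd => absurd (Nat.dvd_one.mp (orderOf_one (G := H) ▸ hd)) hs.ne_one⟩⟩
    have hc0 : c ≠ 0 := (Nat.card_pos (α := {x : H // Big p x})).ne'
    obtain ⟨i, hi⟩ : ∃ i, c = p ^ i := ⟨c.factorization p, by
      refine Nat.eq_pow_of_factorization_eq_single hc0 ?_
      refine Finsupp.support_subset_singleton.mp fun q hq => ?_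
      rw [Nat.support_factorization] at hq
      have hqp := Nat.prime_of_mem_primeFactors hq
      have hqd := Nat.dvd_of_mem_primeFactors hq
      rw [Finset.mem_singleton]
      exact le_antisymm (hmem q hqp (hqd.trans hdvd)) (hc1 q hqp hqd)⟩
    have h3 : ¬ p ∣ Nat.card H / c := fun hd => lt_irrefl p (hc2 p hp hd)
    have h4 : Nat.card H / c ≠ 0 := fun e => h3 (e ▸ dvd_zero p)
    conv_rhs => rw [← Nat.mul_div_cancel' hdvd]
    rw [Nat.factorization_mul hc0 h4, Finsupp.add_apply, Nat.factorization_eq_zero_of_not_dvd h3,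
      add_zero, hi, hp.factorization_pow, Finsupp.single_eq_same]
  have hPeq : {x : H | Big p x} = ((P : Subgroup H) : Set H) := by
    refine (Set.eq_of_subset_of_ncard_le hPsub ?_).symm
    show ({x : H | Big p x}).ncard ≤ ((P : Subgroup H) : Set H).ncard
    rw [← Nat.card_coe_set_eq, ← Nat.card_coe_set_eq, SetLike.coe_sort_coe]
    exact hcard.le
  haveI hPn : (P : Subgroup H).Normal := ⟨fun x hx g => by
    have h1 : Big p x := hPsub x hx
    have h2 : g * x * g⁻¹ ∈ {x : H | Big p x} := by
      intro s hs hd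
      exact h1 s hs (by rwa [Invol.orderOf_conj] at hd)
    rw [hPeq] at h2
    exact h2⟩
  have hP0 : (P : Subgroup H) ≠ ⊥ := P.ne_bot_of_dvd_card (Nat.dvd_of_mem_primeFactors hpmem)
  have hcardP : Nat.card H = Nat.card (P : Subgroup H) * Nat.card (H ⧸ (P : Subgroup H)) := by
    rw [mul_comm]; exact (P : Subgroup H).card_eq_card_quotient_mul_card_subgroup
  have hQ : HallCond (H ⧸ (P : Subgroup H)) := by
    intro q hq
    by_cases hqp : q ≤ p
    · obtain ⟨h1, h2, h3⟩ := hH q hq
      have hpre : ∀ x : H, Big q x ↔ Big q ((x : H) : H ⧸ (P : Subgroup H)) := by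
        intro x
        refine ⟨fun hx s hs hd => hx s hs (hd.trans (orderOf_map_dvd (QuotientGroup.mk' _) x)),
          fun hx s hs hd => ?_⟩
        by_contra hlt
        have hsp : s ≠ p := fun e => hlt (e ▸ hqp)
        have hm : x ^ orderOf ((x : H) : H ⧸ (P : Subgroup H)) ∈ (P : Subgroup H) := by
          rw [← QuotientGroup.eq_one_iff, QuotientGroup.mk_pow, pow_orderOf_eq_one]
        obtain ⟨i, hi⟩ := P.isPGroup' ⟨_, hm⟩
        have h4 : orderOf x ∣ orderOf ((x : H) : H ⧸ (P : Subgroup H)) * p ^ i := by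
          refine orderOf_dvd_of_pow_eq_one ?_
          rw [pow_mul]
          exact congrArg Subtype.val hi
        rcases hs.dvd_mul.mp (hd.trans h4) with h5 | h5
        · exact hlt (hx s hs h5)
        · exact hsp ((Nat.prime_dvd_prime_iff_eq hs hp).mp (hs.dvd_of_dvd_pow h5))
      have hc : Nat.card {x : H // Big q x} =
          Nat.card (P : Subgroup H) * Nat.card {y : H ⧸ (P : Subgroup H) // Big q y} := by
        rw [Nat.card_congr (Equiv.subtypeEquivRight hpre)]
        exact (Nat.card_congr (QuotientGroup.preimageMkEquivSubgroupProdSet (P : Subgroup H)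
          {y | Big q y})).trans (Nat.card_prod _ _)
      rw [hc, hcardP] at h1 h3
      rw [hc] at h2
      exact ⟨Nat.dvd_of_mul_dvd_mul_left Nat.card_pos h1, fun s hs hd => h2 s hs (hd.mul_left _),
        fun s hs hd => h3 s hs (by rwa [Nat.mul_div_mul_left _ _ Nat.card_pos])⟩
    · push Not at hqp
      have h1 : ∀ y : H ⧸ (P : Subgroup H), Big q y ↔ y = 1 := by
        refine fun y => ⟨fun hy => orderOf_eq_one_iff.mp <| Nat.eq_one_iff_not_exists_prime_dvd.mpr
          fun s hs hd => ?_, fun hy s hs hd => ?_⟩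
        · have := hy s hs hd
          have := hmem s hs (hd.trans ((_root_.orderOf_dvd_natCard y).trans (Dvd.intro_left _ hcardP.symm)))
          omega
        · rw [hy, orderOf_one] at hd
          exact absurd (Nat.dvd_one.mp hd) hs.ne_one
      rw [Nat.card_congr (Equiv.subtypeEquivRight h1), Nat.card_unique, Nat.div_one]
      refine ⟨one_dvd _, fun s hs hd => absurd (Nat.dvd_one.mp hd) hs.ne_one, fun s hs hd => ?_⟩
      have := hmem s hs (hd.trans (Dvd.intro_left _ hcardP.symm))
      omega
  have hq := ih _ (hn ▸ Core.card_quotient_lt hP0) _ rfl hQ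
  haveI : Group.IsNilpotent (P : Subgroup H) := P.isPGroup'.isNilpotent
  exact Group.isSolvable_of_ker_le_range (P : Subgroup H).subtype (QuotientGroup.mk' (P : Subgroup H))
    (by rw [QuotientGroup.ker_mk', range_subtype])

/-- Transfer of the Hall condition along isomorphisms. -/
theorem hallCond_congr {H H' : Type*} [Group H] [Group H'] (e : H ≃* H') (h : HallCond H) :
    HallCond H' := by
  intro p hp
  have hc : Nat.card {x : H' // Big p x} = Nat.card {x : H // Big p x} :=
    (Nat.card_congr (Equiv.subtypeEquiv e.toEquiv fun x => by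
      show Big p x ↔ Big p (e x)
      simp only [Big, e.orderOf_eq])).symm
  rw [hc, ← Nat.card_congr e.toEquiv]
  exact h p hp

/-- A subgroup of a generalised quaternion group needs at most two generators. -/
theorem two_gen {Q : Type*} [Group Q] (g : Q) (hidx : (zpowers g).index = 2) (U : Subgroup Q) :
    ∃ a b : Q, U = Subgroup.closure {a, b} := by
  haveI : IsCyclic ↥(U ⊓ zpowers g) :=
    isCyclic_of_injective (inclusion (inf_le_right : U ⊓ zpowers g ≤ zpowers g)) (inclusion_injective _)
  obtain ⟨⟨a, ha⟩, hgen⟩ := IsCyclic.exists_generator (α := ↥(U ⊓ zpowers g))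
  have hz : ∀ x ∈ U ⊓ zpowers g, x ∈ zpowers a := fun x hx => by
    obtain ⟨i, hi⟩ := hgen ⟨x, hx⟩
    exact ⟨i, congrArg Subtype.val hi⟩
  by_cases hU : U ≤ zpowers g
  · refine ⟨a, a, le_antisymm (fun x hx => ?_) ?_⟩
    · rw [Set.pair_eq_singleton, ← zpowers_eq_closure]
      exact hz x ⟨hx, hU hx⟩
    · rw [Subgroup.closure_le]
      rintro x (rfl | rfl) <;> exact ha.1
  · obtain ⟨b, hb, hbg⟩ := SetLike.not_le_iff_exists.mp hU
    refine ⟨a, b, le_antisymm (fun x hx => ?_) ?_⟩
    · have hzc : zpowers a ≤ Subgroup.closure {a, b} :=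
        zpowers_le.mpr (subset_closure (Set.mem_insert _ _))
      by_cases hxg : x ∈ zpowers g
      · exact hzc (hz x ⟨hx, hxg⟩)
      · have h1 : x * b⁻¹ ∈ zpowers g := by
          rw [mul_mem_iff_of_index_two hidx, Subgroup.inv_mem_iff]
          exact ⟨fun h => absurd h hxg, fun h => absurd h hbg⟩
        have h2 := Subgroup.mul_mem _ (hzc (hz _ ⟨U.mul_mem hx (U.inv_mem hb), h1⟩))
          (subset_closure (Set.mem_insert_of_mem a rfl : b ∈ ({a, b} : Set Q)))
        rwa [inv_mul_cancel_right] at h2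
    · rw [Subgroup.closure_le]
      rintro x (rfl | rfl)
      · exact ha.1
      · exact hb

theorem thin_of_fpf {G : Type*} [Group G] [Finite G] (K H : Subgroup G) [K.Normal]
    (hc : Subgroup.IsComplement' K H) (hK : K ≠ ⊥)
    (hfpf : ∀ h ∈ H, h ≠ 1 → K ⊓ Subgroup.centralizer {h} = ⊥) : Thin H := by
  refine ⟨fun r hr h2 U hU => ?_, fun U hU => ?_⟩
  · haveI := Fact.mk hr
    obtain ⟨P, hP⟩ := hU.exists_le_sylow
    rcases S0040.result K H hc hK hfpf r P with h | ⟨n, ⟨e⟩⟩
    · exact isCyclic_of_injective (inclusion hP) (inclusion_injective hP)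
    · exfalso
      obtain ⟨j, hj⟩ := IsPGroup.iff_card.mp P.isPGroup'
      have h4 : (2 : ℕ) ∣ r ^ j := by
        rw [← hj, Nat.card_congr e.toEquiv, Nat.card_eq_fintype_card, QuaternionGroup.card]
        omega
      exact h2 ((Nat.prime_dvd_prime_iff_eq Nat.prime_two hr).mp (Nat.prime_two.dvd_of_dvd_pow h4)).symm
  · obtain ⟨P, hP⟩ := hU.exists_le_sylow
    suffices h : ∃ a b : (P : Subgroup H), U.subgroupOf P = Subgroup.closure {a, b} by
      obtain ⟨a, b, hab⟩ := h
      refine ⟨a, b, ?_⟩
      have := congrArg (Subgroup.map (P : Subgroup H).subtype) hab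
      rwa [map_subgroupOf_eq_of_le hP, MonoidHom.map_closure, Set.image_pair] at this
    rcases S0040.result K H hc hK hfpf 2 P with h | ⟨n, ⟨e⟩⟩
    · haveI := h
      obtain ⟨a, ha⟩ := (Subgroup.isCyclic_iff_exists_zpowers_eq_top _).mp
        (inferInstance : IsCyclic ↥(U.subgroupOf (P : Subgroup H)))
      exact ⟨a, a, by rw [Set.pair_eq_singleton, ← zpowers_eq_closure, ha]⟩
    · have hidx : (zpowers (e.symm (QuaternionGroup.a 1))).index = 2 := by
        have h1 := (zpowers (e.symm (QuaternionGroup.a 1))).card_mul_index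
        rw [Nat.card_zpowers, e.symm.orderOf_eq, QuaternionGroup.orderOf_a_one,
          Nat.card_congr e.toEquiv, Nat.card_eq_fintype_card, QuaternionGroup.card] at h1
        have h2 : 0 < 2 ^ n := by positivity
        nlinarith
      exact two_gen _ hidx _

/-- A normal subgroup of order the `s`-part of `|G|`, when the Sylow subgroups for `s` are normal. -/
theorem exists_normal_of_sylow {G : Type*} [Group G] [Finite G] (s : Finset ℕ)
    (hs : ∀ q ∈ s, q.Prime ∧ ∃ N : Subgroup G, N.Normal ∧ Nat.card N = q ^ (Nat.card G).factorization q) :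
    ∃ N : Subgroup G, N.Normal ∧ Nat.card N = ∏ q ∈ s, q ^ (Nat.card G).factorization q := by
  classical
  induction s using Finset.induction with
  | empty => exact ⟨⊥, inferInstance, by rw [card_bot, Finset.prod_empty]⟩
  | @insert q t hq ih =>
    obtain ⟨A, hA, hAc⟩ := ih fun r hr => hs r (Finset.mem_insert_of_mem hr)
    obtain ⟨hqp, B, hB, hBc⟩ := hs q (Finset.mem_insert_self q t)
    haveI := hA
    haveI := hB
    have hco : (Nat.card B).Coprime (Nat.card A) := by
      rw [hBc, hAc]
      refine Nat.Coprime.prod_right fun r hr => Nat.Coprime.pow _ _ ?_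
      exact (Nat.coprime_primes hqp (hs r (Finset.mem_insert_of_mem hr)).1).mpr fun e => hq (e ▸ hr)
    refine ⟨B ⊔ A, inferInstance, ?_⟩
    rw [Core.card_sup_of_inf_eq_bot (Subgroup.inf_eq_bot_of_coprime hco), hBc, hAc, Finset.prod_insert hq]

/-- The number of elements with a big image in the complement factor. -/
theorem card_sigma {G : Type*} [Group G] [Finite G] (N : Subgroup G) [N.Normal]
    (hco : (Nat.card N).Coprime N.index) (p : ℕ) :
    Nat.card {x : G // ∀ r : ℕ, r.Prime → r ∣ orderOf x → p ≤ r ∨ r ∣ Nat.card N} =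
      Nat.card N * Nat.card {y : G ⧸ N // Big p y} := by
  have hpre : ∀ x : G, (∀ r : ℕ, r.Prime → r ∣ orderOf x → p ≤ r ∨ r ∣ Nat.card N) ↔
      Big p ((x : G) : G ⧸ N) := by
    intro x
    constructor
    · intro hx s hs hd
      refine (hx s hs (hd.trans (orderOf_map_dvd (QuotientGroup.mk' N) x))).resolve_right fun h => ?_
      have h1 : s ∣ N.index := hd.trans ((_root_.orderOf_dvd_natCard _).trans (dvd_of_eq (index_eq_card N).symm))
      exact hs.ne_one (Nat.dvd_one.mp (hco ▸ Nat.dvd_gcd h h1))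
    · intro hx s hs hd
      have hm : x ^ orderOf ((x : G) : G ⧸ N) ∈ N := by
        rw [← QuotientGroup.eq_one_iff, QuotientGroup.mk_pow, pow_orderOf_eq_one]
      have h4 : orderOf x ∣ orderOf ((x : G) : G ⧸ N) * Nat.card N := by
        refine orderOf_dvd_of_pow_eq_one ?_
        rw [pow_mul]
        exact orderOf_dvd_iff_pow_eq_one.mp (N.orderOf_dvd_natCard hm)
      exact (hs.dvd_mul.mp (hd.trans h4)).imp (hx s hs) id
  rw [Nat.card_congr (Equiv.subtypeEquivRight hpre)]
  exact (Nat.card_congr (QuotientGroup.preimageMkEquivSubgroupProdSet N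
    {y | Big p y})).trans (Nat.card_prod _ _)



/-- Let F be a finite Frobenius group (it has a Frobenius complement) and G a finite group with the same order type as F (for every m the same number of elements of order m). Then G is a Frobenius group; moreover G is solvable if and only if F is. -/
theorem result {F G : Type*} [Group F] [Finite F] [Group G] [Finite G] (hF : (∃ C : Subgroup F, Cfsg.IsFrobeniusComplement C)) (hT : (∀ m : ℕ, Nat.card {g : F // orderOf g = m} = Nat.card {h : G // orderOf h = m})) :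
    (∃ C : Subgroup G, Cfsg.IsFrobeniusComplement C) ∧ (Group.IsSolvable G ↔ Group.IsSolvable F) := by
  classical
  obtain ⟨C, hC⟩ := hF
  -- an order preserving bijection
  obtain ⟨e, he⟩ : ∃ e : F ≃ G, ∀ x, orderOf (e x) = orderOf x := by
    have e' : ∀ m : ℕ, {g : F // orderOf g = m} ≃ {h : G // orderOf h = m} := fun m =>
      Classical.choice (Finite.card_eq.mp (hT m))
    exact ⟨Equiv.ofFiberEquiv e', fun x => Equiv.ofFiberEquiv_map e' x⟩
  have hcard : Nat.card G = Nat.card F := (Nat.card_congr e).symm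
  obtain ⟨K, hKn, hKmem, hKnil⟩ : ∃ K : Subgroup F, K.Normal ∧ (K : Set F) = Cfsg.frobeniusKernel C ∧
      Group.IsNilpotent K := by
    obtain ⟨N, h1, h2, h3⟩ := S0042.result C hC
    exact ⟨N, h2, h1, h3⟩
  haveI := hKn
  obtain ⟨K', hK'mem, -, hKC⟩ := Core.exists_frobeniusKernel hC
  obtain rfl : K' = K := SetLike.coe_injective (hK'mem.trans hKmem.symm)
  have hK0 : K' ≠ ⊥ := fun h => hC.2.1 (by rw [h] at hKC; exact Subgroup.isComplement'_bot_left.mp hKC)
  have hfree := (S0039.result K' C hKC hK0 hC.1).mp hC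
  have hidxK : K'.index = Nat.card C := hKC.symm.index_eq_card
  have hcoF : (Nat.card K').Coprime K'.index := by
    rw [hidxK, Nat.coprime_comm, ← hKC.index_eq_card]
    exact Core.coprime_card_index_of_isFrobeniusComplement hC
  -- no element of order mixing the two sets of primes
  have hsep : ∀ x : F, ∀ q r : ℕ, q.Prime → r.Prime → q ∣ Nat.card K' → r ∣ K'.index →
      q ∣ orderOf x → r ∣ orderOf x → False := by
    intro x q r hq hr hqk hri hqx hrx
    set y := x ^ (orderOf x / q) with hy
    set z := x ^ (orderOf x / r) with hz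
    have hyo : orderOf y = q := orderOf_pow_orderOf_div (orderOf_pos x).ne' hqx
    have hzo : orderOf z = r := orderOf_pow_orderOf_div (orderOf_pos x).ne' hrx
    have hcomm : Commute y z := Commute.pow_pow_self x _ _
    have hqr : q ≠ r := fun h => hq.ne_one (Nat.dvd_one.mp (hcoF ▸ Nat.dvd_gcd hqk (h ▸ hri)))
    have hyK : y ∈ K' := by
      refine (QuotientGroup.eq_one_iff y).mp (orderOf_eq_one_iff.mp ?_)
      refine Nat.eq_one_of_dvd_coprimes ((Nat.coprime_comm.mp hcoF).coprime_dvd_right hqk) ?_ ?_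
      · exact (_root_.orderOf_dvd_natCard _).trans (dvd_of_eq (Subgroup.index_eq_card K').symm)
      · exact (orderOf_map_dvd (QuotientGroup.mk' K') y).trans (dvd_of_eq hyo)
    have hzK : z ∉ (K' : Set F) := fun h => hr.ne_one (Nat.dvd_one.mp (hcoF ▸ Nat.dvd_gcd
      (hzo ▸ K'.orderOf_dvd_natCard h) hri))
    rw [hK'mem, Core.mem_frobeniusKernel_iff] at hzK
    push Not at hzK
    obtain ⟨hz1, g, hg⟩ := hzK
    have hg1 : g⁻¹ * z * g ≠ 1 := fun h => hz1 (conj_eq_one_iff.mp (by simpa using h : g⁻¹ * z * g⁻¹⁻¹ = 1))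
    have h2 : g⁻¹ * y * g ∈ K' ⊓ Subgroup.centralizer {g⁻¹ * z * g} := by
      refine ⟨by simpa using hKn.conj_mem y hyK g⁻¹, Subgroup.mem_centralizer_singleton_iff.mpr ?_⟩
      simp only [mul_assoc, mul_inv_cancel_left]
      rw [← mul_assoc y z g, hcomm.eq, mul_assoc z y g]
    rw [hfree _ hg hg1, Subgroup.mem_bot] at h2
    have : y = 1 := by simpa [mul_assoc] using congrArg (fun t => g * t * g⁻¹) h2
    exact hq.ne_one (by rw [← hyo, this, orderOf_one])
  -- the Sylow subgroups of `G` for kernel primes are normal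
  set k := Nat.card K' with hk
  have hkpart : ∀ q : ℕ, q.Prime → q ∣ k → k.factorization q = (Nat.card G).factorization q := by
    intro q hq hqk
    rw [hcard, ← K'.card_mul_index, Nat.factorization_mul Nat.card_pos.ne'
      Subgroup.index_ne_zero_of_finite, Finsupp.add_apply, ← hk]
    rw [Nat.factorization_eq_zero_of_not_dvd (n := K'.index) fun hd =>
      hq.ne_one (Nat.dvd_one.mp (hcoF ▸ Nat.dvd_gcd hqk hd)), add_zero]
  have hsyl : ∀ q ∈ k.primeFactors, q.Prime ∧
      ∃ N : Subgroup G, N.Normal ∧ Nat.card N = q ^ (Nat.card G).factorization q := by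
    intro q hq
    have hqp := Nat.prime_of_mem_primeFactors hq
    have hqk := Nat.dvd_of_mem_primeFactors hq
    haveI := Fact.mk hqp
    obtain ⟨Q⟩ : Nonempty (Sylow q G) := inferInstance
    obtain ⟨R⟩ : Nonempty (Sylow q K') := inferInstance
    have hRn : (R : Subgroup K').Normal :=
      (Group.isNilpotent_of_finite_tfae.out 0 3 rfl rfl).mp hKnil q inferInstance R
    haveI := hRn
    haveI : Fintype (Sylow q K') := Fintype.ofFinite _
    have huniq : ∀ x : F, (∃ i, orderOf x = q ^ i) → x ∈ (R : Subgroup K').map K'.subtype := by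
      rintro x ⟨i, hi⟩
      have hxK : x ∈ K' := by
        refine (QuotientGroup.eq_one_iff x).mp (orderOf_eq_one_iff.mp ?_)
        refine Nat.eq_one_of_dvd_coprimes
          (((Nat.coprime_comm.mp hcoF).coprime_dvd_right hqk).pow_right i) ?_ ?_
        · exact (_root_.orderOf_dvd_natCard _).trans (dvd_of_eq (Subgroup.index_eq_card K').symm)
        · exact (orderOf_map_dvd (QuotientGroup.mk' K') x).trans (dvd_of_eq hi)
      refine ⟨⟨x, hxK⟩, ?_, rfl⟩
      have hp' : IsPGroup q (Subgroup.zpowers (⟨x, hxK⟩ : K')) :=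
        IsPGroup.of_card (n := i) (by rw [Nat.card_zpowers, Subgroup.orderOf_mk, hi])
      obtain ⟨R', hR'⟩ := hp'.exists_le_sylow
      rw [@Subsingleton.elim _ (R.unique_of_normal hRn).instSubsingleton R R']
      exact hR' (Subgroup.mem_zpowers _)
    refine ⟨hqp, (Q : Subgroup G), ⟨fun x hx g => ?_⟩, Q.card_eq_multiplicity⟩
    have himg : {y : G | ∃ i, orderOf y = q ^ i} = ((Q : Subgroup G) : Set G) := by
      refine (Set.eq_of_subset_of_ncard_le (fun y hy => ?_) ?_).symm
      · obtain ⟨i, hi⟩ := IsPGroup.iff_orderOf.mp Q.isPGroup' ⟨y, hy⟩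
        exact ⟨i, by rwa [Subgroup.orderOf_mk] at hi⟩
      · rw [← Nat.card_coe_set_eq, ← Nat.card_coe_set_eq, SetLike.coe_sort_coe, Q.card_eq_multiplicity,
          ← hkpart q hqp hqk, ← R.card_eq_multiplicity,
          ← Subgroup.card_map_of_injective K'.subtype_injective]
        refine Nat.card_le_card_of_injective
          (fun y => ⟨e.symm y.1, huniq _ (by
            obtain ⟨i, hi⟩ := y.2
            exact ⟨i, by rw [← he, e.apply_symm_apply]; exact hi⟩)⟩) ?_
        intro a b hab
        exact Subtype.ext (e.symm.injective (congrArg Subtype.val hab))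
    have h1 : x ∈ {y : G | ∃ i, orderOf y = q ^ i} := by rw [himg]; exact hx
    have h2 : g * x * g⁻¹ ∈ {y : G | ∃ i, orderOf y = q ^ i} := by
      obtain ⟨i, hi⟩ := h1
      exact ⟨i, by rw [Invol.orderOf_conj]; exact hi⟩
    rw [himg] at h2
    exact h2
  obtain ⟨N, hNn, hNc⟩ := exists_normal_of_sylow k.primeFactors hsyl
  haveI := hNn
  have hNk : Nat.card N = k := by
    rw [hNc]
    conv_rhs => rw [← Nat.prod_factorization_pow_eq_self (n := k) Nat.card_pos.ne']
    rw [Finsupp.prod, Nat.support_factorization]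
    exact Finset.prod_congr rfl fun q hq => by
      rw [hkpart q (Nat.prime_of_mem_primeFactors hq) (Nat.dvd_of_mem_primeFactors hq)]
  have hNi : N.index = K'.index := by
    refine Nat.eq_of_mul_eq_mul_left (Nat.card_pos (α := N)) ?_
    rw [N.card_mul_index, hNk, hk, K'.card_mul_index, hcard]
  have hcoG : (Nat.card N).Coprime N.index := by rw [hNk, hNi]; exact hcoF
  obtain ⟨D, hD⟩ := Subgroup.exists_right_complement'_of_coprime hcoG
  have hN0 : N ≠ ⊥ := fun h => by
    rw [h, Subgroup.card_bot] at hNk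
    exact hK0 (Subgroup.eq_bot_of_card_eq K' hNk.symm)
  have hD0 : D ≠ ⊥ := fun h => by
    have := hD.symm.index_eq_card
    rw [h, Subgroup.card_bot, hNi, hidxK] at this
    exact hC.1 (Subgroup.eq_bot_of_card_eq C this)
  have hDfree : ∀ d ∈ D, d ≠ 1 → N ⊓ Subgroup.centralizer {d} = ⊥ := by
    intro d hd hd1
    rw [Subgroup.eq_bot_iff_forall]
    rintro n ⟨hn, hnd⟩
    by_contra hn1
    obtain ⟨q, hq, hqn⟩ := Nat.exists_prime_and_dvd fun h => hn1 (orderOf_eq_one_iff.mp h)
    obtain ⟨r, hr, hrd⟩ := Nat.exists_prime_and_dvd fun h => hd1 (orderOf_eq_one_iff.mp h)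
    have hqk : q ∣ k := hNk ▸ hqn.trans (N.orderOf_dvd_natCard hn)
    have hri : r ∣ K'.index := by
      rw [← hNi, hD.symm.index_eq_card]; exact hrd.trans (D.orderOf_dvd_natCard hd)
    have hco : (orderOf n).Coprime (orderOf d) :=
      Nat.Coprime.of_dvd (N.orderOf_dvd_natCard hn)
        ((D.orderOf_dvd_natCard hd).trans (dvd_of_eq hD.symm.index_eq_card.symm)) hcoG
    have hnd' : Commute n d := Subgroup.mem_centralizer_singleton_iff.mp hnd
    refine hsep (e.symm (n * d)) q r hq hr hqk hri ?_ ?_ <;>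
      rw [← he, e.apply_symm_apply, hnd'.orderOf_mul_eq_mul_orderOf_of_coprime hco]
    · exact hqn.mul_right _
    · exact hrd.mul_left _
  refine ⟨⟨D, (S0039.result N D hD hN0 hD0).mpr hDfree⟩, ?_⟩
  -- solvability is read off the counts in the complement factor
  have hcount : ∀ p : ℕ, Nat.card {y : G ⧸ N // Big p y} = Nat.card {y : F ⧸ K' // Big p y} := by
    intro p
    have h1 := card_sigma N hcoG p
    have h2 := card_sigma K' hcoF p
    rw [hNk] at h1
    rw [← hk] at h2
    refine Nat.eq_of_mul_eq_mul_left (Nat.card_pos (α := K')) ?_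
    rw [← hk, ← h1, ← h2]
    refine (Nat.card_congr (Equiv.subtypeEquiv e fun x => ?_)).symm
    rw [he]
  have hcq : Nat.card (G ⧸ N) = Nat.card (F ⧸ K') := by
    rw [← Subgroup.index_eq_card, ← Subgroup.index_eq_card, hNi]
  have hcond : HallCond (G ⧸ N) ↔ HallCond (F ⧸ K') := by
    simp only [HallCond, hcount, hcq]
  have hNsolv : Group.IsSolvable N := by
    haveI : Group.IsNilpotent N := by
      have hsd := hDfree
      obtain ⟨q, hq, hqd⟩ := Nat.exists_prime_and_dvd fun h => hD0 (Subgroup.eq_bot_of_card_eq D h)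
      haveI := Fact.mk hq
      obtain ⟨c, hc⟩ := exists_prime_orderOf_dvd_card' (G := D) q hqd
      rw [← Subgroup.orderOf_coe] at hc
      exact Fusion.isNilpotent_of_fpf_prime hq (by rw [← hc, pow_orderOf_eq_one])
        ((Subgroup.normalizer_eq_top (H := N)).ge (Subgroup.mem_top _))
        (hsd c c.2 fun h => hq.ne_one (by rw [← hc, h, orderOf_one]))
    infer_instance
  have hiffG : Group.IsSolvable G ↔ HallCond (G ⧸ N) := by
    constructor
    · intro hs
      haveI := hs
      exact hallCond_congr hD.symm.QuotientMulEquiv.symm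
        (hallCond_of_isSolvable D (thin_of_fpf N D hD hN0 hDfree) inferInstance)
    · intro h
      haveI := isSolvable_of_hallCond _ (G ⧸ N) rfl h
      haveI := hNsolv
      exact Group.isSolvable_of_ker_le_range N.subtype (QuotientGroup.mk' N)
        (by rw [QuotientGroup.ker_mk', Subgroup.range_subtype])
  have hiffF : Group.IsSolvable F ↔ HallCond (F ⧸ K') := by
    constructor
    · intro hs
      haveI := hs
      exact hallCond_congr hKC.symm.QuotientMulEquiv.symm
        (hallCond_of_isSolvable C (thin_of_fpf K' C hKC hK0 hfree) inferInstance)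
    · intro h
      haveI := isSolvable_of_hallCond _ (F ⧸ K') rfl h
      haveI := hKnil
      exact Group.isSolvable_of_ker_le_range K'.subtype (QuotientGroup.mk' K')
        (by rw [QuotientGroup.ker_mk', Subgroup.range_subtype])
  rw [hiffG, hiffF, hcond]

end Cfsg.Agent.S3999
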