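import Cfsg.Statements.S4001
import Cfsg.Agent.Coherence.FrobKernel
import Cfsg.Agent.Core.FPF
import Cfsg.Agent.Core.Hall
import Cfsg.Agent.OddLocal.Basic
import Cfsg.Agent.OddLocal.ZGroupFixed

open scoped Pointwise

set_option autoImplicit false
open Cfsg

namespace Cfsg.Agent.S4001

open Subgroup

/-- Centralisers of nontrivial kernel elements lie in the kernel. -/
theorem kernel_facts {L : Type*} [Group L] [Finite L] {N : Subgroup L} {C : Subgroup L}
    (hC : IsFrobeniusComplement C) (hN : frobeniusKernel C = (N : Set L)) :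
    (∀ n ∈ N, n ≠ 1 → centralizer ({n} : Set L) ≤ N) ∧ N ≠ ⊤ ∧ N ≠ ⊥ := by
  refine ⟨fun n hn hn1 x hx => ?_, fun e => ?_, fun e => ?_⟩
  · by_contra hxN
    rw [← SetLike.mem_coe, ← hN] at hn hxN
    rw [Core.mem_frobeniusKernel_iff] at hn hxN
    push Not at hxN
    obtain ⟨hx1, g, hg⟩ := hxN
    have hng := hn.resolve_left hn1 g
    refine hx1 ?_
    have h1 := Core.malnormal_of_isFrobeniusComplement hC (g⁻¹ * n * g) hng _ hg (by
      have hcomm : x * n = n * x := mem_centralizer_singleton_iff.mp hx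
      have : g⁻¹ * n * g * (g⁻¹ * x * g) * (g⁻¹ * n * g)⁻¹ = g⁻¹ * x * g := by
        calc g⁻¹ * n * g * (g⁻¹ * x * g) * (g⁻¹ * n * g)⁻¹ = g⁻¹ * (n * x) * n⁻¹ * g := by group
          _ = g⁻¹ * (x * n) * n⁻¹ * g := by rw [hcomm]
          _ = g⁻¹ * x * g := by group
      rw [this]; exact hg)
    calc x = g * (g⁻¹ * x * g) * g⁻¹ := by group
      _ = 1 := by rw [h1]; group
  · obtain ⟨c, hc, hc1⟩ := C.bot_or_exists_ne_one.resolve_left hC.1
    have hcN : c ∈ frobeniusKernel C := by rw [hN, e]; exact mem_top c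
    rw [Core.mem_frobeniusKernel_iff] at hcN
    exact hcN.resolve_left hc1 1 (by simpa using hc)
  · obtain ⟨M, hM, -, hc⟩ := Core.exists_frobeniusKernel hC
    have : M = ⊥ := by rw [← e]; exact SetLike.coe_injective (hM.trans hN)
    rw [this, isComplement'_bot_left] at hc
    exact hC.2.1 hc

/-- In a finite nilpotent group, a prime divisor of the order gives a normal Sylow subgroup. -/
theorem exists_normal_sylow {N : Type*} [Group N] [Finite N] (hN : Group.IsNilpotent N) (q : ℕ)
    [Fact q.Prime] : ∃ Q : Sylow q N, (Q : Subgroup N).Characteristic := by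
  obtain ⟨Q⟩ : Nonempty (Sylow q N) := inferInstance
  have : (Q : Subgroup N).Normal := Sylow.normal_of_normalizerCondition (Group.normalizerCondition_of_isNilpotent (G := N)) Q
  exact ⟨Q, Sylow.characteristic_of_normal Q this⟩

/-- Let G be a 2-Frobenius group: it has normal subgroups H < K with K a Frobenius group with kernel H and G/H a Frobenius group with kernel K/H. Then G is solvable; K/H has odd order coprime to the order of H and to the order of G/K (it is the image of an odd-order Hall subgroup); G/K is cyclic; and the prime graph of G has exactly two connected components, both complete: for distinct primes p, q dividing the order of G, G has an element of order pq exactly when p and q either both divide the order of K/H or both do not. -/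
theorem result {G : Type*} [Group G] [Finite G] (H K : Subgroup G) [H.Normal] [K.Normal] (hlt : H < K)
    (hK : ∃ C : Subgroup ↥K, Cfsg.IsFrobeniusComplement C ∧ Cfsg.frobeniusKernel C = (H.subgroupOf K : Set ↥K))
    (hGH : ∃ C : Subgroup (G ⧸ H), Cfsg.IsFrobeniusComplement C ∧ Cfsg.frobeniusKernel C = (K.map (QuotientGroup.mk' H) : Set (G ⧸ H))) :
    Group.IsSolvable G ∧ Odd (Nat.card (↥K ⧸ H.subgroupOf K)) ∧
      Nat.Coprime (Nat.card (↥K ⧸ H.subgroupOf K)) (Nat.card ↥H * Nat.card (G ⧸ K)) ∧ IsCyclic (G ⧸ K) ∧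
      ∀ p q : ℕ, p.Prime → q.Prime → p ≠ q → p ∣ Nat.card G → q ∣ Nat.card G →
        ((∃ g : G, orderOf g = p * q) ↔ (p ∣ Nat.card (↥K ⧸ H.subgroupOf K) ↔ q ∣ Nat.card (↥K ⧸ H.subgroupOf K))) := by
  classical
  obtain ⟨C₁, hC₁, hk₁⟩ := hK
  obtain ⟨C₂, hC₂, hk₂⟩ := hGH
  obtain ⟨hc₁, htop₁, hbot₁⟩ := kernel_facts hC₁ hk₁
  obtain ⟨hc₂, htop₂, hbot₂⟩ := kernel_facts hC₂ hk₂
  set mk := QuotientGroup.mk' H with hmk
  set N := K.map mk with hNdef
  haveI : N.Normal := Subgroup.Normal.map inferInstance _ (QuotientGroup.mk'_surjective H)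
  have hmk1 : ∀ g : G, mk g = 1 ↔ g ∈ H := fun g => QuotientGroup.eq_one_iff g
  have hmemN : ∀ g : G, mk g ∈ N ↔ g ∈ K := fun g => by
    rw [hNdef, ← mem_comap, comap_map_eq, QuotientGroup.ker_mk', sup_eq_left.mpr hlt.le]
  -- the two centraliser properties
  have hA : ∀ h ∈ H, h ≠ 1 → ∀ k ∈ K, h * k = k * h → k ∈ H := fun h hh h1 k hk hc =>
    hc₁ ⟨h, hlt.le hh⟩ hh (fun e => h1 (congrArg Subtype.val e)) (x := ⟨k, hk⟩)
      (mem_centralizer_singleton_iff.mpr (Subtype.ext hc.symm))
  have hB : ∀ k ∈ K, k ∉ H → ∀ g : G, mk g * mk k = mk k * mk g → g ∈ K := fun k hk hkH g hc =>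
    (hmemN g).mp (hc₂ (mk k) ((hmemN k).mpr hk) (fun e => hkH ((hmk1 k).mp e))
      (mem_centralizer_singleton_iff.mpr hc))
  -- the middle factor
  set B := ↥K ⧸ H.subgroupOf K with hBdef
  set b := Nat.card B with hbdef
  let f : K →* G ⧸ H := mk.comp K.subtype
  let j : B →* G ⧸ H := QuotientGroup.lift (H.subgroupOf K) f fun k hk => (hmk1 k).mpr hk
  have hjmk : ∀ k : K, j (k : B) = mk (k : G) := fun _ => rfl
  have hji : Function.Injective j := by
    rw [injective_iff_map_eq_one]
    intro x hx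
    induction x using QuotientGroup.induction_on with | H k => ?_
    exact (QuotientGroup.eq_one_iff k).mpr ((hmk1 k).mp hx)
  have hjr : j.range = N := by
    ext x
    constructor
    · rintro ⟨y, rfl⟩
      induction y using QuotientGroup.induction_on with | H k => ?_
      exact mem_map_of_mem _ k.2
    · rintro ⟨k, hk, rfl⟩
      exact ⟨((⟨k, hk⟩ : K) : B), rfl⟩
  have hNcard : Nat.card N = b := by rw [← hjr]; exact Nat.card_congr (MonoidHom.ofInjective hji).toEquiv.symm
  have hNidx : N.index = Nat.card (G ⧸ K) := by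
    rw [hNdef, index_map_eq _ (QuotientGroup.mk'_surjective H) (by rw [QuotientGroup.ker_mk']; exact hlt.le),
      index_eq_card]
  have hHcard : Nat.card (H.subgroupOf K) = Nat.card H :=
    Nat.card_congr (subgroupOfEquivOfLe hlt.le).toEquiv
  have hcop1 : Nat.Coprime (Nat.card H) b := by
    have := Coherence.FrobKernel.coprime_index hc₁
    rwa [hHcard, index_eq_card] at this
  have hcop2 : Nat.Coprime b (Nat.card (G ⧸ K)) := by
    have := Coherence.FrobKernel.coprime_index hc₂
    rwa [hNcard, hNidx] at this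
  have hcop : Nat.Coprime b (Nat.card H * Nat.card (G ⧸ K)) := hcop1.symm.mul_right hcop2
  have hHnil : Group.IsNilpotent H := by
    have := Coherence.FrobKernel.isNilpotent hc₁ htop₁
    exact Group.nilpotent_of_mulEquiv (subgroupOfEquivOfLe hlt.le)
  have hNnil : Group.IsNilpotent N := Coherence.FrobKernel.isNilpotent hc₂ htop₂
  have hBnil : Group.IsNilpotent B :=
    haveI := hNnil
    Group.nilpotent_of_mulEquiv ((MonoidHom.ofInjective hji).trans (MulEquiv.subgroupCongr hjr)).symm
  haveI : Nontrivial B := Finite.one_lt_card_iff_nontrivial.1 (by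
    rw [← hbdef, ← hNcard]; exact (one_lt_card_iff_ne_bot _).2 hbot₂)
  obtain ⟨g₀, hg₀⟩ : ∃ g : G, g ∉ K := by
    by_contra hall
    push Not at hall
    exact htop₂ (eq_top_iff.2 fun x _ => by
      obtain ⟨g, rfl⟩ := QuotientGroup.mk'_surjective H x
      exact (hmemN g).2 (hall g))
  -- the middle factor acts without fixed points on the centre of the kernel
  set W := (center H).map H.subtype with hWdef
  haveI : W.Normal := inferInstance
  have hWne : Nontrivial W := by
    rw [nontrivial_iff_ne_bot, Ne, hWdef, map_eq_bot_iff_of_injective _ H.subtype_injective]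
    haveI : Nontrivial H := (nontrivial_iff_ne_bot H).2 fun e => hbot₁ (by rw [e, bot_subgroupOf])
    haveI := hHnil
    exact Group.IsNilpotent.center_ne_bot H
  have hWH : W ≤ H := map_subtype_le _
  have hWcomm : ∀ w ∈ W, ∀ h ∈ H, h * w = w * h := by
    rintro _ ⟨w, hw, rfl⟩ h hh
    exact congrArg Subtype.val (mem_center_iff.mp hw ⟨h, hh⟩)
  letI : CommGroup W := { (inferInstance : Group W) with
    mul_comm := fun x y => Subtype.ext (hWcomm y y.2 x (hWH x.2)) }
  let φ : B →* MulAut W := QuotientGroup.lift (H.subgroupOf K) ((MulAut.conjNormal).comp K.subtype)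
    fun k hk => MulEquiv.ext fun w => Subtype.ext (by
      show (k : G) * (w : G) * (k : G)⁻¹ = w
      rw [hWcomm (w : G) w.2 (k : G) hk, mul_inv_cancel_right])
  have hfpf : Core.IsFPF φ := fun x hx w hw => by
    induction x using QuotientGroup.induction_on with | H k => ?_
    by_contra hw1
    refine hx ((QuotientGroup.eq_one_iff k).2 (hA w (hWH w.2) (fun e => hw1 (Subtype.ext e)) k k.2 ?_))
    have : (k : G) * w * (k : G)⁻¹ = w := congrArg Subtype.val hw
    exact (mul_inv_eq_iff_eq_mul.mp this).symm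
  have hBodd : Odd b := by
    by_contra he
    obtain ⟨t, ht⟩ := exists_prime_orderOf_dvd_card' (G := B) 2 (even_iff_two_dvd.1 (Nat.not_odd_iff_even.1 he))
    induction t using QuotientGroup.induction_on with | H k => ?_
    have hkH : (k : G) ∉ H := fun h => by
      rw [(QuotientGroup.eq_one_iff k).2 h, orderOf_one] at ht; omega
    apply hg₀
    have hg : g₀ * (k : G) * g₀⁻¹ ∈ K := (inferInstance : K.Normal).conj_mem _ k.2 _
    have ht' : orderOf ((⟨_, hg⟩ : K) : B) = 2 := by
      rw [← orderOf_injective j hji, hjmk, ← ht, ← orderOf_injective j hji ((k : K) : B), hjmk,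
        map_mul, map_mul, map_inv]
      exact orderOf_injective (MulAut.conj (mk g₀)).toMonoidHom (MulAut.conj (mk g₀)).injective _
    have heq : ((⟨_, hg⟩ : K) : B) = (k : B) := by
      obtain ⟨v, hv⟩ := exists_ne (1 : W)
      by_contra hne
      refine hv (hfpf (((⟨_, hg⟩ : K) : B)⁻¹ * (k : B)) (fun e => hne (inv_mul_eq_one.1 e)) v ?_)
      rw [map_mul, MulAut.mul_apply, hfpf.apply_eq_inv ht, map_inv,
        hfpf.apply_eq_inv (by rw [orderOf_inv, ht']), inv_inv]
    have h2 := congrArg j heq
    rw [hjmk, hjmk, map_mul, map_mul, map_inv, mul_inv_eq_iff_eq_mul] at h2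
    exact hB k k.2 hkH g₀ h2
  -- the unique subgroup of prime order `r` of the middle factor
  haveI := hBnil
  obtain ⟨r, hr, hrZ⟩ := Nat.exists_prime_and_dvd
    ((one_lt_card_iff_ne_bot _).2 (Group.IsNilpotent.center_ne_bot B)).ne'
  haveI := Fact.mk hr
  obtain ⟨⟨y, hyZ⟩, hy⟩ := exists_prime_orderOf_dvd_card' (G := center B) r hrZ
  rw [← orderOf_coe] at hy
  change orderOf y = r at hy
  have hrb : r ∣ b := hy ▸ orderOf_dvd_natCard y
  have huniq : ∀ u : B, orderOf u = r → u ∈ zpowers y := fun u hu =>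
    hfpf.mem_zpowers_of_commute hr (mem_center_iff.mp hyZ u) hu hy
  obtain ⟨k₀, rfl⟩ := QuotientGroup.mk_surjective y
  have hk₀ : (k₀ : G) ∉ H := fun h => by
    rw [show ((k₀ : K) : B) = 1 from (QuotientGroup.eq_one_iff k₀).2 h, orderOf_one] at hy
    exact hr.one_lt.ne hy
  set R := (zpowers ((k₀ : K) : B)).map j with hRdef
  have hRz : R = zpowers (mk (k₀ : G)) := by rw [hRdef, MonoidHom.map_zpowers, hjmk]
  have hRcard : Nat.card R = r := by
    rw [hRdef, card_map_of_injective hji, Nat.card_zpowers, hy]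
  haveI hRn : R.Normal := by
    refine ⟨fun n hn x => ?_⟩
    obtain ⟨u, hu, rfl⟩ := hn
    obtain ⟨v, hv⟩ : ∃ v, j v = x * j u * x⁻¹ := by
      have hm : x * j u * x⁻¹ ∈ N := (inferInstance : N.Normal).conj_mem _ (hjr ▸ ⟨u, rfl⟩) _
      rw [← hjr] at hm
      exact hm
    refine ⟨v, ?_, hv⟩
    have hov : orderOf v = orderOf u := by
      rw [← orderOf_injective j hji, hv, ← orderOf_injective j hji u]
      exact orderOf_injective (MulAut.conj x).toMonoidHom (MulAut.conj x).injective _
    rcases (Nat.dvd_prime hr).1 (hy ▸ orderOf_dvd_of_mem_zpowers hu) with h1 | h1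
    · rw [h1, orderOf_eq_one_iff] at hov
      rw [hov]; exact one_mem _
    · exact huniq v (hov.trans h1)
  haveI : IsCyclic R := isCyclic_of_prime_card hRcard
  let ψ : G →* MulAut R := (MulAut.conjNormal).comp mk
  have hψ : ψ.ker = K := by
    ext g
    rw [MonoidHom.mem_ker]
    constructor
    · intro hg
      refine hB k₀ k₀.2 hk₀ g ?_
      have h1 := congrArg Subtype.val (DFunLike.congr_fun hg ⟨mk k₀, hRz ▸ mem_zpowers _⟩)
      exact mul_inv_eq_iff_eq_mul.mp h1
    · intro hg
      refine MulEquiv.ext fun x => Subtype.ext ?_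
      show mk g * (x : G ⧸ H) * (mk g)⁻¹ = x
      obtain ⟨u, hu, hux⟩ := x.2
      rw [← hux, show mk g = j ((⟨g, hg⟩ : K) : B) from rfl, ← map_inv, ← map_mul, ← map_mul]
      obtain ⟨n, rfl⟩ := mem_zpowers_iff.1 hu
      congr 1
      rw [mul_inv_eq_iff_eq_mul]
      exact mem_center_iff.mp (zpow_mem hyZ n) _
  have hcycGK : IsCyclic (G ⧸ K) := by
    haveI : IsCyclic (MulAut R) := by
      have hcy : IsCyclic (ZMod (Nat.card R))ˣ := by
        haveI : Fact (Nat.card R).Prime := ⟨hRcard ▸ hr⟩
        infer_instance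
      exact isCyclic_of_surjective _ (IsCyclic.mulAutMulEquiv (G := R)).symm.surjective
    let e := (QuotientGroup.quotientMulEquivOfEq hψ.symm).trans (QuotientGroup.quotientKerEquivRange ψ)
    exact isCyclic_of_surjective e.symm.toMonoidHom e.symm.surjective
  refine ⟨?_, hBodd, hcop, hcycGK, ?_⟩
  · haveI := hHnil
    haveI : Group.IsSolvable H := inferInstance
    haveI : Group.IsSolvable B := inferInstance
    haveI : Group.IsSolvable (G ⧸ K) := Group.isSolvable_of_comm fun x y => by
      haveI := hcycGK.isMulCommutative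
      exact mul_comm' x y
    haveI : Group.IsSolvable K := solvable_of_ker_le_range (Subgroup.inclusion hlt.le)
      (QuotientGroup.mk' (H.subgroupOf K)) fun k hk => by
        rw [QuotientGroup.ker_mk', mem_subgroupOf] at hk
        exact ⟨⟨k, hk⟩, Subtype.ext rfl⟩
    exact solvable_of_ker_le_range K.subtype (QuotientGroup.mk' K) (by simp)
  -- the prime graph
  have hGcard : Nat.card G = Nat.card H * b * Nat.card (G ⧸ K) := by
    rw [card_eq_card_quotient_mul_card_subgroup K, card_eq_card_quotient_mul_card_subgroup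
      (H.subgroupOf K), hHcard]
    ring
  have hsplit : ∀ p : ℕ, p.Prime → p ∣ Nat.card G → ¬ p ∣ b →
      p ∣ Nat.card H ∨ p ∣ Nat.card (G ⧸ K) := fun p hp hpG hpb => by
    rw [hGcard] at hpG
    rcases hp.dvd_mul.1 hpG with h | h
    · exact Or.inl ((hp.dvd_mul.1 h).resolve_right hpb)
    · exact Or.inr h
  have hpow : ∀ (g : G) (n : ℕ), n ∣ orderOf g → ∃ x : G, orderOf x = n := fun g n hn =>
    ⟨g ^ (orderOf g / n), orderOf_pow_orderOf_div (orderOf_pos g).ne' hn⟩
  have hmixed : ∀ p q : ℕ, p.Prime → q.Prime → p ≠ q → p ∣ b → ¬ q ∣ b →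
      ∀ g : G, orderOf g ≠ p * q := by
    intro p q hp hq hpq hpb hqb g hg
    have hy1 : orderOf (g ^ q) = p := by
      rw [orderOf_pow' g hq.ne_zero, hg, Nat.gcd_eq_right (Dvd.intro_left p rfl),
        Nat.mul_div_cancel _ hq.pos]
    have hx1 : orderOf (g ^ p) = q := by
      rw [orderOf_pow' g hp.ne_zero, hg, Nat.gcd_eq_right (Dvd.intro q rfl),
        Nat.mul_div_cancel_left _ hp.pos]
    have hcm : g ^ p * g ^ q = g ^ q * g ^ p := by rw [← pow_add, ← pow_add, add_comm]
    have hyK : g ^ q ∈ K := by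
      rw [← QuotientGroup.eq_one_iff, ← orderOf_eq_one_iff]
      refine Nat.eq_one_of_dvd_coprimes hcop2 ?_ (orderOf_dvd_natCard _)
      exact ((orderOf_map_dvd (QuotientGroup.mk' K) (g ^ q)).trans hy1.dvd).trans hpb
    have hyH : g ^ q ∉ H := fun h => hp.ne_one (Nat.eq_one_of_dvd_coprimes hcop1
      (hy1 ▸ Subgroup.orderOf_dvd_natCard H h) hpb)
    have hxK : g ^ p ∈ K := hB _ hyK hyH _ (by rw [← map_mul, ← map_mul, hcm])
    have hxH : g ^ p ∈ H := by
      rw [← hmk1, ← orderOf_eq_one_iff]
      have h1 : orderOf (mk (g ^ p)) ∣ q := (orderOf_map_dvd mk (g ^ p)).trans hx1.dvd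
      have h2 : orderOf (mk (g ^ p)) ∣ b := by
        rw [← hNcard]; exact Subgroup.orderOf_dvd_natCard N ((hmemN _).2 hxK)
      exact ((Nat.dvd_prime hq).1 h1).resolve_right fun e => hqb (e ▸ h2)
    exact hyH (hA _ hxH (fun e => hq.ne_one (by rw [← hx1, e, orderOf_one])) _ hyK hcm)
  have hHq : ∀ p q : ℕ, p.Prime → q.Prime → p ≠ q → p ∣ Nat.card H → q ∣ Nat.card H →
      ∃ g : G, orderOf g = p * q := by
    intro p q hp hq hpq h1 h2
    haveI := Fact.mk hp
    haveI := Fact.mk hq
    obtain ⟨x, hx⟩ := exists_prime_orderOf_dvd_card' (G := H) p h1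
    obtain ⟨z, hz⟩ := exists_prime_orderOf_dvd_card' (G := H) q h2
    have hc : (orderOf x).Coprime (orderOf z) := by
      rw [hx, hz]; exact (Nat.coprime_primes hp hq).2 hpq
    exact ⟨((x * z : H) : G), by
      rw [orderOf_coe, (OddLocal.commute_of_coprime_orderOf hHnil hc).orderOf_mul_eq_mul_orderOf_of_coprime hc,
        hx, hz]⟩
  -- an element of order `p` off the middle meets the kernel
  have hfix : ∀ p q : ℕ, p.Prime → q.Prime → p ≠ q → p ∣ Nat.card (G ⧸ K) → ¬ p ∣ Nat.card H →
      q ∣ Nat.card H → ∃ g : G, orderOf g = p * q := by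
    intro p q hp hq hpq hpK hpH hqH
    haveI := Fact.mk hp
    haveI := Fact.mk hq
    have hrH : ¬ r ∣ Nat.card H := fun h => hr.ne_one (Nat.eq_one_of_dvd_coprimes hcop1 h hrb)
    set M := R.comap mk with hMdef
    have hMcard : Nat.card M = Nat.card H * r := by rw [hMdef, hmk, Core.card_comap_mk, hRcard]
    have hMK : M ≤ K := fun g hg => (hmemN g).1 (by
      obtain ⟨u, -, hu⟩ := hg
      exact hu ▸ (hjr ▸ ⟨u, rfl⟩ : j u ∈ N))
    obtain ⟨P⟩ : Nonempty (Sylow r M) := inferInstance
    set X := (P : Subgroup M).map M.subtype with hXdef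
    have hXcard : Nat.card X = r := by
      rw [hXdef, card_map_of_injective M.subtype_injective, P.card_eq_multiplicity, hMcard,
        Nat.factorization_mul Nat.card_pos.ne' hr.ne_zero, Finsupp.add_apply,
        Nat.factorization_eq_zero_of_not_dvd hrH, hr.factorization_self, zero_add, pow_one]
    have hXK : X ≤ K := (map_subtype_le _).trans hMK
    have hXH : ∀ w ∈ X, w ≠ 1 → w ∉ H := fun w hw hw1 h => by
      have h1 : orderOf w = r := ((Nat.dvd_prime hr).1 (hXcard ▸ Subgroup.orderOf_dvd_natCard X hw)).resolve_left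
        fun e => hw1 (orderOf_eq_one_iff.1 e)
      exact hrH (h1 ▸ Subgroup.orderOf_dvd_natCard H h)
    have hXne : X ≠ ⊥ := fun e => by
      rw [e, card_bot] at hXcard; exact hr.one_lt.ne hXcard
    haveI : M.Normal := inferInstance
    have hsup : normalizer (X : Set G) ⊔ H = ⊤ := by
      have h1 : normalizer (X : Set G) ⊔ M = ⊤ := Sylow.normalizer_sup_eq_top P
      rw [eq_top_iff, ← h1]
      refine sup_le le_sup_left ?_
      have hXM : X ⊔ H = M := by
        refine eq_of_le_of_card_ge (sup_le (map_subtype_le _) fun h hh => ?_) ?_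
        · show mk h ∈ R
          rw [(hmk1 h).2 hh]; exact one_mem _
        · refine Nat.le_of_dvd Nat.card_pos ?_
          rw [hMcard]
          exact ((hr.coprime_iff_not_dvd.2 hrH).symm).mul_dvd_of_dvd_of_dvd (card_dvd_of_le le_sup_right)
            (hXcard ▸ card_dvd_of_le le_sup_left)
      rw [← hXM]
      exact sup_le (le_normalizer.trans le_sup_left) le_sup_right
    have hpN : p ∣ Nat.card (normalizer (X : Set G)) := by
      refine dvd_trans ?_ (Subgroup.card_dvd_of_surjective
        (mk.comp (normalizer (X : Set G)).subtype) ?_)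
      · rw [card_eq_card_quotient_mul_card_subgroup N]
        refine dvd_trans ?_ (dvd_mul_right _ _)
        rw [← index_eq_card, hNidx]; exact hpK
      · intro x
        obtain ⟨g, rfl⟩ := QuotientGroup.mk'_surjective H x
        have hg : g ∈ ((normalizer (X : Set G) : Subgroup G) : Set G) * (H : Set G) := by
          rw [← mul_normal, hsup]; exact mem_top g
        obtain ⟨n, hn, h, hh, rfl⟩ := hg
        exact ⟨⟨n, hn⟩, by
          show mk n = mk (n * h)
          rw [map_mul, (hmk1 h).2 hh, mul_one]⟩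
    obtain ⟨⟨c, hcX⟩, hc⟩ := exists_prime_orderOf_dvd_card' (G := normalizer (X : Set G)) p hpN
    rw [← orderOf_coe] at hc
    change orderOf c = p at hc
    have hcK : c ∉ K := fun h => by
      have h1 : p ∣ Nat.card K := hc ▸ Subgroup.orderOf_dvd_natCard K h
      rw [card_eq_card_quotient_mul_card_subgroup (H.subgroupOf K), hHcard] at h1
      exact hp.ne_one (Nat.eq_one_of_dvd_coprimes hcop2 ((hp.dvd_mul.1 h1).resolve_right hpH) hpK)
    obtain ⟨Q, hQ⟩ := exists_normal_sylow hHnil q
    set Q' := (Q : Subgroup H).map H.subtype with hQ'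
    set U := (center Q').map Q'.subtype with hU
    haveI : Q'.Normal := inferInstance
    haveI : U.Normal := inferInstance
    have hUH : U ≤ H := (map_subtype_le _).trans (map_subtype_le _)
    haveI : IsMulCommutative U := inferInstance
    have hUq : IsPGroup q U := ((Q.isPGroup'.map H.subtype).to_le (map_subtype_le _))
    have hUne : U ≠ ⊥ := by
      rw [hU, Ne, map_eq_bot_iff_of_injective _ Q'.subtype_injective]
      haveI : Nontrivial Q' := by
        rw [nontrivial_iff_ne_bot, hQ', Ne, map_eq_bot_iff_of_injective _ H.subtype_injective]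
        exact Q.ne_bot_of_dvd_card hqH
      haveI := IsPGroup.center_nontrivial (Q.isPGroup'.map H.subtype)
      exact (nontrivial_iff_ne_bot _).1 inferInstance
    obtain ⟨w, hw, hw1⟩ : ∃ w ∈ U ⊓ centralizer {c}, w ≠ 1 := by
      by_contra hnone
      push Not at hnone
      refine hUne (eq_bot_iff.2 (OddLocal.ZFix.le_of_frobenius_fixed hp (c := c)
        (by rw [← hc, pow_orderOf_eq_one]) (X := X) (A := ⊥) ?_ ?_ hcX ?_ ?_ ?_ ?_ ?_))
      · rw [normalizer_eq_top]; exact le_top
      · rw [normalizer_eq_top]; exact mem_top c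
      · obtain ⟨m, hm⟩ := IsPGroup.iff_card.1 hUq
        rw [hXcard, hm]
        exact Nat.Coprime.pow_right _ ((Nat.coprime_primes hr hq).2 fun e => hrH (e ▸ hqH))
      · rw [eq_bot_iff]
        rintro u ⟨hu, huX⟩
        rw [mem_bot]
        by_contra hu1
        obtain ⟨v, hv, hv1⟩ := X.bot_or_exists_ne_one.resolve_left hXne
        exact hXH v hv hv1 (hA u (hUH hu) hu1 v (hXK hv) (mem_centralizer_iff.1 huX v hv).symm)
      · rw [eq_bot_iff]
        rintro v ⟨hv, hvc⟩
        rw [mem_bot]
        by_contra hv1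
        refine hcK (hB v (hXK hv) (hXH v hv hv1) c ?_)
        rw [← map_mul, ← map_mul, mem_centralizer_singleton_iff.1 hvc]
      · exact fun w hw => mem_bot.2 (hnone w hw)
      · rw [normalizer_eq_top]; exact le_top
    obtain ⟨k, hk⟩ := IsPGroup.iff_orderOf.1 hUq ⟨w, hw.1⟩
    rw [← orderOf_coe] at hk
    change orderOf w = q ^ k at hk
    have hk0 : k ≠ 0 := fun e => hw1 (by rw [e, pow_zero, orderOf_eq_one_iff] at hk; exact hk)
    have hcw : Commute c w := (mem_centralizer_singleton_iff.1 hw.2).symm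
    refine hpow (c * w) _ ?_
    rw [hcw.orderOf_mul_eq_mul_orderOf_of_coprime (by
      rw [hc, hk]; exact Nat.Coprime.pow_right _ ((Nat.coprime_primes hp hq).2 hpq)), hc, hk]
    exact Nat.mul_dvd_mul_left _ (dvd_pow_self q hk0)
  intro p q hp hq hpq hpG hqG
  constructor
  · rintro ⟨g, hg⟩
    constructor
    · intro h
      by_contra h'
      exact hmixed p q hp hq hpq h h' g hg
    · intro h
      by_contra h'
      exact hmixed q p hq hp hpq.symm h h' g (by rw [hg, mul_comm])
  · intro hiff
    by_cases hpb : p ∣ b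
    · haveI := Fact.mk hp
      haveI := Fact.mk hq
      obtain ⟨x, hx⟩ := exists_prime_orderOf_dvd_card' (G := B) p hpb
      obtain ⟨z, hz⟩ := exists_prime_orderOf_dvd_card' (G := B) q (hiff.1 hpb)
      have hc : (orderOf x).Coprime (orderOf z) := by
        rw [hx, hz]; exact (Nat.coprime_primes hp hq).2 hpq
      obtain ⟨k, hk⟩ := QuotientGroup.mk_surjective (x * z)
      refine hpow (k : G) _ ?_
      rw [orderOf_coe, ← hx, ← hz,
        ← (OddLocal.commute_of_coprime_orderOf hBnil hc).orderOf_mul_eq_mul_orderOf_of_coprime hc, ← hk]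
      exact orderOf_map_dvd (QuotientGroup.mk' (H.subgroupOf K)) k
    · have hqb : ¬ q ∣ b := fun h => hpb (hiff.2 h)
      by_cases hpH : p ∣ Nat.card H
      · by_cases hqH : q ∣ Nat.card H
        · exact hHq p q hp hq hpq hpH hqH
        · obtain ⟨g, hg⟩ := hfix q p hq hp hpq.symm ((hsplit q hq hqG hqb).resolve_left hqH) hqH hpH
          exact ⟨g, by rw [hg, mul_comm]⟩
      · have hpK := (hsplit p hp hpG hpb).resolve_left hpH
        by_cases hqH : q ∣ Nat.card H
        · exact hfix p q hp hq hpq hpK hpH hqH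
        · have hqK := (hsplit q hq hqG hqb).resolve_left hqH
          haveI := hcycGK
          obtain ⟨x, hx⟩ := IsCyclic.exists_ofOrder_eq_natCard (α := G ⧸ K)
          obtain ⟨g, rfl⟩ := QuotientGroup.mk_surjective x
          refine hpow g _ (dvd_trans ?_ (orderOf_map_dvd (QuotientGroup.mk' K) g))
          rw [QuotientGroup.mk'_apply, hx]
          exact ((Nat.coprime_primes hp hq).2 hpq).mul_dvd_of_dvd_of_dvd hpK hqK

end Cfsg.Agent.S4001
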