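import Mathlib
import Cfsg.Statements.S4002
import Cfsg.Agent.S3633

set_option autoImplicit false
open Cfsg

namespace Cfsg.Agent.S4002
/-- Three primes up to `n` whose pairwise products exceed `n`. -/
theorem exists_primes (n : ℕ) (hn : 7 ≤ n) : ∃ p q r : ℕ, p.Prime ∧ q.Prime ∧ r.Prime ∧
    p < q ∧ q < r ∧ r ≤ n ∧ n < p * q := by
  rcases Nat.lt_or_ge n 64 with h | h
  · rcases Nat.lt_or_ge n 15 with h1 | h1
    · exact ⟨3, 5, 7, by norm_num, by norm_num, by norm_num, by norm_num, by norm_num, hn, by omega⟩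
    rcases Nat.lt_or_ge n 35 with h2 | h2
    · exact ⟨5, 7, 11, by norm_num, by norm_num, by norm_num, by norm_num, by norm_num, by omega, by omega⟩
    · exact ⟨7, 11, 13, by norm_num, by norm_num, by norm_num, by norm_num, by norm_num, by omega, by omega⟩
  · obtain ⟨p, hp, hp1, hp2⟩ := Nat.exists_prime_lt_and_le_two_mul (n / 8) (by omega)
    obtain ⟨q, hq, hq1, hq2⟩ := Nat.exists_prime_lt_and_le_two_mul (n / 4) (by omega)
    obtain ⟨r, hr, hr1, hr2⟩ := Nat.exists_prime_lt_and_le_two_mul (n / 2) (by omega)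
    refine ⟨p, q, r, hp, hq, hr, by omega, by omega, by omega, ?_⟩
    have e1 : n < 8 * p := by omega
    have e2 : n < 4 * q := by omega
    have h3 : n * n < 32 * (p * q) := by
      calc n * n < (8 * p) * (4 * q) := Nat.mul_lt_mul'' e1 e2
        _ = 32 * (p * q) := by ring
    have h4 : 32 * n ≤ n * n := Nat.mul_le_mul_right n (by omega)
    omega


/-- If the set of element orders of a finite group G is {1, 2, …, n} with n ≥ 7, then G is not solvable. -/
theorem result {G : Type*} [Group G] [Finite G] (n : ℕ) (hn : 7 ≤ n) (h : Set.range (orderOf : G → ℕ) = {k : ℕ | 1 ≤ k ∧ k ≤ n}) : ¬ Group.IsSolvable G := by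
  intro hsol
  obtain ⟨p, q, r, hp, hq, hr, hpq, hqr, hrn, hprod⟩ := exists_primes n hn
  have hdvd : ∀ a : ℕ, a.Prime → a ≤ n → a ∣ Nat.card G := by
    intro a ha han
    have : a ∈ Set.range (orderOf : G → ℕ) := by rw [h]; exact ⟨ha.one_lt.le, han⟩
    obtain ⟨g, hg⟩ := this
    exact hg ▸ orderOf_dvd_natCard g
  have hadj : ∀ a b : ℕ, p ≤ a → q ≤ b → ¬ ∃ x : G, orderOf x = a * b := by
    rintro a b ha hb ⟨x, hx⟩
    have h2 : orderOf x ∈ {k : ℕ | 1 ≤ k ∧ k ≤ n} := h ▸ Set.mem_range_self x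
    have := Nat.mul_le_mul ha hb
    rw [hx] at h2
    exact absurd h2.2 (by omega)
  haveI : Group.IsSolvable G := hsol
  haveI : Group.IsSolvable (⊤ : Subgroup G) := inferInstance
  refine (Cfsg.Agent.S3633.result {p, q, r} ?_ ⟨?_, ?_⟩ (⊤ : Subgroup G) inferInstance).2 hsol
  · have hset : ({p, q, r} : Finset ℕ).card = 3 := Finset.card_eq_three.2 ⟨p, q, r, hpq.ne, (hpq.trans hqr).ne, hqr.ne, rfl⟩
    omega
  · intro a ha
    simp only [Finset.mem_insert, Finset.mem_singleton] at ha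
    rcases ha with rfl | rfl | rfl
    · exact ⟨hp, hdvd _ hp (by omega)⟩
    · exact ⟨hq, hdvd _ hq (by omega)⟩
    · exact ⟨hr, hdvd _ hr hrn⟩
  · intro a ha b hb hab
    simp only [Finset.mem_insert, Finset.mem_singleton] at ha hb
    rcases le_or_gt q b with hb' | hb'
    · exact hadj a b (by omega) hb'
    · rintro ⟨x, hx⟩
      exact hadj b a (by omega) (by omega) ⟨x, by rw [hx, mul_comm]⟩

end Cfsg.Agent.S4002
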