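import Cfsg.Statements.S4003
import Mathlib
import Cfsg.Agent.Fusion.RankTwo

set_option autoImplicit false
open Cfsg

namespace Cfsg.Agent.S4003

open Subgroup Finset
open scoped Pointwise commutatorElement

universe u

variable {G : Type u} [Group G] [Finite G] {p : ℕ} [Fact p.Prime]

theorem card_generators (x : G) :
    Nat.card {y : G // zpowers y = zpowers x} = (orderOf x).totient := by
  classical
  have := Fintype.ofFinite ↥(zpowers x)
  have h1 := IsCyclic.card_orderOf_eq_totient (α := ↥(zpowers x)) (d := orderOf x)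
    (by rw [← Nat.card_eq_fintype_card, Nat.card_zpowers])
  rw [← h1, ← Fintype.card_subtype, ← Nat.card_eq_fintype_card]
  refine Nat.card_congr
    { toFun := fun y => ⟨⟨y.1, y.2.le (mem_zpowers y.1)⟩, ?_⟩
      invFun := fun w => ⟨(w.1 : G), ?_⟩
      left_inv := fun y => rfl
      right_inv := fun w => rfl }
  · rw [← Subgroup.orderOf_coe, ← Nat.card_zpowers, y.2, Nat.card_zpowers]
  · exact eq_of_le_of_card_ge (zpowers_le.2 w.1.2)
      (by rw [Nat.card_zpowers, Nat.card_zpowers, Subgroup.orderOf_coe, w.2])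

/-- A divisor of all fibre sizes divides the cardinality. -/
theorem dvd_card_of_fibres {X Y : Type*} [Finite X] (f : X → Y) {d : ℕ}
    (h : ∀ x, d ∣ Nat.card {z : X // f z = f x}) : d ∣ Nat.card X := by
  classical
  have := Fintype.ofFinite X
  rw [Nat.card_eq_fintype_card, ← Finset.card_univ, Finset.card_eq_sum_card_image f]
  refine Finset.dvd_sum fun y hy => ?_
  obtain ⟨x, -, rfl⟩ := Finset.mem_image.1 hy
  have := h x
  rwa [Nat.card_eq_fintype_card, Fintype.card_subtype] at this

theorem totient_dvd_card (k : ℕ) (S : G → Prop)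
    (hS : ∀ x y, zpowers x = zpowers y → S x → S y) :
    k.totient ∣ Nat.card {x : G // orderOf x = k ∧ S x} := by
  refine dvd_card_of_fibres (fun x => zpowers x.1) fun x => ?_
  refine (show k.totient = Nat.card {y : G // zpowers y = zpowers x.1} by
    rw [card_generators, x.2.1]) ▸ dvd_of_eq (Nat.card_congr
    { toFun := fun y => ⟨⟨y.1, ⟨by rw [← Nat.card_zpowers, y.2, Nat.card_zpowers, x.2.1],
        hS x.1 y.1 y.2.symm x.2.2⟩⟩, y.2⟩
      invFun := fun y => ⟨y.1.1, y.2⟩
      left_inv := fun y => rfl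
      right_inv := fun y => rfl })

/-- Normal cyclic subgroups of order `p ^ s` in a non-cyclic `p`-group, `p` odd. -/
theorem normal_fibre (hp : p ≠ 2) (hG : IsPGroup p G) (hnc : ¬ IsCyclic G) (t : ℕ)
    (x : G) (hx : orderOf x = p ^ (t + 2)) (hxn : (zpowers x).Normal) :
    p ^ (t + 2) ∣ Nat.card {y : G //
      (orderOf y = p ^ (t + 2) ∧ (zpowers y).Normal) ∧ zpowers (y ^ p) = zpowers (x ^ p)} := by
  classical
  have hpp : p.Prime := Fact.out
  have hnormal : ∀ k : ℕ, (zpowers (x ^ k)).Normal := by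
    refine fun k => ⟨fun n hn g => ?_⟩
    obtain ⟨j, rfl⟩ := mem_zpowers_iff.1 hn
    obtain ⟨i, hi⟩ := mem_zpowers_iff.1 (hxn.conj_mem x (mem_zpowers x) g)
    refine mem_zpowers_iff.2 ⟨i * j, ?_⟩
    rw [← conj_zpow, ← conj_pow, ← hi, ← zpow_natCast, ← zpow_natCast, ← zpow_mul, ← zpow_mul,
      ← zpow_mul]
    ring_nf
  haveI := hnormal p
  haveI := hnormal (p * p)
  set N : Subgroup G := zpowers (x ^ p) with hN
  set N2 : Subgroup G := zpowers (x ^ (p * p)) with hN2
  have hxp : orderOf (x ^ p) = p ^ (t + 1) := by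
    rw [orderOf_pow' x hpp.pos.ne', hx, Nat.gcd_eq_right (dvd_pow_self p (Nat.succ_ne_zero _)),
      pow_succ, Nat.mul_div_cancel _ hpp.pos]
  have hxpp : orderOf (x ^ (p * p)) = p ^ t := by
    rw [orderOf_pow' x (Nat.mul_ne_zero hpp.pos.ne' hpp.pos.ne'), hx,
      Nat.gcd_eq_right (by rw [← pow_two]; exact pow_dvd_pow p (by omega)),
      show p ^ (t + 2) = p ^ t * (p * p) by rw [pow_add, pow_two],
      Nat.mul_div_cancel _ (Nat.mul_pos hpp.pos hpp.pos)]
  have hNc : Nat.card N = p ^ (t + 1) := by rw [hN, Nat.card_zpowers, hxp]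
  have hN2c : Nat.card N2 = p ^ t := by rw [hN2, Nat.card_zpowers, hxpp]
  have hN2N : N2 ≤ N := by
    rw [hN2, pow_mul, zpowers_le]; exact pow_mem (mem_zpowers _) _
  have hxN2 : x ^ p ∉ N2 := fun h => by
    have h1 := card_le_of_le (zpowers_le.2 h)
    rw [hN2, Nat.card_zpowers, Nat.card_zpowers, hxp, hxpp] at h1
    exact absurd h1 (not_le.2 (Nat.pow_lt_pow_right hpp.one_lt (Nat.lt_succ_self t)))
  have hxN : x ∉ N := fun h => by
    have h1 := card_le_of_le (zpowers_le.2 h)
    rw [hN, Nat.card_zpowers, Nat.card_zpowers, hxp, hx] at h1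
    exact absurd h1 (not_le.2 (Nat.pow_lt_pow_right hpp.one_lt (Nat.lt_succ_self _)))
  set q := QuotientGroup.mk' N with hq
  have hqs : Function.Surjective q := QuotientGroup.mk'_surjective N
  have hQ : IsPGroup p (G ⧸ N) := hG.to_quotient N
  let A : Subgroup G :=
    { carrier := {y | q y ∈ center (G ⧸ N) ∧ q y ^ p = 1}
      one_mem' := by simp
      mul_mem' := fun {a b} ha hb => by
        refine ⟨(map_mul q a b).symm ▸ mul_mem ha.1 hb.1, ?_⟩
        rw [map_mul, (show Commute (q a) (q b) from (mem_center_iff.1 ha.1 (q b)).symm).mul_pow,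
          ha.2, hb.2, one_mul]
      inv_mem' := fun {a} ha => by
        refine ⟨(map_inv q a).symm ▸ inv_mem ha.1, ?_⟩
        rw [map_inv, inv_pow, ha.2, inv_one] }
  have hA : ∀ y, y ∈ A ↔ q y ∈ center (G ⧸ N) ∧ q y ^ p = 1 := fun y => Iff.rfl
  have hqN : ∀ y, q y = 1 ↔ y ∈ N := fun y => by rw [hq, ← MonoidHom.mem_ker, QuotientGroup.ker_mk']
  have hcentral : ∀ y : G, (zpowers y).Normal → y ^ p ∈ N → y ∉ N → y ∈ A := by
    intro y hy hyp hyN
    have hy1 : q y ^ p = 1 := by rw [← map_pow, hqN]; exact hyp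
    have hc : Nat.card (zpowers (q y)) = p := by
      rw [Nat.card_zpowers, orderOf_eq_prime hy1 (fun h => hyN ((hqN y).1 h))]
    haveI : (zpowers (q y)).Normal := by rw [← MonoidHom.map_zpowers]; exact hy.map q hqs
    exact (hA y).2 ⟨Fusion.le_center_of_card_eq_prime hQ _ hc (mem_zpowers _), hy1⟩
  have hxA : x ∈ A := hcentral x hxn (mem_zpowers _) hxN
  set q2 := QuotientGroup.mk' N2 with hq2
  have hqN2 : ∀ y, q2 y = 1 ↔ y ∈ N2 := fun y => by
    rw [hq2, ← MonoidHom.mem_ker, QuotientGroup.ker_mk']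
  have hQ2 : IsPGroup p (G ⧸ N2) := hG.to_quotient N2
  set w := q2 (x ^ p) with hw
  have hwp : orderOf w = p := orderOf_eq_prime
    (by rw [hw, ← map_pow, hqN2, ← pow_mul]; exact mem_zpowers _) (fun h => hxN2 ((hqN2 _).1 h))
  have hNmap : N.map q2 = zpowers w := by rw [hN, hw, MonoidHom.map_zpowers]
  haveI hwn : (zpowers w).Normal := hNmap ▸ Subgroup.Normal.map (hnormal p) q2 (QuotientGroup.mk'_surjective N2)
  have hwc : zpowers w ≤ center (G ⧸ N2) :=
    Fusion.le_center_of_card_eq_prime hQ2 _ (by rw [Nat.card_zpowers, hwp])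
  have hyw : ∀ y ∈ A, q2 (y ^ p) ∈ zpowers w := fun y hy => by
    rw [← hNmap]
    exact mem_map_of_mem _ ((hqN _).1 (by rw [map_pow]; exact ((hA y).1 hy).2))
  let φ : A →* G ⧸ N2 :=
    { toFun := fun y => q2 ((y : G) ^ p)
      map_one' := by rw [OneMemClass.coe_one, one_pow, map_one]
      map_mul' := fun a b => by
        have hcN : ⁅(b : G), (a : G)⁆ ∈ N := by
          rw [← hqN, map_commutatorElement, commutatorElement_eq_one_iff_mul_comm]
          exact (mem_center_iff.1 ((hA _).1 b.2).1 _).symm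
        have hc : q2 ⁅(b : G), (a : G)⁆ ∈ zpowers w := hNmap ▸ mem_map_of_mem _ hcN
        rw [map_commutatorElement] at hc
        have hcc := mem_center_iff.1 (hwc hc)
        have hcp : ⁅q2 (b : G), q2 (a : G)⁆ ^ p = 1 := by
          rw [← orderOf_dvd_iff_pow_eq_one, ← hwp, ← Nat.card_zpowers w]
          exact Subgroup.orderOf_dvd_natCard _ hc
        have h2 : p ∣ p.choose 2 := hpp.dvd_choose_self (by norm_num) (lt_of_le_of_ne hpp.two_le (Ne.symm hp))
        obtain ⟨d, hd⟩ := h2
        simp only [Subgroup.coe_mul, map_pow, map_mul]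
        rw [Fusion.mul_pow_of_commute_commutator (hcc _).symm (hcc _).symm p, hd, pow_mul, hcp,
          one_pow, mul_one] }
  have hrange : φ.range = zpowers w := le_antisymm (by rintro _ ⟨y, rfl⟩; exact hyw y y.2)
    (zpowers_le.2 ⟨⟨x, hxA⟩, rfl⟩)
  have hcardA : Nat.card A = Nat.card φ.ker * p := by
    rw [Subgroup.card_eq_card_quotient_mul_card_subgroup φ.ker,
      Nat.card_congr (QuotientGroup.quotientKerEquivRange φ).toEquiv, hrange, Nat.card_zpowers, hwp,
      mul_comm]
  -- `A` is large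
  have hbig : p ^ (t + 3) ∣ Nat.card A := by
    obtain ⟨E, hE, ⟨-, hEp⟩, hEc⟩ := Fusion.exists_normal_elementary_card_sq hp hG hnc
    haveI : (E.map q).Normal := hE.map q hqs
    have hEne : E.map q ≠ ⊥ := fun h => by
      have hEN : E ≤ N := fun e he => (hqN e).1 (by rw [← mem_bot, ← h]; exact mem_map_of_mem q he)
      haveI : IsCyclic E := isCyclic_of_injective _ (Subgroup.inclusion_injective hEN)
      obtain ⟨g, hg⟩ := IsCyclic.exists_generator (α := E)
      have h1 : orderOf g = p ^ 2 := by rw [orderOf_eq_card_of_forall_mem_zpowers hg, hEc]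
      have h2 : orderOf g ∣ p := orderOf_dvd_of_pow_eq_one (Subtype.ext (hEp g g.2))
      have h3 := Nat.le_of_dvd hpp.pos (h1 ▸ h2)
      nlinarith [hpp.two_le]
    obtain ⟨Z, hZE, hZc, hZn, hZ⟩ := Fusion.exists_central_card_prime hQ _ hEne
    have hBA : Z.comap q ≤ A := fun y hy => by
      refine (hA y).2 ⟨hZc hy, orderOf_dvd_iff_pow_eq_one.1 ?_⟩
      rw [← hZ]; exact Subgroup.orderOf_dvd_natCard _ hy
    have hxB : x ∉ Z.comap q := fun h => by
      obtain ⟨e, he, hex⟩ := hZE h
      have h1 : x⁻¹ * e ∈ N := by rw [← hqN, map_mul, map_inv, hex, inv_mul_cancel]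
      have h2 : (x⁻¹ * e) ^ p ∈ N2 := by
        obtain ⟨i, hi⟩ := mem_zpowers_iff.1 h1
        rw [← hi, hN2, pow_mul, ← zpow_natCast ((x ^ p) ^ i), ← zpow_mul, mul_comm, zpow_mul, zpow_natCast]
        exact zpow_mem (mem_zpowers _) i
      obtain ⟨i, hi⟩ := mem_zpowers_iff.1 h1
      have h3 : Commute x⁻¹ e := by
        have : Commute x⁻¹ (x⁻¹ * e) := by
          rw [← hi]; exact (((Commute.refl x).pow_right p).inv_left).zpow_right i
        simpa using ((Commute.refl x⁻¹).inv_right).mul_right this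
      rw [h3.mul_pow, hEp e he, mul_one, inv_pow, inv_mem_iff] at h2
      exact hxN2 h2
    have hBcard : Nat.card (Z.comap q) = p ^ (t + 2) := by
      refine Nat.eq_of_mul_eq_mul_right (Nat.pos_of_ne_zero (Z.comap q).index_ne_zero_of_finite) ?_
      rw [Subgroup.card_mul_index, Subgroup.index_comap_of_surjective _ hqs,
        Subgroup.card_eq_card_quotient_mul_card_subgroup N, ← Z.card_mul_index, hZ, hNc]
      ring
    obtain ⟨e, he⟩ := IsPGroup.iff_card.1 (hG.to_subgroup A)
    rw [he]
    refine pow_dvd_pow p ?_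
    by_contra hlt
    have h1 : Nat.card A ≤ Nat.card (Z.comap q) := by
      rw [he, hBcard]; exact Nat.pow_le_pow_right hpp.pos (by omega)
    exact hxB (eq_of_le_of_card_ge hBA h1 ▸ hxA)
  have hker : p ^ (t + 2) ∣ Nat.card φ.ker := by
    refine Nat.dvd_of_mul_dvd_mul_right hpp.pos ?_
    rw [← hcardA, ← pow_succ]
    exact hbig
  -- the fibre is the complement of the kernel in `A`
  have hequiv : Nat.card {y : G //
      (orderOf y = p ^ (t + 2) ∧ (zpowers y).Normal) ∧ zpowers (y ^ p) = N} =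
      Nat.card {a : A // a ∉ φ.ker} := by
    refine Nat.card_congr
      { toFun := fun y => ⟨⟨y.1, ?_⟩, ?_⟩
        invFun := fun a => ⟨(a.1 : G), ?_⟩
        left_inv := fun y => rfl
        right_inv := fun a => rfl }
    · refine hcentral y.1 y.2.1.2 (y.2.2.le (mem_zpowers _)) fun h => ?_
      have h1 := card_le_of_le (zpowers_le.2 h)
      rw [hNc, Nat.card_zpowers, y.2.1.1] at h1
      exact absurd h1 (not_le.2 (Nat.pow_lt_pow_right hpp.one_lt (Nat.lt_succ_self _)))
    · rw [MonoidHom.mem_ker]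
      intro h
      have h1 := card_le_of_le (zpowers_le.2 ((hqN2 _).1 h))
      rw [hN2c, y.2.2, hNc] at h1
      exact absurd h1 (not_le.2 (Nat.pow_lt_pow_right hpp.one_lt (Nat.lt_succ_self t)))
    · obtain ⟨⟨y, hy⟩, hyk⟩ := a
      have hypN : y ^ p ∈ N := (hqN _).1 (by rw [map_pow]; exact ((hA y).1 hy).2)
      have hypN2 : y ^ p ∉ N2 := fun h => hyk (MonoidHom.mem_ker.2 ((hqN2 _).2 h))
      obtain ⟨i, hi⟩ := (mem_powers_iff_mem_zpowers (x := x ^ p)).2 hypN
      have hip : ¬ p ∣ i := by
        rintro ⟨j, rfl⟩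
        exact hypN2 (by rw [← hi]; show (x ^ p) ^ (p * j) ∈ N2; rw [pow_mul, ← pow_mul x]; exact pow_mem (mem_zpowers _) _)
      have hord : orderOf (y ^ p) = p ^ (t + 1) := by
        rw [← hi]
        show orderOf ((x ^ p) ^ i) = _
        rw [Nat.Coprime.orderOf_pow, hxp]
        rw [hxp]
        exact ((hpp.coprime_iff_not_dvd).2 hip).pow_left _
      have heq : zpowers (y ^ p) = N := eq_of_le_of_card_ge (zpowers_le.2 hypN)
        (by rw [hN, Nat.card_zpowers, Nat.card_zpowers, hxp, hord])
      refine ⟨⟨?_, ⟨fun z hz g => ?_⟩⟩, heq⟩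
      · show orderOf y = p ^ (t + 2)
        refine orderOf_eq_prime_pow (fun h => ?_) ?_
        · have h1 : (y ^ p) ^ (p ^ t) = 1 := by rw [← pow_mul, ← pow_succ']; exact h
          have h2 := orderOf_dvd_of_pow_eq_one h1
          rw [hord] at h2
          exact absurd (Nat.le_of_dvd (pow_pos hpp.pos _) h2)
            (not_le.2 (Nat.pow_lt_pow_right hpp.one_lt (Nat.lt_succ_self t)))
        · rw [pow_succ', pow_mul, ← hord, pow_orderOf_eq_one]
      · show g * z * g⁻¹ ∈ zpowers y
        obtain ⟨j, rfl⟩ := mem_zpowers_iff.1 hz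
        rw [← conj_zpow]
        refine zpow_mem ?_ j
        have hNy : N ≤ zpowers y := heq ▸ zpowers_le.2 (pow_mem (mem_zpowers y) p)
        have h1 : y⁻¹ * (g * y * g⁻¹) ∈ N := by
          rw [← hqN]
          simp only [map_mul, map_inv]
          rw [mem_center_iff.1 ((hA y).1 hy).1 (q g)]
          group
        have := mul_mem (mem_zpowers y) (hNy h1)
        rwa [mul_inv_cancel_left] at this
  rw [hequiv]
  have := Fintype.ofFinite A
  rw [Nat.card_eq_fintype_card, Fintype.card_subtype_compl, ← Nat.card_eq_fintype_card,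
    ← Nat.card_eq_fintype_card]
  refine Nat.dvd_sub ?_ hker
  rw [hcardA]
  exact hker.mul_right p

theorem normal_count (hp : p ≠ 2) (hG : IsPGroup p G) (hnc : ¬ IsCyclic G) (t : ℕ) :
    p ^ (t + 2) ∣ Nat.card {x : G // orderOf x = p ^ (t + 2) ∧ (zpowers x).Normal} := by
  refine dvd_card_of_fibres (fun x => zpowers (x.1 ^ p)) fun x => ?_
  refine (normal_fibre hp hG hnc t x.1 x.2.1 x.2.2).trans (dvd_of_eq (Nat.card_congr ?_))
  exact { toFun := fun y => ⟨⟨y.1, y.2.1⟩, y.2.2⟩
          invFun := fun y => ⟨y.1.1, y.1.2, y.2⟩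
          left_inv := fun y => rfl
          right_inv := fun y => rfl }

/-- Miller: with non-cyclic Sylow `p`-subgroups, `p ^ s` divides the number of elements of order
`p ^ s`. -/
theorem count_prime_pow (hp : p ≠ 2) (P : Sylow p G) (hnc : ¬ IsCyclic (P : Subgroup G)) (t : ℕ) :
    p ^ (t + 2) ∣ Nat.card {x : G // orderOf x = p ^ (t + 2)} := by
  classical
  have hpp : p.Prime := Fact.out
  letI : MulAction P (Subgroup G) :=
    MulAction.compHom (Subgroup G) (MulAut.conj.comp (P : Subgroup G).subtype)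
  let Fx : G → Prop := fun x => ∀ g : P, g • zpowers x = zpowers x
  have := Fintype.ofFinite {x : G // orderOf x = p ^ (t + 2)}
  have hsplit : Nat.card {x : G // orderOf x = p ^ (t + 2)} =
      Nat.card {x : G // orderOf x = p ^ (t + 2) ∧ Fx x} +
      Nat.card {x : G // orderOf x = p ^ (t + 2) ∧ ¬ Fx x} := by
    rw [← Nat.card_sum]
    exact Nat.card_congr ((Equiv.sumCompl fun x : {x : G // orderOf x = p ^ (t + 2)} => Fx x.1).symm.trans
      (Equiv.sumCongr (Equiv.subtypeSubtypeEquivSubtypeInter (fun x : G => orderOf x = p ^ (t + 2)) Fx)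
        (Equiv.subtypeSubtypeEquivSubtypeInter (fun x : G => orderOf x = p ^ (t + 2)) fun x => ¬ Fx x)))
  have hsmul : ∀ (g : P) (x : G), g • zpowers x = zpowers ((g : G) * x * (g : G)⁻¹) := fun g x => by
    show MulAut.conj (g : G) • zpowers x = _
    exact MonoidHom.map_zpowers (MulAut.conj (g : G)).toMonoidHom x
  rw [hsplit]
  refine Nat.dvd_add ?_ ?_
  · -- the fixed part lies in `P`
    refine (normal_count hp P.isPGroup' hnc t).trans (dvd_of_eq (Nat.card_congr ?_))
    have hmem : ∀ x : G, orderOf x = p ^ (t + 2) → Fx x → x ∈ (P : Subgroup G) := fun x hx hF => by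
      have hn : (P : Subgroup G) ≤ normalizer (zpowers x : Set G) := fun g hg => by
        refine mem_normalizer_iff.2 fun y => ?_
        have h1 : MulAut.conj g • zpowers x = zpowers x := hF ⟨g, hg⟩
        constructor
        · intro hy
          rw [← h1]
          exact smul_mem_pointwise_smul _ _ _ hy
        · intro hy
          rw [← h1] at hy
          exact smul_mem_pointwise_smul_iff.1 hy
      have h2 : IsPGroup p ((P : Subgroup G) ⊔ zpowers x : Subgroup G) :=
        P.isPGroup'.to_sup_of_normal_right' (IsPGroup.of_card (n := t + 2) (by rw [Nat.card_zpowers, hx])) hn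
      rw [← P.is_maximal' h2 le_sup_left]
      exact mem_sup_right (mem_zpowers x)
    refine
      { toFun := fun y => ⟨(y.1 : G), by rw [Subgroup.orderOf_coe]; exact y.2.1, fun g => ?_⟩
        invFun := fun x => ⟨⟨x.1, hmem x.1 x.2.1 x.2.2⟩, by rw [← Subgroup.orderOf_coe]; exact x.2.1,
          ⟨fun z hz g => ?_⟩⟩
        left_inv := fun y => rfl
        right_inv := fun x => rfl }
    · have h1 := y.2.2.conj_mem y.1 (mem_zpowers _) g
      have h2 : zpowers (g * y.1 * g⁻¹) = zpowers y.1 := eq_of_le_of_card_ge (zpowers_le.2 h1)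
        (by rw [Nat.card_zpowers, Nat.card_zpowers]; exact (orderOf_injective (MulAut.conj g).toMonoidHom (MulAut.conj g).injective _).ge)
      rw [hsmul]
      simpa [MonoidHom.map_zpowers] using congrArg (Subgroup.map (P : Subgroup G).subtype) h2
    · obtain ⟨j, rfl⟩ := mem_zpowers_iff.1 hz
      have h1 : (g : G) * x.1 ^ j * (g : G)⁻¹ ∈ zpowers x.1 := by
        rw [← x.2.2 g, hsmul, ← conj_zpow]
        exact zpow_mem (mem_zpowers _) j
      obtain ⟨k, hk⟩ := mem_zpowers_iff.1 h1
      exact mem_zpowers_iff.2 ⟨k, Subtype.ext (by simpa using hk)⟩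
  · -- the rest falls into non-trivial orbits
    refine dvd_card_of_fibres (fun x => MulAction.orbit P (zpowers x.1)) fun x => ?_
    have hcong : Nat.card {z : {x : G // orderOf x = p ^ (t + 2) ∧ ¬ Fx x} //
        MulAction.orbit P (zpowers z.1) = MulAction.orbit P (zpowers x.1)} =
        Nat.card {y : G // zpowers y ∈ MulAction.orbit P (zpowers x.1)} := by
      refine Nat.card_congr
        { toFun := fun z => ⟨z.1.1, z.2.le (MulAction.mem_orbit_self _)⟩
          invFun := fun y => ⟨⟨y.1, ?_, ?_⟩, MulAction.orbit_eq_iff.2 y.2⟩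
          left_inv := fun z => rfl
          right_inv := fun y => rfl }
      · obtain ⟨g, hg⟩ := y.2
        rw [← Nat.card_zpowers, ← hg]
        show Nat.card ↥(g • zpowers x.1) = _
        rw [hsmul, Nat.card_zpowers]
        exact (orderOf_injective (MulAut.conj (g : G)).toMonoidHom (MulAut.conj (g : G)).injective _).trans x.2.1
      · intro hy
        obtain ⟨g, hg⟩ := y.2
        refine x.2.2 fun h => ?_
        have h1 : g • zpowers x.1 = zpowers y.1 := hg
        have h2 : zpowers x.1 = zpowers y.1 :=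
          (inv_smul_smul g (zpowers x.1)).symm.trans ((congrArg (g⁻¹ • ·) h1).trans (hy g⁻¹))
        exact (congrArg (h • ·) h2).trans ((hy h).trans h2.symm)
    rw [hcong]
    set O := MulAction.orbit P (zpowers x.1) with hO
    obtain ⟨e, he⟩ := P.isPGroup'.card_orbit (zpowers x.1) (p := p)
    have hne : e ≠ 0 := by
      rintro rfl
      rw [pow_zero, Nat.card_eq_one_iff_unique] at he
      refine x.2.2 fun g => ?_
      exact congrArg Subtype.val
        (@Subsingleton.elim _ he.1 ⟨_, MulAction.mem_orbit _ g⟩ ⟨_, MulAction.mem_orbit_self _⟩)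
    have := Fintype.ofFinite O
    have hsum : Nat.card {y : G // zpowers y ∈ O} = Nat.card O * (p ^ (t + 2)).totient := by
      rw [← Nat.card_congr (Equiv.sigmaFiberEquiv fun y : {y : G // zpowers y ∈ O} => (⟨zpowers y.1, y.2⟩ : O)),
        Nat.card_sigma, Finset.sum_const_nat (m := (p ^ (t + 2)).totient), Finset.card_univ,
        Nat.card_eq_fintype_card]
      intro C _
      obtain ⟨g, hg⟩ := C.2
      have hgx : zpowers ((g : G) * x.1 * (g : G)⁻¹) = (C : Subgroup G) := (hsmul g x.1).symm.trans hg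
      rw [← x.2.1, ← orderOf_injective (MulAut.conj (g : G)).toMonoidHom (MulAut.conj (g : G)).injective x.1]
      show _ = (orderOf ((g : G) * x.1 * (g : G)⁻¹)).totient
      rw [← card_generators]
      exact Nat.card_congr
        { toFun := fun z => ⟨z.1.1, (congrArg Subtype.val z.2).trans hgx.symm⟩
          invFun := fun y => ⟨⟨y.1, (y.2.trans hgx) ▸ C.2⟩, Subtype.ext (y.2.trans hgx)⟩
          left_inv := fun z => rfl
          right_inv := fun y => rfl }
    rw [hsum, he, Nat.totient_prime_pow hpp (by omega), ← mul_assoc, ← pow_add]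
    exact (pow_dvd_pow p (by omega)).mul_right _

/-- Let G be a finite group, p an odd prime dividing the order of G whose Sylow p-subgroups are not cyclic, and n = p^s·m with s > 1 and m coprime to p. Then the number of elements of G of order n is a multiple of p^s. -/
theorem result {G : Type*} [Group G] [Finite G] (p : ℕ) [Fact p.Prime] (hodd : p ≠ 2) (hpG : p ∣ Nat.card G)
    (P : Sylow p G) (hP : ¬ IsCyclic ↥(P : Subgroup G)) (s m : ℕ) (hs : 1 < s) (hm : Nat.Coprime p m) :
    p ^ s ∣ Nat.card {g : G // orderOf g = p ^ s * m} := by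
  classical
  obtain ⟨t, rfl⟩ : ∃ t, s = t + 2 := ⟨s - 2, by omega⟩
  have hpp : p.Prime := Fact.out
  have hcop : Nat.Coprime (p ^ (t + 2)) m := hm.pow_left _
  let Y : Type _ := (v : {v : G // orderOf v = m}) × {u : G // orderOf u = p ^ (t + 2) ∧ Commute u v.1}
  have hTY : Nat.card Y = Nat.card {g : G // orderOf g = p ^ (t + 2) * m} := by
    refine Nat.card_eq_of_bijective (fun w : Y => (⟨w.2.1 * w.1.1, by
      rw [w.2.2.2.orderOf_mul_eq_mul_orderOf_of_coprime (by rw [w.2.2.1, w.1.2]; exact hcop),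
        w.2.2.1, w.1.2]⟩ : {g : G // orderOf g = p ^ (t + 2) * m})) ⟨?_, ?_⟩
    · rintro ⟨⟨v, hv⟩, u, hu, huv⟩ ⟨⟨v', hv'⟩, u', hu', huv'⟩ h
      have h1 : u * v = u' * v' := congrArg Subtype.val h
      have h1' : v ^ p ^ (t + 2) = v' ^ p ^ (t + 2) := by
        have hpw := congrArg (· ^ p ^ (t + 2)) h1
        simp only [huv.mul_pow, huv'.mul_pow] at hpw
        rw [orderOf_dvd_iff_pow_eq_one.1 hu.dvd, orderOf_dvd_iff_pow_eq_one.1 hu'.dvd] at hpw
        simpa using hpw
      obtain ⟨a, ha⟩ := exists_pow_eq_self_of_coprime (x := v) (n := p ^ (t + 2)) (hv ▸ hcop)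
      have e1 : v ∈ zpowers v' := by
        rw [h1'] at ha
        rw [← ha]
        exact pow_mem (pow_mem (mem_zpowers v') _) a
      obtain ⟨k, hk⟩ := mem_zpowers_iff.1 e1
      have e2 : Commute v v' := by
        rw [← hk]; exact (Commute.refl v').zpow_left k
      have e3 : (v⁻¹ * v') ^ p ^ (t + 2) = 1 := by
        rw [e2.inv_left.mul_pow, inv_pow, h1', inv_mul_cancel]
      have e4 : (v⁻¹ * v') ^ m = 1 := by
        rw [e2.inv_left.mul_pow, inv_pow, orderOf_dvd_iff_pow_eq_one.1 hv.dvd,
          orderOf_dvd_iff_pow_eq_one.1 hv'.dvd, inv_one, one_mul]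
      have e5 := Nat.dvd_gcd (orderOf_dvd_of_pow_eq_one e3) (orderOf_dvd_of_pow_eq_one e4)
      rw [hcop.gcd_eq_one, Nat.dvd_one, orderOf_eq_one_iff, inv_mul_eq_one] at e5
      subst e5
      obtain rfl : u = u' := mul_right_cancel h1
      rfl
    · rintro ⟨g, hg⟩
      set n := p ^ (t + 2) with hn
      have hab : (n : ℤ) * Nat.gcdA n m + (m : ℤ) * Nat.gcdB n m = 1 := by
        have := Nat.gcd_eq_gcd_ab n m
        rw [hcop.gcd_eq_one] at this
        exact this.symm
      set u := g ^ ((m : ℤ) * Nat.gcdB n m) with hu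
      set v := g ^ ((n : ℤ) * Nat.gcdA n m) with hv
      have huv : Commute u v := (Commute.refl g).zpow_zpow _ _
      have hmul : u * v = g := by rw [hu, hv, ← zpow_add, add_comm, hab, zpow_one]
      have hg1 : g ^ ((n : ℤ) * m) = 1 := by
        rw [← Nat.cast_mul, zpow_natCast, ← hg, pow_orderOf_eq_one]
      have hu1 : orderOf u ∣ n := orderOf_dvd_of_pow_eq_one (by
        rw [hu, ← zpow_natCast, ← zpow_mul, show (m : ℤ) * Nat.gcdB n m * n = n * m * Nat.gcdB n m by ring,
          zpow_mul, hg1, one_zpow])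
      have hv1 : orderOf v ∣ m := orderOf_dvd_of_pow_eq_one (by
        rw [hv, ← zpow_natCast, ← zpow_mul, show (n : ℤ) * Nat.gcdA n m * m = n * m * Nat.gcdA n m by ring,
          zpow_mul, hg1, one_zpow])
      have hprod : orderOf u * orderOf v = n * m := by
        rw [← huv.orderOf_mul_eq_mul_orderOf_of_coprime ((hcop.coprime_dvd_left hu1).coprime_dvd_right hv1),
          hmul, hg]
      have hnm : 0 < n * m := hg ▸ orderOf_pos g
      have hu2 : orderOf u = n := by
        refine le_antisymm (Nat.le_of_dvd (Nat.pos_of_mul_pos_right hnm) hu1) (Nat.le_of_mul_le_mul_right ?_ (Nat.pos_of_mul_pos_left hnm))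
        rw [← hprod]
        exact Nat.mul_le_mul_left _ (Nat.le_of_dvd (Nat.pos_of_mul_pos_left hnm) hv1)
      have hv2 : orderOf v = m := Nat.eq_of_mul_eq_mul_left (orderOf_pos u) (by rw [hprod, hu2])
      exact ⟨⟨⟨v, hv2⟩, u, hu2, huv⟩, Subtype.ext hmul⟩
  rw [← hTY]
  refine dvd_card_of_fibres (fun w : Y => MulAction.orbit (ConjAct G) w.1.1) fun w => ?_
  set v₀ : G := w.1.1 with hv₀
  set O := MulAction.orbit (ConjAct G) v₀ with hO
  have := Fintype.ofFinite O
  let U : G → Type _ := fun v => {u : G // orderOf u = p ^ (t + 2) ∧ Commute u v}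
  have hfib : Nat.card {z : Y // MulAction.orbit (ConjAct G) z.1.1 = O} =
      Nat.card ((v : O) × U v) := by
    have hmO : ∀ v : O, orderOf (v : G) = m := fun v => by
      obtain ⟨g, hg⟩ := v.2
      rw [← hg]
      show orderOf (g • v₀) = m
      rw [ConjAct.smul_def]
      exact (orderOf_injective (MulAut.conj (ConjAct.ofConjAct g)).toMonoidHom
        (MulAut.conj (ConjAct.ofConjAct g)).injective v₀).trans w.1.2
    exact Nat.card_congr
      { toFun := fun z => ⟨⟨z.1.1.1, z.2.le (MulAction.mem_orbit_self _)⟩, z.1.2⟩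
        invFun := fun x => ⟨⟨⟨x.1.1, hmO x.1⟩, x.2⟩, MulAction.orbit_eq_iff.2 x.1.2⟩
        left_inv := fun z => rfl
        right_inv := fun x => rfl }
  rw [hfib, Nat.card_sigma, Finset.sum_const_nat (m := Nat.card (U v₀)), Finset.card_univ,
    ← Nat.card_eq_fintype_card]
  swap
  · intro v _
    obtain ⟨g, hg⟩ := v.2
    have hg' : g • v₀ = (v : G) := hg
    refine (Nat.card_congr ((MulAut.conj (ConjAct.ofConjAct g)).toEquiv.subtypeEquiv fun u => ?_)).symm
    rw [← hg', ConjAct.smul_def]
    exact and_congr (by rw [← orderOf_injective (MulAut.conj (ConjAct.ofConjAct g)).toMonoidHom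
        (MulAut.conj (ConjAct.ofConjAct g)).injective u]; rfl)
      (Commute.conj_iff (ConjAct.ofConjAct g)).symm
  set C : Subgroup G := (MulAction.stabilizer (ConjAct G) v₀).comap ConjAct.toConjAct.toMonoidHom with hC
  have hCi : Nat.card O = C.index := by
    rw [hC, Subgroup.index_comap_of_surjective _ ConjAct.toConjAct.surjective, MulAction.index_stabilizer,
      ← Nat.card_coe_set_eq]
  have hmemC : ∀ u : G, u ∈ C ↔ Commute u v₀ := fun u => by
    rw [hC, Subgroup.mem_comap, MulAction.mem_stabilizer_iff, ConjAct.smul_def, mul_inv_eq_iff_eq_mul]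
    rfl
  have hU : Nat.card (U v₀) = Nat.card {u : C // orderOf u = p ^ (t + 2)} := Nat.card_congr
    { toFun := fun u => ⟨⟨u.1, (hmemC _).2 u.2.2⟩, by rw [← Subgroup.orderOf_coe]; exact u.2.1⟩
      invFun := fun u => ⟨(u.1 : G), by rw [Subgroup.orderOf_coe]; exact u.2, (hmemC _).1 u.1.2⟩
      left_inv := fun u => rfl
      right_inv := fun u => rfl }
  rw [hU]
  by_cases hidx : p ∣ C.index
  · have h1 := totient_dvd_card (G := C) (p ^ (t + 2)) (fun _ => True) (fun _ _ _ h => h)
    simp only [and_true] at h1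
    rw [Nat.totient_prime_pow hpp (by omega)] at h1
    rw [hCi]
    refine (dvd_of_eq (show p ^ (t + 2) = p * p ^ (t + 2 - 1) by rw [← pow_succ']; congr 1)).trans ?_
    exact mul_dvd_mul hidx ((dvd_mul_right _ _).trans h1)
  · refine dvd_mul_of_dvd_right ?_ _
    let R : Sylow p C := default
    refine count_prime_pow hodd R (fun hR => hP ?_) t
    have hcard : Nat.card ((R : Subgroup C).map C.subtype) = Nat.card (P : Subgroup G) := by
      rw [Subgroup.card_map_of_injective C.subtype_injective, R.card_eq_multiplicity,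
        P.card_eq_multiplicity, ← C.card_mul_index, Nat.factorization_mul Nat.card_pos.ne'
        Subgroup.index_ne_zero_of_finite, Finsupp.add_apply,
        Nat.factorization_eq_zero_of_not_dvd hidx, add_zero]
    let R' : Sylow p G := Sylow.ofCard ((R : Subgroup C).map C.subtype) (by
      rw [hcard, P.card_eq_multiplicity])
    haveI := hR
    haveI : IsCyclic ((R : Subgroup C).map C.subtype) :=
      isCyclic_of_surjective _ ((R : Subgroup C).equivMapOfInjective _ C.subtype_injective).surjective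
    haveI : IsCyclic (R' : Subgroup G) := ‹IsCyclic ((R : Subgroup C).map C.subtype)›
    exact isCyclic_of_surjective _ (Sylow.equiv R' P).surjective

end Cfsg.Agent.S4003
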