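import Cfsg.Statements.S4005
import Cfsg.Agent.Coprime.Generation
import Cfsg.Agent.Coprime.SchurZassenhaus
import Cfsg.Agent.FixedPointFree.OrderFour
import Cfsg.Agent.Char.Integral
-- import your own Cfsg.Agent.* helpers here

set_option autoImplicit false
open Cfsg

namespace Cfsg.Agent.S4005

open Subgroup in
theorem order_cases {G : Type*} [Group G]
    (h : Set.range (orderOf : G → ℕ) = {k : ℕ | 1 ≤ k ∧ k ≤ 3}) (x : G) :
    orderOf x = 1 ∨ orderOf x = 2 ∨ orderOf x = 3 := by
  have h1 : orderOf x ∈ Set.range (orderOf : G → ℕ) := ⟨x, rfl⟩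
  rw [h] at h1
  have h2 : 1 ≤ orderOf x ∧ orderOf x ≤ 3 := h1
  omega

open Subgroup in
theorem eq_one_of_commute {G : Type*} [Group G]
    (h : Set.range (orderOf : G → ℕ) = {k : ℕ | 1 ≤ k ∧ k ≤ 3}) {x y : G} (hc : Commute x y)
    (hx : orderOf x = 2) (hy : orderOf y = 3) : False := by
  have := hc.orderOf_mul_eq_mul_orderOf_of_coprime (by rw [hx, hy]; decide)
  rw [hx, hy] at this
  rcases order_cases h (x * y) with e | e | e <;> omega

open Subgroup in
theorem pow_eq_one_of_mem {G : Type*} [Group G] [Finite G]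
    (h : Set.range (orderOf : G → ℕ) = {k : ℕ | 1 ≤ k ∧ k ≤ 3}) {p : ℕ} (hp : p = 2 ∨ p = 3)
    {H : Subgroup G} (hH : IsPGroup p H) {x : G} (hx : x ∈ H) : x ^ p = 1 := by
  obtain ⟨k, hk⟩ := hH ⟨x, hx⟩
  have hk' : orderOf x ∣ p ^ k := orderOf_dvd_of_pow_eq_one (congrArg Subtype.val hk)
  apply orderOf_dvd_iff_pow_eq_one.mp
  rcases order_cases h x with e | e | e
  · rw [e]; exact one_dvd _
  · rw [e] at hk' ⊢
    exact Nat.prime_two.dvd_of_dvd_pow hk'
  · rw [e] at hk' ⊢
    exact Nat.prime_three.dvd_of_dvd_pow hk'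

open Subgroup in
/-- If `N` is a nontrivial normal `p`-subgroup then the Sylow subgroups for the other prime `q` have
order at most `q`. -/
theorem card_sylow_le {G : Type*} [Group G] [Finite G]
    (h : Set.range (orderOf : G → ℕ) = {k : ℕ | 1 ≤ k ∧ k ≤ 3}) {p q : ℕ} [Fact p.Prime] [hq : Fact q.Prime]
    (hpq : p = 2 ∧ q = 3 ∨ p = 3 ∧ q = 2) (N : Subgroup G) [N.Normal] (hN : IsPGroup p N) (hne : N ≠ ⊥)
    (Q : Sylow q G) : Nat.card (Q : Subgroup G) ≤ q := by
  by_contra hlt
  obtain ⟨k, hk⟩ := IsPGroup.iff_card.mp Q.isPGroup'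
  have hk2 : 2 ≤ k := by
    by_contra h2
    rw [hk] at hlt
    exact hlt ((Nat.pow_le_pow_right hq.out.pos (by omega : k ≤ 1)).trans (le_of_eq (pow_one q)))
  obtain ⟨E₀, hE₀⟩ := Sylow.exists_subgroup_card_pow_prime (G := (Q : Subgroup G)) q (n := 2)
    (hk ▸ Nat.pow_dvd_pow q hk2)
  set E := E₀.map (Q : Subgroup G).subtype
  have hEQ : E ≤ (Q : Subgroup G) := map_subtype_le _
  have hE : Nat.card E = q ^ 2 := by rw [card_map_of_injective (subtype_injective _), hE₀]
  have hEp : IsPGroup q E := IsPGroup.of_card hE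
  have : IsMulCommutative E := IsPGroup.isMulCommutative_of_card_eq_prime_sq hE
  have hEq : q = 2 ∨ q = 3 := by omega
  have hnc : ¬ IsCyclic E := by
    intro hc
    obtain ⟨g, hg⟩ := hc.exists_generator
    have h1 : orderOf g = q ^ 2 := (orderOf_eq_card_of_forall_mem_zpowers hg).trans hE
    have h2 : orderOf g ∣ q := by
      rw [← Subgroup.orderOf_coe]; exact orderOf_dvd_of_pow_eq_one (pow_eq_one_of_mem h hEq hEp g.2)
    rw [h1] at h2
    have := Nat.le_of_dvd hq.out.pos h2
    have := hq.out.one_lt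
    nlinarith
  obtain ⟨n, hn⟩ := IsPGroup.iff_card.mp hN
  have hsup := Cfsg.Agent.Coprime.iSup_centralizer_eq (A := E) (K := N) hnc
    (by rw [normalizer_eq_top]; exact le_top)
    (by rw [hE, hn]; exact Nat.Coprime.pow _ _ ((Nat.coprime_primes hq.out (Fact.out : p.Prime)).mpr (by omega)))
  refine hne (hsup.symm.trans (eq_bot_iff.mpr (iSup₂_le fun a ha => ?_)))
  rintro x ⟨hxN, hxc⟩
  rw [mem_bot]
  by_contra hx1
  have hxo : orderOf x = p := orderOf_eq_prime (pow_eq_one_of_mem h (by omega) hN hxN) hx1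
  have hao : orderOf a = q := orderOf_eq_prime (pow_eq_one_of_mem h hEq hEp ha.1) ha.2
  have hc : Commute x a := mem_centralizer_singleton_iff.mp hxc
  rcases hpq with ⟨rfl, rfl⟩ | ⟨rfl, rfl⟩
  · exact eq_one_of_commute h hc hxo hao
  · exact eq_one_of_commute h hc.symm hao hxo



/-- A finite group whose set of element orders is exactly {1, 2, 3} has either a normal elementary abelian 3-subgroup of index 2 or a normal elementary abelian 2-subgroup of index 3. -/
theorem result {G : Type*} [Group G] [Finite G] (h : Set.range (orderOf : G → ℕ) = {k : ℕ | 1 ≤ k ∧ k ≤ 3}) :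
    (∃ N : Subgroup G, N.Normal ∧ Cfsg.IsElementaryAbelian 3 N ∧ N.index = 2) ∨
      (∃ N : Subgroup G, N.Normal ∧ Cfsg.IsElementaryAbelian 2 N ∧ N.index = 3) := by
  have h2F : Fact (Nat.Prime 2) := ⟨Nat.prime_two⟩
  have h3F : Fact (Nat.Prime 3) := ⟨Nat.prime_three⟩
  obtain ⟨t, ht⟩ : (2 : ℕ) ∈ Set.range (orderOf : G → ℕ) := by rw [h]; exact ⟨by norm_num, by norm_num⟩
  obtain ⟨w, hw⟩ : (3 : ℕ) ∈ Set.range (orderOf : G → ℕ) := by rw [h]; exact ⟨by norm_num, by norm_num⟩
  have : Nontrivial G := ⟨⟨t, 1, fun e => by rw [e, orderOf_one] at ht; omega⟩⟩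
  have hprimes : ∀ r : ℕ, r.Prime → r ∣ Nat.card G → r = 2 ∨ r = 3 := by
    intro r hr hd
    have := Fact.mk hr
    obtain ⟨x, hx⟩ := exists_prime_orderOf_dvd_card' r hd
    rcases order_cases h x with e | e | e
    · exact absurd (hx.symm.trans e) hr.ne_one
    · exact Or.inl (hx.symm.trans e)
    · exact Or.inr (hx.symm.trans e)
  have hcard : Nat.card G = 2 ^ (Nat.card G).factorization 2 * 3 ^ (Nat.card G).factorization 3 := by
    conv_lhs => rw [← Nat.prod_factorization_pow_eq_self (Nat.card_pos (α := G)).ne']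
    rw [Finsupp.prod_of_support_subset _ (s := {2, 3}) ?_ _ (by simp), Finset.prod_pair (by norm_num)]
    intro r hr
    rw [Nat.support_factorization] at hr
    rcases hprimes r (Nat.prime_of_mem_primeFactors hr) (Nat.dvd_of_mem_primeFactors hr) with rfl | rfl <;> simp
  have hsol : Group.IsSolvable G :=
    Cfsg.Agent.Char.isSolvable_of_card_eq 2 3 Nat.prime_two Nat.prime_three _ G rfl ⟨_, _, hcard⟩
  obtain ⟨p, hp, N, hNn, hNp, hNne⟩ := Cfsg.Agent.Coprime.exists_normal_isPGroup (G := G)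
  have := hNn
  have hp23 : p = 2 ∨ p = 3 := by
    have := Fact.mk hp
    refine hprimes p hp (dvd_trans ?_ (Subgroup.card_subgroup_dvd_card N))
    exact (hNp.card_eq_or_dvd).resolve_left fun e => hNne (Subgroup.card_eq_one.mp e)
  rcases hp23 with rfl | rfl
  · right
    obtain ⟨Q⟩ : Nonempty (Sylow 3 G) := inferInstance
    obtain ⟨P⟩ : Nonempty (Sylow 2 G) := inferInstance
    have hQ := card_sylow_le h (Or.inl ⟨rfl, rfl⟩) N hNp hNne Q
    have hQ3 : Nat.card (Q : Subgroup G) = 3 := by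
      have hd : 3 ∣ Nat.card (Q : Subgroup G) :=
        Q.dvd_card_of_dvd_card (hw ▸ orderOf_dvd_natCard w)
      exact le_antisymm hQ (Nat.le_of_dvd Nat.card_pos hd)
    have hP2 : ∀ x ∈ (P : Subgroup G), x ^ 2 = 1 := fun x hx => pow_eq_one_of_mem h (Or.inl rfl) P.isPGroup' hx
    have hPab : IsMulCommutative (P : Subgroup G) := by
      refine ⟨⟨fun a b => ?_⟩⟩
      have hsq : ∀ c : (P : Subgroup G), c⁻¹ = c := fun c => by
        rw [inv_eq_iff_mul_eq_one, ← pow_two]; exact Subtype.ext (hP2 c c.2)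
      calc a * b = (a * b)⁻¹ := (hsq _).symm
        _ = b * a := by rw [mul_inv_rev, hsq, hsq]
    have hNP : N ≤ (P : Subgroup G) := hNp.le_sylow_of_normal P
    set C := Subgroup.centralizer (N : Set G) with hCdef
    have hC2 : IsPGroup 2 C := by
      intro x
      refine ⟨1, Subtype.ext ?_⟩
      show (x : G) ^ 2 ^ 1 = 1
      rw [pow_one]
      rcases order_cases h (x : G) with e | e | e
      · rw [orderOf_eq_one_iff.mp e, one_pow]
      · exact e ▸ pow_orderOf_eq_one _
      · exfalso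
        have := (Subgroup.nontrivial_iff_ne_bot N).mpr hNne
        obtain ⟨⟨n, hn⟩, hn1⟩ := exists_ne (1 : N)
        have hno : orderOf n = 2 := orderOf_eq_prime (pow_eq_one_of_mem h (Or.inl rfl) hNp hn)
          (fun e1 => hn1 (Subtype.ext e1))
        exact eq_one_of_commute h (Subgroup.mem_centralizer_iff.mp x.2 n hn) hno e
    have hPC : (P : Subgroup G) = C :=
      P.3 hC2 (fun x hx => Subgroup.mem_centralizer_iff.mpr fun y hy =>
        congrArg Subtype.val (hPab.is_comm.comm (⟨y, hNP hy⟩ : (P : Subgroup G)) ⟨x, hx⟩)) |>.symm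
    refine ⟨(P : Subgroup G), ?_, ⟨hPab, hP2⟩, ?_⟩
    · rw [hPC]; infer_instance
    · have h1 := Subgroup.card_mul_index (P : Subgroup G)
      rw [Sylow.card_eq_multiplicity] at h1 hQ3
      have h4 := hcard
      rw [hQ3] at h4
      exact Nat.eq_of_mul_eq_mul_left (pow_pos (by norm_num) _) (h1.trans h4)
  · left
    obtain ⟨P⟩ : Nonempty (Sylow 2 G) := inferInstance
    obtain ⟨Q⟩ : Nonempty (Sylow 3 G) := inferInstance
    have hP := card_sylow_le h (Or.inr ⟨rfl, rfl⟩) N hNp hNne P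
    have hP2 : Nat.card (P : Subgroup G) = 2 := by
      have hd : 2 ∣ Nat.card (P : Subgroup G) :=
        P.dvd_card_of_dvd_card (ht ▸ orderOf_dvd_natCard t)
      exact le_antisymm hP (Nat.le_of_dvd Nat.card_pos hd)
    have hidx : (Q : Subgroup G).index = 2 := by
      have h1 := Subgroup.card_mul_index (Q : Subgroup G)
      rw [Sylow.card_eq_multiplicity] at h1 hP2
      have h4 := hcard
      rw [hP2, mul_comm 2] at h4
      exact Nat.eq_of_mul_eq_mul_left (pow_pos (by norm_num) _) (h1.trans h4)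
    have hQn : (Q : Subgroup G).Normal := Subgroup.normal_of_index_eq_two hidx
    have hQ3 : ∀ x ∈ (Q : Subgroup G), x ^ 3 = 1 := fun x hx => pow_eq_one_of_mem h (Or.inr rfl) Q.isPGroup' hx
    refine ⟨(Q : Subgroup G), hQn, ⟨?_, hQ3⟩, hidx⟩
    have htn : t ∈ Subgroup.normalizer ((Q : Subgroup G) : Set G) := by
      rw [Subgroup.normalizer_eq_top]; exact Subgroup.mem_top t
    refine Cfsg.Agent.FixedPointFree.isMulCommutative_of_involutive
      ((Q : Subgroup G).normalizerMonoidHom ⟨t, htn⟩) (fun x hx => ?_) (fun x => ?_)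
    · by_contra hx1
      have hxo : orderOf (x : G) = 3 := orderOf_eq_prime (hQ3 x x.2) (fun e => hx1 (Subtype.ext e))
      have hx' : t * (x : G) * t⁻¹ = x := congrArg Subtype.val hx
      exact eq_one_of_commute h (show t * (x : G) = x * t by
        calc t * (x : G) = t * x * t⁻¹ * t := by group
          _ = x * t := by rw [hx']) ht hxo
    · apply Subtype.ext
      show t * (t * (x : G) * t⁻¹) * t⁻¹ = x
      have htt : t * t = 1 := by rw [← pow_two, ← ht, pow_orderOf_eq_one]
      calc t * (t * (x : G) * t⁻¹) * t⁻¹ = (t * t) * x * (t * t)⁻¹ := by group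
        _ = x := by rw [htt]; group

end Cfsg.Agent.S4005
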