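import Cfsg.Statements.S4013

set_option autoImplicit false
open Cfsg

namespace Cfsg.Agent.S4013

/-- Let G be a finite p-group (p prime) and N < M normal subgroups of G such that for some g ∈ M ∖ N the conjugacy class of g is exactly M ∖ N. Then p = 2 and N has index 2 in M. -/
theorem result {G : Type*} [Group G] [Finite G] (p : ℕ) [Fact p.Prime] (hG : IsPGroup p G) (N M : Subgroup G) [N.Normal] [M.Normal] (hNM : N < M) (g : G) (hgM : g ∈ M) (hgN : g ∉ N) (hcl : {h : G | IsConj g h} = (M : Set G) \ (N : Set G)) : p = 2 ∧ N.relIndex M = 2 := by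
  obtain ⟨i, hi⟩ := IsPGroup.iff_card.1 hG
  have hp : p.Prime := Fact.out
  obtain ⟨j, -, hj⟩ := (Nat.dvd_prime_pow hp).1
    (hi ▸ (Subgroup.centralizer ({g} : Set G)).index_dvd_card)
  have hcard : Nat.card {h : G | IsConj g h} = p ^ j := by
    have h1 : MulAction.orbit (ConjAct G) g = {h : G | IsConj g h} := by
      ext h
      rw [ConjAct.mem_orbit_conjAct, Set.mem_setOf_eq]
      exact ⟨fun e => e.symm, fun e => e.symm⟩
    rw [← h1, Nat.card_coe_set_eq, ← MulAction.index_stabilizer]
    show (MulAction.stabilizer (ConjAct G) g).index = p ^ j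
    rw [ConjAct.stabilizer_eq_centralizer g]
    exact hj
  rw [hcl] at hcard
  have hdiff : Nat.card N + p ^ j = Nat.card M := by
    rw [← hcard, Nat.card_coe_set_eq, ← SetLike.coe_sort_coe N, ← SetLike.coe_sort_coe M,
      Nat.card_coe_set_eq, Nat.card_coe_set_eq, add_comm]
    exact Set.ncard_diff_add_ncard_of_subset (s := (N : Set G)) (t := (M : Set G)) hNM.le
      (Set.toFinite _)
  have hmul : Nat.card N * N.relIndex M = Nat.card M := by
    rw [← Subgroup.relIndex_bot_left, ← Subgroup.relIndex_bot_left,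
      Subgroup.relIndex_mul_relIndex _ _ _ bot_le hNM.le]
  obtain ⟨a, -, ha⟩ := (Nat.dvd_prime_pow hp).1
    (hi ▸ (Subgroup.relIndex_dvd_card N M).trans (Subgroup.card_subgroup_dvd_card M))
  have hr1 : N.relIndex M ≠ 1 := fun e => hNM.not_ge (Subgroup.relIndex_eq_one.1 e)
  obtain ⟨r, hr⟩ : ∃ r, N.relIndex M = r + 1 :=
    ⟨N.relIndex M - 1, by
      have : 0 < N.relIndex M := ha ▸ pow_pos hp.pos a
      omega⟩
  have hrj : Nat.card N * r = p ^ j := by
    rw [hr, mul_add, mul_one] at hmul
    omega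
  obtain ⟨b, -, hb⟩ := (Nat.dvd_prime_pow hp).1 (Dvd.intro_left _ hrj)
  have hr' : r = 1 := by
    rcases Nat.eq_zero_or_pos b with rfl | hbp
    · simpa using hb
    · exfalso
      have h1 : p ∣ r := hb ▸ dvd_pow_self p hbp.ne'
      have h2 : p ∣ r + 1 := by
        rw [← hr, ha]
        refine dvd_pow_self p ?_
        rintro rfl
        exact hr1 (by simpa using ha)
      exact hp.one_lt.not_ge (Nat.le_of_dvd one_pos ((Nat.dvd_add_right h1).1 h2))
  have h2 : N.relIndex M = 2 := by omega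
  refine ⟨?_, h2⟩
  rw [h2] at ha
  have ha0 : a ≠ 0 := by
    rintro rfl
    simp at ha
  exact ((Nat.prime_dvd_prime_iff_eq hp Nat.prime_two).1 (ha ▸ dvd_pow_self p ha0))

end Cfsg.Agent.S4013
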