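import Cfsg.Statements.S4014
import Mathlib.GroupTheory.RegularWreathProduct
import Cfsg.Agent.Core.Frattini

set_option autoImplicit false
open Cfsg

namespace Cfsg.Agent.S4014

open Subgroup MulAction
open scoped commutatorElement

/-- A derived subgroup lies in the image of the derived series of a subgroup containing the first. -/
theorem derived_succ_le {P : Type*} [Group P] (M : Subgroup P) (h : commutator P ≤ M) :
    ∀ k : ℕ, derivedSeries P (k + 1) ≤ (derivedSeries M k).map M.subtype
  | 0 => by
    rw [derivedSeries_zero, ← MonoidHom.range_eq_map, range_subtype]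
    exact h
  | k + 1 => by
    rw [derivedSeries_succ P (k + 1), derivedSeries_succ M k, map_commutator]
    exact commutator_mono (derived_succ_le M h k) (derived_succ_le M h k)

/-- Short orbits give a short derived series. -/
theorem derived_fixes {p : ℕ} [hp : Fact p.Prime] {α : Type*} [Finite α] :
    ∀ (k : ℕ) {P : Type*} [Group P] [Finite P] [MulAction P α] (_ : IsPGroup p P) (x : α),
      Nat.card (orbit P x) < p ^ (k + 1) → derivedSeries P k ≤ stabilizer P x := by
  intro k
  induction k with
  | zero =>
    intro P _ _ _ hP x hx g _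
    obtain ⟨a, ha⟩ := hP.card_orbit x
    have h1 : Nat.card (orbit P x) = 1 := by
      rcases Nat.eq_zero_or_pos a with rfl | ha0
      · rw [ha, pow_zero]
      · have := Nat.le_self_pow ha0.ne' p
        rw [zero_add, pow_one] at hx
        omega
    have := (Nat.card_eq_one_iff_unique.1 h1).1
    exact congrArg Subtype.val (Subsingleton.elim (⟨g • x, mem_orbit x g⟩ : orbit P x) ⟨x, mem_orbit_self x⟩)
  | succ k ih =>
    intro P _ _ _ hP x hx
    rcases eq_top_or_exists_le_coatom (stabilizer P x) with h | ⟨M, hM, hle⟩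
    · rw [h]; exact le_top
    obtain ⟨hMn, hMi⟩ := Core.index_eq_of_isCoatom hP hM
    haveI := hP.isNilpotent
    have hcomm : commutator P ≤ M := Core.commutator_le_frattini.trans (frattini_le_coatom hM)
    have hst : stabilizer M x = (stabilizer P x).subgroupOf M := by
      ext g; rfl
    have horb : Nat.card (orbit M x) * p = Nat.card (orbit P x) := by
      rw [Nat.card_coe_set_eq, Nat.card_coe_set_eq, ← index_stabilizer, ← index_stabilizer, hst,
        ← hMi]
      exact relIndex_mul_index hle
    have h1 : Nat.card (orbit M x) < p ^ (k + 1) := by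
      rw [pow_succ p (k + 1), ← horb] at hx
      exact Nat.lt_of_mul_lt_mul_right hx
    refine (derived_succ_le M hcomm k).trans ?_
    rintro _ ⟨g, hg, rfl⟩
    exact ih (hP.to_subgroup M) x h1 hg

/-- A regular wreath product has longer derived series. -/
theorem wreath_derived {D Q : Type*} [Group D] [Group Q] {t : Q} (ht : t ≠ 1) :
    ∀ j : ℕ, ∀ d ∈ derivedSeries D j,
      ∃ w ∈ derivedSeries (D ≀ᵣ Q) (j + 1), w.right = 1 ∧ w.left 1 = d := by
  classical
  intro j
  induction j with
  | zero =>
    intro d _
    let b : D ≀ᵣ Q := ⟨Pi.mulSingle 1 d, 1⟩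
    refine ⟨⁅b, RegularWreathProduct.inl t⁆, ?_, ?_, ?_⟩
    · rw [derivedSeries_succ, derivedSeries_zero]
      exact commutator_mem_commutator (mem_top _) (mem_top _)
    · simp [b, commutatorElement_def]
    · have h1 : (Pi.mulSingle (1 : Q) d : Q → D) t⁻¹ = 1 :=
        by simp [Pi.mulSingle_apply, ht]
      simp [b, commutatorElement_def, h1]
  | succ j ih =>
    intro d hd
    let S : Subgroup D :=
      { carrier := {d | ∃ w ∈ derivedSeries (D ≀ᵣ Q) (j + 1 + 1), w.right = 1 ∧ w.left 1 = d}
        one_mem' := ⟨1, one_mem _, rfl, rfl⟩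
        mul_mem' := by
          rintro a b ⟨u, hu, hur, rfl⟩ ⟨v, hv, hvr, rfl⟩
          exact ⟨u * v, mul_mem hu hv, by simp [hur, hvr], by simp [hur]⟩
        inv_mem' := by
          rintro a ⟨u, hu, hur, rfl⟩
          exact ⟨u⁻¹, inv_mem hu, by simp [hur], by simp [hur]⟩ }
    suffices derivedSeries D (j + 1) ≤ S from this hd
    rw [derivedSeries_succ, commutator_le]
    intro a ha b hb
    obtain ⟨u, hu, hur, rfl⟩ := ih a ha
    obtain ⟨v, hv, hvr, rfl⟩ := ih b hb
    refine ⟨⁅u, v⁆, ?_, by simp [commutatorElement_def, hur, hvr],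
      by simp [commutatorElement_def, hur, hvr]⟩
    rw [derivedSeries_succ _ (j + 1)]
    exact commutator_mem_commutator hu hv

/-- The iterated wreath product has derived length at least its number of factors. -/
theorem iterated_derived {Q : Type} [Group Q] [Nontrivial Q] :
    ∀ j : ℕ, ∃ w ∈ derivedSeries (IteratedWreathProduct Q (j + 1)) j, w ≠ 1
  | 0 => by
    obtain ⟨t, ht⟩ := exists_ne (1 : Q)
    exact ⟨(RegularWreathProduct.inl t : IteratedWreathProduct Q 0 ≀ᵣ Q), mem_top _,
      fun e => ht (congrArg RegularWreathProduct.right e)⟩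
  | j + 1 => by
    obtain ⟨t, ht⟩ := exists_ne (1 : Q)
    obtain ⟨d, hd, hd1⟩ := iterated_derived (Q := Q) j
    obtain ⟨w, hw, -, hw1⟩ := wreath_derived (D := IteratedWreathProduct Q (j + 1)) ht j d hd
    exact ⟨w, hw, fun e => hd1 (hw1.symm.trans (congrFun (congrArg RegularWreathProduct.left e) 1))⟩

/-- Let p be a prime, n ≥ 1, and P a Sylow p-subgroup of the symmetric group on n letters. Then the derived length of P is exactly k = ⌊log_p n⌋ (the largest k with p^k ≤ n): the k-th derived subgroup of P is trivial and, when k ≥ 1, the (k−1)-st is not. -/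
theorem result (p : ℕ) [Fact p.Prime] (n : ℕ) (hn : 1 ≤ n) (P : Sylow p (Equiv.Perm (Fin n))) : derivedSeries ↥(P : Subgroup (Equiv.Perm (Fin n))) (Nat.log p n) = ⊥ ∧ (1 ≤ Nat.log p n → derivedSeries ↥(P : Subgroup (Equiv.Perm (Fin n))) (Nat.log p n - 1) ≠ ⊥) := by
  classical
  have hp : p.Prime := Fact.out
  constructor
  · rw [eq_bot_iff]
    intro g hg
    refine Subgroup.mem_bot.2 (Subtype.ext (Equiv.ext fun x => ?_))
    refine derived_fixes (α := Fin n) (Nat.log p n) P.isPGroup' x ?_ hg
    refine lt_of_le_of_lt ?_ (Nat.lt_pow_succ_log_self hp.one_lt n)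
    exact (Nat.card_le_card_of_injective _ Subtype.val_injective).trans (by rw [Nat.card_fin])
  · intro hk
    obtain ⟨j, hj⟩ := Nat.exists_eq_add_of_le' hk
    rw [hj, Nat.add_sub_cancel]
    let Q := Multiplicative (ZMod p)
    haveI : Nontrivial Q := inferInstanceAs (Nontrivial (Multiplicative (ZMod p)))
    have hQ : Nat.card Q = p := (Nat.card_congr Multiplicative.toAdd).trans (Nat.card_zmod p)
    obtain ⟨ι⟩ : Nonempty ((Fin (j + 1) → Q) ↪ Fin n) := by
      refine Function.Embedding.nonempty_of_card_le ?_
      rw [Fintype.card_fin, Fintype.card_fun, Fintype.card_fin, ← Nat.card_eq_fintype_card, hQ, ← hj]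
      exact Nat.pow_log_le_self p (by omega)
    let f : IteratedWreathProduct Q (j + 1) →* Equiv.Perm (Fin n) :=
      (Equiv.Perm.extendDomainHom (Equiv.ofInjective ι ι.injective)).comp
        (iteratedWreathToPermHom Q (j + 1))
    have hf : Function.Injective f :=
      (Equiv.Perm.extendDomainHom_injective _).comp (iteratedWreathToPermHomInj Q (j + 1))
    have hfp : IsPGroup p f.range := by
      refine IsPGroup.of_card (n := ∑ i ∈ Finset.range (j + 1), p ^ i) ?_
      rw [← Nat.card_congr (MonoidHom.ofInjective hf).toEquiv, IteratedWreathProduct.card, hQ]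
    obtain ⟨R, hR⟩ := hfp.exists_le_sylow
    obtain ⟨w, hw, hw1⟩ := iterated_derived (Q := Q) j
    let g : IteratedWreathProduct Q (j + 1) →* ↥(P : Subgroup (Equiv.Perm (Fin n))) :=
      (R.equiv P).toMonoidHom.comp (f.codRestrict (R : Subgroup (Equiv.Perm (Fin n))) fun x => hR ⟨x, rfl⟩)
    have hg : Function.Injective g :=
      (R.equiv P).injective.comp fun a b e => hf (congrArg Subtype.val e)
    intro hbot
    have hmem := map_derivedSeries_le_derivedSeries g j (Subgroup.mem_map_of_mem g hw)
    rw [hbot, Subgroup.mem_bot] at hmem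
    exact hw1 (hg (hmem.trans (map_one g).symm))

end Cfsg.Agent.S4014
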