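import Mathlib
import Cfsg.Statements.S4016

set_option autoImplicit false
set_option linter.style.haveILetI false
set_option linter.unusedSimpArgs false
open Cfsg

namespace Cfsg.Agent.S4016

universe u

/-! ### A regular graph in which two distinct vertices have exactly one common neighbour -/

theorem no_regular_friendship {V : Type*} [Fintype V] [DecidableEq V]
    (adj : V → V → Prop) [DecidableRel adj] (k : ℕ) (hk : 3 ≤ k)
    (hsymm : ∀ v w, adj v w → adj w v) (hirr : ∀ v, ¬ adj v v)
    (hreg : ∀ v, (Finset.univ.filter fun w => adj v w).card = k)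
    (hfr : ∀ v w, v ≠ w → ∃! u, adj v u ∧ adj u w) (v0 : V) : False := by
  classical
  obtain ⟨q, hq, hqk⟩ := Nat.exists_prime_and_dvd (n := k - 1) (by omega)
  haveI : Fact q.Prime := ⟨hq⟩
  have hk1 : (k : ZMod q) = 1 := by
    have h0 : ((k - 1 : ℕ) : ZMod q) = 0 := (ZMod.natCast_eq_zero_iff _ _).mpr hqk
    rw [Nat.cast_sub (by omega)] at h0
    simpa [sub_eq_zero] using h0
  let A : Matrix V V (ZMod q) := Matrix.of fun v w => if adj v w then 1 else 0
  let J : Matrix V V (ZMod q) := Matrix.of fun _ _ => 1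
  have hAA : A * A = J := by
    ext v w
    simp only [Matrix.mul_apply, A, J, Matrix.of_apply]
    have : ∀ u, ((if adj v u then (1 : ZMod q) else 0) * if adj u w then 1 else 0)
        = if adj v u ∧ adj u w then 1 else 0 := by
      intro u
      by_cases h1 : adj v u <;> by_cases h2 : adj u w <;> simp [h1, h2]
    simp only [this, Finset.sum_boole]
    by_cases hvw : v = w
    · subst hvw
      have : (Finset.univ.filter fun u => adj v u ∧ adj u v)
          = Finset.univ.filter fun u => adj v u := by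
        ext u
        simp only [Finset.mem_filter, Finset.mem_univ, true_and]
        exact ⟨fun h => h.1, fun h => ⟨h, hsymm _ _ h⟩⟩
      rw [this, hreg, hk1]
    · obtain ⟨u, hu, huniq⟩ := hfr v w hvw
      have : (Finset.univ.filter fun u => adj v u ∧ adj u w) = {u} := by
        ext u'
        simp only [Finset.mem_filter, Finset.mem_univ, true_and, Finset.mem_singleton]
        exact ⟨fun h => huniq u' h, fun h => h ▸ hu⟩
      rw [this]
      simp
  have hAJ : A * J = J := by
    ext v w
    simp only [Matrix.mul_apply, A, J, Matrix.of_apply, mul_one, Finset.sum_boole]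
    rw [hreg, hk1]
  have hpow : ∀ n : ℕ, A ^ (n + 2) = J := by
    intro n
    induction n with
    | zero => rw [pow_two]; exact hAA
    | succ n ih => rw [pow_succ', ih, hAJ]
  have hcard : (Fintype.card V : ZMod q) = 1 := by
    have h4 : J * J = J := by
      calc J * J = A * A * J := by rw [hAA]
        _ = J := by rw [Matrix.mul_assoc, hAJ, hAJ]
    have h5 := congrFun (congrFun h4 v0) v0
    simpa [Matrix.mul_apply, J, Matrix.of_apply] using h5
  obtain ⟨j, rfl⟩ : ∃ j, q = j + 2 := ⟨q - 2, by have := hq.two_le; omega⟩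
  have ht := ZMod.trace_pow_card A
  rw [hpow j] at ht
  have hJ : Matrix.trace J = (Fintype.card V : ZMod (j + 2)) := by
    simp [Matrix.trace, Matrix.diag, J]
  have hA : Matrix.trace A = 0 := by
    simp [Matrix.trace, Matrix.diag, A, hirr]
  rw [hJ, hA, hcard, zero_pow (by omega)] at ht
  exact one_ne_zero ht

/-! ### Generalities -/

theorem mem_of_pow_mem_of_coprime {G : Type*} [Group G] (L : Subgroup G) (g : G) (n : ℕ)
    (hn : (orderOf g).Coprime n) (h : g ^ n ∈ L) : g ∈ L := by
  have hc : IsCoprime (n : ℤ) (orderOf g : ℤ) :=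
    Int.isCoprime_iff_nat_coprime.mpr (by simpa using hn.symm)
  obtain ⟨a, b, hab⟩ := hc
  have : g = (g ^ n) ^ a := by
    have h1 : g ^ ((a * n + b * orderOf g : ℤ)) = g := by rw [hab, zpow_one]
    rw [zpow_add, mul_comm a, mul_comm b, zpow_mul, zpow_mul, zpow_natCast, zpow_natCast,
      pow_orderOf_eq_one, one_zpow, mul_one] at h1
    exact h1.symm
  rw [this]
  exact L.zpow_mem h a

theorem mem_normal_of_coprime_index {G : Type*} [Group G] (L : Subgroup G) [L.Normal] (g : G)
    (h : (orderOf g).Coprime L.index) : g ∈ L :=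
  mem_of_pow_mem_of_coprime L g L.index h (L.pow_index_mem g)

theorem not_dvd_card_sup {G : Type*} [Group G] [Finite G] {p : ℕ} [Fact p.Prime]
    (K L : Subgroup G) [K.Normal] (hK : ¬ p ∣ Nat.card K) (hL : ¬ p ∣ Nat.card L) :
    ¬ p ∣ Nat.card (K ⊔ L : Subgroup G) := by
  intro hd
  obtain ⟨x, hx⟩ := exists_prime_orderOf_dvd_card' (G := (K ⊔ L : Subgroup G)) p hd
  obtain ⟨k, hk, l, hl, hkl⟩ := Subgroup.mem_sup_of_normal_left.mp x.2
  have hxo : orderOf (x : G) = p := by rw [Subgroup.orderOf_coe]; exact hx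
  have hpl : ¬ p ∣ orderOf l := fun h => hL (h.trans (Subgroup.orderOf_dvd_natCard L hl))
  have hmem : (x : G) ^ orderOf l ∈ K := by
    rw [← QuotientGroup.eq_one_iff, QuotientGroup.mk_pow, ← hkl, QuotientGroup.mk_mul,
      (QuotientGroup.eq_one_iff k).mpr hk, one_mul, ← QuotientGroup.mk_pow, pow_orderOf_eq_one,
      QuotientGroup.mk_one]
  have hxK : (x : G) ∈ K := by
    refine mem_of_pow_mem_of_coprime K _ _ ?_ hmem
    rw [hxo]
    exact ((Fact.out : p.Prime).coprime_iff_not_dvd).mpr hpl
  exact hK (hxo ▸ Subgroup.orderOf_dvd_natCard K hxK)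

theorem isPGroup_zpowers {G : Type*} [Group G] {p : ℕ} [Fact p.Prime] (y : G) (k : ℕ)
    (hy : y ^ p ^ k = 1) : IsPGroup p (Subgroup.zpowers y) := by
  intro z
  refine ⟨k, ?_⟩
  obtain ⟨i, hi⟩ := Subgroup.mem_zpowers_iff.mp z.2
  ext
  rw [Subgroup.coe_pow, Subgroup.coe_one, ← hi, ← zpow_natCast, ← zpow_mul, mul_comm, zpow_mul,
    zpow_natCast, hy, one_zpow]

section Cyclic

variable {G : Type*} [Group G] [Finite G] {p : ℕ} [Fact p.Prime] (P : Sylow p G)

theorem mem_sylow_of_mem_normalizer {y : G}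
    (hy : y ∈ Subgroup.normalizer ((P : Subgroup G) : Set G)) (k : ℕ) (hk : y ^ p ^ k = 1) :
    y ∈ (P : Subgroup G) := by
  have h := IsPGroup.inf_normalizer_sylow (isPGroup_zpowers y k hk) P
  have hy' : y ∈ Subgroup.zpowers y ⊓ Subgroup.normalizer ((P : Subgroup G) : Set G) :=
    ⟨Subgroup.mem_zpowers y, hy⟩
  exact (h.le hy').2

omit [Finite G] [Fact p.Prime] in
theorem cyclic_comm (hcyc : IsCyclic P) {a b : G} (ha : a ∈ (P : Subgroup G))
    (hb : b ∈ (P : Subgroup G)) : a * b = b * a := by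
  have hcomm : IsMulCommutative (P : Subgroup G) := ⟨⟨fun x y => by
    haveI := hcyc
    exact IsCyclic.commGroup.mul_comm x y⟩⟩
  exact congrArg Subtype.val (hcomm.is_comm.comm ⟨a, ha⟩ ⟨b, hb⟩)

omit [Finite G] [Fact p.Prime] in
theorem sylow_conj_eq_zpow (hcyc : IsCyclic P) {n : G}
    (hn : n ∈ Subgroup.normalizer ((P : Subgroup G) : Set G)) :
    ∃ r : ℤ, ∀ x ∈ (P : Subgroup G), n * x * n⁻¹ = x ^ r := by
  haveI := hcyc
  let σ : (P : Subgroup G) →* (P : Subgroup G) :=
    { toFun := fun x => ⟨n * x * n⁻¹, (Subgroup.mem_normalizer_iff.mp hn x).mp x.2⟩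
      map_one' := by ext; simp
      map_mul' := fun x y => by ext; simp [mul_assoc] }
  obtain ⟨r, hr⟩ := MonoidHom.map_cyclic σ
  exact ⟨r, fun x hx => by simpa [σ] using congrArg Subtype.val (hr ⟨x, hx⟩)⟩

theorem orderOf_mem_sylow {x : G} (hx : x ∈ (P : Subgroup G)) : ∃ a, orderOf x = p ^ a := by
  obtain ⟨j, hj⟩ := IsPGroup.iff_card.mp P.isPGroup'
  obtain ⟨a, -, ha⟩ := (Nat.dvd_prime_pow Fact.out).mp
    (hj ▸ Subgroup.orderOf_dvd_natCard (P : Subgroup G) hx : orderOf x ∣ p ^ j)
  exact ⟨a, ha⟩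

theorem prime_dvd_orderOf {x : G} (hx : x ∈ (P : Subgroup G)) (hx1 : x ≠ 1) : p ∣ orderOf x := by
  obtain ⟨a, ha⟩ := orderOf_mem_sylow P hx
  rcases a with _ | a
  · exact absurd (orderOf_eq_one_iff.mp (by simpa using ha)) hx1
  · exact ha ▸ dvd_pow_self p (Nat.succ_ne_zero a)

theorem cent_of_fix (hcyc : IsCyclic P) {n : G}
    (hn : n ∈ Subgroup.normalizer ((P : Subgroup G) : Set G)) (hno : ¬ p ∣ orderOf n)
    {x : G} (hx : x ∈ (P : Subgroup G)) (hx1 : x ≠ 1) (hfix : n * x = x * n)
    {y : G} (hy : y ∈ (P : Subgroup G)) : n * y = y * n := by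
  obtain ⟨r, hr⟩ := sylow_conj_eq_zpow P hcyc hn
  have h1 : x ^ (r - 1) = 1 := by
    rw [zpow_sub_one, ← hr x hx, hfix]
    simp [mul_assoc]
  have hpr : (p : ℤ) ∣ r - 1 :=
    (Int.natCast_dvd_natCast.mpr (prime_dvd_orderOf P hx hx1)).trans
      (orderOf_dvd_iff_zpow_eq_one.mpr h1)
  have hiter : ∀ i : ℕ, n ^ i * y * (n ^ i)⁻¹ = y ^ (r ^ i) := by
    intro i
    induction i with
    | zero => simp
    | succ i ih =>
      have : n ^ (i + 1) * y * (n ^ (i + 1))⁻¹ = n * (n ^ i * y * (n ^ i)⁻¹) * n⁻¹ := by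
        rw [pow_succ', mul_inv_rev]; group
      rw [this, ih, hr _ ((P : Subgroup G).zpow_mem hy _), ← zpow_mul, pow_succ]
  have h2 : y ^ (r ^ orderOf n - 1) = 1 := by
    rw [zpow_sub_one, ← hiter, pow_orderOf_eq_one]
    simp
  obtain ⟨a, ha⟩ := orderOf_mem_sylow P hy
  have h3 : (orderOf y : ℤ) ∣ (∑ i ∈ Finset.range (orderOf n), r ^ i) * (r - 1) := by
    rw [geom_sum_mul]
    exact orderOf_dvd_iff_zpow_eq_one.mpr h2
  have h4 : IsCoprime (orderOf y : ℤ) (∑ i ∈ Finset.range (orderOf n), r ^ i) := by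
    rw [ha, Nat.cast_pow]
    apply IsCoprime.pow_left
    rw [(Nat.prime_iff_prime_int.mp (Fact.out : p.Prime)).coprime_iff_not_dvd]
    intro hd
    apply hno
    rw [← ZMod.natCast_eq_zero_iff]
    have hr1 : (r : ZMod p) = 1 := by
      have := (ZMod.intCast_zmod_eq_zero_iff_dvd (r - 1) p).mpr hpr
      simpa [sub_eq_zero] using this
    have := (ZMod.intCast_zmod_eq_zero_iff_dvd _ p).mpr hd
    simpa [hr1] using this
  have h5 : y ^ (r - 1) = 1 := orderOf_dvd_iff_zpow_eq_one.mp (h4.dvd_of_dvd_mul_left h3)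
  have h6 : y ^ r = y := by
    rw [zpow_sub_one] at h5
    exact mul_inv_eq_one.mp h5
  have := hr y hy
  rw [h6, mul_inv_eq_iff_eq_mul] at this
  exact this

end Cyclic

/-! ### The configuration that remains after the reductions is impossible -/

set_option maxHeartbeats 4000000 in
theorem final_contradiction {G : Type*} [Group G] [Finite G] {p : ℕ} [hpF : Fact p.Prime]
    (P : Sylow p G) (hcyc : IsCyclic P)
    (hab : ∀ H : Subgroup G, ¬ p ∣ Nat.card H → IsMulCommutative H)
    (H : Subgroup G) (hHN : H ≤ Subgroup.normalizer ((P : Subgroup G) : Set G))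
    (hdec : ∀ g ∈ Subgroup.normalizer ((P : Subgroup G) : Set G),
      ∃ a ∈ (P : Subgroup G), ∃ h ∈ H, g = a * h)
    (hNcard : Nat.card (Subgroup.normalizer ((P : Subgroup G) : Set G))
      = Nat.card (P : Subgroup G) * Nat.card H)
    (hHp : ¬ p ∣ Nat.card H)
    (h1 : G) (h1H : h1 ∈ H) (h1nc : ∃ x ∈ (P : Subgroup G), h1 * x ≠ x * h1)
    (hPne : (P : Subgroup G) ≠ ⊥)
    (hXN : ∀ x ∈ (P : Subgroup G), x ≠ 1 →
      Subgroup.normalizer (Subgroup.zpowers x : Set G) ≤
        Subgroup.normalizer ((P : Subgroup G) : Set G))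
    (hH0N : ∀ h ∈ H, h ≠ 1 → h ∈ Subgroup.centralizer ((P : Subgroup G) : Set G) →
      ∀ g, g * h = h * g → g ∈ Subgroup.normalizer ((P : Subgroup G) : Set G))
    (hQ : ∀ q : ℕ, q.Prime → q ≠ p → q ∣ Nat.card G → ∀ Q : Sylow q G,
      ∃ y : G, (∃ k, y ^ p ^ k = 1) ∧ (∀ a ∈ (Q : Subgroup G), y * a * y⁻¹ ∈ (Q : Subgroup G)) ∧
        (∃ a ∈ (Q : Subgroup G), y * a ≠ a * y) ∧ (∀ a ∈ (Q : Subgroup G), y ^ p * a = a * y ^ p)) :
    False := by
  classical
  have hp : p.Prime := hpF.out
  haveI := Fintype.ofFinite G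
  obtain ⟨N, hNdef⟩ : ∃ N, N = Subgroup.normalizer ((P : Subgroup G) : Set G) := ⟨_, rfl⟩
  rw [← hNdef] at hHN hdec hNcard hXN hH0N
  have hPN : (P : Subgroup G) ≤ N := hNdef ▸ Subgroup.le_normalizer
  have hHcomm : ∀ a ∈ H, ∀ b ∈ H, a * b = b * a := fun a ha b hb =>
    congrArg Subtype.val ((hab H hHp).is_comm.comm ⟨a, ha⟩ ⟨b, hb⟩)
  have hHord : ∀ h ∈ H, ¬ p ∣ orderOf h := fun h hh hd =>
    hHp (hd.trans (Subgroup.orderOf_dvd_natCard H hh))
  -- the elements commuting with a non-trivial element of `P`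
  have hC : ∀ x ∈ (P : Subgroup G), x ≠ 1 → ∀ g, g * x = x * g →
      ∀ y ∈ (P : Subgroup G), g * y = y * g := by
    intro x hx hx1 g hg y hy
    have hgN : g ∈ N := hXN x hx hx1 (by
      rw [Subgroup.mem_normalizer_iff]
      intro z
      constructor
      · intro hz
        obtain ⟨i, rfl⟩ := Subgroup.mem_zpowers_iff.mp hz
        have hgi : Commute g (x ^ i) := Commute.zpow_right (show Commute g x from hg) i
        rw [hgi.eq, mul_inv_cancel_right]
        exact Subgroup.zpow_mem _ (Subgroup.mem_zpowers x) i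
      · intro hz
        obtain ⟨i, hi⟩ := Subgroup.mem_zpowers_iff.mp hz
        have hgi : Commute g (x ^ i) := Commute.zpow_right (show Commute g x from hg) i
        have : z = x ^ i := by
          have h' : g * z * g⁻¹ = g * x ^ i * g⁻¹ := by rw [hgi.eq, mul_inv_cancel_right, hi]
          simpa using h'
        exact this ▸ Subgroup.zpow_mem _ (Subgroup.mem_zpowers x) i)
    obtain ⟨a, ha, h, hh, rfl⟩ := hdec g hgN
    have hhx : h * x = x * h := by
      have h1 : a * (h * x) = a * (x * h) := by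
        rw [← mul_assoc, hg, ← mul_assoc, ← mul_assoc, cyclic_comm P hcyc hx ha]
      exact mul_left_cancel h1
    have hhy := cent_of_fix P hcyc (hNdef ▸ hHN hh) (hHord h hh) hx hx1 hhx hy
    rw [mul_assoc, hhy, ← mul_assoc, cyclic_comm P hcyc ha hy, mul_assoc]
  -- an element of order `p`
  obtain ⟨x0, hx0P, hx0o⟩ : ∃ x0 ∈ (P : Subgroup G), orderOf x0 = p := by
    have hd : p ∣ Nat.card (P : Subgroup G) := by
      obtain ⟨j, hj⟩ := IsPGroup.iff_card.mp P.isPGroup'
      rcases j with _ | j
      · exact absurd (Subgroup.card_eq_one.mp (by simpa using hj)) hPne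
      · exact hj ▸ dvd_pow_self p (Nat.succ_ne_zero j)
    obtain ⟨x, hx⟩ := exists_prime_orderOf_dvd_card' (G := (P : Subgroup G)) p hd
    exact ⟨x, x.2, by rw [Subgroup.orderOf_coe]; exact hx⟩
  have hx01 : x0 ≠ 1 := fun h => hp.ne_one (by rw [← hx0o, h, orderOf_one])
  obtain ⟨X, hXdef⟩ : ∃ X, X = Subgroup.zpowers x0 := ⟨_, rfl⟩
  have hXcard : Nat.card X = p := by rw [hXdef, Nat.card_zpowers, hx0o]
  have hXP : X ≤ (P : Subgroup G) := hXdef ▸ Subgroup.zpowers_le.mpr hx0P
  -- action of `N` on `X`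
  have hNX : ∀ g ∈ N, g ∈ Subgroup.normalizer (X : Set G) := by
    intro g hg
    have key : ∀ g ∈ N, ∀ z ∈ X, g * z * g⁻¹ ∈ X := by
      intro g hg z hz
      obtain ⟨r, hr⟩ := sylow_conj_eq_zpow P hcyc (hNdef ▸ hg)
      rw [hr z (hXP hz)]
      exact X.zpow_mem hz r
    rw [Subgroup.mem_normalizer_iff]
    refine fun z => ⟨key g hg z, fun hz => ?_⟩
    simpa [mul_assoc] using key g⁻¹ (N.inv_mem hg) _ hz
  let ψ : H →* MulAut X :=
    (Subgroup.normalizerMonoidHom X).comp (Subgroup.inclusion fun g hg => hNX g (hHN hg))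
  obtain ⟨H0, hH0def⟩ : ∃ H0, H0 = H ⊓ Subgroup.centralizer ((P : Subgroup G) : Set G) :=
    ⟨_, rfl⟩
  have hH0mem : ∀ {g : G}, g ∈ H0 ↔ g ∈ H ∧ ∀ y ∈ (P : Subgroup G), g * y = y * g := by
    intro g
    rw [hH0def, Subgroup.mem_inf, Subgroup.mem_centralizer_iff]
    exact and_congr_right fun _ => ⟨fun h y hy => (h y hy).symm, fun h y hy => (h y hy).symm⟩
  have hψ : ∀ h : H, ψ h = 1 ↔ (h : G) ∈ H0 := by
    intro h
    constructor
    · intro hh
      refine hH0mem.mpr ⟨h.2, fun y hy => cent_of_fix P hcyc (hNdef ▸ hHN h.2) (hHord _ h.2)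
        hx0P hx01 ?_ hy⟩
      have h' := congrArg (fun e : MulAut X => ((e ⟨x0, hXdef ▸ Subgroup.mem_zpowers x0⟩ : X) : G)) hh
      have h'' : (h : G) * x0 * (h : G)⁻¹ = x0 := h'
      exact mul_inv_eq_iff_eq_mul.mp h''
    · intro hh
      ext z
      show (h : G) * (z : G) * (h : G)⁻¹ = (z : G)
      rw [(hH0mem.mp hh).2 z (hXP z.2), mul_inv_cancel_right]
  haveI hXc : IsCyclic X := hXdef ▸ inferInstance
  haveI hMuC : IsCyclic (MulAut X) := by
    have h : IsCyclic (ZMod (Nat.card X))ˣ := by rw [hXcard]; infer_instance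
    exact isCyclic_of_surjective (IsCyclic.mulAutMulEquiv X).symm
      (IsCyclic.mulAutMulEquiv X).symm.surjective
  have hMucard : Nat.card (MulAut X) = p - 1 := by
    rw [IsCyclic.card_mulAut, hXcard, Nat.totient_prime hp]
  have hker : Nat.card ψ.ker = Nat.card H0 := by
    refine Nat.card_congr ⟨fun h => ⟨(h.1 : G), (hψ h.1).mp h.2⟩,
      fun g => ⟨⟨g.1, (hH0mem.mp g.2).1⟩, (hψ _).mpr g.2⟩, fun h => rfl, fun g => rfl⟩
  obtain ⟨e, he⟩ : ∃ e, e = Nat.card ψ.range := ⟨_, rfl⟩
  have hcardH : Nat.card H = e * Nat.card H0 := by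
    rw [Subgroup.card_eq_card_quotient_mul_card_subgroup ψ.ker, hker, he,
      Nat.card_congr (QuotientGroup.quotientKerEquivRange ψ).toEquiv]
  have hedvd : e ∣ p - 1 := hMucard ▸ he ▸ Subgroup.card_subgroup_dvd_card ψ.range
  have he1 : e ≠ 1 := by
    intro h
    rw [he, Subgroup.card_eq_one, MonoidHom.range_eq_bot_iff] at h
    obtain ⟨x, hx, hne⟩ := h1nc
    exact hne ((hH0mem.mp ((hψ ⟨h1, h1H⟩).mp (by rw [h]; rfl))).2 x hx)
  have hp1 : p - 1 < p := Nat.sub_lt hp.pos Nat.one_pos
  have hH0le : H0 ≤ H := hH0def ▸ inf_le_left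
  -- centralizer of `P`
  have hCPdec : ∀ g, (∀ y ∈ (P : Subgroup G), g * y = y * g) →
      ∃ a ∈ (P : Subgroup G), ∃ h ∈ H0, g = a * h := by
    intro g hg
    have hgN : g ∈ N := by
      rw [hNdef, Subgroup.mem_normalizer_iff]
      intro z
      constructor
      · intro hz
        rwa [hg z hz, mul_inv_cancel_right]
      · intro hz
        have h' := hg _ hz
        have h'' : g * z * g⁻¹ = z := by
          have h3 : g * (g * z * g⁻¹) = g * z := by rw [h', inv_mul_cancel_right]
          exact mul_left_cancel h3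
        rwa [h''] at hz
    obtain ⟨a, ha, h, hh, rfl⟩ := hdec g hgN
    refine ⟨a, ha, h, hH0mem.mpr ⟨hh, fun y hy => ?_⟩, rfl⟩
    have h' : a * (h * y) = a * (y * h) := by
      rw [← mul_assoc, hg y hy, ← mul_assoc, ← mul_assoc, cyclic_comm P hcyc hy ha]
    exact mul_left_cancel h'
  -- `q`-elements commuting with non-trivial `p`-elements
  have hCq : ∀ (q : ℕ), q.Prime → q ≠ p → ∀ (y a : G), (∃ k, y ^ p ^ k = 1) → y ≠ 1 →
      a * y = y * a → q ∣ orderOf a → q ∣ Nat.card H0 := by
    intro q hq hqp y a ⟨k, hk⟩ hy1 hay hqa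
    obtain ⟨R, hR⟩ := (isPGroup_zpowers y k hk).exists_le_sylow
    obtain ⟨g, hg⟩ := MulAction.exists_smul_eq G R P
    have hyP : g * y * g⁻¹ ∈ (P : Subgroup G) := by
      rw [← hg]
      exact Subgroup.mem_map_of_mem (MulAut.conj g).toMonoidHom (hR (Subgroup.mem_zpowers y))
    have hne : g * y * g⁻¹ ≠ 1 := fun h => hy1 (by simpa using h)
    have hcomm : g * a * g⁻¹ * (g * y * g⁻¹) = g * y * g⁻¹ * (g * a * g⁻¹) := by
      have hay' : (g * (a * y) * g⁻¹) = (g * (y * a) * g⁻¹) := by rw [hay]
      simpa [mul_assoc] using hay'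
    obtain ⟨b, hb, h, hh, hbh⟩ := hCPdec _ (hC _ hyP hne _ hcomm)
    have hco : Commute b h := ((hH0mem.mp hh).2 b hb).symm
    have h1' : orderOf (b * h) ∣ Nat.card (P : Subgroup G) * Nat.card H0 := by
      rw [orderOf_dvd_iff_pow_eq_one, hco.mul_pow, pow_mul,
        orderOf_dvd_iff_pow_eq_one.mp (Subgroup.orderOf_dvd_natCard (P : Subgroup G) hb), one_pow,
        one_mul, mul_comm, pow_mul,
        orderOf_dvd_iff_pow_eq_one.mp (Subgroup.orderOf_dvd_natCard H0 hh), one_pow]
    have h2' : orderOf (g * a * g⁻¹) = orderOf a := (MulAut.conj g).orderOf_eq a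
    rw [← hbh, h2'] at h1'
    rcases hq.dvd_mul.mp (hqa.trans h1') with h | h
    · obtain ⟨j, hj⟩ := IsPGroup.iff_card.mp P.isPGroup'
      exact absurd ((Nat.prime_dvd_prime_iff_eq hq hp).mp (hq.dvd_of_dvd_pow (hj ▸ h))) hqp
    · exact h
  -- congruence of the Sylow orders for primes not dividing `|H₀|`
  have hfix : ∀ q : ℕ, q.Prime → q ≠ p → ¬ q ∣ Nat.card H0 →
      ((q : ZMod p) ^ (Nat.card G).factorization q) = 1 := by
    intro q hq hqp hq0
    by_cases hqG : q ∣ Nat.card G
    swap
    · rw [Nat.factorization_eq_zero_of_not_dvd hqG, pow_zero]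
    haveI : Fact q.Prime := ⟨hq⟩
    obtain ⟨Q, hQc⟩ : ∃ Q : Sylow q G, Nat.card Q = q ^ (Nat.card G).factorization q :=
      ⟨default, Sylow.card_eq_multiplicity _⟩
    obtain ⟨y, ⟨k, hk⟩, hynorm, ⟨a0, ha0, hne⟩, -⟩ := hQ q hq hqp hqG Q
    have hy1 : y ≠ 1 := fun h => hne (by simp [h])
    have hnorm : ∀ r ∈ Subgroup.zpowers y, ∀ a ∈ (Q : Subgroup G),
        r * a * r⁻¹ ∈ (Q : Subgroup G) := by
      intro r hr
      have hr' : r ∈ Submonoid.powers y := mem_powers_iff_mem_zpowers.mpr hr
      obtain ⟨i, rfl⟩ := hr'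
      show ∀ a ∈ (Q : Subgroup G), y ^ i * a * (y ^ i)⁻¹ ∈ (Q : Subgroup G)
      clear hr
      intro a ha
      induction i generalizing a with
      | zero => simpa using ha
      | succ i ih =>
        have h' := ih (y * a * y⁻¹) (hynorm a ha)
        simpa [pow_succ, mul_assoc] using h'
    letI : MulAction (Subgroup.zpowers y) (Q : Subgroup G) :=
      { smul := fun r a => ⟨(r : G) * a * (r : G)⁻¹, hnorm r r.2 a a.2⟩
        one_smul := fun a => Subtype.ext (by
          show ((1 : Subgroup.zpowers y) : G) * (a : G) * ((1 : Subgroup.zpowers y) : G)⁻¹ = a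
          simp)
        mul_smul := fun r s a => Subtype.ext (by
          show ((r * s : Subgroup.zpowers y) : G) * (a : G) * ((r * s : Subgroup.zpowers y) : G)⁻¹
            = (r : G) * ((s : G) * a * (s : G)⁻¹) * (r : G)⁻¹
          simp [mul_assoc]) }
    have hmod := (isPGroup_zpowers y k hk).card_modEq_card_fixedPoints (Q : Subgroup G)
    have hfp : MulAction.fixedPoints (Subgroup.zpowers y) (Q : Subgroup G) = {1} := by
      ext a
      simp only [MulAction.mem_fixedPoints, Set.mem_singleton_iff]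
      constructor
      · intro h
        by_contra ha1
        have h' : y * (a : G) * y⁻¹ = a :=
          congrArg Subtype.val (h ⟨y, Subgroup.mem_zpowers y⟩)
        have hay : (a : G) * y = y * a := (mul_inv_eq_iff_eq_mul.mp h').symm
        have hqa : q ∣ orderOf (a : G) := by
          obtain ⟨j, hj⟩ := (Nat.dvd_prime_pow hq).mp
            (hQc ▸ Subgroup.orderOf_dvd_natCard (Q : Subgroup G) a.2)
          rcases j with _ | j
          · exact absurd (Subtype.ext (orderOf_eq_one_iff.mp (by simpa using hj.2))) ha1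
          · exact hj.2 ▸ dvd_pow_self q (Nat.succ_ne_zero j)
        exact hq0 (hCq q hq hqp y a ⟨k, hk⟩ hy1 hay hqa)
      · rintro rfl r
        apply Subtype.ext
        show (r : G) * ((1 : (Q : Subgroup G)) : G) * (r : G)⁻¹ = ((1 : (Q : Subgroup G)) : G)
        simp
    rw [hfp, Nat.card_coe_set_eq, Set.ncard_singleton, hQc] at hmod
    have := (ZMod.natCast_eq_natCast_iff _ _ p).mpr hmod
    simpa using this
  -- primes dividing `|H₀|`: the Sylow subgroups lie in `H`
  have hsame : ∀ q : ℕ, q.Prime → q ∣ Nat.card H0 →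
      (Nat.card G).factorization q = (Nat.card H).factorization q := by
    intro q hq hq0
    haveI : Fact q.Prime := ⟨hq⟩
    have hqH : q ∣ Nat.card H := hcardH ▸ dvd_mul_of_dvd_right hq0 e
    have hqp : q ≠ p := fun h => hHp (h ▸ hqH)
    obtain ⟨h, hh⟩ := exists_prime_orderOf_dvd_card' (G := H0) q hq0
    have hho : orderOf (h : G) = q := by rw [Subgroup.orderOf_coe]; exact hh
    have hh1 : (h : G) ≠ 1 := fun e' => hq.ne_one (by rw [← hho, e', orderOf_one])
    obtain ⟨R, hR⟩ := (isPGroup_zpowers (p := q) (h : G) 1 (by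
      rw [pow_one, ← hho, pow_orderOf_eq_one])).exists_le_sylow
    have hRp : ¬ p ∣ Nat.card (R : Subgroup G) := by
      obtain ⟨j, hj⟩ := IsPGroup.iff_card.mp R.isPGroup'
      exact fun hd => hqp ((Nat.prime_dvd_prime_iff_eq hp hq).mp (hp.dvd_of_dvd_pow (hj ▸ hd))).symm
    have hRN : (R : Subgroup G) ≤ N := fun g hg => hH0N h (hH0le h.2) hh1 (by
      rw [Subgroup.mem_centralizer_iff]
      exact fun z hz => ((hH0mem.mp h.2).2 z hz).symm) g
      (congrArg Subtype.val ((hab _ hRp).is_comm.comm ⟨g, hg⟩ ⟨h, hR (Subgroup.mem_zpowers _)⟩))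
    refine le_antisymm ?_ ?_
    · apply (hq.pow_dvd_iff_le_factorization Nat.card_pos.ne').mp
      have hd := Subgroup.card_dvd_of_le hRN
      rw [hNcard, R.card_eq_multiplicity] at hd
      refine Nat.Coprime.dvd_of_dvd_mul_left ?_ hd
      apply Nat.Coprime.pow_left
      rw [hq.coprime_iff_not_dvd]
      intro hd'
      obtain ⟨j, hj⟩ := IsPGroup.iff_card.mp P.isPGroup'
      exact hqp ((Nat.prime_dvd_prime_iff_eq hq hp).mp (hq.dvd_of_dvd_pow (hj ▸ hd')))
    · exact (Nat.factorization_le_iff_dvd Nat.card_pos.ne' Nat.card_pos.ne').mpr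
        (Subgroup.card_subgroup_dvd_card H) q
  -- counting
  have hindex : (P : Subgroup G).index = Nat.card H * N.index := by
    have h' := (P : Subgroup G).card_mul_index
    rw [← N.card_mul_index, hNcard, mul_assoc] at h'
    exact mul_left_cancel₀ Nat.card_pos.ne' h'
  have hNidx : ((N.index : ℕ) : ZMod p) = 1 := by
    have h' := (ZMod.natCast_eq_natCast_iff _ _ p).mpr (card_sylow_modEq_one p G)
    rw [Sylow.card_eq_index_normalizer P] at h'
    simpa [hNdef] using h'
  have hallH0 : ∀ q : ℕ, q.Prime → q ∣ Nat.card H → q ∣ Nat.card H0 := by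
    obtain ⟨S, hS⟩ : ∃ S, S = (Nat.card G).primeFactors.erase p := ⟨_, rfl⟩
    have hSp : ∀ q ∈ S, q.Prime ∧ q ≠ p := fun q hq => by
      rw [hS, Finset.mem_erase] at hq
      exact ⟨(Nat.mem_primeFactors.mp hq.2).1, hq.1⟩
    have prodeq : ∀ n : ℕ, n ∣ Nat.card G → ¬ p ∣ n →
        n = ∏ q ∈ S, q ^ n.factorization q := by
      intro n hn hpn
      have hn0 : n ≠ 0 := fun h => Nat.card_pos.ne' (zero_dvd_iff.mp (h ▸ hn))
      conv_lhs => rw [← Nat.prod_factorization_pow_eq_self hn0]
      rw [Finsupp.prod_of_support_subset]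
      · intro q hq
        rw [Nat.support_factorization] at hq
        obtain ⟨hqp, hqd, -⟩ := Nat.mem_primeFactors.mp hq
        rw [hS, Finset.mem_erase, Nat.mem_primeFactors]
        exact ⟨fun h => hpn (h ▸ hqd), hqp, hqd.trans hn, Nat.card_pos.ne'⟩
      · intro i _
        exact pow_zero i
    have hHG : Nat.card H ∣ Nat.card G := Subgroup.card_subgroup_dvd_card H
    have hPidx : (P : Subgroup G).index ∣ Nat.card G := Subgroup.index_dvd_card _
    have hf : ∀ q ∈ S, ((P : Subgroup G).index).factorization q =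
        (Nat.card G).factorization q := by
      intro q hq
      rw [← (P : Subgroup G).index_mul_card,
        Nat.factorization_mul Subgroup.index_ne_zero_of_finite Nat.card_pos.ne']
      obtain ⟨j, hj⟩ := IsPGroup.iff_card.mp P.isPGroup'
      rw [hj, hp.factorization_pow]
      simp [Finsupp.single_eq_of_ne (hSp q hq).2]
    have h1' : ((Nat.card H : ℕ) : ZMod p) =
        ∏ q ∈ S, (q : ZMod p) ^ (Nat.card G).factorization q := by
      have h' := congrArg (Nat.cast : ℕ → ZMod p) (prodeq _ hPidx P.not_dvd_index)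
      rw [hindex, Nat.cast_mul, hNidx, mul_one, ← hindex, Nat.cast_prod] at h'
      rw [h']
      exact Finset.prod_congr rfl fun q hq => by rw [Nat.cast_pow, hf q hq]
    have h2' : ((Nat.card H : ℕ) : ZMod p) =
        ∏ q ∈ S, (q : ZMod p) ^ (Nat.card H).factorization q := by
      conv_lhs => rw [prodeq _ hHG hHp]
      push_cast
      rfl
    rw [← Finset.prod_filter_mul_prod_filter_not S (fun q => q ∣ Nat.card H0)] at h1' h2'
    have hone : ∏ q ∈ S with ¬ q ∣ Nat.card H0, (q : ZMod p) ^ (Nat.card G).factorization q = 1 :=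
      Finset.prod_eq_one fun q hq => by
        rw [Finset.mem_filter] at hq
        exact hfix q (hSp q hq.1).1 (hSp q hq.1).2 hq.2
    have hsm : ∏ q ∈ S with q ∣ Nat.card H0, (q : ZMod p) ^ (Nat.card G).factorization q =
        ∏ q ∈ S with q ∣ Nat.card H0, (q : ZMod p) ^ (Nat.card H).factorization q :=
      Finset.prod_congr rfl fun q hq => by
        rw [Finset.mem_filter] at hq
        rw [hsame q (hSp q hq.1).1 hq.2]
    rw [hone, mul_one, hsm] at h1'
    have hne : ((Nat.card H : ℕ) : ZMod p) ≠ 0 := by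
      rw [Ne, ZMod.natCast_eq_zero_iff]; exact hHp
    rw [← h1'] at h2'
    have hB1 : ((∏ q ∈ S with ¬ q ∣ Nat.card H0, q ^ (Nat.card H).factorization q : ℕ) : ZMod p)
        = 1 := by
      push_cast
      exact (mul_eq_left₀ hne).mp h2'.symm
    obtain ⟨B, hB⟩ : ∃ B, B = ∏ q ∈ S with ¬ q ∣ Nat.card H0, q ^ (Nat.card H).factorization q :=
      ⟨_, rfl⟩
    rw [← hB] at hB1
    have hBd : B ∣ e := by
      have hBH : B ∣ Nat.card H := by
        conv_rhs => rw [prodeq _ hHG hHp]
        rw [hB]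
        exact Finset.prod_dvd_prod_of_subset _ _ _ (Finset.filter_subset _ _)
      have hco : Nat.Coprime B (Nat.card H0) := by
        rw [hB]
        exact Nat.Coprime.prod_left fun q hq => by
          rw [Finset.mem_filter] at hq
          exact Nat.Coprime.pow_left _ (((hSp q hq.1).1.coprime_iff_not_dvd).mpr hq.2)
      exact hco.dvd_of_dvd_mul_right (hcardH ▸ hBH)
    have hBlt : B < p :=
      lt_of_le_of_lt (Nat.le_of_dvd (by have := hp.two_le; omega) (hBd.trans hedvd)) hp1
    have hBone : B = 1 := by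
      have h' := congrArg ZMod.val hB1
      rwa [ZMod.val_natCast, Nat.mod_eq_of_lt hBlt, ZMod.val_one] at h'
    intro q hq hqH
    by_contra hq0
    have hqp : q ≠ p := fun h => hHp (h ▸ hqH)
    have hqS : q ∈ S.filter (fun q => ¬ q ∣ Nat.card H0) := by
      rw [Finset.mem_filter, hS, Finset.mem_erase, Nat.mem_primeFactors]
      exact ⟨⟨hqp, hq, hqH.trans hHG, Nat.card_pos.ne'⟩, hq0⟩
    have hqB : q ∣ B := hB ▸ (dvd_pow_self q
      (hq.factorization_pos_of_dvd Nat.card_pos.ne' hqH).ne').trans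
        (Finset.dvd_prod_of_mem _ hqS)
    exact hq.not_dvd_one (hBone ▸ hqB)
  -- moving of `Q ∩ H₀`
  have hmove : ∀ (r : ℕ) (Q : Sylow r G), r ≠ p → r.Prime → ∀ y : G, (∃ k, y ^ p ^ k = 1) →
      (∀ a ∈ (Q : Subgroup G), y * a * y⁻¹ ∈ (Q : Subgroup G)) →
      (∃ a ∈ (Q : Subgroup G), y * a ≠ a * y) →
      ∀ z ∈ (Q : Subgroup G), z ∈ H0 → z ≠ 1 → y * z * y⁻¹ ∉ H0 := by
    intro r Q hrp hr y ⟨k, hk⟩ hyn ⟨a, ha, hne⟩ z hzQ hz0 hz1 hz'
    apply hne
    have hz'1 : y * z * y⁻¹ ≠ 1 := fun h => hz1 (by simpa using h)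
    have hzc : ∀ x ∈ (P : Subgroup G), y * x * y⁻¹ ∈ N := by
      intro x hx
      refine hH0N _ (hH0le hz') hz'1 ?_ _ ?_
      · rw [Subgroup.mem_centralizer_iff]
        exact fun w hw => ((hH0mem.mp hz').2 w hw).symm
      · have h' := (hH0mem.mp hz0).2 x hx
        have h'' : y * (z * x) * y⁻¹ = y * (x * z) * y⁻¹ := by rw [h']
        simpa [mul_assoc] using h''.symm
    have hyP : ∀ x ∈ (P : Subgroup G), y * x * y⁻¹ ∈ (P : Subgroup G) := by
      intro x hx
      obtain ⟨i, hi⟩ := orderOf_mem_sylow P hx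
      refine mem_sylow_of_mem_normalizer P (hNdef ▸ hzc x hx) i ?_
      rw [conj_pow, ← hi, pow_orderOf_eq_one, mul_one, mul_inv_cancel]
    have hyN : y ∈ Subgroup.normalizer ((P : Subgroup G) : Set G) := by
      rw [Subgroup.mem_normalizer_iff]
      refine fun x => ⟨hyP x, fun hx => ?_⟩
      have hinj : Function.Injective (fun w : (P : Subgroup G) =>
          (⟨y * w * y⁻¹, hyP w w.2⟩ : (P : Subgroup G))) :=
        fun u w h => Subtype.ext (by simpa using congrArg Subtype.val h)
      obtain ⟨⟨w, hw⟩, hwx⟩ := (Finite.injective_iff_surjective.mp hinj) ⟨_, hx⟩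
      have : w = x := by simpa using congrArg Subtype.val hwx
      exact this ▸ hw
    have hy := mem_sylow_of_mem_normalizer P hyN k hk
    have haN : a ∈ N := hH0N z (hH0le hz0) hz1 (by
      rw [Subgroup.mem_centralizer_iff]
      exact fun w hw => ((hH0mem.mp hz0).2 w hw).symm) a (by
        have hRp : ¬ p ∣ Nat.card (Q : Subgroup G) := by
          haveI : Fact r.Prime := ⟨hr⟩
          obtain ⟨j, hj⟩ := IsPGroup.iff_card.mp Q.isPGroup'
          exact fun hd => hrp
            ((Nat.prime_dvd_prime_iff_eq hp hr).mp (hp.dvd_of_dvd_pow (hj ▸ hd))).symm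
        exact congrArg Subtype.val ((hab _ hRp).is_comm.comm ⟨a, ha⟩ ⟨z, hzQ⟩))
    have h1' : y * a * y⁻¹ * a⁻¹ ∈ (Q : Subgroup G) := mul_mem (hyn a ha) (inv_mem ha)
    have h2' : y * a * y⁻¹ * a⁻¹ ∈ (P : Subgroup G) := by
      rw [show y * a * y⁻¹ * a⁻¹ = y * (a * y⁻¹ * a⁻¹) by group]
      exact mul_mem hy ((Subgroup.mem_normalizer_iff.mp (hNdef ▸ haN) _).mp (inv_mem hy))
    have h3' : y * a * y⁻¹ * a⁻¹ = 1 := by
      haveI : Fact r.Prime := ⟨hr⟩
      have hd := IsPGroup.disjoint_of_ne r p hrp _ _ Q.isPGroup' P.isPGroup'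
      exact Subgroup.disjoint_def.mp hd h1' h2'
    rw [mul_inv_eq_one, mul_inv_eq_iff_eq_mul] at h3'
    exact h3'
  -- every prime divisor of `|H|` is `2`, and `p = 3`
  have hprimes : ∀ r : ℕ, r.Prime → r ∣ Nat.card H → r = 2 ∧ p = 3 ∧ ∃ (Q : Sylow r G) (y : G),
      (Q : Subgroup G) ≤ H ∧ (∀ a ∈ H, (∃ j, a ^ r ^ j = 1) → a ∈ (Q : Subgroup G)) ∧
      (∃ k, y ^ p ^ k = 1) ∧ (∀ a ∈ (Q : Subgroup G), y * a * y⁻¹ ∈ (Q : Subgroup G)) ∧
        (∃ a ∈ (Q : Subgroup G), y * a ≠ a * y) ∧
        (∀ a ∈ (Q : Subgroup G), y ^ p * a = a * y ^ p) := by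
    intro r hr hrH
    haveI : Fact r.Prime := ⟨hr⟩
    have hrp : r ≠ p := fun h => hHp (h ▸ hrH)
    have hr0 := hallH0 r hr hrH
    obtain ⟨R⟩ : Nonempty (Sylow r H) := inferInstance
    have hcardR : Nat.card ((R : Subgroup H).map H.subtype) =
        r ^ (Nat.card G).factorization r := by
      rw [Subgroup.card_map_of_injective H.subtype_injective, hsame r hr hr0]
      exact R.card_eq_multiplicity
    let Q : Sylow r G := Sylow.ofCard _ hcardR
    have hQR : (Q : Subgroup G) = (R : Subgroup H).map H.subtype := rfl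
    have hQH : (Q : Subgroup G) ≤ H := hQR ▸ Subgroup.map_subtype_le _
    have hQmem : ∀ a ∈ H, (∃ j, a ^ r ^ j = 1) → a ∈ (Q : Subgroup G) := by
      intro a ha ⟨j, hj⟩
      have hRn : (R : Subgroup H) ≤ Subgroup.center H := fun z _ => Subgroup.mem_center_iff.mpr
        fun w => Subtype.ext (hHcomm _ w.2 _ z.2)
      have hamem : (⟨a, ha⟩ : H) ∈ Subgroup.normalizer ((R : Subgroup H) : Set H) := by
        rw [Subgroup.mem_normalizer_iff]
        intro z
        have : (⟨a, ha⟩ : H) * z * (⟨a, ha⟩ : H)⁻¹ = z := by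
          rw [mul_inv_eq_iff_eq_mul]
          exact Subtype.ext (hHcomm _ ha _ z.2)
        rw [this]
      have := mem_sylow_of_mem_normalizer R hamem j (Subtype.ext (by simpa using hj))
      rw [hQR]
      exact ⟨_, this, rfl⟩
    obtain ⟨y, hyk, hyn, hync, hyp⟩ := hQ r hr hrp (hrH.trans (Subgroup.card_subgroup_dvd_card H)) Q
    obtain ⟨f, hf⟩ : ∃ f : (Q : Subgroup G) →* MulAut X, f = ψ.comp (Subgroup.inclusion hQH) :=
      ⟨_, rfl⟩
    have hfker : ∀ a : (Q : Subgroup G), f a = 1 ↔ (a : G) ∈ H0 := fun a => by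
      rw [hf]; exact hψ _
    have hMur : Nat.card {u : MulAut X // u ^ r = 1} ≤ r := by
      haveI := Fintype.ofFinite (MulAut X)
      rw [Nat.card_eq_fintype_card, Fintype.card_subtype]
      exact IsCyclic.card_pow_eq_one_le hr.pos
    obtain ⟨z0, hz0⟩ := exists_prime_orderOf_dvd_card' (G := H0) r hr0
    have hz0o : orderOf (z0 : G) = r := by rw [Subgroup.orderOf_coe]; exact hz0
    have hz0pow : (z0 : G) ^ r = 1 := by rw [← hz0o, pow_orderOf_eq_one]
    have hz0Q : (z0 : G) ∈ (Q : Subgroup G) :=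
      hQmem _ (hH0le z0.2) ⟨1, by rw [pow_one]; exact hz0pow⟩
    have hz01 : (z0 : G) ≠ 1 := fun e' => hr.ne_one (by rw [← hz0o, e', orderOf_one])
    -- elements of `Q` killed by `r`
    let E := {a : (Q : Subgroup G) // a ^ r = 1}
    have hEle : Nat.card E ≤ r * r := by
      haveI := Fintype.ofFinite E
      rw [Nat.card_eq_fintype_card]
      let F : E → {u : MulAut X // u ^ r = 1} := fun a => ⟨f a.1, by rw [← map_pow, a.2, map_one]⟩
      have hfib : ∀ u, (Finset.univ.filter fun a : E => F a = u).card ≤ r := by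
        intro u
        rcases Finset.eq_empty_or_nonempty (Finset.univ.filter fun a : E => F a = u) with
          h | ⟨a0, ha0⟩
        · rw [h]; simp
        · simp only [Finset.mem_filter, Finset.mem_univ, true_and] at ha0
          rw [← Fintype.card_subtype, ← Nat.card_eq_fintype_card]
          refine le_trans ?_ hMur
          have hmem : ∀ a : {a : E // F a = u}, ((a.1.1 * a0.1⁻¹ : (Q : Subgroup G)) : G) ∈ H0 := by
            intro a
            rw [← hfker, map_mul, map_inv, mul_inv_eq_one]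
            exact congrArg Subtype.val (a.2.trans ha0.symm)
          let τ : {a : E // F a = u} → {u : MulAut X // u ^ r = 1} := fun a =>
            ⟨f ⟨y * ((a.1.1 * a0.1⁻¹ : (Q : Subgroup G)) : G) * y⁻¹,
              hyn _ (SetLike.coe_mem _)⟩, by
              rw [← map_pow]
              have h0 : (a.1.1 * a0.1⁻¹ : (Q : Subgroup G)) ^ r = 1 := by
                have hc : Commute a.1.1 a0.1⁻¹ :=
                  Subtype.ext (hHcomm _ (hQH (SetLike.coe_mem _)) _ (hQH (SetLike.coe_mem _)))
                rw [hc.mul_pow, inv_pow, a.1.2, a0.2, inv_one, one_mul]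
              rw [show (⟨y * ((a.1.1 * a0.1⁻¹ : (Q : Subgroup G)) : G) * y⁻¹,
                  hyn _ (SetLike.coe_mem _)⟩ : (Q : Subgroup G)) ^ r = 1 from Subtype.ext (by
                  rw [Subgroup.coe_pow, conj_pow, ← Subgroup.coe_pow, h0]; simp), map_one]⟩
          refine Nat.card_le_card_of_injective τ fun a b hab' => ?_
          have h' := congrArg Subtype.val hab'
          simp only [τ] at h'
          rw [← mul_inv_eq_one, ← map_inv, ← map_mul, hfker] at h'
          simp only [Subgroup.coe_mul, InvMemClass.coe_inv] at h'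
          have hz : ((a.1.1 * b.1.1⁻¹ : (Q : Subgroup G)) : G) ∈ H0 := by
            rw [← hfker, map_mul, map_inv, mul_inv_eq_one]
            exact congrArg Subtype.val (a.2.trans b.2.symm)
          by_contra hne
          refine hmove r Q hrp hr y hyk hyn hync _ (SetLike.coe_mem _) hz ?_ ?_
          · intro h1''
            apply hne
            apply Subtype.ext; apply Subtype.ext
            exact mul_inv_eq_one.mp (Subtype.ext (by simpa using h1''))
          · simp only [Subgroup.coe_mul, InvMemClass.coe_inv]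
            convert h' using 1
            group
      calc Fintype.card E = (Finset.univ : Finset E).card := rfl
        _ ≤ r * (Finset.univ.image F).card := Finset.card_le_mul_card_image _ r fun u _ => hfib u
        _ ≤ r * r := Nat.mul_le_mul_left r (by
            haveI := Fintype.ofFinite {u : MulAut X // u ^ r = 1}
            exact (Finset.card_le_univ _).trans (by rw [← Nat.card_eq_fintype_card]; exact hMur))
    -- powers of `y`
    have hpownorm : ∀ i : ℕ, ∀ a ∈ (Q : Subgroup G), y ^ i * a * (y ^ i)⁻¹ ∈ (Q : Subgroup G) := by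
      intro i
      induction i with
      | zero => intro a ha; simpa using ha
      | succ i ih =>
        intro a ha
        simpa [pow_succ, mul_assoc] using ih _ (hyn a ha)
    have hpownc : ∀ i : ℕ, 0 < i → i < p → ∃ a ∈ (Q : Subgroup G), y ^ i * a ≠ a * y ^ i := by
      intro i hi hip
      by_contra hcon
      push Not at hcon
      obtain ⟨a, ha, hne⟩ := hync
      have hco : IsCoprime (i : ℤ) (p : ℤ) := by
        rw [Int.isCoprime_iff_nat_coprime]
        simpa using ((hp.coprime_iff_not_dvd).mpr (Nat.not_dvd_of_pos_of_lt hi hip)).symm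
      obtain ⟨s, t, hst⟩ := hco
      apply hne
      have hy : y = (y ^ i) ^ s * (y ^ p) ^ t := by
        rw [← zpow_natCast, ← zpow_natCast, ← zpow_mul, ← zpow_mul, ← zpow_add,
          mul_comm (i : ℤ), mul_comm (p : ℤ), hst, zpow_one]
      have c1 : Commute (y ^ i) a := hcon a ha
      have c2 : Commute (y ^ p) a := hyp a ha
      rw [hy]
      exact ((c1.zpow_left s).mul_left (c2.zpow_left t)).eq
    let Z0 := {z : (Q : Subgroup G) // z ^ r = 1 ∧ z ≠ 1 ∧ (z : G) ∈ H0}
    have hZ0 : r ≤ Nat.card Z0 + 1 := by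
      let g : Fin (r - 1) → Z0 := fun i => ⟨⟨(z0 : G), hz0Q⟩ ^ ((i : ℕ) + 1), by
        have hlt : (i : ℕ) + 1 < r := by have := i.2; omega
        refine ⟨?_, ?_, ?_⟩
        · apply Subtype.ext
          rw [Subgroup.coe_pow, Subgroup.coe_pow, ← pow_mul, mul_comm, pow_mul, Subgroup.coe_one,
            hz0pow, one_pow]
        · intro h
          have h' : (z0 : G) ^ ((i : ℕ) + 1) = 1 := by simpa using congrArg Subtype.val h
          exact Nat.not_dvd_of_pos_of_lt (Nat.succ_pos _) hlt
            ((dvd_of_eq hz0o.symm).trans (orderOf_dvd_iff_pow_eq_one.mpr h'))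
        · simpa using H0.pow_mem z0.2 _⟩
      have hg : Function.Injective g := by
        intro i j hij
        have h' : (z0 : G) ^ ((i : ℕ) + 1) = (z0 : G) ^ ((j : ℕ) + 1) := by
          simpa [g] using congrArg (fun z : Z0 => ((z.1 : (Q : Subgroup G)) : G)) hij
        have := pow_injOn_Iio_orderOf (x := (z0 : G))
          (by simp only [Set.mem_Iio, hz0o]; have := i.2; omega)
          (by simp only [Set.mem_Iio, hz0o]; have := j.2; omega) h'
        exact Fin.ext (by omega)
      have := Nat.card_le_card_of_injective g hg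
      rw [Nat.card_fin] at this
      omega
    let Φ : Option (Fin p × Z0) → E := fun o => o.elim ⟨1, one_pow r⟩ fun iz =>
      ⟨⟨y ^ (iz.1 : ℕ) * ((iz.2.1 : (Q : Subgroup G)) : G) * (y ^ (iz.1 : ℕ))⁻¹,
        hpownorm _ _ (SetLike.coe_mem _)⟩, Subtype.ext (by
          rw [Subgroup.coe_pow, conj_pow, ← Subgroup.coe_pow, iz.2.2.1]; simp)⟩
    have hΦ : Function.Injective Φ := by
      have key : ∀ (i j : Fin p) (z w : Z0), (i : ℕ) ≤ j →
          Φ (some (i, z)) = Φ (some (j, w)) → (i, z) = (j, w) := by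
        intro i j z w hij h
        have h' : y ^ (i : ℕ) * ((z.1 : (Q : Subgroup G)) : G) * (y ^ (i : ℕ))⁻¹ =
            y ^ (j : ℕ) * ((w.1 : (Q : Subgroup G)) : G) * (y ^ (j : ℕ))⁻¹ :=
          congrArg (fun a : E => ((a.1 : (Q : Subgroup G)) : G)) h
        obtain ⟨d, hd⟩ := Nat.exists_eq_add_of_le hij
        rw [hd, pow_add] at h'
        have h'' : ((z.1 : (Q : Subgroup G)) : G) =
            y ^ d * ((w.1 : (Q : Subgroup G)) : G) * (y ^ d)⁻¹ := by
          apply mul_left_cancel (a := y ^ (i : ℕ))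
          apply mul_right_cancel (b := (y ^ (i : ℕ))⁻¹)
          rw [h']; group
        rcases Nat.eq_zero_or_pos d with rfl | hd0
        · have : i = j := Fin.ext (by omega)
          subst this
          have hzw : z = w := Subtype.ext (Subtype.ext (by simpa using h''))
          rw [hzw]
        · exfalso
          have hdp : d < p := by have := j.2; omega
          refine hmove r Q hrp hr (y ^ d) ?_ (hpownorm d) (hpownc d hd0 hdp) _ (SetLike.coe_mem _)
            w.2.2.2 (fun h => w.2.2.1 (Subtype.ext h)) (h'' ▸ z.2.2.2)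
          obtain ⟨k, hk⟩ := hyk
          exact ⟨k, by rw [← pow_mul, mul_comm, pow_mul, hk, one_pow]⟩
      rintro (_ | ⟨i, z⟩) (_ | ⟨j, w⟩) h
      · rfl
      · exfalso
        have h' : (1 : G) = y ^ (j : ℕ) * ((w.1 : (Q : Subgroup G)) : G) * (y ^ (j : ℕ))⁻¹ :=
          congrArg (fun a : E => ((a.1 : (Q : Subgroup G)) : G)) h
        exact w.2.2.1 (Subtype.ext (by simpa using h'.symm))
      · exfalso
        have h' : y ^ (i : ℕ) * ((z.1 : (Q : Subgroup G)) : G) * (y ^ (i : ℕ))⁻¹ = (1 : G) :=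
          congrArg (fun a : E => ((a.1 : (Q : Subgroup G)) : G)) h
        exact z.2.2.1 (Subtype.ext (by simpa using h'))
      · rcases le_total (i : ℕ) j with hle | hle
        · rw [key i j z w hle h]
        · rw [key j i w z hle h.symm]
    have hEge := Nat.card_le_card_of_injective Φ hΦ
    rw [Finite.card_option, Nat.card_prod, Nat.card_fin] at hEge
    -- `r` divides the index of `H₀` in `H`
    have hre : r ∣ e := by
      by_contra hre
      obtain ⟨z, hz⟩ : ∃ z : (Q : Subgroup G), (z : G) = (z0 : G) := ⟨⟨_, hz0Q⟩, rfl⟩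
      have hall : ∀ a : (Q : Subgroup G), (a : G) ∈ H0 := by
        intro a
        rw [← hfker]
        have h1'' : orderOf (f a) ∣ e := by
          rw [he]
          exact Subgroup.orderOf_dvd_natCard _ ⟨Subgroup.inclusion hQH a, by rw [hf]; rfl⟩
        obtain ⟨j, hj⟩ := IsPGroup.iff_card.mp Q.isPGroup'
        have h2'' : orderOf (f a) ∣ r ^ j := (orderOf_map_dvd f a).trans (hj ▸ orderOf_dvd_natCard a)
        obtain ⟨i, -, hi⟩ := (Nat.dvd_prime_pow hr).mp h2''
        rcases i with _ | i
        · exact orderOf_eq_one_iff.mp (by simpa using hi)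
        · exact absurd ((dvd_pow_self r (Nat.succ_ne_zero i)).trans (hi ▸ h1'')) hre
      exact hmove r Q hrp hr y hyk hyn hync _ hz0Q z0.2 hz01 (hall ⟨_, hyn _ hz0Q⟩)
    have hrlt : r < p :=
      lt_of_le_of_lt (Nat.le_of_dvd (by have := hp.two_le; omega) (hre.trans hedvd)) hp1
    have hnum : p * (r - 1) + 1 ≤ r * r := by
      have : p * (r - 1) ≤ p * Nat.card Z0 := Nat.mul_le_mul_left p (by omega)
      omega
    have hp_eq : p = r + 1 := by
      rcases eq_or_lt_of_le (Nat.succ_le_of_lt hrlt) with h | h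
      · exact h.symm
      · exfalso
        obtain ⟨s, rfl⟩ : ∃ s, r = s + 2 := ⟨r - 2, by have := hr.two_le; omega⟩
        have h3 : (s + 4) * (s + 1) ≤ p * (s + 1) := Nat.mul_le_mul_right _ (by omega)
        have h4 : p * (s + 2 - 1) = p * (s + 1) := by congr 1
        nlinarith
    have hr2 : r = 2 := by
      rcases hp.eq_two_or_odd' with h | ⟨c, hc⟩
      · have := hr.two_le; omega
      · rcases hr.eq_two_or_odd' with h | ⟨d, hd⟩
        · exact h
        · omega
    exact ⟨hr2, by omega, Q, y, hQH, hQmem, hyk, hyn, hync, hyp⟩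
  -- so `p = 3` and `H` is a four-group
  have hHne : Nat.card H ≠ 1 := fun h => he1 (Nat.eq_one_of_mul_eq_one_right (hcardH.symm.trans h))
  obtain ⟨r, hr, hrH⟩ := Nat.exists_prime_and_dvd hHne
  obtain ⟨rfl, rfl, Q, y, hQH, hQmem, hyk, hyn, hync, hyp⟩ := hprimes r hr hrH
  haveI : Fact (Nat.Prime 2) := ⟨Nat.prime_two⟩
  have hH2pow : ∃ j, Nat.card H = 2 ^ j :=
    ⟨_, Nat.eq_prime_pow_of_unique_prime_dvd Nat.card_pos.ne'
      fun {d} hd hdH => (hprimes d hd hdH).1⟩
  obtain ⟨j, hj⟩ := hH2pow
  have hQeq : (Q : Subgroup G) = H := le_antisymm hQH fun a ha => hQmem a ha ⟨j, by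
    rw [← hj]; exact orderOf_dvd_iff_pow_eq_one.mp (Subgroup.orderOf_dvd_natCard H ha)⟩
  rw [hQeq] at hyn hync hyp
  have hmv := hmove 2 Q (by norm_num) Nat.prime_two y hyk (hQeq.symm ▸ hyn) (hQeq.symm ▸ hync)
  rw [hQeq] at hmv
  have he2 : e = 2 := by
    have : e ≤ 2 := Nat.le_of_dvd (by norm_num) hedvd
    have : e ≠ 0 := fun h => Nat.card_pos.ne' (hcardH.trans (by rw [h, zero_mul]))
    omega
  have hMu2 : Nat.card (MulAut X) = 2 := by rw [hMucard]
  have hH02 : Nat.card H0 = 2 := by
    have hle : Nat.card H0 ≤ 2 := by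
      rw [← hMu2]
      refine Nat.card_le_card_of_injective
        (fun z : H0 => ψ ⟨y * (z : G) * y⁻¹, hyn _ (hH0le z.2)⟩) fun a b hab' => ?_
      have h' : ψ (⟨y * (a : G) * y⁻¹, hyn _ (hH0le a.2)⟩ *
          (⟨y * (b : G) * y⁻¹, hyn _ (hH0le b.2)⟩ : H)⁻¹) = 1 := by
        rw [map_mul, map_inv, mul_inv_eq_one]; exact hab'
      rw [hψ] at h'
      simp only [Subgroup.coe_mul, InvMemClass.coe_inv] at h'
      by_contra hne
      refine hmv ((a : G) * (b : G)⁻¹) (hH0le (mul_mem a.2 (inv_mem b.2)))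
        (mul_mem a.2 (inv_mem b.2)) (fun h => hne (Subtype.ext (mul_inv_eq_one.mp h))) ?_
      convert h' using 1
      group
    have h2 : 2 ∣ Nat.card H0 := hallH0 2 Nat.prime_two hrH
    have := Nat.le_of_dvd Nat.card_pos h2
    omega
  have hH4 : Nat.card H = 4 := by rw [hcardH, he2, hH02]
  obtain ⟨h0', hh0⟩ := exists_prime_orderOf_dvd_card' (G := H0) 2 (dvd_of_eq hH02.symm)
  obtain ⟨h0, hh0def⟩ : ∃ h0 : G, h0 = (h0' : G) := ⟨_, rfl⟩
  have hh0o : orderOf h0 = 2 := by rw [hh0def, Subgroup.orderOf_coe]; exact hh0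
  have hh0H0 : h0 ∈ H0 := hh0def ▸ h0'.2
  have hh01 : h0 ≠ 1 := fun h => by rw [h, orderOf_one] at hh0o; omega
  have hH0el : ∀ g ∈ H0, g = 1 ∨ g = h0 := by
    intro g hg
    by_contra hcon
    push Not at hcon
    have : ({⟨1, H0.one_mem⟩, ⟨g, hg⟩, ⟨h0, hh0H0⟩} : Set H0).ncard = 3 := by
      rw [Set.ncard_eq_three]
      exact ⟨_, _, _, by simp [Subtype.ext_iff, Ne.symm hcon.1],
        by simp [Subtype.ext_iff, Ne.symm hh01], by simp [Subtype.ext_iff, hcon.2], rfl⟩
    have := this.symm.le.trans (Set.ncard_le_card _)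
    rw [hH02] at this
    omega
  have hh0H : h0 ∈ H := hH0le hh0H0
  -- the two conjugates
  obtain ⟨z1, hz1⟩ : ∃ z, z = y * h0 * y⁻¹ := ⟨_, rfl⟩
  obtain ⟨z2, hz2⟩ : ∃ z, z = y * z1 * y⁻¹ := ⟨_, rfl⟩
  have hz1H : z1 ∈ H := hz1 ▸ hyn _ hh0H
  have hz2H : z2 ∈ H := hz2 ▸ hyn _ hz1H
  have hz1n : z1 ∉ H0 := hz1 ▸ hmv h0 hh0H hh0H0 hh01
  have hz2h0 : z2 ≠ h0 := by
    intro h
    apply hz1n
    have h3 : y * z2 * y⁻¹ = h0 := by
      have h3' : y ^ 3 * h0 * (y ^ 3)⁻¹ = h0 := by rw [hyp h0 hh0H, mul_inv_cancel_right]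
      rw [hz2, hz1]
      simpa [pow_succ, mul_assoc] using h3'
    rw [h] at h3
    rw [hz1, h3]
    exact hh0H0
  have hinv : ∀ a ∈ H, a ≠ 1 → ∃ g : G, a = g * h0 * g⁻¹ := by
    intro a ha ha1
    by_contra hcon
    push Not at hcon
    have hz21 : z2 ≠ z1 := by
      intro h
      rw [hz2, hz1] at h
      apply hz1n
      rw [hz1]
      have : y * h0 * y⁻¹ = h0 := mul_left_cancel (mul_right_cancel h)
      rw [this]; exact hh0H0
    have n1 : a ≠ h0 := fun h => hcon 1 (by simpa using h)
    have n2 : a ≠ z1 := fun h => hcon y (h.trans hz1)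
    have n3 : a ≠ z2 := fun h => hcon (y * y) (by rw [h, hz2, hz1]; group)
    have n4 : z1 ≠ 1 := fun h => hz1n (h ▸ H0.one_mem)
    have n5 : z2 ≠ 1 := fun h => n4 (by rw [hz2] at h; simpa using h)
    have n6 : h0 ≠ z1 := fun h => hz1n (h ▸ hh0H0)
    have hsub : (({1, a, h0, z1, z2} : Finset G) : Set G) ⊆ (H : Set G) := by
      intro x hx
      simp only [Finset.coe_insert, Finset.coe_singleton, Set.mem_insert_iff,
        Set.mem_singleton_iff] at hx
      rcases hx with rfl | rfl | rfl | rfl | rfl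
      exacts [H.one_mem, ha, hh0H, hz1H, hz2H]
    have hcard5 : ({1, a, h0, z1, z2} : Finset G).card = 5 := by
      rw [Finset.card_insert_of_notMem, Finset.card_insert_of_notMem, Finset.card_insert_of_notMem,
        Finset.card_insert_of_notMem, Finset.card_singleton] <;>
        simp [Ne.symm ha1, Ne.symm hh01, Ne.symm n4, Ne.symm n5, n1, n2, n3, n6, Ne.symm hz2h0,
          Ne.symm hz21]
    have := Set.ncard_le_ncard hsub
    rw [Set.ncard_coe_finset, hcard5, ← Nat.card_coe_set_eq] at this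
    change 5 ≤ Nat.card H at this
    omega
  have hHsq : ∀ a ∈ H, a * a = 1 := by
    intro a ha
    by_cases ha1 : a = 1
    · simp [ha1]
    obtain ⟨g, rfl⟩ := hinv a ha ha1
    have : h0 * h0 = 1 := by rw [← pow_two, ← hh0o, pow_orderOf_eq_one]
    rw [show g * h0 * g⁻¹ * (g * h0 * g⁻¹) = g * (h0 * h0) * g⁻¹ by group, this]
    simp
  -- the centralizer of `h0` is `N`
  have hCh0 : ∀ g, g * h0 = h0 * g ↔ g ∈ N := by
    intro g
    constructor
    · exact hH0N h0 hh0H hh01 (by
        rw [Subgroup.mem_centralizer_iff]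
        exact fun w hw => ((hH0mem.mp hh0H0).2 w hw).symm) g
    · intro hg
      obtain ⟨a, ha, h, hh, rfl⟩ := hdec g hg
      rw [mul_assoc, hHcomm h hh h0 hh0H, ← mul_assoc, ← (hH0mem.mp hh0H0).2 a ha, mul_assoc]
  -- every involution is conjugate to `h0`
  have hall : ∀ s : G, orderOf s = 2 → ∃ g : G, s = g * h0 * g⁻¹ := by
    intro s hs
    obtain ⟨R, hR⟩ := (isPGroup_zpowers (p := 2) s 1 (by
      rw [pow_one, ← hs, pow_orderOf_eq_one])).exists_le_sylow
    obtain ⟨g, hg⟩ := MulAction.exists_smul_eq G R Q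
    have hsH : g * s * g⁻¹ ∈ H := by
      rw [← hQeq, ← hg]
      exact Subgroup.mem_map_of_mem (MulAut.conj g).toMonoidHom (hR (Subgroup.mem_zpowers s))
    obtain ⟨k, hk⟩ := hinv _ hsH (fun h => by
      have : s = 1 := by simpa using h
      rw [this, orderOf_one] at hs; omega)
    refine ⟨g⁻¹ * k, ?_⟩
    have : s = g⁻¹ * (g * s * g⁻¹) * g := by group
    rw [this, hk]; group
  have hinvol : ∀ {s : G}, orderOf s = 2 → s * s = 1 := fun h => by
    rw [← pow_two, ← h, pow_orderOf_eq_one]
  have hinvol' : ∀ {s : G}, s * s = 1 → s ≠ 1 → orderOf s = 2 := fun h1 h2 =>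
    orderOf_eq_prime (by rw [pow_two]; exact h1) h2
  let V := {s : G // orderOf s = 2}
  let adj : V → V → Prop := fun s t => s ≠ t ∧ (s : G) * t = t * s
  let v0 : V := ⟨h0, hh0o⟩
  obtain ⟨k, hkdef⟩ : ∃ k, k = (Finset.univ.filter fun w => adj v0 w).card := ⟨_, rfl⟩
  refine no_regular_friendship adj k ?_ (fun s t h => ⟨h.1.symm, h.2.symm⟩) (fun s h => h.1 rfl)
    ?_ ?_ v0
  · -- at least three neighbours
    obtain ⟨x, hx, hxne⟩ : ∃ x ∈ (P : Subgroup G), z1 * x ≠ x * z1 := by
      by_contra hcon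
      push Not at hcon
      exact hz1n (hH0mem.mpr ⟨hz1H, hcon⟩)
    have hcomm : ∀ g ∈ N, h0 * g = g * h0 := fun g hg => ((hCh0 g).mpr hg).symm
    have o1 : orderOf z1 = 2 := hinvol' (hHsq _ hz1H) (fun h => hz1n (h ▸ H0.one_mem))
    have o2 : orderOf (x * z1 * x⁻¹) = 2 := ((MulAut.conj x).orderOf_eq z1).trans o1
    have o3 : orderOf (h0 * z1) = 2 := hinvol' (hHsq _ (mul_mem hh0H hz1H)) (fun h => by
      have h' : z1 = h0⁻¹ := (inv_eq_of_mul_eq_one_right h).symm
      exact hz1n (h' ▸ inv_mem hh0H0))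
    have hz1h0 : z1 ≠ h0 := fun h => hz1n (h ▸ hh0H0)
    let S : Finset V := {⟨z1, o1⟩, ⟨x * z1 * x⁻¹, o2⟩, ⟨h0 * z1, o3⟩}
    have hS3 : S.card = 3 := by
      have d1 : z1 ≠ x * z1 * x⁻¹ := fun h => hxne (by
        conv_lhs => rw [h]
        rw [inv_mul_cancel_right])
      have d2 : z1 ≠ h0 * z1 := fun h => hh01 (by simpa using h.symm)
      have d3 : x * z1 * x⁻¹ ≠ h0 * z1 := by
        intro h
        have hP : x * z1 * x⁻¹ * z1⁻¹ ∈ (P : Subgroup G) := by
          rw [show x * z1 * x⁻¹ * z1⁻¹ = x * (z1 * x⁻¹ * z1⁻¹) by group]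
          exact mul_mem hx
            ((Subgroup.mem_normalizer_iff.mp (hNdef ▸ hHN hz1H) _).mp (inv_mem hx))
        rw [h, mul_inv_cancel_right] at hP
        obtain ⟨a, ha⟩ := orderOf_mem_sylow P hP
        rw [hh0o] at ha
        rcases a with _ | a
        · simp at ha
        · have : 3 ∣ 2 := ha ▸ dvd_pow_self 3 (Nat.succ_ne_zero a)
          omega
      simp only [S]
      rw [Finset.card_insert_of_notMem, Finset.card_insert_of_notMem, Finset.card_singleton]
      · rw [Finset.mem_singleton]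
        exact fun h => d3 (congrArg Subtype.val h)
      · simp only [Finset.mem_insert, Finset.mem_singleton, not_or]
        exact ⟨fun h => d1 (congrArg Subtype.val h), fun h => d2 (congrArg Subtype.val h)⟩
    rw [hkdef, ← hS3]
    refine Finset.card_le_card ?_
    intro w hw
    simp only [Finset.mem_filter, Finset.mem_univ, true_and]
    simp only [S, Finset.mem_insert, Finset.mem_singleton] at hw
    rcases hw with rfl | rfl | rfl
    · exact ⟨fun h => hz1h0 (congrArg Subtype.val h).symm, hcomm _ (hHN hz1H)⟩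
    · refine ⟨fun h => hz1h0 ?_, hcomm _ (mul_mem (mul_mem (hPN hx) (hHN hz1H))
        (inv_mem (hPN hx)))⟩
      have h' : h0 = x * z1 * x⁻¹ := congrArg Subtype.val h
      have h2 : h0 * x = x * h0 := (hH0mem.mp hh0H0).2 x hx
      rw [h', inv_mul_cancel_right] at h2
      have := mul_left_cancel h2
      rw [this, h']
    · refine ⟨fun h => ?_, hcomm _ (hHN (mul_mem hh0H hz1H))⟩
      have h' : h0 = h0 * z1 := congrArg Subtype.val h
      have h'' : z1 = 1 := by simpa using h'.symm
      exact hz1n (h'' ▸ H0.one_mem)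
  · -- regularity
    intro v
    obtain ⟨g, hg⟩ := hall v v.2
    rw [hkdef]
    symm
    refine Finset.card_nbij' (fun w => ⟨g * w * g⁻¹, by
        exact ((MulAut.conj g).orderOf_eq (w : G)).trans w.2⟩)
      (fun w => ⟨g⁻¹ * w * g, by
        have := ((MulAut.conj g⁻¹).orderOf_eq (w : G)).trans w.2
        simpa using this⟩) ?_ ?_ ?_ ?_
    · intro w hw
      simp only [Finset.coe_filter, Finset.mem_univ, true_and, Set.mem_setOf_eq] at hw ⊢
      refine ⟨fun h => hw.1 (Subtype.ext ?_), ?_⟩
      · have h' : (v : G) = g * w * g⁻¹ := congrArg Subtype.val h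
        rw [hg] at h'
        show h0 = (w : G)
        simpa using h'
      · show (v : G) * (g * w * g⁻¹) = g * w * g⁻¹ * v
        have h' : h0 * (w : G) = w * h0 := hw.2
        rw [hg]
        calc g * h0 * g⁻¹ * (g * w * g⁻¹) = g * (h0 * w) * g⁻¹ := by group
          _ = g * (w * h0) * g⁻¹ := by rw [h']
          _ = g * w * g⁻¹ * (g * h0 * g⁻¹) := by group
    · intro w hw
      simp only [Finset.coe_filter, Finset.mem_univ, true_and, Set.mem_setOf_eq] at hw ⊢
      refine ⟨fun h => hw.1 (Subtype.ext ?_), ?_⟩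
      · have h' : h0 = g⁻¹ * w * g := congrArg Subtype.val h
        rw [hg, h']; group
      · show h0 * (g⁻¹ * w * g) = g⁻¹ * w * g * h0
        have h' : (v : G) * w = w * v := hw.2
        rw [hg] at h'
        calc h0 * (g⁻¹ * w * g) = g⁻¹ * (g * h0 * g⁻¹ * w) * g := by group
          _ = g⁻¹ * (w * (g * h0 * g⁻¹)) * g := by rw [h']
          _ = g⁻¹ * w * g * h0 := by group
    · intro w _
      apply Subtype.ext
      show g⁻¹ * (g * w * g⁻¹) * g = w
      group
    · intro w _
      apply Subtype.ext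
      show g * (g⁻¹ * w * g) * g⁻¹ = w
      group
  · -- common neighbour
    intro v w hvw
    have hvw' : (v : G) ≠ w := fun h => hvw (Subtype.ext h)
    by_cases hcvw : (v : G) * w = w * v
    · have hv2 := hinvol v.2
      have hw2 := hinvol w.2
      have ho : orderOf ((v : G) * w) = 2 := hinvol' (by
        calc (v : G) * w * ((v : G) * w) = v * (w * v) * w := by group
          _ = v * (v * w) * w := by rw [hcvw]
          _ = (v : G) * v * ((w : G) * w) := by group
          _ = 1 := by rw [hv2, hw2, one_mul]) (fun h => hvw' (by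
            rw [← mul_one (v : G), ← hw2, ← mul_assoc, h, one_mul]))
      refine ⟨⟨(v : G) * w, ho⟩, ⟨⟨?_, ?_⟩, ⟨?_, ?_⟩⟩, ?_⟩
      · intro h
        have h' : (v : G) = v * w := congrArg Subtype.val h
        have : (w : G) = 1 := by simpa using h'.symm
        exact absurd w.2 (by rw [this, orderOf_one]; omega)
      · show (v : G) * (v * w) = v * w * v
        rw [mul_assoc (v : G) (w : G) v, ← hcvw]
      · intro h
        have h' : (v : G) * w = w := congrArg Subtype.val h
        have : (v : G) = 1 := by simpa using h'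
        exact absurd v.2 (by rw [this, orderOf_one]; omega)
      · show (v : G) * w * w = w * (v * w)
        rw [← mul_assoc, ← hcvw]
      · rintro ⟨u, hu⟩ ⟨⟨hne1, hc1⟩, ⟨hne2, hc2⟩⟩
        apply Subtype.ext
        show u = (v : G) * w
        change (v : G) * u = u * v at hc1
        change u * (w : G) = w * u at hc2
        have hne1' : (v : G) ≠ u := fun h => hne1 (Subtype.ext h)
        have hne2' : u ≠ (w : G) := fun h => hne2 (Subtype.ext h)
        obtain ⟨g, hg⟩ := hall v v.2
        have hin : ∀ a : G, (v : G) * a = a * v → g⁻¹ * a * g ∈ N := fun a ha => by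
          rw [← hCh0]
          rw [hg] at ha
          calc g⁻¹ * a * g * h0 = g⁻¹ * (a * (g * h0 * g⁻¹)) * g := by group
            _ = g⁻¹ * (g * h0 * g⁻¹ * a) * g := by rw [ha]
            _ = h0 * (g⁻¹ * a * g) := by group
        -- the three involutions generate an elementary abelian `2`-group
        let gens : Set G := {(v : G), (w : G), u}
        have hgc : ∀ a ∈ gens, ∀ b ∈ gens, a * b = b * a := by
          simp only [gens, Set.mem_insert_iff, Set.mem_singleton_iff]
          rintro a (rfl | rfl | rfl) b (rfl | rfl | rfl)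
          all_goals first | rfl | assumption | (symm; assumption)
        have hL2 : IsPGroup 2 (Subgroup.closure gens) := by
          rintro ⟨a, ha⟩
          refine ⟨1, Subtype.ext ?_⟩
          rw [Subgroup.coe_pow, pow_one, Subgroup.coe_one]
          show a ^ 2 = 1
          haveI := Subgroup.isMulCommutative_closure hgc
          induction ha using Subgroup.closure_induction with
          | mem x hx =>
            simp only [gens, Set.mem_insert_iff, Set.mem_singleton_iff] at hx
            rw [pow_two]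
            rcases hx with rfl | rfl | rfl
            exacts [hv2, hw2, hinvol hu]
          | one => simp
          | mul x z hx hz ihx ihz =>
            have hc : Commute x z :=
              congrArg Subtype.val (IsMulCommutative.is_comm.comm
                (⟨x, hx⟩ : Subgroup.closure gens) ⟨z, hz⟩)
            rw [hc.mul_pow, ihx, ihz, one_mul]
          | inv x _ ih => rw [inv_pow, ih, inv_one]
        obtain ⟨R, hR⟩ := hL2.exists_le_sylow
        have hRc : Nat.card (R : Subgroup G) = 4 := by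
          rw [← hH4, ← hQeq, R.card_eq_multiplicity, Q.card_eq_multiplicity]
        by_contra hneu
        have n0 : (v : G) ≠ 1 := fun h => absurd v.2 (by rw [h, orderOf_one]; omega)
        have n0' : (w : G) ≠ 1 := fun h => absurd w.2 (by rw [h, orderOf_one]; omega)
        have n0'' : u ≠ 1 := fun h => absurd hu (by rw [h, orderOf_one]; omega)
        have n1 : (v : G) * w ≠ 1 := fun h => by rw [h, orderOf_one] at ho; omega
        have n2 : (v : G) * w ≠ v := fun h => n0' (by simpa using h)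
        have n3 : (v : G) * w ≠ w := fun h => n0 (by simpa using h)
        have hv' := hR (Subgroup.subset_closure (show (v : G) ∈ gens by simp [gens]))
        have hw' := hR (Subgroup.subset_closure (show (w : G) ∈ gens by simp [gens]))
        have hu' := hR (Subgroup.subset_closure (show u ∈ gens by simp [gens]))
        have hsub : (({1, (v : G), (w : G), u, (v : G) * w} : Finset G) : Set G) ⊆
            ((R : Subgroup G) : Set G) := by
          intro x hx
          simp only [Finset.coe_insert, Finset.coe_singleton, Set.mem_insert_iff,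
            Set.mem_singleton_iff] at hx
          rcases hx with rfl | rfl | rfl | rfl | rfl
          exacts [Subgroup.one_mem _, hv', hw', hu', mul_mem hv' hw']
        have hcard5 : ({1, (v : G), (w : G), u, (v : G) * w} : Finset G).card = 5 := by
          rw [Finset.card_insert_of_notMem, Finset.card_insert_of_notMem,
            Finset.card_insert_of_notMem, Finset.card_insert_of_notMem, Finset.card_singleton] <;>
            simp [Ne.symm n0, Ne.symm n0', Ne.symm n0'', Ne.symm n1, Ne.symm n2, Ne.symm n3,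
              hvw', hne1', Ne.symm hne2', hneu]
        have := Set.ncard_le_ncard hsub
        rw [Set.ncard_coe_finset, hcard5, ← Nat.card_coe_set_eq] at this
        change 5 ≤ Nat.card (R : Subgroup G) at this
        omega
    · obtain ⟨s, hsdef⟩ : ∃ s, s = (v : G) := ⟨_, rfl⟩
      obtain ⟨t, htdef⟩ : ∃ t, t = (w : G) := ⟨_, rfl⟩
      have hs2 : s * s = 1 := hsdef ▸ hinvol v.2
      have ht2 : t * t = 1 := htdef ▸ hinvol w.2
      have hsi : s⁻¹ = s := inv_eq_of_mul_eq_one_right hs2
      have hti : t⁻¹ = t := inv_eq_of_mul_eq_one_right ht2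
      rw [← hsdef, ← htdef] at hcvw
      -- the dihedral group generated by `s` and `t`
      obtain ⟨c, hc⟩ : ∃ c, c = s * t := ⟨_, rfl⟩
      have hsc : s * c * s⁻¹ = c⁻¹ := by
        rw [hc, mul_inv_rev, hsi, hti]
        rw [← mul_assoc, hs2, one_mul]
      have hscz : ∀ i : ℤ, s * c ^ i * s⁻¹ = c ^ (-i) := fun i => by
        rw [← conj_zpow, hsc, inv_zpow, zpow_neg]
      have htc : t = s * c := by rw [hc, ← mul_assoc, hs2, one_mul]
      let D : Subgroup G :=
        { carrier := {g | ∃ i : ℤ, g = c ^ i ∨ g = c ^ i * s}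
          one_mem' := ⟨0, Or.inl (by simp)⟩
          mul_mem' := by
            rintro a b ⟨i, ha⟩ ⟨j, hb⟩
            have hsj : s * c ^ j = c ^ (-j) * s := by
              rw [← hscz j, inv_mul_cancel_right]
            rcases ha with rfl | rfl <;> rcases hb with rfl | rfl
            · exact ⟨i + j, Or.inl (zpow_add c i j).symm⟩
            · exact ⟨i + j, Or.inr (by rw [zpow_add, mul_assoc])⟩
            · exact ⟨i - j, Or.inr (by
                rw [mul_assoc, hsj, ← mul_assoc, ← zpow_add, sub_eq_add_neg])⟩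
            · exact ⟨i - j, Or.inl (by
                rw [mul_assoc, ← mul_assoc s, hsj, mul_assoc, hs2, mul_one, ← zpow_add,
                  sub_eq_add_neg])⟩
          inv_mem' := by
            rintro a ⟨i, ha⟩
            rcases ha with rfl | rfl
            · exact ⟨-i, Or.inl (zpow_neg c i).symm⟩
            · refine ⟨i, Or.inr ?_⟩
              rw [mul_inv_rev, hsi, ← zpow_neg]
              have := hscz (-i)
              rw [neg_neg, hsi] at this
              calc s * c ^ (-i) = s * c ^ (-i) * s * s := by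
                    rw [mul_assoc (s * c ^ (-i)), hs2, mul_one]
                _ = c ^ i * s := by rw [this] }
      have hsD : s ∈ D := ⟨0, Or.inr (by simp)⟩
      have hcD : c ∈ D := ⟨1, Or.inl (by simp)⟩
      have htD : t ∈ D := htc ▸ mul_mem hsD hcD
      have h3c : 3 ∣ orderOf c := by
        by_contra h3
        have hDp : ¬ 3 ∣ Nat.card D := by
          intro hd
          obtain ⟨d, hg⟩ := exists_prime_orderOf_dvd_card' (G := D) 3 hd
          obtain ⟨g, hgd⟩ : ∃ g, g = (d : G) := ⟨_, rfl⟩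
          have hg' : orderOf g = 3 := by
            rw [hgd, Subgroup.orderOf_coe]; exact hg
          obtain ⟨i, hgi⟩ : ∃ i : ℤ, g = c ^ i ∨ g = c ^ i * s := hgd ▸ d.2
          rcases hgi with hgi | hgi
          · apply h3
            rw [← hg', hgi]
            exact orderOf_dvd_of_mem_zpowers ⟨i, rfl⟩
          · have : g * g = 1 := by
              rw [hgi]
              calc c ^ i * s * (c ^ i * s) = c ^ i * (s * c ^ i * s⁻¹) * (s * s) := by group
                _ = 1 := by rw [hscz, hs2, mul_one, ← zpow_add, add_neg_cancel, zpow_zero]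
            have h2 : orderOf g ∣ 2 := orderOf_dvd_of_pow_eq_one (by rw [pow_two]; exact this)
            rw [hg'] at h2
            omega
        exact hcvw (congrArg Subtype.val ((hab D hDp).is_comm.comm ⟨s, hsD⟩ ⟨t, htD⟩))
      obtain ⟨m, hm⟩ := h3c
      obtain ⟨x, hxdef⟩ : ∃ x, x = c ^ (m : ℤ) := ⟨_, rfl⟩
      have hxo : orderOf x = 3 := by
        rw [hxdef, zpow_natCast, orderOf_pow_of_dvd (by
          rintro rfl
          exact (orderOf_pos c).ne' (by simpa using hm)) (hm ▸ dvd_mul_left m 3), hm,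
          Nat.mul_div_cancel _ (Nat.pos_of_ne_zero (by
          rintro rfl
          exact (orderOf_pos c).ne' (by simpa using hm)))]
      have hsx : s * x * s⁻¹ = x⁻¹ := by rw [hxdef, hscz, zpow_neg]
      have htx : t * x * t⁻¹ = x⁻¹ := by
        rw [htc, mul_inv_rev]
        calc s * c * x * (c⁻¹ * s⁻¹) = s * (c * x * c⁻¹) * s⁻¹ := by group
          _ = s * x * s⁻¹ := by
              congr 2
              rw [hxdef]
              group
          _ = x⁻¹ := hsx
      obtain ⟨R, hR⟩ := (isPGroup_zpowers (p := 3) x 1 (by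
        rw [pow_one, ← hxo, pow_orderOf_eq_one])).exists_le_sylow
      obtain ⟨g, hg⟩ := MulAction.exists_smul_eq G R P
      obtain ⟨x', hx'⟩ : ∃ x', x' = g * x * g⁻¹ := ⟨_, rfl⟩
      have hx'P : x' ∈ (P : Subgroup G) := by
        rw [hx', ← hg]
        exact Subgroup.mem_map_of_mem (MulAut.conj g).toMonoidHom (hR (Subgroup.mem_zpowers x))
      have hx1 : x ≠ 1 := fun h => by rw [h, orderOf_one] at hxo; omega
      have hx'1 : x' ≠ 1 := by rw [hx']; simpa using hx1
      have hinN : ∀ a : G, a * x * a⁻¹ = x⁻¹ → g * a * g⁻¹ ∈ N := by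
        intro a ha
        apply hXN x' hx'P hx'1
        have hconj : g * a * g⁻¹ * x' * (g * a * g⁻¹)⁻¹ = x'⁻¹ := by
          rw [hx']
          calc g * a * g⁻¹ * (g * x * g⁻¹) * (g * a * g⁻¹)⁻¹ = g * (a * x * a⁻¹) * g⁻¹ := by group
            _ = (g * x * g⁻¹)⁻¹ := by rw [ha]; group
        rw [Subgroup.mem_normalizer_iff]
        intro z
        constructor
        · rintro ⟨i, rfl⟩
          refine ⟨-i, ?_⟩
          show x' ^ (-i) = g * a * g⁻¹ * x' ^ i * (g * a * g⁻¹)⁻¹
          rw [← conj_zpow, hconj, inv_zpow, zpow_neg]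
        · rintro ⟨i, hi⟩
          refine ⟨-i, ?_⟩
          change x' ^ i = g * a * g⁻¹ * z * (g * a * g⁻¹)⁻¹ at hi
          show x' ^ (-i) = z
          apply mul_left_cancel (a := g * a * g⁻¹)
          apply mul_right_cancel (b := (g * a * g⁻¹)⁻¹)
          rw [← hi, ← conj_zpow, hconj, inv_zpow, zpow_neg, inv_inv]
      obtain ⟨u, hudef⟩ : ∃ u, u = g⁻¹ * h0 * g := ⟨_, rfl⟩
      have huo : orderOf u = 2 := by
        rw [hudef, ← hh0o]
        simpa using (MulAut.conj g⁻¹).orderOf_eq h0
      have hucomm : ∀ a : G, g * a * g⁻¹ ∈ N → a * u = u * a := by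
        intro a ha
        have h' := (hCh0 _).mpr ha
        calc a * u = g⁻¹ * (g * a * g⁻¹ * h0) * g := by rw [hudef]; group
          _ = g⁻¹ * (h0 * (g * a * g⁻¹)) * g := by rw [h']
          _ = u * a := by rw [hudef]; group
      have hux : u * x = x * u := (hucomm x (by rw [← hx']; exact hPN hx'P)).symm
      have hxx : x⁻¹ ≠ x := fun h => by
        have h2 : x ^ 2 = 1 := by
          rw [pow_two]; nth_rewrite 1 [← h]; rw [inv_mul_cancel]
        have := orderOf_dvd_of_pow_eq_one h2
        rw [hxo] at this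
        omega
      refine ⟨⟨u, huo⟩, ⟨⟨?_, ?_⟩, ⟨?_, ?_⟩⟩, ?_⟩
      · intro h
        have h' : s = u := hsdef.trans (congrArg Subtype.val h)
        rw [h', hux, mul_inv_cancel_right] at hsx
        exact hxx hsx.symm
      · show (v : G) * u = u * v
        rw [← hsdef]
        exact hucomm s (hinN s hsx)
      · intro h
        have h' : t = u := htdef.trans (congrArg Subtype.val h).symm
        rw [h', hux, mul_inv_cancel_right] at htx
        exact hxx htx.symm
      · show u * (w : G) = w * u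
        rw [← htdef]
        exact (hucomm t (hinN t htx)).symm
      · rintro ⟨u', hu'⟩ ⟨⟨-, hc1⟩, ⟨-, hc2⟩⟩
        apply Subtype.ext
        show u' = u
        change (v : G) * u' = u' * v at hc1
        change u' * (w : G) = w * u' at hc2
        rw [← hsdef] at hc1
        rw [← htdef] at hc2
        have hcx : Commute u' x := by
          rw [hxdef, hc]
          exact (Commute.mul_right (Commute.symm hc1) hc2).zpow_right _
        have hcomm' : g * u' * g⁻¹ * x' = x' * (g * u' * g⁻¹) := by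
          rw [hx']
          calc g * u' * g⁻¹ * (g * x * g⁻¹) = g * (u' * x) * g⁻¹ := by group
            _ = g * (x * u') * g⁻¹ := by rw [hcx.eq]
            _ = g * x * g⁻¹ * (g * u' * g⁻¹) := by group
        obtain ⟨a, ha, h, hh, hah⟩ := hCPdec _ (hC x' hx'P hx'1 _ hcomm')
        have hah2 : a * a * (h * h) = 1 := by
          have hco : h * a = a * h := (hH0mem.mp hh).2 a ha
          calc a * a * (h * h) = a * (a * h) * h := by group
            _ = a * (h * a) * h := by rw [hco]
            _ = a * h * (a * h) := by group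
            _ = g * (u' * u') * g⁻¹ := by rw [← hah]; group
            _ = 1 := by rw [hinvol hu']; simp
        rw [hHsq h (hH0le hh), mul_one] at hah2
        have ha1 : a = 1 := by
          by_contra ha1
          obtain ⟨b, hb⟩ := orderOf_mem_sylow P ha
          rw [hinvol' hah2 ha1] at hb
          rcases b with _ | b
          · simp at hb
          · have : 3 ∣ 2 := hb ▸ dvd_pow_self 3 (Nat.succ_ne_zero b)
            omega
        rw [ha1, one_mul] at hah
        rcases hH0el h hh with h1'' | h1''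
        · rw [h1''] at hah
          have : u' = 1 := by simpa using hah
          rw [this, orderOf_one] at hu'
          omega
        · rw [h1''] at hah
          rw [hudef, ← hah]; group

/-! ### Reductions -/

set_option maxHeartbeats 1000000 in
theorem aux {p : ℕ} [hpF : Fact p.Prime] (m : ℕ) :
    ∀ {G : Type u} [Group G] [Finite G], Nat.card G = m → ∀ (P : Sylow p G), IsCyclic P →
      (∀ H : Subgroup G, ¬ p ∣ Nat.card H → IsMulCommutative H) →
      Cfsg.HasNormalPComplement p G ∨ (P : Subgroup G).Normal := by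
  induction m using Nat.strong_induction_on with
  | _ m ih =>
  intro G _ _ hm P hcyc hab
  classical
  have hp : p.Prime := hpF.out
  by_contra hcon
  push Not at hcon
  obtain ⟨hnc, hnn⟩ := hcon
  have hNT : Subgroup.normalizer ((P : Subgroup G) : Set G) ≠ ⊤ := fun h =>
    hnn (Subgroup.normalizer_eq_top_iff.mp h)
  obtain ⟨N, hNdef⟩ : ∃ N, N = Subgroup.normalizer ((P : Subgroup G) : Set G) := ⟨_, rfl⟩
  rw [← hNdef] at hNT
  have hPN : (P : Subgroup G) ≤ N := hNdef ▸ Subgroup.le_normalizer
  have hab' : ∀ L : Subgroup G, ¬ p ∣ Nat.card L → ∀ a ∈ L, ∀ b ∈ L, a * b = b * a :=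
    fun L hL a ha b hb => congrArg Subtype.val ((hab L hL).is_comm.comm ⟨a, ha⟩ ⟨b, hb⟩)
  have hPne : (P : Subgroup G) ≠ ⊥ := fun h => hnn (h ▸ inferInstance)
  -- complement in the normalizer
  obtain ⟨H, hHN, hdec, hNcard, hHp⟩ : ∃ H : Subgroup G, H ≤ N ∧
      (∀ g ∈ N, ∃ a ∈ (P : Subgroup G), ∃ h ∈ H, g = a * h) ∧
      Nat.card N = Nat.card (P : Subgroup G) * Nat.card H ∧ ¬ p ∣ Nat.card H := by
    haveI hnP : ((P.subtype hPN : Sylow p N) : Subgroup N).Normal := by
      constructor
      intro a ha g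
      exact (Subgroup.mem_normalizer_iff.mp (hNdef ▸ g.2) (a : G)).mp ha
    obtain ⟨K, hK⟩ := Subgroup.exists_right_complement'_of_coprime
      (P.subtype hPN).card_coprime_index
    refine ⟨K.map N.subtype, Subgroup.map_subtype_le K, ?_, ?_, ?_⟩
    · intro g hg
      obtain ⟨⟨⟨a, ha⟩, ⟨b, hb⟩⟩, hab2⟩ := hK.2 ⟨g, hg⟩
      exact ⟨a, ha, b, ⟨b, hb, rfl⟩, (congrArg Subtype.val hab2).symm⟩
    · rw [← hK.card_mul_card, Subgroup.card_map_of_injective N.subtype_injective]
      congr 1
      exact Nat.card_congr (Subgroup.subgroupOfEquivOfLe hPN).toEquiv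
    · rw [Subgroup.card_map_of_injective N.subtype_injective, ← hK.symm.index_eq_card]
      exact (P.subtype hPN).not_dvd_index
  have hHord : ∀ h ∈ H, ¬ p ∣ orderOf h := fun h hh hd =>
    hHp (hd.trans (Subgroup.orderOf_dvd_natCard H hh))
  obtain ⟨h1, h1H, x1, hx1, h1x1⟩ : ∃ h1 ∈ H, ∃ x ∈ (P : Subgroup G), h1 * x ≠ x * h1 := by
    by_contra hcon
    push Not at hcon
    apply hnc
    have hle : Subgroup.normalizer ((P : Subgroup G) : Set G) ≤
        Subgroup.centralizer ((P : Subgroup G) : Set G) := by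
      intro g hg
      obtain ⟨a, ha, h, hh, rfl⟩ := hdec g (hNdef ▸ hg)
      rw [Subgroup.mem_centralizer_iff]
      intro x hx
      rw [mul_assoc, hcon h hh x hx, ← mul_assoc, ← mul_assoc, cyclic_comm P hcyc hx ha]
    exact ⟨P, _, MonoidHom.normal_ker _, MonoidHom.ker_transferSylow_isComplement' P hle⟩
  have h1N : h1 ∈ Subgroup.normalizer ((P : Subgroup G) : Set G) := hNdef ▸ hHN h1H
  -- induction
  have hInd : ∀ M : Subgroup G, M ≠ ⊤ →
      (∃ K : Subgroup M, K.Normal ∧ ∀ R : Sylow p M, K.IsComplement' (R : Subgroup M)) ∨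
        (∀ R : Sylow p M, (R : Subgroup M).Normal) := by
    intro M hM
    have hlt : Nat.card M < m := by
      rw [← hm]
      exact lt_of_le_of_ne (Subgroup.card_le_card_group M)
        fun h => hM (Subgroup.eq_top_of_card_eq M h)
    obtain ⟨R0⟩ : Nonempty (Sylow p M) := inferInstance
    have hR0 : IsCyclic R0 := by
      obtain ⟨S, hS⟩ := (R0.isPGroup'.map M.subtype).exists_le_sylow
      haveI : IsCyclic S :=
        isCyclic_of_surjective (P.equiv S).toMonoidHom (P.equiv S).surjective
      haveI := Subgroup.isCyclic_of_le hS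
      exact isCyclic_of_surjective
        (Subgroup.equivMapOfInjective _ _ M.subtype_injective).symm.toMonoidHom
        (Subgroup.equivMapOfInjective _ _ M.subtype_injective).symm.surjective
    have habM : ∀ L : Subgroup M, ¬ p ∣ Nat.card L → IsMulCommutative L := by
      intro L hL
      rw [← Subgroup.card_map_of_injective M.subtype_injective] at hL
      refine ⟨⟨fun a b => ?_⟩⟩
      exact Subtype.ext (Subtype.ext (hab' _ hL _ ⟨_, a.2, rfl⟩ _ ⟨_, b.2, rfl⟩))
    rcases ih _ hlt rfl R0 hR0 habM with ⟨R', K, hKn, hK⟩ | hn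
    · refine Or.inl ⟨K, hKn, fun R => ?_⟩
      refine Subgroup.isComplement'_of_coprime ?_ ?_
      · rw [← hK.card_mul_card, R.card_eq_multiplicity, R'.card_eq_multiplicity]
      · rw [← hK.index_eq_card, R.card_eq_multiplicity]
        exact Nat.Coprime.pow_right _ ((hp.coprime_iff_not_dvd).mpr R'.not_dvd_index).symm
    · refine Or.inr fun R => ?_
      haveI : Subsingleton (Sylow p M) := by
        have := Sylow.unique_of_normal R0 hn
        exact this.instSubsingleton
      rwa [Subsingleton.elim R R0]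
  -- a normal `p'`-subgroup is trivial
  have case1 : ∀ K : Subgroup G, K.Normal → ¬ p ∣ Nat.card K → K = ⊥ := by
    intro K hKn hKp
    by_contra hK
    have hKH := hab' _ (not_dvd_card_sup K H hKp hHp)
    have hh1K : h1 ∈ Subgroup.centralizer (K : Set G) := by
      rw [Subgroup.mem_centralizer_iff]
      exact fun k hk => hKH k ((le_sup_left : K ≤ K ⊔ H) hk) h1 ((le_sup_right : H ≤ K ⊔ H) h1H)
    obtain ⟨r, hr⟩ := sylow_conj_eq_zpow P hcyc h1N
    have hPK : (P : Subgroup G) ≤ Subgroup.centralizer (K : Set G) := by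
      intro x hx
      by_cases hx0 : x = 1
      · exact hx0 ▸ one_mem _
      have hmem : x ^ (r - 1) ∈ Subgroup.centralizer (K : Set G) := by
        rw [zpow_sub_one, ← hr x hx, show h1 * x * h1⁻¹ * x⁻¹ = h1 * (x * h1⁻¹ * x⁻¹) by group]
        exact mul_mem hh1K ((Subgroup.normal_centralizer (H := K)).conj_mem _ (inv_mem hh1K) x)
      obtain ⟨a, ha⟩ := orderOf_mem_sylow P hx
      have hco : IsCoprime (r - 1) (orderOf x : ℤ) := by
        rw [ha, Nat.cast_pow]
        apply IsCoprime.pow_right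
        apply IsCoprime.symm
        rw [(Nat.prime_iff_prime_int.mp hp).coprime_iff_not_dvd]
        intro hd
        rcases a with _ | a
        · exact hx0 (orderOf_eq_one_iff.mp (by simpa using ha))
        have hfix : h1 * x ^ p ^ a = x ^ p ^ a * h1 := by
          rw [← mul_inv_eq_iff_eq_mul, hr _ ((P : Subgroup G).pow_mem hx _)]
          have hone : (x ^ p ^ a) ^ p = 1 := by
            rw [← pow_mul, ← pow_succ, ← ha, pow_orderOf_eq_one]
          obtain ⟨b, hb⟩ := hd
          calc (x ^ p ^ a) ^ r = (x ^ p ^ a) ^ (1 + (p : ℤ) * b) := by rw [← hb]; congr 1; ring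
            _ = x ^ p ^ a := by
              rw [zpow_add, zpow_one, zpow_mul, zpow_natCast, hone, one_zpow, mul_one]
        have hne : x ^ p ^ a ≠ 1 := fun h => by
          have := Nat.le_of_dvd (pow_pos hp.pos a) (ha ▸ orderOf_dvd_of_pow_eq_one h)
          exact absurd this (not_le.mpr (Nat.pow_lt_pow_right hp.one_lt (Nat.lt_succ_self a)))
        exact h1x1 (cent_of_fix P hcyc h1N (hHord h1 h1H) ((P : Subgroup G).pow_mem hx _) hne
          hfix hx1)
      obtain ⟨s, t, hst⟩ := hco
      have : x = (x ^ (r - 1)) ^ s := by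
        calc x = x ^ (s * (r - 1) + t * (orderOf x : ℤ)) := by rw [hst, zpow_one]
          _ = (x ^ (r - 1)) ^ s := by
            rw [zpow_add, mul_comm s, mul_comm t, zpow_mul, zpow_mul, zpow_natCast,
              pow_orderOf_eq_one, one_zpow, mul_one]
      rw [this]
      exact zpow_mem hmem s
    -- pass to the quotient
    let π : G →* G ⧸ K := QuotientGroup.mk' K
    have hπ : Function.Surjective π := QuotientGroup.mk'_surjective K
    have hlt : Nat.card (G ⧸ K) < m := by
      rw [← hm, Subgroup.card_eq_card_quotient_mul_card_subgroup K]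
      exact lt_mul_of_one_lt_right Nat.card_pos (K.one_lt_card_iff_ne_bot.mpr hK)
    have hcycq : IsCyclic (P.mapSurjective hπ) := by
      haveI : IsCyclic (P : Subgroup G) := hcyc
      exact isCyclic_of_surjective (π.subgroupMap (P : Subgroup G))
        (π.subgroupMap_surjective _)
    have hcomap : ∀ L : Subgroup (G ⧸ K), ¬ p ∣ Nat.card L → ¬ p ∣ Nat.card (L.comap π) := by
      intro L hL hd
      obtain ⟨x, hx⟩ := exists_prime_orderOf_dvd_card' (G := L.comap π) p hd
      have hxo : orderOf (x : G) = p := by rw [Subgroup.orderOf_coe]; exact hx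
      have hd1 : orderOf (π x) ∣ p := hxo ▸ orderOf_map_dvd π (x : G)
      have hxK : (x : G) ∈ K := by
        rw [← QuotientGroup.eq_one_iff]
        rcases (Nat.dvd_prime hp).mp hd1 with h | h
        · exact orderOf_eq_one_iff.mp h
        · exact absurd (h ▸ Subgroup.orderOf_dvd_natCard L x.2) hL
      exact hKp (hxo ▸ Subgroup.orderOf_dvd_natCard K hxK)
    have habq : ∀ L : Subgroup (G ⧸ K), ¬ p ∣ Nat.card L → IsMulCommutative L := by
      intro L hL
      refine ⟨⟨fun a b => ?_⟩⟩
      obtain ⟨a', ha'⟩ := hπ a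
      obtain ⟨b', hb'⟩ := hπ b
      apply Subtype.ext
      show (a : G ⧸ K) * b = b * a
      rw [← ha', ← hb', ← map_mul, ← map_mul, hab' _ (hcomap L hL) a'
        (by rw [Subgroup.mem_comap, ha']; exact a.2) b'
        (by rw [Subgroup.mem_comap, hb']; exact b.2)]
    rcases ih _ hlt rfl (P.mapSurjective hπ) hcycq habq with ⟨R', L, hLn, hL⟩ | hn
    · apply hnc
      have hLp : ¬ p ∣ Nat.card L := by rw [← hL.index_eq_card]; exact R'.not_dvd_index
      have hidx : (L.comap π).index = Nat.card R' := by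
        rw [Subgroup.index_comap_of_surjective _ hπ, hL.symm.index_eq_card]
      obtain ⟨j, hj⟩ := IsPGroup.iff_card.mp R'.isPGroup'
      have hcp := hcomap L hLp
      refine ⟨P, L.comap π, hLn.comap π, Subgroup.isComplement'_of_coprime ?_ ?_⟩
      · rw [← (L.comap π).card_mul_index, hidx, hj]
        congr 1
        refine Nat.dvd_antisymm ?_ (P.pow_dvd_card_of_pow_dvd_card
          (hj ▸ hidx ▸ Subgroup.index_dvd_card _))
        obtain ⟨i, hi⟩ := IsPGroup.iff_card.mp P.isPGroup'
        have hdv : Nat.card (P : Subgroup G) ∣ Nat.card (L.comap π) * p ^ j := by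
          rw [← hj, ← hidx, Subgroup.card_mul_index]
          exact Subgroup.card_subgroup_dvd_card _
        refine Nat.Coprime.dvd_of_dvd_mul_left ?_ hdv
        rw [hi]
        exact Nat.Coprime.pow_left _ ((hp.coprime_iff_not_dvd).mpr hcp)
      · obtain ⟨i, hi⟩ := IsPGroup.iff_card.mp P.isPGroup'
        rw [hi]
        exact Nat.Coprime.pow_right _ ((hp.coprime_iff_not_dvd).mpr hcp).symm
    · apply hnn
      constructor
      intro x hx g
      obtain ⟨i, hi⟩ := orderOf_mem_sylow P hx
      refine mem_sylow_of_mem_normalizer P ?_ i (by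
        rw [conj_pow, ← hi, pow_orderOf_eq_one, mul_one, mul_inv_cancel])
      rw [← hNdef]
      have hmem : π (g * x * g⁻¹) ∈ (P : Subgroup G).map π := by
        rw [map_mul, map_mul, map_inv]
        exact hn.conj_mem _ ⟨x, hx, rfl⟩ (π g)
      obtain ⟨a, ha, hae⟩ := hmem
      have hak : a⁻¹ * (g * x * g⁻¹) ∈ K := QuotientGroup.eq.mp hae
      have hkN : a⁻¹ * (g * x * g⁻¹) ∈ N := by
        rw [hNdef, Subgroup.mem_normalizer_iff]
        intro z
        have hKc : ∀ w ∈ (P : Subgroup G), a⁻¹ * (g * x * g⁻¹) * w = w * (a⁻¹ * (g * x * g⁻¹)) :=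
          fun w hw => Subgroup.mem_centralizer_iff.mp (hPK hw) _ hak
        constructor
        · intro hz
          rwa [hKc z hz, mul_inv_cancel_right]
        · intro hz
          have h' := hKc _ hz
          rw [inv_mul_cancel_right] at h'
          have := mul_left_cancel h'
          rwa [← this]
      have := mul_mem (hPN ha) hkN
      rwa [mul_inv_cancel_left] at this
  -- a normal subgroup with normal Sylow `p`-subgroup
  have hmapnormal : ∀ (C : Subgroup G), C.Normal → ∀ (L : Subgroup C), L.Normal →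
      (∀ a : C, a ∈ L ↔ (orderOf a).Coprime L.index) → (L.map C.subtype).Normal := by
    intro C hC L hL hchar
    constructor
    rintro _ ⟨a, ha, rfl⟩ g
    refine ⟨⟨g * (a : G) * g⁻¹, hC.conj_mem _ a.2 g⟩, (hchar _).mpr ?_, rfl⟩
    have h1 : orderOf (⟨g * (a : G) * g⁻¹, hC.conj_mem _ a.2 g⟩ : C) = orderOf a := by
      rw [← Subgroup.orderOf_coe, ← Subgroup.orderOf_coe a]
      exact (MulAut.conj g).orderOf_eq (a : G)
    rw [h1]
    exact (hchar a).mp ha
  -- a proper normal subgroup is trivial or yields a normal `p`-subgroup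
  have hnormal : ∀ C : Subgroup G, C.Normal → C ≠ ⊤ →
      ∀ (R : Sylow p C), ((R : Subgroup C).map C.subtype).Normal := by
    intro C hC hCT R
    rcases hInd C hCT with ⟨L, hLn, hL⟩ | hn
    · have hLidx : L.index = Nat.card R := (hL R).symm.index_eq_card
      have hRidx : (R : Subgroup C).index = Nat.card L := (hL R).index_eq_card
      have hLp : ¬ p ∣ Nat.card L := hRidx ▸ R.not_dvd_index
      obtain ⟨j, hj⟩ := IsPGroup.iff_card.mp R.isPGroup'
      have hLb : L.map C.subtype = ⊥ := by
        refine case1 _ (hmapnormal C hC L hLn fun a => ?_) ?_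
        · constructor
          · intro ha
            rw [hLidx, hj]
            exact Nat.Coprime.pow_right _ ((hp.coprime_iff_not_dvd).mpr fun h =>
              hLp (h.trans (Subgroup.orderOf_dvd_natCard L ha))).symm
          · exact mem_normal_of_coprime_index L a
        · rwa [Subgroup.card_map_of_injective C.subtype_injective]
      rw [Subgroup.map_eq_bot_iff_of_injective _ C.subtype_injective] at hLb
      have hRT : (R : Subgroup C) = ⊤ := by
        rw [← Subgroup.index_eq_one, hRidx, hLb, Subgroup.card_bot]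
      rw [hRT, ← MonoidHom.range_eq_map, Subgroup.range_subtype]
      exact hC
    · haveI := hn R
      refine hmapnormal C hC R inferInstance fun a => ?_
      constructor
      · intro ha
        obtain ⟨j, hj⟩ := IsPGroup.iff_card.mp R.isPGroup'
        obtain ⟨i, -, hi⟩ := (Nat.dvd_prime_pow hp).mp
          (hj ▸ Subgroup.orderOf_dvd_natCard (R : Subgroup C) ha : orderOf a ∣ p ^ j)
        rw [hi]
        exact Nat.Coprime.pow_left _ ((hp.coprime_iff_not_dvd).mpr R.not_dvd_index)
      · exact mem_normal_of_coprime_index _ a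
  -- no normal non-trivial `p`-subgroup
  have case2 : ∀ X : Subgroup G, X.Normal → IsPGroup p X → X = ⊥ := by
    intro X hX hXp
    by_contra hXb
    haveI := hX
    have hXP : X ≤ (P : Subgroup G) := by
      rw [← P.is_maximal' (IsPGroup.to_sup_of_normal_left hXp P.isPGroup') le_sup_right]
      exact le_sup_left
    have hPC : (P : Subgroup G) ≤ Subgroup.centralizer (X : Set G) := fun a ha =>
      Subgroup.mem_centralizer_iff.mpr fun z hz => cyclic_comm P hcyc (hXP hz) ha
    have hCT : Subgroup.centralizer (X : Set G) ≠ ⊤ := by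
      intro h
      obtain ⟨z, hz, hz1⟩ := (Subgroup.bot_or_exists_ne_one X).resolve_left hXb
      have hfix : h1 * z = z * h1 := (Subgroup.mem_centralizer_iff.mp
        (h ▸ Subgroup.mem_top h1 : h1 ∈ Subgroup.centralizer (X : Set G)) z hz).symm
      exact h1x1 (cent_of_fix P hcyc h1N (hHord h1 h1H) (hXP hz) hz1 hfix hx1)
    have := hnormal _ Subgroup.normal_centralizer hCT (P.subtype hPC)
    apply hnn
    have he : ((P.subtype hPC : Subgroup _)).map (Subgroup.centralizer (X : Set G)).subtype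
        = (P : Subgroup G) := Subgroup.map_subgroupOf_eq_of_le hPC
    rwa [he] at this
  -- the group is simple
  have hsimp : ∀ K : Subgroup G, K.Normal → K = ⊥ ∨ K = ⊤ := by
    intro K hK
    by_contra hcon
    push Not at hcon
    obtain ⟨R⟩ : Nonempty (Sylow p K) := inferInstance
    have h2 := case2 _ (hnormal K hK hcon.2 R) (R.isPGroup'.map _)
    rw [Subgroup.map_eq_bot_iff_of_injective _ K.subtype_injective] at h2
    refine hcon.1 (case1 K hK ?_)
    intro hd
    have := R.dvd_card_of_dvd_card hd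
    rw [h2, Subgroup.card_bot] at this
    exact hp.not_dvd_one this
  -- the local subgroups
  have hLemmaL : ∀ M : Subgroup G, M ≠ ⊤ → (P : Subgroup G) ≤ M → h1 ∈ M →
      M ≤ Subgroup.normalizer ((P : Subgroup G) : Set G) := by
    intro M hM hPM h1M
    rcases hInd M hM with ⟨K, hKn, hK⟩ | hn
    · exfalso
      have hh1K : (⟨h1, h1M⟩ : M) ∈ K := by
        refine mem_normal_of_coprime_index K _ ?_
        obtain ⟨j, hj⟩ := IsPGroup.iff_card.mp (P.subtype hPM).isPGroup'
        rw [(hK (P.subtype hPM)).symm.index_eq_card, hj, ← Subgroup.orderOf_coe]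
        exact Nat.Coprime.pow_right _ ((hp.coprime_iff_not_dvd).mpr (hHord h1 h1H)).symm
      have hmem1 : (⟨h1, h1M⟩ : M) * ⟨x1, hPM hx1⟩ * (⟨h1, h1M⟩ : M)⁻¹ *
          (⟨x1, hPM hx1⟩ : M)⁻¹ ∈ K := by
        rw [mul_assoc (_ * _), mul_assoc (⟨h1, h1M⟩ : M)]
        refine mul_mem hh1K ?_
        rw [← mul_assoc]
        exact hKn.conj_mem _ (inv_mem hh1K) _
      have hmem2 : (⟨h1, h1M⟩ : M) * ⟨x1, hPM hx1⟩ * (⟨h1, h1M⟩ : M)⁻¹ *
          (⟨x1, hPM hx1⟩ : M)⁻¹ ∈ (P.subtype hPM : Subgroup M) :=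
        mul_mem ((Subgroup.mem_normalizer_iff.mp h1N x1).mp hx1) (inv_mem hx1)
      have h3 := congrArg Subtype.val
        (Subgroup.disjoint_def.mp (hK (P.subtype hPM)).disjoint hmem1 hmem2)
      apply h1x1
      have h4 : h1 * x1 * h1⁻¹ * x1⁻¹ = 1 := h3
      rwa [mul_inv_eq_one, mul_inv_eq_iff_eq_mul] at h4
    · intro g hg
      rw [Subgroup.mem_normalizer_iff]
      intro z
      have key : ∀ g ∈ M, ∀ z ∈ (P : Subgroup G), g * z * g⁻¹ ∈ (P : Subgroup G) :=
        fun g hg z hz => (hn (P.subtype hPM)).conj_mem ⟨z, hPM hz⟩ hz ⟨g, hg⟩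
      exact ⟨key g hg z, fun hz => by simpa [mul_assoc] using key g⁻¹ (inv_mem hg) _ hz⟩
  have hcenter : Subgroup.center G = ⊥ := by
    rcases hsimp (Subgroup.center G) inferInstance with h | h
    · exact h
    · exfalso
      apply h1x1
      exact (Subgroup.mem_center_iff.mp (h ▸ Subgroup.mem_top x1 : x1 ∈ Subgroup.center G) h1)
  refine final_contradiction P hcyc hab H (hNdef ▸ hHN) (hNdef ▸ hdec) (hNdef ▸ hNcard) hHp
    h1 h1H ⟨x1, hx1, h1x1⟩ hPne ?_ ?_ ?_
  · intro x hx hx0
    have key : ∀ g ∈ Subgroup.normalizer ((P : Subgroup G) : Set G),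
        g ∈ Subgroup.normalizer (Subgroup.zpowers x : Set G) := by
      have hk : ∀ g ∈ Subgroup.normalizer ((P : Subgroup G) : Set G),
          ∀ z ∈ Subgroup.zpowers x, g * z * g⁻¹ ∈ Subgroup.zpowers x := by
        intro g hg z hz
        obtain ⟨r, hr⟩ := sylow_conj_eq_zpow P hcyc hg
        rw [hr z ((Subgroup.zpowers_le.mpr hx) hz)]
        exact zpow_mem hz r
      intro g hg
      rw [Subgroup.mem_normalizer_iff]
      exact fun z => ⟨hk g hg z, fun hz => by
        simpa [mul_assoc] using hk g⁻¹ (inv_mem hg) _ hz⟩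
    refine hLemmaL _ ?_ (fun a ha => key a (Subgroup.le_normalizer ha)) (key h1 h1N)
    intro h
    rcases hsimp _ (Subgroup.normalizer_eq_top_iff.mp h) with h' | h'
    · exact hx0 (Subgroup.zpowers_eq_bot.mp h')
    · apply hnn
      have : (P : Subgroup G) = ⊤ := top_le_iff.mp (h' ▸ Subgroup.zpowers_le.mpr hx)
      rw [this]; infer_instance
  · intro h hh hh1 hcent g hg
    have hle := hLemmaL (Subgroup.centralizer {h}) ?_ ?_ ?_
    · exact hle (Subgroup.mem_centralizer_singleton_iff.mpr hg)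
    · intro hT
      have : h ∈ Subgroup.center G := Subgroup.mem_center_iff.mpr fun a =>
        Subgroup.mem_centralizer_singleton_iff.mp (hT ▸ Subgroup.mem_top a)
      rw [hcenter] at this
      exact hh1 (Subgroup.mem_bot.mp this)
    · intro a ha
      rw [Subgroup.mem_centralizer_singleton_iff]
      exact Subgroup.mem_centralizer_iff.mp hcent a ha
    · rw [Subgroup.mem_centralizer_singleton_iff]
      exact congrArg Subtype.val ((hab H hHp).is_comm.comm ⟨h1, h1H⟩ ⟨h, hh⟩)
  · intro q hq hqp hqG Q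
    haveI : Fact q.Prime := ⟨hq⟩
    obtain ⟨i, hi⟩ := IsPGroup.iff_card.mp Q.isPGroup'
    have hQp : ¬ p ∣ Nat.card (Q : Subgroup G) := fun hd =>
      hqp ((Nat.prime_dvd_prime_iff_eq hp hq).mp (hp.dvd_of_dvd_pow (hi ▸ hd))).symm
    have hQne : (Q : Subgroup G) ≠ ⊥ := fun h => by
      have := Q.dvd_card_of_dvd_card hqG
      rw [h, Subgroup.card_bot] at this
      exact hq.not_dvd_one this
    have hQT : (Q : Subgroup G) ≠ ⊤ := fun h => by
      apply hPne
      rw [← Subgroup.card_eq_one]
      obtain ⟨j, hj⟩ := IsPGroup.iff_card.mp P.isPGroup'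
      rcases j with _ | j
      · simpa using hj
      · exfalso
        apply hQp
        rw [h, Subgroup.card_top]
        exact (hj ▸ dvd_pow_self p (Nat.succ_ne_zero j)).trans (Subgroup.card_subgroup_dvd_card _)
    obtain ⟨M, hMdef⟩ : ∃ M, M = Subgroup.normalizer ((Q : Subgroup G) : Set G) := ⟨_, rfl⟩
    have hQM : (Q : Subgroup G) ≤ M := hMdef ▸ Subgroup.le_normalizer
    have hMT : M ≠ ⊤ := by
      intro h
      rw [hMdef] at h
      rcases hsimp _ (Subgroup.normalizer_eq_top_iff.mp h) with h' | h'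
      exacts [hQne h', hQT h']
    suffices hy : ∃ y ∈ M, (∃ k, y ^ p ^ k = 1) ∧ ∃ a ∈ (Q : Subgroup G), y * a ≠ a * y by
      obtain ⟨y, hyM, ⟨k, hk⟩, hne⟩ := hy
      have hex : ∃ j, ∀ a ∈ (Q : Subgroup G), y ^ p ^ j * a = a * y ^ p ^ j :=
        ⟨k, fun a _ => by rw [hk, one_mul, mul_one]⟩
      obtain ⟨a0, ha0, hne0⟩ := hne
      have hpos : Nat.find hex ≠ 0 := fun h => by
        have := Nat.find_spec hex a0 ha0
        rw [h, pow_zero, pow_one] at this
        exact hne0 this
      obtain ⟨j, hj⟩ := Nat.exists_eq_succ_of_ne_zero hpos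
      refine ⟨y ^ p ^ j, ⟨k, by rw [← pow_mul, mul_comm, pow_mul, hk, one_pow]⟩, fun a ha =>
        ((Subgroup.mem_normalizer_iff.mp (hMdef ▸ pow_mem hyM _)) a).mp ha, ?_, fun a ha => ?_⟩
      · have := Nat.find_min hex (m := j) (by omega)
        push Not at this
        exact this
      · rw [← pow_mul, ← pow_succ]
        have := Nat.find_spec hex a ha
        rwa [hj] at this
    by_contra hcon
    push Not at hcon
    have hQn : ((Q : Subgroup G).subgroupOf M).Normal := by
      constructor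
      intro a ha g
      exact (Subgroup.mem_normalizer_iff.mp (hMdef ▸ g.2) (a : G)).mp ha
    haveI := hQn
    have hQMc : ¬ p ∣ Nat.card ((Q : Subgroup G).subgroupOf M) := by
      rw [Nat.card_congr (Subgroup.subgroupOfEquivOfLe hQM).toEquiv]; exact hQp
    obtain ⟨R⟩ : Nonempty (Sylow p M) := inferInstance
    obtain ⟨K, hKR⟩ : ∃ K : Subgroup M, K.IsComplement' (R : Subgroup M) := by
      rcases hInd M hMT with ⟨K, -, hK⟩ | hn
      · exact ⟨K, hK R⟩
      · haveI := hn R
        obtain ⟨K, hK⟩ := Subgroup.exists_left_complement'_of_coprime R.card_coprime_index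
        exact ⟨K, hK⟩
    have hKp : ¬ p ∣ Nat.card K := by rw [← hKR.index_eq_card]; exact R.not_dvd_index
    have hsup := not_dvd_card_sup ((Q : Subgroup G).subgroupOf M) K hQMc hKp
    rw [← Subgroup.card_map_of_injective M.subtype_injective] at hsup
    have hcomm := hab' _ hsup
    have hle : Subgroup.normalizer ((Q : Subgroup G) : Set G) ≤
        Subgroup.centralizer ((Q : Subgroup G) : Set G) := by
      intro g hg
      obtain ⟨⟨⟨k, hk⟩, ⟨r, hr⟩⟩, hkr⟩ := hKR.2 ⟨g, hMdef ▸ hg⟩
      rw [Subgroup.mem_centralizer_iff]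
      intro a ha
      have hge : g = (k : G) * (r : G) := (congrArg Subtype.val hkr).symm
      obtain ⟨j, hj⟩ := R.isPGroup' ⟨r, hr⟩
      have h2 : (r : G) * a = a * r := hcon r r.2
        ⟨j, by simpa using congrArg (fun z : (R : Subgroup M) => ((z : M) : G)) hj⟩ a ha
      have h3 : (k : G) * a = a * k := hcomm _
        ⟨k, (le_sup_right : K ≤ _ ⊔ K) hk, rfl⟩ _
        ⟨⟨a, hQM ha⟩, (le_sup_left : _ ≤ (Q : Subgroup G).subgroupOf M ⊔ K) ha, rfl⟩
      rw [hge, ← mul_assoc, ← h3, mul_assoc (k : G), ← h2, ← mul_assoc]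
    have hc := MonoidHom.ker_transferSylow_isComplement' Q hle
    rcases hsimp _ (MonoidHom.normal_ker (MonoidHom.transferSylow Q hle)) with h | h
    · apply hQT
      rw [h] at hc
      exact Subgroup.isComplement'_bot_left.mp hc
    · apply hQne
      rw [h] at hc
      exact Subgroup.isComplement'_top_left.mp hc

/-- Let G be a finite group and p a prime such that a Sylow p-subgroup P of G is cyclic and every subgroup of G of order prime to p is abelian. Then G has a normal p-complement or P is normal in G. -/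
theorem result {G : Type*} [Group G] [Finite G] {p : ℕ}
    [Fact p.Prime] (P : Sylow p G) (hcyc : IsCyclic P)
    (hab : ∀ H : Subgroup G, ¬ p ∣ Nat.card H → IsMulCommutative H) :
    Cfsg.HasNormalPComplement p G ∨ (P : Subgroup G).Normal :=
  aux (Nat.card G) rfl P hcyc hab

end Cfsg.Agent.S4016
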