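import Cfsg.Statements.S4018
import Cfsg.Agent.TIHall.KleinChar
-- import your own Cfsg.Agent.* helpers here

set_option autoImplicit false
open Cfsg

namespace Cfsg.Agent.S4018

open Cfsg.Agent.TIHall Cfsg.Agent

/-- The numerical end. -/
theorem arith {Pc I dx dy D a : ℕ} (hP : Pc = 3 ^ a) (ha : 1 ≤ a) (hI : I + 2 * Pc = 4 * Pc * Pc + 1)
    (hd : dx + 1 = dy ∨ dy + 1 = dx) (hx : dx ∣ 4 * Pc * I) (hy : dy ∣ 4 * Pc * I)
    (hkey : I * D ^ 2 = 8 * Pc ^ 2 * (dx * dy)) (hbound : 9 ≤ Pc → dx * dy < 18 * I) : False := by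
  have hP3 : 3 ∣ Pc := hP ▸ dvd_pow_self 3 (by omega)
  have hPpos : 0 < Pc := hP ▸ pow_pos (by norm_num) a
  have hIpos : 0 < I := by nlinarith
  have h2I : ¬ 2 ∣ I := by
    intro h
    have h1 : 2 ∣ 4 * Pc * Pc + 1 := hI ▸ Nat.dvd_add h (dvd_mul_right 2 Pc)
    have h2 : 2 ∣ 4 * Pc * Pc := dvd_mul_of_dvd_left (dvd_mul_of_dvd_left (by norm_num) _) _
    have h3 := (Nat.dvd_add_right h2).1 h1
    norm_num at h3
  have h3I : ¬ 3 ∣ I := by
    intro h
    have h1 : 3 ∣ 4 * Pc * Pc + 1 := hI ▸ Nat.dvd_add h (dvd_mul_of_dvd_right hP3 2)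
    have h3 := (Nat.dvd_add_right (dvd_mul_of_dvd_right hP3 _)).1 h1
    norm_num at h3
  have hcopI : Nat.Coprime I (8 * Pc ^ 2) := by
    refine Nat.Coprime.mul_right ?_ ?_
    · rw [show (8 : ℕ) = 2 ^ 3 by norm_num]
      exact Nat.Coprime.pow_right _ ((Nat.prime_two.coprime_iff_not_dvd.2 h2I).symm)
    · rw [hP, ← pow_mul]
      exact Nat.Coprime.pow_right _ ((Nat.prime_three.coprime_iff_not_dvd.2 h3I).symm)
  obtain ⟨k, hk⟩ : I ∣ dx * dy := hcopI.dvd_of_dvd_mul_left ⟨D ^ 2, hkey.symm⟩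
  have hD : D ^ 2 = 8 * Pc ^ 2 * k := by
    rw [hk] at hkey
    exact Nat.eq_of_mul_eq_mul_left hIpos (by rw [hkey]; ring)
  obtain ⟨E, rfl⟩ : Pc ∣ D := (Nat.pow_dvd_pow_iff two_ne_zero).1 ⟨8 * k, by rw [hD]; ring⟩
  have hE : E ^ 2 = 8 * k := Nat.eq_of_mul_eq_mul_left (show 0 < Pc ^ 2 by positivity) (by rw [← mul_pow, hD]; ring)
  obtain ⟨E1, rfl⟩ : 2 ∣ E := Nat.prime_two.dvd_of_dvd_pow (n := 2) (hE ▸ dvd_mul_of_dvd_left (by norm_num) k)
  have hE1 : E1 ^ 2 = 2 * k := by nlinarith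
  obtain ⟨m, rfl⟩ : 2 ∣ E1 := Nat.prime_two.dvd_of_dvd_pow (n := 2) (hE1 ▸ dvd_mul_right 2 k)
  have hkm : k = 2 * m ^ 2 := by nlinarith
  -- `k` divides `4 Pc`
  have hcop : Nat.Coprime dx dy := by
    rcases hd with h | h <;> rw [← h] <;> simp
  have hk4 : k ∣ 4 * Pc := by
    have h1 : I * k ∣ I * (4 * Pc) := by
      rw [← hk, mul_comm I (4 * Pc)]; exact hcop.mul_dvd_of_dvd_of_dvd hx hy
    exact Nat.dvd_of_mul_dvd_mul_left hIpos h1
  have hm2 : m ^ 2 ∣ 2 * Pc := by
    rw [hkm, show 4 * Pc = 2 * (2 * Pc) by ring] at hk4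
    exact Nat.dvd_of_mul_dvd_mul_left (by norm_num) hk4
  have hmodd : ¬ 2 ∣ m := by
    intro h
    have h4 : 2 ^ 2 ∣ 2 * Pc := (pow_dvd_pow_of_dvd h 2).trans hm2
    have h2 : 2 ∣ Pc := Nat.dvd_of_mul_dvd_mul_left (show 0 < 2 by norm_num) (by simpa using h4)
    rw [hP] at h2
    exact absurd (Nat.prime_two.dvd_of_dvd_pow h2) (by norm_num)
  have hm1 : m = 1 := by
    have hm0 : m ≠ 0 := fun e => hmodd (e ▸ dvd_zero 2)
    by_contra hne
    have h3m : 3 ≤ m := by
      by_contra hlt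
      interval_cases m
      · exact hm0 rfl
      · exact hne rfl
      · exact hmodd dvd_rfl
    have hk18 : 18 ≤ k := by nlinarith
    rcases Nat.lt_or_ge Pc 9 with hlt | hge
    · have hle := Nat.le_of_dvd (by positivity) hk4
      have ha1 : a = 1 := by
        by_contra hne'
        have := Nat.pow_le_pow_right (show 1 ≤ 3 by norm_num) (show 2 ≤ a by omega)
        omega
      rw [hP, ha1] at hle
      omega
    · have := hbound hge
      rw [hk] at this
      nlinarith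
  subst hm1
  have hk2 : k = 2 := by rw [hkm]; norm_num
  subst hk2
  -- `n (n + 1) = 2 I` has no solution
  obtain ⟨n, hn⟩ : ∃ n, n * (n + 1) = 2 * I := by
    rcases hd with h | h
    · exact ⟨dx, by rw [h, hk]; ring⟩
    · exact ⟨dy, by rw [h, mul_comm, hk]; ring⟩
  obtain ⟨Q, hQ⟩ : ∃ Q, Pc = 3 * Q ∧ ∃ b, Q = 3 ^ b ∧ a = b + 1 :=
    ⟨3 ^ (a - 1), by rw [← pow_succ', hP]; congr 1; omega, a - 1, rfl, by omega⟩
  obtain ⟨hQP, b, hQb, -⟩ := hQ
  rcases Nat.eq_zero_or_pos b with hb | hb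
  · rw [hb, pow_zero] at hQb
    subst hQb
    have hI31 : I = 31 := by rw [hQP] at hI; omega
    subst hI31
    have hn8 : n < 8 := by nlinarith
    interval_cases n <;> omega
  obtain ⟨R, hR⟩ : ∃ R, Q = 3 * R ∧ ∃ c, R = 3 ^ c :=
    ⟨3 ^ (b - 1), by rw [← pow_succ', hQb]; congr 1; omega, b - 1, rfl⟩
  obtain ⟨hQR, c, hRc⟩ := hR
  have hRpos : 0 < R := hRc ▸ pow_pos (by norm_num) c
  have hmain : n * (n + 1) + 36 * R = 648 * R * R + 2 := by
    rw [hn]; rw [hQP, hQR] at hI; nlinarith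
  -- `n = 3 r + 1`
  obtain ⟨r, hr⟩ : ∃ r, n = 3 * r + 1 := by
    refine ⟨n / 3, ?_⟩
    have h3 : n % 3 < 3 := Nat.mod_lt _ (by norm_num)
    have hmain' : n * (n + 1) + 36 * R = 648 * (R * R) + 2 := by rw [hmain]; ring
    have hmod : (n * (n + 1)) % 3 = 2 := by omega
    rw [Nat.mul_mod, Nat.add_mod] at hmod
    interval_cases h : n % 3 <;> omega
  subst hr
  have hr' : r * (r + 1) + 4 * R = 72 * R * R := by nlinarith
  have hdiv : R ∣ r * (r + 1) := by
    have h1 : R ∣ r * (r + 1) + 4 * R := hr' ▸ dvd_mul_left R (72 * R)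
    exact (Nat.dvd_add_left (dvd_mul_left R 4)).1 h1
  have hdiv' : R ∣ r ∨ R ∣ r + 1 := by
    rcases Nat.eq_zero_or_pos c with hc | hc
    · left; rw [hRc, hc, pow_zero]; exact one_dvd _
    rw [hRc] at hdiv ⊢
    rcases Nat.Prime.dvd_mul Nat.prime_three |>.1 ((dvd_pow_self 3 hc.ne').trans hdiv) with h | h
    · left
      refine (Nat.Coprime.pow_left c ?_).dvd_of_dvd_mul_right hdiv
      exact (Nat.prime_three.coprime_iff_not_dvd).2 fun h' => by omega
    · right
      refine (Nat.Coprime.pow_left c ?_).dvd_of_dvd_mul_left hdiv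
      exact (Nat.prime_three.coprime_iff_not_dvd).2 fun h' => by omega
  rcases hdiv' with ⟨q, rfl⟩ | ⟨q, hq⟩
  · have h1 : q * (R * q + 1) + 4 = 72 * R := Nat.eq_of_mul_eq_mul_left hRpos (by nlinarith)
    have hq9 : q < 9 := Nat.lt_of_not_le fun h9 => by
      have h81 : 81 * R ≤ q * (R * q) := by
        calc 81 * R = 9 * (R * 9) := by ring
          _ ≤ q * (R * q) := Nat.mul_le_mul h9 (Nat.mul_le_mul_left R h9)
      rw [mul_add, mul_one] at h1
      omega
    interval_cases q <;> omega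
  · have h1 : q * r + 4 = 72 * R := Nat.eq_of_mul_eq_mul_left hRpos (by
      rw [mul_add, ← mul_assoc, ← hq]; nlinarith)
    have hq9 : q < 9 := Nat.lt_of_not_le fun h9 => by
      have h81 : 9 * r ≤ q * r := Nat.mul_le_mul_right r h9
      have h9R : R * 9 ≤ R * q := Nat.mul_le_mul_left R h9
      omega
    interval_cases q <;> omega

theorem card_pos_three {G : Type*} [Group G] [Finite G] {P : Sylow 3 G} (h : Ctx P) :
    ∃ a, 1 ≤ a ∧ Nat.card P = 3 ^ a := by
  obtain ⟨a, ha⟩ := (IsPGroup.iff_card).1 P.2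
  refine ⟨a, Nat.pos_of_ne_zero fun e => ?_, ha⟩
  rw [e, pow_zero] at ha
  have hPbot : (P : Subgroup G) = ⊥ := Subgroup.eq_bot_of_card_eq _ ha
  have hN := h.hN
  have hC := h.hC
  rw [ha, hPbot, Subgroup.normalizer_eq_top_iff.2 inferInstance, Subgroup.card_top] at hN
  rw [ha] at hC
  have hle : Subgroup.centralizer (P : Set G) = ⊤ := eq_top_iff.2 fun g _ => Subgroup.mem_centralizer_iff.2 fun y hy => by
    have hy1 : y = 1 := by
      have : y ∈ (P : Subgroup G) := hy
      rwa [hPbot, Subgroup.mem_bot] at this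
    simp [hy1]
  rw [hle, Subgroup.card_top, hN] at hC
  norm_num at hC

theorem bound {G : Type*} [Group G] [Fintype G] {P : Sylow 3 G} {t : G} (F : Facts P t)
    (h9 : 9 ≤ Nat.card P) {I : ℕ} (hG : Nat.card G = 4 * Nat.card P * I) (hI0 : 0 < I) :
    ∃ (ν : (P : Subgroup G) →* ℂˣ) (_ : ν ≠ 1), ∀ (x y : IrrCharacter G) (a b : ℤ), x ≠ y →
      classInner (excFun F ν) (x : G → ℂ) = a → classInner (excFun F ν) (y : G → ℂ) = b →
      (a = 1 ∨ a = -1) → (b = 1 ∨ b = -1) →
      a * (charDegree (x : G → ℂ) : ℤ) + b * (charDegree (y : G → ℂ) : ℤ) = -1 →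
      (x : G → ℂ) ≠ (fun _ => 1) → (y : G → ℂ) ≠ (fun _ => 1) →
      charDegree (x : G → ℂ) * charDegree (y : G → ℂ) < 18 * I := by
  classical
  haveI := F.ctx.ab
  open scoped IsMulCommutative in
  obtain ⟨eD⟩ := CommGroup.monoidHom_mulEquiv_of_hasEnoughRootsOfUnity (P : Subgroup G) ℂ
  have hcardD : Nat.card ((P : Subgroup G) →* ℂˣ) = Nat.card P := Nat.card_congr eD.toEquiv
  have : Finite ((P : Subgroup G) →* ℂˣ) := Finite.of_equiv _ eD.toEquiv.symm
  haveI := Fintype.ofFinite ((P : Subgroup G) →* ℂˣ)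
  have h2 : 1 < Nat.card ((P : Subgroup G) →* ℂˣ) := by rw [hcardD]; omega
  haveI : Nontrivial ((P : Subgroup G) →* ℂˣ) := Finite.one_lt_card_iff_nontrivial.1 h2
  obtain ⟨ν0, hν0⟩ := exists_ne (1 : (P : Subgroup G) →* ℂˣ)
  refine ⟨ν0, hν0, fun x y a b hxy hxa hyb ha hb hdeg hx1 hy1 => ?_⟩
  set dx := charDegree (x : G → ℂ)
  set dy := charDegree (y : G → ℂ)
  -- the other indices
  set J := Finset.univ.filter fun ν : (P : Subgroup G) →* ℂˣ => ν ≠ 1 ∧ ν ≠ ν0 ∧ ν ≠ ν0⁻¹
  have hJ : Nat.card P ≤ J.card + 3 := by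
    rw [← hcardD, Nat.card_eq_fintype_card, ← Finset.card_univ]
    calc (Finset.univ : Finset ((P : Subgroup G) →* ℂˣ)).card ≤ (J ∪ {1, ν0, ν0⁻¹}).card := by
          refine Finset.card_le_card fun ν _ => ?_
          simp only [J, Finset.mem_union, Finset.mem_filter, Finset.mem_univ, true_and, Finset.mem_insert, Finset.mem_singleton]
          tauto
      _ ≤ J.card + ({1, ν0, ν0⁻¹} : Finset _).card := Finset.card_union_le _ _
      _ ≤ _ := by
          gcongr
          exact Finset.card_le_three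
  have hex := fun ν (hν : ν ∈ J) => F.exists_exceptional (ν := ν) (Finset.mem_filter.1 hν).2.1
  -- two pairs in general position
  have share : ∀ ν ν' : (P : Subgroup G) →* ℂˣ, ν ≠ 1 → ν' ≠ 1 → ν' ≠ ν → ν' ≠ ν⁻¹ →
      ∀ (x y : IrrCharacter G) (a b : ℤ), x ≠ y → classInner (excFun F ν) (x : G → ℂ) = a →
        classInner (excFun F ν) (y : G → ℂ) = b → (a = 1 ∨ a = -1) → (b = 1 ∨ b = -1) →
      ∀ (x' y' : IrrCharacter G) (a' b' : ℤ), x' ≠ y' → (a' = 1 ∨ a' = -1) → (b' = 1 ∨ b' = -1) →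
        classInner (excFun F ν') (x' : G → ℂ) = a' → classInner (excFun F ν') (y' : G → ℂ) = b' →
        (∀ f : IrrCharacter G → ℂ, ∑ χ : IrrCharacter G, classInner (excFun F ν') (χ : G → ℂ) * f χ =
          f ⟨fun _ => 1, Char.isIrrCharacter_one⟩ + a' * f x' + b' * f y') →
        (x : G → ℂ) ≠ (fun _ => 1) → (y : G → ℂ) ≠ (fun _ => 1) →
        (∀ f : IrrCharacter G → ℂ, ∑ χ : IrrCharacter G, classInner (excFun F ν) (χ : G → ℂ) * f χ =
          f ⟨fun _ => 1, Char.isIrrCharacter_one⟩ + a * f x + b * f y) →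
        (x' : G → ℂ) ≠ (fun _ => 1) → (y' : G → ℂ) ≠ (fun _ => 1) →
        (x = x' ∧ a = a' ∧ y ≠ y') ∨ (x = y' ∧ a = b' ∧ y ≠ x') ∨
        (y = x' ∧ b = a' ∧ x ≠ y') ∨ (y = y' ∧ b = b' ∧ x ≠ x') := by
    intro ν ν' hν hν' hne hne' x y a b hxy hxa hyb ha hb x' y' a' b' hxy' ha' hb' hxa' hyb' hexp' hx1 hy1 hexp hx1' hy1'
    have hc := F.classInner_cross hν' hν hne.symm (fun e => hne' (MonoidHom.ext fun z => by rw [e]; exact (inv_inv _).symm))
    rw [Char.classInner_eq_sum (Char.IsGen.isClassFunction (Invol.isGeneralized_secInd _ _) : IsClassFunction G (excFun F ν')),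
      hexp' (fun χ => classInner (χ : G → ℂ) (excFun F ν))] at hc
    have hone : classInner (fun _ => (1 : ℂ)) (excFun F ν) = 1 := by
      rw [← Char.classInner_conj_symm, show classInner (excFun F ν) (fun _ => (1 : ℂ)) = 1 from
        Invol.classInner_secInd_one (fun e => hν (muOf_injective F (e.trans (muOf_one F).symm)))]
      simp
    have hval : ∀ z : IrrCharacter G, (z : G → ℂ) ≠ (fun _ => 1) →
        classInner (z : G → ℂ) (excFun F ν) = (if z = x then (a : ℂ) else 0) + (if z = y then (b : ℂ) else 0) := by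
      intro z hz
      have h := hexp (fun χ => if χ = z then 1 else 0)
      simp only [mul_ite, mul_one, mul_zero, Finset.sum_ite_eq', Finset.mem_univ, if_true] at h
      rw [if_neg (fun e => hz (by rw [← e])), zero_add] at h
      rw [← Char.classInner_conj_symm, h]
      by_cases hzx : z = x
      · subst hzx; simp [hxy.symm, hxy]
      · by_cases hzy : z = y
        · subst hzy; simp [hzx, Ne.symm hzx]
        · simp [hzx, hzy, Ne.symm hzx, Ne.symm hzy]
    rw [hone, hval x' hx1', hval y' hy1'] at hc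
    by_cases h1 : x' = x
    · subst h1
      rw [if_pos rfl, if_neg hxy] at hc
      by_cases h4 : y' = y
      · subst h4
        rw [if_neg hxy'.symm, if_pos rfl] at hc
        rcases ha with e | e <;> rcases hb with e' | e' <;> rcases ha' with f | f <;> rcases hb' with f' | f' <;>
          subst e e' f f' <;> norm_num at hc
      · rw [if_neg hxy'.symm, if_neg h4] at hc
        refine Or.inl ⟨rfl, ?_, fun e => h4 e.symm⟩
        rcases ha with e | e <;> rcases ha' with f | f <;> subst e f <;> first | rfl | norm_num at hc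
    by_cases h2 : x' = y
    · subst h2
      rw [if_neg h1, if_pos rfl] at hc
      by_cases h3 : y' = x
      · subst h3
        rw [if_pos rfl, if_neg hxy'.symm] at hc
        rcases ha with e | e <;> rcases hb with e' | e' <;> rcases ha' with f | f <;> rcases hb' with f' | f' <;>
          subst e e' f f' <;> norm_num at hc
      · rw [if_neg h3, if_neg hxy'.symm] at hc
        refine Or.inr (Or.inr (Or.inl ⟨rfl, ?_, fun e => h3 e.symm⟩))
        rcases hb with e | e <;> rcases ha' with f | f <;> subst e f <;> first | rfl | norm_num at hc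
    rw [if_neg h1, if_neg h2] at hc
    by_cases h3 : y' = x
    · subst h3
      rw [if_pos rfl, if_neg hxy] at hc
      refine Or.inr (Or.inl ⟨rfl, ?_, fun e => h2 e.symm⟩)
      rcases ha with e | e <;> rcases hb' with f | f <;> subst e f <;> first | rfl | norm_num at hc
    rw [if_neg h3] at hc
    by_cases h4 : y' = y
    · subst h4
      rw [if_pos rfl] at hc
      refine Or.inr (Or.inr (Or.inr ⟨rfl, ?_, fun e => h1 e.symm⟩))
      rcases hb with e | e <;> rcases hb' with f | f <;> subst e f <;> first | rfl | norm_num at hc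
    rw [if_neg h4] at hc
    norm_num at hc
  obtain ⟨x0, y0, a0, b0, h0ne, h0a, h0b, h0xa, h0yb, h0deg, -, h0exp, h0x1, h0y1⟩ := F.exists_exceptional hν0
  have hexp0 : ∀ f : IrrCharacter G → ℂ, ∑ χ : IrrCharacter G, classInner (excFun F ν0) (χ : G → ℂ) * f χ =
        f ⟨fun _ => 1, Char.isIrrCharacter_one⟩ + a * f x + b * f y := by
    have hzero : ∀ z : IrrCharacter G, ∀ c : ℤ, (c = 1 ∨ c = -1) → (z : G → ℂ) ≠ (fun _ => 1) →
        classInner (excFun F ν0) (z : G → ℂ) = c → (z = x0 ∧ c = a0) ∨ (z = y0 ∧ c = b0) := by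
      intro z c hc hz1 hz
      have h := h0exp (fun χ => if χ = z then 1 else 0)
      simp only [mul_ite, mul_one, mul_zero, Finset.sum_ite_eq', Finset.mem_univ, if_true] at h
      rw [hz, if_neg (fun e => hz1 (by rw [← e]))] at h
      by_cases hzx : x0 = z
      · subst hzx
        rw [if_pos rfl, if_neg h0ne.symm] at h
        exact Or.inl ⟨rfl, by simpa using h⟩
      · by_cases hzy : y0 = z
        · subst hzy
          rw [if_pos rfl, if_neg hzx] at h
          exact Or.inr ⟨rfl, by simpa using h⟩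
        · rw [if_neg hzx, if_neg hzy] at h
          rcases hc with e | e <;> subst e <;> norm_num at h
    rcases hzero x a ha hx1 hxa with ⟨hx, hax⟩ | ⟨hx, hax⟩ <;>
      rcases hzero y b hb hy1 hyb with ⟨hy, hby⟩ | ⟨hy, hby⟩
    · exact absurd (hx.trans hy.symm) hxy
    · subst hx hy hax hby; exact h0exp
    · subst hx hy hax hby; exact fun f => by rw [h0exp f]; ring
    · exact absurd (hx.trans hy.symm) hxy
  choose X Y A B hne hA hB hXA hYB hD _hkey hexp hX1 hY1 using hex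
  -- every other pair contains exactly one of `x`, `y`
  have hcases : ∀ ν (hν : ν ∈ J), ∃ (z : IrrCharacter G) (c : ℤ), classInner (excFun F ν) (z : G → ℂ) = c ∧
      (c = 1 ∨ c = -1) ∧ (z : G → ℂ) ≠ (fun _ => 1) ∧
      (((classInner (excFun F ν) (x : G → ℂ) = a) ∧ z ≠ y ∧ z ≠ x ∧ a * (dx : ℤ) + c * (charDegree (z : G → ℂ) : ℤ) = -1 ∧
        (∀ f : IrrCharacter G → ℂ, ∑ χ : IrrCharacter G, classInner (excFun F ν) (χ : G → ℂ) * f χ =
          f ⟨fun _ => 1, Char.isIrrCharacter_one⟩ + a * f x + c * f z)) ∨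
       ((classInner (excFun F ν) (y : G → ℂ) = b) ∧ z ≠ x ∧ z ≠ y ∧ b * (dy : ℤ) + c * (charDegree (z : G → ℂ) : ℤ) = -1 ∧
        (∀ f : IrrCharacter G → ℂ, ∑ χ : IrrCharacter G, classInner (excFun F ν) (χ : G → ℂ) * f χ =
          f ⟨fun _ => 1, Char.isIrrCharacter_one⟩ + b * f y + c * f z))) := by
    intro ν hν
    have hν' := (Finset.mem_filter.1 hν).2
    rcases share ν0 ν hν0 hν'.1 hν'.2.1 hν'.2.2 x y a b hxy hxa hyb ha hb (X ν hν) (Y ν hν) (A ν hν) (B ν hν)
      (hne ν hν) (hA ν hν) (hB ν hν) (hXA ν hν) (hYB ν hν) (hexp ν hν) hx1 hy1 hexp0 (hX1 ν hν) (hY1 ν hν) with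
      ⟨e, e', e''⟩ | ⟨e, e', e''⟩ | ⟨e, e', e''⟩ | ⟨e, e', e''⟩
    · refine ⟨Y ν hν, B ν hν, hYB ν hν, hB ν hν, hY1 ν hν, Or.inl ⟨?_, e''.symm, ?_, ?_, ?_⟩⟩
      · rw [e, e']; exact hXA ν hν
      · exact fun h => hne ν hν (e.symm.trans h.symm)
      · simp only [dx]; rw [e, e']; exact hD ν hν
      · rw [e, e']; exact hexp ν hν
    · refine ⟨X ν hν, A ν hν, hXA ν hν, hA ν hν, hX1 ν hν, Or.inl ⟨?_, e''.symm, ?_, ?_, ?_⟩⟩
      · rw [e, e']; exact hYB ν hν
      · exact fun h => hne ν hν (h.trans e)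
      · simp only [dx]; rw [e, e', add_comm]; exact hD ν hν
      · intro f; rw [e, e', hexp ν hν f]; ring
    · refine ⟨Y ν hν, B ν hν, hYB ν hν, hB ν hν, hY1 ν hν, Or.inr ⟨?_, e''.symm, ?_, ?_, ?_⟩⟩
      · rw [e, e']; exact hXA ν hν
      · exact fun h => hne ν hν (e.symm.trans h.symm)
      · simp only [dy]; rw [e, e']; exact hD ν hν
      · rw [e, e']; exact hexp ν hν
    · refine ⟨X ν hν, A ν hν, hXA ν hν, hA ν hν, hX1 ν hν, Or.inr ⟨?_, e''.symm, ?_, ?_, ?_⟩⟩
      · rw [e, e']; exact hYB ν hν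
      · exact fun h => hne ν hν (h.trans e)
      · simp only [dy]; rw [e, e', add_comm]; exact hD ν hν
      · intro f; rw [e, e', hexp ν hν f]; ring
  choose Z Cs hZC hCs hZ1 hZ using hcases
  -- no triangle
  have hno : ∀ ν (hν : ν ∈ J) ν' (hν' : ν' ∈ J), classInner (excFun F ν) (x : G → ℂ) = a →
      classInner (excFun F ν') (y : G → ℂ) = b → False := by
    intro ν hν ν' hν' h1 h2
    have hJν := (Finset.mem_filter.1 hν).2
    have hJν' := (Finset.mem_filter.1 hν').2
    have hval : ∀ μ (hμ : μ ∈ J) (u v : IrrCharacter G) (cu : ℤ),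
        (cu = 1 ∨ cu = -1) → classInner (excFun F μ) (u : G → ℂ) = cu → (u : G → ℂ) ≠ (fun _ => 1) →
        (v : IrrCharacter G) ≠ u → (∀ (w : IrrCharacter G) (cw : ℤ), (∀ f : IrrCharacter G → ℂ, ∑ χ : IrrCharacter G, classInner (excFun F μ) (χ : G → ℂ) * f χ =
          f ⟨fun _ => 1, Char.isIrrCharacter_one⟩ + cw * f v + (Cs μ hμ) * f w) → u = w) := by
      intro μ hμ u v cu hcu hu hu1 hvu w cw hf
      by_contra hne'
      have h := hf (fun χ => if χ = u then 1 else 0)
      simp only [mul_ite, mul_one, mul_zero, Finset.sum_ite_eq', Finset.mem_univ, if_true] at h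
      rw [hu, if_neg (fun e => hu1 (by rw [← e])), if_neg hvu, if_neg (Ne.symm hne')] at h
      rcases hcu with e | e <;> subst e <;> norm_num at h
    rcases hZ ν hν with ⟨-, hZy, hZx, hdegν, hexpν⟩ | ⟨-, hZx, hZy, -, hexpν⟩
    swap
    · exact hZx (hval ν hν x y a ha h1 hx1 hxy.symm _ b hexpν).symm
    rcases hZ ν' hν' with ⟨-, hZy', hZx', -, hexpν'⟩ | ⟨-, hZx', hZy', hdegν', hexpν'⟩
    · exact hZy' (hval ν' hν' y x b hb h2 hy1 hxy _ a hexpν').symm
    by_cases he : ν' = ν ∨ ν' = ν⁻¹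
    · have heq : classInner (excFun F ν') (x : G → ℂ) = classInner (excFun F ν) (x : G → ℂ) := by
        rcases he with e | e
        · rw [e]
        · have : excFun F ν' = excFun F ν := by
            subst e
            funext g
            show Invol.secInd _ _ g = Invol.secInd _ _ g
            rw [Invol.secInd, Invol.secInd, Char.indFun_apply, Char.indFun_apply, muOf_inv]
            congr 1
            by_cases hnc : ∃ n, n ∈ Subgroup.normalizer ((P : Subgroup G) : Set G) ∧ n ∉ Subgroup.centralizer (P : Set G)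
            · obtain ⟨n, hn, hnC⟩ := hnc
              refine Fintype.sum_equiv (Equiv.mulRight n⁻¹) _ _ fun z => ?_
              show _ = Cfsg.extendByZero _ _ ((z * n⁻¹)⁻¹ * g * (z * n⁻¹))
              rw [show (z * n⁻¹)⁻¹ * g * (z * n⁻¹) = n * (z⁻¹ * g * z) * n⁻¹ by group]
              by_cases hz : z⁻¹ * g * z ∈ Subgroup.centralizer (P : Set G)
              · rw [Char.extendByZero_of_mem _ _ hz]
                have h' := F.inv_of_outer hn hnC hz
                rw [h', Char.extendByZero_of_mem _ _ (inv_mem hz)]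
                congr 1
                rw [show (⟨(z⁻¹ * g * z)⁻¹, inv_mem hz⟩ : Subgroup.centralizer (P : Set G)) = ⟨_, hz⟩⁻¹ from Subtype.ext rfl,
                  map_inv, MonoidHom.inv_apply]
              · rw [Char.extendByZero_of_not_mem _ _ hz, Char.extendByZero_of_not_mem]
                intro hmem
                refine hz ?_
                have h' := F.inv_of_outer (inv_mem hn) (fun e => hnC (inv_mem_iff.1 e)) hmem
                rw [show n⁻¹ * (n * (z⁻¹ * g * z) * n⁻¹) * n⁻¹⁻¹ = z⁻¹ * g * z by group] at h'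
                rw [h']; exact inv_mem hmem
            · exfalso
              push Not at hnc
              have hle := Subgroup.card_le_of_le (show Subgroup.normalizer ((P : Subgroup G) : Set G) ≤ Subgroup.centralizer (P : Set G) from hnc)
              rw [F.ctx.hN, F.ctx.hC] at hle
              omega
          rw [this]
      rw [h1] at heq
      exact hZx' (hval ν' hν' x y a ha heq hx1 hxy.symm _ b hexpν').symm
    push Not at he
    rcases share ν ν' hJν.1 hJν'.1 he.1 he.2 x (Z ν hν) a (Cs ν hν) hZx.symm h1 (hZC ν hν) ha (hCs ν hν)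
      y (Z ν' hν') b (Cs ν' hν') hZy'.symm hb (hCs ν' hν') h2 (hZC ν' hν') hexpν' hx1 (hZ1 ν hν) hexpν hy1 (hZ1 ν' hν') with
      ⟨e, -, -⟩ | ⟨e, -, -⟩ | ⟨e, -, -⟩ | ⟨e, e', -⟩
    · exact hxy e
    · exact hZx' e.symm
    · exact hZy e
    · rw [← e, ← e'] at hdegν'
      rcases ha with h | h <;> rcases hb with h' | h' <;> rcases hCs ν hν with h'' | h'' <;>
        subst h h' <;> rw [h''] at hdegν hdegν' <;> omega
  -- all the other pairs contain the same character
  obtain ⟨u, v, cu, cv, hucase⟩ : ∃ (u v : IrrCharacter G) (cu cv : ℤ), (cu * (charDegree (u : G → ℂ) : ℤ) + cv * (charDegree (v : G → ℂ) : ℤ) = -1) ∧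
      (cv = 1 ∨ cv = -1) ∧ (cu = 1 ∨ cu = -1) ∧ (u : G → ℂ) ≠ (fun _ => 1) ∧
      (charDegree (u : G → ℂ) * charDegree (v : G → ℂ) = dx * dy) ∧
      ∀ ν (hν : ν ∈ J), Z ν hν ≠ u ∧ cu * (charDegree (u : G → ℂ) : ℤ) + Cs ν hν * (charDegree ((Z ν hν : IrrCharacter G) : G → ℂ) : ℤ) = -1 ∧
        (∀ f : IrrCharacter G → ℂ, ∑ χ : IrrCharacter G, classInner (excFun F ν) (χ : G → ℂ) * f χ =
          f ⟨fun _ => 1, Char.isIrrCharacter_one⟩ + cu * f u + Cs ν hν * f (Z ν hν)) := by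
    by_cases hall : ∃ ν, ν ∈ J ∧ classInner (excFun F ν) (y : G → ℂ) = b
    · obtain ⟨ν', hν', h2⟩ := hall
      refine ⟨y, x, b, a, by rw [add_comm]; exact hdeg, ha, hb, hy1, by simp only [dx, dy]; rw [mul_comm], fun ν hν => ?_⟩
      rcases hZ ν hν with ⟨h1, -, -, -, -⟩ | ⟨-, -, h3, h4, h5⟩
      · exact (hno ν hν ν' hν' h1 h2).elim
      · exact ⟨h3, h4, h5⟩
    · push Not at hall
      refine ⟨x, y, a, b, hdeg, hb, ha, hx1, rfl, fun ν hν => ?_⟩
      rcases hZ ν hν with ⟨-, -, h3, h4, h5⟩ | ⟨h1, -, -, -, -⟩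
      · exact ⟨h3, h4, h5⟩
      · exact absurd h1 (hall ν hν)
  obtain ⟨hdeg', hcv, hcu, hu1, hprod, hall⟩ := hucase
  set du := charDegree (u : G → ℂ)
  set dv := charDegree (v : G → ℂ)
  have hdZ : ∀ ν (hν : ν ∈ J), charDegree ((Z ν hν : IrrCharacter G) : G → ℂ) = dv := fun ν hν => by
    obtain ⟨-, h4, -⟩ := hall ν hν
    obtain ⟨-, hd1⟩ := CharArith.irr_degree_spec v
    obtain ⟨-, hd2⟩ := CharArith.irr_degree_spec (Z ν hν)
    rcases hcu with h | h <;> rcases hcv with h' | h' <;> rcases hCs ν hν with h'' | h'' <;>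
      rw [h, h''] at h4 <;> rw [h, h'] at hdeg' <;> simp only [dv] at * <;> omega
  -- counting
  set S := J.attach.image fun ν => Z ν.1 ν.2
  have hfib : J.card ≤ 2 * S.card := by
    rw [← Finset.card_attach]
    refine Finset.card_le_mul_card_image _ 2 fun z hz => ?_
    obtain ⟨ν1, -, rfl⟩ := Finset.mem_image.1 hz
    refine le_trans (Finset.card_le_card (t := (J.attach.filter fun ν => ν.1 = ν1.1 ∨ ν.1 = ν1.1⁻¹)) fun ν hν => ?_) ?_
    · rw [Finset.mem_filter] at hν ⊢
      refine ⟨hν.1, ?_⟩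
      by_contra hne'
      push Not at hne'
      have h1 := (Finset.mem_filter.1 ν1.2).2
      have h2 := (Finset.mem_filter.1 ν.2).2
      obtain ⟨hn1, -, he1⟩ := hall _ ν1.2
      obtain ⟨hn2, -, he2⟩ := hall _ ν.2
      have hu' : ∀ μ (hμ : μ ∈ J), classInner (excFun F μ) (u : G → ℂ) = cu := fun μ hμ => by
        obtain ⟨hn3, -, he3⟩ := hall μ hμ
        have h := he3 (fun χ => if χ = u then 1 else 0)
        simp only [mul_ite, mul_one, mul_zero, Finset.sum_ite_eq', Finset.mem_univ, if_true] at h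
        rw [if_neg (fun e => hu1 (by rw [← e])), if_neg hn3, zero_add, add_zero] at h
        exact h
      rcases share ν1.1 ν.1 h1.1 h2.1 hne'.1 hne'.2 u (Z _ ν1.2) cu (Cs _ ν1.2) hn1.symm (hu' _ ν1.2) (hZC _ ν1.2) hcu (hCs _ ν1.2)
        u (Z _ ν.2) cu (Cs _ ν.2) hn2.symm hcu (hCs _ ν.2) (hu' _ ν.2) (hZC _ ν.2) he2 hu1 (hZ1 _ ν1.2) he1 hu1 (hZ1 _ ν.2) with
        ⟨-, -, e⟩ | ⟨e, -, -⟩ | ⟨e, -, -⟩ | ⟨-, -, e⟩
      · exact e hν.2.symm
      · exact hn2 e.symm
      · exact hn1 e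
      · exact e rfl
    · have : (J.attach.filter fun ν => ν.1 = ν1.1 ∨ ν.1 = ν1.1⁻¹).image Subtype.val ⊆ {ν1.1, ν1.1⁻¹} := by
        intro w hw
        obtain ⟨q, hq, rfl⟩ := Finset.mem_image.1 hw
        simpa using (Finset.mem_filter.1 hq).2
      rw [← Finset.card_image_of_injective _ Subtype.val_injective]
      exact (Finset.card_le_card this).trans Finset.card_le_two
  have hsq : S.card * dv ^ 2 ≤ Nat.card G := by
    have h := Char.sum_sq_degree (G := G)
    simp only [(CharArith.irr_degree_spec _).1] at h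
    have h' : ∑ χ : IrrCharacter G, charDegree (χ : G → ℂ) ^ 2 = Nat.card G := by exact_mod_cast h
    rw [← h']
    calc S.card * dv ^ 2 = ∑ χ ∈ S, charDegree (χ : G → ℂ) ^ 2 := by
          rw [Finset.sum_congr rfl (g := fun _ => dv ^ 2) fun χ hχ => ?_, Finset.sum_const, smul_eq_mul]
          obtain ⟨ν, -, rfl⟩ := Finset.mem_image.1 hχ
          rw [hdZ]
      _ ≤ _ := Finset.sum_le_sum_of_subset (Finset.subset_univ _)
  rw [← hprod]
  have hdu : du ≤ dv + 1 := by
    rcases hcu with h | h <;> rcases hcv with h' | h' <;> rw [h, h'] at hdeg' <;> simp only [du, dv] at * <;> omega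
  have hS : Nat.card P ≤ 3 * S.card := by omega
  have h12 : dv ^ 2 ≤ 12 * I := by
    have h1 : Nat.card P * dv ^ 2 ≤ Nat.card P * (12 * I) := by
      calc Nat.card P * dv ^ 2 ≤ 3 * S.card * dv ^ 2 := Nat.mul_le_mul_right _ hS
        _ ≤ 3 * Nat.card G := by rw [mul_assoc]; exact Nat.mul_le_mul_left 3 hsq
        _ = _ := by rw [hG]; ring
    exact Nat.le_of_mul_le_mul_left h1 (by omega)
  by_contra hlt
  rw [not_lt] at hlt
  have h6 : 6 * I ≤ dv := by nlinarith
  nlinarith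



/-- Let G be a finite group with an abelian Sylow 3-subgroup P such that the normalizer of P has order 4·#P, the centralizer C of P has order 2·#P, C meets each of its conjugates by elements outside its normalizer trivially, and every proper subgroup of G of even order has order dividing 4·#P. Then G is not simple. -/
theorem result {G : Type*} [Group G] [Finite G]
    (P : Sylow 3 G) (hab : IsMulCommutative P)
    (hN : Nat.card (Subgroup.normalizer ((P : Subgroup G) : Set G)) = 4 * Nat.card P)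
    (hC : Nat.card (Subgroup.centralizer (P : Set G)) = 2 * Nat.card P)
    (hTI : Cfsg.IsTISubset (Subgroup.centralizer (P : Set G) : Set G))
    (heven : ∀ H : Subgroup G, H ≠ ⊤ → 2 ∣ Nat.card H → Nat.card H ∣ 4 * Nat.card P) :
    ¬ IsSimpleGroup G := by
  intro hs
  have hctx : Ctx P := ⟨hs, hab, hN, hC, hTI, heven⟩
  haveI := Fintype.ofFinite G
  obtain ⟨t, F⟩ := exists_facts hctx
  obtain ⟨I, hG, hI⟩ := F.card_G
  obtain ⟨a, ha, hP⟩ := card_pos_three hctx
  have hI0 : 0 < I := Nat.pos_of_ne_zero fun e => by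
    rw [e, mul_zero] at hG; exact Nat.card_pos.ne' hG
  have finish : ∀ (ν : (P : Subgroup G) →* ℂˣ) (hν : ν ≠ 1),
      (9 ≤ Nat.card P → ∀ (x y : IrrCharacter G) (a b : ℤ), x ≠ y →
        classInner (excFun F ν) (x : G → ℂ) = a → classInner (excFun F ν) (y : G → ℂ) = b →
        (a = 1 ∨ a = -1) → (b = 1 ∨ b = -1) →
        a * (charDegree (x : G → ℂ) : ℤ) + b * (charDegree (y : G → ℂ) : ℤ) = -1 →
        (x : G → ℂ) ≠ (fun _ => 1) → (y : G → ℂ) ≠ (fun _ => 1) →
        charDegree (x : G → ℂ) * charDegree (y : G → ℂ) < 18 * I) → False := by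
    intro ν hν hb
    obtain ⟨x, y, c, d, hxy, hc, hd, hxc, hyd, hdeg, ⟨D, hD⟩, -, hx1, hy1⟩ := F.exists_exceptional hν
    obtain ⟨-, hx0⟩ := Cfsg.Agent.CharArith.irr_degree_spec x
    obtain ⟨-, hy0⟩ := Cfsg.Agent.CharArith.irr_degree_spec y
    refine arith hP ha hI ?_ (hG ▸ Cfsg.Agent.CharArith.charDegree_dvd_card x.2)
      (hG ▸ Cfsg.Agent.CharArith.charDegree_dvd_card y.2) (D := D) ?_ (fun h9 => hb h9 x y c d hxy hxc hyd hc hd hdeg hx1 hy1)
    · rcases hc with h | h <;> rcases hd with h' | h' <;> rw [h, h'] at hdeg <;> omega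
    · refine Nat.eq_of_mul_eq_mul_left (Nat.mul_pos (show 0 < 4 by norm_num) (Nat.card_pos (α := P))) ?_
      rw [← mul_assoc (4 * Nat.card P) I, ← hG, hD]; ring
  rcases Nat.lt_or_ge (Nat.card P) 9 with hlt | hge
  · haveI := hab
    haveI : Nontrivial (P : Subgroup G) := Finite.one_lt_card_iff_nontrivial.1 (by
      show 1 < Nat.card P
      rw [hP]; exact Nat.one_lt_pow (by omega) (by norm_num))
    open scoped IsMulCommutative in
    obtain ⟨eD⟩ := CommGroup.monoidHom_mulEquiv_of_hasEnoughRootsOfUnity (P : Subgroup G) ℂ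
    haveI : Nontrivial ((P : Subgroup G) →* ℂˣ) := eD.toEquiv.nontrivial
    obtain ⟨ν, hν⟩ := exists_ne (1 : (P : Subgroup G) →* ℂˣ)
    exact finish ν hν fun h => absurd h (by omega)
  · obtain ⟨ν, hν, hb⟩ := bound F hge hG hI0
    exact finish ν hν fun _ => hb

end Cfsg.Agent.S4018
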