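import Cfsg.Statements.S4020
import Cfsg.Agent.EqOrderConj.Odd
import Cfsg.Agent.Invol.ZStar
import Cfsg.Agent.Invol.Isolated
import Cfsg.Agent.Core.PCore
import Cfsg.Agent.HSub.Basic

set_option autoImplicit false
open Cfsg
open Cfsg.Agent

namespace Cfsg.Agent.S4020

open EqOrderConj Subgroup in
theorem odd_pow_inverts {G : Type*} [Group G] {q z : G} (h : q * z * q⁻¹ = z⁻¹) (j : ℕ) :
    q ^ (2 * j + 1) * z * (q ^ (2 * j + 1))⁻¹ = z⁻¹ := by
  induction j with
  | zero => simpa using h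
  | succ j ih =>
    have h2 : q * z⁻¹ * q⁻¹ = z := by
      calc q * z⁻¹ * q⁻¹ = (q * z * q⁻¹)⁻¹ := by group
        _ = z := by rw [h, inv_inv]
    rw [show 2 * (j + 1) + 1 = 2 + (2 * j + 1) by ring, pow_add]
    calc q ^ 2 * q ^ (2 * j + 1) * z * (q ^ 2 * q ^ (2 * j + 1))⁻¹
        = q * (q * (q ^ (2 * j + 1) * z * (q ^ (2 * j + 1))⁻¹) * q⁻¹) * q⁻¹ := by group
      _ = z⁻¹ := by rw [ih, h2, h]

open EqOrderConj Subgroup in
theorem odd_case {G : Type*} [Group G] [Finite G] {p : ℕ} [hp : Fact p.Prime]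
    (hD : ∀ q : ℕ, q.Prime → ConjP q G) (P : Sylow p G) (hexp : ∀ x : P, x ^ p = 1)
    (hnc : ∃ a b : P, ¬ Commute a b) (hp2 : p ≠ 2) : False := by
  have hpr : p.Prime := hp.out
  have hpodd : Odd p := hpr.odd_of_ne_two hp2
  have h2 : Fact (Nat.Prime 2) := ⟨Nat.prime_two⟩
  have hc3 := card_eq_cube (hD p hpr) (P : Subgroup G) P.isPGroup' hexp hnc
  obtain ⟨hZ, -⟩ := center_of_card_cube P.isPGroup' hc3 hnc
  have hnt : Nontrivial (center (P : Subgroup G)) :=
    Finite.one_lt_card_iff_nontrivial.mp (by rw [hZ]; exact hpr.one_lt)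
  obtain ⟨⟨z, hz⟩, hz1'⟩ := exists_ne (1 : center (P : Subgroup G))
  have hz1 : z ≠ 1 := fun h => hz1' (Subtype.ext h)
  obtain ⟨a₀, b₀, hab⟩ := hnc
  have hnc : ∃ a b : P, ¬ Commute a b := ⟨a₀, b₀, hab⟩
  have hx0 : a₀ ∉ center (P : Subgroup G) := fun h => hab ((mem_center_iff.1 h b₀).symm)
  have hzord : orderOf (z : G) = p := by
    rw [Subgroup.orderOf_coe]; exact orderOf_of_exp hexp hz1
  -- an element inverting both generators
  have turn : ∀ x : P, x ∉ center (P : Subgroup G) → ∃ w : G,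
      (∀ N : Subgroup G, N.Normal → (P : Subgroup G) ≤ N → w ∈ N) ∧
      w ^ 2 * z * (w ^ 2)⁻¹ = ((z : G))⁻¹ ∧ w ^ 2 * x * (w ^ 2)⁻¹ = ((x : G))⁻¹ := by
    intro x hx
    obtain ⟨a, b, h, ha, hb, h1, h2⟩ := exists_turn (hD p hpr) P hexp hnc hz hz1 hx
    refine ⟨a * (h * b * h⁻¹)⁻¹ * a, fun N hN hPN =>
      mul_mem (mul_mem (hPN ha) (inv_mem (hN.conj_mem b (hPN hb) h))) (hPN ha), ?_, ?_⟩
    · generalize a * (h * b * h⁻¹)⁻¹ * a = w at h1 h2
      rw [sq, mul_inv_rev, show w * w * (z : G) * (w⁻¹ * w⁻¹) = w * (w * z * w⁻¹) * w⁻¹ by group, h1,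
        show w * (x : G)⁻¹ * w⁻¹ = (w * x * w⁻¹)⁻¹ by group, h2]
    · generalize a * (h * b * h⁻¹)⁻¹ * a = w at h1 h2
      rw [sq, mul_inv_rev, show w * w * (x : G) * (w⁻¹ * w⁻¹) = w * (w * x * w⁻¹) * w⁻¹ by group, h2,
        h1]
  have zne : ((z : G))⁻¹ ≠ z := by
    intro he
    have h3 : (z : G) ^ 2 = 1 := by rw [sq]; nth_rewrite 1 [← he]; exact inv_mul_cancel _
    have := (hzord ▸ orderOf_dvd_of_pow_eq_one h3 : p ∣ 2)
    exact hp2 ((Nat.prime_dvd_prime_iff_eq hpr Nat.prime_two).1 this)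
  -- the two-part
  have two : ∀ x : P, x ∉ center (P : Subgroup G) → ∃ u : G, (∃ k : ℕ, orderOf u = 2 ^ k) ∧
      u ^ 2 * z * (u ^ 2)⁻¹ = ((z : G))⁻¹ ∧ u ^ 2 * x * (u ^ 2)⁻¹ = ((x : G))⁻¹ ∧
      u ^ 2 ≠ 1 ∧ ∀ N : Subgroup G, N.Normal → (P : Subgroup G) ≤ N → u ∈ N := by
    intro x hx
    obtain ⟨w, hwN, h1, h2⟩ := turn x hx
    obtain ⟨k, m, hm, hkm⟩ := Nat.exists_eq_two_pow_mul_odd (orderOf_pos w).ne'
    obtain ⟨j, rfl⟩ := hm
    have e : (w ^ (2 * j + 1)) ^ 2 = (w ^ 2) ^ (2 * j + 1) := by rw [← pow_mul, ← pow_mul, mul_comm]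
    have e1 : (w ^ (2 * j + 1)) ^ 2 * z * ((w ^ (2 * j + 1)) ^ 2)⁻¹ = ((z : G))⁻¹ := by
      rw [e]; exact odd_pow_inverts h1 j
    refine ⟨w ^ (2 * j + 1), ⟨k, ?_⟩, e1, by rw [e]; exact odd_pow_inverts h2 j, ?_,
      fun N hN hPN => pow_mem (hwN N hN hPN) _⟩
    · rw [orderOf_pow, hkm, Nat.gcd_eq_right (dvd_mul_left _ _), Nat.mul_div_cancel _ (by omega)]
    · intro he
      rw [he, one_mul, inv_one, mul_one] at e1
      exact zne e1.symm
  obtain ⟨u, ⟨k, hk⟩, -, -, hu2, huN⟩ := two a₀ hx0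
  have into : ∀ v : G, (∃ k : ℕ, orderOf v = 2 ^ k) → ∃ T : Sylow 2 G, v ∈ (T : Subgroup G) := by
    rintro v ⟨k, hk⟩
    obtain ⟨T, hT⟩ := (IsPGroup.iff_card.2 ⟨k, by rw [Nat.card_zpowers, hk]⟩ :
      IsPGroup 2 (zpowers v)).exists_le_sylow
    exact ⟨T, hT (mem_zpowers v)⟩
  obtain ⟨S, huS⟩ := into u ⟨k, hk⟩
  rcases exponent_or_small (hD 2 Nat.prime_two) (S : Subgroup G) S.isPGroup' with h | h | ⟨-, ⟨e⟩⟩
  · exact hu2 (congrArg Subtype.val (h ⟨u, huS⟩))
  · obtain ⟨T, K, hKn, hKT⟩ := HSub.hasNormalPComplement_of_cyclic S (fun q hq _ => hq.two_le) h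
    have hKidx : K.index = Nat.card (T : Subgroup G) := hKT.symm.index_eq_card
    obtain ⟨l, hl⟩ := IsPGroup.iff_card.1 T.isPGroup'
    have hPK : (P : Subgroup G) ≤ K := by
      intro v hv
      rw [← QuotientGroup.eq_one_iff, ← orderOf_eq_one_iff]
      apply Nat.eq_one_of_dvd_coprimes (a := p) (b := 2 ^ l)
      · exact Nat.Coprime.pow_right l ((Nat.coprime_primes hpr Nat.prime_two).2 hp2)
      · refine (orderOf_map_dvd (QuotientGroup.mk' K) v).trans ?_
        exact orderOf_dvd_of_pow_eq_one (congrArg Subtype.val (hexp ⟨v, hv⟩))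
      · rw [← hl, ← hKidx, index_eq_card]
        exact orderOf_dvd_natCard _
    have hd : orderOf u ∣ Nat.card K := by
      rw [← Subgroup.orderOf_mk u (huN K hKn hPK)]; exact orderOf_dvd_natCard _
    have hodd : ¬ 2 ∣ Nat.card K := by
      intro h2K
      apply T.not_dvd_index
      rwa [hKT.index_eq_card]
    rcases Nat.eq_zero_or_pos k with rfl | hk0
    · rw [pow_zero, orderOf_eq_one_iff] at hk
      exact hu2 (by rw [hk, one_pow])
    · exact hodd ((dvd_pow_self 2 hk0.ne').trans (hk ▸ hd))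
  · have hfour : ∀ T : Sylow 2 G, ∀ v : T, v ^ 4 = 1 ∧
        ∀ w : T, v ^ 2 = 1 → v ≠ 1 → w ^ 2 = 1 → w ≠ 1 → v = w := by
      intro T v
      let e' := (Sylow.equiv T S).trans e
      have key : ∀ q : QuaternionGroup 2, q ^ 4 = 1 ∧
          ∀ r : QuaternionGroup 2, q ^ 2 = 1 → q ≠ 1 → r ^ 2 = 1 → r ≠ 1 → q = r := by decide
      refine ⟨e'.injective (by rw [map_pow, map_one]; exact (key _).1), fun w hv hv1 hw hw1 => ?_⟩
      exact e'.injective ((key _).2 _ (by rw [← map_pow, hv, map_one])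
        (by simpa using hv1) (by rw [← map_pow, hw, map_one]) (by simpa using hw1))
    have : (Cfsg.oddCore G).Normal := Core.pPrimeCore_normal
    have inO : ∀ x : P, x ∉ center (P : Subgroup G) →
        (z : G) ∈ Cfsg.oddCore G ∧ (x : G) ∈ Cfsg.oddCore G := by
      intro x hx
      obtain ⟨v, hv, h1, h2, hv2, -⟩ := two x hx
      obtain ⟨T, hvT⟩ := into v hv
      have h4 : v ^ 4 = 1 := congrArg Subtype.val (hfour T ⟨v, hvT⟩).1
      have hi : orderOf (v ^ 2) = 2 := orderOf_eq_prime (by rw [← pow_mul]; exact h4) hv2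
      have hiso : Cfsg.IsIsolatedInvolution (v ^ 2) := by
        refine Invol.isolated_of_sylow T hi fun g hg => ?_
        have := (hfour T ⟨g * v ^ 2 * g⁻¹, hg⟩).2 ⟨v ^ 2, pow_mem hvT 2⟩
          (Subtype.ext (by
            show (g * v ^ 2 * g⁻¹) ^ 2 = 1
            rw [conj_pow, ← pow_mul, h4, mul_one, mul_inv_cancel]))
          (fun he => hv2 (by
            have h5 : g * v ^ 2 * g⁻¹ = 1 := congrArg Subtype.val he
            exact conj_eq_one_iff.1 h5))
          (Subtype.ext (by show (v ^ 2) ^ 2 = 1; rw [← pow_mul]; exact h4))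
          (fun he => hv2 (congrArg Subtype.val he))
        exact congrArg Subtype.val this
      have half : ∀ y : P, v ^ 2 * y * (v ^ 2)⁻¹ = ((y : G))⁻¹ → (y : G) ∈ Cfsg.oddCore G := by
        intro y hy
        have h5 := Invol.zstar hiso (y : G)
        rw [hy] at h5
        have h6 : ((y : G)⁻¹ * (y : G)⁻¹) ∈ Cfsg.oddCore G := h5
        obtain ⟨j, hj⟩ := hpodd
        have h7 : ((y : G)⁻¹ * (y : G)⁻¹) ^ (j + 1) = (y : G)⁻¹ := by
          rw [← sq, ← pow_mul, show 2 * (j + 1) = p + 1 by omega, pow_succ, inv_pow,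
            show (y : G) ^ p = 1 from congrArg Subtype.val (hexp y), inv_one, one_mul]
        exact inv_mem_iff.1 (h7 ▸ pow_mem h6 _)
      exact ⟨half z h1, half x h2⟩
    have hPO : (P : Subgroup G) ≤ Cfsg.oddCore G := by
      intro v hv
      by_cases hvc : (⟨v, hv⟩ : P) ∈ center (P : Subgroup G)
      · have hg : zpowers (⟨z, hz⟩ : center (P : Subgroup G)) = ⊤ :=
          zpowers_eq_top_of_prime_card hZ hz1'
        obtain ⟨j, hj⟩ := mem_zpowers_iff.1 (hg ▸ mem_top (⟨⟨v, hv⟩, hvc⟩ : center (P : Subgroup G)))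
        have hj' : (z : G) ^ j = v := by
          have := congrArg (fun w : center (P : Subgroup G) => ((w : P) : G)) hj
          simpa [SubgroupClass.coe_zpow] using this
        exact hj' ▸ zpow_mem (inO a₀ hx0).1 j
      · exact (inO ⟨v, hv⟩ hvc).2
    have hodd : ¬ 2 ∣ Nat.card (Cfsg.oddCore G) := Core.not_dvd_card_pPrimeCore
    have hd : orderOf u ∣ Nat.card (Cfsg.oddCore G) := by
      rw [← Subgroup.orderOf_mk u (huN _ this hPO)]; exact orderOf_dvd_natCard _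
    rcases Nat.eq_zero_or_pos k with rfl | hk0
    · rw [pow_zero, orderOf_eq_one_iff] at hk
      exact hu2 (by rw [hk, one_pow])
    · exact hodd ((dvd_pow_self 2 hk0.ne').trans (hk ▸ hd))


/-- Let G be a finite group in which, for every prime p, any two p-subgroups of the same order are conjugate. Then every Sylow subgroup of G is cyclic, elementary abelian, or a quaternion group of order 8. -/
theorem result {G : Type*} [Group G] [Finite G]
    (hD : ∀ p : ℕ, p.Prime → ∀ H K : Subgroup G, IsPGroup p H → IsPGroup p K → Nat.card H = Nat.card K →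
      ∃ g : G, K = H.map (MulAut.conj g).toMonoidHom) {p : ℕ} [Fact p.Prime] (P : Sylow p G) :
    IsCyclic P ∨ Cfsg.IsElementaryAbelian p (P : Subgroup G) ∨ Nonempty ((P : Subgroup G) ≃* QuaternionGroup 2) := by
  have hD' : ∀ q : ℕ, q.Prime → EqOrderConj.ConjP q G := hD
  rcases EqOrderConj.exponent_or_small (hD' p (Fact.out)) (P : Subgroup G) P.isPGroup' with h | h | ⟨-, h⟩
  · by_cases hcomm : ∀ a b : P, Commute a b
    · exact Or.inr (Or.inl ⟨⟨⟨fun a b => hcomm a b⟩⟩, fun a ha => congrArg Subtype.val (h ⟨a, ha⟩)⟩)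
    · push Not at hcomm
      exfalso
      refine odd_case hD' P h hcomm ?_
      rintro rfl
      obtain ⟨a, b, hab⟩ := hcomm
      apply hab
      have hinv : ∀ q : P, q⁻¹ = q := fun q =>
        inv_eq_of_mul_eq_one_right (by rw [← sq]; exact h q)
      calc a * b = (a * b)⁻¹ := (hinv _).symm
        _ = b⁻¹ * a⁻¹ := mul_inv_rev a b
        _ = b * a := by rw [hinv, hinv]
  · exact Or.inl h
  · exact Or.inr (Or.inr h)

end Cfsg.Agent.S4020
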