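import Cfsg.Statements.S4022
import Cfsg.Agent.Core.Hall
import Cfsg.Agent.HSub.Supersolvable
import Cfsg.Agent.Core.MinimalNormal
import Cfsg.Agent.Coprime.SchurZassenhaus
-- import your own Cfsg.Agent.* helpers here

set_option autoImplicit false
open Cfsg

namespace Cfsg.Agent.S4022

open Subgroup
open scoped Pointwise

universe u

theorem smul_eq_map {G : Type*} [Group G] (g : G) (H : Subgroup G) :
    MulAut.conj g • H = H.map (MulAut.conj g).toMonoidHom := rfl

/-- `p`-subgroups of equal order are conjugate. -/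
def ConjP (G : Type u) [Group G] (p : ℕ) : Prop :=
  ∀ H K : Subgroup G, IsPGroup p H → IsPGroup p K → Nat.card H = Nat.card K →
    ∃ g : G, MulAut.conj g • H = K

theorem conjP_of_cyclic {G : Type u} [Group G] [Finite G] {p : ℕ} [Fact p.Prime]
    (h : ∀ P : Sylow p G, IsCyclic P) : ConjP G p := by
  intro H K hH hK hc
  obtain ⟨P, hHP⟩ := hH.exists_le_sylow
  obtain ⟨Q, hKQ⟩ := hK.exists_le_sylow
  obtain ⟨g, hg⟩ := MulAction.exists_smul_eq G P Q
  refine ⟨g, ?_⟩
  have h1 : MulAut.conj g • H ≤ (Q : Subgroup G) := by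
    rw [← hg, Sylow.coe_subgroup_smul]
    exact pointwise_smul_le_pointwise_smul_iff.mpr hHP
  exact HSub.subgroup_eq_of_card_eq (h Q) h1 hKQ (by rw [Coprime.card_conj_smul, hc])

theorem cyclic_mono {G : Type u} [Group G] [Finite G] {p : ℕ} [Fact p.Prime]
    (h : ∀ P : Sylow p G, IsCyclic P) (T : Subgroup G) : ∀ P : Sylow p T, IsCyclic P := by
  intro P
  obtain ⟨Q, hQ⟩ := P.exists_comap_subtype_eq
  haveI := h Q
  refine isCyclic_of_injective
    ((T.subtype.comp (P : Subgroup T).subtype).codRestrict (Q : Subgroup G) fun x => ?_) ?_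
  · have : (x : T) ∈ Subgroup.comap T.subtype (Q : Subgroup G) := by rw [hQ]; exact x.2
    exact this
  · intro a b e
    exact Subtype.ext (Subtype.ext (congrArg (fun z : (Q : Subgroup G) => (z : G)) e))

theorem cyclic_quot {G : Type u} [Group G] [Finite G] {p : ℕ} [Fact p.Prime]
    (h : ∀ P : Sylow p G, IsCyclic P) (N : Subgroup G) [N.Normal] :
    ∀ P : Sylow p (G ⧸ N), IsCyclic P := by
  intro P
  obtain ⟨Q, rfl⟩ := Sylow.mapSurjective_surjective (QuotientGroup.mk'_surjective N) p P
  haveI := h Q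
  rw [Sylow.coe_mapSurjective]
  exact isCyclic_of_surjective ((QuotientGroup.mk' N).subgroupMap (Q : Subgroup G))
    (MonoidHom.subgroupMap_surjective _ _)

theorem conjP_quot {G : Type u} [Group G] [Finite G] {p : ℕ} [Fact p.Prime]
    (h : ConjP G p) (N : Subgroup G) [N.Normal] : ConjP (G ⧸ N) p := by
  intro A B hA hB hc
  -- lift to Sylow subgroups of the preimages
  have lift : ∀ A : Subgroup (G ⧸ N), IsPGroup p A → ∃ A' : Subgroup G, IsPGroup p A' ∧
      A'.map (QuotientGroup.mk' N) = A ∧ Nat.card A' = p ^ ((Nat.card N * Nat.card A).factorization p) := by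
    intro A hA
    set T := A.comap (QuotientGroup.mk' N) with hT
    obtain ⟨P⟩ : Nonempty (Sylow p T) := inferInstance
    refine ⟨(P : Subgroup T).map T.subtype, P.2.map _, ?_, ?_⟩
    · let f : T →* A := ((QuotientGroup.mk' N).comp T.subtype).codRestrict A fun t => t.2
      have hf : Function.Surjective f := by
        rintro ⟨a, ha⟩
        obtain ⟨x, rfl⟩ := QuotientGroup.mk'_surjective N a
        exact ⟨⟨x, ha⟩, rfl⟩
      have h1 : (P : Subgroup T).map f = ⊤ := by
        rw [← Sylow.coe_mapSurjective hf P]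
        exact ((P.mapSurjective hf).is_maximal' (hA.to_subgroup ⊤ : IsPGroup p (⊤ : Subgroup A)) le_top).symm
      rw [map_map]
      ext a
      constructor
      · rintro ⟨t, _, rfl⟩; exact t.2
      · intro ha
        have : (⟨a, ha⟩ : A) ∈ (P : Subgroup T).map f := by rw [h1]; trivial
        obtain ⟨t, ht, e⟩ := this
        exact ⟨t, ht, congrArg Subtype.val e⟩
    · rw [card_map_of_injective T.subtype_injective, P.card_eq_multiplicity, hT,
        Core.card_comap_mk]
  obtain ⟨A', hA', hAm, hAc⟩ := lift A hA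
  obtain ⟨B', hB', hBm, hBc⟩ := lift B hB
  obtain ⟨g, hg⟩ := h A' B' hA' hB' (by rw [hAc, hBc, hc])
  refine ⟨(g : G ⧸ N), ?_⟩
  rw [← hAm, ← hBm, ← hg, smul_eq_map, smul_eq_map, map_map, map_map]
  rfl

theorem main : ∀ (n : ℕ) (G : Type u) [Group G] [Finite G] [Group.IsSolvable G], Nat.card G = n →
    ∀ (r : ℕ) (H K : Subgroup G), Nat.card H = Nat.card K →
      (∀ p, p.Prime → p ∣ Nat.card H → p ≠ r → ∀ P : Sylow p G, IsCyclic P) →
      (r.Prime → r ∣ Nat.card H → ConjP G r) →
      ∃ g : G, MulAut.conj g • H = K := by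
  intro n
  induction n using Nat.strong_induction_on with
  | _ n ih =>
    intro G _ _ _ hn r H K hHK hcyc hD
    rcases subsingleton_or_nontrivial G with hs | hs
    · exact ⟨1, Subsingleton.elim _ _⟩
    obtain ⟨N, hN⟩ := Cfsg.Agent.Core.exists_isMinNormal (G := G)
    haveI := hN.normal
    obtain ⟨q, hq, hNq, hNe⟩ := hN.exists_isPGroup
    haveI := Fact.mk hq
    have hNab := hN.isMulCommutative
    -- induction in the quotient
    have step : ∀ H K : Subgroup G, N ⊓ H ≤ N → Nat.card H = Nat.card K →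
        Nat.card (H ⊓ N : Subgroup G) = Nat.card (K ⊓ N : Subgroup G) →
        (∀ p, p.Prime → p ∣ Nat.card H → p ≠ r → ∀ P : Sylow p G, IsCyclic P) →
        (r.Prime → r ∣ Nat.card H → ConjP G r) →
        ∃ g : G, MulAut.conj g • H ⊔ N = K ⊔ N := by
      intro H K _ hc hci hcy hd
      have h1 := Core.card_map_mk_mul N H
      have h2 := Core.card_map_mk_mul N K
      rw [← hci, ← hc] at h2
      have hceq : Nat.card (H.map (QuotientGroup.mk' N)) = Nat.card (K.map (QuotientGroup.mk' N)) :=
        Nat.eq_of_mul_eq_mul_right Nat.card_pos (h1.trans h2.symm)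
      have hdvd : Nat.card (H.map (QuotientGroup.mk' N)) ∣ Nat.card H := ⟨_, h1.symm⟩
      have hlt : Nat.card (G ⧸ N) < n := hn ▸ Cfsg.Agent.Core.card_quotient_lt hN.ne_bot
      obtain ⟨gb, hgb⟩ := ih _ hlt (G ⧸ N) rfl r _ _ hceq
        (fun p hp hpd hpr => haveI := Fact.mk hp; cyclic_quot (hcy p hp (hpd.trans hdvd) hpr) N)
        (fun hr hrd => haveI := Fact.mk hr; conjP_quot (hd hr (hrd.trans hdvd)) N)
      obtain ⟨g, rfl⟩ := QuotientGroup.mk'_surjective N gb
      refine ⟨g, ?_⟩
      have h3 : (MulAut.conj g • H).map (QuotientGroup.mk' N) = K.map (QuotientGroup.mk' N) := by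
        rw [← hgb, smul_eq_map, smul_eq_map, map_map, map_map]
        rfl
      have := congrArg (Subgroup.comap (QuotientGroup.mk' N)) h3
      rwa [comap_map_eq, comap_map_eq, QuotientGroup.ker_mk'] at this
    -- behaviour of `q`-parts
    have hq' : q ∣ Nat.card H → ConjP G q := fun hd => by
      by_cases hqr : q = r
      · subst hqr; exact hD hq hd
      · exact conjP_of_cyclic (hcyc q hq hd hqr)
    obtain ⟨j, hj⟩ := IsPGroup.iff_card.mp hNq
    set i := (Nat.card H).factorization q with hi
    -- Sylow `q`-subgroups of subgroups of order `|H|`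
    have syl : ∀ X : Subgroup G, Nat.card X = Nat.card H →
        ∃ Q : Subgroup G, Q ≤ X ∧ Nat.card Q = q ^ i ∧ IsPGroup q Q := by
      intro X hX
      obtain ⟨P⟩ : Nonempty (Sylow q X) := inferInstance
      refine ⟨_, map_subtype_le _, ?_, P.2.map X.subtype⟩
      rw [card_map_of_injective X.subtype_injective, P.card_eq_multiplicity, hX]
    by_cases hji : j ≤ i
    · -- `N` lies in both
      have inside : ∀ X : Subgroup G, Nat.card X = Nat.card H → N ≤ X := by
        intro X hX
        obtain ⟨Q, hQX, hQc, hQp⟩ := syl X hX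
        have hqd : q ∣ Nat.card H := by
          rcases Nat.eq_zero_or_pos j with rfl | hjp
          · exfalso
            rw [pow_zero, card_eq_one] at hj
            exact hN.ne_bot hj
          · exact hX ▸ (dvd_pow_self q (show i ≠ 0 by omega)).trans (hQc ▸ card_dvd_of_le hQX)
        obtain ⟨N', hN'c⟩ := Sylow.exists_subgroup_card_pow_prime_of_le_card hq hQp
          (n := j) (by rw [hQc]; exact Nat.pow_le_pow_right hq.pos hji)
        obtain ⟨g, hg⟩ := hq' hqd (N'.map (Q.subtype)) N
          (IsPGroup.of_card (by rw [card_map_of_injective Q.subtype_injective]; exact hN'c)) hNq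
          (by rw [card_map_of_injective Q.subtype_injective, hN'c, hj])
        have hc1 : MulAut.conj g⁻¹ • N = N := Subgroup.Normal.conjAct inferInstance _
        have : N'.map Q.subtype = N := by
          rw [← hc1, ← hg, smul_smul, ← map_mul, inv_mul_cancel, map_one, one_smul]
        exact this ▸ (map_subtype_le _).trans hQX
      obtain ⟨g, hg⟩ := step H K inf_le_left hHK
        (by rw [inf_eq_right.2 (inside H rfl), inf_eq_right.2 (inside K hHK.symm)]) hcyc hD
      refine ⟨g, ?_⟩
      rwa [sup_eq_left.2 (inside K hHK.symm), sup_eq_left.2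
        (inside _ (Coprime.card_conj_smul g H))] at hg
    -- the `q`-parts lie in `N`
    push Not at hji
    have inN : ∀ X : Subgroup G, Nat.card X = Nat.card H →
        Nat.card (X ⊓ N : Subgroup G) = q ^ i := by
      intro X hX
      obtain ⟨Q, hQX, hQc, hQp⟩ := syl X hX
      have hub : Nat.card (X ⊓ N : Subgroup G) ∣ q ^ i := by
        obtain ⟨k, hk⟩ := IsPGroup.iff_card.mp (hNq.to_le (inf_le_right : X ⊓ N ≤ N))
        rw [hk, Nat.pow_dvd_pow_iff_le_right hq.one_lt, hi, ← hX]
        exact (hq.pow_dvd_iff_le_factorization Nat.card_pos.ne').1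
          (hk ▸ card_dvd_of_le inf_le_left)
      refine Nat.dvd_antisymm hub ?_
      rcases Nat.eq_zero_or_pos i with hi0 | hip
      · rw [hi0, pow_zero]; exact one_dvd _
      have hqd : q ∣ Nat.card H := hX ▸ (dvd_pow_self q hip.ne').trans (hQc ▸ card_dvd_of_le hQX)
      obtain ⟨N', hN'c⟩ := Sylow.exists_subgroup_card_pow_prime_of_le_card hq hNq
        (n := i) (by rw [hj]; exact Nat.pow_le_pow_right hq.pos hji.le)
      obtain ⟨g, hg⟩ := hq' hqd (N'.map N.subtype) Q
        (IsPGroup.of_card (by rw [card_map_of_injective N.subtype_injective]; exact hN'c)) hQp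
        (by rw [card_map_of_injective N.subtype_injective, hN'c, hQc])
      have hQN : Q ≤ N := by
        rw [← hg]
        calc MulAut.conj g • N'.map N.subtype ≤ MulAut.conj g • N :=
              pointwise_smul_le_pointwise_smul_iff.mpr (map_subtype_le _)
          _ = N := Subgroup.Normal.conjAct inferInstance _
      exact hQc ▸ card_dvd_of_le (le_inf hQX hQN)
    obtain ⟨g₁, hg₁⟩ := step H K inf_le_left hHK (by rw [inN H rfl, inN K hHK.symm]) hcyc hD
    set H₁ := MulAut.conj g₁ • H with hH₁
    have hc₁ : Nat.card H₁ = Nat.card H := Coprime.card_conj_smul _ _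
    suffices ∃ t : G, MulAut.conj t • H₁ = K by
      obtain ⟨t, ht⟩ := this
      exact ⟨t * g₁, by rw [map_mul, mul_smul, ← hH₁, ht]⟩
    -- complements of the `q`-parts
    set m := (Nat.card H) / q ^ i with hm
    have hmq : q ^ i * m = Nat.card H := Nat.mul_div_cancel' (Nat.ordProj_dvd _ _)
    have hcop : (q ^ i).Coprime m :=
      Nat.Coprime.pow_left _ ((hq.coprime_iff_not_dvd).2
        (Nat.not_dvd_ordCompl hq Nat.card_pos.ne'))
    have compl : ∀ X : Subgroup G, Nat.card X = Nat.card H → ∃ X₀ : Subgroup G,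
        X₀ ≤ X ∧ Nat.card X₀ = m ∧ N ⊓ X₀ = ⊥ ∧ (X ⊓ N) ⊔ X₀ = X := by
      intro X hX
      obtain ⟨X₀, hX₀⟩ := Core.exists_hall (G := X) (m := m) (n := q ^ i)
        (by rw [hX, ← hmq, mul_comm]) hcop.symm
      have hle : X₀.map X.subtype ≤ X := map_subtype_le _
      have hc0 : Nat.card (X₀.map X.subtype) = m := by
        rw [card_map_of_injective X.subtype_injective, hX₀]
      have hbot : N ⊓ X₀.map X.subtype = ⊥ := by
        refine Coprime.inf_eq_bot_of_coprime ?_
        rw [hj, hc0]
        exact Nat.Coprime.pow_left _ ((hq.coprime_iff_not_dvd).2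
          (Nat.not_dvd_ordCompl hq Nat.card_pos.ne'))
      refine ⟨_, hle, hc0, hbot, ?_⟩
      refine eq_of_le_of_card_ge (sup_le inf_le_left hle) (Nat.le_of_dvd Nat.card_pos ?_)
      rw [hX, ← hmq]
      refine hcop.mul_dvd_of_dvd_of_dvd ?_ ?_
      · exact inN X hX ▸ card_dvd_of_le le_sup_left
      · exact hc0 ▸ card_dvd_of_le le_sup_right
    obtain ⟨A, hAH, hAc, hAN, hAsup⟩ := compl H₁ hc₁
    obtain ⟨B, hBK, hBc, hBN, hBsup⟩ := compl K hHK.symm
    have hAB : N ⊔ A = N ⊔ B := by
      have e1 : N ⊔ A = H₁ ⊔ N := le_antisymm (sup_le le_sup_right (hAH.trans le_sup_left))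
        (sup_le (by rw [← hAsup]; exact sup_le (inf_le_right.trans le_sup_left) le_sup_right)
          le_sup_left)
      have e2 : N ⊔ B = K ⊔ N := le_antisymm (sup_le le_sup_right (hBK.trans le_sup_left))
        (sup_le (by rw [← hBsup]; exact sup_le (inf_le_right.trans le_sup_left) le_sup_right)
          le_sup_left)
      rw [e1, e2, hg₁]
    obtain ⟨x, hxN, hx⟩ := Coprime.exists_conj_of_sup_eq
      (by rw [normalizer_eq_top_iff.2 inferInstance]; exact le_top) hBN hAN hAB.symm
      (by
        rw [hj, hBc]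
        exact Nat.Coprime.pow_left _ ((hq.coprime_iff_not_dvd).2
          (Nat.not_dvd_ordCompl hq Nat.card_pos.ne')))
      (Or.inl inferInstance)
    -- now work with `K₂ = x K`, whose complement is `A`
    set K₂ := MulAut.conj x • K with hK₂
    have hc₂ : Nat.card K₂ = Nat.card H := (Coprime.card_conj_smul _ _).trans hHK.symm
    have hAK₂ : A ≤ K₂ := hx ▸ pointwise_smul_le_pointwise_smul_iff.mpr hBK
    suffices ∃ t : G, MulAut.conj t • H₁ = K₂ by
      obtain ⟨t, ht⟩ := this
      exact ⟨x⁻¹ * t, by rw [map_mul, mul_smul, ht, hK₂, smul_smul, ← map_mul, inv_mul_cancel,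
        map_one, one_smul]⟩
    have gen : ∀ X : Subgroup G, Nat.card X = Nat.card H → A ≤ X → (X ⊓ N) ⊔ A = X := by
      intro X hX hle
      refine eq_of_le_of_card_ge (sup_le inf_le_left hle) (Nat.le_of_dvd Nat.card_pos ?_)
      rw [hX, ← hmq]
      refine hcop.mul_dvd_of_dvd_of_dvd ?_ ?_
      · exact inN X hX ▸ card_dvd_of_le le_sup_left
      · exact hAc ▸ card_dvd_of_le le_sup_right
    rcases Nat.eq_zero_or_pos i with hi0 | hip
    · refine ⟨1, ?_⟩
      rw [map_one, one_smul]
      have hb : ∀ X : Subgroup G, Nat.card X = Nat.card H → X ⊓ N = ⊥ := fun X hX =>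
        card_eq_one.1 (by rw [inN X hX, hi0, pow_zero])
      rw [← gen H₁ hc₁ hAH, ← gen K₂ hc₂ hAK₂, hb H₁ hc₁, hb K₂ hc₂]
    have hqd : q ∣ Nat.card H := by
      rw [← hmq]; exact (dvd_pow_self q hip.ne').mul_right m
    by_cases hqr : q = r
    swap
    · exfalso
      -- `N` is cyclic of order `q`
      haveI : IsCyclic N := by
        obtain ⟨P, hP⟩ := hNq.exists_le_sylow
        haveI := hcyc q hq hqd hqr P
        exact isCyclic_of_injective (Subgroup.inclusion hP) (Subgroup.inclusion_injective hP)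
      have h1 : Monoid.exponent N ∣ q := Monoid.exponent_dvd_of_forall_pow_eq_one fun y =>
        Subtype.ext (by simpa using hNe y y.2)
      rw [IsCyclic.exponent_eq_card, hj] at h1
      have : j ≤ 1 := (Nat.pow_dvd_pow_iff_le_right hq.one_lt).1 (by rwa [pow_one])
      omega
    subst hqr
    have hpH : IsPGroup q (H₁ ⊓ N : Subgroup G) := hNq.to_le inf_le_right
    have hpK : IsPGroup q (K₂ ⊓ N : Subgroup G) := hNq.to_le inf_le_right
    obtain ⟨g, hg⟩ := hD hq hqd _ _ hpH hpK (by rw [inN _ hc₁, inN _ hc₂])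
    set T := normalizer ((K₂ ⊓ N : Subgroup G) : Set G) with hT
    have hA1 : ∀ X : Subgroup G, A ≤ X → A ≤ normalizer ((X ⊓ N : Subgroup G) : Set G) := by
      intro X hle a ha
      have hxn := hle ha
      rw [mem_normalizer_iff]
      intro y
      constructor
      · rintro ⟨hy1, hy2⟩
        exact ⟨X.mul_mem (X.mul_mem hxn hy1) (X.inv_mem hxn), hN.normal.conj_mem y hy2 a⟩
      · rintro ⟨hy1, hy2⟩
        have e : y = a⁻¹ * (a * y * a⁻¹) * a⁻¹⁻¹ := by group
        rw [e]
        exact ⟨X.mul_mem (X.mul_mem (X.inv_mem hxn) hy1) (X.inv_mem (X.inv_mem hxn)),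
          hN.normal.conj_mem _ hy2 a⁻¹⟩
    have hAT : A ≤ T := hA1 K₂ hAK₂
    have hgAT : MulAut.conj g • A ≤ T := by
      rw [hT, ← hg, smul_eq_map, smul_eq_map, ← map_equiv_normalizer_eq]
      exact map_mono (hA1 H₁ hAH)
    have hTlt : Nat.card T < n := by
      rw [← hn]
      refine Core.card_lt_of_ne_top fun e => ?_
      haveI : (K₂ ⊓ N).Normal := normalizer_eq_top_iff.1 e
      rcases hN.le_or_inf_eq_bot (K₂ ⊓ N) with hle | hb
      · have := card_dvd_of_le hle
        rw [inN _ hc₂, hj, Nat.pow_dvd_pow_iff_le_right hq.one_lt] at this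
        omega
      · rw [inf_left_comm, inf_idem] at hb
        have := inN _ hc₂
        rw [hb, card_bot] at this
        exact absurd this (Nat.one_lt_pow hip.ne' hq.one_lt).ne
    have hcardA : Nat.card (A.subgroupOf T) = m := by
      rw [Nat.card_congr (subgroupOfEquivOfLe hAT).toEquiv, hAc]
    obtain ⟨⟨t, htT⟩, ht⟩ := ih _ hTlt T rfl q (A.subgroupOf T)
      ((MulAut.conj g • A).subgroupOf T)
      (by rw [hcardA, Nat.card_congr (subgroupOfEquivOfLe hgAT).toEquiv, Coprime.card_conj_smul, hAc])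
      (fun p hp hpd hpq => by
        haveI := Fact.mk hp
        refine cyclic_mono (hcyc p hp ?_ hpq) T
        rw [hcardA] at hpd
        exact hpd.trans ⟨q ^ i, by rw [mul_comm, hmq]⟩)
      (fun _ hrd => by
        rw [hcardA] at hrd
        exact absurd hrd (Nat.not_dvd_ordCompl hq Nat.card_pos.ne'))
    have hts : MulAut.conj t • A = MulAut.conj g • A := by
      have := congrArg (Subgroup.map T.subtype) ht
      rw [smul_eq_map, map_map, show T.subtype.comp (MulAut.conj (⟨t, htT⟩ : T)).toMonoidHom =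
        (MulAut.conj t).toMonoidHom.comp T.subtype from rfl, ← map_map, subgroupOf_map_subtype,
        subgroupOf_map_subtype, inf_eq_left.2 hAT, inf_eq_left.2 hgAT, ← smul_eq_map] at this
      exact this
    refine ⟨t⁻¹ * g, ?_⟩
    have h1 : MulAut.conj (t⁻¹ * g) • A = A := by
      rw [map_mul, mul_smul, ← hts, smul_smul, ← map_mul, inv_mul_cancel, map_one, one_smul]
    have htn : MulAut.conj t⁻¹ • (K₂ ⊓ N) = K₂ ⊓ N := by
      have := mem_normalizer_iff_conj_image_eq.1 (T.inv_mem htT)
      exact SetLike.coe_injective this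
    have h2 : MulAut.conj (t⁻¹ * g) • (H₁ ⊓ N) = K₂ ⊓ N := by
      rw [map_mul, mul_smul, hg, htn]
    conv_lhs => rw [← gen H₁ hc₁ hAH]
    conv_rhs => rw [← gen K₂ hc₂ hAK₂]
    rw [smul_sup, h1, h2]

/-- Let G be a finite solvable group in which, for every prime p, any two p-subgroups of the same order are conjugate, and suppose the Sylow p-subgroups of G are cyclic for all primes p with at most one exception. Then any two subgroups of G of the same order are conjugate. -/
theorem result {G : Type*} [Group G] [Finite G]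
    [Group.IsSolvable G] (hD : ∀ p : ℕ, p.Prime → ∀ H K : Subgroup G, IsPGroup p H → IsPGroup p K → Nat.card H = Nat.card K →
      ∃ g : G, K = H.map (MulAut.conj g).toMonoidHom)
    (r : ℕ) (hcyc : ∀ p : ℕ, p.Prime → p ≠ r → ∀ P : Sylow p G, IsCyclic P) :
    ∀ H K : Subgroup G, Nat.card H = Nat.card K → ∃ g : G, K = H.map (MulAut.conj g).toMonoidHom := by
  intro H K hHK
  obtain ⟨g, hg⟩ := main _ G rfl r H K hHK
    (fun p hp _ hpr => hcyc p hp hpr)
    (fun hr _ A B hA hB hc => by
      obtain ⟨g, hg⟩ := hD r hr A B hA hB hc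
      exact ⟨g, by rw [hg]; rfl⟩)
  exact ⟨g, hg.symm⟩

end Cfsg.Agent.S4022
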