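import Cfsg.Statements.S4023
import Cfsg.Agent.Fusion.UniqueInvolution
import Cfsg.Agent.Core.Basics
import Cfsg.Agent.Invol.BaerSuzuki
import Cfsg.Agent.S4034
-- import your own Cfsg.Agent.* helpers here

set_option autoImplicit false
open Cfsg

namespace Cfsg.Agent.S4023

open scoped Pointwise

open Subgroup Pointwise in
theorem card_sup_le {G : Type*} [Group G] [Finite G] {H N : Subgroup G} (h : H ≤ normalizer (N : Set G)) :
    Nat.card ↥(H ⊔ N) ≤ Nat.card H * Nat.card N := by
  have h1 : ((H ⊔ N : Subgroup G) : Set G) = (H : Set G) * (N : Set G) :=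
    coe_mul_of_left_le_normalizer_right H N h
  calc Nat.card ↥(H ⊔ N) = Nat.card ((H : Set G) * (N : Set G) : Set G) := by rw [← h1]; rfl
    _ ≤ _ := Set.natCard_mul_le

open Subgroup in
/-- A nonabelian `p`-group of exponent `p` and order at least `p ^ 4` has abelian and nonabelian
subgroups of order `p ^ 3`. -/
theorem exists_cube_subgroups {G : Type*} [Group G] [Finite G] {p : ℕ} [hp : Fact p.Prime]
    (hG : IsPGroup p G) (hexp : ∀ x : G, x ^ p = 1) (hna : ¬ IsMulCommutative G) :
    (∃ H : Subgroup G, Nat.card H = p ^ 3 ∧ ¬ IsMulCommutative H) ∧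
      (Nat.card G = p ^ 3 ∨ ∃ A : Subgroup G, Nat.card A = p ^ 3 ∧ IsMulCommutative A) := by
  have hzp : ∀ y : G, Nat.card (zpowers y) ≤ p := fun y => by
    rw [Nat.card_zpowers]
    exact Nat.le_of_dvd hp.out.pos (orderOf_dvd_of_pow_eq_one (hexp y))
  constructor
  · have hZ : center G ≠ ⊤ := fun e => hna ⟨⟨fun a b =>
      mem_center_iff.mp (e ▸ mem_top b) a⟩⟩
    have hQ : IsPGroup p (G ⧸ center G) := hG.to_quotient _
    have hnt : Nontrivial (G ⧸ center G) := by
      rw [← Finite.one_lt_card_iff_nontrivial, ← Subgroup.index_eq_card]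
      rcases Nat.lt_or_ge 1 (center G).index with h | h
      · exact h
      · exact absurd (index_eq_one.mp (le_antisymm h (Nat.pos_of_ne_zero index_ne_zero_of_finite))) hZ
    have := hQ.center_nontrivial
    obtain ⟨⟨ab, hab⟩, hab1⟩ := exists_ne (1 : center (G ⧸ center G))
    obtain ⟨a, rfl⟩ := QuotientGroup.mk_surjective ab
    have haZ : a ∉ center G := fun h => hab1 (Subtype.ext ((QuotientGroup.eq_one_iff a).mpr h))
    obtain ⟨x, hx⟩ : ∃ x : G, x * a ≠ a * x := by
      by_contra hcon
      push Not at hcon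
      exact haZ (mem_center_iff.mpr hcon)
    set c := x * a * x⁻¹ * a⁻¹
    have hcZ : c ∈ center G := by
      rw [← QuotientGroup.eq_one_iff]
      simp only [c, QuotientGroup.mk_mul, QuotientGroup.mk_inv]
      rw [mem_center_iff.mp hab, mul_inv_cancel_right, mul_inv_cancel]
    set S := zpowers c ⊔ zpowers a
    have hS : Nat.card S ≤ p * p := (card_sup_le (H := zpowers c) (N := zpowers a) (by
      rw [zpowers_le]
      refine (centralizer_le_normalizer _) ?_
      rw [mem_centralizer_iff]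
      exact fun y _ => mem_center_iff.mp hcZ y)).trans (Nat.mul_le_mul (hzp c) (hzp a))
    have hxS : x ∈ normalizer (S : Set G) := by
      refine Cfsg.Agent.Invol.mem_normalizer_of_conj_le ?_
      rw [Subgroup.map_sup, MonoidHom.map_zpowers, MonoidHom.map_zpowers, sup_le_iff, zpowers_le, zpowers_le]
      constructor
      · show x * c * x⁻¹ ∈ S
        rw [mem_center_iff.mp hcZ x, mul_inv_cancel_right]
        exact mem_sup_left (mem_zpowers c)
      · show x * a * x⁻¹ ∈ S
        rw [show x * a * x⁻¹ = c * a by simp [c]]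
        exact mul_mem (mem_sup_left (mem_zpowers c)) (mem_sup_right (mem_zpowers a))
    set H := zpowers x ⊔ S
    have hH : Nat.card H ≤ p ^ 3 := (card_sup_le (zpowers_le.mpr hxS)).trans
      ((Nat.mul_le_mul (hzp x) hS).trans (le_of_eq (by ring)))
    have hHna : ¬ IsMulCommutative H := fun h => hx (congrArg Subtype.val
      (h.is_comm.comm (⟨x, mem_sup_left (mem_zpowers x)⟩ : H)
        ⟨a, mem_sup_right (mem_sup_right (mem_zpowers a))⟩))
    obtain ⟨k, hk⟩ := IsPGroup.iff_card.mp (hG.to_subgroup H)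
    refine ⟨H, le_antisymm hH ?_, hHna⟩
    rw [hk]
    refine Nat.pow_le_pow_right hp.out.pos ?_
    by_contra hk3
    refine hHna ?_
    rcases (show k = 0 ∨ k = 1 ∨ k = 2 by omega) with rfl | rfl | rfl
    · have := (Nat.card_eq_one_iff_unique.mp (hk.trans (pow_zero p))).1
      exact ⟨⟨fun u v => Subsingleton.elim _ _⟩⟩
    · exact (isCyclic_of_prime_card (hk.trans (pow_one p))).isMulCommutative
    · exact IsPGroup.isMulCommutative_of_card_eq_prime_sq hk
  · obtain ⟨A, -, hAn, hAc, hmax⟩ :=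
      Cfsg.Agent.Fusion.exists_maximal_normal_abelian (⊥ : Subgroup G) inferInstance
    have hCA := Cfsg.Agent.Fusion.centralizer_eq_of_maximal_normal_abelian hG A hAc hmax
    obtain ⟨k, hk⟩ := IsPGroup.iff_card.mp (hG.to_subgroup A)
    obtain ⟨n, hn⟩ := IsPGroup.iff_card.mp hG
    rcases le_or_gt 3 k with h3 | h3
    · right
      obtain ⟨B, hB⟩ := Sylow.exists_subgroup_card_pow_prime (G := A) p (n := 3)
        (hk ▸ Nat.pow_dvd_pow p h3)
      refine ⟨B.map A.subtype, by rw [Subgroup.card_map_of_injective (Subgroup.subtype_injective _), hB],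
        ⟨⟨?_⟩⟩⟩
      rintro ⟨_, u, hu, rfl⟩ ⟨_, v, hv, rfl⟩
      exact Subtype.ext (congrArg (fun t : A => (t : G)) (hAc.is_comm.comm u v))
    left
    have hAcen : ¬ A ≤ center G := fun h => hna ⟨⟨fun u v => by
      have htop : A = ⊤ := by
        refine eq_top_iff.mpr fun g _ => ?_
        rw [← hCA, mem_centralizer_iff]
        exact fun y hy => (mem_center_iff.mp (h hy) g).symm
      exact congrArg Subtype.val (hAc.is_comm.comm (⟨u, htop ▸ mem_top u⟩ : A) ⟨v, htop ▸ mem_top v⟩)⟩⟩
    obtain ⟨a, haA, haZ⟩ := SetLike.not_le_iff_exists.mp hAcen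
    obtain ⟨Z, hZA, hZc, hZn, hZcard⟩ := Cfsg.Agent.Fusion.exists_central_card_prime hG A (fun e => hAcen (e ▸ bot_le))
    -- `A` has order `p ^ 2` and is generated by `Z` and `a`
    have hAeq : zpowers a ⊔ Z = A := by
      have hle : zpowers a ⊔ Z ≤ A := sup_le (zpowers_le.mpr haA) hZA
      refine eq_of_le_of_card_ge hle ?_
      obtain ⟨i, hi⟩ := IsPGroup.iff_card.mp (hG.to_subgroup (zpowers a ⊔ Z))
      rw [hk, hi]
      refine Nat.pow_le_pow_right hp.out.pos ?_
      by_contra hik
      have hi1 : i ≤ 1 := by omega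
      have h1 : Z = zpowers a ⊔ Z := eq_of_le_of_card_ge le_sup_right (by
        rw [hi, hZcard]
        exact (Nat.pow_le_pow_right hp.out.pos hi1).trans (le_of_eq (pow_one p)))
      exact haZ (hZc (h1 ▸ mem_sup_left (mem_zpowers a) : a ∈ Z))
    have hCa : centralizer ({a} : Set G) = A := by
      refine le_antisymm (fun g hg => ?_) (fun g hg => mem_centralizer_singleton_iff.mpr
        (congrArg Subtype.val (hAc.is_comm.comm (⟨g, hg⟩ : A) ⟨a, haA⟩)))
      rw [← hCA, mem_centralizer_iff]
      intro y hy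
      rw [← hAeq, SetLike.mem_coe, mem_sup_of_normal_right] at hy
      obtain ⟨u, hu, z, hz, rfl⟩ := hy
      obtain ⟨j, rfl⟩ := hu
      have h1 : Commute g a := mem_centralizer_singleton_iff.mp hg
      have h2 : Commute g z := mem_center_iff.mp (hZc hz) g
      exact ((h1.zpow_right j).mul_right h2).symm.eq
    -- the conjugates of `a` lie in the coset `Z a`
    have hidx : A.index ≤ p := by
      rw [← hCa, ← Cfsg.Agent.S4034.carrier_ncard]
      have hsub : (ConjClasses.mk a).carrier ⊆ (· * a) '' (Z : Set G) := by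
        intro y hy
        obtain ⟨g, rfl⟩ := isConj_iff.mp (ConjClasses.mk_eq_mk_iff_isConj.mp
          (ConjClasses.mem_carrier_iff_mk_eq.mp hy).symm)
        refine ⟨g * a * g⁻¹ * a⁻¹, ?_, by group⟩
        set f := QuotientGroup.mk' Z
        have hAimg : (A.map f).Normal := hAn.map f (QuotientGroup.mk'_surjective Z)
        have hle : A.map f ≤ center (G ⧸ Z) := by
          rcases eq_or_ne (A.map f) ⊥ with e | e
          · rw [e]; exact bot_le
          refine Cfsg.Agent.Fusion.le_center_of_card_eq_prime (hG.to_quotient Z) _ ?_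
          have h1 : A.map f = (zpowers a).map f := by
            rw [← hAeq, Subgroup.map_sup, (Subgroup.map_eq_bot_iff Z).mpr (by simp [f]), sup_bot_eq]
          rw [h1, MonoidHom.map_zpowers, Nat.card_zpowers]
          refine orderOf_eq_prime (by rw [← map_pow, hexp, map_one]) fun e1 => e ?_
          rw [h1, MonoidHom.map_zpowers, e1, zpowers_one_eq_bot]
        have hc : Commute (f g) (f a) := mem_center_iff.mp (hle ⟨a, haA, rfl⟩) (f g)
        rw [SetLike.mem_coe, ← QuotientGroup.eq_one_iff]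
        show f (g * a * g⁻¹ * a⁻¹) = 1
        rw [map_mul, map_mul, map_mul, map_inv, map_inv, hc.eq, mul_inv_cancel_right, mul_inv_cancel]
      refine (Set.ncard_le_ncard hsub).trans ((Set.ncard_image_le).trans ?_)
      rw [← Nat.card_coe_set_eq, ← hZcard]; rfl
    have hGle : Nat.card G ≤ p ^ 3 := by
      rw [← card_mul_index A, hk]
      calc p ^ k * A.index ≤ p ^ 2 * p :=
            Nat.mul_le_mul (Nat.pow_le_pow_right hp.out.pos (by omega)) hidx
        _ = p ^ 3 := by ring
    refine le_antisymm hGle ?_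
    rw [hn] at hGle ⊢
    refine Nat.pow_le_pow_right hp.out.pos ?_
    by_contra hn3
    refine hna ?_
    rcases (show n = 0 ∨ n = 1 ∨ n = 2 by omega) with rfl | rfl | rfl
    · have := (Nat.card_eq_one_iff_unique.mp (hn.trans (pow_zero p))).1
      exact ⟨⟨fun u v => Subsingleton.elim _ _⟩⟩
    · exact (isCyclic_of_prime_card (hn.trans (pow_one p))).isMulCommutative
    · exact IsPGroup.isMulCommutative_of_card_eq_prime_sq hn



/-- Let p be a prime and G a finite group in which any two p-subgroups of the same order are conjugate, with Sylow p-subgroup P. Then P is cyclic, or elementary abelian, or p = 2 and P is a quaternion group of order 8, or p is odd and P is non-abelian of order p³ and exponent p. -/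
theorem result {G : Type*} [Group G] [Finite G]
    {p : ℕ} [Fact p.Prime] (hC : ∀ H K : Subgroup G, IsPGroup p H → IsPGroup p K → Nat.card H = Nat.card K →
      ∃ g : G, K = H.map (MulAut.conj g).toMonoidHom) (P : Sylow p G) :
    IsCyclic P ∨ Cfsg.IsElementaryAbelian p (P : Subgroup G) ∨
      (p = 2 ∧ Nonempty ((P : Subgroup G) ≃* QuaternionGroup 2)) ∨
      (p ≠ 2 ∧ ¬ IsMulCommutative P ∧ Nat.card P = p ^ 3 ∧ Monoid.exponent P = p) := by
  have hp : p.Prime := Fact.out
  set Q := (P : Subgroup G)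
  have hiso : ∀ U V : Subgroup Q, Nat.card U = Nat.card V → Nonempty (U ≃* V) := by
    intro U V h
    have hinj : Function.Injective Q.subtype := Subgroup.subtype_injective _
    obtain ⟨g, hg⟩ := hC (U.map Q.subtype) (V.map Q.subtype)
      ((P.isPGroup'.to_subgroup U).map _) ((P.isPGroup'.to_subgroup V).map _)
      (by rw [Subgroup.card_map_of_injective hinj, Subgroup.card_map_of_injective hinj, h])
    exact ⟨(U.equivMapOfInjective _ hinj).trans
      (((U.map Q.subtype).equivMapOfInjective _ (MulAut.conj g).injective).trans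
        ((MulEquiv.subgroupCongr hg.symm).trans (V.equivMapOfInjective _ hinj).symm))⟩
  -- a cyclic subgroup and a subgroup of exponent `p`, both of order `p ^ 2`, cannot coexist
  have hno : ∀ V : Subgroup Q, Nat.card V = p ^ 2 → (∀ v ∈ V, v ^ p = 1) →
      ∀ x : Q, orderOf x ≠ p ^ 2 := by
    intro V hV hVp x hx
    obtain ⟨e⟩ := hiso (Subgroup.zpowers x) V (by rw [Nat.card_zpowers, hx, hV])
    set y := e ⟨x, Subgroup.mem_zpowers x⟩
    have h1 : orderOf y = p ^ 2 := by rw [MulEquiv.orderOf_eq, Subgroup.orderOf_mk, hx]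
    have h2 : orderOf y ∣ p := orderOf_dvd_of_pow_eq_one (Subtype.ext (hVp _ y.2))
    rw [h1] at h2
    have := Nat.le_of_dvd hp.pos h2
    have := hp.one_lt
    nlinarith
  by_cases huniq : ∀ U V : Subgroup Q, Nat.card U = p → Nat.card V = p → U = V
  · rcases Cfsg.Agent.Fusion.cyclic_or_quaternion_of_unique P.isPGroup' huniq with h | ⟨h2, k, hk, ⟨e⟩⟩
    · exact Or.inl h
    refine Or.inr (Or.inr (Or.inl ⟨h2, ?_⟩))
    rcases hk.eq_or_lt with rfl | hk2
    · exact ⟨e⟩
    exfalso
    have : NeZero (2 ^ k) := ⟨by positivity⟩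
    obtain ⟨d, hd⟩ : ∃ d, 2 ^ k = 4 * d := ⟨2 ^ (k - 2), by
      rw [show (4 : ℕ) = 2 ^ 2 from rfl, ← pow_add]; congr 1; omega⟩
    have hd0 : 0 < d := by
      rcases Nat.eq_zero_or_pos d with rfl | h
      · have : 0 < 2 ^ k := by positivity
        omega
      · exact h
    set a : QuaternionGroup (2 ^ k) := QuaternionGroup.a 1
    have ha : orderOf a = 8 * d := by
      rw [QuaternionGroup.orderOf_a_one, hd]; ring
    set a8 := a ^ d
    have ha8 : orderOf a8 = 8 := by
      rw [orderOf_pow_of_dvd hd0.ne' ⟨8, by rw [ha]; ring⟩, ha, Nat.mul_div_cancel _ hd0]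
    set b := a8 ^ 2
    set g : QuaternionGroup (2 ^ k) := QuaternionGroup.xa 0
    have hb : orderOf b = 4 := by
      rw [orderOf_pow_of_dvd (by norm_num) ⟨4, by rw [ha8]⟩, ha8]
    have hg4 : orderOf g = 4 := QuaternionGroup.orderOf_xa 0
    have hgb : g * b * g⁻¹ = b⁻¹ := by
      have h1 : g * a * g⁻¹ = a⁻¹ := by
        rw [mul_inv_eq_iff_eq_mul, eq_inv_mul_iff_mul_eq]
        simp [g, a, QuaternionGroup.a_mul_xa, QuaternionGroup.xa_mul_a]
      simp only [b, a8, ← pow_mul]
      rw [← conj_pow, h1, inv_pow]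
    have hgT : g ∈ Subgroup.normalizer ((Subgroup.zpowers b : Subgroup _) : Set (QuaternionGroup (2 ^ k))) := by
      refine Cfsg.Agent.Invol.mem_normalizer_of_conj_le ?_
      rw [MonoidHom.map_zpowers, Subgroup.zpowers_le]
      show g * b * g⁻¹ ∈ _
      rw [hgb]
      exact inv_mem (Subgroup.mem_zpowers b)
    set H := Subgroup.zpowers g ⊔ Subgroup.zpowers b
    have hgg : g * g ∈ Subgroup.zpowers b := by
      refine ⟨(2 : ℤ), ?_⟩
      show b ^ (2 : ℤ) = g * g
      rw [show (2 : ℤ) = ((2 : ℕ) : ℤ) from rfl, zpow_natCast]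
      simp only [b, a8, ← pow_mul, a, g, QuaternionGroup.a_one_pow, QuaternionGroup.xa_mul_xa]
      rw [← QuaternionGroup.a_one_pow (d * 2), ← pow_mul, QuaternionGroup.a_one_pow,
        show d * 2 * 2 = 2 ^ k by omega]
      congr 1
      simp
    have hHnc : ¬ IsMulCommutative H := fun h => by
      have h1 : g * b = b * g := congrArg Subtype.val (h.is_comm.comm
        (⟨g, Subgroup.mem_sup_left (Subgroup.mem_zpowers g)⟩ : H)
        ⟨b, Subgroup.mem_sup_right (Subgroup.mem_zpowers b)⟩)
      rw [h1, mul_inv_cancel_right] at hgb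
      have h2 : b ^ 2 = 1 := by rw [pow_two]; nth_rewrite 1 [hgb]; exact inv_mul_cancel b
      have := orderOf_dvd_of_pow_eq_one h2
      rw [hb] at this
      norm_num at this
    have hHcard : Nat.card H ≤ 8 := by
      classical
      have := Fintype.ofFinite (Subgroup.zpowers b)
      let f : Fin 2 × Subgroup.zpowers b → H := fun z =>
        ⟨g ^ (z.1 : ℕ) * (z.2 : QuaternionGroup (2 ^ k)),
          mul_mem (pow_mem (Subgroup.mem_sup_left (Subgroup.mem_zpowers g)) _) (Subgroup.mem_sup_right z.2.2)⟩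
      have hf : Function.Surjective f := by
        rintro ⟨y, hy⟩
        have hy' : y ∈ ((Subgroup.zpowers g : Subgroup (QuaternionGroup (2 ^ k))) : Set (QuaternionGroup (2 ^ k))) *
            ((Subgroup.zpowers b : Subgroup (QuaternionGroup (2 ^ k))) : Set (QuaternionGroup (2 ^ k))) := by
          rw [← Subgroup.coe_mul_of_left_le_normalizer_right _ _ (Subgroup.zpowers_le.mpr hgT)]
          exact hy
        obtain ⟨u, hu, v, hv, rfl⟩ := hy'
        obtain ⟨n, rfl⟩ := mem_powers_iff_mem_zpowers.mpr hu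
        refine ⟨(⟨n % 2, Nat.mod_lt _ (by norm_num)⟩, ⟨(g * g) ^ (n / 2) * v, mul_mem (pow_mem hgg _) hv⟩), ?_⟩
        apply Subtype.ext
        show g ^ (n % 2) * ((g * g) ^ (n / 2) * v) = g ^ n * v
        rw [← pow_two, ← pow_mul, ← mul_assoc, ← pow_add, Nat.mod_add_div]
      refine (Nat.card_le_card_of_surjective f hf).trans ?_
      rw [Nat.card_prod, Nat.card_zpowers, hb, Nat.card_eq_fintype_card, Fintype.card_fin]
    have hH8 : Nat.card H = 8 := by
      subst h2
      obtain ⟨i, hi⟩ := IsPGroup.iff_card.mp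
        ((P.isPGroup'.of_equiv e).to_subgroup H)
      refine le_antisymm hHcard ?_
      rw [hi]
      by_contra hlt
      have hi3 : i < 3 := by
        by_contra h3
        exact hlt (le_trans (by norm_num) (Nat.pow_le_pow_right (by norm_num) (not_lt.mp h3)))
      refine hHnc ?_
      rcases (show i = 0 ∨ i = 1 ∨ i = 2 by omega) with rfl | rfl | rfl
      · have := (Nat.card_eq_one_iff_unique.mp (hi.trans (pow_zero 2))).1
        exact ⟨⟨fun u v => Subsingleton.elim _ _⟩⟩
      · exact (isCyclic_of_prime_card (hi.trans (pow_one 2))).isMulCommutative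
      · exact IsPGroup.isMulCommutative_of_card_eq_prime_sq hi
    obtain ⟨E⟩ := hiso (H.map e.symm.toMonoidHom) (Subgroup.zpowers (e.symm a8))
      (by rw [Subgroup.card_map_of_injective e.symm.injective, hH8, Nat.card_zpowers, MulEquiv.orderOf_eq, ha8])
    refine hHnc ⟨⟨fun u v => ?_⟩⟩
    let F := (H.equivMapOfInjective e.symm.toMonoidHom e.symm.injective).trans E
    apply F.injective
    rw [map_mul, map_mul]
    exact mul_comm' _ _
  · push Not at huniq
    obtain ⟨U, V, hU, hV, hUV⟩ := huniq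
    have hnt : Nontrivial Q := Finite.one_lt_card_iff_nontrivial.mp
      (lt_of_lt_of_le (lt_of_lt_of_eq hp.one_lt hU.symm) (Subgroup.card_le_card_group U))
    obtain ⟨Z, -, hZc, hZn, hZcard⟩ :=
      Cfsg.Agent.Fusion.exists_central_card_prime (G := Q) P.isPGroup' ⊤ top_ne_bot
    obtain ⟨W, hW, hWZ⟩ : ∃ W : Subgroup Q, Nat.card W = p ∧ W ≠ Z := by
      by_contra hcon
      push Not at hcon
      exact hUV ((hcon U hU).trans (hcon V hV).symm)
    have hcomm : ∀ b ∈ Z, ∀ a ∈ W, Commute a b := fun b hb a _ => Subgroup.mem_center_iff.mp (hZc hb) a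
    have hWZ' : W ⊓ Z = ⊥ := by
      rcases (Nat.dvd_prime hp).mp (hW ▸ Subgroup.card_dvd_of_le (inf_le_left : W ⊓ Z ≤ W)) with h | h
      · exact Subgroup.card_eq_one.mp h
      · refine absurd ?_ hWZ
        exact ((Subgroup.eq_of_le_of_card_ge (inf_le_left : W ⊓ Z ≤ W) (hW.trans h.symm).le).symm).trans
          (Subgroup.eq_of_le_of_card_ge (inf_le_right : W ⊓ Z ≤ Z) (hZcard.trans h.symm).le)
    have hWp : ∀ w ∈ W ⊔ Z, w ^ p = 1 := by
      intro w hw
      rw [Subgroup.mem_sup_of_normal_right] at hw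
      obtain ⟨a, ha, b, hb, rfl⟩ := hw
      rw [(hcomm b hb a ha).mul_pow,
        orderOf_dvd_iff_pow_eq_one.mp ((W.orderOf_dvd_natCard ha).trans hW.dvd),
        orderOf_dvd_iff_pow_eq_one.mp ((Z.orderOf_dvd_natCard hb).trans hZcard.dvd), mul_one]
    have hord := hno (W ⊔ Z) (by rw [Cfsg.Agent.Core.card_sup_of_inf_eq_bot hWZ', hW, hZcard, pow_two]) hWp
    have hexp : ∀ x : Q, x ^ p = 1 := by
      intro x
      obtain ⟨j, hj⟩ := IsPGroup.iff_orderOf.mp P.isPGroup' x
      apply orderOf_dvd_iff_pow_eq_one.mp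
      rw [hj]
      by_contra hd
      have hj2 : 2 ≤ j := by
        by_contra h2
        exact hd ((Nat.pow_dvd_pow p (by omega : j ≤ 1)).trans (by rw [pow_one]))
      refine hord (x ^ p ^ (j - 2)) ?_
      rw [orderOf_pow_of_dvd (pow_ne_zero _ hp.ne_zero) (hj ▸ Nat.pow_dvd_pow p (by omega)), hj,
        Nat.pow_div (by omega) hp.pos, show j - (j - 2) = 2 by omega]
    have hexp' : ∀ x ∈ Q, x ^ p = 1 := fun x hx => congrArg Subtype.val (hexp ⟨x, hx⟩)
    by_cases hab : IsMulCommutative Q
    · exact Or.inr (Or.inl ⟨hab, hexp'⟩)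
    refine Or.inr (Or.inr (Or.inr ⟨?_, hab, ?_, ?_⟩))
    · rintro rfl
      refine hab ⟨⟨fun u v => ?_⟩⟩
      have hsq : ∀ c : Q, c⁻¹ = c := fun c => by rw [inv_eq_iff_mul_eq_one, ← pow_two]; exact hexp c
      calc u * v = (u * v)⁻¹ := (hsq _).symm
        _ = v * u := by rw [mul_inv_rev, hsq, hsq]
    · obtain ⟨⟨H, hH, hHn⟩, h | ⟨A, hA, hAc⟩⟩ := exists_cube_subgroups P.isPGroup' hexp hab
      · exact h
      · exfalso
        obtain ⟨E⟩ := hiso H A (hH.trans hA.symm)
        exact hHn ⟨⟨fun u v => E.injective (by rw [map_mul, map_mul]; exact hAc.is_comm.comm _ _)⟩⟩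
    · rcases (Nat.dvd_prime hp).mp (Monoid.exponent_dvd_of_forall_pow_eq_one hexp) with h | h
      · have h1 := Monoid.exp_eq_one_iff.mp h
        exact absurd (⟨⟨fun u v => Subsingleton.elim _ _⟩⟩ : IsMulCommutative Q) hab
      · exact h

end Cfsg.Agent.S4023
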