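import Cfsg.Statements.S4024
import Cfsg.Agent.S3977
import Cfsg.Agent.Layer.PConstraint
import Cfsg.Agent.Fusion.UniqueInvolution

set_option autoImplicit false
open Cfsg

namespace Cfsg.Agent.S4024

open Subgroup

variable {G : Type*} [Group G] [Finite G] {p : ℕ} [hp : Fact p.Prime]

/-- All p-subgroups of the same order are conjugate. -/
def ConjByCard (p : ℕ) (G : Type*) [Group G] : Prop :=
  ∀ H K : Subgroup G, IsPGroup p H → IsPGroup p K → Nat.card H = Nat.card K →
      ∃ g : G, K = H.map (MulAut.conj g).toMonoidHom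

theorem cyclic_of_proper (hp2 : p ≠ 2) (hC : ConjByCard p G) (P : Sylow p G) (N : Subgroup G)
    [N.Normal] (h1 : (P : Subgroup G) ⊓ N ≠ ⊥) (h2 : ¬ (P : Subgroup G) ≤ N) : IsCyclic P := by
  set S := (P : Subgroup G) ⊓ N with hS
  have hSp : IsPGroup p S := P.2.to_le inf_le_left
  obtain ⟨m, hm⟩ := IsPGroup.iff_card.1 P.2
  obtain ⟨s, hs⟩ := IsPGroup.iff_card.1 hSp
  have hs1 : 1 ≤ s := by
    rcases Nat.eq_zero_or_pos s with rfl | h
    · exact absurd (card_eq_one.1 (by rw [hs, pow_zero])) h1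
    · exact h
  have hlt : s < m := by
    have : Nat.card S < Nat.card (P : Subgroup G) := by
      refine lt_of_le_of_ne (Nat.card_le_card_of_injective (inclusion (inf_le_left : S ≤ P)) (inclusion_injective _)) fun h => h2 ?_
      have := eq_of_le_of_card_ge (inf_le_left : S ≤ P) h.ge
      rw [← this]; exact inf_le_right
    rw [hs, hm] at this
    exact (Nat.pow_lt_pow_iff_right hp.out.one_lt).1 this
  refine S3977.result p m s hp.out hm hs1 hlt (Or.inl hp2) fun U V hU hV => ?_
  have key : ∀ W : Subgroup (P : Subgroup G), Nat.card W = p ^ s → W.map (P : Subgroup G).subtype = S := by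
    intro W hW
    set W' := W.map (P : Subgroup G).subtype
    have hW' : Nat.card W' = p ^ s := by rw [card_map_of_injective (P : Subgroup G).subtype_injective, hW]
    obtain ⟨g, hg⟩ := hC S W' hSp (IsPGroup.of_card hW') (hs.trans hW'.symm)
    refine eq_of_le_of_card_ge (le_inf (map_subtype_le W) ?_) (by rw [hs, hW'])
    rw [hg]
    rintro _ ⟨x, hx, rfl⟩
    exact Normal.conj_mem inferInstance x hx.2 g
  exact map_injective (P : Subgroup G).subtype_injective ((key U hU).trans (key V hV).symm)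

theorem abelian_of_normal (hp2 : p ≠ 2) (hC : ConjByCard p G) (P : Sylow p G)
    [(P : Subgroup G).Normal] : IsMulCommutative P := by
  by_cases hcyc : IsCyclic P
  · letI : CommGroup P := hcyc.commGroup
    exact ⟨⟨mul_comm⟩⟩
  have hnu : ¬ ∀ U V : Subgroup (P : Subgroup G), Nat.card U = p → Nat.card V = p → U = V := fun h =>
    (Fusion.cyclic_or_quaternion_of_unique P.2 h).elim hcyc fun h' => hp2 h'.1
  push Not at hnu
  obtain ⟨U, V, hU, hV, hUV⟩ := hnu
  haveI : Nontrivial (P : Subgroup G) := by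
    haveI : Nontrivial U := Finite.one_lt_card_iff_nontrivial.1 (by rw [hU]; exact hp.out.one_lt)
    exact Subtype.val_injective.nontrivial (f := fun u : U => (u : (P : Subgroup G)))
  haveI := P.2.center_nontrivial
  obtain ⟨z0, hz0⟩ := exists_prime_orderOf_dvd_card' (G := center (P : Subgroup G)) p (by
    obtain ⟨k, hk⟩ := IsPGroup.iff_card.1 (P.2.to_subgroup (center (P : Subgroup G)))
    have := Finite.one_lt_card (α := center (P : Subgroup G))
    rw [hk] at this ⊢
    exact dvd_pow_self p (by rintro rfl; simp at this))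
  set z : (P : Subgroup G) := (z0 : (P : Subgroup G)) with hz
  have hzo : orderOf z = p := by rw [hz, orderOf_coe, hz0]
  have hzc : ∀ a, a * z = z * a := mem_center_iff.1 z0.2
  have hexU : ∀ W : Subgroup (P : Subgroup G), Nat.card W = p → ∀ w ∈ W, w ^ p = 1 := fun W hW w hw => by
    have h := W.orderOf_dvd_natCard hw
    rw [hW] at h
    exact orderOf_dvd_iff_pow_eq_one.1 h
  have hzp : z ^ p = 1 := orderOf_dvd_iff_pow_eq_one.1 (dvd_of_eq hzo)
  obtain ⟨W, hW, hzW⟩ : ∃ W : Subgroup (P : Subgroup G), Nat.card W = p ∧ ∃ w ∈ W, w ∉ zpowers z := by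
    have hor : ¬ U ≤ zpowers z ∨ ¬ V ≤ zpowers z := by
      by_contra h
      push Not at h
      have e : Nat.card (zpowers z) = p := by rw [Nat.card_zpowers, hzo]
      exact hUV ((eq_of_le_of_card_ge h.1 (by rw [e, hU])).trans (eq_of_le_of_card_ge h.2 (by rw [e, hV])).symm)
    rcases hor with h | h
    · exact ⟨U, hU, SetLike.not_le_iff_exists.1 h⟩
    · exact ⟨V, hV, SetLike.not_le_iff_exists.1 h⟩
  obtain ⟨w, hwW, hwz⟩ := hzW
  set E : Subgroup (P : Subgroup G) := zpowers z ⊔ zpowers w
  have hEexp : ∀ e ∈ E, e ^ p = 1 := by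
    haveI : (zpowers z).Normal := ⟨fun n hn a => by
      obtain ⟨k, rfl⟩ := mem_zpowers_iff.1 hn
      have hk : Commute a (z ^ k) := (show Commute a z from hzc a).zpow_right k
      rw [hk.eq, mul_inv_cancel_right]; exact zpow_mem_zpowers z k⟩
    intro e he
    obtain ⟨a, ha, b, hb, rfl⟩ := mem_sup_of_normal_left.1 he
    obtain ⟨i, rfl⟩ := mem_zpowers_iff.1 ha
    obtain ⟨j, rfl⟩ := mem_zpowers_iff.1 hb
    have hc : Commute (z ^ i) (w ^ j) := ((show Commute z w from (hzc w).symm).zpow_left i).zpow_right j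
    rw [hc.mul_pow, ← zpow_natCast, ← zpow_mul, mul_comm, zpow_mul, zpow_natCast, hzp,
      one_zpow, one_mul, ← zpow_natCast, ← zpow_mul, mul_comm, zpow_mul,
      zpow_natCast, hexU W hW w hwW, one_zpow]
  obtain ⟨e, he⟩ := IsPGroup.iff_card.1 (P.2.to_subgroup E)
  have he2 : 2 ≤ e := by
    by_contra h
    have hle : Nat.card E ≤ Nat.card (zpowers z) := by
      rw [he, Nat.card_zpowers, hzo]
      exact (Nat.pow_le_pow_right hp.out.pos (show e ≤ 1 by omega)).trans (pow_one p).le
    exact hwz ((eq_of_le_of_card_ge le_sup_left hle).ge (mem_sup_right (mem_zpowers w)))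
  have hexp : ∀ a : (P : Subgroup G), a ^ p = 1 := by
    intro a
    obtain ⟨k, hk⟩ := IsPGroup.iff_orderOf.1 P.2 a
    by_contra ha
    have hk2 : 2 ≤ k := by
      by_contra h
      refine ha (orderOf_dvd_iff_pow_eq_one.1 (hk ▸ ?_))
      calc p ^ k ∣ p ^ 1 := Nat.pow_dvd_pow p (by omega)
        _ = p := pow_one p
    set b := a ^ p ^ (k - 2)
    have hb : orderOf b = p ^ 2 := by
      rw [orderOf_pow_of_dvd (pow_ne_zero _ hp.out.ne_zero) (hk ▸ Nat.pow_dvd_pow p (by omega)), hk,
        Nat.pow_div (by omega) hp.out.pos, show k - (k - 2) = 2 by omega]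
    obtain ⟨E2, hE2, -⟩ := Sylow.exists_subgroup_card_pow_prime_le p
      (m := 2) (he ▸ Nat.pow_dvd_pow p he2 : p ^ 2 ∣ Nat.card E) (⊥ : Subgroup E) (n := 0) (by simp) (Nat.zero_le _)
    set E3 := (E2.map E.subtype).map (P : Subgroup G).subtype with hE3
    have hc3 : Nat.card E3 = p ^ 2 := by
      rw [hE3, card_map_of_injective (P : Subgroup G).subtype_injective, card_map_of_injective E.subtype_injective, hE2]
    obtain ⟨g, hg⟩ := hC E3 (zpowers (b : G)) (IsPGroup.of_card hc3)
      (IsPGroup.of_card (n := 2) (by rw [Nat.card_zpowers, orderOf_coe, hb]))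
      (by rw [hc3, Nat.card_zpowers, orderOf_coe, hb])
    obtain ⟨y, ⟨y', ⟨y'', -, rfl⟩, rfl⟩, hy⟩ := hg.le (mem_zpowers (b : G))
    have hbp : (b : G) ^ p = 1 := by
      rw [← hy, ← map_pow, ← map_pow, ← map_pow]
      have h0 : y'' ^ p = 1 := Subtype.ext (by rw [SubgroupClass.coe_pow, hEexp _ y''.2]; rfl)
      rw [h0, map_one, map_one, map_one]
    have hd := orderOf_dvd_of_pow_eq_one hbp
    rw [orderOf_coe, hb] at hd
    have := Nat.le_of_dvd hp.out.pos hd
    have := hp.out.two_le
    nlinarith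
  have hcen : ∀ x : (P : Subgroup G), x ∈ center (P : Subgroup G) := by
    intro x
    rcases eq_or_ne x 1 with rfl | hx
    · exact one_mem _
    have hxo : orderOf x = p := orderOf_eq_prime (hexp x) hx
    obtain ⟨g, hg⟩ := hC (zpowers (z : G)) (zpowers (x : G))
      (IsPGroup.of_card (n := 1) (by rw [Nat.card_zpowers, orderOf_coe, hzo, pow_one]))
      (IsPGroup.of_card (n := 1) (by rw [Nat.card_zpowers, orderOf_coe, hxo, pow_one]))
      (by rw [Nat.card_zpowers, Nat.card_zpowers, Subgroup.orderOf_coe z, Subgroup.orderOf_coe x, hxo, hzo])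
    obtain ⟨y, hy, hyx⟩ := hg.le (mem_zpowers (x : G))
    obtain ⟨i, rfl⟩ := mem_zpowers_iff.1 hy
    rw [mem_center_iff]
    intro a
    set a' : (P : Subgroup G) := ⟨g⁻¹ * a * g, by
      simpa using Normal.conj_mem (inferInstance : (P : Subgroup G).Normal) _ a.2 g⁻¹⟩
    have hc : (a' : G) * (z : G) ^ i = (z : G) ^ i * (a' : G) := by
      exact ((show Commute (a' : G) (z : G) from congrArg Subtype.val (hzc a')).zpow_right i).eq
    refine Subtype.ext ?_
    rw [coe_mul, coe_mul, ← hyx]
    show (a : G) * (g * (z : G) ^ i * g⁻¹) = g * (z : G) ^ i * g⁻¹ * a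
    calc (a : G) * (g * (z : G) ^ i * g⁻¹) = g * ((a' : G) * (z : G) ^ i) * g⁻¹ := by
          simp only [a']; group
      _ = g * (z : G) ^ i * g⁻¹ * a := by rw [hc]; simp only [a']; group
  exact ⟨⟨fun a b => (mem_center_iff.1 (hcen b) a)⟩⟩

theorem conjByCard_quotient (hC : ConjByCard p G) (K : Subgroup G) [K.Normal]
    (hK : (Nat.card K).Coprime p) : ConjByCard p (G ⧸ K) := by
  have lift : ∀ X : Subgroup (G ⧸ K), IsPGroup p X → ∃ R : Subgroup G, IsPGroup p R ∧
      Nat.card R = Nat.card X ∧ R.map (QuotientGroup.mk' K) = X := by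
    intro X hX
    set f := QuotientGroup.mk' K
    have hfs : Function.Surjective f := QuotientGroup.mk'_surjective K
    obtain ⟨R0⟩ : Nonempty (Sylow p (X.comap f)) := inferInstance
    obtain ⟨a, ha⟩ := IsPGroup.iff_card.1 hX
    have hcard : Nat.card (X.comap f) = Nat.card K * p ^ a := by
      have e := relIndex_comap (⊥ : Subgroup (G ⧸ K)) f (X.comap f)
      rw [MonoidHom.comap_bot, QuotientGroup.ker_mk', map_comap_eq_self_of_surjective hfs, relIndex_bot_left, ha] at e
      have hle : K ≤ X.comap f := fun k hk => by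
        rw [mem_comap, QuotientGroup.mk'_apply, (QuotientGroup.eq_one_iff k).2 hk]; exact one_mem _
      rw [← e, ← relIndex_bot_left (X.comap f), ← relIndex_mul_relIndex _ _ _ bot_le hle, relIndex_bot_left]
    have hR : Nat.card (R0 : Subgroup (X.comap f)) = p ^ a := by
      rw [R0.card_eq_multiplicity, hcard, Nat.factorization_mul Nat.card_pos.ne' (pow_ne_zero _ hp.out.ne_zero),
        Finsupp.add_apply, Nat.factorization_eq_zero_of_not_dvd (hp.out.coprime_iff_not_dvd.1 hK.symm),
        hp.out.factorization_pow, Finsupp.single_eq_same, zero_add]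
    set R := (R0 : Subgroup (X.comap f)).map (X.comap f).subtype
    have hRc : Nat.card R = p ^ a := by rw [card_map_of_injective (X.comap f).subtype_injective, hR]
    refine ⟨R, IsPGroup.of_card hRc, hRc.trans ha.symm, eq_of_le_of_card_ge ?_ (le_of_eq ?_)⟩
    · rw [map_le_iff_le_comap]; exact map_subtype_le _
    · have hd : R ⊓ K = ⊥ := inf_eq_bot_of_coprime (by rw [hRc]; exact (hK.pow_right a).symm)
      have hinj : Function.Injective (f.comp R.subtype) := by
        rw [← MonoidHom.ker_eq_bot_iff, eq_bot_iff]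
        intro r hr
        have h2 : (r : G) ∈ R ⊓ K := ⟨r.2, (QuotientGroup.eq_one_iff _).1 hr⟩
        rw [hd, mem_bot] at h2
        exact Subtype.ext h2
      rw [ha, ← hRc, ← Nat.card_range_of_injective hinj]
      exact Nat.card_congr (Equiv.setCongr (by ext y; simp [Subgroup.mem_map]))
  intro X Y hX hY hXY
  obtain ⟨R, hR, hRc, hRX⟩ := lift X hX
  obtain ⟨T, hT, hTc, hTY⟩ := lift Y hY
  obtain ⟨g, hg⟩ := hC R T hR hT (by rw [hRc, hTc, hXY])
  refine ⟨QuotientGroup.mk' K g, ?_⟩
  rw [← hTY, hg, ← hRX, map_map, map_map]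
  congr 1

/-- Let p be an odd prime and G a finite group in which any two p-subgroups of the same order are conjugate, with Sylow p-subgroup P. If H is a normal p-solvable subgroup of G whose order is divisible by p, then P is abelian, and either P ≤ H or P is cyclic. -/
theorem result {G : Type*} [Group G] [Finite G]
    {p : ℕ} [Fact p.Prime] (hp : p ≠ 2) (hC : ∀ H K : Subgroup G, IsPGroup p H → IsPGroup p K → Nat.card H = Nat.card K →
      ∃ g : G, K = H.map (MulAut.conj g).toMonoidHom) (P : Sylow p G)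
    (H : Subgroup G) [H.Normal] (hsolv : Cfsg.IsPSolvable p H) (hdiv : p ∣ Nat.card H) :
    IsMulCommutative P ∧ ((P : Subgroup G) ≤ H ∨ IsCyclic P) := by
  have hC' : ConjByCard p G := hC
  set K := (Cfsg.pPrimeCore p H).map H.subtype with hKdef
  haveI hKn : K.Normal := by rw [hKdef]; infer_instance
  have hKc : (Nat.card K).Coprime p := by
    rw [hKdef, card_map_of_injective H.subtype_injective]; exact Core.coprime_card_pPrimeCore
  have hPH : (P : Subgroup G) ⊓ H ≠ ⊥ := by
    intro h
    obtain ⟨x, hx⟩ := exists_prime_orderOf_dvd_card' (G := H) p hdiv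
    obtain ⟨Q, hQ⟩ := (IsPGroup.of_card (G := zpowers (x : G)) (p := p) (n := 1)
      (by rw [Nat.card_zpowers, orderOf_coe, hx, pow_one])).exists_le_sylow
    obtain ⟨g, hg⟩ := MulAction.exists_smul_eq G Q P
    have hmem : g * (x : G) * g⁻¹ ∈ (P : Subgroup G) ⊓ H := by
      refine ⟨?_, Normal.conj_mem inferInstance _ x.2 g⟩
      rw [← hg, Sylow.coe_subgroup_smul]
      exact smul_mem_pointwise_smul (x : G) (MulAut.conj g) _ (hQ (mem_zpowers _))
    rw [h, mem_bot, conj_eq_one_iff] at hmem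
    have : orderOf (x : G) = 1 := by rw [hmem, orderOf_one]
    rw [orderOf_coe, hx] at this
    exact (Fact.out : p.Prime).ne_one this
  by_cases hle : (P : Subgroup G) ≤ H
  swap
  · haveI := cyclic_of_proper hp hC' P H hPH hle
    exact ⟨IsCyclic.isMulCommutative, Or.inr inferInstance⟩
  refine ⟨?_, Or.inl hle⟩
  set f := QuotientGroup.mk' K
  have hfs : Function.Surjective f := QuotientGroup.mk'_surjective K
  set Hb := H.map f
  haveI : Hb.Normal := Normal.map inferInstance _ hfs
  set φ := f.subgroupMap H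
  have hφs : Function.Surjective φ := f.subgroupMap_surjective H
  have hφk : φ.ker = Cfsg.pPrimeCore p H := by
    ext x
    rw [MonoidHom.mem_ker, Subtype.ext_iff]
    show f (x : G) = 1 ↔ _
    rw [← MonoidHom.mem_ker, QuotientGroup.ker_mk', hKdef]
    exact mem_map_iff_mem H.subtype_injective
  have hO : Cfsg.pPrimeCore p Hb = ⊥ := by
    have e : H ⧸ Cfsg.pPrimeCore p H ≃* Hb := (QuotientGroup.quotientMulEquivOfEq hφk.symm).trans
      (QuotientGroup.quotientKerEquivOfSurjective φ hφs)
    rw [← Core.map_pPrimeCore e, Core.pPrimeCore_quotient_eq_bot, Subgroup.map_bot]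
  have hsc := Layer.pCoreSelfCentral_of_isPSolvable (Layer.isPSolvable_of_surjective hsolv hφs) hO
  set T := (Cfsg.pCore p Hb).map Hb.subtype with hT
  haveI hTn : T.Normal := by rw [hT]; infer_instance
  have hTp : IsPGroup p T := Core.pCore_isPGroup.map _
  set Pb : Sylow p (G ⧸ K) := P.mapSurjective hfs
  have hTP : T ≤ Pb := hTp.le_sylow_of_normal Pb
  have hPK : ∀ x ∈ (P : Subgroup G), x ∈ K → x = 1 := fun x hx hxK => by
    obtain ⟨k, hk⟩ := IsPGroup.iff_card.1 P.2
    have h2 : x ∈ (P : Subgroup G) ⊓ K := ⟨hx, hxK⟩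
    rwa [inf_eq_bot_of_coprime (by rw [hk]; exact (hKc.pow_right k).symm), mem_bot] at h2
  have hT1 : T ≠ ⊥ := by
    intro h
    have h0 : Cfsg.pCore p Hb = ⊥ := (map_eq_bot_iff_of_injective _ Hb.subtype_injective).1 (hT ▸ h)
    have htriv : ∀ y : Hb, y = 1 := fun y => by
      have hy : y ∈ centralizer (Cfsg.pCore p Hb : Set Hb) := by
        rw [mem_centralizer_iff, h0]; intro z hz; rw [mem_bot.1 hz, one_mul, mul_one]
      have := hsc hy
      rwa [h0, mem_bot] at this
    apply hPH
    rw [eq_bot_iff]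
    rintro x ⟨hxP, hxH⟩
    refine hPK x hxP ((QuotientGroup.eq_one_iff x).1 ?_)
    exact congrArg Subtype.val (htriv ⟨f x, mem_map_of_mem f hxH⟩)
  have hCb := conjByCard_quotient hC' K hKc
  have hcomm : IsMulCommutative Pb := by
    by_cases hPT : (Pb : Subgroup (G ⧸ K)) ≤ T
    · haveI : (Pb : Subgroup (G ⧸ K)).Normal := by rw [le_antisymm hPT hTP]; exact hTn
      exact abelian_of_normal hp hCb Pb
    · haveI := cyclic_of_proper hp hCb Pb T (by rw [inf_eq_right.2 hTP]; exact hT1) hPT
      exact IsCyclic.isMulCommutative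
  refine ⟨⟨fun a b => Subtype.ext ?_⟩⟩
  have h1 : f ((a : G) * b) = f ((b : G) * a) := by
    rw [map_mul, map_mul]
    exact congrArg Subtype.val (hcomm.is_comm.comm (⟨f a, mem_map_of_mem f a.2⟩ : Pb) ⟨f b, mem_map_of_mem f b.2⟩)
  have h2 : ((a : G) * b) * ((b : G) * a)⁻¹ ∈ K := by
    rw [← QuotientGroup.eq_one_iff]
    show f _ = 1
    rw [map_mul, map_inv, h1, mul_inv_cancel]
  exact mul_inv_eq_one.1 (hPK _ (mul_mem (mul_mem a.2 b.2) (inv_mem (mul_mem b.2 a.2))) h2)

end Cfsg.Agent.S4024
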