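import Cfsg.Statements.S4025
import Cfsg.Agent.ConjPSub.Semilinear
import Cfsg.Agent.Core.PCore
-- import your own Cfsg.Agent.* helpers here

set_option autoImplicit false
open Cfsg

namespace Cfsg.Agent.S4025

open Subgroup Module

variable {G : Type*} [Group G] [Finite G] {p : ℕ} [hp : Fact p.Prime]

/-- an abelian Sylow subgroup controls the fusion of its subgroups -/
theorem exists_mem_normalizer (P : Sylow p G) (hab : IsMulCommutative (P : Subgroup G)) {A B : Subgroup G}
    (hA : A ≤ (P : Subgroup G)) (hB : B ≤ (P : Subgroup G)) {g : G} (hg : A.map (MulAut.conj g).toMonoidHom = B) :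
    ∃ n ∈ normalizer ((P : Subgroup G) : Set G), A.map (MulAut.conj n).toMonoidHom = B := by
  classical
  set S := centralizer (B : Set G) with hS
  have hc : ∀ a ∈ (P : Subgroup G), ∀ b ∈ (P : Subgroup G), a * b = b * a := fun a ha b hb =>
    congrArg Subtype.val (hab.is_comm.comm (⟨a, ha⟩ : (P : Subgroup G)) ⟨b, hb⟩)
  have h1 : (P : Subgroup G) ≤ S := fun x hx => mem_centralizer_iff.mpr fun b hb => hc b (hB hb) x hx
  have h2 : ((g • P : Sylow p G) : Subgroup G) ≤ S := by
    rw [Sylow.coe_subgroup_smul]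
    rintro _ ⟨x, hx, rfl⟩
    refine mem_centralizer_iff.mpr fun b hb => ?_
    obtain ⟨a, ha, rfl⟩ := hg ▸ hb
    show MulAut.conj g a * MulAut.conj g x = MulAut.conj g x * MulAut.conj g a
    rw [← map_mul, ← map_mul, hc a (hA ha) x hx]
  obtain ⟨c, hc'⟩ := MulAction.exists_smul_eq S ((g • P : Sylow p G).subtype h2) (P.subtype h1)
  have he : ((c : G) • (g • P : Sylow p G)) = P := by
    have h3 := (Sylow.smul_subtype h2 c).symm.trans hc'
    exact Sylow.subtype_injective h3
  refine ⟨(c : G) * g, ?_, ?_⟩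
  · exact Sylow.smul_eq_iff_mem_normalizer.mp (by rw [mul_smul, he])
  · refine le_antisymm ?_ ?_
    · rintro _ ⟨a, ha, rfl⟩
      have hb : g * a * g⁻¹ ∈ B := hg ▸ ⟨a, ha, rfl⟩
      show (c : G) * g * a * ((c : G) * g)⁻¹ ∈ B
      rw [show (c : G) * g * a * ((c : G) * g)⁻¹ = (c : G) * (g * a * g⁻¹) * (c : G)⁻¹ by group,
        ← mem_centralizer_iff.mp c.2 _ hb, mul_inv_cancel_right]
      exact hb
    · intro b hb
      obtain ⟨a, ha, hab'⟩ := hg.ge hb
      refine ⟨a, ha, ?_⟩
      show (c : G) * g * a * ((c : G) * g)⁻¹ = b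
      have hab'' : g * a * g⁻¹ = b := hab'
      rw [show (c : G) * g * a * ((c : G) * g)⁻¹ = (c : G) * (g * a * g⁻¹) * (c : G)⁻¹ by group, hab'',
        ← mem_centralizer_iff.mp c.2 _ hb, mul_inv_cancel_right]

theorem card_semiaffine_le (q n : ℕ) [Fact q.Prime] (hn : n ≠ 0) :
    Nat.card (Cfsg.semiaffineGroup (GaloisField q n)) ≤
      (q ^ n - 1) * q ^ n * Nat.card (GaloisField q n ≃+* GaloisField q n) := by
  classical
  set F := GaloisField q n
  haveI : Finite (F ≃+* F) := Finite.of_injective (fun f => (f : F → F)) DFunLike.coe_injective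
  let f : Fˣ × F × (F ≃+* F) → Cfsg.semiaffineGroup F := fun x =>
    ⟨(x.2.2.toEquiv.trans x.1.mulLeft).trans (Equiv.addRight x.2.1), x.1, x.2.1, x.2.2, fun _ => rfl⟩
  have hf : Function.Surjective f := by
    rintro ⟨s, a, b, φ, h⟩
    exact ⟨(a, b, φ), Subtype.ext (Equiv.ext fun x => (h x).symm)⟩
  refine (Nat.card_le_card_of_surjective f hf).trans (le_of_eq ?_)
  rw [Nat.card_prod, Nat.card_prod, Nat.card_units, GaloisField.card q n hn, mul_assoc]

theorem card_affine_le (q n : ℕ) [Fact q.Prime] (hn : n ≠ 0) :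
    Nat.card (Cfsg.affineGroup (GaloisField q n)) ≤ (q ^ n - 1) * q ^ n := by
  classical
  set F := GaloisField q n
  let f : Fˣ × F → Cfsg.affineGroup F := fun x =>
    ⟨x.1.mulLeft.trans (Equiv.addRight x.2), x.1, x.2, fun _ => rfl⟩
  have hf : Function.Surjective f := by
    rintro ⟨s, a, b, h⟩
    exact ⟨(a, b), Subtype.ext (Equiv.ext fun x => (h x).symm)⟩
  refine (Nat.card_le_card_of_surjective f hf).trans (le_of_eq ?_)
  rw [Nat.card_prod, Nat.card_units, GaloisField.card q n hn]

/-- an injective map into a group of at most the same order is an isomorphism -/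
theorem nonempty_iso {A B : Type*} [Group A] [Group B] [Finite A] [Finite B] (f : A →* B) (hf : Function.Injective f)
    (h : Nat.card B ≤ Nat.card A) : Nonempty (A ≃* B) :=
  ⟨MulEquiv.ofBijective f (hf.bijective_of_nat_card_le h)⟩

theorem main (hC : ∀ H K : Subgroup G, IsPGroup p H → IsPGroup p K → Nat.card H = Nat.card K →
      ∃ g : G, K = H.map (MulAut.conj g).toMonoidHom) (P : Sylow p G) (n : ℕ) (hn : 3 ≤ n)
    (hel : Cfsg.IsElementaryAbelian p (P : Subgroup G)) (hcard : Nat.card P = p ^ n)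
    (N : Subgroup G) (hN : N = Subgroup.normalizer ((P : Subgroup G) : Set G))
    (hsolv : Group.IsSolvable (↥N ⧸ Cfsg.pPrimeCore p ↥N)) :
    (n = 3 ∧ (∃ f : ↥N ⧸ Cfsg.pPrimeCore p ↥N →* ↥(Cfsg.semiaffineGroup (GaloisField p 3)), Function.Injective f) ∧
      (p = 2 → Nonempty (↥N ⧸ Cfsg.pPrimeCore p ↥N ≃* Cfsg.semiaffineGroup (GaloisField 2 3)) ∨
               Nonempty (↥N ⧸ Cfsg.pPrimeCore p ↥N ≃* Cfsg.affineGroup (GaloisField 2 3)))) ∨
    (n = 5 ∧ p = 2 ∧ Nonempty (↥N ⧸ Cfsg.pPrimeCore p ↥N ≃* Cfsg.semiaffineGroup (GaloisField 2 5))) := by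
  classical
  have hPN : (P : Subgroup G) ≤ N := hN ▸ le_normalizer
  set P' : Subgroup N := (P : Subgroup G).subgroupOf N with hP'
  haveI hP'n : P'.Normal := normal_subgroupOf_of_le_normalizer hN.le
  have hP'c : Nat.card P' = p ^ n := by
    rw [hP', Nat.card_congr (subgroupOfEquivOfLe hPN).toEquiv, ← hcard]
  have hidx : ¬ p ∣ P'.index := fun h => P.not_dvd_index (h.trans (relIndex_dvd_index_of_le hPN))
  have hcop : (Nat.card P').Coprime P'.index := by
    rw [hP'c]; exact Nat.Coprime.pow_left _ (hp.out.coprime_iff_not_dvd.mpr hidx)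
  obtain ⟨H, hH⟩ := exists_right_complement'_of_coprime hcop
  have hcomm : ∀ a b : P', a * b = b * a := fun a b => by
    refine Subtype.ext (Subtype.ext ?_)
    show ((a : N) : G) * ((b : N) : G) = ((b : N) : G) * ((a : N) : G)
    exact congrArg Subtype.val
      (hel.1.is_comm.comm (⟨((a : N) : G), a.2⟩ : (P : Subgroup G)) ⟨((b : N) : G), b.2⟩)
  letI : CommGroup P' := { (inferInstance : Group P') with mul_comm := hcomm }
  have hexp : ∀ x : Additive P', p • x = 0 := fun x => by
    rw [← ofMul_toMul x, ← ofMul_pow, show Additive.toMul x ^ p = 1 from Subtype.ext (Subtype.ext (hel.2 _ (Additive.toMul x).2))]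
    rfl
  haveI : Module (ZMod p) (Additive P') := AddCommGroup.zmodModule hexp
  -- the linear action of `N`
  let ρ0 : N → (Additive P' ≃ₗ[ZMod p] Additive P') := fun x =>
    (MulEquiv.toAdditive (MulAut.conjNormal (H := P') x)).toLinearEquiv fun c v => ZMod.map_smul _ c v
  have hρ0 : ∀ x : N, ∀ v, (((Additive.toMul (ρ0 x v) : P') : N)) = x * (Additive.toMul v : P') * x⁻¹ :=
    fun x v => MulAut.conjNormal_apply _ _
  let ρ : N →* (Additive P' ≃ₗ[ZMod p] Additive P') := MonoidHom.mk' ρ0 fun x y => LinearEquiv.ext fun v => by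
    refine Additive.toMul.injective (Subtype.ext ?_)
    rw [LinearEquiv.mul_apply, hρ0, hρ0, hρ0]
    group
  have hρ : ∀ x : N, ∀ v, (((Additive.toMul (ρ x v) : P') : N)) = x * (Additive.toMul v : P') * x⁻¹ := hρ0
  set R := ρ.range with hR
  have hPρ : P' ≤ ρ.ker := fun w hw => LinearEquiv.ext fun v => by
    refine Additive.toMul.injective (Subtype.ext ?_)
    rw [hρ]
    show w * _ * w⁻¹ = ((Additive.toMul v : P') : N)
    rw [show w * ((Additive.toMul v : P') : N) = (Additive.toMul v : P') * w from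
      congrArg Subtype.val (mul_comm (⟨w, hw⟩ : P') (Additive.toMul v)), mul_inv_cancel_right]
  set K := Cfsg.pPrimeCore p ↥N with hK
  haveI : K.Normal := Core.pPrimeCore_normal
  have hKcop : (Nat.card K).Coprime p := Core.coprime_card_pPrimeCore
  have hKP : K ⊓ P' = ⊥ := by
    refine eq_bot_of_card_le _ (le_of_eq (Nat.eq_one_of_dvd_coprimes ?_ (card_dvd_of_le inf_le_left)
      (card_dvd_of_le inf_le_right)))
    rw [hP'c]; exact hKcop.pow_right n
  have hKρ : K ≤ ρ.ker := fun k hk => LinearEquiv.ext fun v => by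
    refine Additive.toMul.injective (Subtype.ext ?_)
    rw [hρ]
    show k * _ * k⁻¹ = ((Additive.toMul v : P') : N)
    have h1 : k * (Additive.toMul v : P') * k⁻¹ * ((Additive.toMul v : P') : N)⁻¹ ∈ K ⊓ P' :=
      mem_inf.mpr ⟨by
        rw [mul_assoc, mul_assoc]
        exact mul_mem hk (by rw [← mul_assoc]; exact Normal.conj_mem inferInstance _ (inv_mem hk) _),
        mul_mem (hP'n.conj_mem _ (Additive.toMul v).2 k) (inv_mem (Additive.toMul v).2)⟩
    rw [hKP, mem_bot, mul_inv_eq_one] at h1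
    exact h1
  haveI : Group.IsSolvable R := by
    let f : (N ⧸ K) →* R := QuotientGroup.lift K ρ.rangeRestrict fun k hk => Subtype.ext (hKρ hk)
    have hf : Function.Surjective f := fun r => by
      obtain ⟨x, hx⟩ := ρ.rangeRestrict_surjective r
      exact ⟨x, hx⟩
    haveI := hsolv
    exact Group.isSolvable_of_surjective hf
  -- transitivity
  let toG : Additive P' → G := fun v => (((Additive.toMul v : P') : N) : G)
  have htoG : Function.Injective toG := fun a b h => Additive.toMul.injective (Subtype.ext (Subtype.ext h))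
  let sub : Submodule (ZMod p) (Additive P') → Subgroup G := fun W =>
    ((AddSubgroup.toSubgroup' W.toAddSubgroup).map P'.subtype).map N.subtype
  have hsub : ∀ W g, g ∈ sub W ↔ ∃ v ∈ W, toG v = g := fun W g => by
    constructor
    · rintro ⟨_, ⟨w, hw, rfl⟩, rfl⟩
      exact ⟨Additive.ofMul w, hw, rfl⟩
    · rintro ⟨v, hv, rfl⟩
      exact ⟨_, ⟨Additive.toMul v, hv, rfl⟩, rfl⟩
  have hsubP : ∀ W, sub W ≤ (P : Subgroup G) := fun W g hg => by
    obtain ⟨v, -, rfl⟩ := (hsub W g).mp hg
    exact (Additive.toMul v).2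
  have hsubc : ∀ W, Nat.card (sub W) = Nat.card W := fun W => by
    rw [show sub W = ((AddSubgroup.toSubgroup' W.toAddSubgroup).map P'.subtype).map N.subtype from rfl,
      card_map_of_injective N.subtype_injective, card_map_of_injective P'.subtype_injective]
    rfl
  have hVc : Nat.card (Additive P') = p ^ n := hP'c
  have htr : ∀ W W' : Submodule (ZMod p) (Additive P'), Nat.card W = Nat.card W' →
      ∃ r ∈ R, W.map (r : Additive P' →ₗ[ZMod p] Additive P') = W' := by
    intro W W' hWW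
    obtain ⟨g, hg⟩ := hC (sub W) (sub W') (P.2.to_le (hsubP W)) (P.2.to_le (hsubP W')) (by rw [hsubc, hsubc, hWW])
    obtain ⟨x, hx, hxW⟩ := exists_mem_normalizer P hel.1 (hsubP W) (hsubP W') hg.symm
    refine ⟨ρ ⟨x, hN ▸ hx⟩, ⟨_, rfl⟩, ?_⟩
    refine Submodule.ext fun v => ⟨?_, fun hv => ?_⟩
    · rintro ⟨u, hu, rfl⟩
      have h1 : x * toG u * x⁻¹ ∈ sub W' := hxW ▸ ⟨toG u, (hsub _ _).mpr ⟨u, hu, rfl⟩, rfl⟩
      obtain ⟨u', hu', e⟩ := (hsub _ _).mp h1
      rwa [show ((ρ ⟨x, hN ▸ hx⟩ : Additive P' ≃ₗ[ZMod p] Additive P') : Additive P' →ₗ[ZMod p] Additive P') u = u' from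
        htoG (Eq.trans rfl e.symm)]
    · obtain ⟨_, hy, e⟩ := hxW.ge ((hsub _ _).mpr ⟨v, hv, rfl⟩)
      obtain ⟨u, hu, rfl⟩ := (hsub _ _).mp hy
      exact ⟨u, hu, htoG e⟩
  obtain ⟨hcases, e, hsemi, h5, h3⟩ := ConjPSub.linear_cases (V := Additive P') hn hVc R htr
  set F := GaloisField p n
  -- the permutation representation on the cosets of the complement
  let c : Additive P' → N ⧸ H := fun v => QuotientGroup.mk (((Additive.toMul v : P') : N))
  have hc : Function.Bijective c := by
    refine ⟨fun a b h => ?_, fun q => ?_⟩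
    · refine Additive.toMul.injective ?_
      have h1 : ((Additive.toMul a : P') : N)⁻¹ * (Additive.toMul b : P') ∈ H := QuotientGroup.eq.mp h
      have h2 : ((Additive.toMul a : P') : N)⁻¹ * (Additive.toMul b : P') ∈ P' :=
        mul_mem (inv_mem (Additive.toMul a).2) (Additive.toMul b).2
      exact Subtype.ext (inv_mul_eq_one.mp (mem_bot.mp (hH.disjoint.le_bot ⟨h2, h1⟩)))
    · obtain ⟨x, rfl⟩ := QuotientGroup.mk_surjective q
      obtain ⟨⟨w, h⟩, hwh⟩ := hH.surjective x
      refine ⟨Additive.ofMul w, QuotientGroup.eq.mpr ?_⟩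
      rw [← hwh]
      show (w : N)⁻¹ * ((w : N) * (h : N)) ∈ H
      rw [inv_mul_cancel_left]; exact h.2
  let E : F ≃ N ⧸ H := e.toEquiv.symm.trans (Equiv.ofBijective c hc)
  let Φ : N →* Equiv.Perm F :=
    (E.symm.permCongrHom.toMonoidHom).comp (MulAction.toPermHom N (N ⧸ H))
  have hΦ : ∀ (w : P') (h : H) (y : F),
      Φ ((w : N) * (h : N)) y = e (Additive.ofMul w) + e (ρ (h : N) (e.symm y)) := by
    intro w h y
    rw [← map_add]
    show E.symm (((w : N) * (h : N)) • E y) = _
    rw [Equiv.symm_apply_eq]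
    show _ = c (e.symm (e (Additive.ofMul w + ρ (h : N) (e.symm y))))
    rw [e.symm_apply_apply]
    refine QuotientGroup.eq.mpr ?_
    show (((w : N) * (h : N)) * _)⁻¹ * ((w : N) * ((h : N) * ((Additive.toMul (e.symm y) : P') : N) * (h : N)⁻¹)) ∈ H
    have : ∀ z : N, (((w : N) * (h : N)) * z)⁻¹ * ((w : N) * ((h : N) * z * (h : N)⁻¹)) = (h : N)⁻¹ := fun z => by group
    exact Eq.mpr (congrArg (· ∈ H) (this _)) (inv_mem h.2)
  have hsemiH : ∀ h : H, ∃ (a : Fˣ) (σ : F ≃+* F), ∀ y, e (ρ (h : N) (e.symm y)) = (a : F) * σ y := by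
    intro h
    obtain ⟨a, σ, has⟩ := hsemi (ρ (h : N)) ⟨_, rfl⟩
    have ha : a ≠ 0 := fun h0 => by
      have h1 := has (e.symm 1)
      rw [h0, zero_mul, e.map_eq_zero_iff, LinearEquiv.map_eq_zero_iff, e.symm.map_eq_zero_iff] at h1
      exact one_ne_zero h1
    exact ⟨Units.mk0 a ha, σ, fun y => by rw [has, e.apply_symm_apply]; rfl⟩
  have hmem : ∀ x : N, Φ x ∈ Cfsg.semiaffineGroup F := by
    intro x
    obtain ⟨⟨w, h⟩, rfl⟩ := hH.surjective x
    obtain ⟨a, σ, has⟩ := hsemiH h
    exact ⟨a, e (Additive.ofMul w), σ, fun y => by rw [hΦ, has, add_comm]⟩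
  have hHK : K ≤ H := by
    have h1 : Nat.card (K ⊔ H : Subgroup N) ∣ Nat.card H * Nat.card K := by
      rw [← relIndex_bot_left (H := K ⊔ H), ← relIndex_mul_relIndex _ K _ bot_le le_sup_left, relIndex_bot_left,
        sup_comm, relIndex_sup_right, mul_comm (Nat.card H)]
      exact Nat.mul_dvd_mul_left _ (Subgroup.relIndex_dvd_card K H)
    have h2 : Nat.card (K ⊔ H : Subgroup N) ∣ Nat.card H * p ^ n := by
      rw [← hP'c, mul_comm, hH.card_mul]
      exact card_subgroup_dvd_card _
    have h3 := Nat.dvd_gcd h1 h2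
    rw [Nat.gcd_mul_left, (hKcop.pow_right n).gcd_eq_one, mul_one] at h3
    exact (le_sup_left : K ≤ K ⊔ H).trans
      (eq_of_le_of_card_ge le_sup_right (Nat.le_of_dvd Nat.card_pos h3)).ge
  have hHcop : (Nat.card H).Coprime p := by
    have h1 := hH.card_mul
    rw [← P'.card_mul_index] at h1
    rw [Nat.eq_of_mul_eq_mul_left Nat.card_pos h1]
    exact (hp.out.coprime_iff_not_dvd.mpr hidx).symm
  have hker : Φ.ker = K := by
    have hle : Φ.ker ≤ H := fun x hx => by
      obtain ⟨⟨w, h⟩, rfl⟩ := hH.surjective x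
      have h0 := congrArg (fun s : Equiv.Perm F => s 0) hx
      simp only [hΦ, map_zero, add_zero, Equiv.Perm.coe_one, id_eq, e.map_eq_zero_iff] at h0
      show (w : N) * (h : N) ∈ H
      rw [show w = 1 from h0]
      simpa using h.2
    refine le_antisymm (Core.le_pPrimeCore (hHcop.coprime_dvd_left (card_dvd_of_le hle))) fun k hk => ?_
    refine Equiv.ext fun y => ?_
    have := hΦ 1 ⟨k, hHK hk⟩ y
    rw [show ((1 : P') : N) * ((⟨k, hHK hk⟩ : H) : N) = k from one_mul k] at this
    rw [this, show ρ k = 1 from hKρ hk]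
    simp
  let f : N ⧸ K →* Cfsg.semiaffineGroup F :=
    QuotientGroup.lift K (Φ.codRestrict _ hmem) fun k hk => Subtype.ext (hker.ge hk)
  have hf : Function.Injective f := by
    refine (injective_iff_map_eq_one _).mpr fun q hq => ?_
    obtain ⟨x, rfl⟩ := QuotientGroup.mk_surjective q
    exact (QuotientGroup.eq_one_iff x).mpr (hker.le (congrArg Subtype.val hq))
  -- orders
  have hRH : R = H.map ρ := by
    refine le_antisymm ?_ (map_le_range _ _)
    rintro _ ⟨x, rfl⟩
    obtain ⟨⟨w, h⟩, rfl⟩ := hH.surjective x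
    refine ⟨h, h.2, ?_⟩
    rw [map_mul, show ρ (w : N) = 1 from hPρ w.2, one_mul]
  have hcardQ : Nat.card (N ⧸ K) = p ^ n * Nat.card R := by
    have h1 : Nat.card R * Nat.card (H ⊓ ρ.ker : Subgroup N) = Nat.card H := by
      rw [hRH, ← relIndex_ker, ← relIndex_bot_left (H := H),
        ← relIndex_mul_relIndex _ (H ⊓ ρ.ker) _ bot_le inf_le_left, relIndex_bot_left, inf_relIndex_left,
        mul_comm]
    have h2 : H ⊓ ρ.ker = K := by
      refine le_antisymm (fun x hx => hker.le (Equiv.ext fun y => ?_)) (le_inf hHK hKρ)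
      have := hΦ 1 ⟨x, hx.1⟩ y
      rw [show ((1 : P') : N) * ((⟨x, hx.1⟩ : H) : N) = x from one_mul x] at this
      rw [this, show ρ x = 1 from hx.2]
      simp
    rw [h2] at h1
    refine Nat.eq_of_mul_eq_mul_right (show 0 < Nat.card K from Nat.card_pos) ?_
    rw [← card_eq_card_quotient_mul_card_subgroup, ← hH.card_mul, hP'c, ← h1, mul_assoc]
  have haut : ∀ q m : ℕ, [Fact q.Prime] → m ≠ 0 →
      Nat.card (GaloisField q m ≃+* GaloisField q m) = m := fun q m _ hm => by
    haveI : Module.Finite (ZMod q) (GaloisField q m) := inferInstance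
    let E' : (GaloisField q m ≃+* GaloisField q m) ≃ Gal((GaloisField q m)/ZMod q) :=
      { toFun := fun σ => AlgEquiv.ofRingEquiv (f := σ) fun x =>
          RingHom.congr_fun (Subsingleton.elim ((σ : GaloisField q m →+* GaloisField q m).comp
            (algebraMap (ZMod q) (GaloisField q m))) (algebraMap (ZMod q) (GaloisField q m))) x
        invFun := fun σ => σ.toRingEquiv
        left_inv := fun σ => rfl
        right_inv := fun σ => rfl }
    rw [Nat.card_congr E', IsGalois.card_aut_eq_finrank, GaloisField.finrank q hm]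
  rcases hcases with hn3 | ⟨hn5, hp2⟩
  · subst hn3
    refine Or.inl ⟨rfl, ⟨f, hf⟩, fun hp2 => ?_⟩
    subst hp2
    rcases h3 rfl rfl with hR21 | ⟨hR7, hlin⟩
    · refine Or.inl (nonempty_iso f hf ((card_semiaffine_le 2 3 (by norm_num)).trans (le_of_eq ?_)))
      rw [haut 2 3 (by norm_num), hcardQ, hR21]
      norm_num
    · have hmem' : ∀ x : N, Φ x ∈ Cfsg.affineGroup F := by
        intro x
        obtain ⟨⟨w, h⟩, rfl⟩ := hH.surjective x
        obtain ⟨a, ha⟩ := hlin (ρ (h : N)) ⟨_, rfl⟩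
        have ha0 : a ≠ 0 := fun h0 => by
          have h1 := ha (e.symm 1)
          rw [h0, zero_mul, e.map_eq_zero_iff, LinearEquiv.map_eq_zero_iff, e.symm.map_eq_zero_iff] at h1
          exact one_ne_zero h1
        exact ⟨Units.mk0 a ha0, e (Additive.ofMul w), fun y => by
          rw [hΦ, ha, e.apply_symm_apply, add_comm]; rfl⟩
      let f' : N ⧸ K →* Cfsg.affineGroup F :=
        QuotientGroup.lift K (Φ.codRestrict _ hmem') fun k hk => Subtype.ext (hker.ge hk)
      have hf' : Function.Injective f' := by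
        refine (injective_iff_map_eq_one _).mpr fun q hq => ?_
        obtain ⟨x, rfl⟩ := QuotientGroup.mk_surjective q
        exact (QuotientGroup.eq_one_iff x).mpr (hker.le (congrArg Subtype.val hq))
      refine Or.inr (nonempty_iso f' hf' ((card_affine_le 2 3 (by norm_num)).trans (le_of_eq ?_)))
      rw [hcardQ, hR7]
      norm_num
  · subst hp2 hn5
    refine Or.inr ⟨rfl, rfl, nonempty_iso f hf ((card_semiaffine_le 2 5 (by norm_num)).trans (le_of_eq ?_))⟩
    rw [haut 2 5 (by norm_num), hcardQ, h5 rfl rfl]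
    norm_num

/-- Let p be a prime and G a finite group in which any two p-subgroups of the same order are conjugate, and suppose a Sylow p-subgroup P of G is elementary abelian of order pⁿ with n ≥ 3. Let N be the normalizer of P and K the largest normal subgroup of N of order prime to p, and assume N/K is solvable. Then either n = 3 and N/K embeds in the one-dimensional semi-affine group over the field with p³ elements (and for p = 2 it is isomorphic to the affine or the semi-affine group over the field with 8 elements), or n = 5, p = 2 and N/K is isomorphic to the one-dimensional semi-affine group over the field with 32 elements. -/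
theorem result {G : Type*} [Group G] [Finite G]
    {p : ℕ} [Fact p.Prime] (hC : ∀ H K : Subgroup G, IsPGroup p H → IsPGroup p K → Nat.card H = Nat.card K →
      ∃ g : G, K = H.map (MulAut.conj g).toMonoidHom) (P : Sylow p G) (n : ℕ) (hn : 3 ≤ n)
    (hel : Cfsg.IsElementaryAbelian p (P : Subgroup G)) (hcard : Nat.card P = p ^ n)
    (N : Subgroup G) (hN : N = Subgroup.normalizer ((P : Subgroup G) : Set G))
    (hsolv : Group.IsSolvable (↥N ⧸ Cfsg.pPrimeCore p ↥N)) :
    (n = 3 ∧ (∃ f : ↥N ⧸ Cfsg.pPrimeCore p ↥N →* ↥(Cfsg.semiaffineGroup (GaloisField p 3)), Function.Injective f) ∧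
      (p = 2 → Nonempty (↥N ⧸ Cfsg.pPrimeCore p ↥N ≃* Cfsg.semiaffineGroup (GaloisField 2 3)) ∨
               Nonempty (↥N ⧸ Cfsg.pPrimeCore p ↥N ≃* Cfsg.affineGroup (GaloisField 2 3)))) ∨
    (n = 5 ∧ p = 2 ∧ Nonempty (↥N ⧸ Cfsg.pPrimeCore p ↥N ≃* Cfsg.semiaffineGroup (GaloisField 2 5))) := by
  exact main hC P n hn hel hcard N hN hsolv

end Cfsg.Agent.S4025
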