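import Cfsg.Statements.S4027
import Cfsg.Agent.Invol.BaerSuzuki
import Cfsg.Agent.Core.PCore
import Cfsg.Agent.Coprime.SchurZassenhaus
-- import your own Cfsg.Agent.* helpers here

set_option autoImplicit false
open Cfsg

namespace Cfsg.Agent.S4027

open Subgroup Pointwise in
/-- If an element normalising an odd cyclic subgroup has an odd power centralising it, then the
Sylow 2-subgroup is normal. -/
theorem sylow_two_normal {G : Type*} [Group G] [Finite G]
    (h : ∀ x : G, Odd (orderOf x) → ∀ g ∈ Subgroup.normalizer ((Subgroup.zpowers x : Subgroup G) : Set G),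
      ∃ k : ℕ, Odd k ∧ Commute (g ^ k) x) (P : Sylow 2 G) : (P : Subgroup G).Normal := by
  have : Fact (Nat.Prime 2) := ⟨Nat.prime_two⟩
  have hQn : (Cfsg.pCore 2 G).Normal := inferInstance
  set Q := Cfsg.pCore 2 G
  suffices hodd : ¬ 2 ∣ Q.index by
    obtain ⟨a, ha⟩ := IsPGroup.iff_card.mp P.isPGroup'
    have hle : (P : Subgroup G) ≤ Q := Cfsg.Agent.Core.le_of_coprime_index (by
      rw [ha]; exact Nat.Coprime.pow_left _ ((Nat.prime_two.coprime_iff_not_dvd).mpr hodd))
    rwa [le_antisymm hle (Cfsg.Agent.Core.pCore_le_sylow P)]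
  intro h2
  rw [Subgroup.index_eq_card] at h2
  obtain ⟨tb, htb⟩ := exists_prime_orderOf_dvd_card' 2 h2
  have hO : ∀ N : Subgroup (G ⧸ Q), N.Normal → IsPGroup 2 N → tb ∉ N := by
    intro N hN hN2 hmem
    have hle := Cfsg.Agent.Core.le_pCore (hN := hN) hN2
    rw [Cfsg.Agent.Core.pCore_quotient_eq_bot] at hle
    have := (Subgroup.mem_bot).mp (hle hmem)
    rw [this, orderOf_one] at htb; omega
  obtain ⟨-, hb, hb1, hbodd, hinv, -⟩ := Cfsg.Agent.Invol.exists_inverted_odd htb hO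
  obtain ⟨t, rfl⟩ := QuotientGroup.mk_surjective tb
  obtain ⟨y, rfl⟩ := QuotientGroup.mk_surjective hb
  obtain ⟨a, m, hm, hd⟩ := Nat.exists_eq_pow_mul_and_not_dvd (orderOf_pos y).ne' 2 (by decide)
  obtain ⟨k, hk⟩ := exists_pow_eq_self_of_coprime (x := (y : G ⧸ Q)) (n := 2 ^ a)
    (Nat.Coprime.pow_left _ (Nat.coprime_two_left.mpr hbodd))
  set x := (y ^ 2 ^ a) ^ k with hx
  have hxm : (x : G ⧸ Q) = (y : G ⧸ Q) := by
    rw [hx, QuotientGroup.mk_pow, QuotientGroup.mk_pow, hk]
  have hxodd : Odd (orderOf x) := by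
    have h1 : orderOf x ∣ m := by
      refine (orderOf_pow_dvd k).trans (orderOf_dvd_of_pow_eq_one ?_)
      rw [← pow_mul, ← hd, pow_orderOf_eq_one]
    exact (Nat.odd_iff.mpr (by omega : m % 2 = 1)).of_dvd_nat h1
  set X := Subgroup.zpowers x
  set K := Subgroup.zpowers (t * x * t⁻¹)
  obtain ⟨b, hbQ⟩ := IsPGroup.iff_card.mp (Cfsg.Agent.Core.pCore_isPGroup (p := 2) (G := G))
  have hcop : ∀ z : G, orderOf z = orderOf x → (Nat.card Q).Coprime (Nat.card (Subgroup.zpowers z)) := by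
    intro z hz
    rw [Nat.card_zpowers, hz, hbQ]
    exact Nat.Coprime.pow_left _ (Nat.coprime_two_left.mpr hxodd)
  have hoK : orderOf (t * x * t⁻¹) = orderOf x := (MulAut.conj t).orderOf_eq x
  have hmap : Subgroup.map (QuotientGroup.mk' Q) X = Subgroup.map (QuotientGroup.mk' Q) K := by
    rw [MonoidHom.map_zpowers, MonoidHom.map_zpowers]
    simp only [QuotientGroup.mk'_apply, QuotientGroup.mk_mul, QuotientGroup.mk_inv]
    rw [hxm, hinv, Subgroup.zpowers_inv]
  have hsup : Q ⊔ X = Q ⊔ K := by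
    have e1 := Subgroup.comap_map_eq (QuotientGroup.mk' Q) X
    have e2 := Subgroup.comap_map_eq (QuotientGroup.mk' Q) K
    rw [hmap, e2, QuotientGroup.ker_mk'] at e1
    rw [sup_comm Q X, sup_comm Q K, e1]
  have hQsolv : Group.IsSolvable Q :=
    have := (Cfsg.Agent.Core.pCore_isPGroup (p := 2) (G := G)).isNilpotent
    inferInstance
  obtain ⟨n, hn, hconj⟩ := Cfsg.Agent.Coprime.exists_conj_of_sup_eq (N := Q) (H := X) (K := K)
    (by rw [Subgroup.normalizer_eq_top]; exact le_top)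
    (inf_eq_bot_of_coprime (hcop x rfl)) (inf_eq_bot_of_coprime (hcop _ hoK)) hsup (hcop x rfl)
    (Or.inl hQsolv)
  have hg : n⁻¹ * t ∈ Subgroup.normalizer (X : Set G) := by
    refine Cfsg.Agent.Invol.mem_normalizer_of_conj_le ?_
    rw [MonoidHom.map_zpowers, Subgroup.zpowers_le]
    have hmem : t * x * t⁻¹ ∈ MulAut.conj n • X := by rw [hconj]; exact Subgroup.mem_zpowers _
    rw [Subgroup.mem_pointwise_smul_iff_inv_smul_mem] at hmem
    simpa [MulAut.smul_def, mul_assoc] using hmem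
  obtain ⟨j, hj, hcom⟩ := h x hxodd _ hg
  have hcom' := hcom.map (QuotientGroup.mk' Q)
  have hn1 : ((n : G) : G ⧸ Q) = 1 := (QuotientGroup.eq_one_iff n).mpr hn
  simp only [map_pow, map_mul, map_inv, QuotientGroup.mk'_apply, hn1, inv_one, one_mul, hxm] at hcom'
  have htt : (t : G ⧸ Q) ^ j = (t : G ⧸ Q) := by
    rw [← pow_mod_orderOf, htb, Nat.odd_iff.mp hj, pow_one]
  rw [htt] at hcom'
  apply hb1
  rw [hcom'.eq, mul_inv_cancel_right] at hinv
  rw [← orderOf_eq_one_iff]
  have h2' : orderOf (y : G ⧸ Q) ∣ 2 := orderOf_dvd_of_pow_eq_one (by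
    rw [pow_two]; nth_rewrite 1 [hinv]; exact inv_mul_cancel _)
  rcases (Nat.dvd_prime Nat.prime_two).mp h2' with h1 | h1
  · exact h1
  · rw [h1] at hbodd; exact absurd hbodd (by decide)



/-- Let G be a finite group in which every element x of odd order satisfies N_G(⟨x⟩) = C_G(x). Then the Sylow 2-subgroups of G are normal. -/
theorem result {G : Type*} [Group G] [Finite G]
    (hirr : ∀ x : G, (∀ r : ℕ, r.Prime → r ∣ orderOf x → r ≠ 2) →
      Subgroup.normalizer ((Subgroup.zpowers x : Subgroup G) : Set G) ≤ Subgroup.centralizer {x}) (P : Sylow 2 G) :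
    (P : Subgroup G).Normal := by
  refine sylow_two_normal (fun x hx g hg => ⟨1, odd_one, ?_⟩) P
  have hc := hirr x (fun r _ hr h => by subst h; exact Nat.odd_iff.mp hx |> (fun e => by omega)) hg
  rw [pow_one]
  exact (Subgroup.mem_centralizer_singleton_iff.mp hc)

end Cfsg.Agent.S4027
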