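import Cfsg.Statements.S4028
import Mathlib

set_option autoImplicit false
open Cfsg
open scoped Pointwise

namespace Cfsg.Agent.S4028

/-- Let G be a finite group with Sylow 2-subgroup P. Then N_G(⟨x⟩) = C_G(x) holds for every 2-element x of G if and only if N_P(⟨y⟩) = C_P(y) holds for every y ∈ P (computed inside P). -/
theorem result {G : Type*} [Group G] [Finite G] (P : Sylow 2 G) :
    (∀ x : G, (∀ r : ℕ, r.Prime → r ∣ orderOf x → r = 2) →
      Subgroup.normalizer ((Subgroup.zpowers x : Subgroup G) : Set G) ≤ Subgroup.centralizer {x}) ↔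
    (∀ y : ↥(P : Subgroup G), Subgroup.normalizer ((Subgroup.zpowers y : Subgroup ↥(P : Subgroup G)) : Set ↥(P : Subgroup G)) ≤
        Subgroup.centralizer {y}) := by
  constructor
  · intro h y z hz
    have hy : ∀ r : ℕ, r.Prime → r ∣ orderOf (y : G) → r = 2 := by
      intro r hr hd
      obtain ⟨k, hk⟩ := IsPGroup.iff_orderOf.1 P.2 y
      rw [Subgroup.orderOf_coe, hk] at hd
      exact (Nat.prime_dvd_prime_iff_eq hr Nat.prime_two).1 (hr.dvd_of_dvd_pow hd)
    have hz' : (z : G) ∈ Subgroup.centralizer ({(y : G)} : Set G) := by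
      refine h (y : G) hy ?_
      rw [Subgroup.mem_normalizer_iff]
      intro w
      have hzp : Subgroup.zpowers (y : G) = (Subgroup.zpowers y).map (P : Subgroup G).subtype := by
        rw [MonoidHom.map_zpowers]; rfl
      rw [hzp]
      constructor
      · rintro ⟨w, hw, rfl⟩
        exact ⟨_, (Subgroup.mem_normalizer_iff.1 hz w).1 hw, rfl⟩
      · rintro ⟨v, hv, hve⟩
        have hz2 := inv_mem hz
        refine ⟨_, (Subgroup.mem_normalizer_iff.1 hz2 v).1 hv, ?_⟩
        have hve' : (v : G) = z * w * (z : G)⁻¹ := hve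
        simp [hve', mul_assoc]
    exact Subgroup.mem_centralizer_singleton_iff.2
      (Subtype.ext (Subgroup.mem_centralizer_singleton_iff.1 hz'))
  · intro h x hx g hg
    obtain ⟨n, hn⟩ : ∃ n, orderOf x = 2 ^ n :=
      ⟨_, Nat.eq_prime_pow_of_unique_prime_dvd (orderOf_pos x).ne' fun {r} hr hd => hx r hr hd⟩
    rcases Nat.eq_zero_or_pos n with rfl | hn0
    · rw [pow_zero, orderOf_eq_one_iff] at hn
      subst hn
      simp [Subgroup.mem_centralizer_singleton_iff]
    obtain ⟨u, hu⟩ := Subgroup.mem_zpowers_iff.1 ((Subgroup.mem_normalizer_iff.1 hg x).1 (Subgroup.mem_zpowers x))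
    have hpow : ∀ j : ℕ, g ^ j * x * (g ^ j)⁻¹ = x ^ u ^ j := by
      intro j
      induction j with
      | zero => simp
      | succ j ih =>
        calc g ^ (j + 1) * x * (g ^ (j + 1))⁻¹ = g * (g ^ j * x * (g ^ j)⁻¹) * g⁻¹ := by
              rw [pow_succ']; group
          _ = g * x ^ (u ^ j) * g⁻¹ := by rw [ih]
          _ = (g * x * g⁻¹) ^ (u ^ j) := by rw [conj_zpow]
          _ = x ^ u ^ (j + 1) := by rw [← hu, ← zpow_mul, pow_succ']
    have hu2 : (2 : ℤ) ∣ u - 1 := by
      by_contra hev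
      obtain ⟨v, hv⟩ : ∃ v, u = 2 * v := ⟨u / 2, by omega⟩
      have h2 : x ^ (2 ^ (n - 1)) = 1 := by
        have e : (g * x * g⁻¹) ^ (2 ^ (n - 1)) = 1 := by
          rw [← hu, hv, ← zpow_natCast, ← zpow_mul]
          refine orderOf_dvd_iff_zpow_eq_one.1 ⟨v, ?_⟩
          rw [hn]; push_cast
          rw [show (2 : ℤ) ^ n = 2 ^ (n - 1) * 2 by rw [← pow_succ, Nat.sub_add_cancel hn0]]
          ring
        rwa [conj_pow, conj_eq_one_iff] at e
      have hd := orderOf_dvd_of_pow_eq_one h2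
      rw [hn, Nat.pow_dvd_pow_iff_le_right one_lt_two] at hd
      omega
    set C := Subgroup.centralizer ({x} : Set G)
    have hce : g ^ 2 ^ n ∈ C := by
      rw [Subgroup.mem_centralizer_singleton_iff, ← mul_inv_eq_iff_eq_mul, hpow]
      have hd := dvd_sub_pow_of_dvd_sub hu2 n
      rw [one_pow] at hd
      have hone : x ^ (u ^ 2 ^ n - 1) = 1 := by
        refine orderOf_dvd_iff_zpow_eq_one.1 ?_
        rw [hn]; push_cast
        exact (pow_dvd_pow _ n.le_succ).trans hd
      rwa [zpow_sub, zpow_one, mul_inv_eq_one] at hone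
    set m := orderOf g / 2 ^ (orderOf g).factorization 2 with hm
    have hh : g ^ m ∈ C := by
      set y := g ^ m
      have hord : orderOf y = 2 ^ (orderOf g).factorization 2 :=
        orderOf_pow_orderOf_div (orderOf_pos g).ne' (Nat.ordProj_dvd _ _) |>.trans rfl
      have hyN : y ∈ Subgroup.normalizer ((Subgroup.zpowers x : Subgroup G) : Set G) := pow_mem hg _
      have h2g : IsPGroup 2 (Subgroup.zpowers x ⊔ Subgroup.zpowers y : Subgroup G) :=
        (IsPGroup.of_card (n := n) (by rw [Nat.card_zpowers, hn])).to_sup_of_normal_left'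
          (IsPGroup.of_card (by rw [Nat.card_zpowers, hord])) (Subgroup.zpowers_le.2 hyN)
      obtain ⟨Q, hQ⟩ := h2g.exists_le_sylow
      obtain ⟨c, hc⟩ := MulAction.exists_smul_eq G Q P
      have hmem : ∀ a : G, a ∈ (Q : Subgroup G) → c * a * c⁻¹ ∈ (P : Subgroup G) := by
        intro a ha
        rw [← hc, Sylow.smul_def, Sylow.pointwise_smul_def]
        exact ⟨a, ha, rfl⟩
      let X : ↥(P : Subgroup G) := ⟨c * x * c⁻¹, hmem x (hQ (Subgroup.mem_sup_left (Subgroup.mem_zpowers x)))⟩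
      let Y : ↥(P : Subgroup G) := ⟨c * y * c⁻¹, hmem y (hQ (Subgroup.mem_sup_right (Subgroup.mem_zpowers y)))⟩
      have hY : Y ∈ Subgroup.normalizer ((Subgroup.zpowers X : Subgroup ↥(P : Subgroup G)) : Set ↥(P : Subgroup G)) := by
        refine Subgroup.mem_normalizer_fintype fun z hz => ?_
        obtain ⟨i, rfl⟩ := hz
        obtain ⟨j, hj⟩ := (Subgroup.mem_normalizer_iff.1 hyN (x ^ i)).1 (Subgroup.zpow_mem _ (Subgroup.mem_zpowers x) i)
        refine ⟨j, Subtype.ext ?_⟩
        show (c * x * c⁻¹) ^ j = c * y * c⁻¹ * (c * x * c⁻¹) ^ i * (c * y * c⁻¹)⁻¹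
        rw [conj_zpow, conj_zpow]
        have hj' : x ^ j = y * x ^ i * y⁻¹ := hj
        rw [hj']; group
      have e : c * y * c⁻¹ * (c * x * c⁻¹) = c * x * c⁻¹ * (c * y * c⁻¹) :=
        congrArg Subtype.val (Subgroup.mem_centralizer_singleton_iff.1 (h X hY))
      rw [Subgroup.mem_centralizer_singleton_iff]
      calc y * x = c⁻¹ * (c * y * c⁻¹ * (c * x * c⁻¹)) * c := by group
        _ = x * y := by rw [e]; group
    have hco : Nat.Coprime (2 ^ n) m :=
      Nat.Coprime.pow_left n (Nat.coprime_ordCompl Nat.prime_two (orderOf_pos g).ne')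
    have h1 := Nat.gcd_eq_gcd_ab (2 ^ n) m
    rw [Nat.coprime_iff_gcd_eq_one.1 hco] at h1
    have : g = (g ^ 2 ^ n) ^ Nat.gcdA (2 ^ n) m * (g ^ m) ^ Nat.gcdB (2 ^ n) m := by
      rw [← zpow_natCast g (2 ^ n), ← zpow_natCast g m, ← zpow_mul, ← zpow_mul, ← zpow_add, ← h1,
        Nat.cast_one, zpow_one]
    rw [this]
    exact mul_mem (zpow_mem hce _) (zpow_mem hh _)

end Cfsg.Agent.S4028
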