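import Cfsg.Statements.S4029
import Cfsg.Agent.Char.Perm
import Cfsg.Agent.Char.Linear
import Cfsg.Agent.Core.Frattini

set_option autoImplicit false
open Cfsg

namespace Cfsg.Agent.S4029

open scoped ComplexConjugate
open Cfsg.Agent.Char
open scoped commutatorElement

universe u

variable {P : Type u} [Group P] [Finite P]

/-- The map on conjugacy classes induced by inversion. -/
def invClass : ConjClasses P → ConjClasses P :=
  Quotient.map' (fun g => g⁻¹) fun a b h => by
    obtain ⟨c, rfl⟩ := isConj_iff.1 (show IsConj a b from h)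
    exact isConj_iff.2 ⟨c, by group⟩

theorem invClass_mk (g : P) : invClass (ConjClasses.mk g) = ConjClasses.mk g⁻¹ := rfl

theorem card_real_irr_le :
    Nat.card {χ : IrrCharacter P // conjIrr χ = χ} ≤
      Nat.card {C : ConjClasses P // invClass C = C} := by
  refine le_of_eq (brauer_permutation _ _ fun χ g g' h => ?_)
  rw [invClass_mk, ConjClasses.mk_eq_mk_iff_isConj] at h
  rw [conjIrr_apply, ← IsChar.inv_eq_conj (IsIrr.isCharacter χ.2),
    classFun_isConj (isClassFunction_of_isIrr χ.2) h]

theorem card_quotient_le_real (hP : IsPGroup 2 P) :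
    Nat.card (P ⧸ frattini P) ≤ Nat.card {χ : IrrCharacter P // conjIrr χ = χ} := by
  classical
  have : Fact (Nat.Prime 2) := ⟨Nat.prime_two⟩
  have : Group.IsNilpotent P := hP.isNilpotent
  have hc : ∀ a b : P ⧸ frattini P, a * b = b * a := by
    intro a b
    obtain ⟨a, rfl⟩ := QuotientGroup.mk_surjective a
    obtain ⟨b, rfl⟩ := QuotientGroup.mk_surjective b
    rw [← QuotientGroup.mk_mul, ← QuotientGroup.mk_mul, QuotientGroup.eq]
    refine Cfsg.Agent.Core.commutator_le_frattini ?_
    rw [show (a * b)⁻¹ * (b * a) = ⁅b⁻¹, a⁻¹⁆ by rw [commutatorElement_def]; group]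
    exact Subgroup.commutator_mem_commutator (Subgroup.mem_top _) (Subgroup.mem_top _)
  have := Fintype.ofFinite P
  rw [← (card_conjClasses_eq_card_iff.2 hc), ← card_irrCharacter,
    Nat.card_congr (quotientEquiv (frattini P))]
  refine Nat.card_le_card_of_injective (fun χ => ⟨χ.1, ?_⟩) fun a b h => ?_
  · obtain ⟨φ, hφ, he⟩ := IsIrr.exists_quotient (frattini P) χ.1.2 χ.2
    have h1 : (χ.1 : P → ℂ) 1 = 1 := by
      rw [he, QuotientGroup.mk_one]; exact IsIrr.degree_one_of_comm hφ hc
    obtain ⟨f, hf⟩ := IsChar.exists_hom (IsIrr.isCharacter χ.1.2) h1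
    refine Subtype.ext (funext fun g => ?_)
    have h2 : (f g : ℂ) * (f g : ℂ) = 1 := by
      have h3 := χ.2 (g ^ 2) (Cfsg.Agent.Core.pow_mem_frattini hP g)
      rw [h1, hf] at h3
      simpa [map_pow, sq] using h3
    rw [conjIrr_apply, hf]
    rcases mul_self_eq_one_iff.1 h2 with h4 | h4 <;> simp [h4]
  · exact Subtype.ext (congrArg (fun x => x.1) h)

theorem card_real_class_le
    (hirr : ∀ y : P, Subgroup.normalizer ((Subgroup.zpowers y : Subgroup P) : Set P) ≤
      Subgroup.centralizer {y}) :
    Nat.card {C : ConjClasses P // invClass C = C} ≤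
      Nat.card {c : ConjClasses P // ∃ y : P, ConjClasses.mk y = c ∧ orderOf y = 2} + 1 ∧
    Nat.card {C : ConjClasses P // invClass C = C} ≤
      Nat.card (Subgroup.closure {y : P | orderOf y = 2}) := by
  classical
  have key : ∀ C : ConjClasses P, invClass C = C → ∃ y : P, ConjClasses.mk y = C ∧
      (y = 1 ∨ orderOf y = 2) := by
    intro C hC
    obtain ⟨y, rfl⟩ := ConjClasses.mk_surjective C
    refine ⟨y, rfl, ?_⟩
    rw [invClass_mk, ConjClasses.mk_eq_mk_iff_isConj] at hC
    obtain ⟨g, hg⟩ := isConj_iff.1 hC.symm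
    have hN : g ∈ Subgroup.normalizer ((Subgroup.zpowers y : Subgroup P) : Set P) := by
      rw [Subgroup.mem_normalizer_iff]
      intro h
      constructor
      · rintro ⟨k, rfl⟩
        exact ⟨-k, by simp only [zpow_neg]; rw [← inv_zpow, ← hg, conj_zpow]⟩
      · rintro ⟨k, hk⟩
        refine ⟨-k, ?_⟩
        simp only [zpow_neg] at hk ⊢
        have : g * (y ^ k)⁻¹ * g⁻¹ = g * h * g⁻¹ := by
          rw [← hk, ← inv_zpow, ← conj_zpow, ← conj_inv, hg, inv_inv]
        exact mul_left_cancel (mul_right_cancel this)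
    have h5 := Subgroup.mem_centralizer_singleton_iff.1 (hirr y hN)
    rw [h5, mul_inv_cancel_right] at hg
    have h6 : y ^ 2 = 1 := by rw [sq]; nth_rw 1 [hg]; exact inv_mul_cancel y
    rcases (Nat.dvd_prime Nat.prime_two).1 (orderOf_dvd_of_pow_eq_one h6) with h7 | h7
    · exact Or.inl (orderOf_eq_one_iff.1 h7)
    · exact Or.inr h7
  choose r hr hr' using key
  constructor
  · rw [← Finite.card_option]
    refine Nat.card_le_card_of_injective (fun C => if h : C.1 = ConjClasses.mk 1 then none
      else some ⟨C.1, r C.1 C.2, hr _ _, (hr' C.1 C.2).resolve_left fun e => h ?_⟩) fun A B h => ?_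
    · rw [← e, hr]
    · dsimp only at h
      split_ifs at h with h1 h2 h2
      · exact Subtype.ext (h1.trans h2.symm)
      · have h4 := Option.some.inj h
        simp only [Subtype.mk.injEq] at h4
        exact Subtype.ext h4
  · refine Nat.card_le_card_of_injective (fun C => ⟨r C.1 C.2, ?_⟩) fun A B h => ?_
    · rcases hr' C.1 C.2 with h | h
      · rw [h]; exact one_mem _
      · exact Subgroup.subset_closure h
    · refine Subtype.ext ?_
      rw [← hr A.1 A.2, ← hr B.1 B.2]
      exact congrArg (fun x => ConjClasses.mk x.1) h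

/-- Let P be a finite 2-group in which N_P(⟨y⟩) = C_P(y) for every y ∈ P. If s is the number of conjugacy classes of involutions of P, then #(P/Φ(P)) ≤ s + 1; in particular the subgroup generated by the involutions of P has order at least #(P/Φ(P)). -/
theorem result {P : Type*} [Group P] [Finite P] (hP : IsPGroup 2 P)
    (hirr : ∀ y : P, Subgroup.normalizer ((Subgroup.zpowers y : Subgroup P) : Set P) ≤ Subgroup.centralizer {y}) :
    Nat.card (P ⧸ frattini P) ≤ Nat.card {c : ConjClasses P // ∃ y : P, ConjClasses.mk y = c ∧ orderOf y = 2} + 1 ∧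
    Nat.card (P ⧸ frattini P) ≤ Nat.card (Subgroup.closure {y : P | orderOf y = 2}) := by
  have h1 := (card_quotient_le_real hP).trans card_real_irr_le
  obtain ⟨h2, h3⟩ := card_real_class_le hirr
  exact ⟨h1.trans h2, h1.trans h3⟩

end Cfsg.Agent.S4029
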