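import Cfsg.Statements.S4032
import Cfsg.Agent.Coprime.Basic
-- import your own Cfsg.Agent.* helpers here

set_option autoImplicit false
open Cfsg

namespace Cfsg.Agent.S4032
open scoped Pointwise

/-- Let π be a set of primes and G a finite group in which N_G(⟨x⟩) = C_G(x) for every π-element x. If N is a normal subgroup of G whose order is divisible by no prime of π, then G/N has the same property: N_{G/N}(⟨y⟩) = C_{G/N}(y) for every π-element y of G/N. -/
theorem result {G : Type*} [Group G] [Finite G] (π : Set ℕ)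
    (hirr : ∀ x : G, (∀ r : ℕ, r.Prime → r ∣ orderOf x → r ∈ π) →
      Subgroup.normalizer ((Subgroup.zpowers x : Subgroup G) : Set G) ≤ Subgroup.centralizer {x})
    (N : Subgroup G) [N.Normal] (hN : ∀ r : ℕ, r.Prime → r ∣ Nat.card N → r ∉ π) :
    ∀ y : G ⧸ N, (∀ r : ℕ, r.Prime → r ∣ orderOf y → r ∈ π) →
      Subgroup.normalizer ((Subgroup.zpowers y : Subgroup (G ⧸ N)) : Set (G ⧸ N)) ≤ Subgroup.centralizer {y} := by
  intro y hy z hz
  -- a lift of `y` of order a `π`-number
  have hlift : ∃ x : G, QuotientGroup.mk' N x = y ∧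
      ∀ r : ℕ, r.Prime → r ∣ orderOf x → r ∈ π := by
    obtain ⟨g₀, hg₀⟩ := QuotientGroup.mk'_surjective N y
    obtain ⟨m, ⟨g, hg, rfl⟩, hmin⟩ := wellFounded_lt.has_min
      {m : ℕ | ∃ g : G, QuotientGroup.mk' N g = y ∧ orderOf g = m} ⟨_, g₀, hg₀, rfl⟩
    refine ⟨g, hg, fun r hr hrd => by_contra fun hrπ => ?_⟩
    have hcop : r.Coprime (orderOf y) := hr.coprime_iff_not_dvd.mpr fun h => hrπ (hy r hr h)
    obtain ⟨t, ht⟩ := exists_pow_eq_self_of_coprime (x := y) (n := r) hcop
    refine hmin _ ⟨(g ^ r) ^ t, by rw [map_pow, map_pow, hg, ht], rfl⟩ ?_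
    calc orderOf ((g ^ r) ^ t) ≤ orderOf (g ^ r) := Nat.le_of_dvd (orderOf_pos _) (orderOf_pow_dvd t)
      _ = orderOf g / r := by rw [orderOf_pow, Nat.gcd_eq_right hrd]
      _ < orderOf g := Nat.div_lt_self (orderOf_pos g) hr.one_lt
  obtain ⟨x, hxy, hxπ⟩ := hlift
  obtain ⟨g, hg⟩ := QuotientGroup.mk'_surjective N z
  set X : Subgroup G := Subgroup.zpowers x with hX
  have hcop : (Nat.card X).Coprime (Nat.card N) := by
    rw [hX, Nat.card_zpowers]
    exact Nat.coprime_of_dvd fun r hr h1 h2 => hN r hr h2 (hxπ r hr h1)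
  have hXmap : X.map (QuotientGroup.mk' N) = Subgroup.zpowers y := by
    rw [hX, MonoidHom.map_zpowers, hxy]
  have hB : MulAut.conj g • X ≤ N ⊔ X := by
    rw [sup_comm, ← QuotientGroup.ker_mk' N, ← Subgroup.comap_map_eq, ← Subgroup.map_le_iff_le_comap,
      Coprime.map_conj_smul, hXmap, hg]
    exact (Coprime.conj_smul_eq_self_of_mem_normalizer hz).le
  obtain ⟨n, hn, hnX⟩ := Coprime.exists_conj_eq (Subgroup.le_normalizer_of_normal) hcop
    (Or.inl (Group.isSolvable_of_comm fun a b => IsMulCommutative.is_comm.comm a b)) hB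
    (Coprime.card_conj_smul g X)
  rw [← Coprime.conj_mul_smul] at hnX
  have hc := hirr x hxπ (Coprime.mem_normalizer_of_conj_smul_eq hnX)
  rw [Subgroup.mem_centralizer_singleton_iff] at hc ⊢
  have hn1 : QuotientGroup.mk' N n = 1 := (QuotientGroup.eq_one_iff n).mpr hn
  have := congrArg (QuotientGroup.mk' N) hc
  simpa [map_mul, hn1, hxy, hg] using this

end Cfsg.Agent.S4032
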