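import Cfsg.Statements.S4033
import Cfsg.Agent.S4034
import Cfsg.Agent.TwoRegSizes.OnePrime
import Cfsg.Agent.TwoRegSizes.TwoPrimes
import Mathlib.GroupTheory.SchurZassenhaus
-- import your own Cfsg.Agent.* helpers here

set_option autoImplicit false
open Cfsg

namespace Cfsg.Agent.S4033

open Subgroup Cfsg.Agent.TwoRegSizes

universe u

variable {G : Type u} [Group G] [Finite G]

/-- Only one prime different from `p` has noncentral elements. -/
theorem pq_case {p q : ℕ} (hp : p.Prime) [hq : Fact q.Prime] (hqp : q ≠ p)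
    (hcent : ∀ s, s.Prime → s ≠ p → s ≠ q → ∀ g : G, PEl s g → g ∈ center G) :
    ∃ (P : Sylow p G) (Q : Sylow q G) (A : Subgroup G),
        A ≤ Subgroup.center G ∧ Nat.card ↥((P : Subgroup G) ⊔ (Q : Subgroup G)) = Nat.card P * Nat.card Q ∧
        ((P : Subgroup G) ⊔ (Q : Subgroup G)).Normal ∧
        ((P : Subgroup G) ⊔ (Q : Subgroup G)) ⊓ A = ⊥ ∧ ((P : Subgroup G) ⊔ (Q : Subgroup G)) ⊔ A = ⊤ := by
  have := Fact.mk hp
  set A : Subgroup G := elsPart (fun g => Reg p g ∧ Reg q g) (center G) with hA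
  have hmem : ∀ g : G, g ∈ A ↔ g ∈ center G ∧ Reg p g ∧ Reg q g := fun g =>
    mem_elsPart ⟨Reg.one, Reg.one⟩ (fun _ h => ⟨h.1.inv, h.2.inv⟩)
      (fun _ _ hc ha hb => ⟨ha.1.mul hc hb.1, ha.2.mul hc hb.2⟩)
      fun a ha b _ _ _ => (mem_center_iff.1 ha b).symm
  have hAZ : A ≤ center G := fun g hg => ((hmem g).1 hg).1
  have : A.Normal := ⟨fun z hz g => by
    rw [mem_center_iff.1 (hAZ hz) g, mul_inv_cancel_right]; exact hz⟩
  have hdiv : ∀ s, s.Prime → s ∣ A.index → s = p ∨ s = q := by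
    intro s hs hd
    by_contra hne
    push Not at hne
    have := Fact.mk hs
    obtain ⟨S⟩ := (inferInstance : Nonempty (Sylow s G))
    refine S.not_dvd_index (hd.trans (index_dvd_of_le fun g hg => ?_))
    have hg' := pel_of_mem S.isPGroup' hg
    exact (hmem g).2 ⟨hcent s hs hne.1 hne.2 g hg', hg'.reg hs hp hne.1, hg'.reg hs hq.out hne.2⟩
  have hndvd : ∀ s, s.Prime → (s = p ∨ s = q) → ¬ s ∣ Nat.card A := by
    intro s hs hor hd
    have := Fact.mk hs
    obtain ⟨g, hg⟩ := exists_prime_orderOf_dvd_card' s hd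
    have h1 := ((hmem (g : G)).1 g.2).2
    rcases hor with rfl | rfl
    · have h2 : (orderOf (g : G)).Coprime s := h1.1
      rw [orderOf_coe, hg, Nat.coprime_self] at h2
      exact hs.one_lt.ne' h2
    · have h2 : (orderOf (g : G)).Coprime s := h1.2
      rw [orderOf_coe, hg, Nat.coprime_self] at h2
      exact hs.one_lt.ne' h2
  have hcop : (Nat.card A).Coprime A.index :=
    Nat.coprime_of_dvd fun s hs hsA hsI => hndvd s hs (hdiv s hs hsI) hsA
  obtain ⟨K, hK⟩ := Subgroup.exists_right_complement'_of_coprime hcop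
  have hKn : K.Normal := by
    rw [← normalizer_eq_top_iff, ← top_le_iff, ← hK.sup_eq_top]
    refine sup_le (hAZ.trans fun g hg => ?_) le_normalizer
    rw [mem_normalizer_iff]
    intro k
    rw [← mem_center_iff.1 hg k, mul_inv_cancel_right]
  have hKcard : Nat.card K = A.index := hK.symm.index_eq_card.symm
  have hKidx : K.index = Nat.card A := hK.index_eq_card
  have hle : ∀ (s : ℕ) [Fact s.Prime], (s = p ∨ s = q) → ∀ S : Sylow s G, (S : Subgroup G) ≤ K := by
    intro s _ hor S g hg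
    rw [← QuotientGroup.eq_one_iff (N := K), ← orderOf_eq_one_iff]
    obtain ⟨i, hi⟩ := pel_of_mem S.isPGroup' hg
    refine Nat.eq_one_of_dvd_coprimes (Nat.Coprime.pow_left i
      ((Nat.Prime.coprime_iff_not_dvd Fact.out).2 (hndvd s Fact.out hor)))
      ((orderOf_map_dvd (QuotientGroup.mk' K) g).trans hi) ?_
    rw [← hKidx, index_eq_card]
    exact orderOf_dvd_natCard _
  obtain ⟨P⟩ := (inferInstance : Nonempty (Sylow p G))
  obtain ⟨Q⟩ := (inferInstance : Nonempty (Sylow q G))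
  have hPQ : (P : Subgroup G) ⊔ (Q : Subgroup G) ≤ K :=
    sup_le (hle p (Or.inl rfl) P) (hle q (Or.inr rfl) Q)
  have hcopPQ : (Nat.card P).Coprime (Nat.card Q) := by
    rw [P.card_eq_multiplicity, Q.card_eq_multiplicity]
    exact ((Nat.coprime_primes hp hq.out).2 (Ne.symm hqp)).pow _ _
  have hd1 : Nat.card P * Nat.card Q ∣ Nat.card ↥((P : Subgroup G) ⊔ (Q : Subgroup G)) :=
    hcopPQ.mul_dvd_of_dvd_of_dvd (card_dvd_of_le le_sup_left) (card_dvd_of_le le_sup_right)
  have hd2 : Nat.card K ∣ Nat.card P * Nat.card Q := by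
    refine (Nat.dvd_iff_prime_pow_dvd_dvd _ _).2 fun s k hs hsk => ?_
    rcases Nat.eq_zero_or_pos k with rfl | hk
    · simp
    have hG : s ^ k ∣ Nat.card G := hsk.trans (card_subgroup_dvd_card K)
    rcases hdiv s hs ((dvd_pow_self s hk.ne').trans (hKcard ▸ hsk)) with rfl | rfl
    · exact ((P.card_eq_multiplicity).symm ▸
        (hs.pow_dvd_iff_dvd_ordProj Nat.card_pos.ne').1 hG).trans (dvd_mul_right _ _)
    · exact ((Q.card_eq_multiplicity).symm ▸
        (hs.pow_dvd_iff_dvd_ordProj Nat.card_pos.ne').1 hG).trans (dvd_mul_left _ _)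
  have heq : (P : Subgroup G) ⊔ (Q : Subgroup G) = K :=
    eq_of_le_of_card_ge hPQ (Nat.le_of_dvd Nat.card_pos (hd2.trans hd1))
  refine ⟨P, Q, A, hAZ, Nat.dvd_antisymm ((card_dvd_of_le hPQ).trans hd2) hd1, ?_⟩
  rw [heq]
  exact ⟨hKn, hK.symm.disjoint.eq_bot, hK.symm.sup_eq_top⟩

/-- Let G be a finite group and p a prime, and suppose the conjugacy classes of p-regular elements of G (elements of order prime to p) have exactly two distinct sizes. Then either G has an abelian p-complement (an abelian subgroup of order prime to p and p-power index), or there are a prime q ≠ p, a Sylow p-subgroup P, a Sylow q-subgroup Q and a central subgroup A such that PQ is a normal subgroup of order #P·#Q and G is the internal direct product PQ × A. -/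
theorem result {G : Type*} [Group G] [Finite G] {p : ℕ} (hp : p.Prime)
    (h2 : Set.ncard (Set.range fun x : {x : G // (orderOf x).Coprime p} => (ConjClasses.mk (x : G)).carrier.ncard) = 2) :
    (∃ H : Subgroup G, IsMulCommutative H ∧ ¬ p ∣ Nat.card H ∧ ∃ k : ℕ, H.index = p ^ k) ∨
    (∃ (q : ℕ) (_ : Fact q.Prime) (P : Sylow p G) (Q : Sylow q G) (A : Subgroup G), q ≠ p ∧
        A ≤ Subgroup.center G ∧ Nat.card ↥((P : Subgroup G) ⊔ (Q : Subgroup G)) = Nat.card P * Nat.card Q ∧
        ((P : Subgroup G) ⊔ (Q : Subgroup G)).Normal ∧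
        ((P : Subgroup G) ⊔ (Q : Subgroup G)) ⊓ A = ⊥ ∧ ((P : Subgroup G) ⊔ (Q : Subgroup G)) ⊔ A = ⊤) := by
  obtain ⟨a, b, hab, hset⟩ := Set.ncard_eq_two.1 h2
  have hval : ∀ x : G, (orderOf x).Coprime p →
      (centralizer ({x} : Set G)).index = a ∨ (centralizer ({x} : Set G)).index = b := fun x hx => by
    have h := hset.subset (Set.mem_range_self (⟨x, hx⟩ : {x : G // (orderOf x).Coprime p}))
    simpa [S4034.carrier_ncard] using h
  have hone : ∀ x : G, (centralizer ({x} : Set G)).index = 1 ↔ x ∈ center G := fun x => by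
    rw [index_eq_one, centralizer_eq_top_iff_subset, Set.singleton_subset_iff, SetLike.mem_coe]
  obtain ⟨m, hm⟩ : ∃ m, ∀ x : G, (orderOf x).Coprime p → x ∉ center G →
      (centralizer ({x} : Set G)).index = m := by
    rcases hval 1 (by rw [orderOf_one]; exact Nat.coprime_one_left p) with e | e
    · rw [(hone 1).2 (one_mem _)] at e
      exact ⟨b, fun x hx hxZ => (hval x hx).resolve_left fun e' => hxZ ((hone x).1 (e'.trans e.symm))⟩
    · rw [(hone 1).2 (one_mem _)] at e
      exact ⟨a, fun x hx hxZ => (hval x hx).resolve_right fun e' => hxZ ((hone x).1 (e'.trans e.symm))⟩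
  obtain ⟨x₀, hx₀, hx₀Z⟩ : ∃ x : G, (orderOf x).Coprime p ∧ x ∉ center G := by
    by_contra hall
    push Not at hall
    obtain ⟨y, hy⟩ := hset.superset (Set.mem_insert a {b})
    obtain ⟨y', hy'⟩ := hset.superset (Set.mem_insert_of_mem a (Set.mem_singleton b))
    simp only [S4034.carrier_ncard] at hy hy'
    rw [(hone _).2 (hall y.1 y.2)] at hy
    rw [(hone _).2 (hall y'.1 y'.2)] at hy'
    exact hab (hy.symm.trans hy')
  have hm1 : 1 < m := by
    have h1 := hm x₀ hx₀ hx₀Z
    have h3 : m ≠ 1 := fun e => hx₀Z ((hone x₀).1 (h1.trans e))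
    have h4 : m ≠ 0 := h1 ▸ index_ne_zero_of_finite
    omega
  have hH : Hyp G p m := ⟨hp, hm1, hm⟩
  by_cases htwo : ∀ r, ∃ q, q ≠ r ∧ Pi0 G p q
  · left
    have h : Hyp2 G p m := ⟨hH, htwo⟩
    by_cases hT : ∃ r, r.Prime ∧ r ≠ p ∧ r ∣ m
    · exfalso
      obtain ⟨r, hr, hrp, hrm⟩ := hT
      by_cases hT2 : ∀ s, s.Prime → s ≠ p → s ∣ m → s = r
      · exact h.false_of_one_prime hx₀ hx₀Z hr hrp hrm hT2
      · push Not at hT2
        obtain ⟨s, hs, hsp, hsm, hsr⟩ := hT2
        rcases lt_or_gt_of_ne hsr with hlt | hlt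
        · exact h.false_of_two_primes hx₀ hx₀Z hs hsp hsm hr hrp hrm hlt
        · exact h.false_of_two_primes hx₀ hx₀Z hr hrp hrm hs hsp hsm hlt
    · push Not at hT
      refine (S4034.result hp).1 fun x hx => ?_
      rw [S4034.carrier_ncard]
      by_cases hxZ : x ∈ center G
      · exact ⟨0, by rw [(hone x).2 hxZ, pow_zero]⟩
      refine ⟨_, (hm x hx hxZ).trans (Nat.eq_prime_pow_of_unique_prime_dvd (by omega) fun {s} hs hsd => ?_)⟩
      by_contra hsp
      exact hT s hs hsp hsd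
  · right
    push Not at htwo
    obtain ⟨q, hq⟩ := htwo
    obtain ⟨r, hr, hrp, w, -, hwr, hwZ⟩ := exists_component hp (K := center G) hx₀ hx₀Z
    have hqr : r = q := by
      by_contra hne
      exact hq r hne ⟨hr, hrp, w, hwr, hwZ⟩
    subst hqr
    have := Fact.mk hr
    obtain ⟨P, Q, A, hA⟩ := pq_case (G := G) hp hrp fun s hs hsp hsr g hg => by
      by_contra hgZ
      exact hq s hsr ⟨hs, hsp, g, hg, hgZ⟩
    exact ⟨r, this, P, Q, A, hrp, hA⟩

end Cfsg.Agent.S4033
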