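import Cfsg.Statements.S4036
-- import your own Cfsg.Agent.* helpers here

set_option autoImplicit false
open Cfsg

namespace Cfsg.Agent.S4036

/-- Let P be a finite abelian p-group and K a group of automorphisms of P (a subgroup of Aut P) whose order is divisible by p. If all non-identity elements of K have the same fixed-point subgroup on P, then K has no non-trivial normal subgroup of order prime to p. -/
theorem result {P : Type*} [CommGroup P] [Finite P] {p : ℕ}
    [Fact p.Prime] (hP : IsPGroup p P) (K : Subgroup (MulAut P)) (hK : p ∣ Nat.card K)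
    (hfix : ∀ x y : MulAut P, x ∈ K → y ∈ K → x ≠ 1 → y ≠ 1 → ∀ v : P, x v = v ↔ y v = v) :
    ∀ N : Subgroup ↥K, N.Normal → ¬ p ∣ Nat.card N → N = ⊥ := by
  intro N hN hpN
  by_contra hne
  classical
  have := Fintype.ofFinite N
  have hp : p.Prime := Fact.out
  obtain ⟨a, ha⟩ := exists_prime_orderOf_dvd_card' p hK
  have ha1 : (a : MulAut P) ≠ 1 := fun h => hp.ne_one (by
    rw [← ha, show a = 1 from Subtype.ext h, orderOf_one])
  let e : P →* P :=
    { toFun := fun v => ∏ n : N, ((n : K) : MulAut P) v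
      map_one' := by simp
      map_mul' := fun v w => by simp [Finset.prod_mul_distrib] }
  obtain ⟨y, hy, hy1⟩ := (N.bot_or_exists_ne_one).resolve_left hne
  have hy1' : (y : MulAut P) ≠ 1 := fun h => hy1 (Subtype.ext h)
  -- the kernel of the averaging map meets the fixed points trivially
  have hfree : ∀ w : P, e w = 1 → (a : MulAut P) w = w → w = 1 := by
    intro w hw haw
    have hall : ∀ n : N, ((n : K) : MulAut P) w = w := by
      intro n
      by_cases hn : ((n : K) : MulAut P) = 1
      · rw [hn]; rfl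
      · exact (hfix _ _ a.2 (n : K).2 ha1 hn w).mp haw
    change ∏ n : N, ((n : K) : MulAut P) w = 1 at hw
    rw [Finset.prod_congr rfl (fun n _ => hall n), Finset.prod_const, Finset.card_univ,
      ← Nat.card_eq_fintype_card] at hw
    obtain ⟨k, hk⟩ := hP w
    have h1 : orderOf w ∣ Nat.gcd (p ^ k) (Nat.card N) :=
      Nat.dvd_gcd (orderOf_dvd_of_pow_eq_one hk) (orderOf_dvd_of_pow_eq_one hw)
    rw [(Nat.Coprime.pow_left k (hp.coprime_iff_not_dvd.mpr hpN)).gcd_eq_one] at h1
    exact orderOf_eq_one_iff.mp (Nat.dvd_one.mp h1)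
  have hcomm : ∀ k : K, ∀ v : P, e v = 1 → e ((k : MulAut P) v) = 1 := by
    intro k v hv
    let σ : N ≃ N :=
      { toFun := fun n => ⟨k⁻¹ * n * k, by simpa using hN.conj_mem n n.2 k⁻¹⟩
        invFun := fun n => ⟨k * n * k⁻¹, hN.conj_mem n n.2 k⟩
        left_inv := fun n => Subtype.ext (by simp [mul_assoc])
        right_inv := fun n => Subtype.ext (by simp [mul_assoc]) }
    have h : e ((k : MulAut P) v) = (k : MulAut P) (e v) := by
      change ∏ n : N, ((n : K) : MulAut P) ((k : MulAut P) v) = (k : MulAut P) (∏ n : N, ((n : K) : MulAut P) v)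
      rw [map_prod]
      refine Fintype.prod_equiv σ _ _ fun n => ?_
      change ((n : K) : MulAut P) ((k : MulAut P) v) =
        ((k : MulAut P) * ((k⁻¹ * n * k : K) : MulAut P)) v
      rw [Subgroup.coe_mul, Subgroup.coe_mul, Subgroup.coe_inv, ← mul_assoc, ← mul_assoc,
        mul_inv_cancel, one_mul]
      rfl
    rw [h, hv, map_one]
  obtain ⟨v, hv⟩ : ∃ v : P, (y : MulAut P) v ≠ v := by
    by_contra h
    push Not at h
    exact hy1' (MulEquiv.ext h)
  set w := (y : MulAut P) v * v⁻¹ with hwdef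
  have hw1 : w ≠ 1 := fun h => hv (mul_inv_eq_one.mp h)
  have hwk : e w = 1 := by
    rw [hwdef, map_mul, map_inv, mul_inv_eq_one]
    change ∏ n : N, ((n : K) : MulAut P) ((y : MulAut P) v) = ∏ n : N, ((n : K) : MulAut P) v
    exact Fintype.prod_equiv (Equiv.mulRight (⟨y, hy⟩ : N)) _ _ (fun n => rfl)
  -- a `p`-group acting on a nontrivial `p`-group fixes a nontrivial point
  have hap : IsPGroup p (Subgroup.zpowers a) := IsPGroup.of_card (n := 1) (by
    rw [Nat.card_zpowers, ha, pow_one])
  let act : MulAction (Subgroup.zpowers a) e.ker :=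
    { smul := fun k u => ⟨((k : K) : MulAut P) (u : P), hcomm k u u.2⟩
      one_smul := fun u => rfl
      mul_smul := fun k l u => rfl }
  have hdvd : p ∣ Nat.card e.ker := by
    obtain ⟨m, hm⟩ := IsPGroup.iff_card.mp (hP.to_subgroup e.ker)
    rcases Nat.eq_zero_or_pos m with rfl | hm0
    · exact absurd (Subgroup.card_eq_one.mp (by rw [hm, pow_zero]))
        (fun h : e.ker = ⊥ => hw1 ((Subgroup.mem_bot).mp (h ▸ hwk)))
    · exact hm ▸ dvd_pow_self p hm0.ne'
  obtain ⟨u, hu, hu1⟩ := hap.exists_fixed_point_of_prime_dvd_card_of_fixed_point e.ker hdvd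
    (a := 1) (fun k => Subtype.ext (map_one ((k : K) : MulAut P)))
  refine hu1 (Subtype.ext (hfree u u.2 ?_)).symm
  exact congrArg Subtype.val (hu ⟨a, Subgroup.mem_zpowers a⟩)

end Cfsg.Agent.S4036
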