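import Cfsg.Statements.S4038
import Cfsg.Agent.S0205
import Cfsg.Agent.Fusion.ClassTwoInvariant
-- import your own Cfsg.Agent.* helpers here

set_option autoImplicit false
open Cfsg

namespace Cfsg.Agent.S4038

/-- Let A and G be finite groups of coprime orders with A acting on G by automorphisms. Suppose G has a proper A-invariant subgroup M, maximal among proper A-invariant subgroups, which is nilpotent and whose Sylow 2-subgroups have nilpotency class at most 2. Then G is solvable. -/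
theorem result {G A : Type*} [Group G] [Finite G]
    [Group A] [Finite A] (φ : A →* MulAut G) (hcop : (Nat.card A).Coprime (Nat.card G))
    (M : Subgroup G) (hMtop : M ≠ ⊤) (hMinv : ∀ a : A, ∀ m : G, m ∈ M → φ a m ∈ M)
    (hMmax : ∀ H : Subgroup G, M ≤ H → H ≠ ⊤ → (∀ a : A, ∀ h : G, h ∈ H → φ a h ∈ H) → H = M)
    (hnil : Group.IsNilpotent M) (h2 : ∀ S : Sylow 2 ↥M, Group.nilpotencyClass ↥(S : Subgroup ↥M) ≤ 2) :
    Group.IsSolvable G := by
  haveI := hnil
  refine Fusion.ClassTwoInvariant.isSolvable_of_invariant_max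
    (fun H _ _ h => Cfsg.Agent.S0205.result (G := H) h) (Nat.card G) G le_rfl φ.range M
    (hcop.coprime_dvd_left (Subgroup.card_range_dvd φ)) hMtop ?_ ?_ hnil ?_
  · rintro _ ⟨a, rfl⟩
    exact FTCons.map_eq_of_mem _ (hMinv a)
  · intro H h1 h2 h3
    exact hMmax H h1 h2 fun a h hh => FTCons.mem_of_map_eq _ (h3 (φ a) ⟨a, rfl⟩) hh
  · intro a ha b hb c hc hka hkb hkc
    haveI : Fact (Nat.Prime 2) := ⟨Nat.prime_two⟩
    obtain ⟨S⟩ := (inferInstance : Nonempty (Sylow 2 ↥M))
    haveI hSn : (S : Subgroup ↥M).Normal :=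
      (Group.isNilpotent_of_finite_tfae.out 0 3 rfl rfl).mp hnil 2 inferInstance S
    haveI := Sylow.unique_of_normal S hSn
    have hmem : ∀ (x : G) (hx : x ∈ M), (∃ k : ℕ, x ^ 2 ^ k = 1) → (⟨x, hx⟩ : ↥M) ∈ (S : Subgroup ↥M) := by
      rintro x hx ⟨k, hk⟩
      obtain ⟨i, -, hi⟩ := (Nat.dvd_prime_pow Nat.prime_two).1
        (orderOf_dvd_of_pow_eq_one (show (⟨x, hx⟩ : ↥M) ^ 2 ^ k = 1 from Subtype.ext hk))
      obtain ⟨R, hR⟩ := (IsPGroup.of_card (p := 2) (n := i)
        (by rw [Nat.card_zpowers, hi] : Nat.card (Subgroup.zpowers (⟨x, hx⟩ : ↥M)) = 2 ^ i)).exists_le_sylow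
      rw [Subsingleton.elim R S] at hR
      exact hR (Subgroup.mem_zpowers _)
    have hcl := Fusion.commutator_le_centralizer_of_class_two (M := (S : Subgroup ↥M)) S.2.isNilpotent (h2 S)
    have := Subgroup.mem_centralizer_iff.mp (hcl (Subgroup.commutator_mem_commutator (hmem a ha hka)
      (hmem b hb hkb))) _ (hmem c hc hkc)
    exact (congrArg Subtype.val this).symm

end Cfsg.Agent.S4038
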