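import Cfsg.Statements.S4040
import Cfsg.Agent.Fusion.FixedPointFree
import Cfsg.Agent.Fusion.Residual

set_option autoImplicit false
set_option maxHeartbeats 400000
open Cfsg

namespace Cfsg.Agent.S4040

/-- A finite group possessing a maximal subgroup that is nilpotent of odd order is solvable. -/
theorem result {G : Type*} [Group G] [Finite G]
    (M : Subgroup G) (hmax : IsCoatom M) (hnil : Group.IsNilpotent M) (hodd : Odd (Nat.card M)) :
    Group.IsSolvable G := by
  induction hn : Nat.card G using Nat.strong_induction_on generalizing G with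
  | _ n IH =>
  subst hn
  by_cases hcore : ∃ K : Subgroup G, K.Normal ∧ K ≤ M ∧ K ≠ ⊥
  · obtain ⟨K, hKn, hKM, hK⟩ := hcore
    set π := QuotientGroup.mk' K with hπ
    have hπs := QuotientGroup.mk'_surjective K
    have hcm : (M.map π).comap π = M := by
      rw [Subgroup.comap_map_eq, hπ, QuotientGroup.ker_mk', sup_eq_left.mpr hKM]
    have hq : Group.IsSolvable (G ⧸ K) := by
      refine IH _ ?_ (M.map π) ⟨fun h => hmax.1 ?_, fun X hX => ?_⟩ (Core.isNilpotent_map hnil π)
        (hodd.of_dvd_nat (Subgroup.card_map_dvd _ _)) rfl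
      · rw [K.card_eq_card_quotient_mul_card_subgroup]
        exact lt_mul_of_one_lt_right Nat.card_pos ((Subgroup.one_lt_card_iff_ne_bot K).mpr hK)
      · rw [← hcm, h, Subgroup.comap_top]
      · have h1 : M < X.comap π := by
          refine lt_of_le_of_ne (hcm.ge.trans (Subgroup.comap_mono hX.le)) fun he => hX.ne ?_
          rw [he, Subgroup.map_comap_eq_self_of_surjective hπs]
        rw [← Subgroup.map_comap_eq_self_of_surjective hπs X, hmax.2 _ h1,
          Subgroup.map_top_of_surjective π hπs]
    have : Group.IsNilpotent K := Core.isNilpotent_mono hnil hKM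
    exact Group.isSolvable_of_ker_le_range K.subtype π
      (by rw [hπ, QuotientGroup.ker_mk', Subgroup.range_subtype])
  push Not at hcore
  by_cases hM : M = ⊥
  · subst hM
    refine Group.isSolvable_of_comm fun a b => ?_
    rcases eq_or_ne a 1 with rfl | ha
    · simp
    have htop : Subgroup.zpowers a = ⊤ :=
      hmax.2 _ (bot_lt_iff_ne_bot.mpr (by simpa using ha))
    obtain ⟨i, rfl⟩ := Subgroup.mem_zpowers_iff.mp (htop.ge (Subgroup.mem_top b))
    exact (Commute.refl a).zpow_right i
  have key : ∀ p ∈ (Nat.card M).primeFactors, HasNormalPComplement p G := by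
    intro p hp
    obtain ⟨hpp, hpd, -⟩ := Nat.mem_primeFactors.mp hp
    have := Fact.mk hpp
    have hp2 : p ≠ 2 := fun h => by
      subst h
      exact Nat.not_even_iff_odd.mpr hodd (even_iff_two_dvd.mpr hpd)
    obtain ⟨T⟩ := (inferInstance : Nonempty (Sylow p M))
    have hT : (T : Subgroup M).Normal :=
      Sylow.normal_of_normalizerCondition Group.normalizerCondition_of_isNilpotent T
    set S : Subgroup G := (T : Subgroup M).map M.subtype with hS
    have hS1 : S ≠ ⊥ := fun h => T.ne_bot_of_dvd_card hpd (by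
      rwa [hS, Subgroup.map_eq_bot_iff, M.ker_subtype, le_bot_iff] at h)
    have hSM : S ≤ M := Subgroup.map_subtype_le _
    have hMS : M ≤ Subgroup.normalizer (S : Set G) := fun x hx =>
      Subgroup.le_normalizer_map M.subtype
        ⟨⟨x, hx⟩, (Subgroup.normalizer_eq_top (H := (T : Subgroup M))).ge (Subgroup.mem_top _), rfl⟩
    have heq : ∀ X : Subgroup G, M ≤ X → X ≠ ⊤ → X = M := fun X hX hne => by
      by_contra h
      exact hne (hmax.2 X (lt_of_le_of_ne hX (Ne.symm h)))
    obtain ⟨R, hR⟩ := (T.2.map M.subtype : IsPGroup p S).exists_le_sylow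
    have hRS : (R : Subgroup G) = S := by
      by_contra hne
      have := R.2.isNilpotent
      have hlt : S.subgroupOf (R : Subgroup G) < ⊤ := lt_top_iff_ne_top.mpr fun ht =>
        hne (le_antisymm (Subgroup.subgroupOf_eq_top.mp ht) hR)
      obtain ⟨x, hx1, hx2⟩ := SetLike.exists_of_lt
        (Group.normalizerCondition_of_isNilpotent _ hlt)
      rw [← Subgroup.subgroupOf_normalizer_eq hR] at hx1
      have hN : Subgroup.normalizer (S : Set G) = M := heq _ hMS fun h =>
        hS1 (hcore S (Subgroup.normalizer_eq_top_iff.mp h) hSM)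
      have hxM : (x : G) ∈ M := hN ▸ Subgroup.mem_subgroupOf.mp hx1
      refine hx2 (Subgroup.mem_subgroupOf.mpr ?_)
      have h1 : (R : Subgroup G).subgroupOf M = (T : Subgroup M) :=
        T.3 (R.2.comap_subtype (K := M)) fun y hy => hR (Subgroup.mem_map_of_mem M.subtype hy)
      exact Subgroup.mem_map_of_mem M.subtype
        (h1 ▸ (show (⟨x, hxM⟩ : M) ∈ (R : Subgroup G).subgroupOf M from x.2))
    have hMR : M ≤ Subgroup.normalizer ((R : Subgroup G) : Set G) := hRS ▸ hMS
    refine Fusion.hasNormalPComplement_of_thompson hp2 R ?_ ?_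
    · have h : Subgroup.normalizer (thompsonSubgroupOf p (R : Subgroup G) : Set G) = M :=
        heq _ (fun x hx => Fusion.mem_normalizer_thompsonSubgroupOf (hMR hx)) fun h =>
          Fusion.thompsonSubgroupOf_ne_bot R.2 (hRS ▸ hS1) (hcore _
            (Subgroup.normalizer_eq_top_iff.mp h)
            ((Thompson.thompsonOf_le p _).trans (hRS ▸ hSM)))
      rw [h]
      exact Fusion.hasNormalPComplement_of_isNilpotent hnil
    · set Z := (R : Subgroup G) ⊓ Subgroup.centralizer ((R : Subgroup G) : Set G) with hZ
      have hle : M ≤ Subgroup.centralizer (Z : Set G) := by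
        intro m hm
        rw [Subgroup.mem_centralizer_iff]
        intro z hz
        obtain ⟨k, hk⟩ := IsPGroup.iff_orderOf.mp R.2 ⟨z, hz.1⟩
        rw [Subgroup.orderOf_mk] at hk
        have hzM : z ∈ M := (hRS ▸ hSM : (R : Subgroup G) ≤ M) hz.1
        obtain ⟨a, b, hab, -, -, -, ⟨i, hi'⟩, hb⟩ :=
          Fusion.exists_pPart_mul (p := p) (⟨m, hm⟩ : M) (isOfFinOrder_of_finite _)
        have hi : a ^ p ^ i = 1 := orderOf_dvd_iff_pow_eq_one.mp hi'
        have haz : Commute (a : G) z := by
          have haT : a ∈ (T : Subgroup M) := by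
            have hsup : IsPGroup p (Subgroup.zpowers a ⊔ (T : Subgroup M) : Subgroup M) :=
              IsPGroup.to_sup_of_normal_right (fun y => ⟨i, Subtype.ext (by
                obtain ⟨j, hj⟩ := Subgroup.mem_zpowers_iff.mp y.2
                rw [SubmonoidClass.coe_pow, ← hj, ← zpow_natCast, ← zpow_mul, mul_comm, zpow_mul,
                  zpow_natCast, hi, one_zpow]; rfl)⟩) T.2
            rw [← T.3 hsup le_sup_right]
            exact Subgroup.mem_sup_left (Subgroup.mem_zpowers a)
          exact Subgroup.mem_centralizer_iff.mp hz.2 _ (hRS ▸ Subgroup.mem_map_of_mem M.subtype haT)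
        have hbz : Commute (b : G) z := by
          have := ((Char.commute_of_nilpotent_coprime (G := M) (a := b) (b := ⟨z, hzM⟩)
            (by rw [show orderOf (⟨z, hzM⟩ : M) = p ^ k from (Subgroup.orderOf_mk _ _).trans hk]; exact hb.pow_right k)) : Commute b ⟨z, hzM⟩).map M.subtype
          exact this
        have e : m = (a : G) * b := congrArg Subtype.val hab
        rw [e]
        exact (haz.mul_left hbz).symm.eq
      have hne : Subgroup.centralizer (Z : Set G) ≠ ⊤ := by
        intro h
        have hZn : Z.Normal := ⟨fun z hz g => by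
          rw [← Subgroup.mem_centralizer_iff.mp (h.ge (Subgroup.mem_top g)) z hz,
            mul_inv_cancel_right]; exact hz⟩
        have hZ1 := hcore Z hZn (inf_le_left.trans (hRS ▸ hSM))
        have := (Subgroup.nontrivial_iff_ne_bot _).mpr (hRS ▸ hS1 : (R : Subgroup G) ≠ ⊥)
        have := R.2.center_nontrivial
        refine not_subsingleton (Subgroup.center (R : Subgroup G)) ⟨fun a b => ?_⟩
        have hz : ∀ z : Subgroup.center (R : Subgroup G), z = 1 := fun z => by
          refine Subtype.ext (Subtype.ext (Subgroup.mem_bot.mp (hZ1 ▸ ⟨z.1.2, ?_⟩)))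
          exact Subgroup.mem_centralizer_iff.mpr fun y hy =>
            congrArg (fun w : (R : Subgroup G) => (w : G))
              (Subgroup.mem_center_iff.mp z.2 ⟨y, hy⟩)
        rw [hz a, hz b]
      rw [heq _ hle hne]
      exact Fusion.hasNormalPComplement_of_isNilpotent hnil
  set K : Subgroup G := ⨅ p : (Nat.card M).primeFactors, pResidual (p : ℕ) G with hK
  have hKn : K.Normal := Subgroup.normal_iInf_normal fun p => inferInstance
  have hKs : Group.IsSolvable (G ⧸ K) := by
    have h1 : ∀ p : (Nat.card M).primeFactors, ∃ k, derivedSeries G k ≤ pResidual (p : ℕ) G := by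
      intro p
      have := Fact.mk (Nat.prime_of_mem_primeFactors p.2)
      have := (Fusion.isPGroup_quotient_pResidual (p := (p : ℕ)) (G := G)).isNilpotent
      obtain ⟨k, hk⟩ := (inferInstance : Group.IsSolvable (G ⧸ pResidual (p : ℕ) G)).solvable
      rw [← map_derivedSeries_eq (QuotientGroup.mk'_surjective _), Subgroup.map_eq_bot_iff,
        QuotientGroup.ker_mk'] at hk
      exact ⟨k, hk⟩
    choose k hk using h1
    refine ⟨⟨Finset.univ.sup k, ?_⟩⟩
    rw [← map_derivedSeries_eq (QuotientGroup.mk'_surjective K), Subgroup.map_eq_bot_iff,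
      QuotientGroup.ker_mk']
    refine le_iInf fun p => le_trans ?_ (hk p)
    exact derivedSeries_antitone G (Finset.le_sup (f := k) (Finset.mem_univ p))
  have hcop : (Nat.card M).Coprime (Nat.card K) := by
    refine Nat.coprime_of_dvd fun r hr hrM hrK => ?_
    have hmem : r ∈ (Nat.card M).primeFactors :=
      Nat.mem_primeFactors.mpr ⟨hr, hrM, Nat.card_pos.ne'⟩
    have := Fact.mk hr
    exact (Nat.Prime.coprime_iff_not_dvd hr).mp
      (Fusion.coprime_card_pResidual_of_hasNormalPComplement (key r hmem)).symm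
      (hrK.trans (Subgroup.card_dvd_of_le (show K ≤ pResidual r G from
        iInf_le (fun p : (Nat.card M).primeFactors => pResidual (p : ℕ) G) ⟨r, hmem⟩)))
  have hKsolv : Group.IsSolvable K := by
    rcases eq_or_ne K ⊥ with h | h
    · rw [h]; infer_instance
    obtain ⟨q, hq, hqd⟩ := Nat.exists_prime_and_dvd fun h1 => h (Subgroup.eq_bot_of_card_eq K h1)
    have := Fact.mk hq
    have hMs : Group.IsSolvable M := inferInstance
    obtain ⟨Q, hQ⟩ := Coprime.exists_invariant_sylow (A := M) (K := K) Subgroup.le_normalizer_of_normal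
      hcop (Or.inl hMs) q
    set Q' : Subgroup G := (Q : Subgroup K).map K.subtype with hQ'
    have hd : K ⊓ M = ⊥ := Coprime.inf_eq_bot_of_coprime hcop.symm
    have htop : Q' ⊔ M = ⊤ := by
      refine hmax.2 _ (lt_of_le_of_ne le_sup_right fun he => ?_)
      have h1 : Q' ≤ K ⊓ M := le_inf (Subgroup.map_subtype_le _) (le_sup_left.trans_eq he.symm)
      rw [hd, le_bot_iff, hQ', Subgroup.map_eq_bot_iff, K.ker_subtype, le_bot_iff] at h1
      exact Q.ne_bot_of_dvd_card hqd h1
    have hKQ : K = Q' := by
      refine le_antisymm (fun x hx => ?_) (Subgroup.map_subtype_le _)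
      have hx' : x ∈ ((Q' ⊔ M : Subgroup G) : Set G) := by rw [htop]; trivial
      rw [Subgroup.coe_mul_of_right_le_normalizer_left _ _ hQ] at hx'
      obtain ⟨a, ha, b, hb, rfl⟩ := hx'
      have hb' : b ∈ K ⊓ M := ⟨by
        simpa using mul_mem (Subgroup.inv_mem _ ((Subgroup.map_subtype_le _) ha)) hx, hb⟩
      rw [hd, Subgroup.mem_bot] at hb'
      simpa [hb'] using ha
    rw [hKQ]
    exact Layer.isSolvable_of_isPGroup (Q.2.map _)
  exact Group.isSolvable_of_ker_le_range K.subtype (QuotientGroup.mk' K)
    (by rw [QuotientGroup.ker_mk', Subgroup.range_subtype])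

end Cfsg.Agent.S4040
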