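import Cfsg.Statements.S4043
import Cfsg.Agent.Fusion.Residual
import Cfsg.Agent.S3749
import Cfsg.Agent.LocalStructure.OmegaAction
import Cfsg.Agent.Coprime.SchurZassenhaus
import Cfsg.Agent.Coprime.Basic
-- import your own Cfsg.Agent.* helpers here

set_option autoImplicit false
open Cfsg
open scoped commutatorElement Pointwise

namespace Cfsg.Agent.S4043

/-- Let G be a finite group that is the semidirect product of a normal p-subgroup N by a subgroup A, and also of N by a subgroup A₁, where p is a prime and A and A₁ both have normal p-complements. If C_N(A) = C_N(A₁) = 1, then A₁ is conjugate to A by an element of N. -/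
theorem result {G : Type*} [Group G] [Finite G] {p : ℕ}
    [Fact p.Prime] (N : Subgroup G) [N.Normal] (hN : IsPGroup p N) (A A₁ : Subgroup G)
    (hA : A.IsComplement' N) (hA₁ : A₁.IsComplement' N)
    (hAp : Cfsg.HasNormalPComplement p A) (hA₁p : Cfsg.HasNormalPComplement p A₁)
    (hC : ∀ n : G, n ∈ N → (∀ a : G, a ∈ A → a * n * a⁻¹ = n) → n = 1)
    (hC₁ : ∀ n : G, n ∈ N → (∀ a : G, a ∈ A₁ → a * n * a⁻¹ = n) → n = 1) :
    ∃ n : G, n ∈ N ∧ A₁ = A.map (MulAut.conj n).toMonoidHom := by
  classical
  let f := QuotientGroup.mk' N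
  haveI := Fusion.pResidual_characteristic (p := p) (G := A)
  haveI := Fusion.pResidual_characteristic (p := p) (G := A₁)
  let D : Subgroup G := (Cfsg.pResidual p A).map A.subtype
  let D₁ : Subgroup G := (Cfsg.pResidual p A₁).map A₁.subtype
  have hres : ∀ (B : Subgroup G), B.IsComplement' N →
      ((Cfsg.pResidual p B).map B.subtype).map f = Cfsg.pResidual p (G ⧸ N) := by
    intro B hB
    rw [Subgroup.map_map]
    refine Fusion.map_pResidual_of_surjective (f.comp B.subtype) fun y => ?_
    obtain ⟨x, rfl⟩ := QuotientGroup.mk'_surjective N y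
    have hx : x ∈ B ⊔ N := by rw [hB.sup_eq_top]; exact Subgroup.mem_top x
    rw [← SetLike.mem_coe, Subgroup.coe_mul_of_left_le_normalizer_right _ _ Subgroup.le_normalizer_of_normal,
      Set.mem_mul] at hx
    obtain ⟨b, hb, n, hn, rfl⟩ := hx
    exact ⟨⟨b, hb⟩, by change f b = f (b * n); rw [map_mul, (QuotientGroup.eq_one_iff n).mpr hn |> fun h => (show f n = 1 from h), mul_one]⟩
  obtain ⟨k, hk⟩ := IsPGroup.iff_card.mp hN
  have hDc : ∀ (B : Subgroup G), Cfsg.HasNormalPComplement p B →
      (Nat.card N).Coprime (Nat.card ((Cfsg.pResidual p B).map B.subtype)) := by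
    intro B hB
    rw [hk, Subgroup.card_map_of_injective B.subtype_injective]
    exact (Fusion.coprime_card_pResidual_of_hasNormalPComplement hB).symm.pow_left k
  have hd : ∀ (B : Subgroup G), Cfsg.HasNormalPComplement p B →
      N ⊓ (Cfsg.pResidual p B).map B.subtype = ⊥ := fun B hB =>
    Coprime.inf_eq_bot_of_coprime (hDc B hB)
  have hsup : N ⊔ D = N ⊔ D₁ := by
    rw [← QuotientGroup.comap_map_mk', ← QuotientGroup.comap_map_mk']
    exact congrArg _ ((hres A hA).trans (hres A₁ hA₁).symm)
  haveI : Group.IsNilpotent N := hN.isNilpotent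
  obtain ⟨n, hn, hconj⟩ := Coprime.exists_conj_of_sup_eq Subgroup.le_normalizer_of_normal
    (hd A hAp) (hd A₁ hA₁p) hsup (hDc A hAp) (Or.inl inferInstance)
  refine ⟨n, hn, ?_⟩
  set B : Subgroup G := A.map (MulAut.conj n).toMonoidHom with hB
  have hBD : B ≤ Subgroup.normalizer (D₁ : Set G) := by
    rw [hB]
    rintro _ ⟨a, ha, rfl⟩
    have haD : a ∈ Subgroup.normalizer (D : Set G) :=
      (LocalStructure.le_normalizer_map_characteristic Subgroup.le_normalizer (Cfsg.pResidual p A)) ha
    refine Coprime.mem_normalizer_of_conj_smul_eq ?_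
    rw [show D₁ = MulAut.conj n • D from hconj.symm]
    simp only [MulEquiv.coe_toMonoidHom, MulAut.conj_apply, map_mul, map_inv]
    rw [mul_smul, mul_smul, inv_smul_smul, Coprime.conj_smul_eq_self_of_mem_normalizer haD]
  -- `N_N(D₁) = 1`
  have hNN : N ⊓ Subgroup.normalizer (D₁ : Set G) = ⊥ := by
    by_contra hne
    obtain ⟨T⟩ : Nonempty (Sylow p A₁) := inferInstance
    set W : Subgroup G := N ⊓ Subgroup.centralizer (D₁ : Set G) with hW
    have hle : N ⊓ Subgroup.normalizer (D₁ : Set G) ≤ W := by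
      rintro x ⟨hx, hxn⟩
      refine ⟨hx, Subgroup.mem_centralizer_iff.mpr fun d hdd => ?_⟩
      have h1 : ⁅x, d⁆ ∈ N ⊓ D₁ := by
        refine ⟨?_, D₁.mul_mem ((Subgroup.mem_normalizer_iff.mp hxn d).mp hdd) (D₁.inv_mem hdd)⟩
        have h0 : x * (d * x⁻¹ * d⁻¹) ∈ N :=
          N.mul_mem hx ((inferInstance : N.Normal).conj_mem _ (N.inv_mem hx) d)
        simpa [commutatorElement_def, mul_assoc] using h0
      rw [hd A₁ hA₁p, Subgroup.mem_bot] at h1
      exact (commutatorElement_eq_one_iff_mul_comm.mp h1).symm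
    set T' : Subgroup G := (T : Subgroup A₁).map A₁.subtype with hT'
    have hTD : T' ≤ Subgroup.normalizer (D₁ : Set G) := (Subgroup.map_subtype_le _).trans
      (LocalStructure.le_normalizer_map_characteristic Subgroup.le_normalizer (Cfsg.pResidual p A₁))
    have hTW : T' ≤ Subgroup.normalizer (W : Set G) :=
      Coprime.le_normalizer_inf Subgroup.le_normalizer_of_normal (Coprime.le_normalizer_centralizer
        fun x hx => Subgroup.mem_normalizer_iff.mp (hTD hx) ) 
    obtain ⟨z, hz, hz1, hzT⟩ := S3749.exists_fixed (T.2.map _) (hN.to_le inf_le_left) hTW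
      (fun h => hne (le_bot_iff.mp (h ▸ hle)))
    refine hz1 (hC₁ z hz.1 fun a ha => ?_)
    have hmem : (⟨a, ha⟩ : A₁) ∈ (T : Subgroup A₁) ⊔ Cfsg.pResidual p A₁ := by
      rw [Fusion.sylow_sup_pResidual T]
      exact Subgroup.mem_top _
    have hcen : ((T : Subgroup A₁) ⊔ Cfsg.pResidual p A₁).map A₁.subtype ≤
        Subgroup.centralizer {z} := by
      rw [Subgroup.map_sup]
      refine sup_le (fun t ht => Subgroup.mem_centralizer_singleton_iff.mpr ?_)
        (fun t ht => Subgroup.mem_centralizer_singleton_iff.mpr ?_)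
      · exact Subgroup.mem_centralizer_iff.mp hzT t ht
      · exact Subgroup.mem_centralizer_iff.mp hz.2 t ht
    exact mul_inv_eq_iff_eq_mul.mpr (Subgroup.mem_centralizer_singleton_iff.mp
      (hcen (Subgroup.mem_map_of_mem _ hmem)))
  have hA₁D : A₁ ≤ Subgroup.normalizer (D₁ : Set G) :=
    LocalStructure.le_normalizer_map_characteristic Subgroup.le_normalizer (Cfsg.pResidual p A₁)
  -- both complements equal the normalizer of `D₁`
  have heq : ∀ C : Subgroup G, C ⊔ N = ⊤ → C ≤ Subgroup.normalizer (D₁ : Set G) →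
      C = Subgroup.normalizer (D₁ : Set G) := by
    intro C hCs hCn
    refine le_antisymm hCn fun x hx => ?_
    have hx' : x ∈ C ⊔ N := by rw [hCs]; exact Subgroup.mem_top x
    rw [← SetLike.mem_coe, Subgroup.coe_mul_of_left_le_normalizer_right _ _ Subgroup.le_normalizer_of_normal,
      Set.mem_mul] at hx'
    obtain ⟨c, hc, m, hm, rfl⟩ := hx'
    have : m ∈ N ⊓ Subgroup.normalizer (D₁ : Set G) := ⟨hm, by simpa using mul_mem (inv_mem (hCn hc)) hx⟩
    rw [hNN, Subgroup.mem_bot] at this
    rwa [this, mul_one]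
  rw [heq A₁ hA₁.sup_eq_top hA₁D, heq B ?_ hBD]
  have h := congrArg (Subgroup.map (MulAut.conj n).toMonoidHom) hA.sup_eq_top
  have hNn : N.map (MulAut.conj n).toMonoidHom = N := by
    change MulAut.conj n • N = N
    exact Coprime.conj_smul_eq_self_of_mem_normalizer (Subgroup.le_normalizer_of_normal (Subgroup.mem_top n))
  rw [Subgroup.map_sup, Subgroup.map_top_of_surjective _ (MulAut.conj n).surjective, hNn] at h
  exact h

end Cfsg.Agent.S4043
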