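import Cfsg.Statements.S4049
import Cfsg.Agent.S4027
-- import your own Cfsg.Agent.* helpers here

set_option autoImplicit false
open Cfsg

namespace Cfsg.Agent.S4049

/-- Let G be a finite group such that N_G(H)/C_G(H) has odd order for every nontrivial subgroup H of odd order. Then the Sylow 2-subgroups of G are normal. -/
theorem result {G : Type*} [Group G] [Finite G]
    (hhom : ∀ H : Subgroup G, H ≠ ⊥ → ¬ 2 ∣ Nat.card ↥H →
        ¬ 2 ∣ (Subgroup.centralizer (H : Set G)).relIndex (Subgroup.normalizer (H : Set G))) (P : Sylow 2 G) :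
    (P : Subgroup G).Normal := by
  refine Cfsg.Agent.S4027.sylow_two_normal (fun x hx g hg => ?_) P
  by_cases h1 : x = 1
  · exact ⟨1, odd_one, by rw [h1]; exact Commute.one_right _⟩
  have hodd := hhom (Subgroup.zpowers x) (by simpa using h1)
    (by rw [Nat.card_zpowers]; intro h; obtain ⟨c, hc⟩ := hx; omega)
  refine ⟨_, Nat.odd_iff.mpr (Nat.two_dvd_ne_zero.mp hodd), ?_⟩
  have hmem := Subgroup.pow_index_mem
    ((Subgroup.centralizer ((Subgroup.zpowers x : Subgroup G) : Set G)).subgroupOf
      (Subgroup.normalizer ((Subgroup.zpowers x : Subgroup G) : Set G))) ⟨g, hg⟩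
  rw [Subgroup.mem_subgroupOf] at hmem
  exact (hmem x (Subgroup.mem_zpowers x)).symm

end Cfsg.Agent.S4049
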