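import Cfsg.Statements.S4050
import Cfsg.Agent.PiHom.Basic
-- import your own Cfsg.Agent.* helpers here

set_option autoImplicit false
open Cfsg
open Cfsg.Agent
open scoped commutatorElement Pointwise

namespace Cfsg.Agent.S4050

/-- Let π be a set of primes and G a finite group. The π-elements of G (elements whose order is divisible only by primes of π) form a subgroup if and only if G is π-separable (it has a chain of normal subgroups from 1 to G with each successive index divisible only by primes in π or only by primes outside π) and N_G(H)/C_G(H) is a π'-group for every nontrivial π'-subgroup H of G. -/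
theorem result {G : Type*} [Group G] [Finite G] (π : Set ℕ)
    (hπ : ∀ p ∈ π, p.Prime) :
    (∃ K : Subgroup G, ∀ x : G, x ∈ K ↔ ∀ p : ℕ, p.Prime → p ∣ orderOf x → p ∈ π) ↔
    ((∃ (n : ℕ) (H : Fin (n + 1) → Subgroup G), H 0 = ⊥ ∧ H (Fin.last n) = ⊤ ∧ Monotone H ∧ (∀ i, (H i).Normal) ∧
      ∀ i : Fin n, (∀ q : ℕ, q.Prime → q ∣ (H i.castSucc).relIndex (H i.succ) → q ∈ π) ∨
        (∀ q : ℕ, q.Prime → q ∣ (H i.castSucc).relIndex (H i.succ) → q ∉ π)) ∧
     (∀ H : Subgroup G, H ≠ ⊥ → (∀ p : ℕ, p.Prime → p ∣ Nat.card ↥H → p ∉ π) →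
        ∀ p : ℕ, p.Prime → p ∣ (Subgroup.centralizer (H : Set G)).relIndex (Subgroup.normalizer (H : Set G)) → p ∉ π)) := by
  constructor
  · rintro ⟨K, hK⟩
    have hKn : K.Normal := ⟨fun x hx g => by
      rw [hK] at hx ⊢
      rwa [← MulAut.conj_apply, MulEquiv.orderOf_eq]⟩
    have hquot : ∀ x : G ⧸ K, PiHom.IsPi π x → x = 1 := fun x hx => by
      obtain ⟨g, rfl⟩ := QuotientGroup.mk'_surjective K x
      obtain ⟨g', -, hg', he⟩ := PiHom.exists_lift (QuotientGroup.mk' K) g hx
      rw [← he, QuotientGroup.mk'_apply, QuotientGroup.eq_one_iff]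
      exact (hK g').mpr hg'
    refine ⟨⟨2, ![⊥, K, ⊤], rfl, rfl, ?_, ?_, ?_⟩, ?_⟩
    · refine Fin.monotone_iff_le_succ.mpr fun i => ?_
      fin_cases i
      · exact bot_le
      · exact le_top
    · intro i
      fin_cases i
      · exact Subgroup.normal_bot
      · exact hKn
      · exact Subgroup.normal_top
    · intro i
      fin_cases i
      · refine Or.inl fun q hq hd => ?_
        change q ∣ (⊥ : Subgroup G).relIndex K at hd
        rw [Subgroup.relIndex_bot_left] at hd
        exact PiHom.card_pi (fun x hx => (hK x).mp hx) q hq hd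
      · refine Or.inr fun q hq hd hqπ => ?_
        change q ∣ K.relIndex ⊤ at hd
        rw [Subgroup.relIndex_top_right, Subgroup.index_eq_card] at hd
        have : Fact q.Prime := ⟨hq⟩
        obtain ⟨x, hx⟩ := exists_prime_orderOf_dvd_card' q hd
        have h1 := hquot x (fun p hp hpd => by
          rw [hx, Nat.prime_dvd_prime_iff_eq hp hq] at hpd; exact hpd ▸ hqπ)
        rw [h1, orderOf_one] at hx
        exact hq.ne_one hx.symm
    · intro H hH hHπ p hp hd hpπ
      have : Fact p.Prime := ⟨hp⟩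
      set φ := H.normalizerMonoidHom
      have hker : φ.ker = (Subgroup.centralizer (H : Set G)).subgroupOf (Subgroup.normalizer (H : Set G)) :=
        Subgroup.normalizerMonoidHom_ker H
      rw [Subgroup.relIndex, ← hker, Subgroup.index_ker] at hd
      obtain ⟨⟨u, hu⟩, hx⟩ := exists_prime_orderOf_dvd_card' (G := φ.range) p hd
      rw [Subgroup.orderOf_mk] at hx
      obtain ⟨⟨n, hn⟩, rfl⟩ := hu
      obtain ⟨n', -, hn', he⟩ := PiHom.exists_lift φ ⟨n, hn⟩ (π := π) (fun q hq hqd => by
        rw [hx, Nat.prime_dvd_prime_iff_eq hq hp] at hqd; exact hqd ▸ hpπ)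
      have hnK : (n' : G) ∈ K := (hK _).mpr (fun q hq hqd => hn' q hq (by rwa [Subgroup.orderOf_coe] at hqd))
      have h1 : φ n' = 1 := by
        rw [← MonoidHom.mem_ker, hker, Subgroup.mem_subgroupOf, Subgroup.mem_centralizer_iff]
        intro h hh
        have hc : ⁅(n' : G), h⁆ ∈ K ⊓ H := by
          rw [commutatorElement_def]
          refine ⟨?_, H.mul_mem ((Subgroup.mem_normalizer_iff.mp n'.2 h).mp hh) (H.inv_mem hh)⟩
          rw [show (n' : G) * h * (n' : G)⁻¹ * h⁻¹ = n' * (h * (n' : G)⁻¹ * h⁻¹) by group]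
          exact K.mul_mem hnK (hKn.conj_mem _ (K.inv_mem hnK) h)
        have hc1 : ⁅(n' : G), h⁆ = 1 := by
          rw [← orderOf_eq_one_iff]
          by_contra hne
          obtain ⟨q, hq, hqd⟩ := Nat.exists_prime_and_dvd hne
          exact hHπ q hq (hqd.trans (by rw [← Subgroup.orderOf_mk _ hc.2]; exact orderOf_dvd_natCard _))
            ((hK _).mp hc.1 q hq hqd)
        exact (commutatorElement_eq_one_iff_mul_comm.mp hc1).symm
      rw [← he, h1, orderOf_one] at hx
      exact hp.ne_one hx.symm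
  · rintro ⟨⟨n, H, h0, hlast, hmono, hnorm, hstep⟩, hloc⟩
    have hL := PiHom.Local.of_relIndex hloc
    suffices h : ∀ i : Fin (n + 1), PiHom.Closed π ↥(H i) by
      obtain ⟨L, hL'⟩ := h (Fin.last n)
      refine ⟨L.map (H (Fin.last n)).subtype, fun x => ⟨?_, fun hx => ?_⟩⟩
      · rintro ⟨y, hy, rfl⟩
        intro q hq hqd
        exact (hL' y).mp hy q hq (by rwa [Subgroup.subtype_apply, Subgroup.orderOf_coe] at hqd)
      · exact ⟨⟨x, hlast ▸ Subgroup.mem_top x⟩, (hL' _).mpr (fun q hq hqd => hx q hq (by rwa [Subgroup.orderOf_mk] at hqd)), rfl⟩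
    intro i
    induction i using Fin.induction with
    | zero =>
      refine ⟨⊤, fun x => ⟨fun _ => ?_, fun _ => Subgroup.mem_top x⟩⟩
      have hx : (x : G) = 1 := Subgroup.mem_bot.mp (h0 ▸ x.2)
      rw [show x = 1 from Subtype.ext hx]
      exact PiHom.IsPi.one
    | succ i ih =>
      have hle : H i.castSucc ≤ H i.succ := hmono (Fin.castSucc_lt_succ (i := i)).le
      set K := (H i.castSucc).subgroupOf (H i.succ)
      have hKn : K.Normal := (hnorm i.castSucc).subgroupOf _
      obtain ⟨L, hL'⟩ := ih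
      let e := Subgroup.subgroupOfEquivOfLe hle
      refine PiHom.closed_of_extension (hL.of_injective (H i.succ).subtype (Subgroup.subtype_injective _)) K
        ⟨L.comap e.toMonoidHom, fun x => ?_⟩ ?_
      · rw [Subgroup.mem_comap, hL']
        exact ⟨fun h => h.of_dvd (by rw [MulEquiv.coe_toMonoidHom, MulEquiv.orderOf_eq]),
          fun h => h.of_dvd (by rw [MulEquiv.coe_toMonoidHom, MulEquiv.orderOf_eq])⟩
      · rcases hstep i with h | h
        · refine ⟨⊤, fun x => ⟨fun _ q hq hqd => h q hq ?_, fun _ => Subgroup.mem_top x⟩⟩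
          exact hqd.trans ((orderOf_dvd_natCard x).trans (by rw [← Subgroup.index_eq_card]; rfl))
        · refine ⟨⊥, fun x => ⟨fun hx => by rw [Subgroup.mem_bot.mp hx]; exact PiHom.IsPi.one, fun hx => ?_⟩⟩
          rw [Subgroup.mem_bot, ← orderOf_eq_one_iff]
          by_contra hne
          obtain ⟨q, hq, hqd⟩ := Nat.exists_prime_and_dvd hne
          exact h q hq (hqd.trans ((orderOf_dvd_natCard x).trans (by rw [← Subgroup.index_eq_card]; rfl))) (hx q hq hqd)

end Cfsg.Agent.S4050
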