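import Cfsg.Statements.S4052
import Cfsg.Agent.DPiHomog.Basic
import Cfsg.Agent.HallSymShape.General
import Cfsg.Agent.Char.BrauerSuzuki

set_option autoImplicit false
open Cfsg

namespace Cfsg.Agent.S4052

/-- Let π be a set of primes and G a finite group whose maximal π-subgroups are pairwise conjugate (so Hall π-subgroups exist, any two are conjugate, and every π-subgroup lies in one of them), and suppose N_G(H)/C_G(H) is a π-group for every nontrivial π-subgroup H. If either 3 does not divide the order of G, or the π'-elements of every proper subgroup of G form a subgroup, then the π'-elements of G form a subgroup. -/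
theorem result {G : Type*} [Group G] [Finite G] (π : Set ℕ)
    (hπ : ∀ p ∈ π, p.Prime) (hD : Cfsg.IsDPiGroup π G) (hhom : (∀ H : Subgroup G, H ≠ ⊥ → (∀ p : ℕ, p.Prime → p ∣ Nat.card ↥H → p ∈ π) →
        ∀ p : ℕ, p.Prime → p ∣ (Subgroup.centralizer (H : Set G)).relIndex (Subgroup.normalizer (H : Set G)) → p ∈ π))
    (hcase : ¬ 3 ∣ Nat.card G ∨ ∀ M : Subgroup G, M ≠ ⊤ →
      ∃ L : Subgroup ↥M, ∀ x : ↥M, x ∈ L ↔ ∀ p : ℕ, p.Prime → p ∣ orderOf x → p ∉ π) :
    (∃ K : Subgroup G, ∀ x : G, x ∈ K ↔ ∀ p : ℕ, p.Prime → p ∣ orderOf x → p ∉ π) := by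
  obtain ⟨H, hH⟩ := HallSymShape.e_of_d hD
  have hGood : DPiHomog.Good π H := by
    refine ⟨hH.1, fun Z hZ => ?_, hhom⟩
    obtain ⟨M, hZM, hM⟩ := HallSymShape.exists_le_maximal_pi hZ
    obtain ⟨g, rfl⟩ := hD H M (HallSymShape.maximal_of_hall hH) hM
    exact ⟨g, hZM⟩
  have hcop : Nat.Coprime (Nat.card H) H.index :=
    Nat.coprime_of_dvd fun p hp h1 h2 => hH.2 p hp (hH.1 p hp h1) h2
  have hfus : ∀ x ∈ H, ∀ y ∈ H, IsConj x y → ∃ h ∈ H, h * x * h⁻¹ = y := fun x hx y hy hxy => by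
    obtain ⟨g, hg⟩ := isConj_iff.1 hxy
    exact DPiHomog.conj_in _ G rfl H hGood x hx y hy g hg
  have helem : ∀ (E : Subgroup G) (p : ℕ), p.Prime → Cfsg.IsElementary p E → Nat.card E ∣ Nat.card H →
      ∃ g : G, E.map (MulAut.conj g).toMonoidHom ≤ H := fun E p _ _ hE => by
    obtain ⟨g, hg⟩ := hGood.dom E fun q hq hqd => hH.1 q hq (hqd.trans hE)
    refine ⟨g⁻¹, (DPiHomog.cj_mono g⁻¹ hg).trans (le_of_eq ?_)⟩
    rw [DPiHomog.cj_cj, inv_mul_cancel, DPiHomog.cj_one]
  obtain ⟨K, hKn, hKH, hKi⟩ := Char.brauer_suzuki H hcop hfus helem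
  have hc : Subgroup.IsComplement' K H :=
    Subgroup.isComplement'_of_disjoint_and_mul_eq_univ (disjoint_iff.2 hKi)
      (by rw [← Subgroup.normal_mul, hKH, Subgroup.coe_top])
  have h1 : Nat.card K = H.index := hc.index_eq_card.symm
  have h2 : K.index = Nat.card H := hc.symm.index_eq_card
  refine ⟨K, fun x => ⟨fun hx p hp hd hπp => ?_, fun hx => ?_⟩⟩
  · exact hH.2 p hp hπp (h1 ▸ hd.trans (K.orderOf_dvd_natCard hx))
  · haveI := hKn
    rw [← QuotientGroup.eq_one_iff, ← orderOf_eq_one_iff]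
    by_contra hne
    obtain ⟨p, hp, hpd⟩ := Nat.exists_prime_and_dvd hne
    refine hx p hp (hpd.trans (orderOf_map_dvd (QuotientGroup.mk' K) x)) (hH.1 p hp ?_)
    rw [← h2, Subgroup.index_eq_card]
    exact hpd.trans (orderOf_dvd_natCard _)

end Cfsg.Agent.S4052
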