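import Cfsg.Statements.S4056

set_option autoImplicit false
open Cfsg
open scoped commutatorElement

namespace Cfsg.Agent.S4056

/-- In a finite 2-group of nilpotency class at most 2 and exponent dividing 4, the Frattini subgroup lies in the centre and is elementary abelian. -/
theorem result {P : Type*} [Group P] [Finite P] (hP : IsPGroup 2 P)
    (hcl : Group.nilpotencyClass P ≤ 2) (hexp : Monoid.exponent P ∣ 4) :
    frattini P ≤ Subgroup.center P ∧ Cfsg.IsElementaryAbelian 2 (frattini P) := by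
  have hc : ∀ a b : P, ⁅a, b⁆ ∈ Subgroup.center P := by
    intro a b
    have := hP.isNilpotent
    have h1 : Subgroup.upperCentralSeries P 2 = ⊤ :=
      Subgroup.upperCentralSeries_eq_top_iff_nilpotencyClass_le.mpr hcl
    have h2 : a ∈ Subgroup.upperCentralSeries P 2 := h1 ▸ Subgroup.mem_top a
    rw [Subgroup.mem_upperCentralSeries_succ_iff] at h2
    have h3 := h2 b
    rw [Subgroup.upperCentralSeries_one] at h3
    simpa [commutatorElement_def] using h3
  have h4 : ∀ a : P, a ^ 4 = 1 := fun a =>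
    orderOf_dvd_iff_pow_eq_one.1 ((Monoid.order_dvd_exponent a).trans hexp)
  have hsq : ∀ a b : P, Commute (a * a) b := by
    intro a b
    set c := ⁅a, b⁆ with hcdef
    have hcc : ∀ x : P, Commute c x := fun x => (Subgroup.mem_center_iff.1 (hc a b) x).symm
    have hab : a * b = c * (b * a) := by simp [hcdef, commutatorElement_def, mul_assoc]
    have hba : b * a = c⁻¹ * (a * b) := by rw [hab]; group
    have hc2 : c * c = 1 := by
      have hswap : ∀ x y : P, (a * b) * x * y = (a * b) * (x * y) := fun x y => mul_assoc _ _ _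
      have e1 : (a * b) * (a * b) = c⁻¹ * ((a * a) * (b * b)) := by
        calc (a * b) * (a * b) = a * (b * a) * b := by group
          _ = a * (c⁻¹ * (a * b)) * b := by rw [hba]
          _ = c⁻¹ * ((a * a) * (b * b)) := by rw [← mul_assoc a, ← ((hcc a).inv_left).eq]; group
      have e2 : (b * b) * (a * a) = (c⁻¹ * c⁻¹ * c⁻¹ * c⁻¹) * ((a * a) * (b * b)) := by
        have k1 : ∀ x : P, b * (a * x) = c⁻¹ * (a * (b * x)) := fun x => by
          rw [← mul_assoc b a, hba]; group
        have k2 : ∀ x : P, b * (c⁻¹ * x) = c⁻¹ * (b * x) := fun x => by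
          rw [← mul_assoc, ← (hcc b).inv_left.eq, mul_assoc]
        have k3 : ∀ x : P, a * (c⁻¹ * x) = c⁻¹ * (a * x) := fun x => by
          rw [← mul_assoc, ← (hcc a).inv_left.eq, mul_assoc]
        have k1' : b * a = c⁻¹ * (a * b) := hba
        simp only [mul_assoc, k1, k1', k2, k3]
      have e3 : (a * b) ^ 4 = c⁻¹ ^ 6 * (a ^ 4 * b ^ 4) := by
        have z : ∀ x : P, Commute c⁻¹ x := fun x => (hcc x).inv_left
        calc (a * b) ^ 4 = ((a * b) * (a * b)) * ((a * b) * (a * b)) := by simp [pow_succ, mul_assoc]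
          _ = c⁻¹ * c⁻¹ * ((a * a) * ((b * b) * (a * a)) * (b * b)) := by
              rw [e1, ← mul_assoc (c⁻¹ * _), mul_assoc c⁻¹ _ c⁻¹, ← (z _).eq]; group
          _ = c⁻¹ * c⁻¹ * (c⁻¹ * c⁻¹ * c⁻¹ * c⁻¹) * ((a * a) * ((a * a) * (b * b)) * (b * b)) := by
              rw [e2, ← mul_assoc (a * a) _ _]
              rw [show (a * a) * (c⁻¹ * c⁻¹ * c⁻¹ * c⁻¹) = (c⁻¹ * c⁻¹ * c⁻¹ * c⁻¹) * (a * a) from
                ((((z _).mul_left (z _)).mul_left (z _)).mul_left (z _)).eq.symm]
              group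
          _ = c⁻¹ ^ 6 * (a ^ 4 * b ^ 4) := by simp [pow_succ, mul_assoc]
      rw [h4, h4, h4, one_mul, mul_one, inv_pow, eq_comm, inv_eq_one] at e3
      calc c * c = c ^ 6 * (c ^ 4)⁻¹ := by rw [← pow_two]; group
        _ = 1 := by rw [e3, h4]; simp
    calc a * a * b = a * (c * (b * a)) := by rw [mul_assoc, hab]
      _ = c * (a * b * a) := by rw [← mul_assoc, ← (hcc a).eq]; group
      _ = c * c * (b * (a * a)) := by rw [hab]; group
      _ = b * (a * a) := by rw [hc2, one_mul]
  set S := Subgroup.closure (Set.range fun a : P => a * a) with hS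
  have hSc : S ≤ Subgroup.center P := (Subgroup.closure_le _).2 fun x ⟨a, ha⟩ =>
    ha ▸ Subgroup.mem_center_iff.2 fun b => ((hsq a b).eq).symm
  have hSel : IsElementaryAbelian 2 S := by
    refine ⟨⟨⟨fun a b => Subtype.ext ((Subgroup.mem_center_iff.1 (hSc b.2) a))⟩⟩, fun x hx => ?_⟩
    induction hx using Subgroup.closure_induction with
    | mem y hy => obtain ⟨a, rfl⟩ := hy; simpa [pow_succ, mul_assoc] using h4 a
    | one => simp
    | mul y z hy _ hy' hz' =>
      have : Commute y z := (Subgroup.mem_center_iff.1 (hSc hy) z).symm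
      rw [this.mul_pow, hy', hz', one_mul]
    | inv y _ hy' => rw [inv_pow, hy', inv_one]
  have hΦ : frattini P ≤ S := by
    by_contra hle
    have hSn : S.Normal :=
      ⟨fun n hn g => by rw [Subgroup.mem_center_iff.1 (hSc hn) g, mul_inv_cancel_right]; exact hn⟩
    have hcomm : ∀ a b : P ⧸ S, a * b = b * a := by
      have h2 : ∀ a : P ⧸ S, a * a = 1 := fun a => by
        obtain ⟨a, rfl⟩ := QuotientGroup.mk'_surjective S a
        rw [← map_mul]
        exact (QuotientGroup.eq_one_iff _).2 (Subgroup.subset_closure ⟨a, rfl⟩)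
      intro a b
      calc a * b = (a * b)⁻¹ := (inv_eq_of_mul_eq_one_right (h2 _)).symm
        _ = b⁻¹ * a⁻¹ := mul_inv_rev _ _
        _ = b * a := by rw [inv_eq_of_mul_eq_one_right (h2 a), inv_eq_of_mul_eq_one_right (h2 b)]
    obtain ⟨x, hxΦ, hxS⟩ := SetLike.not_le_iff_exists.1 hle
    obtain ⟨M, hMmax, hM⟩ : ∃ M : Subgroup P, (S ≤ M ∧ x ∉ M) ∧
        ∀ N : Subgroup P, S ≤ N → x ∉ N → M ≤ N → N ≤ M := by
      obtain ⟨M, hM⟩ := (Set.toFinite {N : Subgroup P | S ≤ N ∧ x ∉ N}).exists_maximal ⟨S, le_rfl, hxS⟩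
      exact ⟨M, hM.1, fun N a b c => hM.2 ⟨a, b⟩ c⟩
    have hMn : M.Normal := ⟨fun m hm g => by
      have h1 : g * m * g⁻¹ * m⁻¹ ∈ S := by
        refine (QuotientGroup.eq_one_iff (N := S) _).1 ?_
        simp only [QuotientGroup.mk_mul, QuotientGroup.mk_inv]
        rw [hcomm ((g : P ⧸ S)) (m : P ⧸ S)]
        group
      simpa using M.mul_mem (hMmax.1 h1) hm⟩
    have hcoatom : IsCoatom M := by
      refine ⟨fun e => hMmax.2 (e ▸ Subgroup.mem_top x), fun N hN => ?_⟩
      have hxN : x ∈ N := by_contra fun hx' =>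
        hN.not_ge (hM N (hMmax.1.trans hN.le) hx' hN.le)
      refine eq_top_iff.2 fun y _ => ?_
      by_contra hy
      have hyM : y ∉ M := fun h => hy (hN.le h)
      have h1 : x ∈ M ⊔ Subgroup.zpowers y := by_contra fun h1 => hyM
        (hM _ (hMmax.1.trans le_sup_left) h1 le_sup_left (Subgroup.mem_sup_right (Subgroup.mem_zpowers y)))
      obtain ⟨m, hm, z, ⟨i, rfl⟩, hxmz⟩ := Subgroup.mem_sup_of_normal_left.1 h1
      have hy2 : y * y ∈ M := hMmax.1 (Subgroup.subset_closure ⟨y, rfl⟩)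
      rcases Int.even_or_odd i with ⟨j, rfl⟩ | ⟨j, rfl⟩
      · refine hMmax.2 ?_
        rw [← hxmz]
        refine M.mul_mem hm ?_
        show y ^ (j + j) ∈ M
        rw [show j + j = 2 * j by ring, zpow_mul, zpow_two]
        exact M.zpow_mem hy2 j
      · refine hy ?_
        have h3 : y = (m * (y * y) ^ j)⁻¹ * x := by
          rw [← hxmz]
          show y = (m * (y * y) ^ j)⁻¹ * (m * y ^ (2 * j + 1))
          rw [zpow_add, zpow_one, zpow_mul, zpow_two]
          group
        rw [h3]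
        exact N.mul_mem (N.inv_mem (hN.le (M.mul_mem hm (M.zpow_mem hy2 j)))) hxN
    exact hMmax.2 (frattini_le_coatom hcoatom hxΦ)
  exact ⟨hΦ.trans hSc, ⟨⟨⟨fun a b => Subtype.ext (congrArg (Subtype.val : ↥S → P)
    (hSel.1.is_comm.comm ⟨_, hΦ a.2⟩ ⟨_, hΦ b.2⟩) :)⟩⟩, fun a ha => hSel.2 a (hΦ ha)⟩⟩

end Cfsg.Agent.S4056
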