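import Cfsg.Statements.S4057
import Cfsg.Agent.PGenBound.PCentral
import Cfsg.Agent.PGenBound.UnitriBound
import Cfsg.Agent.OddLocal.NormalElementary

set_option autoImplicit false
open Cfsg

namespace Cfsg.Agent.S4057

open Subgroup

/-- An elementary abelian group of order `p ^ r`: automorphisms are invertible matrices. -/
theorem exists_toMatrix {V : Type*} [CommGroup V] [Finite V] {p : ℕ} [Fact p.Prime]
    (hexp : ∀ x : V, x ^ p = 1) {r : ℕ} (hr : Nat.card V = p ^ r) :
    ∃ M : MulAut V →* Matrix (Fin r) (Fin r) (ZMod p), ∀ a, M a = 1 → a = 1 := by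
  have hn : ∀ x : Additive V, p • x = 0 := fun x => by
    apply Additive.toMul.injective
    rw [toMul_nsmul, hexp, toMul_zero]
  letI := AddCommGroup.zmodModule (n := p) hn
  haveI : Finite (Additive V) := (inferInstance : Finite V)
  haveI : Module.Finite (ZMod p) (Additive V) := Module.Finite.of_finite
  have hfin : Module.finrank (ZMod p) (Additive V) = r := by
    have h := Module.natCard_eq_pow_finrank (K := ZMod p) (V := Additive V)
    rw [Nat.card_zmod, Nat.card_congr (Additive.toMul (α := V)), hr] at h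
    exact Nat.pow_right_injective (Fact.out : p.Prime).two_le h.symm
  let b := Module.finBasisOfFinrankEq (ZMod p) (Additive V) hfin
  let lin : MulAut V → (Additive V →ₗ[ZMod p] Additive V) := fun a =>
    (MonoidHom.toAdditive a.toMonoidHom).toZModLinearMap p
  refine ⟨{ toFun := fun a => LinearMap.toMatrix b b (lin a)
            map_one' := by
              rw [show lin 1 = LinearMap.id from LinearMap.ext fun w => rfl]
              exact LinearMap.toMatrix_id b
            map_mul' := fun a c => by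
              rw [← LinearMap.toMatrix_comp]
              rfl }, fun a h => ?_⟩
  have h2 : lin a = LinearMap.id := (LinearMap.toMatrix b b).injective
    (h.trans (LinearMap.toMatrix_id b).symm)
  ext x
  exact congrArg Additive.toMul (LinearMap.congr_fun h2 (Additive.ofMul x))

/-- Let p be an odd prime and P a finite p-group in which every normal abelian subgroup can be generated by k elements. Then every subgroup of P can be generated by at most ⌊k(k+4)/4⌋ elements. -/
theorem result {P : Type*} [Group P] [Finite P] {p : ℕ} [Fact p.Prime]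
    (hp : p ≠ 2) (hP : IsPGroup p P) (k : ℕ)
    (hab : ∀ A : Subgroup P, A.Normal → IsMulCommutative A → ∃ S : Finset P, S.card ≤ k ∧ Subgroup.closure (S : Set P) = A) :
    ∀ H : Subgroup P, ∃ S : Finset P, S.card ≤ k * (k + 4) / 4 ∧ Subgroup.closure (S : Set P) = H := by
  classical
  obtain ⟨E, ⟨hEn, hEe⟩, hmax⟩ := Set.Finite.exists_maximal
    (Set.toFinite {E : Subgroup P | E.Normal ∧ Cfsg.IsElementaryAbelian p E})
    ⟨⊥, inferInstance, inferInstance, fun a ha => by rw [mem_bot.mp ha, one_pow]⟩
  have hΩ : ∀ x ∈ centralizer (E : Set P), x ^ p = 1 → x ∈ E := fun x hx hxp =>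
    OddLocal.mem_of_maximal_normal_elementary hP hp hEe
      (fun B hB hBe hle => le_antisymm (hmax ⟨hB, hBe⟩ hle) hle) hx hxp
  obtain ⟨S₀, hS₀, hS₀cl⟩ := hab E hEn hEe.1
  obtain ⟨r, hr⟩ := IsPGroup.iff_card.mp (hP.to_subgroup E)
  have hrk : r ≤ k := by
    have h := PGenBound.card_closure_le hEe.1 hEe.2 S₀ hS₀cl
    rw [hr] at h
    exact ((Nat.pow_le_pow_iff_right (Fact.out : p.Prime).one_lt).mp h).trans hS₀
  -- the action on `E` as matrices
  haveI := hEn
  haveI := hEe.1
  letI : CommGroup E := { (inferInstance : Group E) with mul_comm := IsMulCommutative.is_comm.comm }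
  obtain ⟨M, hM⟩ := exists_toMatrix (V := E) (p := p) (fun x => Subtype.ext (by simpa using hEe.2 x x.2)) hr
  let toM : P →* Matrix (Fin r) (Fin r) (ZMod p) := M.comp MulAut.conjNormal
  have hdet : ∀ g, (toM g).det = 1 := by
    intro g
    obtain ⟨j, hj⟩ := hP g
    have h1 : (toM g).det ^ p ^ j = 1 := by rw [← Matrix.det_pow, ← map_pow, hj, map_one, Matrix.det_one]
    rwa [ZMod.pow_card_pow] at h1
  let toS : P →* Matrix.SpecialLinearGroup (Fin r) (ZMod p) :=
    { toFun := fun g => ⟨toM g, hdet g⟩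
      map_one' := Subtype.ext (map_one toM)
      map_mul' := fun g h => Subtype.ext (map_mul toM g h) }
  obtain ⟨T, hT⟩ := UniTri.exists_sylow (n := r) (K := ZMod p) p
  obtain ⟨T', hT'⟩ := ((hP.to_subgroup ⊤).map toS : IsPGroup p ((⊤ : Subgroup P).map toS)).exists_le_sylow
  obtain ⟨c, hc⟩ := MulAction.exists_smul_eq (Matrix.SpecialLinearGroup (Fin r) (ZMod p)) T' T
  let φ : P →* Matrix.SpecialLinearGroup (Fin r) (ZMod p) := (MulAut.conj c).toMonoidHom.comp toS
  have hφU : ∀ g, φ g ∈ UniTri.unitri r (ZMod p) := by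
    intro g
    rw [← hT, ← hc, Sylow.coe_subgroup_smul]
    exact mem_map_of_mem _ (hT' (mem_map_of_mem toS (mem_top g)))
  have hker : φ.ker ≤ centralizer (E : Set P) := by
    intro g hg
    have h1 : toS g = 1 := (MulAut.conj c).injective (hg.trans (map_one _).symm)
    have h2 : (MulAut.conjNormal g : MulAut E) = 1 := hM _ (congrArg Subtype.val h1)
    rw [mem_centralizer_iff]
    intro e he
    have h3 : (MulAut.conjNormal g : MulAut E) ⟨e, he⟩ = ⟨e, he⟩ := DFunLike.congr_fun h2 _
    have h4 := congrArg Subtype.val h3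
    rw [MulAut.conjNormal_apply] at h4
    exact (mul_inv_eq_iff_eq_mul.mp h4).symm
  intro H
  -- generators of the image
  obtain ⟨S₁, hS₁, hS₁cl⟩ := PGenBound.gens_unitri (U := (φ.comp H.subtype).range)
    (fun _ ⟨g, hg⟩ => hg ▸ hφU g)
  -- generators of the kernel
  have hkC : ∀ a : (φ.comp H.subtype).ker, ((a : H) : P) ∈ centralizer (E : Set P) := fun a => hker a.2
  have hcen : ∀ z : (φ.comp H.subtype).ker, z ^ p = 1 → z ∈ center (φ.comp H.subtype).ker := by
    intro z hz
    have hzE : ((z : H) : P) ∈ E := hΩ _ (hkC z) (by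
      simpa using congrArg (fun t : (φ.comp H.subtype).ker => ((t : H) : P)) hz)
    exact mem_center_iff.mpr fun w => Subtype.ext (Subtype.ext (mem_centralizer_iff.mp (hkC w) _ hzE).symm)
  have hcount : Nat.card {z : (φ.comp H.subtype).ker // z ^ p = 1} ≤ p ^ r := hr ▸
    Nat.card_le_card_of_injective (fun z => (⟨((z.1 : H) : P), hΩ _ (hkC z.1) (by
      simpa using congrArg (fun t : (φ.comp H.subtype).ker => ((t : H) : P)) z.2)⟩ : E))
      fun z w hzw => Subtype.ext (Subtype.ext (Subtype.ext
        (congrArg (fun t : E => (t : P)) hzw :)))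
  obtain ⟨S₂, hS₂, hS₂cl⟩ := PGenBound.gens_of_pCentral hp
    ((hP.to_subgroup H).to_subgroup _) hcen hcount
  obtain ⟨S, hS, hScl⟩ := PGenBound.gens_of_hom (φ.comp H.subtype) ⟨S₁, le_rfl, hS₁cl⟩ ⟨S₂, hS₂, hS₂cl⟩
  refine ⟨S.image H.subtype, Finset.card_image_le.trans (hS.trans ?_), ?_⟩
  · rw [Nat.le_div_iff_mul_le (by norm_num)]
    have h1 : r ^ 2 ≤ k ^ 2 := Nat.pow_le_pow_left hrk 2
    have h2 : k * (k + 4) = k ^ 2 + 4 * k := by ring
    omega
  · rw [Finset.coe_image, ← MonoidHom.map_closure, hScl, ← MonoidHom.range_eq_map, range_subtype]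

end Cfsg.Agent.S4057
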