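import Cfsg.Statements.S4058
import Cfsg.Agent.Char.FS
import Cfsg.Agent.Core.Frattini
-- import your own Cfsg.Agent.* helpers here

set_option autoImplicit false
open Cfsg

namespace Cfsg.Agent.S4058

/-- Let G be a finite 2-group with #(G/Φ(G)) ≥ 2^(2k+1). Then the number of elements x of G with x² = 1 is divisible by 2^(k+1). -/
theorem result {G : Type*} [Group G] [Finite G] (hG : IsPGroup 2 G) (k : ℕ)
    (hgen : 2 ^ (2 * k + 1) ≤ Nat.card (G ⧸ frattini G)) :
    2 ^ (k + 1) ∣ Nat.card {x : G // x ^ 2 = 1} := by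
  classical
  have := Fintype.ofFinite G
  have : Fact (Nat.Prime 2) := ⟨Nat.prime_two⟩
  -- the real linear characters
  let L : Subgroup (G →* ℂˣ) :=
    { carrier := {f | f ^ 2 = 1}
      one_mem' := one_pow 2
      mul_mem' := fun {a b} (ha : a ^ 2 = 1) (hb : b ^ 2 = 1) => by
        ext g
        have h1 := DFunLike.congr_fun ha g
        have h2 := DFunLike.congr_fun hb g
        simp only [MonoidHom.pow_apply, MonoidHom.mul_apply, MonoidHom.one_apply] at h1 h2 ⊢
        rw [mul_pow, h1, h2, one_mul]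
      inv_mem' := fun {a} (ha : a ^ 2 = 1) => by
        ext g
        have h1 := DFunLike.congr_fun ha g
        simp only [MonoidHom.pow_apply, MonoidHom.inv_apply, MonoidHom.one_apply] at h1 ⊢
        rw [inv_pow, h1, inv_one] }
  have hLirr : Function.Injective fun f : L => (⟨fun g => ((f : G →* ℂˣ) g : ℂ),
      Char.isIrrCharacter_hom _⟩ : Cfsg.IrrCharacter G) := fun a b h => Subtype.ext
    (MonoidHom.ext fun g => Units.ext (congrFun (congrArg Subtype.val h) g))
  have : Finite L := Finite.of_injective _ hLirr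
  have := Fintype.ofFinite L
  have hL2 : IsPGroup 2 L := fun f => ⟨1, Subtype.ext f.2⟩
  obtain ⟨d, hd⟩ := hL2.exists_card_eq
  have hd' : 2 * k + 1 ≤ d := by
    refine (Nat.pow_le_pow_iff_right one_lt_two).1 (hgen.trans (hd ▸ ?_))
    have hcomm : ∀ a b : G ⧸ frattini G, a * b = b * a := fun a b => by
      obtain ⟨a, rfl⟩ := QuotientGroup.mk_surjective a
      obtain ⟨b, rfl⟩ := QuotientGroup.mk_surjective b
      have : Group.IsNilpotent G := hG.isNilpotent
      rw [← QuotientGroup.mk_mul, ← QuotientGroup.mk_mul, QuotientGroup.eq]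
      refine Core.commutator_le_frattini ?_
      rw [commutator_eq_closure]
      exact Subgroup.subset_closure ⟨b⁻¹, a⁻¹, by simp [commutatorElement_def, mul_assoc]⟩
    rw [← Char.card_conjClasses_eq_card_iff.2 hcomm, ← Char.card_irrCharacter]
    have hf : ∀ χ : Cfsg.IrrCharacter (G ⧸ frattini G), ∃ f : L,
        ∀ g : G, (χ : G ⧸ frattini G → ℂ) (QuotientGroup.mk g) = ((f : G →* ℂˣ) g : ℂ) := by
      intro χ
      obtain ⟨f, hf⟩ := Char.IsChar.exists_hom (Char.IsIrr.isCharacter χ.2)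
        (Char.IsIrr.degree_one_of_comm χ.2 hcomm)
      refine ⟨⟨f.comp (QuotientGroup.mk' (frattini G)), MonoidHom.ext fun g => ?_⟩,
        fun g => congrFun hf _⟩
      show (f (QuotientGroup.mk g)) ^ 2 = 1
      rw [← map_pow, ← QuotientGroup.mk_pow,
        (QuotientGroup.eq_one_iff _).2 (Core.pow_mem_frattini hG g), map_one]
    choose F hF using hf
    refine Nat.card_le_card_of_injective F fun χ ψ h => Subtype.ext (funext fun q => ?_)
    obtain ⟨g, rfl⟩ := QuotientGroup.mk_surjective q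
    rw [hF, hF, h]
  -- the action on irreducible characters
  have hirr : ∀ (f : L) (χ : Cfsg.IrrCharacter G),
      Cfsg.IsIrrCharacter G (fun g => ((f : G →* ℂˣ) g : ℂ) * (χ : G → ℂ) g) := by
    intro f χ
    show Cfsg.IsIrrCharacter G ((fun g => ((f : G →* ℂˣ) g : ℂ)) * (χ : G → ℂ))
    rw [Char.isIrr_iff_norm_one (Char.isCharacter_mul (Char.isCharacter_hom _)
      (Char.IsIrr.isCharacter χ.2))]
    refine Eq.trans ?_ (Char.classInner_irr_self χ.2)
    simp only [Cfsg.classInner, Pi.mul_apply, map_mul]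
    congr 1
    refine Finset.sum_congr rfl fun g _ => ?_
    have h2 : ((f : G →* ℂˣ) g : ℂ) ^ 2 = 1 := by
      rw [← Units.val_pow_eq_pow_val, ← MonoidHom.pow_apply, show (f : G →* ℂˣ) ^ 2 = 1 from f.2]
      rfl
    have h3 : (starRingEnd ℂ) ((f : G →* ℂˣ) g : ℂ) = ((f : G →* ℂˣ) g : ℂ) := by
      rcases sq_eq_one_iff.1 h2 with h | h <;> simp [h]
    rw [h3]
    linear_combination ((χ : G → ℂ) g * (starRingEnd ℂ) ((χ : G → ℂ) g)) * h2
  letI : MulAction L (Cfsg.IrrCharacter G) :=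
    { smul := fun f χ => ⟨_, hirr f χ⟩
      one_smul := fun χ => Subtype.ext (funext fun g => by
        show ((1 : G →* ℂˣ) g : ℂ) * (χ : G → ℂ) g = _
        simp)
      mul_smul := fun a b χ => Subtype.ext (funext fun g => by
        show (((a : G →* ℂˣ) * (b : G →* ℂˣ)) g : ℂ) * (χ : G → ℂ) g = ((a : G →* ℂˣ) g : ℂ) * (((b : G →* ℂˣ) g : ℂ) * (χ : G → ℂ) g)
        simp [mul_assoc]) }
  have hsmul : ∀ (f : L) (χ : Cfsg.IrrCharacter G) (g : G),
      ((f • χ : Cfsg.IrrCharacter G) : G → ℂ) g = ((f : G →* ℂˣ) g : ℂ) * (χ : G → ℂ) g :=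
    fun _ _ _ => rfl
  have hν : ∀ χ : Cfsg.IrrCharacter G, ∃ z : ℤ, Char.fsInd (χ : G → ℂ) = z := fun χ => by
    rcases Char.fsInd_irr χ with ⟨h, -⟩ | ⟨h | h, -⟩
    · exact ⟨0, by simp [h]⟩
    · exact ⟨1, by simp [h]⟩
    · exact ⟨-1, by simp [h]⟩
  choose ν hν using hν
  choose dg hdg using fun χ : Cfsg.IrrCharacter G => Char.IsIrr.degree χ.2
  have hdg' : ∀ χ : Cfsg.IrrCharacter G, (χ : G → ℂ) 1 = (dg χ : ℂ) := fun χ => (hdg χ).2
  have hcount : (Nat.card {x : G // x ^ 2 = 1} : ℤ) = ∑ χ, ν χ * dg χ := by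
    have h := Char.card_sqrt_eq_sum (1 : G)
    simp only [hν, hdg'] at h
    simp only [sq]
    exact_mod_cast h
  have hinv : ∀ (f : L) χ, ν (f • χ) * dg (f • χ) = ν χ * dg χ := by
    intro f χ
    have h1 : dg (f • χ) = dg χ := by
      have : ((dg (f • χ) : ℕ) : ℂ) = dg χ := by rw [← hdg', hsmul, ← hdg']; simp
      exact_mod_cast this
    have h2 : ν (f • χ) = ν χ := by
      have : ((ν (f • χ) : ℤ) : ℂ) = ν χ := by
        rw [← hν, ← hν]
        simp only [Char.fsInd]
        congr 1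
        refine Finset.sum_congr rfl fun s _ => ?_
        rw [hsmul, map_mul]
        have : ((f : G →* ℂˣ) s) * ((f : G →* ℂˣ) s) = 1 := by
          rw [← sq, ← MonoidHom.pow_apply, show (f : G →* ℂˣ) ^ 2 = 1 from f.2]; rfl
        rw [this]; simp
      exact_mod_cast this
    rw [h1, h2]
  suffices hdvd : ((2 : ℤ) ^ (k + 1)) ∣ (Nat.card {x : G // x ^ 2 = 1} : ℤ) by
    exact_mod_cast hdvd
  rw [hcount, ← Finset.sum_fiberwise Finset.univ (fun χ : Cfsg.IrrCharacter G =>
    (Quotient.mk (MulAction.orbitRel L (Cfsg.IrrCharacter G)) χ))]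
  refine Finset.dvd_sum fun q _ => ?_
  induction q using Quotient.inductionOn with
  | h χ =>
    have hfil : ∀ ψ, ψ ∈ Finset.univ.filter (fun ψ : Cfsg.IrrCharacter G =>
        (Quotient.mk (MulAction.orbitRel L (Cfsg.IrrCharacter G)) ψ) = Quotient.mk _ χ) ↔
        ψ ∈ MulAction.orbit L χ := fun ψ => by
      rw [Finset.mem_filter, Quotient.eq]
      simp [MulAction.orbitRel_apply]
    have hall : ∀ ψ ∈ Finset.univ.filter (fun ψ : Cfsg.IrrCharacter G =>
        (Quotient.mk (MulAction.orbitRel L (Cfsg.IrrCharacter G)) ψ) = Quotient.mk _ χ),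
        ν ψ * (dg ψ : ℤ) = ν χ * dg χ := by
      intro ψ hψ
      obtain ⟨f, rfl⟩ := (hfil ψ).1 hψ
      exact hinv f χ
    rw [Finset.sum_congr rfl hall, Finset.sum_const, nsmul_eq_mul, ← mul_assoc,
      mul_comm ((_ : ℕ) : ℤ) (ν χ), mul_assoc]
    refine Dvd.dvd.mul_left ?_ _
    rw [← Nat.cast_mul, show ((2 : ℤ) ^ (k + 1)) = ((2 ^ (k + 1) : ℕ) : ℤ) by push_cast; rfl]
    refine Int.natCast_dvd_natCast.2 ?_
    have horb : (Finset.univ.filter (fun ψ : Cfsg.IrrCharacter G =>
        (Quotient.mk (MulAction.orbitRel L (Cfsg.IrrCharacter G)) ψ) = Quotient.mk _ χ)).card =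
        (MulAction.stabilizer L χ).index := by
      rw [MulAction.index_stabilizer, Set.ncard_eq_toFinset_card']
      congr 1
      ext ψ
      rw [hfil, Set.mem_toFinset]
    rw [horb]
    obtain ⟨s, hs⟩ := (hL2.to_subgroup (MulAction.stabilizer L χ)).exists_card_eq
    obtain ⟨a, ha⟩ : ∃ a, dg χ = 2 ^ a := by
      obtain ⟨n, hn⟩ := hG.exists_card_eq
      obtain ⟨a, -, ha⟩ := (Nat.dvd_prime_pow Nat.prime_two).1
        (hn ▸ Char.IsIrr.degree_dvd_card χ.2 (hdg' χ))
      exact ⟨a, ha⟩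
    have hsd : s ≤ d := (Nat.pow_le_pow_iff_right one_lt_two).1
      (hs ▸ hd ▸ Subgroup.card_le_card_group _)
    have hidx : (MulAction.stabilizer L χ).index = 2 ^ (d - s) := by
      have h := Subgroup.card_mul_index (MulAction.stabilizer L χ)
      rw [hs, hd] at h
      refine Nat.eq_of_mul_eq_mul_left (pow_pos two_pos s) ?_
      rw [h, ← pow_add, Nat.add_sub_cancel' hsd]
    have hstab : 2 ^ s ≤ (2 ^ a) * (2 ^ a) := by
      have hpp := Char.isCharacter_mul (Char.IsIrr.isCharacter χ.2)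
        (Char.isCharacter_conj (Char.IsIrr.isCharacter χ.2))
      obtain ⟨m, hm, he, -⟩ := Char.IsChar.exists_mult hpp
      have h1 := congrFun he 1
      simp only [Pi.mul_apply, Finset.sum_apply, Pi.smul_apply, smul_eq_mul, hdg',
        Complex.conj_natCast] at h1
      have h2 : dg χ * dg χ = ∑ ψ, m ψ * dg ψ := by exact_mod_cast h1
      rw [← ha, h2, ← hs, Nat.card_eq_fintype_card]
      let emb : MulAction.stabilizer L χ → Cfsg.IrrCharacter G := fun f =>
        ⟨fun g => (((f : L) : G →* ℂˣ) g : ℂ), Char.isIrrCharacter_hom _⟩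
      have hemb : Function.Injective emb := fun x y h => Subtype.ext (hLirr h)
      rw [← Finset.card_univ, ← Finset.card_image_of_injective _ hemb, Finset.card_eq_sum_ones]
      refine (Finset.sum_le_sum fun ψ hψ => ?_).trans
        (Finset.sum_le_sum_of_subset (Finset.subset_univ _))
      obtain ⟨f, -, rfl⟩ := Finset.mem_image.1 hψ
      refine Nat.one_le_iff_ne_zero.2 (Nat.mul_ne_zero ?_ (hdg _).1.ne')
      intro h0
      have h3 := hm (emb f)
      rw [h0, Nat.cast_zero] at h3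
      have h4 : Cfsg.classInner ((χ : G → ℂ) * fun g => (starRingEnd ℂ) ((χ : G → ℂ) g))
          (emb f : G → ℂ) = Cfsg.classInner (χ : G → ℂ) (((f : L) • χ : Cfsg.IrrCharacter G) : G → ℂ) := by
        simp only [Cfsg.classInner, Pi.mul_apply]
        congr 1
        refine Finset.sum_congr rfl fun g _ => ?_
        rw [hsmul, map_mul]
        ring
      rw [h4, show (f : L) • χ = χ from f.2, Char.classInner_irr_self χ.2] at h3
      exact one_ne_zero h3
    rw [← pow_add] at hstab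
    have hsa := (Nat.pow_le_pow_iff_right one_lt_two).1 hstab
    rw [hidx, ha, ← pow_add]
    exact pow_dvd_pow 2 (by omega)

end Cfsg.Agent.S4058
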