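import Cfsg.Statements.S4059
import Cfsg.Agent.FGS.Ambivalent

set_option autoImplicit false
open Cfsg
open scoped commutatorElement

namespace Cfsg.Agent.S4059

/-- Let G be a finite group in which every element is conjugate to its inverse. Then: every non-identity element commuting with all elements of some Sylow 2-subgroup is an involution; the centre of G is an elementary abelian 2-group; the commutator quotient G/G' is an elementary abelian 2-group; and G is generated by its 2-elements. -/
theorem result {G : Type*} [Group G] [Finite G] (hamb : ∀ x : G, IsConj x x⁻¹) :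
    (∀ (S : Sylow 2 G) (x : G), x ∈ Subgroup.centralizer ((S : Subgroup G) : Set G) → x ≠ 1 → orderOf x = 2) ∧
    (∀ z : G, z ∈ Subgroup.center G → z ^ 2 = 1) ∧
    (∀ x : G, x ^ 2 ∈ commutator G) ∧
    Subgroup.closure {x : G | ∃ k : ℕ, orderOf x = 2 ^ k} = ⊤ := by
  refine ⟨fun S x hx hx1 => ?_, fun z hz => ?_, fun x => ?_, ?_⟩
  · exact orderOf_eq_prime (FGS.sq_eq_one_of_isConj_inv S hx (hamb x)) hx1
  · obtain ⟨g, hg⟩ := isConj_iff.1 (hamb z)
    exact FGS.sq_eq_one_of_inv_of_odd_pow hg (m := 1) odd_one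
      (by rw [pow_one]; exact (Subgroup.mem_center_iff.1 hz g : g * z = z * g))
  · obtain ⟨g, hg⟩ := isConj_iff.1 (hamb x)
    have h : ⁅x, g⁆ = x ^ 2 := by
      rw [commutatorElement_def]
      calc x * g * x⁻¹ * g⁻¹ = x * (g * x * g⁻¹)⁻¹ := by group
        _ = x ^ 2 := by rw [hg, inv_inv, pow_two]
    rw [← h]
    exact Subgroup.commutator_mem_commutator (Subgroup.mem_top x) (Subgroup.mem_top g)
  · set T := Subgroup.closure {x : G | ∃ k : ℕ, orderOf x = 2 ^ k} with hT
    haveI : T.Normal := by
      refine ⟨fun n hn g => ?_⟩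
      induction hn using Subgroup.closure_induction with
      | mem y hy =>
        refine Subgroup.subset_closure ?_
        obtain ⟨k, hk⟩ := hy
        exact ⟨k, by rw [← MulAut.conj_apply, MulEquiv.orderOf_eq, hk]⟩
      | one => simp
      | mul a b _ _ ha hb =>
        have : g * (a * b) * g⁻¹ = g * a * g⁻¹ * (g * b * g⁻¹) := by group
        rw [this]; exact T.mul_mem ha hb
      | inv a _ ha =>
        have : g * a⁻¹ * g⁻¹ = (g * a * g⁻¹)⁻¹ := by group
        rw [this]; exact T.inv_mem ha
    have hodd : Odd T.index := by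
      obtain ⟨S⟩ : Nonempty (Sylow 2 G) := inferInstance
      have hST : (S : Subgroup G) ≤ T := fun s hs => Subgroup.subset_closure (by
        obtain ⟨k, hk⟩ := IsPGroup.iff_orderOf.1 S.2 ⟨s, hs⟩
        exact ⟨k, by rwa [← Subgroup.orderOf_coe] at hk⟩)
      exact Odd.of_dvd_nat (by rw [← Nat.not_even_iff_odd, even_iff_two_dvd]; exact S.not_dvd_index)
        (Subgroup.index_dvd_of_le hST)
    refine eq_top_iff.2 fun x _ => ?_
    have hcard : Nat.card (G ⧸ T) = T.index := rfl
    obtain ⟨g, hg⟩ := isConj_iff.1 (hamb x)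
    have hg' : (g : G ⧸ T) * x * (g : G ⧸ T)⁻¹ = (x : G ⧸ T)⁻¹ := by
      rw [← QuotientGroup.mk_inv T g, ← QuotientGroup.mk_mul, ← QuotientGroup.mk_mul, hg]; rfl
    have h2 := FGS.sq_eq_one_of_inv_of_odd_pow hg' hodd
      (by rw [← hcard, pow_card_eq_one']; exact Commute.one_left _)
    have h1 : (x : G ⧸ T) = 1 := by
      obtain ⟨k, hk⟩ := hodd
      have := pow_card_eq_one' (x := (x : G ⧸ T))
      rw [hcard, hk, pow_succ, pow_mul, h2, one_pow, one_mul] at this
      exact this
    exact (QuotientGroup.eq_one_iff x).1 h1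

end Cfsg.Agent.S4059
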