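import Cfsg.Statements.S4060
import Cfsg.Agent.FGS.Ambivalent
import Cfsg.Agent.Coprime.SchurZassenhaus

set_option autoImplicit false
open Cfsg
universe u

namespace Cfsg.Agent.S4060

/-- The induction behind `result`, on the order of the group. -/
theorem eq_one_aux : ∀ (n : ℕ) (G : Type u) [Group G] [Finite G] [Group.IsSolvable G],
    Nat.card G ≤ n → ∀ (S : Sylow 2 G) (x : G), Odd (orderOf x) →
      x ∈ Subgroup.normalizer ((S : Subgroup G) : Set G) → IsConj x x⁻¹ → x = 1 := by
  intro n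
  induction n with
  | zero => intro G _ _ _ h; exact absurd h (Nat.card_pos.ne' ∘ Nat.le_zero.1)
  | succ n ih =>
    intro G _ _ _ hn S x hodd hnorm hconj
    rcases subsingleton_or_nontrivial G with h | h
    · exact Subsingleton.elim _ _
    obtain ⟨N, hNn, hN1, ⟨q, hq, hNq⟩⟩ : ∃ N : Subgroup G, N.Normal ∧ N ≠ ⊥ ∧
        ∃ q : ℕ, q.Prime ∧ IsPGroup q N := by
      obtain ⟨q, hq, N, hNn, hNq, hN1⟩ := Coprime.exists_normal_isPGroup (G := G)
      exact ⟨N, hNn, hN1, q, hq, hNq⟩
    haveI := Fact.mk hq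
    let f := QuotientGroup.mk' N
    have hxN : x ∈ N := by
      have hlt : Nat.card (G ⧸ N) < Nat.card G := by
        rw [Subgroup.card_eq_card_quotient_mul_card_subgroup N]
        exact lt_mul_of_one_lt_right Nat.card_pos (Finite.one_lt_card_iff_nontrivial.2
          ((Subgroup.nontrivial_iff_ne_bot N).2 hN1))
      haveI : Group.IsSolvable (G ⧸ N) :=
        Group.isSolvable_of_surjective (QuotientGroup.mk'_surjective N)
      refine (QuotientGroup.eq_one_iff x).1 ?_
      refine ih (G ⧸ N) (by omega) (S.mapSurjective (QuotientGroup.mk'_surjective N)) (f x)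
        (hodd.of_dvd_nat (orderOf_map_dvd f x)) ?_ ?_
      · rw [Sylow.coe_mapSurjective]
        exact Subgroup.le_normalizer_map f ⟨x, hnorm, rfl⟩
      · have := MonoidHom.map_isConj f hconj
        rwa [map_inv] at this
    have h2 : x ^ 2 = 1 → x = 1 := fun h2 => by
      have hd : orderOf x ∣ Nat.gcd (orderOf x) 2 :=
        Nat.dvd_gcd dvd_rfl (orderOf_dvd_iff_pow_eq_one.2 h2)
      rw [Nat.coprime_iff_gcd_eq_one.1 ((Nat.coprime_two_right).2 hodd)] at hd
      exact orderOf_eq_one_iff.1 (Nat.dvd_one.1 hd)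
    by_cases hq2 : q = 2
    · subst hq2
      obtain ⟨k, hk⟩ := IsPGroup.iff_orderOf.1 hNq ⟨x, hxN⟩
      rw [← Subgroup.orderOf_coe] at hk
      rcases k with - | k
      · exact orderOf_eq_one_iff.1 (by simpa using hk)
      · exact absurd (hk ▸ dvd_pow_self 2 k.succ_ne_zero)
          (fun hd => (Nat.not_even_iff_odd.2 hodd) (even_iff_two_dvd.2 hd))
    · refine h2 (FGS.sq_eq_one_of_isConj_inv S (Subgroup.mem_centralizer_iff.2 fun s hs => ?_) hconj)
      have hcS : s * x * s⁻¹ * x⁻¹ ∈ (S : Subgroup G) := by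
        have := (Subgroup.mem_normalizer_iff.1 hnorm s⁻¹).1 (inv_mem hs)
        have e : s * x * s⁻¹ * x⁻¹ = s * (x * s⁻¹ * x⁻¹) := by group
        rw [e]; exact mul_mem hs this
      have hcN : s * x * s⁻¹ * x⁻¹ ∈ N := mul_mem (hNn.conj_mem x hxN s) (inv_mem hxN)
      have hdisj : (S : Subgroup G) ⊓ N = ⊥ :=
        IsPGroup.disjoint_of_ne (G := G) 2 q (fun e => hq2 e.symm) _ _ S.2 hNq |>.eq_bot
      have h1 : s * x * s⁻¹ * x⁻¹ = 1 :=
        Subgroup.mem_bot.1 (hdisj ▸ Subgroup.mem_inf.2 ⟨hcS, hcN⟩)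
      calc s * x = (s * x * s⁻¹ * x⁻¹) * (x * s) := by group
        _ = x * s := by rw [h1, one_mul]

/-- Let G be a finite solvable group with Sylow 2-subgroup S, and let x ≠ 1 be an element of odd order normalizing S. Then x is not conjugate to its inverse in G. -/
theorem result {G : Type*} [Group G] [Finite G] [Group.IsSolvable G]
    (S : Sylow 2 G) (x : G) (hx : x ≠ 1) (hodd : Odd (orderOf x))
    (hnorm : x ∈ Subgroup.normalizer ((S : Subgroup G) : Set G)) : ¬ IsConj x x⁻¹ := by
  exact fun hc => hx (eq_one_aux (Nat.card G) G le_rfl S x hodd hnorm hc)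

end Cfsg.Agent.S4060
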