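import Cfsg.Statements.S4061
import Cfsg.Agent.Core.PCore
import Cfsg.Agent.Coprime.SchurZassenhaus
import Cfsg.Agent.Fusion.UniqueInvolution
import Mathlib

set_option autoImplicit false
open Cfsg

namespace Cfsg.Agent.S4061

open Subgroup

universe u

variable {G : Type u} [Group G] [Finite G]

omit [Finite G] in
theorem eq_one_of_real_odd {x g : G} (hx : Odd (orderOf x)) (hg : Odd (orderOf g))
    (h : g * x * g⁻¹ = x⁻¹) : x = 1 := by
  have h2 : Commute (g ^ 2) x := by
    have hc : g * (g * x * g⁻¹) * g⁻¹ = x := by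
      calc g * (g * x * g⁻¹) * g⁻¹ = g * x⁻¹ * g⁻¹ := by rw [h]
        _ = (g * x * g⁻¹)⁻¹ := by group
        _ = x := by rw [h, inv_inv]
    show g ^ 2 * x = x * g ^ 2
    calc g ^ 2 * x = g * (g * x * g⁻¹) * g⁻¹ * g ^ 2 := by rw [sq]; group
      _ = x * g ^ 2 := by rw [hc]
  obtain ⟨m, hm⟩ := exists_pow_eq_self_of_coprime (Nat.coprime_two_left.2 hg)
  have hc : Commute g x := by
    have := h2.pow_left m
    rwa [hm] at this
  have hx2 : x ^ 2 = 1 := by
    rw [hc.eq, mul_inv_cancel_right] at h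
    rw [sq]; nth_rw 2 [h]; exact mul_inv_cancel x
  have := orderOf_dvd_of_pow_eq_one hx2
  rcases (Nat.dvd_prime Nat.prime_two).1 this with h1 | h1
  · exact orderOf_eq_one_iff.1 h1
  · rw [h1] at hx; exact absurd hx (by decide)

omit [Finite G] in
/-- The elements killed by `m` in an abelian normal subgroup form a normal subgroup. -/
theorem exists_torsion_normal (A : Subgroup G) [hAn : A.Normal] (hA : IsMulCommutative A) (m : ℕ) :
    ∃ N : Subgroup G, N.Normal ∧ IsMulCommutative N ∧ ∀ x, x ∈ N ↔ x ∈ A ∧ x ^ m = 1 := by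
  have hcomm : ∀ a ∈ A, ∀ b ∈ A, Commute a b := fun a ha b hb =>
    congrArg Subtype.val (hA.is_comm.comm (⟨a, ha⟩ : A) ⟨b, hb⟩)
  let N : Subgroup G :=
    { carrier := {x | x ∈ A ∧ x ^ m = 1}
      one_mem' := ⟨one_mem _, one_pow _⟩
      mul_mem' := fun {a b} ha hb => ⟨mul_mem ha.1 hb.1, by
        rw [(hcomm a ha.1 b hb.1).mul_pow, ha.2, hb.2, one_mul]⟩
      inv_mem' := fun {a} ha => ⟨inv_mem ha.1, by rw [inv_pow, ha.2, inv_one]⟩ }
  refine ⟨N, ⟨fun a ha g => ⟨hAn.conj_mem a ha.1 g, by rw [conj_pow, ha.2, mul_one, mul_inv_cancel]⟩⟩,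
    ⟨⟨fun a b => Subtype.ext (hcomm a a.2.1 b b.2.1).eq⟩⟩, fun x => Iff.rfl⟩

/-- In a solvable group without odd core, with one class of involutions and all elements real,
there is only one involution. -/
theorem unique_involution [Group.IsSolvable G] (hO : Cfsg.pPrimeCore 2 G = ⊥)
    (hamb : ∀ x : G, IsConj x x⁻¹)
    (hone : ∀ s t : G, orderOf s = 2 → orderOf t = 2 → IsConj s t)
    (s t : G) (hs : orderOf s = 2) (ht : orderOf t = 2) : s = t := by
  by_contra hst
  have h2 := Fact.mk Nat.prime_two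
  have htop : (⊤ : Subgroup G) ≠ ⊥ := by
    intro h
    have : s ∈ (⊥ : Subgroup G) := h ▸ mem_top s
    rw [mem_bot] at this
    rw [this, orderOf_one] at hs
    norm_num at hs
  obtain ⟨A, hAn, hAc, -, hA⟩ :=
    Cfsg.Agent.Coprime.exists_minimal_normal_abelian (⊤ : Subgroup G) htop
      (Group.isSolvable_of_surjective (f := (Subgroup.topEquiv (G := G)).symm.toMonoidHom)
        (MulEquiv.surjective _))
  obtain ⟨N, hNn, hNc, hN⟩ := exists_torsion_normal A hAc 2
  have hall : ∀ x : G, x ∈ N ↔ x ^ 2 = 1 := by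
    intro x
    refine ⟨fun hx => ((hN x).1 hx).2, fun hx => ?_⟩
    rcases eq_or_ne x 1 with rfl | hx1
    · exact one_mem _
    obtain ⟨z, hz⟩ : ∃ z : A, orderOf z = 2 := by
      refine exists_prime_orderOf_dvd_card' 2 ?_
      by_contra hodd
      exact hA (le_bot_iff.1 (hO ▸ Cfsg.Agent.Core.le_pPrimeCore
        ((Nat.prime_two.coprime_iff_not_dvd.2 hodd).symm)))
    rw [← Subgroup.orderOf_coe] at hz
    obtain ⟨c, hc⟩ := isConj_iff.1 (hone z x hz (orderOf_eq_prime hx hx1))
    rw [← hc]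
    exact hNn.conj_mem _ ((hN _).2 ⟨z.2, by rw [← hz]; exact pow_orderOf_eq_one _⟩) c
  let φ : G →* MulAut N := MulAut.conjNormal
  have hφ : ∀ (g : G) (y : N), ((φ g y : N) : G) = g * y * g⁻¹ := fun g y => MulAut.conjNormal_apply g y
  -- a nontrivial normal subgroup of the image has no fixed points
  have hfix : ∀ P : Subgroup φ.range, P.Normal → ∀ y : N, y ≠ 1 →
      (∀ m ∈ P, (m : MulAut N) y = y) → P = ⊥ := by
    intro P hP y hy hfy
    refine le_bot_iff.1 fun m hm => mem_bot.2 (Subtype.ext (MulEquiv.ext fun w => ?_))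
    show (m : MulAut N) w = w
    rcases eq_or_ne w 1 with rfl | hw
    · exact map_one _
    have ho : ∀ a : N, a ≠ 1 → orderOf (a : G) = 2 := fun a ha =>
      orderOf_eq_prime ((hall _).1 a.2) fun e => ha (Subtype.ext e)
    obtain ⟨g, hg⟩ := isConj_iff.1 (hone y w (ho y hy) (ho w hw))
    have hwy : φ g y = w := Subtype.ext (by rw [hφ]; exact hg)
    set γ : φ.range := ⟨φ g, g, rfl⟩
    have hm' := hfy _ (hP.conj_mem' m hm γ)
    rw [← hwy]
    have h1 : ((γ⁻¹ * m * γ : φ.range) : MulAut N) = (φ g)⁻¹ * (m : MulAut N) * φ g := rfl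
    rw [h1, MulAut.mul_apply, MulAut.mul_apply] at hm'
    have h2 := congrArg (φ g) hm'
    rwa [MulAut.apply_inv_self] at h2
  have hNtwo : IsPGroup 2 N := fun y => ⟨1, Subtype.ext (by simpa using (hall _).1 y.2)⟩
  have hsN : s ∈ N := (hall s).2 (hs ▸ pow_orderOf_eq_one s)
  -- the image has even order
  have heven : 2 ∣ Nat.card φ.range := by
    by_contra hodd
    have hodd' : ∀ a : φ.range, Odd (orderOf a) := fun a =>
      Nat.odd_iff.2 (Nat.two_dvd_ne_zero.1 fun h => hodd (h.trans (_root_.orderOf_dvd_natCard a)))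
    have htriv : ∀ g : G, φ.rangeRestrict g = 1 := by
      intro g
      obtain ⟨c, hc⟩ := isConj_iff.1 (hamb g)
      refine eq_one_of_real_odd (hodd' _) (hodd' (φ.rangeRestrict c)) ?_
      rw [← map_inv, ← map_mul, ← map_mul, hc, map_inv]
    obtain ⟨g, hg⟩ := isConj_iff.1 (hone s t hs ht)
    have h1 : φ g = 1 := congrArg Subtype.val (htriv g)
    have h3 := hφ g ⟨s, hsN⟩
    rw [h1, MulAut.one_apply] at h3
    exact hst (h3.trans hg)
  have : Group.IsSolvable φ.range :=
    Group.isSolvable_of_surjective φ.rangeRestrict_surjective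
  have hRtop : (⊤ : Subgroup φ.range) ≠ ⊥ := fun h => by
    have h1 : Nat.card (⊤ : Subgroup φ.range) = 1 := by rw [h]; exact card_bot
    rw [card_top] at h1
    rw [h1] at heven
    norm_num at heven
  obtain ⟨B, hBn, hBc, -, hB⟩ :=
    Cfsg.Agent.Coprime.exists_minimal_normal_abelian (⊤ : Subgroup φ.range) hRtop
      (Group.isSolvable_of_surjective (f := (Subgroup.topEquiv (G := φ.range)).symm.toMonoidHom)
        (MulEquiv.surjective _))
  obtain ⟨p, hp, hpB⟩ := Nat.exists_prime_and_dvd (fun h => hB (card_eq_one.1 h) : Nat.card B ≠ 1)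
  have := Fact.mk hp
  obtain ⟨P, hPn, hPc, hP⟩ := exists_torsion_normal B hBc p
  have hPne : P ≠ ⊥ := by
    obtain ⟨b, hb⟩ := exists_prime_orderOf_dvd_card' p hpB
    rw [← Subgroup.orderOf_coe] at hb
    intro h
    have : (b : φ.range) ∈ P := (hP _).2 ⟨b.2, by rw [← hb]; exact pow_orderOf_eq_one _⟩
    rw [h, mem_bot] at this
    rw [this, orderOf_one] at hb
    exact hp.ne_one hb.symm
  have hPp : IsPGroup p P := fun y => ⟨1, Subtype.ext (by simpa using ((hP _).1 y.2).2)⟩
  rcases eq_or_ne p 2 with rfl | hodd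
  · have hcard : 2 ∣ Nat.card N := by
      rw [← hs, ← Subgroup.orderOf_mk s hsN]
      exact _root_.orderOf_dvd_natCard (⟨s, hsN⟩ : N)
    obtain ⟨y, hy, hy1⟩ := hPp.exists_fixed_point_of_prime_dvd_card_of_fixed_point N hcard
      (a := (1 : N)) (fun m => smul_one _)
    exact hPne (hfix P hPn y hy1.symm fun m hm => hy ⟨m, hm⟩)
  · set M : Subgroup G := P.comap φ.rangeRestrict with hM
    have : M.Normal := hPn.comap _
    let X : Sylow p M := default
    set X' : Subgroup G := (X : Subgroup M).map M.subtype with hX'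
    have hXmap : X'.map φ.rangeRestrict = P := by
      let ψ : M →* P := (φ.rangeRestrict.comp M.subtype).codRestrict P fun x => x.2
      have hψ : Function.Surjective ψ := fun a => by
        obtain ⟨g, hg⟩ := φ.rangeRestrict_surjective a.1
        exact ⟨⟨g, by rw [hM, mem_comap, hg]; exact a.2⟩, Subtype.ext hg⟩
      have htop : (X : Subgroup M).map ψ = ⊤ := by
        rw [← X.coe_mapSurjective hψ]
        refine ((X.mapSurjective hψ).is_maximal' (Q := ⊤) ?_ le_top).symm
        exact hPp.of_equiv Subgroup.topEquiv.symm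
      refine le_antisymm ?_ fun a ha => ?_
      · rintro _ ⟨_, ⟨x, -, rfl⟩, rfl⟩
        exact x.2
      · obtain ⟨x, hx, hxa⟩ := htop.symm ▸ mem_top (⟨a, ha⟩ : P)
        exact ⟨x, ⟨x, hx, rfl⟩, congrArg Subtype.val hxa⟩
    have hsurj : (normalizer (X' : Set G)).map φ.rangeRestrict = ⊤ := by
      have h := congrArg (Subgroup.map φ.rangeRestrict) (Sylow.normalizer_sup_eq_top X)
      rw [Subgroup.map_sup, Subgroup.map_top_of_surjective _ φ.rangeRestrict_surjective,
        show M.map φ.rangeRestrict = P from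
          Subgroup.map_comap_eq_self_of_surjective φ.rangeRestrict_surjective P] at h
      have hle : X'.map φ.rangeRestrict ≤ (normalizer (X' : Set G)).map φ.rangeRestrict :=
        Subgroup.map_mono le_normalizer
      rw [hXmap] at hle
      rwa [sup_eq_left.2 hle] at h
    have hdvd : 2 ∣ Nat.card (normalizer (X' : Set G)) := by
      refine heven.trans ?_
      rw [← card_top (G := φ.range), ← hsurj]
      exact Subgroup.card_map_dvd _ _
    obtain ⟨u, hu⟩ := exists_prime_orderOf_dvd_card' 2 hdvd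
    rw [← Subgroup.orderOf_coe] at hu
    have huN : (u : G) ∈ N := (hall _).2 (hu ▸ pow_orderOf_eq_one _)
    have hX'p : IsPGroup p X' := X.2.map _
    have hdisj : X' ⊓ N = ⊥ :=
      (IsPGroup.disjoint_of_ne p 2 hodd _ _ hX'p hNtwo).eq_bot
    refine hPne (hfix P hPn ⟨u, huN⟩ (fun e => ?_) fun m hm => ?_)
    · have : (u : G) = 1 := congrArg Subtype.val e
      rw [this, orderOf_one] at hu
      norm_num at hu
    · rw [← hXmap] at hm
      obtain ⟨x, hx, rfl⟩ := hm
      apply Subtype.ext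
      show ((φ x ⟨u, huN⟩ : N) : G) = u
      rw [hφ]
      have hmem : x * u * x⁻¹ * (u : G)⁻¹ ∈ X' ⊓ N := by
        refine ⟨?_, N.mul_mem (hNn.conj_mem _ huN x) (N.inv_mem huN)⟩
        rw [show x * u * x⁻¹ * (u : G)⁻¹ = x * (u * x⁻¹ * (u : G)⁻¹) by group]
        exact X'.mul_mem hx ((mem_normalizer_iff.1 u.2 x⁻¹).1 (X'.inv_mem hx))
      rw [hdisj, mem_bot] at hmem
      exact mul_inv_eq_one.1 hmem


/-- Let G be a finite solvable group of even order in which every element is conjugate to its inverse and all involutions are conjugate. Then a Sylow 2-subgroup S of G has order 2 or is a generalized quaternion group (of order at least 8). Moreover, if S has order 2, then G is the semidirect product of its largest normal subgroup of odd order O(G) by S, O(G) equals the derived subgroup of G, and the involution of S inverts every element of O(G). -/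
theorem result {G : Type*} [Group G] [Finite G] [Group.IsSolvable G]
    (hamb : ∀ x : G, IsConj x x⁻¹) (heven : 2 ∣ Nat.card G) (hone : ∀ s t : G, orderOf s = 2 → orderOf t = 2 → IsConj s t) (S : Sylow 2 G) :
    (Nat.card S = 2 ∨ ∃ n : ℕ, Nonempty ((S : Subgroup G) ≃* QuaternionGroup (2 ^ (n + 1)))) ∧
    (Nat.card S = 2 → (S : Subgroup G).IsComplement' (Cfsg.oddCore G) ∧ Cfsg.oddCore G = commutator G ∧
        ∀ t : G, t ∈ S → t ≠ 1 → ∀ x : G, x ∈ Cfsg.oddCore G → t * x * t⁻¹ = x⁻¹) := by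
  classical
  have h2 := Fact.mk Nat.prime_two
  have hOn : (Cfsg.oddCore G).Normal := Cfsg.Agent.Core.pPrimeCore_normal
  have hOc : (Nat.card (Cfsg.oddCore G)).Coprime 2 := Cfsg.Agent.Core.coprime_card_pPrimeCore
  set π := QuotientGroup.mk' (Cfsg.oddCore G)
  have hπ : Function.Surjective π := QuotientGroup.mk'_surjective _
  have hQamb : ∀ q : G ⧸ Cfsg.oddCore G, IsConj q q⁻¹ := fun q => by
    obtain ⟨x, rfl⟩ := hπ q
    rw [← map_inv]
    exact π.map_isConj (hamb x)
  have hlift : ∀ q : G ⧸ Cfsg.oddCore G, orderOf q = 2 → ∃ x : G, orderOf x = 2 ∧ π x = q := by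
    intro q hq
    obtain ⟨y, rfl⟩ := hπ q
    have hy2 : y ^ 2 ∈ Cfsg.oddCore G := by
      rw [← QuotientGroup.eq_one_iff, QuotientGroup.mk_pow]
      exact hq ▸ pow_orderOf_eq_one _
    set m := Nat.card (Cfsg.oddCore G)
    have hm : (y ^ m) ^ 2 = 1 := by
      rw [← pow_mul, mul_comm, pow_mul]
      exact congrArg Subtype.val (pow_card_eq_one' (x := (⟨y ^ 2, hy2⟩ : Cfsg.oddCore G)))
    have hπm : π (y ^ m) = π y := by
      obtain ⟨k, hk⟩ := Nat.coprime_two_right.1 hOc
      rw [map_pow, hk, pow_succ, pow_mul, ← hq, pow_orderOf_eq_one, one_pow, one_mul]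
    refine ⟨y ^ m, orderOf_eq_prime hm fun e => ?_, hπm⟩
    rw [← hπm, e, map_one, orderOf_one] at hq
    norm_num at hq
  have hQone : ∀ a b : G ⧸ Cfsg.oddCore G, orderOf a = 2 → orderOf b = 2 → IsConj a b := by
    intro a b ha hb
    obtain ⟨x, hx, rfl⟩ := hlift a ha
    obtain ⟨y, hy, rfl⟩ := hlift b hb
    exact π.map_isConj (hone x y hx hy)
  have : Group.IsSolvable (G ⧸ Cfsg.oddCore G) := Group.isSolvable_of_surjective hπ
  have huniq := unique_involution (G := G ⧸ Cfsg.oddCore G)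
    Cfsg.Agent.Core.pPrimeCore_quotient_eq_bot hQamb hQone
  have hinj : ∀ a ∈ (S : Subgroup G), a ∈ Cfsg.oddCore G → a = 1 := by
    intro a ha haO
    obtain ⟨k, hk⟩ := IsPGroup.iff_orderOf.1 S.isPGroup' ⟨a, ha⟩
    rw [Subgroup.orderOf_mk] at hk
    have hd : orderOf a ∣ Nat.card (Cfsg.oddCore G) := by
      have h' := _root_.orderOf_dvd_natCard (⟨a, haO⟩ : Cfsg.oddCore G)
      rwa [Subgroup.orderOf_mk] at h'
    exact orderOf_eq_one_iff.1 (Nat.eq_one_of_dvd_coprimes (hOc.pow_right k) hd hk.dvd)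
  have hSuniq : ∀ u v : (S : Subgroup G), orderOf u = 2 → orderOf v = 2 → u = v := by
    intro u v hu hv
    have hπ2 : ∀ w : (S : Subgroup G), orderOf w = 2 → orderOf (π w) = 2 := by
      intro w hw
      refine orderOf_eq_prime ?_ fun e => ?_
      · have h' := pow_orderOf_eq_one w
        rw [hw] at h'
        rw [← map_pow, ← Subgroup.coe_pow, h', coe_one, map_one]
      · have := hinj w w.2 ((QuotientGroup.eq_one_iff _).1 e)
        rw [← Subgroup.orderOf_coe, this, orderOf_one] at hw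
        norm_num at hw
    have h := QuotientGroup.eq.1 (huniq _ _ (hπ2 u hu) (hπ2 v hv))
    exact Subtype.ext (inv_mul_eq_one.1 (hinj _ (mul_mem (inv_mem u.2) v.2) h))
  have hdvd : 2 ∣ Nat.card S := S.dvd_card_of_dvd_card heven
  refine ⟨?_, fun hS2 => ?_⟩
  · rcases Cfsg.Agent.Fusion.cyclic_or_quaternion S.isPGroup' hSuniq with hc | ⟨k, hk, he⟩
    · left
      obtain ⟨g, hg⟩ := hc.exists_ofOrder_eq_natCard
      have hmin : (Nat.card G).minFac = 2 := (Nat.minFac_eq_two_iff _).2 heven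
      have hNC := hc.normalizer_le_centralizer hmin
      obtain ⟨n, hnn, hn⟩ : ∃ n ∈ Subgroup.normalizer ((S : Subgroup G) : Set G),
          (g : G)⁻¹ = n⁻¹ * g * n := by
        obtain ⟨c, hc'⟩ := isConj_iff.1 (hamb (g : G))
        exact S.conj_eq_normalizer_conj_of_mem (g : G) c⁻¹ g.2
          (by rw [inv_inv, hc']; exact inv_mem g.2) |>.imp fun n h => ⟨h.1, by
            rw [← hc']; simpa using h.2⟩
      have hcomm : (g : G) * n = n * g :=
        Subgroup.mem_centralizer_iff.1 (hNC hnn) g g.2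
      have hg2 : g ^ 2 = 1 := by
        refine Subtype.ext ?_
        rw [mul_assoc, hcomm, inv_mul_cancel_left] at hn
        rw [Subgroup.coe_pow, Subgroup.coe_one, sq]
        nth_rw 1 [← hn]
        exact inv_mul_cancel _
      exact le_antisymm (hg ▸ Nat.le_of_dvd two_pos (orderOf_dvd_of_pow_eq_one hg2))
        (Nat.le_of_dvd Nat.card_pos hdvd)
    · exact Or.inr ⟨k - 1, by rwa [Nat.sub_add_cancel hk]⟩
  have hc : IsCyclic (S : Subgroup G) := isCyclic_of_prime_card hS2
  have hmin : (Nat.card G).minFac = 2 := (Nat.minFac_eq_two_iff _).2 heven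
  have hcompl := hc.isComplement' hmin
  set K := (MonoidHom.transferSylow S (hc.normalizer_le_centralizer hmin)).ker
  have hKi : K.index = 2 := by rw [hcompl.symm.index_eq_card]; exact hS2
  have hKo : ¬ 2 ∣ Nat.card K := by
    have := S.not_dvd_index
    rwa [hcompl.index_eq_card] at this
  have hKO : K = Cfsg.oddCore G := by
    refine le_antisymm (Cfsg.Agent.Core.le_pPrimeCore
      ((Nat.prime_two.coprime_iff_not_dvd.2 hKo).symm)) fun x hx => ?_
    rw [← QuotientGroup.eq_one_iff, ← orderOf_eq_one_iff]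
    refine Nat.eq_one_of_dvd_coprimes hOc ?_ ?_
    case refine_2 =>
      have h' := _root_.orderOf_dvd_natCard (QuotientGroup.mk' K x)
      rwa [← index_eq_card, hKi] at h'
    have hd := _root_.orderOf_dvd_natCard (⟨x, hx⟩ : Cfsg.oddCore G)
    rw [Subgroup.orderOf_mk] at hd
    exact (orderOf_map_dvd (QuotientGroup.mk' K) x).trans hd
  have hinv : ∀ t : G, t ∈ S → t ≠ 1 → ∀ x : G, x ∈ K → t * x * t⁻¹ = x⁻¹ := by
    intro t htS ht1 x hx
    have ht2 : t ^ 2 = 1 := by
      have h' := congrArg Subtype.val (pow_card_eq_one' (x := (⟨t, htS⟩ : (S : Subgroup G))))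
      rw [hS2] at h'
      simpa using h'
    let ψ : K →* K := (MulAut.conjNormal t : MulAut K).toMonoidHom
    have hψ : ∀ y : K, ((ψ y : K) : G) = t * y * t⁻¹ := fun y => MulAut.conjNormal_apply t y
    have hinvol : Function.Involutive ψ := fun y => Subtype.ext (by
      rw [hψ, hψ]
      calc t * (t * y * t⁻¹) * t⁻¹ = t ^ 2 * y * (t ^ 2)⁻¹ := by rw [sq]; group
        _ = y := by rw [ht2]; simp)
    have hfpf : MonoidHom.FixedPointFree ψ := by
      intro y hy
      have hyc : t * y * t⁻¹ = (y : G) := by rw [← hψ, hy]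
      obtain ⟨c, hc'⟩ := isConj_iff.1 (hamb (y : G))
      obtain ⟨k, s', hks⟩ : ∃ (k : K) (s' : (S : Subgroup G)), (k : G) * (s' : G) = c :=
        ⟨_, _, (hcompl.equiv_fst_mul_equiv_snd c)⟩
      have hs' : Commute (s' : G) (y : G) := by
        have hts : (s' : G) = 1 ∨ (s' : G) = t := by
          rcases eq_or_ne (s' : G) 1 with h' | h'
          · exact Or.inl h'
          · refine Or.inr (congrArg Subtype.val (hSuniq s' ⟨t, htS⟩ (orderOf_eq_prime ?_ ?_)
              (orderOf_eq_prime (Subtype.ext (by simpa using ht2)) ?_)))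
            · have h' := pow_card_eq_one' (x := s'); rwa [hS2] at h'
            · exact fun e => h' (congrArg Subtype.val e)
            · exact fun e => ht1 (congrArg Subtype.val e)
        rcases hts with h' | h' <;> rw [h']
        · exact Commute.one_left _
        · exact mul_inv_eq_iff_eq_mul.1 hyc
      have hk : (k : G) * y * (k : G)⁻¹ = (y : G)⁻¹ := by
        rw [← hc', ← hks]
        calc (k : G) * y * (k : G)⁻¹ = k * (y * s' * (s' : G)⁻¹) * (k : G)⁻¹ := by simp
          _ = k * (s' * y * (s' : G)⁻¹) * (k : G)⁻¹ := by rw [hs'.eq]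
          _ = _ := by group
      have hoddK : ∀ a : K, Odd (orderOf a) := fun a =>
        Nat.odd_iff.2 (Nat.two_dvd_ne_zero.1 fun h => hKo (h.trans (_root_.orderOf_dvd_natCard a)))
      exact eq_one_of_real_odd (hoddK y) (hoddK k) (Subtype.ext hk)
    have := congrFun (hfpf.coe_eq_inv_of_involutive hinvol) ⟨x, hx⟩
    have h' := congrArg Subtype.val this
    rw [hψ] at h'
    exact h'
  rw [← hKO]
  refine ⟨hcompl.symm, le_antisymm ?_ ?_, hinv⟩
  · intro x hx
    obtain ⟨t, htS, ht1⟩ : ∃ t, t ∈ S ∧ t ≠ (1 : G) := by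
      obtain ⟨t, ht⟩ := exists_prime_orderOf_dvd_card' 2 hdvd
      exact ⟨t, t.2, fun e => by rw [show t = 1 from Subtype.ext e, orderOf_one] at ht; norm_num at ht⟩
    obtain ⟨m, hm⟩ := exists_pow_eq_self_of_coprime (x := x) (n := 2) (Nat.coprime_two_left.2
      (Nat.odd_iff.2 (Nat.two_dvd_ne_zero.1 fun h => hKo (h.trans
        (Subgroup.orderOf_mk x hx ▸ _root_.orderOf_dvd_natCard (⟨x, hx⟩ : K))))))
    rw [← hm]
    refine pow_mem ?_ m
    have hcm : t * x⁻¹ * t⁻¹ * x⁻¹⁻¹ ∈ commutator G :=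
      Subgroup.commutator_mem_commutator (mem_top t) (mem_top x⁻¹)
    rwa [hinv t htS ht1 _ (inv_mem hx), inv_inv, ← sq] at hcm
  · have : IsCyclic (G ⧸ K) := isCyclic_of_prime_card (p := 2) (by rw [← index_eq_card, hKi])
    refine Subgroup.commutator_le.2 fun a _ b _ => (QuotientGroup.eq_one_iff (N := K) _).1 ?_
    obtain ⟨z, hz⟩ := IsCyclic.exists_generator (α := G ⧸ K)
    obtain ⟨i, hi⟩ := mem_zpowers_iff.1 (hz (a : G ⧸ K))
    obtain ⟨j, hj⟩ := mem_zpowers_iff.1 (hz (b : G ⧸ K))
    show QuotientGroup.mk' K (a * b * a⁻¹ * b⁻¹) = 1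
    simp only [map_mul, map_inv, QuotientGroup.mk'_apply]
    rw [← hi, ← hj]
    group

end Cfsg.Agent.S4061
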