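import Cfsg.Statements.S4062
import Mathlib.GroupTheory.GroupAction.Quotient
import Mathlib.GroupTheory.Sylow
import Mathlib.GroupTheory.Solvable
import Cfsg.Agent.Invol.Count

set_option autoImplicit false
open Cfsg

namespace Cfsg.Agent.S4062

open scoped commutatorElement
open Subgroup

section Lemmas

variable {G Q : Type*} [Group G] [Group Q]

theorem exists_lift_pElement [Finite G] (f : G →* Q) (hf : Function.Surjective f) {p : ℕ}
    (hp : p.Prime) {q : Q} {k : ℕ} (hq : q ^ p ^ k = 1) :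
    ∃ g : G, f g = q ∧ ∃ i, orderOf g = p ^ i := by
  obtain ⟨g, rfl⟩ := hf q
  obtain ⟨i, m, hm, hn⟩ :=
    Nat.exists_eq_pow_mul_and_not_dvd (orderOf_pos g).ne' p hp.ne_one
  have hco : Nat.Coprime (p ^ k) m := ((hp.coprime_iff_not_dvd).2 hm).pow_left k
  obtain ⟨j, h1, h2⟩ := Nat.chineseRemainder hco 1 0
  refine ⟨g ^ j, ?_, ?_⟩
  · rw [map_pow]
    conv_rhs => rw [← pow_one (f g)]
    exact pow_eq_pow_iff_modEq.2 (h1.of_dvd (orderOf_dvd_of_pow_eq_one hq))
  · have h3 : (g ^ j) ^ p ^ i = 1 := by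
      rw [← pow_mul, ← orderOf_dvd_iff_pow_eq_one, hn, mul_comm]
      exact Nat.mul_dvd_mul_right (Nat.modEq_zero_iff_dvd.1 h2) _
    obtain ⟨e, -, he⟩ := (Nat.dvd_prime_pow hp).1 (orderOf_dvd_of_pow_eq_one h3)
    exact ⟨e, he⟩

variable (h : ∀ x y : G, orderOf x = orderOf y → IsConj x y)
include h

theorem conj_pow_map [Finite G] (f : G →* Q) (hf : Function.Surjective f) {p : ℕ} (hp : p.Prime)
    {q : Q} {k : ℕ} (hq : q ^ p ^ k = 1) {j : ℕ} (hj : ¬ p ∣ j) :
    IsConj q (q ^ j) := by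
  obtain ⟨g, rfl, i, hi⟩ := exists_lift_pElement f hf hp hq
  rw [← map_pow]
  refine f.map_isConj (h _ _ ?_)
  rw [Nat.Coprime.orderOf_pow]
  rw [hi]
  exact ((hp.coprime_iff_not_dvd).2 hj).pow_left i

/-- A `p`-element outside a normal subgroup has greater order than any `p`-element inside. -/
theorem order_lt [Finite G] {K : Subgroup G} [K.Normal] {p : ℕ} (hp : p.Prime) {x y : G}
    (hx : x ∉ K) (hy : y ∈ K) {i j : ℕ} (hi : orderOf x = p ^ i) (hj : orderOf y = p ^ j) :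
    j < i := by
  by_contra hle
  have h1 : orderOf (y ^ p ^ (j - i)) = p ^ i := by
    rw [orderOf_pow' _ (pow_ne_zero _ hp.ne_zero), hj,
      Nat.gcd_eq_right (pow_dvd_pow p (Nat.sub_le j i)),
      Nat.pow_div (Nat.sub_le j i) hp.pos]
    congr 1
    omega
  obtain ⟨c, hc⟩ := isConj_iff.1 (h _ x (h1.trans hi.symm))
  exact hx (hc ▸ Normal.conj_mem inferInstance _ (pow_mem hy _) c)

/-- Two `p`-elements outside `K` with `p`th powers in `K` are conjugate. -/
theorem conj_of_notMem [Finite G] {K : Subgroup G} [K.Normal] {p : ℕ} (hp : p.Prime) {x y : G}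
    (hx : x ∉ K) (hy : y ∉ K) (hxp : x ^ p ∈ K) (hyp : y ^ p ∈ K) {i j : ℕ}
    (hi : orderOf x = p ^ i) (hj : orderOf y = p ^ j) : IsConj x y := by
  have key : ∀ (x y : G) (i j : ℕ), x ∉ K → y ^ p ∈ K → orderOf x = p ^ i → orderOf y = p ^ j →
      j ≤ i := by
    intro x y i j hx hyp hi hj
    rcases j with _ | j
    · exact Nat.zero_le _
    · have h1 : orderOf (y ^ p) = p ^ j := by
        rw [orderOf_pow' _ hp.ne_zero, hj, Nat.gcd_eq_right (dvd_pow_self p (Nat.succ_ne_zero j)),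
          pow_succ, Nat.mul_div_cancel _ hp.pos]
      exact order_lt h hp hx hyp hi h1
  exact h x y (by
    rw [hi, hj, le_antisymm (key y x j i hy hxp hj hi) (key x y i j hx hyp hi hj)])

omit h

theorem exists_commutator_eq {A S : Subgroup Q} [A.Normal] (hA : ∀ a ∈ A, ∀ b ∈ A, a * b = b * a)
    {x : Q} (hgen : S ≤ zpowers x ⊔ A) (hle : A ≤ ⁅S, S⁆) :
    ∀ a ∈ A, ∃ b ∈ A, a = x * b * x⁻¹ * b⁻¹ := by
  let D : Subgroup Q :=
    { carrier := {a | ∃ b ∈ A, a = x * b * x⁻¹ * b⁻¹}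
      one_mem' := ⟨1, one_mem _, by group⟩
      mul_mem' := by
        rintro a c ⟨b, hb, rfl⟩ ⟨d, hd, rfl⟩
        have hb' : x * b * x⁻¹ ∈ A := Normal.conj_mem inferInstance _ hb x
        have hd' : x * d * x⁻¹ ∈ A := Normal.conj_mem inferInstance _ hd x
        refine ⟨b * d, mul_mem hb hd, ?_⟩
        calc x * b * x⁻¹ * b⁻¹ * (x * d * x⁻¹ * d⁻¹)
            = x * b * x⁻¹ * (b⁻¹ * (x * d * x⁻¹ * d⁻¹)) := by group
          _ = x * b * x⁻¹ * (x * d * x⁻¹ * d⁻¹ * b⁻¹) := by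
              rw [hA b⁻¹ (inv_mem hb) _ (mul_mem hd' (inv_mem hd))]
          _ = _ := by group
      inv_mem' := by
        rintro a ⟨b, hb, rfl⟩
        have hb' : x * b * x⁻¹ ∈ A := Normal.conj_mem inferInstance _ hb x
        refine ⟨b⁻¹, inv_mem hb, ?_⟩
        rw [mul_inv_rev, inv_inv, hA b hb _ (inv_mem hb')]
        group }
  have hDA : D ≤ A := by
    rintro a ⟨b, hb, rfl⟩
    exact mul_mem (Normal.conj_mem inferInstance _ hb x) (inv_mem hb)
  let T : Subgroup Q :=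
    { carrier := {g | ∀ a ∈ A, g * a * g⁻¹ * a⁻¹ ∈ D}
      one_mem' := fun a _ => by simp
      mul_mem' := by
        intro g k hg hk a ha
        have hk' : k * a * k⁻¹ ∈ A := Normal.conj_mem inferInstance _ ha k
        have := mul_mem (hg _ hk') (hk a ha)
        rwa [show g * (k * a * k⁻¹) * g⁻¹ * (k * a * k⁻¹)⁻¹ * (k * a * k⁻¹ * a⁻¹) =
          g * k * a * (g * k)⁻¹ * a⁻¹ by group] at this
      inv_mem' := by
        intro g hg a ha
        have hb : g⁻¹ * a * g ∈ A := Normal.conj_mem' inferInstance _ ha g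
        have := inv_mem (hg _ hb)
        rwa [show (g * (g⁻¹ * a * g) * g⁻¹ * (g⁻¹ * a * g)⁻¹)⁻¹ = g⁻¹ * a * g⁻¹⁻¹ * a⁻¹ by
          group] at this }
  have hxT : x ∈ T := fun a ha => ⟨a, ha, rfl⟩
  have hAT : A ≤ T := fun g hg a ha => by
    rw [hA g hg a ha, mul_inv_cancel_right, mul_inv_cancel]; exact one_mem _
  have hTz : ∀ (k : ℤ) (a : Q), a ∈ A → x ^ k * a * (x ^ k)⁻¹ * a⁻¹ ∈ D :=
    fun k a ha => zpow_mem hxT k a ha
  have hconj : ∀ g ∈ T, ∀ d ∈ D, g * d * g⁻¹ ∈ D := fun g hg d hd => by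
    have := mul_mem (hg d (hDA hd)) hd
    rwa [inv_mul_cancel_right] at this
  have hST : S ≤ T := hgen.trans (sup_le ((zpowers_le).2 hxT) hAT)
  intro a ha
  refine (show A ≤ D from hle.trans (commutator_le.2 fun g hg k hk => ?_)) ha
  have decomp : ∀ g ∈ S, ∃ i : ℤ, ∃ a ∈ A, g = x ^ i * a := by
    intro g hg
    obtain ⟨y, hy, a, ha, rfl⟩ := mem_sup_of_normal_right.1 (hgen hg)
    obtain ⟨i, rfl⟩ := mem_zpowers_iff.1 hy
    exact ⟨i, a, ha, rfl⟩
  obtain ⟨i, b, hb, rfl⟩ := decomp g hg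
  obtain ⟨j, c, hc, rfl⟩ := decomp k hk
  have hi : x ^ i ∈ T := zpow_mem hxT i
  have hj : x ^ j ∈ T := zpow_mem hxT j
  rw [show ⁅x ^ i * b, x ^ j * c⁆ = x ^ i * (x ^ j * c * b * (x ^ j * c)⁻¹ * b⁻¹)⁻¹ * (x ^ i)⁻¹ *
      (x ^ j * (x ^ i * c * (x ^ i)⁻¹ * c⁻¹) * (x ^ j)⁻¹) by rw [commutatorElement_def]; group]
  exact mul_mem (hconj _ hi _ (inv_mem (hST hk b hb))) (hconj _ hj _ (hi c hc))

theorem fixed_eq_one [Finite Q] {A : Subgroup Q} [A.Normal] {x : Q}
    (hA : ∀ a ∈ A, ∀ b ∈ A, a * b = b * a)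
    (hs : ∀ a ∈ A, ∃ b ∈ A, a = x * b * x⁻¹ * b⁻¹) {b : Q} (hb : b ∈ A)
    (hc : x * b * x⁻¹ = b) : b = 1 := by
  let φ : A → A := fun a => ⟨x * a * x⁻¹ * (a : Q)⁻¹,
    mul_mem (Normal.conj_mem inferInstance _ a.2 x) (inv_mem a.2)⟩
  have : Function.Injective φ := Finite.injective_iff_surjective.2 fun a => by
    obtain ⟨c, hc, he⟩ := hs a a.2
    exact ⟨⟨c, hc⟩, Subtype.ext he.symm⟩
  have h1 := @this ⟨b, hb⟩ 1 (Subtype.ext (by simp [φ, hc]))
  exact congrArg Subtype.val h1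

theorem conj_conj_eq (a b c : Q) : a * (b * c * b⁻¹) * a⁻¹ = a * b * c * (a * b)⁻¹ := by group

theorem conj_comm_eq (X T b : Q) : X * T * X⁻¹ * T⁻¹ * b * (X * T * X⁻¹ * T⁻¹)⁻¹ =
    X * (T * (X⁻¹ * (T⁻¹ * b * T) * X) * T⁻¹) * X⁻¹ := by group

theorem conj_three (a b : Q) : a * (a * a * b * (a * a)⁻¹) * a⁻¹ =
    a * (a * (a * b * a⁻¹) * a⁻¹) * a⁻¹ := by group

theorem conj_mul_fixed (T b : Q) : T * (T * b * T⁻¹ * b) * T⁻¹ =
    T * T * b * (T * T)⁻¹ * (T * b * T⁻¹) := by group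

end Lemmas

section Steps

variable {G : Type*} [Group G] [Finite G] (h : ∀ x y : G, orderOf x = orderOf y → IsConj x y)
include h

theorem index_commutator [Group.IsSolvable G] [Nontrivial G] : (commutator G).index = 2 := by
  classical
  have hlt := Group.IsSolvable.commutator_lt_top_of_nontrivial G
  set N := commutator G
  have hcomm : ∀ a b : G ⧸ N, a * b = b * a := fun a b => by
    obtain ⟨a, rfl⟩ := QuotientGroup.mk_surjective a
    obtain ⟨b, rfl⟩ := QuotientGroup.mk_surjective b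
    exact mul_comm (Abelianization.of a) (Abelianization.of b)
  have hf := QuotientGroup.mk'_surjective N
  have heq : ∀ (p : ℕ) (a : G ⧸ N) (k j : ℕ), p.Prime → a ^ p ^ k = 1 → ¬ p ∣ j → a ^ j = a := by
    intro p a k j hp ha hj
    obtain ⟨c, hc⟩ := isConj_iff.1 (conj_pow_map h (QuotientGroup.mk' N) hf hp ha hj)
    rw [← hc, hcomm c a, mul_inv_cancel_right]
  have h2 : IsPGroup 2 (G ⧸ N) := by
    rw [IsPGroup.iff_card]
    refine ⟨(Nat.card (G ⧸ N)).primeFactorsList.length,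
      Nat.eq_prime_pow_of_unique_prime_dvd Nat.card_pos.ne' fun {q} hq hqd => ?_⟩
    by_contra hne
    have := Fact.mk hq
    obtain ⟨a, ha⟩ := exists_prime_orderOf_dvd_card' q hqd
    have h3 : ¬ q ∣ 2 := fun hh => hne ((Nat.prime_dvd_prime_iff_eq hq Nat.prime_two).1 hh)
    have h4 := heq q a 1 2 hq (by rw [pow_one, ← ha, pow_orderOf_eq_one]) h3
    rw [sq, mul_eq_right] at h4
    rw [h4, orderOf_one] at ha
    exact hq.ne_one ha.symm
  have hsq : ∀ a : G ⧸ N, a ^ 2 = 1 := fun a => by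
    obtain ⟨k, hk⟩ := h2 a
    have h3 := heq 2 a k 3 Nat.prime_two hk (by norm_num)
    rw [pow_succ] at h3
    simpa using h3
  have huniq : ∀ a b : G ⧸ N, a ≠ 1 → b ≠ 1 → a = b := by
    intro a b ha hb
    obtain ⟨x, rfl, i, hi⟩ := exists_lift_pElement (QuotientGroup.mk' N) hf Nat.prime_two
      (k := 1) (by simpa using hsq a)
    obtain ⟨y, rfl, j, hj⟩ := exists_lift_pElement (QuotientGroup.mk' N) hf Nat.prime_two
      (k := 1) (by simpa using hsq b)
    have hx : x ∉ N := fun hh => ha ((QuotientGroup.eq_one_iff x).2 hh)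
    have hy : y ∉ N := fun hh => hb ((QuotientGroup.eq_one_iff y).2 hh)
    obtain ⟨c, hc⟩ := isConj_iff.1 ((QuotientGroup.mk' N).map_isConj
      (conj_of_notMem h Nat.prime_two hx hy ((QuotientGroup.eq_one_iff _).1
        (by simpa using hsq (QuotientGroup.mk' N x))) ((QuotientGroup.eq_one_iff _).1
        (by simpa using hsq (QuotientGroup.mk' N y))) hi hj))
    rw [← hc, hcomm c, mul_inv_cancel_right]
  obtain ⟨g, hg⟩ := (SetLike.lt_iff_le_and_exists.1 hlt).2
  rw [index_eq_card, Nat.card_eq_two_iff' (1 : G ⧸ N)]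
  have hg1 : (g : G ⧸ N) ≠ 1 := fun hh => hg.2 ((QuotientGroup.eq_one_iff g).1 hh)
  exact ⟨g, hg1, fun b hb => huniq b _ hb hg1⟩

theorem relIndex_three [Group.IsSolvable G] {N : Subgroup G} [N.Normal] (hN : N = commutator G)
    (hidx : N.index = 2) (hbot : N ≠ ⊥) :
    (⁅N, N⁆).relIndex N = 3 ∧ ∀ t ∉ N, ∀ x ∈ N, t * x * t⁻¹ * x ∈ ⁅N, N⁆ := by
  classical
  set M := ⁅N, N⁆ with hMdef
  have hMN : M < N := Group.IsSolvable.commutator_lt_of_ne_bot hbot
  set π := QuotientGroup.mk' M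
  have hπ := QuotientGroup.mk'_surjective M
  set A := N.map π with hA
  have : A.Normal := Subgroup.Normal.map inferInstance π hπ
  have hAc : ∀ a ∈ A, ∀ b ∈ A, a * b = b * a := by
    rintro - ⟨a, ha, rfl⟩ - ⟨b, hb, rfl⟩
    rw [← commutatorElement_eq_one_iff_mul_comm, ← map_commutatorElement]
    exact (QuotientGroup.eq_one_iff _).2 (commutator_mem_commutator ha hb)
  obtain ⟨t, ht⟩ : ∃ t, t ∉ N := by
    by_contra hh
    push Not at hh
    rw [show N = ⊤ from eq_top_iff.2 fun g _ => hh g, index_top] at hidx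
    omega
  have hmul : ∀ {a b : G}, a ∉ N → b ∉ N → a⁻¹ * b ∈ N := fun {a b} ha hb =>
    (mul_mem_iff_of_index_two hidx).2 (by simp [ha, hb])
  have hsurj : ∀ t ∉ N, ∀ a ∈ A, ∃ b ∈ A, a = π t * b * (π t)⁻¹ * b⁻¹ := by
    intro t ht
    refine exists_commutator_eq hAc (S := ⊤) (fun q _ => ?_) ?_
    · obtain ⟨g, rfl⟩ := hπ q
      by_cases hg : g ∈ N
      · exact mem_sup_right (mem_map_of_mem π hg)
      · rw [show g = t * (t⁻¹ * g) by group, map_mul]
        exact mul_mem (mem_sup_left (mem_zpowers _)) (mem_sup_right (mem_map_of_mem π (hmul ht hg)))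
    · exact (map_mono hN.le).trans (by
        rw [_root_.commutator_def, map_commutator, Subgroup.map_top_of_surjective π hπ])
  have hinv : ∀ t ∉ N, ∀ a ∈ A, π t * a * (π t)⁻¹ = a⁻¹ := by
    intro t ht a ha
    obtain ⟨b, hb, rfl⟩ := hsurj t ht a ha
    have ht2 : π t * π t ∈ A := by
      rw [← map_mul]
      exact mem_map_of_mem π ((mul_mem_iff_of_index_two hidx).2 Iff.rfl)
    have h1 : π t * π t * b = b * (π t * π t) := hAc _ ht2 b hb
    calc π t * (π t * b * (π t)⁻¹ * b⁻¹) * (π t)⁻¹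
        = (π t * π t * b) * ((π t)⁻¹ * (b⁻¹ * (π t)⁻¹)) := by group
      _ = b * (π t * π t) * ((π t)⁻¹ * (b⁻¹ * (π t)⁻¹)) := by rw [h1]
      _ = _ := by group
  have hfix : ∀ a ∈ A, a⁻¹ = a → a = 1 := fun a ha he =>
    fixed_eq_one hAc (hsurj t ht) ha (by rw [hinv t ht a ha, he])
  have hpm : ∀ a ∈ A, ∀ c, IsConj a c → c = a ∨ c = a⁻¹ := by
    intro a ha c hc
    obtain ⟨q, rfl⟩ := isConj_iff.1 hc
    obtain ⟨g, rfl⟩ := hπ q
    by_cases hg : g ∈ N
    · left
      rw [hAc _ (mem_map_of_mem π hg) a ha, mul_inv_cancel_right]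
    · exact Or.inr (hinv g hg a ha)
  have hexp : ∀ a ∈ A, a ^ 3 = 1 := by
    intro a ha
    have hstep : ∀ (p k : ℕ), p.Prime → p ≠ 2 → a ^ p ^ k = 1 → a ^ 3 = 1 := by
      intro p k hp hp2 hk
      have h1 : ¬ p ∣ 2 := fun hh => hp2 ((Nat.prime_dvd_prime_iff_eq hp Nat.prime_two).1 hh)
      rcases hpm a ha _ (conj_pow_map h π hπ hp hk h1) with h2 | h2
      · rw [sq, mul_eq_right] at h2
        simp [h2]
      · rw [pow_succ, h2, inv_mul_cancel]
    by_cases ha1 : a = 1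
    · simp [ha1]
    have hall : ∀ {q : ℕ}, q.Prime → q ∣ orderOf a → q = 3 := fun {q} hq hqd => by
      have hb : a ^ (orderOf a / q) ∈ A := pow_mem ha _
      have hbo : orderOf (a ^ (orderOf a / q)) = q := by
        rw [orderOf_pow' _ (Nat.div_pos (Nat.le_of_dvd (orderOf_pos a) hqd) hq.pos).ne',
          Nat.gcd_eq_right (Nat.div_dvd_of_dvd hqd), Nat.div_div_self hqd (orderOf_pos a).ne']
      generalize a ^ (orderOf a / q) = b at hb hbo
      by_cases hq2 : q = 2
      · exfalso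
        subst hq2
        have : b⁻¹ = b := by
          rw [inv_eq_iff_mul_eq_one, ← sq, ← hbo, pow_orderOf_eq_one]
        rw [hfix b hb this, orderOf_one] at hbo
        omega
      · have h1 : ¬ q ∣ 2 := fun hh => hq2 ((Nat.prime_dvd_prime_iff_eq hq Nat.prime_two).1 hh)
        rcases hpm b hb _ (conj_pow_map h π hπ hq (k := 1)
            (by rw [pow_one, ← hbo, pow_orderOf_eq_one]) h1) with h2 | h2
        · rw [sq, mul_eq_right] at h2
          rw [h2, orderOf_one] at hbo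
          exact absurd hbo.symm hq.ne_one
        · have h3 : b ^ 3 = 1 := by rw [pow_succ, h2, inv_mul_cancel]
          have h4 := orderOf_dvd_of_pow_eq_one h3
          rw [hbo] at h4
          exact (Nat.prime_dvd_prime_iff_eq hq Nat.prime_three).1 h4
    refine hstep 3 (orderOf a).primeFactorsList.length Nat.prime_three (by norm_num) ?_
    rw [← Nat.eq_prime_pow_of_unique_prime_dvd (orderOf_pos a).ne' hall]
    exact pow_orderOf_eq_one a
  have hne : ∃ a ∈ A, a ≠ 1 := by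
    obtain ⟨g, hg, hgM⟩ := (SetLike.lt_iff_le_and_exists.1 hMN).2
    exact ⟨π g, mem_map_of_mem π hg, fun hh => hgM ((QuotientGroup.eq_one_iff g).1 hh)⟩
  obtain ⟨a, haA, ha1⟩ := hne
  have huniq : A ≤ zpowers a := by
    intro b hb
    by_cases hb1 : b = 1
    · simp [hb1]
    obtain ⟨x, hx, i, hi⟩ := exists_lift_pElement π hπ Nat.prime_three (k := 1)
      (by simpa using hexp a haA)
    obtain ⟨y, hy, j, hj⟩ := exists_lift_pElement π hπ Nat.prime_three (k := 1)
      (by simpa using hexp b hb)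
    have hxM : x ∉ M := fun hh => ha1 (hx ▸ (QuotientGroup.eq_one_iff x).2 hh)
    have hyM : y ∉ M := fun hh => hb1 (hy ▸ (QuotientGroup.eq_one_iff y).2 hh)
    have hx3 : x ^ 3 ∈ M := (QuotientGroup.eq_one_iff _).1
      (show π (x ^ 3) = 1 by rw [map_pow, hx, hexp a haA])
    have hy3 : y ^ 3 ∈ M := (QuotientGroup.eq_one_iff _).1
      (show π (y ^ 3) = 1 by rw [map_pow, hy, hexp b hb])
    have h5 := π.map_isConj (conj_of_notMem h Nat.prime_three hxM hyM hx3 hy3 hi hj)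
    rw [hx, hy] at h5
    rcases hpm a haA b h5 with h6 | h6
    · exact h6 ▸ mem_zpowers a
    · exact h6 ▸ inv_mem (mem_zpowers a)
  refine ⟨?_, fun t ht x hx => (QuotientGroup.eq_one_iff _).1 ?_⟩
  · have : Fact (Nat.Prime 3) := ⟨Nat.prime_three⟩
    have h2 : A = zpowers a := le_antisymm huniq ((zpowers_le).2 haA)
    conv_lhs => rw [← QuotientGroup.ker_mk' M]
    rw [relIndex_ker, ← hA, h2, Nat.card_zpowers,
      orderOf_eq_prime (hexp a haA) ha1]
  · show π (t * x * t⁻¹ * x) = 1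
    rw [map_mul, map_mul, map_mul, map_inv, hinv t ht _ (mem_map_of_mem π hx), inv_mul_cancel]

/-- The third derived step is impossible. -/
theorem second_eq_bot [Group.IsSolvable G] {N : Subgroup G} [N.Normal] (hidx : N.index = 2)
    (hrel : (⁅N, N⁆).relIndex N = 3)
    (hinvM : ∀ t ∉ N, ∀ x ∈ N, t * x * t⁻¹ * x ∈ ⁅N, N⁆) : ⁅N, N⁆ = ⊥ := by
  classical
  by_contra hbot
  set M := ⁅N, N⁆ with hMdef
  have hMN : M ≤ N := commutator_le_left N N
  have hlt : ⁅M, M⁆ < M := Group.IsSolvable.commutator_lt_of_ne_bot hbot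
  have hM6 : M.index = 6 := by rw [← relIndex_mul_index hMN, hrel, hidx]
  set π := QuotientGroup.mk' ⁅M, M⁆
  have hπ := QuotientGroup.mk'_surjective ⁅M, M⁆
  have hker : π.ker ≤ M := by rw [QuotientGroup.ker_mk']; exact hlt.le
  set B := M.map π with hB
  have : B.Normal := Subgroup.Normal.map inferInstance π hπ
  have hBmem : ∀ g, π g ∈ B → g ∈ M := fun g hg => by
    obtain ⟨m, hm, he⟩ := hg
    have : m⁻¹ * g ∈ M := hker (by rw [MonoidHom.mem_ker, map_mul, map_inv, he, inv_mul_cancel])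
    simpa using mul_mem hm this
  have hBc : ∀ a ∈ B, ∀ b ∈ B, a * b = b * a := by
    rintro - ⟨a, ha, rfl⟩ - ⟨b, hb, rfl⟩
    rw [← commutatorElement_eq_one_iff_mul_comm, ← map_commutatorElement]
    exact (QuotientGroup.eq_one_iff _).2 (commutator_mem_commutator ha hb)
  -- `x` generates `N` over `M`
  obtain ⟨x, hxN, hxM⟩ : ∃ x ∈ N, x ∉ M := by
    by_contra hh
    push Not at hh
    rw [le_antisymm hMN hh, relIndex_self] at hrel
    omega
  have hNgen : N ≤ zpowers x ⊔ M := by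
    have h1 : zpowers x ⊔ M ≤ N := sup_le ((zpowers_le).2 hxN) hMN
    have h2 := relIndex_mul_relIndex M (zpowers x ⊔ M) N le_sup_right h1
    rw [hrel] at h2
    rcases (Nat.dvd_prime Nat.prime_three).1 (Dvd.intro _ h2) with h3 | h3
    · exact absurd (relIndex_eq_one.1 h3 (mem_sup_left (mem_zpowers x))) hxM
    · rw [h3] at h2
      exact relIndex_eq_one.1 (by omega)
  have hx3 : x ^ 3 ∈ M := by
    have h1 := pow_card_eq_one' (x := ((⟨x, hxN⟩ : N) : N ⧸ M.subgroupOf N))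
    rw [← index_eq_card, ← relIndex, hrel, ← QuotientGroup.mk_pow,
      QuotientGroup.eq_one_iff] at h1
    exact h1
  have hsurj : ∀ a ∈ B, ∃ b ∈ B, a = π x * b * (π x)⁻¹ * b⁻¹ := by
    refine exists_commutator_eq hBc (S := N.map π) ?_ ?_
    · refine (map_mono hNgen).trans ?_
      rw [Subgroup.map_sup, MonoidHom.map_zpowers]
    · exact (map_commutator N N π).le
  have hfix : ∀ b ∈ B, π x * b * (π x)⁻¹ = b → b = 1 := fun b hb hc =>
    fixed_eq_one hBc hsurj hb hc
  have hBX : ∀ b ∈ B, π x * b * (π x)⁻¹ ∈ B := fun b hb => Normal.conj_mem inferInstance _ hb _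
  have hX3 : ∀ b ∈ B, π x * (π x * (π x * b * (π x)⁻¹) * (π x)⁻¹) * (π x)⁻¹ = b := fun b hb => by
    have h1 : π x ^ 3 ∈ B := by rw [← map_pow]; exact mem_map_of_mem π hx3
    calc _ = π x ^ 3 * b * (π x ^ 3)⁻¹ := by (simp only [pow_succ, pow_zero, one_mul, mul_assoc]; repeat rw [mul_inv_rev]; simp [mul_assoc])
      _ = b := by rw [hBc _ h1 b hb, mul_inv_cancel_right]
  -- no element of order 3
  have h3 : ∀ b ∈ B, b ^ 3 = 1 → b = 1 := by
    intro b hb hb3
    set σ := MulAut.conj (π x)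
    have hσ : ∀ c, σ c = π x * c * (π x)⁻¹ := fun c => rfl
    have hc : σ b ∈ B := hBX b hb
    have he : σ (σ b) ∈ B := hBX _ hc
    have hσ3 : σ (σ (σ b)) = b := hX3 b hb
    have hn : b * σ b * σ (σ b) = 1 := by
      refine hfix _ (mul_mem (mul_mem hb hc) he) ?_
      rw [← hσ, map_mul, map_mul, hσ3, hBc _ (mul_mem hc he) b hb, mul_assoc]
    have he' : σ (σ b) = (b * σ b)⁻¹ := (inv_eq_of_mul_eq_one_right hn).symm
    have hc3 : σ b ^ 3 = 1 := by rw [← map_pow, hb3, map_one]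
    have hbc : Commute b (σ b) := hBc b hb _ hc
    have hd : σ b * b⁻¹ = 1 := by
      refine hfix _ (mul_mem hc (inv_mem hb)) ?_
      rw [← hσ, map_mul, map_inv, he']
      calc (b * σ b)⁻¹ * (σ b)⁻¹ = ((σ b * σ b) * b)⁻¹ := by
            rw [hbc.eq]; group
        _ = ((σ b)⁻¹ * b)⁻¹ := by
            rw [show σ b * σ b = (σ b)⁻¹ from eq_inv_of_mul_eq_one_left (by rw [← hc3, pow_succ, sq])]
        _ = b⁻¹ * σ b := by group
        _ = _ := (hbc.inv_left).eq
    exact hfix b hb (mul_inv_eq_one.1 hd)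
  have hBcard : ∀ Z : Subgroup (G ⧸ ⁅M, M⁆), ∀ b, Z ≤ centralizer {b} →
      Nat.card {z // IsConj b z} ∣ Z.index := by
    intro Z b hZ
    have h1 := Cfsg.Agent.Invol.card_isConj_mul_card_centralizer b
    rw [← card_mul_index (centralizer {b}), mul_comm] at h1
    rw [Nat.eq_of_mul_eq_mul_left Nat.card_pos h1]
    exact index_dvd_of_le hZ
  have hBi : B.index = 6 := by rw [hB, index_map_eq M hπ hker, hM6]
  have hBcent : ∀ b ∈ B, B ≤ centralizer {b} := fun b hb a ha =>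
    mem_centralizer_singleton_iff.2 (hBc a ha b hb)
  -- the primes dividing the order of `B`
  have hprime : ∀ {p : ℕ}, p.Prime → p ∣ Nat.card B → p = 2 := by
    intro p hp hpd
    have := Fact.mk hp
    obtain ⟨⟨b, hb⟩, hbo⟩ := exists_prime_orderOf_dvd_card' p hpd
    rw [Subgroup.orderOf_mk] at hbo
    by_contra hp2
    have hp3 : p ≠ 3 := fun e => by
      rw [h3 b hb (by rw [← e, ← hbo, pow_orderOf_eq_one]), orderOf_one] at hbo
      exact hp.ne_one hbo.symm
    have hp5 : 5 ≤ p := hp.five_le_of_ne_two_of_ne_three hp2 hp3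
    have hb1 : b ^ p ^ 1 = 1 := by rw [pow_one, ← hbo, pow_orderOf_eq_one]
    have hS : ∀ j ∈ Finset.Ico 1 p, IsConj b (b ^ j) := fun j hj => by
      refine conj_pow_map h π hπ hp hb1 fun hd => ?_
      rw [Finset.mem_Ico] at hj
      have := Nat.le_of_dvd (by omega) hd
      omega
    have hinj : Set.InjOn (fun j => b ^ j) (Finset.Ico 1 p : Finset ℕ) := fun i hi j hj he => by
      rw [Finset.coe_Ico, Set.mem_Ico] at hi hj
      exact pow_injOn_Iio_orderOf (by rw [Set.mem_Iio, hbo]; exact hi.2)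
        (by rw [Set.mem_Iio, hbo]; exact hj.2) he
    have hall : ∀ q, q * b * q⁻¹ ∈ zpowers b := by
      intro q
      by_contra hq
      let s₁ := (Finset.Ico 1 p).image fun j => b ^ j
      let s₂ := s₁.image fun z => q * z * q⁻¹
      have hc₁ : s₁.card = p - 1 := by rw [Finset.card_image_of_injOn hinj, Nat.card_Ico]
      have hc₂ : s₂.card = p - 1 := by
        rw [Finset.card_image_of_injective _ fun u v e => by simpa using e, hc₁]
      have hdis : Disjoint s₁ s₂ := by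
        rw [Finset.disjoint_left]
        intro z hz1 hz2
        simp only [s₂, s₁, Finset.mem_image] at hz1 hz2
        obtain ⟨i, -, rfl⟩ := hz1
        obtain ⟨_, ⟨j, hj, rfl⟩, he⟩ := hz2
        rw [Finset.mem_Ico] at hj
        refine hq ?_
        have hmem : (q * b * q⁻¹) ^ j ∈ zpowers b := by
          rw [conj_pow, he]; exact pow_mem (mem_zpowers b) i
        obtain ⟨e, he'⟩ := Nat.exists_mul_mod_eq_one_of_coprime
          (k := p) (n := j) ((hp.coprime_iff_not_dvd.2 fun hd => by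
            have := Nat.le_of_dvd (by omega) hd
            omega).symm) hp.one_lt
        have h7 : ((q * b * q⁻¹) ^ j) ^ e = q * b * q⁻¹ := by
          rw [← pow_mul, conj_pow]
          congr 2
          rw [← pow_mod_orderOf, hbo, he'.2, pow_one]
        exact h7 ▸ pow_mem hmem e
      have hsub : s₁ ∪ s₂ ⊆ (Set.toFinite {z | IsConj b z}).toFinset := by
        intro z hz
        rw [Set.Finite.mem_toFinset, Set.mem_setOf_eq]
        simp only [s₂, s₁, Finset.mem_union, Finset.mem_image] at hz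
        rcases hz with ⟨j, hj, rfl⟩ | ⟨_, ⟨j, hj, rfl⟩, rfl⟩
        · exact hS j hj
        · exact (hS j hj).trans (isConj_iff.2 ⟨q, rfl⟩)
      have h8 := Finset.card_le_card hsub
      rw [Finset.card_union_of_disjoint hdis, hc₁, hc₂, ← Nat.card_eq_card_finite_toFinset] at h8
      have h9 := Nat.le_of_dvd (by omega) (hBi ▸ hBcard B b (hBcent b hb))
      change Nat.card {z // IsConj b z} ≤ 6 at h9
      change _ ≤ Nat.card {z // IsConj b z} at h8
      omega
    -- commutators centralize `b`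
    have hcom : ∀ u v : G ⧸ ⁅M, M⁆, ⁅u, v⁆ * b * ⁅u, v⁆⁻¹ = b := by
      intro u v
      obtain ⟨i, hi⟩ := mem_zpowers_iff.1 (hall u⁻¹)
      obtain ⟨j, hj⟩ := mem_zpowers_iff.1 (hall v⁻¹)
      obtain ⟨i', hi'⟩ := mem_zpowers_iff.1 (hall u)
      obtain ⟨j', hj'⟩ := mem_zpowers_iff.1 (hall v)
      have key : ∀ (w : G ⧸ ⁅M, M⁆) (k : ℤ) (n : ℤ), b ^ k = w * b * w⁻¹ →
          w * b ^ n * w⁻¹ = b ^ (k * n) := fun w k n hk => by
        rw [zpow_mul, hk, conj_zpow]
      have hu : b ^ (i' * i) = b := by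
        rw [← key u i' i hi', hi]; group
      have hv : b ^ (j' * j) = b := by
        rw [← key v j' j hj', hj]; group
      calc ⁅u, v⁆ * b * ⁅u, v⁆⁻¹ = u * (v * (u⁻¹ * (v⁻¹ * b * v) * u) * v⁻¹) * u⁻¹ := by
            rw [commutatorElement_def]; group
        _ = b ^ (i' * (j' * (i * j))) := by
            have h1 : v⁻¹ * b * v = b ^ j := by rw [hj, inv_inv]
            rw [h1]
            have h2 := key u⁻¹ i j hi
            rw [inv_inv] at h2
            rw [h2, key v j' _ hj', key u i' _ hi']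
        _ = b := by
            rw [show i' * (j' * (i * j)) = (i' * i) * (j' * j) by ring, zpow_mul, hu, hv]
    have hxb : π x * b * (π x)⁻¹ = b := by
      obtain ⟨t, ht⟩ : ∃ t, t ∉ N := by
        by_contra hh
        push Not at hh
        rw [show N = ⊤ from eq_top_iff.2 fun g _ => hh g, index_top] at hidx
        omega
      have hm : (π x * π x) * b * (π x * π x)⁻¹ = b := by
        have h2 : t * x⁻¹ * t⁻¹ * x⁻¹ ∈ M := hinvM t ht _ (inv_mem hxN)
        have h2' : π (x⁻¹ * (t * x⁻¹ * t⁻¹ * x⁻¹) * x) ∈ B :=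
          mem_map_of_mem π (Normal.conj_mem' inferInstance _ h2 x)
        have h4 := hcom (π x) (π t)
        have h5 : ⁅π x, π t⁆ = π x * π x * π (x⁻¹ * (t * x⁻¹ * t⁻¹ * x⁻¹) * x) * (1 : G ⧸ _) := by
          simp only [map_mul, map_inv, commutatorElement_def]; group
        rw [h5, mul_one] at h4
        set m := π (x⁻¹ * (t * x⁻¹ * t⁻¹ * x⁻¹) * x)
        calc _ = π x * π x * (m * b * m⁻¹) * (π x * π x)⁻¹ := by
              rw [hBc m h2' b hb, mul_inv_cancel_right]
          _ = π x * π x * m * b * (π x * π x * m)⁻¹ := conj_conj_eq _ _ _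
          _ = b := h4
      calc _ = π x * (π x * π x * b * (π x * π x)⁻¹) * (π x)⁻¹ := by rw [hm]
        _ = _ := conj_three _ _
        _ = b := hX3 b hb
    rw [hfix b hb hxb, orderOf_one] at hbo
    exact hp.ne_one hbo.symm
  have hB2 : IsPGroup 2 B := IsPGroup.of_card
    (Nat.eq_prime_pow_of_unique_prime_dvd Nat.card_pos.ne' hprime)
  -- a 2-element outside `N`
  obtain ⟨g₀, hg₀⟩ : ∃ g, g ∉ N := by
    by_contra hh
    push Not at hh
    rw [show N = ⊤ from eq_top_iff.2 fun g _ => hh g, index_top] at hidx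
    omega
  have hq2 : (g₀ : G ⧸ N) ^ 2 ^ 1 = 1 := by
    rw [pow_one, ← hidx, index_eq_card, pow_card_eq_one']
  obtain ⟨t, htq, a, hta⟩ := exists_lift_pElement (QuotientGroup.mk' N)
    (QuotientGroup.mk'_surjective N) Nat.prime_two hq2
  have htN : t ∉ N := fun hh => hg₀ ((QuotientGroup.eq_one_iff g₀).1
    (htq ▸ (QuotientGroup.eq_one_iff t).2 hh))
  have hsqN : ∀ g : G, g ^ 2 ∈ N := fun g => sq_mem_of_index_two hidx g
  have ht2M : t ^ 2 ∈ M := by
    have h1 := hinvM t htN _ (hsqN t)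
    have h2 : (t ^ 2) ^ 2 ∈ M := by convert h1 using 1; group
    have h3 : ((⟨t ^ 2, hsqN t⟩ : N) : N ⧸ M.subgroupOf N) ^ 2 = 1 := by
      rw [← QuotientGroup.mk_pow, QuotientGroup.eq_one_iff]
      exact h2
    have h4 := orderOf_dvd_natCard (((⟨t ^ 2, hsqN t⟩ : N) : N ⧸ M.subgroupOf N))
    rw [← index_eq_card, ← relIndex, hrel] at h4
    have h5 := Nat.dvd_gcd (orderOf_dvd_of_pow_eq_one h3) h4
    norm_num at h5
    exact h5
  have haA : ∀ g : G, g ∈ M → ∀ c, orderOf g = 2 ^ c → c < a := fun g hg c hc =>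
    order_lt h Nat.prime_two htN (hMN hg) hta hc
  set b₀ := π (t ^ 2) with hb₀
  have hb₀B : b₀ ∈ B := mem_map_of_mem π ht2M
  have hconjb₀ : ∀ b ∈ B, (∀ c ∈ B, c ^ 2 ≠ b) → IsConj b₀ b := by
    intro b hb hns
    obtain ⟨k, hk⟩ := hB2 ⟨b, hb⟩
    obtain ⟨y, rfl, c, hc⟩ := exists_lift_pElement π hπ Nat.prime_two
      (by simpa using congrArg Subtype.val hk)
    have hca := haA y (hBmem y hb) c hc
    obtain ⟨a', rfl⟩ : ∃ a', a = a' + 1 := ⟨a - 1, by omega⟩
    have ht2o : orderOf (t ^ 2) = 2 ^ a' := by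
      rw [orderOf_pow' _ two_ne_zero, hta, Nat.gcd_eq_right (dvd_pow_self 2 (Nat.succ_ne_zero a')),
        pow_succ, Nat.mul_div_cancel _ two_pos]
    rcases Nat.lt_or_ge c a' with hlt' | hge
    · exfalso
      have hyo : orderOf ((t ^ 2) ^ 2 ^ (a' - c)) = 2 ^ c := by
        rw [orderOf_pow' _ (pow_ne_zero _ two_ne_zero), ht2o,
          Nat.gcd_eq_right (pow_dvd_pow 2 (Nat.sub_le a' c)),
          Nat.pow_div (Nat.sub_le a' c) two_pos]
        congr 1
        omega
      obtain ⟨q, hq⟩ := isConj_iff.1 (π.map_isConj (h _ y (hyo.trans hc.symm)))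
      obtain ⟨e, he⟩ : ∃ e, a' - c = e + 1 := ⟨a' - c - 1, by omega⟩
      rw [map_pow, ← hb₀, he, pow_succ, pow_mul, ← conj_pow] at hq
      exact hns _ (Normal.conj_mem inferInstance _ (pow_mem hb₀B _) q) hq
    · exact π.map_isConj (h _ y (by rw [ht2o, hc, show c = a' by omega]))
  -- `B` is a four group
  let sqHom : B →* B :=
    { toFun := fun u => u ^ 2
      map_one' := one_pow 2
      map_mul' := fun u v => (show Commute u v from Subtype.ext (hBc u u.2 v v.2)).mul_pow 2 }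
  have hBne : ∃ b : B, b ≠ 1 := by
    obtain ⟨m, hm, hm'⟩ := (SetLike.lt_iff_le_and_exists.1 hlt).2
    exact ⟨⟨π m, mem_map_of_mem π hm⟩,
      fun hh => hm' ((QuotientGroup.eq_one_iff m).1 (congrArg Subtype.val hh))⟩
  obtain ⟨k, hk⟩ := IsPGroup.iff_card.1 hB2
  have hkne : k ≠ 0 := fun e => by
    rw [e, pow_zero, Nat.card_eq_one_iff_unique] at hk
    obtain ⟨b, hb⟩ := hBne
    exact hb (hk.1.elim _ _)
  have h2dvd : 2 ∣ Nat.card B := hk ▸ dvd_pow_self 2 hkne
  have hrange : 2 * Nat.card sqHom.range ≤ Nat.card B := by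
    have : Fact (Nat.Prime 2) := ⟨Nat.prime_two⟩
    obtain ⟨e, he⟩ := exists_prime_orderOf_dvd_card' 2 h2dvd
    have h1 : (2 : ℕ) ≤ Nat.card sqHom.ker := by
      rw [← he, ← Nat.card_zpowers e]
      refine card_le_of_le ((zpowers_le).2 ?_)
      show e ^ 2 = 1
      rw [← he, pow_orderOf_eq_one]
    rw [← card_mul_index sqHom.ker, index_ker]
    exact Nat.mul_le_mul_right _ h1
  have hnsq : ∃ b : B, b ∉ sqHom.range := by
    by_contra hh
    push Not at hh
    rw [show sqHom.range = ⊤ from eq_top_iff.2 fun u _ => hh u, card_top] at hrange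
    have : 0 < Nat.card B := Nat.card_pos
    omega
  have hT : centralizer {b₀} ≠ B := fun e => by
    refine htN (hMN (hBmem t ?_))
    rw [← e, mem_centralizer_singleton_iff, hb₀, ← map_mul, ← map_mul]
    congr 1
    group
  have hclass : Nat.card {z // IsConj b₀ z} ≤ 3 := by
    have h1 := hBcard _ b₀ le_rfl
    have h2 := relIndex_mul_index (hBcent b₀ hb₀B)
    rw [hBi] at h2
    have h4 : B.relIndex (centralizer {b₀}) ≠ 1 := fun e =>
      hT (le_antisymm (relIndex_eq_one.1 e) (hBcent b₀ hb₀B))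
    have h6 : 2 ≤ B.relIndex (centralizer {b₀}) := by
      rcases Nat.eq_zero_or_pos (B.relIndex (centralizer {b₀})) with h0 | h0
      · rw [h0, zero_mul] at h2; omega
      · omega
    have h7 : (centralizer {b₀}).index ≤ 3 := by nlinarith
    exact (Nat.le_of_dvd (Nat.pos_of_ne_zero index_ne_zero_of_finite) h1).trans h7
  have hdiff : Nat.card B ≤ Nat.card sqHom.range + 3 := by
    refine le_trans ?_ (Nat.add_le_add_left hclass _)
    rw [← Nat.card_sum]
    refine Nat.card_le_card_of_injective (fun u => if hu : u ∈ sqHom.range then .inl ⟨u, hu⟩ else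
      .inr ⟨u.1, hconjb₀ u u.2 fun c hc he => hu ⟨⟨c, hc⟩, Subtype.ext he⟩⟩) fun u v e => ?_
    dsimp only at e
    split_ifs at e with h1 h2 h2
    · exact Subtype.mk.inj (Sum.inl.inj e)
    · exact Subtype.ext (Subtype.mk.inj (Sum.inr.inj e))
  have hk2 : k = 2 := by
    have h6 : Nat.card B ≤ 6 := by omega
    have h7 : k ≠ 1 := by
      rintro rfl
      rw [pow_one] at hk
      obtain ⟨e, he⟩ := hBne
      obtain ⟨w, -, hw⟩ := (Nat.card_eq_two_iff' (1 : B)).1 hk
      have h8 : (⟨π x * e * (π x)⁻¹, hBX e e.2⟩ : B) ≠ 1 := fun h9 => he (Subtype.ext (by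
        simpa using congrArg Subtype.val h9))
      exact he (Subtype.ext (hfix e e.2 (congrArg Subtype.val ((hw _ h8).trans (hw _ he).symm))))
    have h9 : k < 3 := by
      by_contra hh
      have := Nat.pow_le_pow_right two_pos (not_lt.1 hh)
      omega
    omega
  subst hk2
  have hexp2 : ∀ b ∈ B, b ^ 2 = 1 := by
    intro b hb
    by_contra hne
    have hm : (⟨b, hb⟩ : B) ^ 2 ∈ sqHom.range := ⟨_, rfl⟩
    have h2 : Nat.card sqHom.range = 2 := by
      have h3 : 1 < Nat.card sqHom.range := by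
        rw [Finite.one_lt_card_iff_nontrivial]
        exact ⟨⟨⟨_, hm⟩, 1, fun e => hne (congrArg (fun u => (u.1 : B).1) e)⟩⟩
      omega
    refine hne (hfix _ (pow_mem hb 2) ?_)
    obtain ⟨w, -, hw⟩ := (Nat.card_eq_two_iff' (1 : sqHom.range)).1 h2
    have h4 : (⟨_, hm⟩ : sqHom.range) ≠ 1 := fun e => hne (congrArg (fun u => (u.1 : B).1) e)
    have h5 : (⟨⟨π x * b ^ 2 * (π x)⁻¹, hBX _ (pow_mem hb 2)⟩,
        ⟨⟨_, hBX b hb⟩, Subtype.ext (conj_pow)⟩⟩ : sqHom.range) ≠ 1 := fun e => hne (by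
      simpa using congrArg (fun u => (u.1 : B).1) e)
    exact congrArg (fun u => (u.1 : B).1) ((hw _ h5).trans (hw _ h4).symm)
  have hb₀1 : b₀ ≠ 1 := fun e => by
    obtain ⟨b, hb⟩ := hnsq
    obtain ⟨q, hq⟩ := isConj_iff.1 (hconjb₀ b b.2 fun c hc he => hb ⟨⟨c, hc⟩, Subtype.ext he⟩)
    rw [e, mul_one, mul_inv_cancel] at hq
    exact hb ⟨1, Subtype.ext (by simp [sqHom, ← hq])⟩
  set T := π t with hT'
  have hT2 : T * T = b₀ := by rw [hT', ← map_mul, hb₀, sq]
  have hBT : ∀ b ∈ B, T * b * T⁻¹ ∈ B := fun b hb => Normal.conj_mem inferInstance _ hb _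
  have hinvol : ∀ b ∈ B, b⁻¹ = b := fun b hb =>
    inv_eq_of_mul_eq_one_right (by rw [← sq]; exact hexp2 b hb)
  obtain ⟨b, hb, hbT⟩ : ∃ b ∈ B, T * b * T⁻¹ ≠ b := by
    by_contra hh
    push Not at hh
    have hxt : ∀ b ∈ B, (π x * π x) * b * (π x * π x)⁻¹ = b := by
      intro b hb
      have hfT : ∀ c ∈ B, T⁻¹ * c * T = c := fun c hc => by
        conv_lhs => rw [← hh c hc]
        group
      have h2 : t * x⁻¹ * t⁻¹ * x⁻¹ ∈ M := hinvM t htN _ (inv_mem hxN)
      set m := π (x⁻¹ * (t * x⁻¹ * t⁻¹ * x⁻¹) * x)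
      have hm : m ∈ B := mem_map_of_mem π (Normal.conj_mem' inferInstance _ h2 x)
      have h5 : π x * π x * m = π x * T * (π x)⁻¹ * T⁻¹ := by
        simp only [m, hT', map_mul, map_inv]; group
      calc _ = π x * π x * (m * b * m⁻¹) * (π x * π x)⁻¹ := by
            rw [hBc m hm b hb, mul_inv_cancel_right]
        _ = (π x * π x * m) * b * (π x * π x * m)⁻¹ := conj_conj_eq _ _ _
        _ = π x * (T * ((π x)⁻¹ * (T⁻¹ * b * T) * π x) * T⁻¹) * (π x)⁻¹ := by rw [h5]; exact conj_comm_eq _ _ _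
        _ = b := by
            rw [hfT b hb, hh _ (Normal.conj_mem' inferInstance _ hb _)]; group
    obtain ⟨e, he⟩ := hBne
    refine he (Subtype.ext (hfix e e.2 ?_))
    calc _ = π x * (π x * π x * (e : G ⧸ ⁅M, M⁆) * (π x * π x)⁻¹) * (π x)⁻¹ := by rw [hxt e e.2]
      _ = _ := conj_three _ _
      _ = _ := hX3 e e.2
  have hd : T * b * T⁻¹ * b = b₀ := by
    by_contra hne
    set d := T * b * T⁻¹ * b with hd'
    have hdB : d ∈ B := mul_mem (hBT b hb) hb
    have hd1 : d ≠ 1 := fun e => hbT ((eq_inv_of_mul_eq_one_left e).trans (hinvol b hb))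
    have hTd : T * d * T⁻¹ = d := by
      calc _ = (T * T) * b * (T * T)⁻¹ * (T * b * T⁻¹) := conj_mul_fixed T b
        _ = b * (T * b * T⁻¹) := by rw [hT2, hBc _ hb₀B b hb, mul_inv_cancel_right]
        _ = d := hBc b hb _ (hBT b hb)
    have hTb₀ : T * b₀ * T⁻¹ = b₀ := by rw [← hT2]; group
    have hb1 : b ≠ 1 := fun e => hbT (by simp [e])
    have hbb : b ≠ b₀ := fun e => hbT (by rw [e]; exact hTb₀)
    have hbd : b ≠ d := fun e => hbT (by rw [e]; exact hTd)
    have hfive : ({1, b₀, d, b, T * b * T⁻¹} : Finset _).card = 5 := by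
      have h1' : ∀ z, T * z * T⁻¹ = T * b * T⁻¹ → z = b := fun z e => by simpa using e
      have e1 : (1 : G ⧸ ⁅M, M⁆) ≠ T * b * T⁻¹ := fun e => hb1 (h1' 1 (by rw [← e]; group)).symm
      have e2 : b₀ ≠ T * b * T⁻¹ := fun e => hbb (h1' b₀ (hTb₀.trans e)).symm
      have e3 : d ≠ T * b * T⁻¹ := fun e => hbd (h1' d (hTd.trans e)).symm
      simp [hb₀1.symm, hd1.symm, hb1.symm, Ne.symm hne, hbb.symm, hbd.symm, e1, e2, e3, hbT.symm]
    have hle : ({1, b₀, d, b, T * b * T⁻¹} : Finset _).card ≤ Nat.card B := by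
      rw [← Nat.card_eq_finsetCard]
      refine Nat.card_le_card_of_injective (fun z => ⟨z.1, ?_⟩) fun u v e =>
        Subtype.ext (congrArg (fun w => (w.1 : G ⧸ ⁅M, M⁆)) e)
      have := z.2
      simp only [Finset.mem_insert, Finset.mem_singleton] at this
      rcases this with e | e | e | e | e <;> rw [e]
      exacts [one_mem _, hb₀B, hdB, hb, hBT b hb]
    rw [hfive, hk] at hle
    omega
  have hu : (T * b) ^ 2 ^ 1 = 1 := by
    rw [pow_one, sq]
    calc T * b * (T * b) = (T * b * T⁻¹) * ((T * T) * b) := by group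
      _ = (T * b * T⁻¹) * (b * b₀) := by rw [hT2, hBc _ hb₀B b hb]
      _ = (T * b * T⁻¹ * b) * b₀ := by group
      _ = 1 := by rw [hd, ← sq, hexp2 b₀ hb₀B]
  obtain ⟨g, hg, i, hi⟩ := exists_lift_pElement π hπ Nat.prime_two hu
  have hgN : g ∉ N := fun hgN => by
    obtain ⟨m, hm, hme⟩ := hb
    have h1 : g * (t * m)⁻¹ ∈ M :=
      hker (by rw [MonoidHom.mem_ker, map_mul, map_inv, map_mul, hg, hme, ← hT', mul_inv_cancel])
    refine htN ?_
    have := mul_mem (mul_mem (inv_mem (hMN h1)) hgN) (inv_mem (hMN hm))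
    rwa [show (g * (t * m)⁻¹)⁻¹ * g * m⁻¹ = t by group] at this
  obtain ⟨q, hq⟩ := isConj_iff.1
    (π.map_isConj (conj_of_notMem h Nat.prime_two htN hgN (hsqN t) (hsqN g) hta hi))
  refine hb₀1 ?_
  rw [pow_one, ← hg, ← hq, conj_pow, mul_inv_eq_one, mul_eq_left, sq, ← hT', hT2] at hu
  exact hu

end Steps

theorem equiv_perm {G : Type*} [Group G] [Finite G] {N : Subgroup G} [N.Normal]
    (hidx : N.index = 2) (hcard : Nat.card N = 3)
    (hinv : ∀ t ∉ N, ∀ x ∈ N, t * x * t⁻¹ * x = 1) : Nonempty (G ≃* Equiv.Perm (Fin 3)) := by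
  classical
  have hG : Nat.card G = 6 := by rw [← card_mul_index N, hcard, hidx]
  have : Fact (Nat.Prime 2) := ⟨Nat.prime_two⟩
  obtain ⟨t, ht⟩ := exists_prime_orderOf_dvd_card' (G := G) 2 (by omega)
  have htN : t ∉ N := fun hh => by
    have := orderOf_dvd_natCard (⟨t, hh⟩ : N)
    rw [Subgroup.orderOf_mk, ht, hcard] at this
    omega
  set H := zpowers t
  have hH : Nat.card H = 2 := by rw [Nat.card_zpowers, ht]
  have hcore : H.normalCore = ⊥ := by
    refine (eq_bot_iff_forall _).2 fun g hg => ?_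
    obtain ⟨x, hx, hx1⟩ : ∃ x ∈ N, x ≠ 1 := by
      by_contra hh
      push Not at hh
      rw [(eq_bot_iff_forall N).2 hh, card_bot] at hcard
      omega
    have h1 : g ∈ H := normalCore_le H hg
    by_contra hg1
    obtain ⟨w, -, hw⟩ := (Nat.card_eq_two_iff' (1 : H)).1 hH
    have hgt : g = t := congrArg Subtype.val ((hw ⟨g, h1⟩ (fun e => hg1 (congrArg Subtype.val e))).trans
      (hw ⟨t, mem_zpowers t⟩ (fun e => by
        rw [show t = 1 from congrArg Subtype.val e, orderOf_one] at ht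
        omega)).symm)
    subst hgt
    have h2 : x * g * x⁻¹ ∈ H := normalCore_le H (H.normalCore_normal.conj_mem _ hg x)
    have h2' : x * g * x⁻¹ = g := congrArg Subtype.val ((hw ⟨_, h2⟩ (fun e => hg1 (by
      simpa using congrArg Subtype.val e))).trans (hw ⟨g, h1⟩ (fun e => hg1 (congrArg Subtype.val e))).symm)
    have h3 := hinv g htN x hx
    have h4 : g * x * g⁻¹ = x := by
      rw [← mul_inv_eq_iff_eq_mul.1 h2', mul_inv_cancel_right]
    rw [h4, ← sq] at h3
    have h5 := Nat.dvd_gcd (orderOf_dvd_of_pow_eq_one h3) (orderOf_dvd_natCard (⟨x, hx⟩ : N) |>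
      fun h => (Subgroup.orderOf_mk x hx ▸ h))
    rw [hcard] at h5
    exact hx1 (orderOf_eq_one_iff.1 (Nat.dvd_one.1 h5))
  have hker : (MulAction.toPermHom G (G ⧸ H)).ker = ⊥ := by
    rw [← normalCore_eq_ker, hcore]
  have hq : Nat.card (G ⧸ H) = 3 := by
    have := card_mul_index H
    rw [hH, hG, index_eq_card] at this
    omega
  have hbij : Function.Bijective (MulAction.toPermHom G (G ⧸ H)) := by
    rw [Nat.bijective_iff_injective_and_card]
    refine ⟨(MonoidHom.ker_eq_bot_iff _).1 hker, ?_⟩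
    rw [Nat.card_perm, hq, hG]
    rfl
  exact ⟨(MulEquiv.ofBijective _ hbij).trans
    ((Finite.equivFinOfCardEq hq).permCongrHom)⟩

/-- A finite solvable group in which any two elements of the same order are conjugate has order 1 or 2 or is isomorphic to the symmetric group of degree 3. -/
theorem result {G : Type*} [Group G] [Finite G] [Group.IsSolvable G]
    (h : ∀ x y : G, orderOf x = orderOf y → IsConj x y) :
    Nat.card G = 1 ∨ Nat.card G = 2 ∨ Nonempty (G ≃* Equiv.Perm (Fin 3)) := by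
  rcases subsingleton_or_nontrivial G with hs | hn
  · exact Or.inl (Nat.card_of_subsingleton (1 : G))
  have hidx := index_commutator h
  by_cases hbot : commutator G = ⊥
  · rw [hbot, index_bot] at hidx
    exact Or.inr (Or.inl hidx)
  obtain ⟨hrel, hinv⟩ := relIndex_three h rfl hidx hbot
  have hM := second_eq_bot h hidx hrel hinv
  rw [hM, relIndex_bot_left] at hrel
  refine Or.inr (Or.inr (equiv_perm hidx hrel fun t ht x hx => ?_))
  have := hinv t ht x hx
  rwa [hM, mem_bot] at this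

end Cfsg.Agent.S4062
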