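import Cfsg.Statements.S4064
import Cfsg.Agent.TICent.Frob
import Cfsg.Agent.TICent.Zass
import Cfsg.Agent.S1230
import Cfsg.Agent.Classical.SmallSimple

set_option autoImplicit false
open Cfsg

namespace Cfsg.Agent.S4064

/-- Let G be a finite group in which the centralizer of every element meets each of its conjugates by elements outside its normalizer trivially. Then G is nilpotent; or G is a Frobenius group with a complement that is cyclic or isomorphic to the direct product of a cyclic group of odd order and the quaternion group of order 8; or G is isomorphic to PSL₂(2ⁿ) for some n ≥ 2. -/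
theorem result {G : Type*} [Group G] [Finite G] (hTI : ∀ x : G, Cfsg.IsTISubset (Subgroup.centralizer ({x} : Set G) : Set G)) :
    Group.IsNilpotent G ∨
    (∃ H : Subgroup G, Cfsg.IsFrobeniusComplement H ∧
      (IsCyclic H ∨ ∃ m : ℕ, Odd m ∧ Nonempty (H ≃* Multiplicative (ZMod m) × QuaternionGroup 2))) ∨
    (∃ n : ℕ, 2 ≤ n ∧ Nonempty (G ≃* Matrix.ProjectiveSpecialLinearGroup (Fin 2) (GaloisField 2 n))) := by
  classical
  by_cases hnil : Group.IsNilpotent G
  · exact Or.inl hnil
  right
  by_cases hA : ∃ A : Subgroup G, A.Normal ∧ IsMulCommutative A ∧ A ≠ ⊥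
  · obtain ⟨A, hAn, hAc, hA1⟩ := hA
    exact Or.inl (TICent.frobenius_case hTI hnil hA1)
  right
  push Not at hA
  have : Nontrivial G := by
    by_contra hc
    rw [not_nontrivial_iff_subsingleton] at hc
    exact hnil Group.isNilpotent_of_subsingleton
  have hno : ∀ N : Subgroup G, N.Normal → Group.IsSolvable N → N = ⊥ := fun N _ _ => by
    by_contra hN
    obtain ⟨A, hAn, hAc, hA1⟩ := TICent.exists_abelian_normal hN
    exact hA1 (hA A hAn hAc)
  obtain ⟨T, K, M, S⟩ := TICent.exists_setting hTI hA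
  obtain ⟨hab, hexp⟩ := S.elementary hTI hno
  have : Fact (Nat.Prime 2) := ⟨Nat.prime_two⟩
  have hKT : (T : Subgroup G) = K :=
    (T.3 (fun x => ⟨1, Subtype.ext (by simpa using hexp x x.2)⟩) S.le_K).symm
  obtain ⟨z, hzK, hz⟩ := S.exists_involution
  obtain ⟨s, hsK, t, htK, hso, hto, hne⟩ := S.two
  obtain ⟨F, iF, iFF, hcard, ⟨e⟩⟩ := S1230.result T
    (fun hc => hne (Invol.eq_of_isCyclic_of_orderOf_two hc hso hto (hKT ▸ hsK) (hKT ▸ htK)))
    (fun hn => by
      have := hno (T : Subgroup G) hn (by
        have : Group.IsNilpotent (T : Subgroup G) := T.2.isNilpotent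
        infer_instance)
      rw [hKT] at this
      rw [this, Subgroup.mem_bot] at hzK
      exact S.coe_ne_one hz hzK)
    (fun u hu => by
      obtain ⟨g, hg⟩ := isConj_iff.1 (Invol.se_isConj_all S.se hu hz)
      have hmem : ∀ c ∈ Subgroup.centralizer ({u} : Set G), g * c * g⁻¹ ∈ K := fun c hc => by
        rw [← S.cent_eq z hzK hz, Subgroup.mem_centralizer_singleton_iff, ← hg]
        calc g * c * g⁻¹ * (g * u * g⁻¹) = g * (c * u) * g⁻¹ := by group
          _ = g * u * g⁻¹ * (g * c * g⁻¹) := by
            rw [Subgroup.mem_centralizer_singleton_iff.1 hc]; group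
      refine ⟨⟨⟨fun a b => Subtype.ext ?_⟩⟩, fun c hc => ?_⟩
      · have h1 := setLike_mul_comm (hmem a a.2) (hmem b b.2)
        have h2 : g * ((a : G) * b) * g⁻¹ = g * ((b : G) * a) * g⁻¹ := by
          calc g * ((a : G) * b) * g⁻¹ = g * a * g⁻¹ * (g * b * g⁻¹) := by group
            _ = g * b * g⁻¹ * (g * a * g⁻¹) := h1
            _ = g * ((b : G) * a) * g⁻¹ := by group
        simpa using h2
      · have h1 := hexp _ (hmem c hc)
        rw [conj_pow] at h1
        exact conj_eq_one_iff.1 h1)
  obtain ⟨j, hj⟩ := IsPGroup.iff_card.1 T.2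
  have hj2 : 2 ≤ j := by
    by_contra hlt
    have h3 : 3 ≤ Nat.card (T : Subgroup G) := by
      let f : Fin 3 → (T : Subgroup G) := ![1, ⟨s, hKT ▸ hsK⟩, ⟨t, hKT ▸ htK⟩]
      have hs1 := S.coe_ne_one hso
      have ht1 := S.coe_ne_one hto
      simpa using Nat.card_le_card_of_injective f (by
        intro a b hab'
        fin_cases a <;> fin_cases b <;> simp_all [f, Subtype.ext_iff, eq_comm])
    have := Nat.pow_le_pow_right (show 1 ≤ 2 by norm_num) (show j ≤ 1 by omega)
    omega
  haveI : Fintype (GaloisField 2 j) := Fintype.ofFinite _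
  have hc : Fintype.card F = Fintype.card (GaloisField 2 j) := by
    rw [hcard, hj, ← Nat.card_eq_fintype_card, GaloisField.card 2 j (by omega)]
  obtain ⟨φ⟩ := Agent.Classical.Small.psl_congr (n := 2)
    (FiniteField.ringEquivOfCardEq (K := F) (K' := GaloisField 2 j) hc)
  exact ⟨j, hj2, ⟨e.trans φ⟩⟩

end Cfsg.Agent.S4064
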