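import Cfsg.Statements.S4065
-- import your own Cfsg.Agent.* helpers here

import Cfsg.Agent.SL2Class.PSL

set_option autoImplicit false
open Cfsg

namespace Cfsg.Agent.S4065

open Matrix SL2Class


/-- Let F be a finite field with 2ⁿ elements, n ≥ 2. In PSL₂(F) the centralizer of every element meets each of its conjugates by elements outside its normalizer trivially. -/
theorem result (n : ℕ) (hn : 2 ≤ n)
    (x : Matrix.ProjectiveSpecialLinearGroup (Fin 2) (GaloisField 2 n)) :
    Cfsg.IsTISubset (Subgroup.centralizer ({x} : Set (Matrix.ProjectiveSpecialLinearGroup (Fin 2) (GaloisField 2 n))) :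
      Set (Matrix.ProjectiveSpecialLinearGroup (Fin 2) (GaloisField 2 n))) := by
  classical
  intro g hg y hy hgy
  by_contra hy1
  refine hg ?_
  obtain ⟨x, rfl⟩ := proj_surjective x
  have h2 : (2 : GaloisField 2 n) = 0 := by exact_mod_cast CharP.cast_eq_zero (GaloisField 2 n) 2
  by_cases hx : NonScalar x
  swap
  · have h1 : proj x = 1 := proj_eq_one.2 (mem_center_iff.2 hx)
    have hall : ∀ z, z ∈ Subgroup.centralizer ({proj x} : Set (Matrix.ProjectiveSpecialLinearGroup (Fin 2) (GaloisField 2 n))) :=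
      fun z => Subgroup.mem_centralizer_singleton_iff.2 (by rw [h1, mul_one, one_mul])
    rw [Subgroup.mem_normalizer_iff]
    exact fun z => ⟨fun _ => hall _, fun _ => hall _⟩
  obtain ⟨g, rfl⟩ := proj_surjective g
  obtain ⟨y, rfl⟩ := proj_surjective y
  have hinj : ∀ a b : Matrix.SpecialLinearGroup (Fin 2) (GaloisField 2 n), proj a = proj b → a = b := by
    intro a b e
    rcases proj_eq_iff.1 e with h | h
    · exact h.symm
    · have e1 : (-1 : Matrix.SpecialLinearGroup (Fin 2) (GaloisField 2 n)) = 1 :=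
        Subgroup.mem_bot.1 (center_eq_bot h2 ▸ neg_one_mem_center)
      rw [h, neg_eq_mul, e1, one_mul]
  have hdown : ∀ (u z : Matrix.SpecialLinearGroup (Fin 2) (GaloisField 2 n)),
      proj z ∈ Subgroup.centralizer ({proj u} : Set (Matrix.ProjectiveSpecialLinearGroup (Fin 2) (GaloisField 2 n))) ↔
        z ∈ Subgroup.centralizer ({u} : Set (Matrix.SpecialLinearGroup (Fin 2) (GaloisField 2 n))) := by
    intro u z
    rw [Subgroup.mem_centralizer_singleton_iff, Subgroup.mem_centralizer_singleton_iff, ← map_mul, ← map_mul]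
    exact ⟨hinj _ _, congrArg _⟩
  have hys : NonScalar y := fun h => hy1 (proj_eq_one.2 (mem_center_iff.2 (fun h' => h' h)))
  have hy' := (hdown x y).1 hy
  rw [← map_inv, ← map_mul, ← map_mul] at hgy
  have hgy' := (hdown x _).1 hgy
  have e1 := centralizer_eq hx hy' hys
  have e2 := centralizer_eq hx hgy' (nonScalar_conj hys g)
  have key : ∀ w, w * y = y * w ↔ g * w * g⁻¹ * (g * y * g⁻¹) = g * y * g⁻¹ * (g * w * g⁻¹) := fun w => by
    constructor
    · intro h
      calc g * w * g⁻¹ * (g * y * g⁻¹) = g * (w * y) * g⁻¹ := by group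
        _ = g * (y * w) * g⁻¹ := by rw [h]
        _ = g * y * g⁻¹ * (g * w * g⁻¹) := by group
    · intro h
      calc w * y = g⁻¹ * (g * w * g⁻¹ * (g * y * g⁻¹)) * g := by group
        _ = g⁻¹ * (g * y * g⁻¹ * (g * w * g⁻¹)) * g := by rw [h]
        _ = y * w := by group
  rw [Subgroup.mem_normalizer_iff]
  intro z
  obtain ⟨z, rfl⟩ := proj_surjective z
  rw [← map_inv, ← map_mul, ← map_mul, hdown, hdown]
  conv_lhs => rw [← e1, Subgroup.mem_centralizer_singleton_iff, key]
  conv_rhs => rw [← e2, Subgroup.mem_centralizer_singleton_iff]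

end Cfsg.Agent.S4065
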