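import Cfsg.Statements.S4066
import Mathlib

set_option autoImplicit false
open Cfsg

namespace Cfsg.Agent.S4066

/-- Let G be a finite group in which the centralizer of every element meets each of its conjugates by elements outside its normalizer trivially. Then any two distinct Sylow p-subgroups of G, for any prime p, intersect trivially. -/
theorem result {G : Type*} [Group G] [Finite G] (hTI : ∀ x : G, Cfsg.IsTISubset (Subgroup.centralizer ({x} : Set G) : Set G))
    {p : ℕ} [Fact p.Prime] (P Q : Sylow p G) (hPQ : P ≠ Q) : (P : Subgroup G) ⊓ (Q : Subgroup G) = ⊥ := by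
  have hp : p.Prime := Fact.out
  -- an element commuting with a nontrivial element normalizes its centralizer
  have hnorm : ∀ b u h : G, b ≠ 1 → u * b = b * u → h * b = b * h →
      h ∈ Subgroup.normalizer (Subgroup.centralizer ({u} : Set G) : Set G) := by
    intro b u h hb hub hhb
    by_contra hn
    refine hb (hTI u h hn b (Subgroup.mem_centralizer_singleton_iff.2 hub.symm) ?_)
    rw [hhb, mul_inv_cancel_right]
    exact Subgroup.mem_centralizer_singleton_iff.2 hub.symm
  -- the p-elements of the centralizer of `x` lie in every Sylow subgroup containing `x`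
  have key : ∀ (P Q : Sylow p G) (x : G), x ≠ 1 → x ∈ (Q : Subgroup G) →
      (P : Subgroup G) ⊓ Subgroup.centralizer ({x} : Set G) ≤ Q := by
    intro P Q x hx hxQ
    set H := Subgroup.centralizer ({x} : Set G) with hH
    obtain ⟨S⟩ : Nonempty (Sylow p H) := inferInstance
    have hall : ∀ u : H, (∃ k : ℕ, orderOf u = p ^ k) → u ∈ (S : Subgroup H) := by
      intro u ⟨k, hk⟩
      set s : Set H := Group.conjugatesOfSet {u}
      have hcomm : ∀ a ∈ s, ∀ b ∈ s, a * b = b * a := by
        intro a ha b hb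
        simp only [s, Group.mem_conjugatesOfSet_iff, Set.mem_singleton_iff, exists_eq_left] at ha hb
        obtain ⟨g, rfl⟩ := isConj_iff.1 ha
        obtain ⟨g', rfl⟩ := isConj_iff.1 hb
        have hu : ∀ g : H, Commute (g * u * g⁻¹) u := by
          intro g
          have hg := hnorm x (u : G) (g : G) hx (Subgroup.mem_centralizer_singleton_iff.1 u.2)
            (Subgroup.mem_centralizer_singleton_iff.1 g.2)
          have := (Subgroup.mem_normalizer_iff.1 hg (u : G)).1
            (Subgroup.mem_centralizer_singleton_iff.2 rfl)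
          exact Subtype.ext (Subgroup.mem_centralizer_singleton_iff.1 this)
        have h2 := (hu (g'⁻¹ * g)).map (MulAut.conj g').toMonoidHom
        simpa [mul_assoc] using h2.eq
      set A := Subgroup.normalClosure ({u} : Set H) with hA
      haveI hAc : IsMulCommutative A := ⟨⟨fun a b => by
        have h1 : A ≤ Subgroup.centralizer (A : Set H) := by
          rw [hA, Subgroup.normalClosure, Subgroup.centralizer_closure, Subgroup.closure_le]
          intro a ha
          rw [SetLike.mem_coe, Subgroup.mem_centralizer_iff]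
          exact fun b hb => hcomm b hb a ha
        exact Subtype.ext (Subgroup.mem_centralizer_iff.1 (h1 b.2) a a.2)⟩⟩
      have hexp : ∀ a : H, a ∈ A → a ^ p ^ k = 1 := by
        intro a ha
        rw [hA, Subgroup.normalClosure] at ha
        induction ha using Subgroup.closure_induction with
        | mem b hb =>
          simp only [Group.mem_conjugatesOfSet_iff, Set.mem_singleton_iff, exists_eq_left] at hb
          obtain ⟨g, rfl⟩ := isConj_iff.1 hb
          rw [conj_pow, ← hk, pow_orderOf_eq_one, mul_one, mul_inv_cancel]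
        | one => simp
        | mul a b ha hb ha' hb' =>
          have : Commute a b := congrArg Subtype.val (hAc.is_comm.comm (⟨a, ha⟩ : A) ⟨b, hb⟩)
          rw [this.mul_pow, ha', hb', one_mul]
        | inv a _ ha' => rw [inv_pow, ha', inv_one]
      have hAp : IsPGroup p A := fun a => ⟨k, Subtype.ext (hexp a a.2)⟩
      have hsup := IsPGroup.to_sup_of_normal_left hAp S.2
      have hle : A ≤ (S : Subgroup H) := le_sup_left.trans (S.3 hsup le_sup_right).le
      exact hle (Subgroup.subset_normalClosure (Set.mem_singleton u))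
    set T := (S : Subgroup H).map H.subtype with hT
    have hQT : (Q : Subgroup G) ≤ Subgroup.normalizer (T : Set G) := by
      intro q hq
      obtain ⟨j, hj⟩ := IsPGroup.iff_orderOf.1 Q.2 ⟨x, hxQ⟩
      haveI : Nontrivial (Q : Subgroup G) := ⟨⟨⟨x, hxQ⟩, 1, fun e => hx (congrArg Subtype.val e)⟩⟩
      haveI := Q.2.center_nontrivial
      obtain ⟨⟨w, hw⟩, hw1⟩ := exists_ne (1 : Subgroup.center (Q : Subgroup G))
      have hwQ : ∀ a : G, a ∈ (Q : Subgroup G) → a * (w : G) = w * a := fun a ha =>
        congrArg Subtype.val (Subgroup.mem_center_iff.1 hw ⟨a, ha⟩)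
      have hqH := hnorm (w : G) x q (fun e => hw1 (Subtype.ext (Subtype.ext e))) (hwQ x hxQ) (hwQ q hq)
      have hone : ∀ (g : G), g ∈ Subgroup.normalizer (H : Set G) → ∀ t ∈ T, g * t * g⁻¹ ∈ T := by
        rintro g hg _ ⟨t, ht, rfl⟩
        have hmem : g * (t : G) * g⁻¹ ∈ H := (Subgroup.mem_normalizer_iff.1 hg t).1 t.2
        refine ⟨⟨_, hmem⟩, hall _ ?_, rfl⟩
        obtain ⟨k, hk⟩ := IsPGroup.iff_orderOf.1 S.2 ⟨t, ht⟩
        refine ⟨k, ?_⟩
        rw [← Subgroup.orderOf_coe] at hk ⊢
        show orderOf (g * (t : G) * g⁻¹) = _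
        rw [← MulAut.conj_apply, MulEquiv.orderOf_eq, Subgroup.orderOf_coe]
        exact hk
      rw [Subgroup.mem_normalizer_iff]
      intro t
      refine ⟨fun ht => hone q hqH t ht, fun ht => ?_⟩
      have := hone q⁻¹ (inv_mem hqH) _ ht
      simpa [mul_assoc] using this
    have hsup := IsPGroup.to_sup_of_normal_left' (S.2.map H.subtype) Q.2 hQT
    have hTQ : T ≤ (Q : Subgroup G) := le_sup_left.trans (Q.3 hsup le_sup_right).le
    rintro u ⟨huP, huH⟩
    refine hTQ ⟨⟨u, huH⟩, hall _ ?_, rfl⟩
    obtain ⟨k, hk⟩ := IsPGroup.iff_orderOf.1 P.2 ⟨u, huP⟩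
    exact ⟨k, by rw [← Subgroup.orderOf_coe] at hk ⊢; exact hk⟩
  by_contra hne
  obtain ⟨⟨x, hxP, hxQ⟩, hx1⟩ := (Subgroup.ne_bot_iff_exists_ne_one).1 hne
  have hx : x ≠ 1 := fun e => hx1 (Subtype.ext e)
  haveI : Nontrivial (P : Subgroup G) := ⟨⟨⟨x, hxP⟩, 1, fun e => hx (congrArg Subtype.val e)⟩⟩
  haveI := P.2.center_nontrivial
  obtain ⟨⟨z, hz⟩, hz1⟩ := exists_ne (1 : Subgroup.center (P : Subgroup G))
  have hzP : ∀ a : G, a ∈ (P : Subgroup G) → a * (z : G) = z * a := fun a ha =>
    congrArg Subtype.val (Subgroup.mem_center_iff.1 hz ⟨a, ha⟩)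
  have hzQ : (z : G) ∈ (Q : Subgroup G) :=
    key P Q x hx hxQ ⟨z.2, Subgroup.mem_centralizer_singleton_iff.2 (hzP x hxP).symm⟩
  have hle : (P : Subgroup G) ≤ Q := fun a ha =>
    key P Q z (fun e => hz1 (Subtype.ext (Subtype.ext e))) hzQ
      ⟨ha, Subgroup.mem_centralizer_singleton_iff.2 (hzP a ha)⟩
  exact hPQ (Sylow.ext (P.3 Q.2 hle).symm)

end Cfsg.Agent.S4066
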