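import Cfsg.Statements.S4067
import Mathlib

set_option autoImplicit false
open Cfsg

namespace Cfsg.Agent.S4067

variable {G : Type*} [Group G]

/-- The commutator with the convention `x * h = h * x * kc x h`. -/
def kc (x h : G) : G := x⁻¹ * h⁻¹ * x * h

theorem kc_spec (x h : G) : x * h = h * x * kc x h := by unfold kc; group

theorem kc_conj (x h : G) : h⁻¹ * x * h = x * kc x h := by unfold kc; group

theorem kc_swap (x h : G) : kc h x = (kc x h)⁻¹ := by unfold kc; group

theorem kc_eq_one_iff {x h : G} : kc x h = 1 ↔ h ∈ Subgroup.centralizer ({x} : Set G) := by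
  rw [Subgroup.mem_centralizer_singleton_iff]
  constructor
  · intro hk
    have := kc_spec x h
    rw [hk, mul_one] at this
    exact this.symm
  · intro hc
    have := kc_spec x h
    rw [hc] at this
    exact (mul_eq_left.mp this.symm)

section ClassTwo

variable (hcl : ∀ x h : G, kc x h ∈ Subgroup.center G)
include hcl

theorem kc_mul_right (x a b : G) : kc x (a * b) = kc x a * kc x b := by
  have h : kc x (a * b) = x⁻¹ * b⁻¹ * x * kc x a * b := by unfold kc; group
  rw [h, mul_assoc, ← Subgroup.mem_center_iff.mp (hcl x a) b, ← mul_assoc]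
  exact (Subgroup.mem_center_iff.mp (hcl x a) (kc x b))

theorem kc_mul_left (x y a : G) : kc (x * y) a = kc x a * kc y a := by
  rw [kc_swap a (x * y), kc_mul_right hcl, kc_swap x a, kc_swap y a, mul_inv_rev, inv_inv, inv_inv]
  exact Subgroup.mem_center_iff.mp (hcl x a) (kc y a)

/-- Commutation with `x`, as a homomorphism. -/
def kcHom (x : G) : G →* G := MonoidHom.mk' (kc x) (kc_mul_right hcl x)

theorem kc_pow_right (x a : G) (n : ℕ) : kc x (a ^ n) = kc x a ^ n := map_pow (kcHom hcl x) a n

theorem kc_pow_left (x a : G) (n : ℕ) : kc (x ^ n) a = kc x a ^ n := by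
  induction n with
  | zero => simp [kc]
  | succ n ih => rw [pow_succ, kc_mul_left hcl, ih, pow_succ]

theorem ker_kcHom (x : G) : (kcHom hcl x).ker = Subgroup.centralizer ({x} : Set G) :=
  Subgroup.ext fun _ => kc_eq_one_iff

theorem card_range_kcHom (x : G) :
    Nat.card (kcHom hcl x).range = (Subgroup.centralizer ({x} : Set G)).index := by
  rw [← ker_kcHom hcl x, Subgroup.index_ker]

theorem mul_pow_class_two (g h : G) (n : ℕ) :
    (g * h) ^ n = g ^ n * h ^ n * kc h g ^ n.choose 2 := by
  induction n with
  | zero => simp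
  | succ n ih =>
    have hz : ∀ m : ℕ, ∀ u : G, u * kc h g ^ m = kc h g ^ m * u := fun m u =>
      Subgroup.mem_center_iff.mp (pow_mem (hcl h g) m) u
    have hs : h ^ n * g = g * h ^ n * kc h g ^ n := by
      rw [← kc_pow_left hcl]; exact kc_spec _ _
    rw [pow_succ, ih, Nat.choose_succ_succ, Nat.choose_one_right]
    calc g ^ n * h ^ n * kc h g ^ n.choose 2 * (g * h)
        = g ^ n * (h ^ n * g) * (h * kc h g ^ n.choose 2) := by
          rw [hz (n.choose 2) h, mul_assoc (g ^ n * h ^ n), ← hz (n.choose 2) (g * h)]
          simp only [mul_assoc]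
          rw [← hz (n.choose 2) h]
      _ = g ^ n * (g * h ^ n) * (kc h g ^ n * h) * kc h g ^ n.choose 2 := by
          rw [hs]; simp only [mul_assoc]
      _ = g ^ (n + 1) * h ^ (n + 1) * (kc h g ^ n * kc h g ^ n.choose 2) := by
          rw [← hz n h, pow_succ, pow_succ]; simp only [mul_assoc]
      _ = _ := by rw [← pow_add]

end ClassTwo

variable [Finite G]

/-- The smallest prime divisor of the order. -/
theorem minFac_le_index {H : Subgroup G} (hH : H ≠ ⊤) : (Nat.card G).minFac ≤ H.index :=
  Nat.minFac_le_of_dvd (by
    have h0 : H.index ≠ 0 := Subgroup.index_ne_zero_of_finite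
    have h1 : H.index ≠ 1 := fun h => hH (Subgroup.index_eq_one.mp h)
    omega) H.index_dvd_card

theorem pow_mem_center_imp {x : G} {i : ℕ} (hi0 : i ≠ 0) (hi : i < (Nat.card G).minFac)
    {H : Subgroup G} (hx : x ^ i ∈ H) : x ∈ H := by
  have hcop : i.Coprime (orderOf x) := by
    refine Nat.coprime_of_dvd fun k hk hki hko => ?_
    have h1 := Nat.minFac_le_of_dvd hk.two_le (hko.trans (orderOf_dvd_natCard x))
    have h2 := Nat.le_of_dvd (Nat.pos_of_ne_zero hi0) hki
    omega
  obtain ⟨m, hm⟩ := exists_pow_eq_self_of_coprime hcop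
  rw [← hm]
  exact pow_mem hx m

/-- The class of an element lies in its orbit under the automorphism group. -/
theorem index_le_card_orbit (g : G) :
    (Subgroup.centralizer ({g} : Set G)).index ≤ Nat.card (MulAction.orbit (MulAut G) g) := by
  let f : G ⧸ Subgroup.centralizer ({g} : Set G) → MulAction.orbit (MulAut G) g := fun q =>
    ⟨q.out * g * q.out⁻¹, MulAut.conj q.out, by simp [MulAut.smul_def]⟩
  refine Nat.card_le_card_of_injective f fun a b h => ?_
  have h' : a.out * g * a.out⁻¹ = b.out * g * b.out⁻¹ := congrArg Subtype.val h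
  rw [← Quotient.out_eq a, ← Quotient.out_eq b]
  refine QuotientGroup.eq.mpr ?_
  rw [Subgroup.mem_centralizer_singleton_iff]
  calc a.out⁻¹ * b.out * g = a.out⁻¹ * (b.out * g * b.out⁻¹) * b.out := by group
    _ = a.out⁻¹ * (a.out * g * a.out⁻¹) * b.out := by rw [h']
    _ = g * (a.out⁻¹ * b.out) := by group

/-- The counting bound. -/
theorem orbit_bound (S : Set G) (c : ℕ) (hc : 0 < c)
    (hSZ : ∀ g ∈ S, g ∉ Subgroup.center G)
    (hS : ∀ g ∈ S, c ≤ Nat.card (MulAction.orbit (MulAut G) g))
    (hnum : ((Nat.card G).minFac - 1) * Nat.card (Subgroup.center G) * c ≤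
      Nat.card S * (c - (Nat.card G).minFac)) :
    Nat.card (MulAction.orbitRel.Quotient (MulAut G) G) ≤ Nat.card G / (Nat.card G).minFac := by
  classical
  haveI := Fintype.ofFinite G
  rcases eq_or_ne (Nat.card G) 1 with h1 | h1
  · haveI : Subsingleton G := (Nat.card_eq_one_iff_unique.mp h1).1
    rw [h1, Nat.minFac_one, Nat.div_one]
    exact (Finite.card_le_one_iff_subsingleton).mpr
      ⟨fun a b => Quotient.inductionOn₂ a b fun x y => congrArg _ (Subsingleton.elim x y)⟩
  set p := (Nat.card G).minFac with hpdef
  have hp : p.Prime := Nat.minFac_prime h1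
  rw [Nat.le_div_iff_mul_le hp.pos]
  let w : G → ℚ := fun g => 1 / (Nat.card (MulAction.orbit (MulAut G) g) : ℚ)
  -- the weights add up to the number of orbits
  have hsum : ∑ g : G, w g = (Nat.card (MulAction.orbitRel.Quotient (MulAut G) G) : ℚ) := by
    haveI := Fintype.ofFinite (MulAction.orbitRel.Quotient (MulAut G) G)
    rw [← (MulAction.selfEquivSigmaOrbits (MulAut G) G).symm.sum_comp w, Fintype.sum_sigma,
      Nat.card_eq_fintype_card, Fintype.card, Finset.card_eq_sum_ones, Nat.cast_sum]
    refine Finset.sum_congr rfl fun O _ => ?_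
    have he : ∀ y : MulAction.orbit (MulAut G) O.out,
        w ((MulAction.selfEquivSigmaOrbits (MulAut G) G).symm ⟨O, y⟩) =
          1 / (Nat.card (MulAction.orbit (MulAut G) O.out) : ℚ) := by
      intro y
      have hy : ((MulAction.selfEquivSigmaOrbits (MulAut G) G).symm ⟨O, y⟩) = (y : G) := rfl
      rw [hy]
      simp only [w, MulAction.orbit_eq_iff.mpr y.2]
    haveI : Nonempty (MulAction.orbit (MulAut G) O.out) := ⟨⟨_, MulAction.mem_orbit_self _⟩⟩
    rw [Finset.sum_congr rfl fun y _ => he y, Finset.sum_const, Finset.card_univ, nsmul_eq_mul,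
      ← Nat.card_eq_fintype_card, Nat.cast_one, mul_one_div, div_self]
    exact_mod_cast Nat.card_pos.ne'
  have hpos : ∀ g : G, 0 < (Nat.card (MulAction.orbit (MulAut G) g) : ℚ) := fun g => by
    haveI : Nonempty (MulAction.orbit (MulAut G) g) := ⟨⟨g, MulAction.mem_orbit_self g⟩⟩
    exact_mod_cast Nat.card_pos
  have hpq : (0 : ℚ) < p := by exact_mod_cast hp.pos
  have hcq : (0 : ℚ) < c := by exact_mod_cast hc
  have hw : ∀ g, w g ≤ 1 / (p : ℚ) + (if g ∈ Subgroup.center G then 1 - 1 / (p : ℚ) else 0)
      - (if g ∈ S then 1 / (p : ℚ) - 1 / (c : ℚ) else 0) := by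
    intro g
    by_cases hgZ : g ∈ Subgroup.center G
    · rw [if_pos hgZ, if_neg (fun h => hSZ g h hgZ), sub_zero, add_sub_cancel]
      refine (div_le_one (hpos g)).mpr ?_
      have h := hpos g
      rw [Nat.cast_pos] at h
      exact_mod_cast h
    · rw [if_neg hgZ, add_zero]
      by_cases hgS : g ∈ S
      · rw [if_pos hgS, sub_sub_cancel]
        exact one_div_le_one_div_of_le hcq (by exact_mod_cast hS g hgS)
      · rw [if_neg hgS, sub_zero]
        refine one_div_le_one_div_of_le hpq ?_
        have hne : Subgroup.centralizer ({g} : Set G) ≠ ⊤ := fun h => hgZ (by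
          rw [Subgroup.mem_center_iff]
          intro u
          exact Subgroup.mem_centralizer_singleton_iff.mp (h ▸ Subgroup.mem_top u))
        exact_mod_cast (minFac_le_index hne).trans (index_le_card_orbit g)
  have hmain := Finset.sum_le_sum fun g (_ : g ∈ Finset.univ) => hw g
  rw [hsum, Finset.sum_sub_distrib, Finset.sum_add_distrib, Finset.sum_const, Finset.card_univ,
    ← Finset.sum_filter, ← Finset.sum_filter, Finset.sum_const, Finset.sum_const,
    ← Nat.card_eq_fintype_card] at hmain
  simp only [nsmul_eq_mul] at hmain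
  have hZc : (Finset.univ.filter (· ∈ Subgroup.center G)).card = Nat.card (Subgroup.center G) := by
    rw [Nat.card_eq_fintype_card, ← Fintype.card_subtype]
  have hSc : (Finset.univ.filter (· ∈ S)).card = Nat.card S := by
    rw [Nat.card_eq_fintype_card, ← Fintype.card_subtype]
  rw [hZc, hSc] at hmain
  rcases Nat.lt_or_ge c p with hcp | hcp
  · have h0 : (p - 1) * Nat.card (Subgroup.center G) * c = 0 := by
      rw [Nat.sub_eq_zero_of_le hcp.le, mul_zero] at hnum; omega
    have : 0 < (p - 1) * Nat.card (Subgroup.center G) * c :=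
      Nat.mul_pos (Nat.mul_pos (by have := hp.two_le; omega) Nat.card_pos) hc
    omega
  have hn : ((p : ℚ) - 1) * Nat.card (Subgroup.center G) * c ≤ Nat.card S * ((c : ℚ) - p) := by
    have h := (Nat.cast_le (α := ℚ)).mpr hnum
    push_cast [Nat.cast_sub hp.one_le, Nat.cast_sub hcp] at h
    exact h
  have key : (Nat.card (MulAction.orbitRel.Quotient (MulAut G) G) : ℚ) * p ≤ Nat.card G := by
    have h2 : (Nat.card (Subgroup.center G) : ℚ) * (1 - 1 / p) ≤
        Nat.card S * (1 / p - 1 / c) := by
      rw [show (Nat.card (Subgroup.center G) : ℚ) * (1 - 1 / p) =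
          ((p : ℚ) - 1) * Nat.card (Subgroup.center G) * c / (p * c) by field_simp,
        show (Nat.card S : ℚ) * (1 / p - 1 / c) = Nat.card S * ((c : ℚ) - p) / (p * c) by field_simp]
      exact div_le_div_of_nonneg_right hn (by positivity)
    have h3 : (Nat.card (MulAction.orbitRel.Quotient (MulAut G) G) : ℚ) ≤ Nat.card G * (1 / p) := by
      linarith
    rw [mul_one_div, le_div_iff₀ hpq] at h3
    exact h3
  exact_mod_cast key

/-- An element moved by automorphisms to `p` further classes has an orbit of length at least `p²`. -/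
theorem sq_le_card_orbit {p : ℕ} (g : G) (R : Subgroup G) (hR : Nat.card R = p) (u : Fin p → G)
    (hu : ∀ i, u i ∈ MulAction.orbit (MulAut G) g)
    (hcls : ∀ i, ∀ r ∈ R, ∃ k : G, k⁻¹ * u i * k = u i * r)
    (hdis : ∀ i j, (u i)⁻¹ * u j ∈ R → i = j) :
    p * p ≤ Nat.card (MulAction.orbit (MulAut G) g) := by
  have hmem : ∀ x : Fin p × R, u x.1 * x.2 ∈ MulAction.orbit (MulAut G) g := by
    rintro ⟨i, r, hr⟩
    obtain ⟨k, hk⟩ := hcls i r hr
    obtain ⟨θ, hθ⟩ := hu i
    refine ⟨MulAut.conj k⁻¹ * θ, ?_⟩
    show (MulAut.conj k⁻¹ * θ) • g = u i * r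
    rw [mul_smul]
    simp only at hθ
    rw [hθ, ← hk]
    simp [MulAut.smul_def]
  let f : Fin p × R → MulAction.orbit (MulAut G) g := fun x => ⟨u x.1 * x.2, hmem x⟩
  have hf : Function.Injective f := by
    rintro ⟨i, r⟩ ⟨j, s⟩ h
    have h' : u i * (r : G) = u j * s := congrArg Subtype.val h
    have hij : i = j := hdis i j (by
      have : (u i)⁻¹ * u j = (r : G) * (s : G)⁻¹ := by
        calc (u i)⁻¹ * u j = (u i)⁻¹ * (u j * s) * (s : G)⁻¹ := by group
          _ = (r : G) * (s : G)⁻¹ := by rw [← h', inv_mul_cancel_left]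
      rw [this]
      exact mul_mem r.2 (inv_mem s.2))
    subst hij
    exact Prod.ext rfl (Subtype.ext (mul_left_cancel h'))
  calc p * p = Nat.card (Fin p × R) := by rw [Nat.card_prod, Nat.card_fin, hR]
    _ ≤ _ := Nat.card_le_card_of_injective f hf

/-- All the classes outside the centre have the smallest possible size. -/
theorem small_class_case {p : ℕ} (hp : p.Prime) (hpG : p = (Nat.card G).minFac)
    (hna : ∃ x : G, x ∉ Subgroup.center G)
    (hA : ∀ g : G, g ∉ Subgroup.center G → (Subgroup.centralizer ({g} : Set G)).index = p) :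
    ∃ S : Set G, (∀ g ∈ S, g ∉ Subgroup.center G) ∧
      (∀ g ∈ S, p * p ≤ Nat.card (MulAction.orbit (MulAut G) g)) ∧
      p * Nat.card (Subgroup.center G) ≤ Nat.card S := by
  classical
  haveI : Fact p.Prime := ⟨hp⟩
  obtain ⟨x₁, hx₁⟩ := hna
  have hnorm : ∀ g : G, g ∉ Subgroup.center G → (Subgroup.centralizer ({g} : Set G)).Normal :=
    fun g hg => Subgroup.normal_of_index_eq_minFac_card (by rw [hA g hg, hpG])
  have hcl : ∀ x h : G, kc x h ∈ Subgroup.center G := by
    intro x h
    rw [Subgroup.mem_center_iff]
    intro g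
    by_cases hg : g ∈ Subgroup.center G
    · exact (Subgroup.mem_center_iff.mp hg _).symm
    haveI := hnorm g hg
    have hq : Nat.card (G ⧸ Subgroup.centralizer ({g} : Set G)) = p := hA g hg
    haveI : IsCyclic (G ⧸ Subgroup.centralizer ({g} : Set G)) := isCyclic_of_prime_card hq
    letI := IsCyclic.commGroup (α := G ⧸ Subgroup.centralizer ({g} : Set G))
    have : kc x h ∈ Subgroup.centralizer ({g} : Set G) := by
      rw [← QuotientGroup.eq_one_iff]
      simp only [kc, QuotientGroup.mk_mul, QuotientGroup.mk_inv]
      rw [mul_assoc, mul_assoc, ← mul_assoc _ (x : G ⧸ Subgroup.centralizer ({g} : Set G)),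
        mul_comm _ (x : G ⧸ Subgroup.centralizer ({g} : Set G)), mul_assoc, inv_mul_cancel_left,
        inv_mul_cancel]
    exact (Subgroup.mem_centralizer_singleton_iff.mp this).symm
  have hkp : ∀ x h : G, kc x h ^ p = 1 := by
    intro x h
    by_cases hx : x ∈ Subgroup.center G
    · rw [kc_eq_one_iff.mpr (Subgroup.mem_centralizer_singleton_iff.mpr
        (Subgroup.mem_center_iff.mp hx h)), one_pow]
    haveI := hnorm x hx
    rw [← kc_pow_right hcl, kc_eq_one_iff, ← QuotientGroup.eq_one_iff, QuotientGroup.mk_pow]
    have hq : Nat.card (G ⧸ Subgroup.centralizer ({x} : Set G)) = p := hA x hx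
    rw [← hq]
    exact pow_card_eq_one'
  have hR : ∀ g : G, g ∉ Subgroup.center G → Nat.card (kcHom hcl g).range = p := fun g hg => by
    rw [card_range_kcHom hcl, hA g hg]
  have hRZ : ∀ g : G, (kcHom hcl g).range ≤ Subgroup.center G := by
    rintro g _ ⟨h, rfl⟩
    exact hcl g h
  have hcls : ∀ g v : G, v ∈ Subgroup.center G → ∀ r ∈ (kcHom hcl g).range,
      ∃ k : G, k⁻¹ * (g * v) * k = g * v * r := by
    rintro g v hv _ ⟨h, rfl⟩
    refine ⟨h, ?_⟩
    rw [kc_conj, kc_mul_left hcl, kc_eq_one_iff.mpr (Subgroup.mem_centralizer_singleton_iff.mpr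
      (Subgroup.mem_center_iff.mp hv h)), mul_one]
    rfl
  -- size of the complement of a centraliser
  have hcompl : ∀ x : G, x ∉ Subgroup.center G →
      p * Nat.card (Subgroup.center G) ≤ Nat.card {g : G // g ∉ Subgroup.centralizer ({x} : Set G)} := by
    intro x hx
    haveI := Fintype.ofFinite G
    set C := Subgroup.centralizer ({x} : Set G)
    have h1 : Nat.card C * p = Nat.card G := by rw [← hA x hx]; exact C.card_mul_index
    have hlt : Subgroup.center G < C := by
      refine lt_of_le_of_ne (Subgroup.center_le_centralizer _) fun h => hx ?_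
      rw [h]
      exact Subgroup.mem_centralizer_singleton_iff.mpr rfl
    have h2 : p * Nat.card (Subgroup.center G) ≤ Nat.card C := by
      have hsub : (Subgroup.center G).subgroupOf C ≠ ⊤ := fun h =>
        hlt.not_ge (Subgroup.subgroupOf_eq_top.mp h)
      have hidx : p ≤ ((Subgroup.center G).subgroupOf C).index := by
        rw [hpG]
        refine Nat.minFac_le_of_dvd ?_ ((Subgroup.index_dvd_card _).trans C.card_subgroup_dvd_card)
        have h0 : ((Subgroup.center G).subgroupOf C).index ≠ 0 := Subgroup.index_ne_zero_of_finite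
        have h1' : ((Subgroup.center G).subgroupOf C).index ≠ 1 := fun h =>
          hsub (Subgroup.index_eq_one.mp h)
        omega
      have h3 := ((Subgroup.center G).subgroupOf C).card_mul_index
      rw [Nat.card_congr (Subgroup.subgroupOfEquivOfLe hlt.le).toEquiv] at h3
      rw [← h3, mul_comm]
      exact Nat.mul_le_mul_left _ hidx
    have h4 : Nat.card {g : G // g ∉ C} = Nat.card G - Nat.card C := by
      rw [Nat.card_eq_fintype_card, Fintype.card_subtype_compl, ← Nat.card_eq_fintype_card,
        ← Nat.card_eq_fintype_card]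
    have h5 : 2 * Nat.card C ≤ Nat.card C * p := by
      rw [mul_comm]; exact Nat.mul_le_mul_left _ hp.two_le
    rw [h4]
    omega
  by_cases hone : ∀ g : G, g ∉ Subgroup.center G →
      ∃ z ∈ Subgroup.center G, z ^ p = 1 ∧ z ∉ (kcHom hcl g).range
  · -- central automorphisms
    refine ⟨{g | g ∉ Subgroup.centralizer ({x₁} : Set G)}, fun g hg hgZ => hg
      (Subgroup.center_le_centralizer _ hgZ), fun g hg => ?_, hcompl x₁ hx₁⟩
    have hgZ : g ∉ Subgroup.center G := fun h => hg (Subgroup.center_le_centralizer _ h)
    obtain ⟨z, hzZ, hzp, hzR⟩ := hone g hgZ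
    have hz1 : z ≠ 1 := fun h => hzR (h ▸ one_mem _)
    have hzo : orderOf z = p := orderOf_eq_prime hzp hz1
    let e : (kcHom hcl x₁).range ≃* Subgroup.zpowers z :=
      mulEquivOfPrimeCardEq (hR x₁ hx₁) (by rw [Nat.card_zpowers, hzo])
    let f : G →* G :=
      (Subgroup.zpowers z).subtype.comp (e.toMonoidHom.comp (kcHom hcl x₁).rangeRestrict)
    have hfmem : ∀ a, f a ∈ Subgroup.zpowers z := fun a =>
      (e ((kcHom hcl x₁).rangeRestrict a)).2
    have hzle : Subgroup.zpowers z ≤ Subgroup.center G := Subgroup.zpowers_le.mpr hzZ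
    have hf0 : ∀ a, a ∈ Subgroup.center G → f a = 1 := by
      intro a ha
      have h : (kcHom hcl x₁).rangeRestrict a = 1 := Subtype.ext (kc_eq_one_iff.mpr
        (Subgroup.center_le_centralizer _ ha))
      simp [f, h]
    have hfg : f g ≠ 1 := by
      intro h
      have h' : e ((kcHom hcl x₁).rangeRestrict g) = 1 := Subtype.ext h
      rw [← map_one e] at h'
      exact hg (kc_eq_one_iff.mp (congrArg Subtype.val (e.injective h')))
    let θ₀ : G →* G := MonoidHom.mk' (fun a => a * f a) fun a b => by
      rw [map_mul]
      calc a * b * (f a * f b) = a * (b * f a) * f b := by simp only [mul_assoc]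
        _ = a * (f a * b) * f b := by rw [Subgroup.mem_center_iff.mp (hzle (hfmem a)) b]
        _ = a * f a * (b * f b) := by simp only [mul_assoc]
    have hinj : Function.Injective θ₀ := by
      rw [injective_iff_map_eq_one]
      intro a ha
      have ha' : a * f a = 1 := ha
      have haZ : a ∈ Subgroup.center G := by
        rw [eq_inv_of_mul_eq_one_left ha']
        exact inv_mem (hzle (hfmem a))
      rwa [hf0 a haZ, mul_one] at ha'
    let θ : MulAut G := MulEquiv.ofBijective θ₀ ⟨hinj, Finite.surjective_of_injective hinj⟩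
    have hpow : ∀ n : ℕ, (θ ^ n) g = g * f g ^ n := by
      intro n
      induction n with
      | zero => simp
      | succ n ih =>
        rw [pow_succ', MulAut.mul_apply, ih]
        show g * f g ^ n * f (g * f g ^ n) = _
        rw [map_mul, hf0 (f g ^ n) (pow_mem (hzle (hfmem g)) n), mul_one, pow_succ, mul_assoc]
    refine sq_le_card_orbit g (kcHom hcl g).range (hR g hgZ) (fun i => g * f g ^ (i : ℕ))
      (fun i => ⟨θ ^ (i : ℕ), hpow i⟩) (fun i r hr => hcls g _ (pow_mem (hzle (hfmem g)) _) r hr) ?_
    have hfo : orderOf (f g) = p := by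
      have := Subgroup.orderOf_dvd_natCard _ (hfmem g)
      rw [Nat.card_zpowers, hzo] at this
      exact ((Nat.dvd_prime hp).mp this).resolve_left (fun h => hfg (orderOf_eq_one_iff.mp h))
    have hsep : ∀ d : ℕ, d < p → f g ^ d ∈ (kcHom hcl g).range → d = 0 := by
      intro d hd hmem
      by_contra hd0
      apply hzR
      have h1 : f g ∈ (kcHom hcl g).range := pow_mem_center_imp hd0 (hpG ▸ hd) hmem
      have h2 : Subgroup.zpowers (f g) = Subgroup.zpowers z :=
        Subgroup.eq_of_le_of_card_ge (Subgroup.zpowers_le.mpr (hfmem g))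
          (by rw [Nat.card_zpowers, Nat.card_zpowers, hzo, hfo])
      exact (Subgroup.zpowers_le.mpr h1) (h2 ▸ Subgroup.mem_zpowers z)
    intro i j hij
    simp only [mul_inv_rev, mul_assoc, inv_mul_cancel_left] at hij
    rcases le_total (i : ℕ) j with h | h
    · obtain ⟨d, hd⟩ := Nat.exists_eq_add_of_le h
      rw [hd, pow_add, inv_mul_cancel_left] at hij
      exact Fin.ext (by rw [hd, hsep d (by have := j.2; omega) hij, add_zero])
    · obtain ⟨d, hd⟩ := Nat.exists_eq_add_of_le h
      rw [hd, pow_add, mul_inv_rev, mul_assoc, inv_mul_cancel, mul_one] at hij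
      exact Fin.ext (by rw [hd, hsep d (by have := i.2; omega) (inv_mem_iff.mp hij), add_zero])
  · -- a single central subgroup of order `p`
    push Not at hone
    obtain ⟨g₀, hg₀, hg₀'⟩ := hone
    set R := (kcHom hcl g₀).range with hRdef
    have hkR : ∀ a b : G, kc a b ∈ R := fun a b => hg₀' _ (hcl a b) (hkp a b)
    -- the squaring type map on the centre
    let pw : Subgroup.center G →* Subgroup.center G := MonoidHom.mk' (fun z => z ^ p) fun a b =>
      (show Commute a b from Subtype.ext (Subgroup.mem_center_iff.mp b.2 a)).mul_pow p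
    have hpwker : Nat.card pw.ker ≤ p := by
      rw [← hR g₀ hg₀]
      refine Nat.card_le_card_of_injective (fun z : pw.ker => (⟨((z : Subgroup.center G) : G),
        hg₀' _ (z : Subgroup.center G).2 (congrArg Subtype.val z.2)⟩ : (kcHom hcl g₀).range)) ?_
      intro a b h
      exact Subtype.ext (Subtype.ext (congrArg (fun r : (kcHom hcl g₀).range => (r : G)) h))
    let D : Subgroup G := pw.range.map (Subgroup.center G).subtype
    have hDmem : ∀ a : G, a ∈ D ↔ ∃ z ∈ Subgroup.center G, z ^ p = a := by
      intro a
      constructor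
      · rintro ⟨_, ⟨z, rfl⟩, rfl⟩
        exact ⟨z, z.2, rfl⟩
      · rintro ⟨z, hz, rfl⟩
        exact ⟨_, ⟨⟨z, hz⟩, rfl⟩, rfl⟩
    have hDZ : D ≤ Subgroup.center G := Subgroup.map_subtype_le _
    have hDidx : pw.range.index ≤ p := by
      have h1 := pw.range.card_mul_index
      have h2 := pw.ker.card_mul_index
      rw [Subgroup.index_ker] at h2
      have h3 : Nat.card pw.range * pw.range.index = Nat.card pw.range * Nat.card pw.ker := by
        rw [h1, mul_comm, h2]
      rw [Nat.eq_of_mul_eq_mul_left Nat.card_pos h3]
      exact hpwker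
    have hpZ : ∀ a : G, a ^ p ∈ Subgroup.center G := by
      intro a
      rw [Subgroup.mem_center_iff]
      intro b
      have h : kc b (a ^ p) = 1 := by rw [kc_pow_right hcl, hkp]
      have := kc_spec b (a ^ p)
      rwa [h, mul_one] at this
    -- a generator of `R`
    let e₀ : R ≃* Multiplicative (ZMod p) :=
      mulEquivOfPrimeCardEq (hR g₀ hg₀) (Nat.card_zmod p)
    set c : G := ((e₀.symm (Multiplicative.ofAdd 1) : R) : G) with hcdef
    have hcR : c ∈ R := (e₀.symm _).2
    have hcZ : c ∈ Subgroup.center G := hRZ g₀ hcR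
    have hcp : c ^ p = 1 := by
      have h := pow_card_eq_one' (x := (e₀.symm (Multiplicative.ofAdd 1) : R))
      rw [hR g₀ hg₀] at h
      exact congrArg Subtype.val h
    set d : G := (c ^ p.choose 2)⁻¹ with hd
    obtain ⟨x, hxZ, hxd⟩ : ∃ x, x ∉ Subgroup.center G ∧ x ^ p = d := by
      have hadj : ∀ x₀, x₀ ∉ Subgroup.center G → ∀ w ∈ Subgroup.center G,
          x₀ ^ p * w ^ p = d → ∃ x, x ∉ Subgroup.center G ∧ x ^ p = d := by
        intro x₀ hx₀ w hw h
        refine ⟨x₀ * w, fun hh => hx₀ ((Subgroup.mul_mem_cancel_right _ hw).mp hh), ?_⟩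
        rw [(show Commute x₀ w from Subgroup.mem_center_iff.mp hw x₀).mul_pow, h]
      by_cases hdD : d ∈ D
      · -- the power map modulo `D`
        let P : G →* Subgroup.center G ⧸ pw.range := MonoidHom.mk'
          (fun a => QuotientGroup.mk ⟨a ^ p, hpZ a⟩) fun a b => by
            rw [← QuotientGroup.mk_mul, QuotientGroup.eq]
            have hk : kc b a ^ p.choose 2 ∈ D := by
              rcases hp.eq_two_or_odd' with h2 | h2
              · subst h2
                rcases eq_or_ne (kc b a) 1 with h1 | h1
                · rw [h1, one_pow]; exact one_mem _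
                · have hcd : c ∈ D := by
                    have : d = c⁻¹ := by rw [hd]; simp
                    rw [this] at hdD
                    exact inv_mem_iff.mp hdD
                  have hc1 : c ≠ 1 := by
                    intro h
                    rw [hcdef] at h
                    have h' : e₀.symm (Multiplicative.ofAdd 1) = 1 := Subtype.ext h
                    rw [← map_one e₀.symm] at h'
                    exact one_ne_zero (α := ZMod 2) (Multiplicative.ofAdd.injective
                      (e₀.symm.injective h'))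
                  have hRc : Nat.card R = 2 := hR g₀ hg₀
                  have huniq := (Nat.card_eq_two_iff' (1 : R)).mp hRc
                  have : kc b a = c := congrArg Subtype.val (huniq.unique
                    (y₁ := ⟨kc b a, hkR b a⟩) (y₂ := ⟨c, hcR⟩)
                    (fun h => h1 (congrArg Subtype.val h)) (fun h => hc1 (congrArg Subtype.val h)))
                  rw [this]
                  exact pow_mem hcd _
              · obtain ⟨m, hm⟩ := h2
                rw [Nat.choose_two_right, hm, show (2 * m + 1) * (2 * m + 1 - 1) / 2 =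
                  (2 * m + 1) * m by rw [Nat.add_sub_cancel, mul_left_comm]; simp, ← hm, pow_mul,
                  hkp, one_pow]
                exact one_mem _
            obtain ⟨z, hz, hzk⟩ := (hDmem _).mp hk
            refine ⟨⟨z, hz⟩⁻¹, Subtype.ext ?_⟩
            show (z⁻¹) ^ p = ((a * b) ^ p)⁻¹ * (a ^ p * b ^ p)
            rw [mul_pow_class_two hcl, inv_pow, hzk]
            group
        have hker : P.ker ≠ ⊤ → ∃ x₀, x₀ ∉ Subgroup.center G ∧ P x₀ = 1 := by
          intro _
          by_contra hno
          push Not at hno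
          have hle : P.ker ≤ Subgroup.center G := fun a ha => by
            by_contra hh
            exact hno a hh ha
          have h1 : (Subgroup.center G).index ≤ p := by
            refine le_trans (Nat.le_of_dvd ?_ (Subgroup.index_dvd_of_le hle)) ?_
            · exact Nat.pos_of_ne_zero Subgroup.index_ne_zero_of_finite
            · rw [Subgroup.index_ker]
              exact le_trans (Nat.card_le_card_of_injective _ Subtype.val_injective) hDidx
          have h2 := hcompl x₁ hx₁
          have h3 : Nat.card G = Nat.card (Subgroup.center G) * (Subgroup.center G).index :=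
            (Subgroup.card_mul_index _).symm
          have h4 : Nat.card {g : G // g ∉ Subgroup.centralizer ({x₁} : Set G)} < Nat.card G := by
            haveI := Fintype.ofFinite G
            rw [Nat.card_eq_fintype_card, Nat.card_eq_fintype_card]
            exact Fintype.card_subtype_lt (x := x₁)
              (fun h => h (Subgroup.mem_centralizer_singleton_iff.mpr rfl))
          have h5 : Nat.card G ≤ p * Nat.card (Subgroup.center G) := by
            rw [h3, mul_comm]; exact Nat.mul_le_mul_right _ h1
          omega
        obtain ⟨x₀, hx₀, hPx₀⟩ : ∃ x₀, x₀ ∉ Subgroup.center G ∧ P x₀ = 1 := by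
          by_cases hk : P.ker = ⊤
          · exact ⟨x₁, hx₁, MonoidHom.mem_ker.mp (hk ▸ Subgroup.mem_top _)⟩
          · exact hker hk
        obtain ⟨⟨z, hz⟩, hzx⟩ := (QuotientGroup.eq_one_iff _).mp hPx₀
        have hzx' : z ^ p = x₀ ^ p := congrArg Subtype.val hzx
        obtain ⟨w, hw, hwd⟩ := (hDmem _).mp hdD
        refine hadj x₀ hx₀ (z⁻¹ * w) (mul_mem (inv_mem hz) hw) ?_
        rw [(show Commute z⁻¹ w from Subgroup.mem_center_iff.mp hw z⁻¹).mul_pow, inv_pow, hzx',
          hwd, mul_inv_cancel_left]
      · rcases hp.eq_two_or_odd' with h2 | h2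
        swap
        · exfalso
          apply hdD
          obtain ⟨m, hm⟩ := h2
          rw [hd, Nat.choose_two_right, hm, show (2 * m + 1) * (2 * m + 1 - 1) / 2 =
            (2 * m + 1) * m by rw [Nat.add_sub_cancel, mul_left_comm]; simp, ← hm, pow_mul, hcp,
            one_pow, inv_one]
          exact one_mem _
        by_cases hsq : ∃ x₀, x₀ ∉ Subgroup.center G ∧ x₀ ^ p ∉ D
        · obtain ⟨x₀, hx₀, hx₀D⟩ := hsq
          have hdZ : d ∈ Subgroup.center G := inv_mem (pow_mem hcZ _)
          have hcard : Nat.card (Subgroup.center G ⧸ pw.range) = 2 := by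
            refine le_antisymm (h2 ▸ hDidx) ?_
            have h1 : pw.range.index ≠ 0 := Subgroup.index_ne_zero_of_finite
            have h3 : pw.range.index ≠ 1 := by
              intro h
              rw [Subgroup.index_eq_one] at h
              exact hdD ⟨⟨d, hdZ⟩, h ▸ Subgroup.mem_top _, rfl⟩
            show 2 ≤ pw.range.index
            omega
          have huniq := (Nat.card_eq_two_iff' (1 : Subgroup.center G ⧸ pw.range)).mp hcard
          have heq := huniq.unique (y₁ := QuotientGroup.mk ⟨x₀ ^ p, hpZ x₀⟩)
            (y₂ := QuotientGroup.mk ⟨d, hdZ⟩)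
            (fun h => hx₀D ⟨_, (QuotientGroup.eq_one_iff _).mp h, rfl⟩)
            (fun h => hdD ⟨_, (QuotientGroup.eq_one_iff _).mp h, rfl⟩)
          obtain ⟨⟨w, hw⟩, hwe⟩ := QuotientGroup.eq.mp heq
          refine hadj x₀ hx₀ w hw ?_
          have hwe' : w ^ p = (x₀ ^ p)⁻¹ * d := congrArg Subtype.val hwe
          rw [hwe', mul_inv_cancel_left]
        · exfalso
          push Not at hsq
          subst h2
          obtain ⟨y, hy⟩ : ∃ y, kc x₁ y ≠ 1 := by
            by_contra hh
            push Not at hh
            exact hx₁ (Subgroup.mem_center_iff.mpr fun b =>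
              Subgroup.mem_centralizer_singleton_iff.mp (kc_eq_one_iff.mp (hh b)))
          have hyZ : y ∉ Subgroup.center G := fun h => hy (kc_eq_one_iff.mpr
            (Subgroup.mem_centralizer_singleton_iff.mpr (Subgroup.mem_center_iff.mp h x₁).symm))
          have hxy : x₁ * y ∉ Subgroup.center G := fun h => hy (by
            have := kc_eq_one_iff.mpr (Subgroup.mem_centralizer_singleton_iff.mpr
              (Subgroup.mem_center_iff.mp h y) : y ∈ Subgroup.centralizer ({x₁ * y} : Set G))
            rw [kc_mul_left hcl, show kc y y = 1 from kc_eq_one_iff.mpr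
              (Subgroup.mem_centralizer_singleton_iff.mpr rfl), mul_one] at this
            exact this)
          apply hdD
          have hk : kc y x₁ ∈ D := by
            have h := hsq _ hxy
            rw [mul_pow_class_two hcl, Nat.choose_self, pow_one] at h
            exact (Subgroup.mul_mem_cancel_left _ (mul_mem (hsq _ hx₁) (hsq _ hyZ))).mp h
          have hRc : Nat.card R = 2 := hR g₀ hg₀
          have huniq := (Nat.card_eq_two_iff' (1 : R)).mp hRc
          rw [hd, Nat.choose_self, pow_one]
          refine inv_mem ?_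
          rcases eq_or_ne c 1 with hc | hc
          · rw [hc]; exact one_mem _
          have : kc y x₁ = c := congrArg Subtype.val (huniq.unique
            (y₁ := ⟨kc y x₁, hkR y x₁⟩) (y₂ := ⟨c, hcR⟩)
            (fun h => hy (by
              have h' : kc y x₁ = 1 := congrArg Subtype.val h
              rw [kc_swap y x₁, h', inv_one]))
            (fun h => hc (congrArg Subtype.val h)))
          exact this ▸ hk
    -- the transvection
    let al : G →* Multiplicative (ZMod p) :=
      e₀.toMonoidHom.comp ((kcHom hcl x).codRestrict R fun a => hkR x a)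
    let na : G → ℕ := fun a => (Multiplicative.toAdd (al a)).val
    have hc_pow : ∀ a, c ^ na a = kc x a := by
      intro a
      have h : (e₀.symm (Multiplicative.ofAdd 1)) ^ na a = ⟨kc x a, hkR x a⟩ := by
        rw [← map_pow, ← ofAdd_nsmul, nsmul_one, ZMod.natCast_zmod_val, ofAdd_toAdd]
        exact e₀.symm_apply_apply _
      exact congrArg Subtype.val h
    have hxc : ∀ (m k : ℕ) , x ^ m * c ^ k = c ^ k * x ^ m := fun m k =>
      Subgroup.mem_center_iff.mp (pow_mem hcZ k) _
    let F : ℕ → G := fun m => x ^ m * c ^ m.choose 2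
    have hFp : ∀ m, F (m + p) = F m := by
      intro m
      have h1 : (m + p).choose 2 = m.choose 2 + p.choose 2 + m * p := by
        have := Nat.add_choose_eq m p 2
        rw [Finset.Nat.antidiagonal_succ, Finset.sum_cons, Finset.Nat.antidiagonal_succ] at this
        simp at this
        rw [this]; ring
      simp only [F, h1, pow_add, hxd]
      rw [pow_mul', hcp, one_pow, mul_one, hd, mul_assoc, ← mul_assoc (c ^ p.choose 2)⁻¹,
        ← Subgroup.mem_center_iff.mp (inv_mem (pow_mem hcZ (p.choose 2))) (c ^ m.choose 2),
        mul_assoc, inv_mul_cancel, mul_one]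
    have hFmod : ∀ m, F m = F (m % p) := by
      intro m
      conv_lhs => rw [← Nat.mod_add_div m p]
      induction m / p with
      | zero => simp
      | succ k ih => rw [Nat.mul_succ, ← add_assoc, hFp, ih]
    let T₀ : G →* G := MonoidHom.mk' (fun a => a * F (na a)) fun a b => by
      have hval : F (na (a * b)) = F (na a + na b) := by
        rw [hFmod (na a + na b)]
        simp only [na, map_mul, toAdd_mul, ZMod.val_add]
      have hch : (na a + na b).choose 2 = (na a).choose 2 + (na b).choose 2 + na a * na b := by
        have := Nat.add_choose_eq (na a) (na b) 2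
        rw [Finset.Nat.antidiagonal_succ, Finset.sum_cons, Finset.Nat.antidiagonal_succ] at this
        simp at this
        rw [this]; ring
      have hswap : x ^ na a * b = b * x ^ na a * c ^ (na a * na b) := by
        rw [mul_comm (na a), pow_mul, hc_pow, ← kc_pow_left hcl]
        exact kc_spec _ _
      have hz : ∀ k : ℕ, ∀ u : G, c ^ k * u = u * c ^ k := fun k u =>
        (Subgroup.mem_center_iff.mp (pow_mem hcZ k) u).symm
      rw [hval]
      show a * b * (x ^ (na a + na b) * c ^ (na a + na b).choose 2) =
        a * (x ^ na a * c ^ (na a).choose 2) * (b * (x ^ na b * c ^ (na b).choose 2))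
      rw [hch, pow_add, pow_add, pow_add]
      symm
      calc a * (x ^ na a * c ^ (na a).choose 2) * (b * (x ^ na b * c ^ (na b).choose 2))
          = a * (x ^ na a * b) * x ^ na b * (c ^ (na a).choose 2 * c ^ (na b).choose 2) := by
            simp only [mul_assoc]
            rw [← mul_assoc (c ^ (na a).choose 2) b, hz _ b, mul_assoc,
              ← mul_assoc (c ^ (na a).choose 2) (x ^ na b), hz _ (x ^ na b), mul_assoc]
        _ = a * (b * x ^ na a * c ^ (na a * na b)) * x ^ na b *
              (c ^ (na a).choose 2 * c ^ (na b).choose 2) := by rw [hswap]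
        _ = _ := by
            simp only [mul_assoc]
            rw [← mul_assoc (c ^ (na a * na b)) (x ^ na b), hz _ (x ^ na b), mul_assoc,
              hz (na a * na b)]
            simp only [mul_assoc]
    have halx : ∀ m k : ℕ, al (x ^ m * c ^ k) = 1 := by
      intro m k
      have h1 : al x = 1 := by
        have : (kcHom hcl x).codRestrict R (fun a => hkR x a) x = 1 :=
          Subtype.ext (kc_eq_one_iff.mpr (Subgroup.mem_centralizer_singleton_iff.mpr rfl))
        simp [al, this]
      have h2 : al c = 1 := by
        have : (kcHom hcl x).codRestrict R (fun a => hkR x a) c = 1 :=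
          Subtype.ext (kc_eq_one_iff.mpr (Subgroup.center_le_centralizer _ hcZ))
        simp [al, this]
      rw [map_mul, map_pow, map_pow, h1, h2, one_pow, one_pow, one_mul]
    have hinj : Function.Injective T₀ := by
      rw [injective_iff_map_eq_one]
      intro a ha
      have ha' : a * F (na a) = 1 := ha
      have h1 : al a = 1 := by
        have := congrArg al ha'
        rwa [map_mul, halx, mul_one, map_one] at this
      have h0 : na a = 0 := by simp [na, h1]
      simpa [h0, F] using ha'
    let T : MulAut G := MulEquiv.ofBijective T₀ ⟨hinj, Finite.surjective_of_injective hinj⟩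
    refine ⟨{g | g ∉ Subgroup.centralizer ({x} : Set G)}, fun g hg hgZ => hg
      (Subgroup.center_le_centralizer _ hgZ), fun g hg => ?_, hcompl x hxZ⟩
    have hgZ : g ∉ Subgroup.center G := fun h => hg (Subgroup.center_le_centralizer _ h)
    have hng : na g ≠ 0 := by
      intro h
      apply hg
      rw [← kc_eq_one_iff, ← hc_pow, h, pow_zero]
    have hngp : na g < p := ZMod.val_lt _
    have hFz : ∀ j : ℕ, ∃ v ∈ Subgroup.center G, (T ^ j) g = g * x ^ (na g * j) * v := by
      intro j
      induction j with
      | zero => exact ⟨1, one_mem _, by simp⟩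
      | succ j ih =>
        obtain ⟨v, hv, hT⟩ := ih
        refine ⟨c ^ (na g).choose 2 * v * F (na v), ?_, ?_⟩
        · have h0 : al v = 1 := by
            have : (kcHom hcl x).codRestrict R (fun a => hkR x a) v = 1 :=
              Subtype.ext (kc_eq_one_iff.mpr (Subgroup.center_le_centralizer _ hv))
            simp [al, this]
          have : na v = 0 := by simp [na, h0]
          simp only [this, F, pow_zero, Nat.choose_zero_succ, mul_one]
          exact mul_mem (pow_mem hcZ _) hv
        · rw [pow_succ', MulAut.mul_apply, hT]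
          show T₀ (g * x ^ (na g * j) * v) = _
          rw [map_mul, map_mul]
          have hx0 : na (x ^ (na g * j)) = 0 := by
            have := halx (na g * j) 0
            rw [pow_zero, mul_one] at this
            simp [na, this]
          show g * F (na g) * (x ^ (na g * j) * F (na (x ^ (na g * j)))) * (v * F (na v)) = _
          rw [hx0]
          simp only [F, pow_zero, Nat.choose_zero_succ, mul_one, Nat.mul_succ, pow_add]
          have hz := Subgroup.mem_center_iff.mp (pow_mem hcZ ((na g).choose 2)) (x ^ (na g * j))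
          have hc' : x ^ (na g * j) * x ^ na g = x ^ na g * x ^ (na g * j) := by
            rw [← pow_add, ← pow_add, add_comm]
          simp only [mul_assoc]
          rw [← mul_assoc (x ^ (na g * j)) (x ^ na g), hc', mul_assoc,
            ← mul_assoc (c ^ (na g).choose 2) (x ^ (na g * j)), ← hz, mul_assoc]
    choose v hv hT using hFz
    refine sq_le_card_orbit g R (hR g₀ hg₀) (fun i => (T ^ (i : ℕ)) g)
      (fun i => ⟨T ^ (i : ℕ), rfl⟩) (fun i r hr => ?_) (fun i j hij => ?_)
    · have hu : (T ^ (i : ℕ)) g ∉ Subgroup.center G := by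
        intro h
        apply hgZ
        have h' := Subgroup.Characteristic.fixed (H := Subgroup.center G) inferInstance
          (T ^ (i : ℕ))
        rw [← h']
        exact h
      have hRu : (kcHom hcl ((T ^ (i : ℕ)) g)).range = R :=
        Subgroup.eq_of_le_of_card_ge (by rintro _ ⟨b, rfl⟩; exact hkR _ b)
          (by rw [hR _ hu, hR g₀ hg₀])
      obtain ⟨k, rfl⟩ := (hRu ▸ hr : r ∈ (kcHom hcl ((T ^ (i : ℕ)) g)).range)
      exact ⟨k, kc_conj _ _⟩
    · have hdiff : ∀ i j : Fin p, (i : ℕ) ≤ j → ((T ^ (i : ℕ)) g)⁻¹ * (T ^ (j : ℕ)) g ∈ R →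
          i = j := by
        intro i j hle hmem
        obtain ⟨e, he⟩ := Nat.exists_eq_add_of_le hle
        rw [hT, hT, he, Nat.mul_add, pow_add] at hmem
        have h1 : (g * x ^ (na g * (i : ℕ)) * v i)⁻¹ *
            (g * (x ^ (na g * (i : ℕ)) * x ^ (na g * e)) * v (i + e)) =
            (v i)⁻¹ * x ^ (na g * e) * v (i + e) := by group
        rw [h1] at hmem
        have h2 : x ^ (na g * e) ∈ Subgroup.center G :=
          (Subgroup.mul_mem_cancel_left _ (inv_mem (hv i))).mp
            ((Subgroup.mul_mem_cancel_right _ (hv (i + e))).mp (hRZ g₀ hmem))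
        rcases Nat.eq_zero_or_pos e with h0 | h0
        · exact Fin.ext (by omega)
        · exfalso
          rw [pow_mul] at h2
          exact hxZ (pow_mem_center_imp hng (hpG ▸ hngp)
            (pow_mem_center_imp h0.ne' (hpG ▸ (by have := j.2; omega : e < p)) h2))
      rcases le_total (i : ℕ) j with h | h
      · exact hdiff i j h hij
      · refine (hdiff j i h ?_).symm
        have := inv_mem hij
        rwa [mul_inv_rev, inv_inv] at this

/-- Some class outside the centre is larger than the smallest prime. -/
theorem large_class_case {p : ℕ} (hp : p.Prime) (hpG : p = (Nat.card G).minFac)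
    (h : ∃ g : G, p < (Subgroup.centralizer ({g} : Set G)).index) :
    ∃ (S : Set G) (c : ℕ), 0 < c ∧ (∀ g ∈ S, g ∉ Subgroup.center G) ∧
      (∀ g ∈ S, c ≤ Nat.card (MulAction.orbit (MulAut G) g)) ∧
      (p - 1) * Nat.card (Subgroup.center G) * c ≤ Nat.card S * (c - p) := by
  classical
  haveI : Fact p.Prime := ⟨hp⟩
  haveI := Fintype.ofFinite G
  let cl : G → ℕ := fun g => (Subgroup.centralizer ({g} : Set G)).index
  let S : Set G := {g | p < cl g}
  have hScentre : ∀ g ∈ S, g ∉ Subgroup.center G := by
    intro g hg hgZ
    have : cl g = 1 := by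
      refine Subgroup.index_eq_one.mpr (eq_top_iff.mpr fun a _ => ?_)
      exact Subgroup.mem_centralizer_singleton_iff.mpr (Subgroup.mem_center_iff.mp hgZ a)
    have h1 : p < cl g := hg
    have := hp.two_le
    omega
  have hsmallp : ∀ g, g ∉ S → g ∉ Subgroup.center G → cl g = p := by
    intro g hg hgZ
    refine le_antisymm (not_lt.mp hg) ?_
    rw [hpG]
    refine minFac_le_index fun h => hgZ (Subgroup.mem_center_iff.mpr fun u =>
      Subgroup.mem_centralizer_singleton_iff.mp (h ▸ Subgroup.mem_top u))
  obtain ⟨x, hxS, hxmin⟩ := Finset.exists_min_image (Finset.univ.filter fun g => g ∈ S) cl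
    (h.elim fun g hg => ⟨g, Finset.mem_filter.mpr ⟨Finset.mem_univ _, hg⟩⟩)
  replace hxS : x ∈ S := (Finset.mem_filter.mp hxS).2
  have hxc : p < cl x := hxS
  have hxmin' : ∀ g ∈ S, cl x ≤ cl g := fun g hg =>
    hxmin g (Finset.mem_filter.mpr ⟨Finset.mem_univ _, hg⟩)
  let M : Subgroup G := Subgroup.closure {g | g ∉ S}
  by_cases hM : M = ⊤
  · -- nilpotency class two
    have hnorm : ∀ g : G, g ∉ S → g ∉ Subgroup.center G →
        (Subgroup.centralizer ({g} : Set G)).Normal := fun g hg hgZ =>
      Subgroup.normal_of_index_eq_minFac_card ((hsmallp g hg hgZ).trans hpG)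
    have hcl : ∀ a b : G, kc a b ∈ Subgroup.center G := by
      intro a b
      rw [Subgroup.mem_center_iff]
      have hle : M ≤ Subgroup.centralizer ({kc a b} : Set G) := by
        rw [Subgroup.closure_le]
        intro g hg
        rw [SetLike.mem_coe, Subgroup.mem_centralizer_singleton_iff]
        by_cases hgZ : g ∈ Subgroup.center G
        · exact (Subgroup.mem_center_iff.mp hgZ _).symm
        haveI := hnorm g hg hgZ
        have hq : Nat.card (G ⧸ Subgroup.centralizer ({g} : Set G)) = p := hsmallp g hg hgZ
        haveI : IsCyclic (G ⧸ Subgroup.centralizer ({g} : Set G)) := isCyclic_of_prime_card hq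
        letI := IsCyclic.commGroup (α := G ⧸ Subgroup.centralizer ({g} : Set G))
        have : kc a b ∈ Subgroup.centralizer ({g} : Set G) := by
          rw [← QuotientGroup.eq_one_iff]
          simp only [kc, QuotientGroup.mk_mul, QuotientGroup.mk_inv]
          rw [mul_assoc, mul_assoc, ← mul_assoc _ (a : G ⧸ Subgroup.centralizer ({g} : Set G)),
            mul_comm _ (a : G ⧸ Subgroup.centralizer ({g} : Set G)), mul_assoc, inv_mul_cancel_left,
            inv_mul_cancel]
        exact (Subgroup.mem_centralizer_singleton_iff.mp this).symm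
      intro u
      exact Subgroup.mem_centralizer_singleton_iff.mp (hle (hM ▸ Subgroup.mem_top u))
    have hkp : ∀ a b : G, kc a b ^ p = 1 := by
      intro a b
      have hle : M ≤ (kcHom hcl (b ^ p)).ker := by
        rw [Subgroup.closure_le]
        intro g hg
        rw [SetLike.mem_coe, MonoidHom.mem_ker]
        show kc (b ^ p) g = 1
        rw [kc_swap g (b ^ p), inv_eq_one]
        by_cases hgZ : g ∈ Subgroup.center G
        · exact kc_eq_one_iff.mpr (Subgroup.mem_centralizer_singleton_iff.mpr
            (Subgroup.mem_center_iff.mp hgZ _))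
        haveI := hnorm g hg hgZ
        rw [kc_eq_one_iff, ← QuotientGroup.eq_one_iff, QuotientGroup.mk_pow]
        have hq : Nat.card (G ⧸ Subgroup.centralizer ({g} : Set G)) = p := hsmallp g hg hgZ
        rw [← hq]
        exact pow_card_eq_one'
      have h1 : kc (b ^ p) a = 1 := hle (hM ▸ Subgroup.mem_top a)
      rw [kc_swap b a, inv_pow, ← kc_pow_left hcl, h1, inv_one]
    have hsq : ∀ g ∈ S, p * p ≤ cl g := by
      intro g hg
      have hP : IsPGroup p (kcHom hcl g).range := by
        rintro ⟨_, b, rfl⟩
        exact ⟨1, Subtype.ext (by rw [pow_one]; exact hkp g b)⟩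
      obtain ⟨k, hk⟩ := IsPGroup.iff_card.mp hP
      have h1 : cl g = p ^ k := by rw [← hk, card_range_kcHom hcl]
      have h2 : p < p ^ k := h1 ▸ hg
      have hk2 : 2 ≤ k := by
        rcases k with _ | _ | k
        · rw [pow_zero] at h2; have := hp.two_le; omega
        · rw [zero_add, pow_one] at h2; omega
        · omega
      rw [h1, ← pow_two]
      exact Nat.pow_le_pow_right hp.pos hk2
    -- one further element
    obtain ⟨u, huS, hux⟩ : ∃ u ∈ S, kc x u ≠ 1 := by
      obtain ⟨t, ht, htx⟩ : ∃ t, t ∉ S ∧ kc x t ≠ 1 := by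
        by_contra hh
        push Not at hh
        have : M ≤ Subgroup.centralizer ({x} : Set G) := (Subgroup.closure_le _).mpr fun g hg =>
          kc_eq_one_iff.mp (hh g hg)
        rw [hM] at this
        exact hScentre x hxS (Subgroup.mem_center_iff.mpr fun a =>
          Subgroup.mem_centralizer_singleton_iff.mp (this (Subgroup.mem_top a)))
      by_cases hxt : x * t ∈ S
      · refine ⟨x * t, hxt, ?_⟩
        rw [kc_mul_right hcl, show kc x x = 1 from kc_eq_one_iff.mpr
          (Subgroup.mem_centralizer_singleton_iff.mpr rfl), one_mul]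
        exact htx
      have htZ : t ∉ Subgroup.center G := fun h => htx (kc_eq_one_iff.mpr
        (Subgroup.center_le_centralizer _ h))
      have hxtZ : x * t ∉ Subgroup.center G := fun h => htx (by
        have h' : kc x (x * t) = 1 := kc_eq_one_iff.mpr (Subgroup.center_le_centralizer _ h)
        rwa [kc_mul_right hcl, show kc x x = 1 from kc_eq_one_iff.mpr
          (Subgroup.mem_centralizer_singleton_iff.mpr rfl), one_mul] at h')
      set A := (kcHom hcl t).range with hAdef
      set B := (kcHom hcl (x * t)).range with hBdef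
      have hAc : Nat.card A = p := by rw [hAdef, card_range_kcHom hcl]; exact hsmallp t ht htZ
      have hBc : Nat.card B = p := by rw [hBdef, card_range_kcHom hcl]; exact hsmallp _ hxt hxtZ
      have hAB : A ≠ B := by
        intro hab
        have hle : (kcHom hcl x).range ≤ A := by
          rintro _ ⟨b, rfl⟩
          have h1 : kc (x * t) b ∈ A := hab ▸ ⟨b, rfl⟩
          rw [kc_mul_left hcl] at h1
          exact (Subgroup.mul_mem_cancel_right _ (⟨b, rfl⟩ : kc t b ∈ A)).mp h1
        have h2 := Subgroup.card_le_of_le hle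
        rw [hAc, card_range_kcHom hcl] at h2
        exact absurd hxc (by show ¬ p < cl x; exact not_lt.mpr h2)
      have hinter : ∀ z, z ∈ A → z ∈ B → z = 1 := by
        intro z hzA hzB
        by_contra hz
        have ho : orderOf z = p := by
          have := Subgroup.orderOf_dvd_natCard _ hzA
          rw [hAc] at this
          exact ((Nat.dvd_prime hp).mp this).resolve_left fun h => hz (orderOf_eq_one_iff.mp h)
        have e1 := Subgroup.eq_of_le_of_card_ge (Subgroup.zpowers_le.mpr hzA)
          (by rw [Nat.card_zpowers, ho, hAc])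
        have e2 := Subgroup.eq_of_le_of_card_ge (Subgroup.zpowers_le.mpr hzB)
          (by rw [Nat.card_zpowers, ho, hBc])
        exact hAB (e1.symm.trans e2)
      -- centralisers of `t` and `x * t` differ
      obtain ⟨y, hy1, hy2⟩ : ∃ y, kc (x * t) y = 1 ∧ kc t y ≠ 1 := by
        by_contra hh
        push Not at hh
        have hle : Subgroup.centralizer ({x * t} : Set G) ≤ Subgroup.centralizer ({t} : Set G) :=
          fun a ha => kc_eq_one_iff.mp (hh a (kc_eq_one_iff.mpr ha))
        have heq : Subgroup.centralizer ({x * t} : Set G) = Subgroup.centralizer ({t} : Set G) := by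
          refine Subgroup.eq_of_le_of_card_ge hle ?_
          have h1 := (Subgroup.centralizer ({x * t} : Set G)).card_mul_index
          have h2 := (Subgroup.centralizer ({t} : Set G)).card_mul_index
          rw [show (Subgroup.centralizer ({x * t} : Set G)).index = p from hsmallp _ hxt hxtZ] at h1
          rw [show (Subgroup.centralizer ({t} : Set G)).index = p from hsmallp t ht htZ, ← h1] at h2
          exact (Nat.eq_of_mul_eq_mul_right hp.pos h2).le
        have hle' : Subgroup.centralizer ({t} : Set G) ≤ Subgroup.centralizer ({x} : Set G) := by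
          intro a ha
          rw [← kc_eq_one_iff]
          have h1 : kc (x * t) a = 1 := kc_eq_one_iff.mpr (heq ▸ ha)
          rwa [kc_mul_left hcl, kc_eq_one_iff.mpr ha, mul_one] at h1
        have h2 := Subgroup.index_antitone hle'
        rw [show (Subgroup.centralizer ({t} : Set G)).index = p from hsmallp t ht htZ] at h2
        exact absurd h2 (not_le.mpr hxc)
      obtain ⟨w, hw1, hw2⟩ : ∃ w, kc t w = 1 ∧ kc (x * t) w ≠ 1 := by
        by_contra hh
        push Not at hh
        have hle : Subgroup.centralizer ({t} : Set G) ≤ Subgroup.centralizer ({x} : Set G) := by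
          intro a ha
          rw [← kc_eq_one_iff]
          have h1 := hh a (kc_eq_one_iff.mpr ha)
          rwa [kc_mul_left hcl, kc_eq_one_iff.mpr ha, mul_one] at h1
        have h2 := Subgroup.index_antitone hle
        rw [show (Subgroup.centralizer ({t} : Set G)).index = p from hsmallp t ht htZ] at h2
        exact absurd h2 (not_le.mpr hxc)
      have ha : kc t (y * w) = kc t y := by rw [kc_mul_right hcl, hw1, mul_one]
      have hb : kc (x * t) (y * w) = kc (x * t) w := by rw [kc_mul_right hcl, hy1, one_mul]
      refine ⟨y * w, ?_, ?_⟩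
      · by_contra hns
        have hywZ : y * w ∉ Subgroup.center G := fun h => hy2 (by
          rw [← ha]; exact kc_eq_one_iff.mpr (Subgroup.center_le_centralizer _ h))
        set C := (kcHom hcl (y * w)).range with hCdef
        have hCc : Nat.card C = p := by
          rw [hCdef, card_range_kcHom hcl]; exact hsmallp _ hns hywZ
        have hmemA : kc t y ∈ C := ⟨t⁻¹, by
          show kc (y * w) t⁻¹ = _
          rw [← ha, kc_swap t⁻¹ (y * w)]
          have h1 : kc t (y * w) * kc t⁻¹ (y * w) = 1 := by
            rw [← kc_mul_left hcl, mul_inv_cancel]; simp [kc]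
          rw [eq_inv_of_mul_eq_one_right h1, inv_inv]⟩
        have hmemB : kc (x * t) w ∈ C := ⟨(x * t)⁻¹, by
          show kc (y * w) (x * t)⁻¹ = _
          rw [← hb, kc_swap (x * t)⁻¹ (y * w)]
          have h1 : kc (x * t) (y * w) * kc (x * t)⁻¹ (y * w) = 1 := by
            rw [← kc_mul_left hcl, mul_inv_cancel]; simp [kc]
          rw [eq_inv_of_mul_eq_one_right h1, inv_inv]⟩
        have hC : C = A := by
          have ho : orderOf (kc t y) = p := orderOf_eq_prime (hkp _ _) hy2
          have e1 := Subgroup.eq_of_le_of_card_ge (Subgroup.zpowers_le.mpr hmemA)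
            (by rw [Nat.card_zpowers, ho, hCc])
          have e2 := Subgroup.eq_of_le_of_card_ge
            (Subgroup.zpowers_le.mpr (show kc t y ∈ A from ⟨y, rfl⟩)) (by rw [Nat.card_zpowers, ho, hAc])
          exact e1.symm.trans e2
        exact hw2 (hinter _ (hC ▸ hmemB) ⟨w, rfl⟩)
      · intro h1
        apply hy2
        rw [← ha]
        refine hinter _ ⟨y * w, rfl⟩ ⟨y * w, ?_⟩
        show kc (x * t) (y * w) = kc t (y * w)
        rw [kc_mul_left hcl, h1, one_mul]
    refine ⟨S, p * p, Nat.mul_pos hp.pos hp.pos, hScentre,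
      fun g hg => (hsq g hg).trans (index_le_card_orbit g), ?_⟩
    -- `p` cosets of the centre in `S`
    have hSmul : ∀ g z : G, z ∈ Subgroup.center G → cl (g * z) = cl g := by
      intro g z hz
      refine congrArg Subgroup.index (Subgroup.ext fun a => ?_)
      rw [← kc_eq_one_iff, ← kc_eq_one_iff, kc_mul_left hcl,
        show kc z a = 1 from kc_eq_one_iff.mpr (Subgroup.mem_centralizer_singleton_iff.mpr
          (Subgroup.mem_center_iff.mp hz a)), mul_one]
    let rep : Fin p → G := fun j => if (j : ℕ) = 0 then u else x ^ (j : ℕ)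
    have hrepS : ∀ j : Fin p, rep j ∈ S := by
      intro j
      simp only [rep]
      split
      · exact huS
      · rename_i hj
        show p < cl (x ^ (j : ℕ))
        have : cl x ≤ cl (x ^ (j : ℕ)) := by
          refine Nat.le_of_dvd (Nat.pos_of_ne_zero Subgroup.index_ne_zero_of_finite)
            (Subgroup.index_dvd_of_le fun a ha => ?_)
          have h1 : x ∈ Subgroup.centralizer ({a} : Set G) := pow_mem_center_imp hj (hpG ▸ j.2)
            (Subgroup.mem_centralizer_singleton_iff.mpr
              (Subgroup.mem_centralizer_singleton_iff.mp ha).symm)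
          exact Subgroup.mem_centralizer_singleton_iff.mpr
            (Subgroup.mem_centralizer_singleton_iff.mp h1).symm
        omega
    have hrep : ∀ i j : Fin p, (rep i)⁻¹ * rep j ∈ Subgroup.center G → i = j := by
      have hu0 : ∀ m : ℕ, u⁻¹ * x ^ m ∉ Subgroup.center G := by
        intro m hm
        apply hux
        have h1 : kc x (u⁻¹ * x ^ m) = 1 := kc_eq_one_iff.mpr (Subgroup.center_le_centralizer _ hm)
        rw [kc_mul_right hcl, kc_pow_right hcl, show kc x x = 1 from kc_eq_one_iff.mpr
          (Subgroup.mem_centralizer_singleton_iff.mpr rfl), one_pow, mul_one] at h1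
        have h2 : kc x u⁻¹ * kc x u = 1 := by rw [← kc_mul_right hcl, inv_mul_cancel]; simp [kc]
        rwa [h1, one_mul] at h2
      intro i j hij
      simp only [rep] at hij
      split at hij <;> split at hij
      · exact Fin.ext (by omega)
      · exact absurd hij (hu0 _)
      · refine absurd ?_ (hu0 (i : ℕ))
        have := inv_mem hij
        rwa [mul_inv_rev, inv_inv] at this
      · rcases le_total (i : ℕ) j with h' | h'
        · obtain ⟨d, hd⟩ := Nat.exists_eq_add_of_le h'
          rw [hd, pow_add, inv_mul_cancel_left] at hij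
          rcases Nat.eq_zero_or_pos d with h0 | h0
          · exact Fin.ext (by omega)
          · exact absurd (pow_mem_center_imp h0.ne' (hpG ▸ (by have := j.2; omega : d < p)) hij)
              (hScentre x hxS)
        · obtain ⟨d, hd⟩ := Nat.exists_eq_add_of_le h'
          rw [hd, pow_add, mul_inv_rev, mul_assoc, inv_mul_cancel, mul_one, inv_mem_iff] at hij
          rcases Nat.eq_zero_or_pos d with h0 | h0
          · exact Fin.ext (by omega)
          · exact absurd (pow_mem_center_imp h0.ne' (hpG ▸ (by have := i.2; omega : d < p)) hij)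
              (hScentre x hxS)
    let f : Fin p × Subgroup.center G → S := fun jz => ⟨rep jz.1 * jz.2, by
      show p < cl _
      rw [hSmul _ _ jz.2.2]
      exact hrepS jz.1⟩
    have hf : Function.Injective f := by
      rintro ⟨i, a⟩ ⟨j, b⟩ he
      have he' : rep i * (a : G) = rep j * b := congrArg Subtype.val he
      have hij : i = j := hrep i j (by
        have h1 : (rep i)⁻¹ * rep j = (a : G) * (b : G)⁻¹ := by
          calc (rep i)⁻¹ * rep j = (rep i)⁻¹ * (rep j * b) * (b : G)⁻¹ := by group
            _ = (a : G) * (b : G)⁻¹ := by rw [← he', inv_mul_cancel_left]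
        rw [h1]
        exact mul_mem a.2 (inv_mem b.2))
      subst hij
      exact Prod.ext rfl (Subtype.ext (mul_left_cancel he'))
    have hcard := Nat.card_le_card_of_injective f hf
    rw [Nat.card_prod, Nat.card_fin] at hcard
    calc (p - 1) * Nat.card (Subgroup.center G) * (p * p)
        = (p * Nat.card (Subgroup.center G)) * ((p - 1) * p) := by ring
      _ ≤ Nat.card S * ((p - 1) * p) := Nat.mul_le_mul_right _ hcard
      _ = Nat.card S * (p * p - p) := by rw [Nat.sub_mul, one_mul]
  · -- the large classes fill the complement of a proper subgroup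
    refine ⟨S, cl x, Nat.lt_of_le_of_lt (Nat.zero_le _) hxc, hScentre,
      fun g hg => (hxmin' g hg).trans (index_le_card_orbit g), ?_⟩
    have hsub : ∀ g, g ∉ M → g ∈ S := fun g hg => by
      by_contra hh
      exact hg (Subgroup.subset_closure hh)
    have h1 : Nat.card {g : G // g ∉ M} ≤ Nat.card S :=
      Nat.card_le_card_of_injective (fun g => (⟨g.1, hsub g.1 g.2⟩ : S))
        (fun a b hab => Subtype.ext (congrArg (fun s : S => (s : G)) hab))
    have h2 : Nat.card {g : G // g ∉ M} = Nat.card G - Nat.card M := by
      rw [Nat.card_eq_fintype_card, Fintype.card_subtype_compl, ← Nat.card_eq_fintype_card,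
        ← Nat.card_eq_fintype_card]
    have h3 : Nat.card M * p ≤ Nat.card G := by
      rw [← M.card_mul_index]
      exact Nat.mul_le_mul_left _ (hpG ▸ minFac_le_index hM)
    set C := Subgroup.centralizer ({x} : Set G)
    have hlt : Subgroup.center G < C := by
      refine lt_of_le_of_ne (Subgroup.center_le_centralizer _) fun h => hScentre x hxS ?_
      rw [h]
      exact Subgroup.mem_centralizer_singleton_iff.mpr rfl
    have h4 : p * Nat.card (Subgroup.center G) ≤ Nat.card C := by
      have hidx : p ≤ ((Subgroup.center G).subgroupOf C).index := by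
        rw [hpG]
        refine Nat.minFac_le_of_dvd ?_ ((Subgroup.index_dvd_card _).trans C.card_subgroup_dvd_card)
        have h0 : ((Subgroup.center G).subgroupOf C).index ≠ 0 := Subgroup.index_ne_zero_of_finite
        have h1' : ((Subgroup.center G).subgroupOf C).index ≠ 1 := fun h =>
          hlt.not_ge (Subgroup.subgroupOf_eq_top.mp (Subgroup.index_eq_one.mp h))
        omega
      have h5 := ((Subgroup.center G).subgroupOf C).card_mul_index
      rw [Nat.card_congr (Subgroup.subgroupOfEquivOfLe hlt.le).toEquiv] at h5
      rw [← h5, mul_comm]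
      exact Nat.mul_le_mul_left _ hidx
    have h6 : p * Nat.card (Subgroup.center G) * cl x ≤ Nat.card G := by
      rw [← C.card_mul_index]
      exact Nat.mul_le_mul_right _ h4
    have h7 : (p - 1) * Nat.card G ≤ p * Nat.card S := by
      have h8 : p * (Nat.card G - Nat.card M) ≤ p * Nat.card S := Nat.mul_le_mul_left _ (h2 ▸ h1)
      refine le_trans ?_ h8
      rw [Nat.mul_sub, Nat.sub_mul, one_mul]
      rw [mul_comm p (Nat.card M)]
      omega
    have h9 : (p - 1) * Nat.card (Subgroup.center G) * cl x ≤ Nat.card S := by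
      refine Nat.le_of_mul_le_mul_left ?_ hp.pos
      refine le_trans ?_ h7
      calc p * ((p - 1) * Nat.card (Subgroup.center G) * cl x)
          = (p - 1) * (p * Nat.card (Subgroup.center G) * cl x) := by ring
        _ ≤ (p - 1) * Nat.card G := Nat.mul_le_mul_left _ h6
    calc (p - 1) * Nat.card (Subgroup.center G) * cl x ≤ Nat.card S * 1 := by rwa [mul_one]
      _ ≤ Nat.card S * (cl x - p) := Nat.mul_le_mul_left _ (by omega)

/-- Let G be a finite non-abelian group and p the least prime dividing its order. Then the automorphism group of G has at most #G/p orbits on G. -/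
theorem result {G : Type*} [Group G] [Finite G] (hna : ¬ IsMulCommutative G) :
    Nat.card (MulAction.orbitRel.Quotient (MulAut G) G) ≤ Nat.card G / (Nat.card G).minFac := by
  classical
  obtain ⟨x, hx⟩ : ∃ x : G, x ∉ Subgroup.center G := by
    by_contra hh
    push Not at hh
    exact hna ⟨⟨fun a b => (Subgroup.mem_center_iff.mp (hh b) a)⟩⟩
  have h1 : Nat.card G ≠ 1 := fun h => hx (by
    haveI : Subsingleton G := (Nat.card_eq_one_iff_unique.mp h).1
    exact Subgroup.mem_center_iff.mpr fun g => Subsingleton.elim _ _)
  have hp := Nat.minFac_prime h1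
  by_cases hbig : ∃ g : G, (Nat.card G).minFac < (Subgroup.centralizer ({g} : Set G)).index
  · obtain ⟨S, c, hc, hSZ, hS, hnum⟩ := large_class_case hp rfl hbig
    exact orbit_bound S c hc hSZ hS hnum
  · push Not at hbig
    have hA : ∀ g : G, g ∉ Subgroup.center G →
        (Subgroup.centralizer ({g} : Set G)).index = (Nat.card G).minFac := fun g hg =>
      le_antisymm (hbig g) (minFac_le_index fun h => hg (Subgroup.mem_center_iff.mpr fun u =>
        Subgroup.mem_centralizer_singleton_iff.mp (h ▸ Subgroup.mem_top u)))
    obtain ⟨S, hSZ, hS, hnum⟩ := small_class_case hp rfl ⟨x, hx⟩ hA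
    refine orbit_bound S _ (Nat.mul_pos hp.pos hp.pos) hSZ hS ?_
    set p := (Nat.card G).minFac
    calc (p - 1) * Nat.card (Subgroup.center G) * (p * p)
        = (p * Nat.card (Subgroup.center G)) * ((p - 1) * p) := by ring
      _ ≤ Nat.card S * ((p - 1) * p) := Nat.mul_le_mul_right _ hnum
      _ = Nat.card S * (p * p - p) := by rw [Nat.sub_mul, one_mul]

end Cfsg.Agent.S4067
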