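import Cfsg.Statements.S4068
import Cfsg.Agent.S1230
import Cfsg.Agent.S0183
import Cfsg.Agent.S1473
import Cfsg.Agent.S0144
import Cfsg.Agent.SL2Class.Classes
import Cfsg.Agent.Classical.SmallPSL

set_option autoImplicit false
set_option linter.style.haveILetI false
open Cfsg

namespace Cfsg.Agent.S4068

section Aux

variable {G : Type*} [Group G] [Finite G]

open Subgroup

theorem three_le_primeFactors (hns : ¬ Group.IsSolvable G) : 3 ≤ (Nat.card G).primeFactors.card := by
  by_contra hlt
  push Not at hlt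
  have hn : Nat.card G ≠ 0 := Nat.card_pos.ne'
  have hprod := Nat.prod_primeFactors_pow_factorization hn
  rcases Nat.lt_or_ge (Nat.card G).primeFactors.card 2 with h | h
  · rcases Finset.card_eq_zero.or (Finset.card_eq_one (s := (Nat.card G).primeFactors)) |>.1
      (by omega : (Nat.card G).primeFactors.card = 0 ∨ (Nat.card G).primeFactors.card = 1) with h | ⟨p, hp⟩
    · rw [h, Finset.prod_empty] at hprod
      exact hns (S0144.result 2 3 0 0 Nat.prime_two Nat.prime_three (by simpa using hprod))
    · rw [hp, Finset.prod_singleton] at hprod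
      have hpp : p.Prime := Nat.prime_of_mem_primeFactors (hp ▸ Finset.mem_singleton_self p)
      exact hns (S0144.result p p _ 0 hpp hpp (by simpa using hprod))
  · obtain ⟨p, q, hpq, hp⟩ := Finset.card_eq_two.1 (by omega : (Nat.card G).primeFactors.card = 2)
    rw [hp, Finset.prod_pair hpq] at hprod
    exact hns (S0144.result p q _ _ (Nat.prime_of_mem_primeFactors (hp ▸ Finset.mem_insert_self p _))
      (Nat.prime_of_mem_primeFactors (hp ▸ Finset.mem_insert_of_mem (Finset.mem_singleton_self q)))
      hprod)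

theorem prime_orders (hns : ¬ Group.IsSolvable G)
    (h4 : Nat.card (MulAction.orbitRel.Quotient (MulAut G) G) = 4) :
    (∀ x : G, x ≠ 1 → (orderOf x).Prime) ∧ 3 ≤ (Nat.card G).primeFactors.card := by
  classical
  have h3 := three_le_primeFactors hns
  refine ⟨fun x hx => ?_, h3⟩
  set Q := MulAction.orbitRel.Quotient (MulAut G) G
  haveI : Finite Q := inferInstanceAs (Finite (Quotient _))
  letI : Fintype Q := Fintype.ofFinite Q
  let ord : Q → ℕ := Quotient.lift orderOf (by
    rintro a b ⟨f, rfl⟩
    exact (MulEquiv.orderOf_eq f b))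
  have hmk : ∀ g : G, ord (Quotient.mk _ g) = orderOf g := fun g => rfl
  by_contra hnp
  let xb : Q := Quotient.mk _ x
  let ob : Q := Quotient.mk _ 1
  have hsub : insert (orderOf x) (insert 1 (Nat.card G).primeFactors) ⊆ Finset.univ.image ord := by
    intro n hn
    simp only [Finset.mem_insert, Finset.mem_image, Finset.mem_univ, true_and] at hn ⊢
    rcases hn with rfl | rfl | hn
    · exact ⟨xb, hmk x⟩
    · exact ⟨ob, (hmk 1).trans orderOf_one⟩
    · haveI := Fact.mk (Nat.prime_of_mem_primeFactors hn)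
      obtain ⟨g, hg⟩ := exists_prime_orderOf_dvd_card' n (Nat.dvd_of_mem_primeFactors hn)
      exact ⟨Quotient.mk _ g, (hmk g).trans hg⟩
  have h1 : (1 : ℕ) ∉ (Nat.card G).primeFactors := fun h =>
    Nat.not_prime_one (Nat.prime_of_mem_primeFactors h)
  have h2 : orderOf x ∉ insert 1 (Nat.card G).primeFactors := by
    rw [Finset.mem_insert, not_or]
    exact ⟨fun h => hx (orderOf_eq_one_iff.1 h), fun h => hnp (Nat.prime_of_mem_primeFactors h)⟩
  have hle := (Finset.card_le_card hsub).trans Finset.card_image_le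
  rw [Finset.card_insert_of_notMem h2, Finset.card_insert_of_notMem h1, Finset.card_univ,
    ← Nat.card_eq_fintype_card, h4] at hle
  omega

theorem isCN (hpr : ∀ x : G, x ≠ 1 → (orderOf x).Prime) : Cfsg.IsCNGroup G := by
  intro g hg
  haveI := Fact.mk (hpr g hg)
  refine IsPGroup.isNilpotent (p := orderOf g) (IsPGroup.iff_orderOf.2 fun h => ?_)
  by_cases h1 : h = 1
  · exact ⟨0, by rw [h1, orderOf_one, pow_zero]⟩
  refine ⟨1, ?_⟩
  rw [pow_one, ← Subgroup.orderOf_coe]
  have hh : (h : G) ≠ 1 := fun e => h1 (Subtype.ext e)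
  by_contra hne
  have hc : Commute g (h : G) := (mem_centralizer_iff.1 h.2 g rfl)
  have hcop : (orderOf g).Coprime (orderOf (h : G)) :=
    (Nat.coprime_primes (hpr g hg) (hpr _ hh)).2 (Ne.symm hne)
  have hgh := hc.orderOf_mul_eq_mul_orderOf_of_coprime hcop
  have hne1 : g * h ≠ 1 := by
    intro e
    rw [e, orderOf_one] at hgh
    exact (hpr g hg).ne_one (Nat.eq_one_of_mul_eq_one_right hgh.symm)
  have := hgh ▸ hpr _ hne1
  exact (Nat.not_prime_mul (hpr g hg).ne_one (hpr _ hh).ne_one) this

theorem exists_psl (hns : ¬ Group.IsSolvable G) (hpr : ∀ x : G, x ≠ 1 → (orderOf x).Prime) :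
    ∃ (F : Type) (_ : Field F) (_ : Fintype F), (∃ n, 2 ≤ n ∧ Fintype.card F = 2 ^ n) ∧
      Nonempty (G ≃* Matrix.ProjectiveSpecialLinearGroup (Fin 2) F) := by
  have hCN := isCN hpr
  haveI : Fact (Nat.Prime 2) := ⟨Nat.prime_two⟩
  have hev : ¬ Odd (Nat.card G) := fun h => hns (S0183.result h hCN)
  obtain ⟨T⟩ : Nonempty (Sylow 2 G) := inferInstance
  have hsq : ∀ c : G, (∃ k, orderOf c = 2 ^ k) → c ^ 2 = 1 := by
    rintro c ⟨k, hk⟩
    by_cases h1 : c = 1
    · rw [h1, one_pow]
    · have h := hpr c h1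
      rw [hk] at h
      have hk1 : k = 1 := Nat.Prime.eq_one_of_pow h
      rw [← orderOf_dvd_iff_pow_eq_one, hk, hk1, pow_one]
  -- a normal Sylow subgroup gives solvability
  have hnn : ¬ (T : Subgroup G).Normal := by
    intro hn
    haveI : Group.IsNilpotent (T : Subgroup G) := T.2.isNilpotent
    haveI hTs : Group.IsSolvable (T : Subgroup G) := inferInstance
    have hodd : Odd (Nat.card (G ⧸ (T : Subgroup G))) := by
      rw [← Subgroup.index_eq_card, Nat.odd_iff]
      have := T.not_dvd_index
      omega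
    haveI : Group.IsSolvable (G ⧸ (T : Subgroup G)) :=
      S0183.result hodd (S1473.result hCN (T : Subgroup G) hTs)
    exact hns (solvable_of_ker_le_range (T : Subgroup G).subtype (QuotientGroup.mk' (T : Subgroup G))
      (by rw [QuotientGroup.ker_mk', Subgroup.range_subtype]))
  have hnc : ¬ IsCyclic (T : Subgroup G) := by
    intro hc
    have hmin : (Nat.card G).minFac = 2 := by
      rw [Nat.minFac_eq_two_iff]
      exact even_iff_two_dvd.1 (Nat.not_odd_iff_even.1 hev)
    have hle := IsCyclic.normalizer_le_centralizer (hP := hc) hmin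
    obtain hcomp := MonoidHom.ker_transferSylow_isComplement' T hle
    set K := (MonoidHom.transferSylow T hle).ker
    have hKodd : Odd (Nat.card K) := by
      have h := hcomp.index_eq_card
      rw [← h, Nat.odd_iff]
      have := T.not_dvd_index
      omega
    have hKCN : Cfsg.IsCNGroup K := isCN fun x hx => by
      rw [← Subgroup.orderOf_coe]
      exact hpr _ fun e => hx (Subtype.ext e)
    haveI : Group.IsSolvable K := S0183.result hKodd hKCN
    haveI : Group.IsNilpotent (T : Subgroup G) := T.2.isNilpotent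
    haveI : Group.IsSolvable (G ⧸ K) := solvable_of_surjective
      (f := ((QuotientGroup.mk' K).comp (T : Subgroup G).subtype)) (fun y => by
        obtain ⟨g, rfl⟩ := QuotientGroup.mk'_surjective K y
        obtain ⟨⟨k, t⟩, hkt⟩ := hcomp.2 g
        refine ⟨t, ?_⟩
        simp only [MonoidHom.coe_comp, Function.comp_apply, Subgroup.coe_subtype]
        rw [← hkt, map_mul, (QuotientGroup.eq_one_iff (k : G)).2 k.2 |> fun h => (show QuotientGroup.mk' K (k : G) = 1 from h), one_mul])
    exact hns (solvable_of_ker_le_range K.subtype (QuotientGroup.mk' K)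
      (by rw [QuotientGroup.ker_mk', Subgroup.range_subtype]))
  have hC : ∀ t : G, orderOf t = 2 → IsMulCommutative (centralizer ({t} : Set G)) ∧
      ∀ c ∈ centralizer ({t} : Set G), c ^ 2 = 1 := by
    intro t ht
    have ht1 : t ≠ 1 := fun e => by rw [e, orderOf_one] at ht; exact absurd ht (by norm_num)
    have key : ∀ c ∈ centralizer ({t} : Set G), c ^ 2 = 1 := by
      intro c hc
      refine hsq c ?_
      by_cases h1 : c = 1
      · exact ⟨0, by rw [h1, orderOf_one, pow_zero]⟩
      refine ⟨1, ?_⟩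
      rw [pow_one]
      by_contra hne
      have hcom : Commute t c := mem_centralizer_iff.1 hc t rfl
      have hcop : (orderOf t).Coprime (orderOf c) :=
        (Nat.coprime_primes (hpr t ht1) (hpr c h1)).2 (fun e => hne (e.symm.trans ht))
      have hgh := hcom.orderOf_mul_eq_mul_orderOf_of_coprime hcop
      by_cases hne1 : t * c = 1
      · rw [hne1, orderOf_one] at hgh
        exact (hpr t ht1).ne_one (Nat.eq_one_of_mul_eq_one_right hgh.symm)
      · exact Nat.not_prime_mul (hpr t ht1).ne_one (hpr c h1).ne_one (hgh ▸ hpr _ hne1)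
    refine ⟨⟨⟨fun a b => Subtype.ext ?_⟩⟩, key⟩
    have ha : (a : G) * a = 1 := by rw [← pow_two]; exact key _ a.2
    have hb : (b : G) * b = 1 := by rw [← pow_two]; exact key _ b.2
    have hab : ((a : G) * b) * (a * b) = 1 := by rw [← pow_two]; exact key _ (mul_mem a.2 b.2)
    calc (a : G) * b = ((a : G) * b)⁻¹ := eq_inv_of_mul_eq_one_left hab
      _ = (b : G) * a := by rw [mul_inv_rev, inv_eq_of_mul_eq_one_right ha, inv_eq_of_mul_eq_one_right hb]
  obtain ⟨F, iF, iFF, hF, he⟩ := S1230.result T hnc hnn hC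
  obtain ⟨n, hn⟩ := IsPGroup.iff_card.1 T.2
  refine ⟨F, iF, iFF, ⟨n, ?_, hF.trans hn⟩, he⟩
  by_contra hlt
  refine hnc ?_
  interval_cases n
  · have h1 : Nat.card (T : Subgroup G) = 1 := by rw [hn, pow_zero]
    haveI : Subsingleton (T : Subgroup G) := (Nat.card_eq_one_iff_unique.1 h1).1
    exact isCyclic_of_subsingleton
  · exact isCyclic_of_prime_card (p := 2) (hn.trans (pow_one 2))

open Agent.SL2Class in
theorem main_of_psl (hpr : ∀ x : G, x ≠ 1 → (orderOf x).Prime)
    (_hthree : 3 ≤ (Nat.card G).primeFactors.card) {F : Type} [Field F] [Fintype F]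
    (e : G ≃* Matrix.ProjectiveSpecialLinearGroup (Fin 2) F)
    (hF : ∃ n, 2 ≤ n ∧ Fintype.card F = 2 ^ n) : Nonempty (G ≃* alternatingGroup (Fin 5)) := by
  classical
  obtain ⟨n, hn, hq⟩ := hF
  have hq4 : 4 ≤ Fintype.card F := hq ▸ le_trans (by norm_num) (Nat.pow_le_pow_right two_pos hn)
  have h2 : (2 : F) = 0 := by
    have : ((2 ^ n : ℕ) : F) = 0 := hq ▸ Nat.cast_card_eq_zero F
    exact eq_zero_of_pow_eq_zero (by exact_mod_cast this : (2 : F) ^ n = 0)
  let e' : G ≃* Matrix.SpecialLinearGroup (Fin 2) F := e.trans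
    ((QuotientGroup.quotientMulEquivOfEq (center_eq_bot h2)).trans QuotientGroup.quotientBot)
  have key : ∀ g : Matrix.SpecialLinearGroup (Fin 2) F, tr g * tr g ≠ 4 → ∀ c, 1 < c →
      Nat.card (centralizer ({g} : Set (Matrix.SpecialLinearGroup (Fin 2) F))) = c → c.Prime := by
    intro g hg c hc1 hc
    haveI := isCyclic_centralizer hg
    obtain ⟨x, hx⟩ := IsCyclic.exists_ofOrder_eq_natCard
      (α := centralizer ({g} : Set (Matrix.SpecialLinearGroup (Fin 2) F)))
    rw [hc, ← Subgroup.orderOf_coe, ← MulEquiv.orderOf_eq e'.symm] at hx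
    rw [← hx]
    refine hpr _ fun h => ?_
    rw [h, orderOf_one] at hx
    omega
  have hplus : (Fintype.card F + 1).Prime := by
    obtain ⟨t, ht⟩ := exists_noRoot (F := F)
    have htr : tr (comp t) = t := by simp [tr, coe_comp]
    have ht' : t * t ≠ 4 := fun h => by
      have h0 := (sq_eq_four_iff_even h2 t).1 h
      exact ht 1 (by rw [h0]; linear_combination h2)
    exact key (comp t) (by rwa [htr]) _ (by omega)
      (card_cent_noRoot (by rwa [htr]) (nonScalar_comp t))
  have hminus : (Fintype.card F - 1).Prime := by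
    obtain ⟨t, r, hr, ht⟩ := exists_split (F := F) hq4
    have htr : tr (comp t) = t := by simp [tr, coe_comp]
    exact key (comp t) (by rwa [htr]) _ (by omega) (card_cent_split (r := r) (by rwa [htr]) (by rwa [htr]))
  have h3 : ¬ 3 ∣ Fintype.card F := by
    rw [hq]
    intro h
    exact absurd (Nat.prime_three.dvd_of_dvd_pow h) (by norm_num)
  have hcard : Fintype.card F = 4 := by
    have hcases : 3 ∣ Fintype.card F - 1 ∨ 3 ∣ Fintype.card F + 1 := by omega
    rcases hcases with h | h
    · have := (Nat.prime_dvd_prime_iff_eq Nat.prime_three hminus).1 h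
      omega
    · have := (Nat.prime_dvd_prime_iff_eq Nat.prime_three hplus).1 h
      omega
  obtain ⟨φ⟩ := Agent.Classical.Small.psl_two_sixty (F := F) (Or.inl hcard)
  exact ⟨e.trans φ⟩

end Aux

/-- A finite non-solvable group on which its automorphism group has exactly four orbits is isomorphic to the alternating group of degree 5. -/
theorem result {G : Type*} [Group G] [Finite G] (hns : ¬ Group.IsSolvable G)
    (h4 : Nat.card (MulAction.orbitRel.Quotient (MulAut G) G) = 4) : Nonempty (G ≃* alternatingGroup (Fin 5)) := by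
  obtain ⟨hpr, hthree⟩ := prime_orders hns h4
  obtain ⟨F, iF, iFF, hF, ⟨e⟩⟩ := exists_psl hns hpr
  exact main_of_psl hpr hthree e hF

end Cfsg.Agent.S4068
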