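import Cfsg.Statements.S4072
import Cfsg.Agent.Fusion.Control
import Cfsg.Agent.Fusion.Transfer

set_option autoImplicit false
set_option linter.style.haveILetI false
open Cfsg
open scoped commutatorElement

namespace Cfsg.Agent.S4072

open Subgroup in
/-- If every nontrivial cyclic subgroup is self-normalising, the group is abelian of order `1` or a prime. -/
theorem card_of_cyclic_selfNormalizing {K : Type*} [Group K] [Finite K]
    (h : ∀ g : K, g ≠ 1 → normalizer (zpowers g : Set K) = zpowers g) :
    (∀ a b : K, a * b = b * a) ∧ (Nat.card K = 1 ∨ (Nat.card K).Prime) := by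
  classical
  -- each Sylow subgroup is abelian with a normal complement
  have hsyl : ∀ (r : ℕ) (_ : Fact r.Prime) (P : Sylow r K), (∀ a ∈ (P : Subgroup K), ∀ b ∈ (P : Subgroup K), a * b = b * a) ∧
      normalizer ((P : Subgroup K) : Set K) ≤ centralizer ((P : Subgroup K) : Set K) ∨
      (P : Subgroup K) = ⊥ := by
    intro r hr P
    by_cases hP : (P : Subgroup K) = ⊥
    · exact Or.inr hP
    haveI : Nontrivial ↥(P : Subgroup K) := (nontrivial_iff_ne_bot _).mpr hP
    haveI := P.isPGroup'.center_nontrivial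
    obtain ⟨z, hz⟩ := exists_ne (1 : center ↥(P : Subgroup K))
    set g : K := ((z : ↥(P : Subgroup K)) : K) with hg
    have hg1 : g ≠ 1 := fun e => hz (Subtype.ext (Subtype.ext e))
    have hgP : g ∈ (P : Subgroup K) := (z : ↥(P : Subgroup K)).2
    have hle : (P : Subgroup K) ≤ normalizer (zpowers g : Set K) := by
      refine le_trans ?_ (centralizer_le_normalizer _)
      intro x hx
      rw [mem_centralizer_iff]
      rintro _ ⟨i, rfl⟩
      exact (Commute.zpow_left (show Commute g x from
        (congrArg Subtype.val (mem_center_iff.mp z.2 ⟨x, hx⟩)).symm) i).eq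
    have heq : (P : Subgroup K) = zpowers g := le_antisymm (hle.trans (h g hg1).le) (zpowers_le.mpr hgP)
    left
    refine ⟨?_, ?_⟩
    · intro a ha b hb
      rw [heq] at ha hb
      obtain ⟨i, rfl⟩ := ha
      obtain ⟨j, rfl⟩ := hb
      exact (Commute.zpow_zpow (Commute.refl g) i j).eq
    · rw [heq, h g hg1]
      intro x hx
      rw [mem_centralizer_iff]
      intro y hy
      obtain ⟨i, rfl⟩ := hx
      obtain ⟨j, rfl⟩ := hy
      exact (Commute.zpow_zpow (Commute.refl g) j i).eq
  have hab : ∀ a b : K, a * b = b * a := by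
    intro a b
    rw [← commutatorElement_eq_one_iff_mul_comm, ← orderOf_eq_one_iff]
    refine Nat.eq_one_iff_not_exists_prime_dvd.mpr fun r hr hdvd => ?_
    haveI := Fact.mk hr
    obtain ⟨P⟩ := (inferInstance : Nonempty (Sylow r K))
    rcases hsyl r ⟨hr⟩ P with ⟨hc, hn⟩ | hbot
    · obtain ⟨Q, N, hN, hQN⟩ := Agent.Fusion.hasNormalPComplement_of_normalizer_le_centralizer P hn
      haveI := hN
      obtain ⟨k, hk⟩ := MulAction.exists_smul_eq K P Q
      have hcQ : ∀ u ∈ (Q : Subgroup K), ∀ v ∈ (Q : Subgroup K), u * v = v * u := by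
        intro u hu v hv
        rw [← hk, Sylow.coe_subgroup_smul] at hu hv
        obtain ⟨u', hu', rfl⟩ := hu
        obtain ⟨v', hv', rfl⟩ := hv
        simp only [MulDistribMulAction.toMonoidEnd_apply, MulDistribMulAction.toMonoidHom_apply,
          ← map_mul]
        rw [← smul_mul', ← smul_mul', hc u' hu' v' hv']
      have hmem : ⁅a, b⁆ ∈ N := by
        rw [← QuotientGroup.eq_one_iff, ← QuotientGroup.mk'_apply, map_commutatorElement,
          commutatorElement_eq_one_iff_mul_comm]
        have hs : ∀ w : K, ∃ q ∈ (Q : Subgroup K), QuotientGroup.mk' N w = QuotientGroup.mk' N q := by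
          intro w
          obtain ⟨n, hn, q, hq, rfl⟩ := mem_sup_of_normal_left.mp (hQN.sup_eq_top ▸ mem_top w)
          refine ⟨q, hq, ?_⟩
          rw [map_mul, show QuotientGroup.mk' N n = 1 from (QuotientGroup.eq_one_iff n).mpr hn, one_mul]
        obtain ⟨u, hu, hu'⟩ := hs a
        obtain ⟨v, hv, hv'⟩ := hs b
        rw [hu', hv', ← map_mul, ← map_mul, hcQ u hu v hv]
      have h1 : r ∣ Nat.card N := hdvd.trans (N.orderOf_dvd_natCard hmem)
      rw [← hQN.index_eq_card] at h1
      exact Q.not_dvd_index h1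
    · have h1 : r ∣ Nat.card K := hdvd.trans (orderOf_dvd_natCard _)
      have h2 := P.dvd_card_of_dvd_card h1
      rw [hbot, Subgroup.card_bot] at h2
      exact hr.not_dvd_one h2
  refine ⟨hab, ?_⟩
  by_cases h1 : Nat.card K = 1
  · exact Or.inl h1
  right
  obtain ⟨r, hr, hrd⟩ := Nat.exists_prime_and_dvd h1
  haveI := Fact.mk hr
  obtain ⟨g, hg⟩ := exists_prime_orderOf_dvd_card' r hrd
  have hg1 : g ≠ 1 := fun e => by rw [e, orderOf_one] at hg; exact hr.ne_one hg.symm
  have htop : zpowers g = ⊤ := by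
    rw [← h g hg1]
    exact eq_top_iff.mpr fun x _ => centralizer_le_normalizer _ (mem_centralizer_iff.mpr fun y _ => hab y x)
  rw [← Subgroup.card_top, ← htop, Nat.card_zpowers, hg]
  exact hr

open Subgroup in
/-- The automizer of a subgroup is small when nonabelian subgroups are self-normalising. -/
theorem automizer_small {G : Type*} [Group G] [Finite G]
    (hS : ∀ H : Subgroup G, ¬ IsMulCommutative H → normalizer (H : Set G) = H)
    {A : Subgroup G} [IsMulCommutative A] {N : Subgroup G} (hN : N ≤ normalizer (A : Set G))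
    (hA : A ≤ N) [hn : ((centralizer (A : Set G)).subgroupOf N).Normal] :
    (∀ a b : ↥N ⧸ (centralizer (A : Set G)).subgroupOf N, a * b = b * a) ∧
      (Nat.card (↥N ⧸ (centralizer (A : Set G)).subgroupOf N) = 1 ∨
        (Nat.card (↥N ⧸ (centralizer (A : Set G)).subgroupOf N)).Prime) := by
  set C := (centralizer (A : Set G)).subgroupOf N with hC
  refine card_of_cyclic_selfNormalizing fun y hy => ?_
  obtain ⟨g, rfl⟩ := QuotientGroup.mk'_surjective C y
  set Y := C ⊔ zpowers g with hY
  have hYn : ¬ IsMulCommutative ↥(Y.map N.subtype) := by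
    intro hc
    refine hy ((QuotientGroup.eq_one_iff g).mpr ?_)
    rw [mem_subgroupOf, mem_centralizer_iff]
    intro a ha
    have haA : (⟨a, hA ha⟩ : ↥N) ∈ C := le_centralizer A ha
    exact congrArg Subtype.val (hc.is_comm.comm ⟨a, ⟨a, hA ha⟩, mem_sup_left haA, rfl⟩
      ⟨g, g, mem_sup_right (mem_zpowers g), rfl⟩)
  have h1 := hS _ hYn
  refine le_antisymm (fun w hw => ?_) le_normalizer
  obtain ⟨x, rfl⟩ := QuotientGroup.mk'_surjective C w
  have hcomap : Y = (zpowers (QuotientGroup.mk' C g)).comap (QuotientGroup.mk' C) := by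
    rw [hY, ← MonoidHom.map_zpowers, comap_map_eq, QuotientGroup.ker_mk', sup_comm]
  have hxY : x ∈ normalizer (Y : Set ↥N) := by
    rw [hcomap]
    exact le_normalizer_comap (QuotientGroup.mk' C) hw
  have hxG : (x : G) ∈ normalizer (Y.map N.subtype : Set G) := le_normalizer_map N.subtype ⟨x, hxY, rfl⟩
  rw [h1] at hxG
  obtain ⟨x', hx', hxx⟩ := hxG
  have hxin : x ∈ Y := Subtype.ext hxx ▸ hx'
  rw [hcomap] at hxin
  exact hxin

open Subgroup in
/-- With a nonabelian Sylow `q`-subgroup, all `q'`-elements centralise the `q`-subgroups they normalise. -/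
theorem centralizes_of_normalizes {G : Type*} [Group G] [Finite G]
    (hS : ∀ H : Subgroup G, ¬ IsMulCommutative H → normalizer (H : Set G) = H)
    {q : ℕ} [hq : Fact q.Prime] (S : Sylow q G) (hSna : ¬ IsMulCommutative ↥(S : Subgroup G)) :
    ∀ Q : Subgroup G, IsPGroup q Q → ∀ g ∈ normalizer (Q : Set G), (orderOf g).Coprime q →
      g ∈ centralizer (Q : Set G) := by
  intro Q
  induction Q using WellFoundedGT.induction with
  | _ Q ih =>
  intro hQ g hg hgq
  by_cases hQc : IsMulCommutative ↥Q
  swap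
  · rw [hS Q hQc] at hg
    obtain ⟨k, hk⟩ := hQ ⟨g, hg⟩
    have h1 : orderOf g ∣ q ^ k := orderOf_dvd_of_pow_eq_one (congrArg Subtype.val hk)
    rw [orderOf_eq_one_iff.mp (Nat.eq_one_of_dvd_coprimes (hgq.pow_right k) dvd_rfl h1)]
    exact one_mem _
  haveI := hQc
  set N := normalizer (Q : Set G) with hN
  set C := (centralizer (Q : Set G)).subgroupOf N with hC
  haveI hCn : C.Normal := by
    rw [hC, hN]
    infer_instance
  obtain ⟨-, hK⟩ := automizer_small hS (A := Q) le_rfl le_normalizer (hn := hCn)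
  by_contra hgC
  have hy : QuotientGroup.mk' C ⟨g, hg⟩ ≠ 1 := fun e => hgC ((QuotientGroup.eq_one_iff (N := C) (⟨g, hg⟩ : ↥N)).mp e)
  have hyq : (orderOf (QuotientGroup.mk' C ⟨g, hg⟩)).Coprime q :=
    hgq.coprime_dvd_left ((orderOf_map_dvd _ _).trans (by rw [Subgroup.orderOf_mk]))
  set r := Nat.card (↥N ⧸ C) with hr
  have hrp : r.Prime := hK.resolve_left fun h1 => by
    haveI := (Nat.card_eq_one_iff_unique.mp h1).1
    exact hy (Subsingleton.elim _ _)
  have hrq : r.Coprime q := by
    refine hyq.coprime_dvd_left ?_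
    rcases (Nat.dvd_prime hrp).mp (orderOf_dvd_natCard (QuotientGroup.mk' C ⟨g, hg⟩)) with h1 | h1
    · exact absurd (orderOf_eq_one_iff.mp h1) hy
    · exact h1 ▸ dvd_rfl
  -- a strictly larger `q`-subgroup inside the normaliser
  obtain ⟨T, hT⟩ := hQ.exists_le_sylow
  have hQT : Q.subgroupOf (T : Subgroup G) ≠ ⊤ := by
    intro h
    rw [subgroupOf_eq_top] at h
    refine hSna ?_
    have heq : (T : Subgroup G) = Q := le_antisymm h hT
    obtain ⟨k, hk⟩ := MulAction.exists_smul_eq G T S
    rw [← hk, Sylow.coe_subgroup_smul, heq]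
    exact Subgroup.map_isMulCommutative Q _
  haveI : Group.IsNilpotent ↥(T : Subgroup G) := T.isPGroup'.isNilpotent
  obtain ⟨R⟩ := (inferInstance : Nonempty (Sylow q ↥N))
  have hRC : (R : Subgroup ↥N) ≤ C := by
    intro w hw
    obtain ⟨k, hk⟩ := R.isPGroup' ⟨w, hw⟩
    have h1 : orderOf (QuotientGroup.mk' C w) ∣ q ^ k := orderOf_dvd_of_pow_eq_one (by
      rw [← map_pow, show w ^ q ^ k = 1 from congrArg Subtype.val hk, map_one])
    exact (QuotientGroup.eq_one_iff w).mp (orderOf_eq_one_iff.mp
      (Nat.eq_one_of_dvd_coprimes (hrq.pow_right k) (orderOf_dvd_natCard _) h1))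
  set R' := (R : Subgroup ↥N).map N.subtype with hR'
  have hR'p : IsPGroup q R' := R.isPGroup'.map _
  have hQR : Q < R' := by
    have hQN : Q ≤ N := le_normalizer
    have hQsub : Q.subgroupOf N ≤ (R : Subgroup ↥N) := by
      haveI : (Q.subgroupOf N).Normal := normal_subgroupOf_iff_le_normalizer hQN |>.mpr le_rfl
      exact (IsPGroup.of_injective hQ (Subgroup.subgroupOfEquivOfLe hQN).toMonoidHom
        (MulEquiv.injective _)).le_sylow_of_normal R
    refine lt_of_le_of_ne (fun x hx => ⟨⟨x, hQN hx⟩, hQsub hx, rfl⟩) fun e => ?_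
    -- otherwise `Q` would be self-normalising in `T`
    refine hQT (normalizerCondition_iff_only_full_group_self_normalizing.mp
      (normalizerCondition_of_isNilpotent (G := ↥(T : Subgroup G))) _ (le_antisymm ?_ le_normalizer))
    intro t ht
    have htN : (t : G) ∈ N := by
      have := le_normalizer_map (T : Subgroup G).subtype ⟨t, ht, rfl⟩
      rwa [map_subgroupOf_eq_of_le hT] at this
    have hsup : IsPGroup q ↥(Q ⊔ zpowers (t : G)) :=
      T.isPGroup'.to_le (sup_le hT (zpowers_le.mpr t.2))
    have hle : (Q ⊔ zpowers (t : G)).subgroupOf N = (R : Subgroup ↥N) := by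
      refine R.is_maximal' (hsup.comap_subtype) ?_
      intro w hw
      have hw' : (w : G) ∈ R' := ⟨w, hw, rfl⟩
      rw [← e] at hw'
      exact mem_subgroupOf.mpr (mem_sup_left hw')
    have htR : (t : G) ∈ R' := ⟨⟨t, htN⟩, hle ▸ mem_sup_right (mem_zpowers (t : G)), rfl⟩
    rw [← e] at htR
    exact htR
  -- Frattini
  haveI : Finite (Sylow q ↥C) := inferInstance
  have hfr := Sylow.normalizer_sup_eq_top (R.subtype hRC)
  rw [R.coe_subtype hRC, subgroupOf_map_subtype, inf_eq_left.mpr hRC] at hfr
  obtain ⟨n, hn, c, hc, hnc⟩ := mem_sup_of_normal_right.mp (hfr ▸ mem_top (⟨g, hg⟩ : ↥N))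
  obtain ⟨a, b, hqb, hab⟩ : ∃ a b : ℕ, ¬ q ∣ b ∧ orderOf (n : G) = q ^ a * b :=
    ⟨_, _, Nat.not_dvd_ordCompl hq.out (orderOf_pos _).ne', (Nat.ordProj_mul_ordCompl_eq_self _ q).symm⟩
  have hn'q : (orderOf ((n : G) ^ q ^ a)).Coprime q := by
    rw [orderOf_pow_of_dvd (pow_ne_zero _ hq.out.ne_zero) (hab ▸ dvd_mul_right _ _), hab,
      Nat.mul_div_cancel_left _ (pow_pos hq.out.pos a)]
    exact (hq.out.coprime_iff_not_dvd.mpr hqb).symm
  have hn'N : (n : G) ^ q ^ a ∈ normalizer (R' : Set G) :=
    pow_mem (le_normalizer_map N.subtype ⟨n, hn, rfl⟩) _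
  have hn'C := ih R' hQR hR'p _ hn'N hn'q
  have h1 : (n : G) ^ q ^ a ∈ centralizer (Q : Set G) :=
    centralizer_le hQR.le hn'C
  have h2 : (QuotientGroup.mk' C ⟨g, hg⟩) ^ q ^ a = 1 := by
    rw [← hnc, map_mul, show QuotientGroup.mk' C c = 1 from (QuotientGroup.eq_one_iff c).mpr hc,
      mul_one, ← map_pow]
    exact (QuotientGroup.eq_one_iff _).mpr h1
  exact hy (orderOf_eq_one_iff.mp (Nat.eq_one_of_dvd_coprimes (hyq.pow_right a) dvd_rfl
    (orderOf_dvd_of_pow_eq_one h2)))

/-- A finite group in which every non-abelian subgroup is self-normalizing is solvable or simple. -/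
theorem result {G : Type*} [Group G] [Finite G] (hS : ∀ H : Subgroup G, ¬ IsMulCommutative H → Subgroup.normalizer (H : Set G) = H) :
    Group.IsSolvable G ∨ IsSimpleGroup G := by
  classical
  by_cases hsol : Group.IsSolvable G
  · exact Or.inl hsol
  right
  have hab : ∀ A : Subgroup G, A.Normal → A ≠ ⊤ → IsMulCommutative ↥A := fun A hA hne => by
    by_contra h
    exact hne ((hS A h).symm.trans (Subgroup.normalizer_eq_top_iff.mpr hA))
  have hperf : commutator G = ⊤ := by
    by_contra hne
    haveI := hab (commutator G) inferInstance hne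
    haveI : Group.IsSolvable ↥(commutator G) :=
      Group.isSolvable_of_comm fun a b => mul_comm' a b
    haveI : Group.IsSolvable (G ⧸ commutator G) :=
      Group.isSolvable_of_comm fun a b => mul_comm (G := Abelianization G) a b
    exact hsol (Group.isSolvable_of_ker_le_range (commutator G).subtype
      (QuotientGroup.mk' (commutator G)) (by rw [QuotientGroup.ker_mk', Subgroup.range_subtype]))
  have hkill : ∀ (N : Subgroup G) [N.Normal], (∀ a b : G ⧸ N, a * b = b * a) → N = ⊤ := by
    intro N _ hc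
    rw [eq_top_iff, ← hperf, commutator_def, Subgroup.commutator_le]
    intro a _ b _
    rw [← QuotientGroup.eq_one_iff, ← QuotientGroup.mk'_apply, map_commutatorElement,
      commutatorElement_eq_one_iff_mul_comm]
    exact hc _ _
  haveI : Nontrivial G := by
    by_contra h
    rw [not_nontrivial_iff_subsingleton] at h
    exact hsol (Group.isSolvable_of_comm fun a b => Subsingleton.elim _ _)
  refine ⟨fun A hA => ?_⟩
  by_contra hne
  rw [not_or] at hne
  haveI := hA
  haveI := hab A hA hne.2
  -- `A` is central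
  have hAc : A ≤ Subgroup.center G := by
    set N : Subgroup G := ⊤ with hN
    haveI hn : ((Subgroup.centralizer (A : Set G)).subgroupOf N).Normal := inferInstance
    obtain ⟨hc, -⟩ := automizer_small hS (A := A) (N := N) Subgroup.le_normalizer_of_normal le_top
      (hn := hn)
    have h1 := hkill (Subgroup.centralizer (A : Set G)) fun a b => by
      obtain ⟨a, rfl⟩ := QuotientGroup.mk'_surjective _ a
      obtain ⟨b, rfl⟩ := QuotientGroup.mk'_surjective _ b
      rw [← map_mul, ← map_mul]
      have := hc (QuotientGroup.mk' _ ⟨a, Subgroup.mem_top a⟩) (QuotientGroup.mk' _ ⟨b, Subgroup.mem_top b⟩)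
      rw [← map_mul, ← map_mul, QuotientGroup.mk'_eq_mk'] at this
      obtain ⟨z, hz, hzz⟩ := this
      rw [QuotientGroup.mk'_eq_mk']
      exact ⟨z, hz, congrArg Subtype.val hzz⟩
    intro x hx
    rw [Subgroup.mem_center_iff]
    intro y
    exact (Subgroup.mem_centralizer_iff.mp (h1 ▸ Subgroup.mem_top y) x hx).symm
  obtain ⟨q, hq, hqd⟩ := Nat.exists_prime_and_dvd (fun h : Nat.card A = 1 => hne.1 (A.eq_bot_of_card_eq h))
  haveI := Fact.mk hq
  obtain ⟨z, hz⟩ := exists_prime_orderOf_dvd_card' q hqd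
  have hzG : orderOf (z : G) = q := (orderOf_injective A.subtype A.subtype_injective z).trans hz
  obtain ⟨S, hzS⟩ := (IsPGroup.of_card (n := 1) (p := q) (by rw [Nat.card_zpowers, hzG, pow_one]) :
    IsPGroup q (Subgroup.zpowers (z : G))).exists_le_sylow
  have hzS' : (z : G) ∈ (S : Subgroup G) := hzS (Subgroup.mem_zpowers _)
  have hSna : ¬ IsMulCommutative ↥(S : Subgroup G) := by
    intro hc
    letI : CommGroup ↥(S : Subgroup G) :=
      { (inferInstance : Group ↥(S : Subgroup G)) with mul_comm := fun a b => hc.is_comm.comm a b }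
    set φ := MonoidHom.transfer (MonoidHom.id ↥(S : Subgroup G)) with hφ
    have hzero : φ (z : G) = 1 := by
      have h1 : φ.ker = ⊤ := by
        rw [eq_top_iff, ← hperf]
        exact Abelianization.commutator_subset_ker φ
      exact MonoidHom.mem_ker.mp (h1 ▸ Subgroup.mem_top _)
    have hpow := MonoidHom.transfer_eq_pow (MonoidHom.id ↥(S : Subgroup G)) (z : G) (fun k g₀ _ => by
      have := Subgroup.mem_center_iff.mp (Subgroup.pow_mem _ (hAc z.2) k) g₀
      rw [mul_assoc, ← this, inv_mul_cancel_left])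
    rw [← hφ, hzero] at hpow
    have h2 : (z : G) ^ (S : Subgroup G).index = 1 := by
      simpa using (congrArg Subtype.val hpow).symm
    have h3 := orderOf_dvd_of_pow_eq_one h2
    rw [hzG] at h3
    exact S.not_dvd_index h3
  obtain ⟨T, K, hKn, hKT⟩ := Agent.Fusion.hasNormalPComplement_of_frobenius_sylow S
    fun Q hQ g hg hgo => centralizes_of_normalizes hS S hSna Q (S.isPGroup'.to_le hQ) g hg hgo
  haveI := hKn
  -- a perfect group with a normal complement has trivial Sylow subgroup
  have hKtop : K = ⊤ := by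
    by_contra hKne
    haveI := hab K hKn hKne
    haveI : Group.IsSolvable ↥K := Group.isSolvable_of_comm fun a b => mul_comm' a b
    haveI : Group.IsNilpotent ↥(T : Subgroup G) := T.isPGroup'.isNilpotent
    haveI : Group.IsSolvable (G ⧸ K) :=
      Group.isSolvable_of_surjective (f := (QuotientGroup.mk' K).comp (T : Subgroup G).subtype)
        (fun y => by
          obtain ⟨w, rfl⟩ := QuotientGroup.mk'_surjective K y
          obtain ⟨k, hk, t, ht, rfl⟩ :=
            Subgroup.mem_sup_of_normal_left.mp (hKT.sup_eq_top ▸ Subgroup.mem_top w)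
          refine ⟨⟨t, ht⟩, ?_⟩
          rw [MonoidHom.comp_apply, map_mul, show QuotientGroup.mk' K k = 1 from
            (QuotientGroup.eq_one_iff k).mpr hk, one_mul]
          rfl)
    exact hsol (Group.isSolvable_of_ker_le_range K.subtype
      (QuotientGroup.mk' K) (by rw [QuotientGroup.ker_mk', Subgroup.range_subtype]))
  subst hKtop
  have hTbot : (T : Subgroup G) = ⊥ := by simpa using hKT.disjoint
  have h4 := T.dvd_card_of_dvd_card (p := q) (hzG ▸ orderOf_dvd_natCard (z : G))
  rw [hTbot, Subgroup.card_bot] at h4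
  exact hq.not_dvd_one h4

end Cfsg.Agent.S4072
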