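import Cfsg.Statements.S5748
import Cfsg.Agent.Fg24.CTGroups.Main
import Cfsg.Agent.Fg24.CTGroups.Converse
-- import your own Cfsg.Agent.* helpers here

set_option autoImplicit false
open Cfsg

namespace Cfsg.Agent.S5748

/-- A finite non-abelian simple group in which commuting is a transitive relation on the non-identity elements (equivalently, every non-identity element has abelian centraliser) is isomorphic to PSL₂ over a field with 2^f elements for some f ≥ 2; conversely these groups have that property. -/
theorem result {G : Type*} [Group G] [Finite G] [IsSimpleGroup G] (hG : ¬ IsMulCommutative G) :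
    (∀ a b c : G, a ≠ 1 → b ≠ 1 → c ≠ 1 → Commute a b → Commute b c → Commute a c) ↔
    ∃ (F : Type) (_ : Field F) (_ : Fintype F) (f : ℕ), 2 ≤ f ∧ Fintype.card F = 2 ^ f ∧ Nonempty (G ≃* Matrix.ProjectiveSpecialLinearGroup (Fin 2) F) := by
  constructor
  · intro h
    have ct : ∀ a b c : G, b ≠ 1 → Commute a b → Commute b c → Commute a c := by
      intro a b c hb hab hbc
      by_cases ha : a = 1
      · exact ha ▸ Commute.one_left c
      by_cases hc : c = 1
      · exact hc ▸ Commute.one_right a
      exact h a b c ha hb hc hab hbc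
    obtain ⟨Ω, iA, iF, A, hP⟩ := Agent.Fg24.CT.exists_pts hG ct
    obtain ⟨F, iK, iKF, f, hf, hcard, ⟨e⟩⟩ := Agent.Fg24.CT.identify hP
    have h2 : (2 : F) = 0 := by
      have : ((2 ^ f : ℕ) : F) = 0 := hcard ▸ Nat.cast_card_eq_zero F
      exact eq_zero_of_pow_eq_zero (by exact_mod_cast this : (2 : F) ^ f = 0)
    exact ⟨F, iK, iKF, f, hf, hcard, ⟨e.trans
      ((QuotientGroup.quotientMulEquivOfEq (Agent.SL2Class.center_eq_bot h2)).trans
        QuotientGroup.quotientBot).symm⟩⟩
  · rintro ⟨F, iK, iKF, f, hf, hcard, ⟨e⟩⟩ a b c - hb - hab hbc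
    have h2 : (2 : F) = 0 := by
      have : ((2 ^ f : ℕ) : F) = 0 := hcard ▸ Nat.cast_card_eq_zero F
      exact eq_zero_of_pow_eq_zero (by exact_mod_cast this : (2 : F) ^ f = 0)
    let e' : G ≃* Matrix.SpecialLinearGroup (Fin 2) F := e.trans
      ((QuotientGroup.quotientMulEquivOfEq (Agent.SL2Class.center_eq_bot h2)).trans
        QuotientGroup.quotientBot)
    have := Agent.Fg24.CT.sl2_ct h2 (a := e' a) (b := e' b) (c := e' c)
      (fun h => hb (e'.injective (h.trans (map_one e').symm))) (hab.map e') (hbc.map e')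
    exact (e'.injective (by rw [map_mul, map_mul]; exact this.eq) : a * c = c * a)

end Cfsg.Agent.S5748
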