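import Cfsg.Statements.S4073
import Cfsg.Agent.NonabSelfNorm.Centralizer
import Cfsg.Agent.NonabSelfNorm.Linear
import Cfsg.Agent.S5748

set_option autoImplicit false
set_option linter.style.haveILetI false
open Cfsg

namespace Cfsg.Agent.S4073

/-- Let G be a finite non-abelian simple group. Every non-abelian subgroup of G is self-normalizing if and only if G is isomorphic to PSL₂(2ⁿ) for some n ≥ 2 with 2ⁿ − 1 prime (this includes the alternating group of degree 5 as PSL₂(4)). -/
theorem result {G : Type*} [Group G] [Finite G] [IsSimpleGroup G]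
    (hna : ¬ IsMulCommutative G) :
    (∀ H : Subgroup G, ¬ IsMulCommutative H → Subgroup.normalizer (H : Set G) = H) ↔
    ∃ n : ℕ, 2 ≤ n ∧ (2 ^ n - 1).Prime ∧ Nonempty (G ≃* Matrix.ProjectiveSpecialLinearGroup (Fin 2) (GaloisField 2 n)) := by
  haveI : Fact (Nat.Prime 2) := ⟨Nat.prime_two⟩
  constructor
  · intro hsn
    obtain ⟨F, iF, iFF, f, hf, hcard, ⟨e⟩⟩ :=
      (S5748.result hna).1 (NonabSelfNorm.ct hsn hna)
    have h2 : (2 : F) = 0 := by
      have : ((2 ^ f : ℕ) : F) = 0 := hcard ▸ Nat.cast_card_eq_zero F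
      exact eq_zero_of_pow_eq_zero (by exact_mod_cast this : (2 : F) ^ f = 0)
    let e' : G ≃* Matrix.SpecialLinearGroup (Fin 2) F := e.trans
      ((QuotientGroup.quotientMulEquivOfEq (Agent.SL2Class.center_eq_bot h2)).trans
        QuotientGroup.quotientBot)
    have hp := NonabSelfNorm.prime_of_sn (F := F)
      (hcard ▸ le_trans (by norm_num) (Nat.pow_le_pow_right two_pos hf)) h2
      (NonabSelfNorm.sn_congr e' hsn)
    refine ⟨f, hf, hcard ▸ hp, ?_⟩
    haveI : Fintype (GaloisField 2 f) := Fintype.ofFinite _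
    have hc : Fintype.card F = Fintype.card (GaloisField 2 f) := by
      rw [hcard, ← Nat.card_eq_fintype_card, GaloisField.card 2 f (by omega)]
    obtain ⟨φ⟩ := Agent.Classical.Small.psl_congr (n := 2) (FiniteField.ringEquivOfCardEq (K := F) (K' := GaloisField 2 f) hc)
    exact ⟨e.trans φ⟩
  · rintro ⟨n, hn, hp, ⟨e⟩⟩
    haveI : Fintype (GaloisField 2 n) := Fintype.ofFinite _
    haveI : IsSimpleGroup (Matrix.ProjectiveSpecialLinearGroup (Fin 2) (GaloisField 2 n)) :=
      e.symm.isSimpleGroup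
    exact NonabSelfNorm.sn_congr e.symm (NonabSelfNorm.sn_of_prime hn
      (by rw [← Nat.card_eq_fintype_card, GaloisField.card 2 n (by omega)]) hp)

end Cfsg.Agent.S4073
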