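import Cfsg.Statements.S4074
import Cfsg.Agent.FGS.DihedralSubgroups

set_option autoImplicit false
open Cfsg

namespace Cfsg.Agent.S4074

/-- For n > 2, every non-abelian subgroup of the dihedral group of order 2n is self-normalizing if and only if n = 4 or n is odd. -/
theorem result (n : ℕ) (hn : 2 < n) :
    (∀ H : Subgroup (DihedralGroup n), ¬ IsMulCommutative H → Subgroup.normalizer (H : Set (DihedralGroup n)) = H) ↔
    (n = 4 ∨ Odd n) := by
  haveI : NeZero n := ⟨by omega⟩
  constructor
  · intro h
    rcases Nat.even_or_odd n with he | ho
    · left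
      by_contra h4
      have h2 : 2 ∣ n := even_iff_two_dvd.1 he
      let φ := ZMod.castHom h2 (ZMod 2)
      have hnc : ¬ IsMulCommutative (FGS.dihedralKer φ) := by
        refine FGS.dihedralKer_not_comm φ 2 (by rw [map_ofNat]; decide) ?_
        intro e
        have e4 : ((4 : ℕ) : ZMod n) = 0 := by push_cast; linear_combination e
        rw [ZMod.natCast_eq_zero_iff] at e4
        have := Nat.le_of_dvd (by norm_num) e4
        interval_cases n <;> simp_all <;> omega
      have hmem : DihedralGroup.r 1 ∈ Subgroup.normalizer (FGS.dihedralKer φ : Set (DihedralGroup n)) := by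
        rw [Subgroup.mem_normalizer_iff]
        have h20 : φ 2 = 0 := by rw [map_ofNat]; decide
        rintro (a | a)
        · simp [FGS.r_mem_dihedralKer]
        · simp only [DihedralGroup.inv_r, DihedralGroup.r_mul_sr, DihedralGroup.sr_mul_r,
            FGS.sr_mem_dihedralKer]
          rw [show a - 1 + -1 = a - 2 by ring, map_sub, h20, sub_zero]
      rw [h _ hnc, FGS.r_mem_dihedralKer, map_one] at hmem
      exact one_ne_zero hmem
    · exact Or.inr ho
  · intro h H hH
    rcases h with rfl | ho
    · suffices H = ⊤ by subst this; exact eq_top_iff.2 fun x _ => Subgroup.mem_normalizer_iff.2 fun h => by simp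
      by_contra hne
      refine hH ?_
      have hd := H.card_subgroup_dvd_card
      rw [DihedralGroup.nat_card] at hd
      have hlt : Nat.card H < 2 * 4 := by
        refine lt_of_le_of_ne (Nat.le_of_dvd (by norm_num) hd) fun e => hne ?_
        exact Subgroup.eq_top_of_card_eq _ (by rw [e, DihedralGroup.nat_card])
      have h8 : Nat.card H = 1 ∨ Nat.card H = 2 ∨ Nat.card H = 2 ^ 2 := by
        have := Nat.card_pos (α := H)
        interval_cases h8 : Nat.card H <;> simp_all
      rcases h8 with h8 | h8 | h8
      · haveI : IsCyclic H := by
          haveI := (Nat.card_eq_one_iff_unique.1 h8).1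
          infer_instance
        exact IsCyclic.isMulCommutative
      · haveI : IsCyclic H := isCyclic_of_prime_card (p := 2) h8
        exact IsCyclic.isMulCommutative
      · haveI : Fact (Nat.Prime 2) := ⟨Nat.prime_two⟩
        exact IsPGroup.isMulCommutative_of_card_eq_prime_sq h8
    · refine le_antisymm (fun g hg => ?_) Subgroup.le_normalizer
      obtain ⟨i, hi⟩ := FGS.exists_sr_of_not_isCyclic (H := H)
        (fun hc => hH (by haveI := hc; exact IsCyclic.isMulCommutative))
      have hrot : ∀ j, DihedralGroup.r j ∈ Subgroup.normalizer (H : Set (DihedralGroup n)) →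
          DihedralGroup.r j ∈ H := by
        intro j hj
        have h1 := (Subgroup.mem_normalizer_iff.1 hj (DihedralGroup.sr i)).1 hi
        have h2 := H.mul_mem h1 hi
        simp only [DihedralGroup.inv_r, DihedralGroup.r_mul_sr, DihedralGroup.sr_mul_r,
          DihedralGroup.sr_mul_sr] at h2
        rw [show i - (i - j + -j) = j + j by ring] at h2
        obtain ⟨k, hk⟩ := ho
        have h3 := H.pow_mem h2 (k + 1)
        rw [DihedralGroup.r_pow] at h3
        convert h3 using 2
        have hn0 : ((2 * k + 1 : ℕ) : ZMod n) = 0 := by rw [← hk, ZMod.natCast_self]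
        push_cast at hn0 ⊢
        linear_combination -j * hn0
      rcases g with j | j
      · exact hrot j hg
      · have := hrot _ (by
          have := mul_mem hg (Subgroup.le_normalizer hi)
          rwa [DihedralGroup.sr_mul_sr] at this)
        have h2 := H.mul_mem hi (H.inv_mem this)
        simp only [DihedralGroup.inv_r, DihedralGroup.sr_mul_r] at h2
        rwa [show i + -(i - j) = j by ring] at h2

end Cfsg.Agent.S4074
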