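import Cfsg.Statements.S4075

set_option autoImplicit false
open Cfsg

namespace Cfsg.Agent.S4075

/-- Let G be a finite nilpotent group. Every non-abelian subgroup of G is self-normalizing if and only if G is abelian or G is a minimal non-abelian p-group for some prime p (non-abelian of prime-power order with every proper subgroup abelian). -/
theorem result {G : Type*} [Group G] [Finite G]
    [Group.IsNilpotent G] :
    (∀ H : Subgroup G, ¬ IsMulCommutative H → Subgroup.normalizer (H : Set G) = H) ↔
    (IsMulCommutative G ∨ (IsPrimePow (Nat.card G) ∧ ¬ IsMulCommutative G ∧ ∀ H : Subgroup G, H ≠ ⊤ → IsMulCommutative H)) := by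
  constructor
  · intro h
    have hsub : ∀ H : Subgroup G, H ≠ ⊤ → IsMulCommutative H := fun H hH => by
      by_contra hc
      have hlt := Group.normalizerCondition_of_isNilpotent H (lt_top_iff_ne_top.2 hH)
      exact hlt.ne (h H hc).symm
    by_cases hc : IsMulCommutative G
    · exact Or.inl hc
    refine Or.inr ⟨?_, hc, hsub⟩
    by_contra hpp
    refine hc ?_
    have hab : ∀ (p : ℕ) [Fact p.Prime] (P : Sylow p G), IsMulCommutative (P : Subgroup G) := by
      intro p _ P
      refine hsub _ fun e => hpp ?_
      have hcard := P.card_eq_multiplicity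
      rw [e, Subgroup.card_top] at hcard
      rcases Nat.eq_zero_or_pos ((Nat.card G).factorization p) with h0 | h0
      · rw [h0, pow_zero] at hcard
        haveI : Subsingleton G := (Nat.card_eq_one_iff_unique.1 hcard).1
        exact absurd ⟨⟨fun a b => Subsingleton.elim _ _⟩⟩ hc
      · rw [hcard]; exact (Nat.Prime.prime Fact.out).isPrimePow.pow h0.ne'
    obtain ⟨e⟩ := ((Group.isNilpotent_of_finite_tfae (G := G)).out 0 4).1
      ‹Group.IsNilpotent G›
    refine ⟨⟨fun a b => ?_⟩⟩
    apply e.symm.injective
    rw [map_mul, map_mul]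
    funext q Q
    haveI : Fact (q : ℕ).Prime := ⟨Nat.prime_of_mem_primeFactors q.2⟩
    exact (hab q Q).is_comm.comm _ _
  · rintro (hc | ⟨-, -, hsub⟩) H hH
    · exact absurd ⟨⟨fun a b => Subtype.ext (hc.is_comm.comm (a : G) (b : G))⟩⟩ hH
    · have hT : H = ⊤ := by_contra fun hne => hH (hsub H hne)
      subst hT
      exact eq_top_iff.2 fun x _ => Subgroup.mem_normalizer_iff.2 fun h => by simp

end Cfsg.Agent.S4075
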