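import Cfsg.Statements.S4079
import Cfsg.Agent.MetaAut.Moves
import Cfsg.Agent.MaxClass.Three
import Cfsg.Agent.MaxClass.TwoStep
import Cfsg.Agent.MaxClass.SelfCent
-- import your own Cfsg.Agent.* helpers here

set_option autoImplicit false
open Cfsg

namespace Cfsg.Agent.S4079

/-- Let p be an odd prime and L a finite metacyclic p-group with no cyclic subgroup of index p, and let a be an automorphism of L of order p. Then a moves some element of order p of L if and only if p = 3 and the semidirect product L ⋊ ⟨a⟩ (of order 3·#L) has maximal class, i.e. nilpotency class m where #L = 3^m. -/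
theorem result {L : Type*} [Group L] [Finite L] {p : ℕ} [Fact p.Prime]
    (hp : p ≠ 2) (hL : IsPGroup p L) (hmc : Cfsg.IsMetacyclic L) (hnc : ∀ C : Subgroup L, IsCyclic C → C.index ≠ p)
    (a : MulAut L) (ha : orderOf a = p) (m : ℕ) (hm : Nat.card L = p ^ m) :
    (∃ x : L, orderOf x = p ∧ a x ≠ x) ↔
    (p = 3 ∧ Group.nilpotencyClass (SemidirectProduct L ↥(Subgroup.zpowers a) (Subgroup.zpowers a).subtype) = m) := by
  classical
  have hpp : p.Prime := Fact.out
  haveI hnt : Nontrivial L := by
    by_contra hs
    rw [not_nontrivial_iff_subsingleton] at hs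
    have : a = 1 := MulEquiv.ext fun x => Subsingleton.elim _ _
    rw [this, orderOf_one] at ha
    exact hpp.one_lt.ne ha
  obtain ⟨A, B, R, hB⟩ := MetaAut.exists_bottom hp hL hmc hnt hnc
  have hap : a ^ p = 1 := ha ▸ pow_orderOf_eq_one a
  set φ : ↥(Subgroup.zpowers a) →* MulAut L := (Subgroup.zpowers a).subtype with hφ
  have hGcard : Nat.card (SemidirectProduct L ↥(Subgroup.zpowers a) φ) = p ^ (m + 1) := by
    rw [SemidirectProduct.card, hm, Nat.card_zpowers, ha, pow_succ]
  haveI : Finite (SemidirectProduct L ↥(Subgroup.zpowers a) φ) :=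
    Nat.finite_of_card_ne_zero (by rw [hGcard]; exact pow_ne_zero _ hpp.ne_zero)
  have hsq : p ^ 2 ≤ p ^ m := by
    rw [← hm, ← hB.card_elem]
    exact Nat.card_le_card_of_injective _ Subtype.val_injective
  have hm2 : 2 ≤ m := (Nat.pow_le_pow_iff_right hpp.one_lt).mp hsq
  constructor
  · rintro ⟨w, hw, haw⟩
    have hwp : w ^ p = 1 := hw ▸ pow_orderOf_eq_one w
    obtain ⟨hp3, hfix⟩ := MetaAut.main hB hL a hap hwp haw
    refine ⟨hp3, ?_⟩
    -- the centraliser of `a` in the semidirect product has order `p ^ 2`
    set x0 : SemidirectProduct L ↥(Subgroup.zpowers a) φ :=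
      SemidirectProduct.inr (⟨a, Subgroup.mem_zpowers a⟩ : ↥(Subgroup.zpowers a)) with hx0
    set C := Subgroup.centralizer ({x0} : Set (SemidirectProduct L ↥(Subgroup.zpowers a) φ))
      with hC
    have hmem : ∀ g, g ∈ C ↔ a g.left = g.left := by
      intro g
      have hc : g.right * ⟨a, Subgroup.mem_zpowers a⟩ =
          (⟨a, Subgroup.mem_zpowers a⟩ : ↥(Subgroup.zpowers a)) * g.right := by
        obtain ⟨k, hk⟩ := Subgroup.mem_zpowers_iff.mp g.right.2
        apply Subtype.ext
        show (g.right : MulAut L) * a = a * g.right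
        rw [← hk]
        exact ((Commute.refl a).zpow_left k).eq
      rw [hC, Subgroup.mem_centralizer_singleton_iff, SemidirectProduct.ext_iff]
      simp [hx0, hφ, hc, eq_comm]
    have hCcard : Nat.card C ≤ p ^ 2 := by
      let f : C → {g : L // a g = g} × ↥(Subgroup.zpowers a) :=
        fun g => (⟨g.1.left, (hmem _).mp g.2⟩, g.1.right)
      have hf : Function.Injective f := by
        intro g g' e
        simp only [f, Prod.mk.injEq, Subtype.mk.injEq] at e
        exact Subtype.ext (SemidirectProduct.ext e.1 e.2)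
      refine (Nat.card_le_card_of_injective f hf).trans ?_
      rw [Nat.card_prod, Nat.card_zpowers, ha, pow_two]
      exact Nat.mul_le_mul_right p hfix
    have hX : IsPGroup p (SemidirectProduct L ↥(Subgroup.zpowers a) φ) := IsPGroup.of_card hGcard
    have hx0C : x0 ∈ C := (hmem _).mpr (by simp [hx0])
    -- a fixed element gives the lower bound
    have hge : p ^ 2 ≤ Nat.card C := by
      obtain ⟨v, -, hv1, hva⟩ := MetaAut.exists_fixed a hap (⊤ : Subgroup L) (fun _ _ => trivial)
        (by rw [Subgroup.card_top, hm]; exact dvd_pow_self p (by omega))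
      obtain ⟨k, hk⟩ := (hX.to_subgroup C).exists_card_eq
      rw [hk]
      apply Nat.pow_le_pow_right hpp.pos
      by_contra hlt
      have hzc : Subgroup.zpowers x0 = C := by
        refine Subgroup.eq_of_le_of_card_ge (Subgroup.zpowers_le.mpr hx0C) ?_
        rw [hk, Nat.card_zpowers, hx0, orderOf_injective _ SemidirectProduct.inr_injective,
          Subgroup.orderOf_mk, ha]
        calc p ^ k ≤ p ^ 1 := Nat.pow_le_pow_right hpp.pos (by omega)
          _ = p := pow_one p
      have hvC : (SemidirectProduct.inl v : SemidirectProduct L ↥(Subgroup.zpowers a) φ) ∈ C :=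
        (hmem _).mpr (by simpa using hva)
      rw [← hzc] at hvC
      obtain ⟨i, hi⟩ := Subgroup.mem_zpowers_iff.mp hvC
      apply hv1
      have := congrArg SemidirectProduct.left hi
      rw [hx0, ← map_zpow, SemidirectProduct.left_inr, SemidirectProduct.left_inl] at this
      exact this.symm
    have hCeq : Nat.card C = p ^ 2 := le_antisymm hCcard hge
    have hself : Subgroup.centralizer (C : Set (SemidirectProduct L ↥(Subgroup.zpowers a) φ)) ≤ C :=
      Subgroup.centralizer_le (Set.singleton_subset_iff.mpr hx0C)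
    have := MaxClass.class_of_selfcent_sq (p := p) (m + 1)
      (SemidirectProduct L ↥(Subgroup.zpowers a) φ) hGcard C hCeq hself
    simpa using this
  · rintro ⟨hp3, hcl⟩
    subst hp3
    by_contra hne
    push_neg at hne
    have hfixed : ∀ w : L, w ^ 3 = 1 → a w = w := by
      intro w hw
      rcases eq_or_ne w 1 with rfl | hw1
      · exact map_one a
      · exact hne w (orderOf_eq_prime hw hw1)
    -- the elements `A ^ i * B ^ j` give `3 ^ 4 ≤ |L|`
    have hm4 : 4 ≤ m := by
      have hinj : Function.Injective (fun q : ZMod (3 ^ 2) × ZMod (3 ^ 2) =>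
          A ^ (q.1.val : ℤ) * B ^ q.2.val) := by
        rintro ⟨i, j⟩ ⟨k, l⟩ e
        simp only at e
        have hd : 3 ^ 2 ∣ j.val + (3 ^ 2 - l.val) := by
          apply hB.indep ((i.val : ℤ) - k.val)
          rw [pow_add, sub_eq_add_neg, add_comm (i.val : ℤ), zpow_add, mul_assoc,
            ← mul_assoc (A ^ (i.val : ℤ)), e, zpow_neg, mul_assoc, inv_mul_cancel_left, ← pow_add,
            Nat.add_sub_cancel' l.val_lt.le, hB.B2]
        have hjl : j = l := by
          have := (ZMod.natCast_eq_zero_iff _ _).mpr hd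
          rw [Nat.cast_add, Nat.cast_sub l.val_lt.le, ZMod.natCast_zmod_val, ZMod.natCast_zmod_val,
            ZMod.natCast_self, zero_sub, ← sub_eq_add_neg, sub_eq_zero] at this
          exact this
        subst hjl
        have e2 := mul_right_cancel e
        rw [zpow_natCast, zpow_natCast] at e2
        have := pow_injOn_Iio_orderOf (x := A) (by rw [hB.A2]; exact i.val_lt)
          (by rw [hB.A2]; exact k.val_lt) e2
        rw [ZMod.val_injective _ this]
      have := Nat.card_le_card_of_injective _ hinj
      rw [Nat.card_prod, Nat.card_zmod, hm, ← pow_add] at this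
      exact (Nat.pow_le_pow_iff_right (by norm_num)).mp this
    have hcl' : MaxClass.TwoStep.MCl 3 (m + 1) (SemidirectProduct L ↥(Subgroup.zpowers a) φ) :=
      ⟨by omega, hGcard, by simpa using hcl⟩
    obtain ⟨s, hs⟩ := hcl'.exists_mx le_rfl (by omega)
    -- an elementary abelian subgroup of order 27
    have hcomm : ∀ u : L, u ^ 3 = 1 → ∀ v : L, v ^ 3 = 1 → u * v = v * u := fun u hu v hv =>
      (hB.commute hu (by rw [pow_two, pow_mul, hv, one_pow])).eq
    have hfr : ∀ g : ↥(Subgroup.zpowers a), ∀ u : L, u ^ 3 = 1 → φ g u = u := by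
      intro g u hu
      obtain ⟨k, hk⟩ := (isOfFinOrder_of_finite a).mem_powers_iff_mem_zpowers.mpr g.2
      show (g : MulAut L) u = u
      rw [← hk]
      exact MetaAut.pow_fix (hfixed u hu) k
    let E : Subgroup (SemidirectProduct L ↥(Subgroup.zpowers a) φ) :=
      { carrier := {g | g.left ^ 3 = 1}
        one_mem' := by simp
        mul_mem' := fun {g g'} hg hg' => by
          show (g * g').left ^ 3 = 1
          rw [SemidirectProduct.mul_left, hfr _ _ hg',
            (show Commute g.left g'.left from hcomm _ hg _ hg').mul_pow, hg, hg', one_mul]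
        inv_mem' := fun {g} hg => by
          show g⁻¹.left ^ 3 = 1
          rw [SemidirectProduct.inv_left, hfr _ _ (by rw [inv_pow, hg, inv_one]), inv_pow, hg, inv_one] }
    have hright : ∀ g g' : ↥(Subgroup.zpowers a), g * g' = g' * g := fun g g' => by
      obtain ⟨k, hk⟩ := Subgroup.mem_zpowers_iff.mp g.2
      obtain ⟨k', hk'⟩ := Subgroup.mem_zpowers_iff.mp g'.2
      apply Subtype.ext
      show (g : MulAut L) * g' = g' * g
      rw [← hk, ← hk', ← zpow_add, ← zpow_add, add_comm]
    have hEcomm : ∀ g ∈ E, ∀ g' ∈ E, g * g' = g' * g := fun g hg g' hg' => by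
      refine SemidirectProduct.ext ?_ (hright _ _)
      rw [SemidirectProduct.mul_left, SemidirectProduct.mul_left, hfr _ _ hg', hfr _ _ hg,
        hcomm _ hg _ hg']
    have hE3 : ∀ g ∈ E, g ^ 3 = 1 := fun g hg => by
      have e : ∀ n : ℕ, (g ^ n).left = g.left ^ n ∧ (g ^ n).right = g.right ^ n := by
        intro n
        induction n with
        | zero => simp
        | succ n ih =>
          rw [pow_succ, SemidirectProduct.mul_left, SemidirectProduct.mul_right, ih.1, ih.2,
            hfr _ _ hg, pow_succ, pow_succ]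
          exact ⟨rfl, rfl⟩
      refine SemidirectProduct.ext ?_ ?_
      · rw [(e 3).1, hg, SemidirectProduct.one_left]
      · rw [(e 3).2, SemidirectProduct.one_right]
        apply Subtype.ext
        obtain ⟨k, hk⟩ := Subgroup.mem_zpowers_iff.mp g.right.2
        show (g.right : MulAut L) ^ 3 = 1
        rw [← hk, ← zpow_natCast, ← zpow_mul, mul_comm, zpow_mul, zpow_natCast, hap, one_zpow]
    have hEcard : Nat.card E = 27 := by
      have : Nat.card E = Nat.card ({u : L // u ^ 3 = 1} × ↥(Subgroup.zpowers a)) :=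
        Nat.card_congr
          { toFun := fun g => (⟨g.1.left, g.2⟩, g.1.right)
            invFun := fun q => ⟨⟨q.1.1, q.2⟩, q.1.2⟩
            left_inv := fun _ => rfl
            right_inv := fun _ => rfl }
      rw [this, Nat.card_prod, hB.card_elem, Nat.card_zpowers, ha]
      norm_num
    obtain ⟨T, hT2, hT⟩ := hs.gens_two (by omega) (Or.inl (by omega)) E
    obtain ⟨u, v, hcov, huE, hvE⟩ : ∃ u v, E ≤ Subgroup.closure {u, v} ∧ u ∈ E ∧ v ∈ E := by
      have hsub : ∀ t ∈ T, t ∈ E := fun t ht => hT ▸ Subgroup.subset_closure ht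
      rcases Nat.lt_or_ge T.card 1 with h0 | h1
      · refine ⟨1, 1, ?_, one_mem E, one_mem E⟩
        rw [← hT, Finset.card_eq_zero.mp (by omega : T.card = 0)]
        exact Subgroup.closure_mono (by simp)
      rcases Nat.lt_or_ge T.card 2 with h1' | h2
      · obtain ⟨u, rfl⟩ := Finset.card_eq_one.mp (by omega : T.card = 1)
        refine ⟨u, 1, ?_, hsub u (by simp), one_mem E⟩
        rw [← hT]
        exact Subgroup.closure_mono (by simp)
      · obtain ⟨u, v, -, rfl⟩ := Finset.card_eq_two.mp (by omega : T.card = 2)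
        refine ⟨u, v, ?_, hsub u (by simp), hsub v (by simp)⟩
        rw [← hT]
        exact Subgroup.closure_mono (by simp)
    let f : ↥(Subgroup.zpowers u) × ↥(Subgroup.zpowers v) →*
        SemidirectProduct L ↥(Subgroup.zpowers a) φ :=
      MonoidHom.noncommCoprod (Subgroup.zpowers u).subtype (Subgroup.zpowers v).subtype
        (fun x y => hEcomm _ ((Subgroup.zpowers_le.mpr huE) x.2) _ ((Subgroup.zpowers_le.mpr hvE) y.2))
    have hle : E ≤ f.range := hcov.trans ((Subgroup.closure_le _).mpr (by
      rintro g (rfl | rfl)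
      · exact ⟨(⟨g, Subgroup.mem_zpowers g⟩, 1), by show g * 1 = g; exact mul_one g⟩
      · exact ⟨(1, ⟨g, Subgroup.mem_zpowers g⟩), by show 1 * g = g; exact one_mul g⟩))
    have h27 : 27 ≤ Nat.card (↥(Subgroup.zpowers u) × ↥(Subgroup.zpowers v)) := by
      rw [← hEcard]
      exact (Nat.card_le_card_of_injective _ (Subgroup.inclusion_injective hle)).trans
        (Nat.card_le_card_of_surjective _ f.rangeRestrict_surjective)
    rw [Nat.card_prod, Nat.card_zpowers, Nat.card_zpowers] at h27
    have hu3 := Nat.le_of_dvd (by norm_num) (orderOf_dvd_of_pow_eq_one (hE3 u huE))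
    have hv3 := Nat.le_of_dvd (by norm_num) (orderOf_dvd_of_pow_eq_one (hE3 v hvE))
    nlinarith

end Cfsg.Agent.S4079
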