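import Cfsg.Statements.S4080
import Mathlib.GroupTheory.PGroup
import Mathlib.Data.Nat.Choose.Basic
import Mathlib.Data.Nat.Choose.Cast
import Mathlib.Data.ZMod.Basic
import Mathlib.Tactic

set_option autoImplicit false
open Cfsg

namespace Cfsg.Agent.S4080

theorem choose_two_dvd {p : ℕ} (hp : p.Prime) (h3 : 3 < p) : p ∣ p.choose 2 ∧ p ∣ p.choose 3 :=
  ⟨hp.dvd_choose_self (by norm_num) (by omega), hp.dvd_choose_self (by norm_num) (by omega)⟩

/-- Let p > 3 be a prime and L the direct product of two cyclic groups of order p². Every automorphism of L of order p fixes every element of order p of L. -/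
theorem result {p : ℕ} [Fact p.Prime] (hp : 3 < p)
    (a : MulAut (Multiplicative (ZMod (p ^ 2) × ZMod (p ^ 2)))) (ha : orderOf a = p)
    (x : Multiplicative (ZMod (p ^ 2) × ZMod (p ^ 2))) (hx : orderOf x = p) : a x = x := by
  have hpp : p.Prime := Fact.out
  let L := ZMod (p ^ 2) × ZMod (p ^ 2)
  let α : L →+ L := AddMonoidHom.mk' (fun y => Multiplicative.toAdd (a (Multiplicative.ofAdd y))) (fun y z => by rw [ofAdd_add, map_mul, toAdd_mul])
  let δ : L →+ L := α - AddMonoidHom.id L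
  have hα : ∀ y, α y = y + δ y := fun y => by
    show α y = y + (α y - y); abel
  have hit : ∀ (k : ℕ) (y : L), δ (δ (δ (δ y))) = 0 →
      α^[k] y = y + k • δ y + (k.choose 2) • δ (δ y) + (k.choose 3) • δ (δ (δ y)) := by
    intro k
    induction k with
    | zero => intro y _; simp
    | succ k ih =>
      intro y hy
      rw [Function.iterate_succ_apply', ih y hy, map_add, map_add, map_add, map_nsmul, map_nsmul, map_nsmul,
        hα y, hα (δ y), hα (δ (δ y)), hα (δ (δ (δ y))), hy, add_zero, Nat.choose_succ_succ' k 1,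
        Nat.choose_succ_succ' k 2, Nat.choose_one_right]
      simp only [nsmul_add, add_nsmul, one_nsmul]
      abel
  have hiter : ∀ (k : ℕ) (y : L), α^[k] y = Multiplicative.toAdd ((a ^ k) (Multiplicative.ofAdd y)) := by
    intro k
    induction k with
    | zero => intro y; rfl
    | succ k ih => intro y; rw [Function.iterate_succ_apply', ih, pow_succ' a]; rfl
  have hap : a ^ p = 1 := orderOf_dvd_iff_pow_eq_one.1 ha.dvd
  have hid : ∀ y, α^[p] y = y := fun y => by rw [hiter, hap]; rfl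
  have hsm : ∀ y : L, (p ^ 2) • y = 0 := fun y => by
    refine Prod.ext ?_ ?_
    · show (p ^ 2) • y.1 = 0
      rw [nsmul_eq_mul, ZMod.natCast_self, zero_mul]
    · show (p ^ 2) • y.2 = 0
      rw [nsmul_eq_mul, ZMod.natCast_self, zero_mul]
  have hpp' : ∀ y : L, p • (p • y) = 0 := fun y => by rw [← mul_nsmul, ← pow_two]; exact hsm y
  -- the `p`-torsion
  have hV : ∀ v : L, p • v = 0 → ∃ y, v = p • y := by
    intro v hv
    have key : ∀ c : ZMod (p ^ 2), p • c = 0 → ∃ d, c = p • d := by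
      intro c hc
      rw [nsmul_eq_mul, ← ZMod.natCast_zmod_val c, ← Nat.cast_mul, ZMod.natCast_eq_zero_iff] at hc
      replace hc := Nat.dvd_of_mul_dvd_mul_left hpp.pos (show p * p ∣ p * c.val from (pow_two p).symm.dvd.trans hc)
      obtain ⟨d, hd⟩ := hc
      exact ⟨d, by rw [← ZMod.natCast_zmod_val c, hd, Nat.cast_mul, nsmul_eq_mul]⟩
    obtain ⟨d₁, h1⟩ := key v.1 (congrArg Prod.fst hv)
    obtain ⟨d₂, h2⟩ := key v.2 (congrArg Prod.snd hv)
    exact ⟨(d₁, d₂), Prod.ext h1 h2⟩
  let V : AddSubgroup L := (nsmulAddMonoidHom p : L →+ L).ker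
  have hVmem : ∀ v, v ∈ V ↔ p • v = 0 := fun v => Iff.rfl
  let ρ : ZMod p × ZMod p → V := fun c => ⟨p • ((c.1.val : ZMod (p ^ 2)), (c.2.val : ZMod (p ^ 2))), hpp' _⟩
  have hρ : Function.Bijective ρ := by
    constructor
    · intro c d h
      have h' : p • ((c.1.val : ZMod (p ^ 2)), (c.2.val : ZMod (p ^ 2))) =
          p • ((d.1.val : ZMod (p ^ 2)), (d.2.val : ZMod (p ^ 2))) := congrArg Subtype.val h
      have key : ∀ u w : ZMod p, (p • (u.val : ZMod (p ^ 2))) = p • (w.val : ZMod (p ^ 2)) → u = w := by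
        intro u w e
        rw [nsmul_eq_mul, nsmul_eq_mul, ← Nat.cast_mul, ← Nat.cast_mul, ZMod.natCast_eq_natCast_iff,
          Nat.ModEq, Nat.mod_eq_of_lt (by rw [pow_two]; exact Nat.mul_lt_mul_of_pos_left u.val_lt hpp.pos),
          Nat.mod_eq_of_lt (by rw [pow_two]; exact Nat.mul_lt_mul_of_pos_left w.val_lt hpp.pos)] at e
        exact ZMod.val_injective p (Nat.eq_of_mul_eq_mul_left hpp.pos e)
      exact Prod.ext (key _ _ (congrArg Prod.fst h')) (key _ _ (congrArg Prod.snd h'))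
    · rintro ⟨v, hv⟩
      obtain ⟨y, rfl⟩ := hV v hv
      refine ⟨((y.1.val : ZMod p), (y.2.val : ZMod p)), Subtype.ext ?_⟩
      have key : ∀ c : ZMod (p ^ 2), p • ((((c.val : ℕ) : ZMod p).val : ℕ) : ZMod (p ^ 2)) = p • c := by
        intro c
        conv_rhs => rw [← ZMod.natCast_zmod_val c, ← Nat.mod_add_div c.val p, Nat.cast_add, Nat.cast_mul,
          nsmul_add, ← nsmul_eq_mul, ← mul_nsmul, ← pow_two, nsmul_eq_mul (p ^ 2), ZMod.natCast_self, zero_mul,
          add_zero]
        rw [ZMod.val_natCast]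
      exact Prod.ext (key y.1) (key y.2)
  have hVcard : Nat.card V = p ^ 2 := by
    rw [← Nat.card_congr (Equiv.ofBijective ρ hρ), Nat.card_prod, Nat.card_zmod, pow_two]
  have hαV : ∀ v ∈ V, α v ∈ V := fun v hv => by
    rw [hVmem] at hv ⊢; rw [← map_nsmul, hv, map_zero]
  have hfix : ∀ v ∈ V, δ (δ v) = 0 := by
    let A : AddMonoid.End V := AddMonoidHom.codRestrict (α.comp V.subtype) V (fun v => hαV v v.2)
    let T : AddMonoid.End V := A - 1
    have hT : ∀ w : V, ((T w : V) : L) = δ (w : L) := fun w => rfl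
    have hA : ∀ (k : ℕ) (w : V), (((A ^ k) w : V) : L) = α^[k] (w : L) := fun k w => by
      induction k with
      | zero => rfl
      | succ k ih => rw [pow_succ' A, Function.iterate_succ_apply', ← ih]; rfl
    have hAp : A ^ p = 1 := AddMonoidHom.ext fun w => Subtype.ext ((hA p w).trans (hid _))
    have hpz : (p : AddMonoid.End V) = 0 := AddMonoidHom.ext fun w => by
      show ((p : AddMonoid.End V) w) = 0
      rw [AddMonoid.End.natCast_apply]
      exact Subtype.ext w.2
    have hTp : T ^ p = 0 := by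
      obtain ⟨r, hr⟩ := (Commute.one_right T).exists_add_pow_prime_eq hpp
      rw [show T + 1 = A from sub_add_cancel A 1, hAp, one_pow, hpz] at hr
      simpa using hr.symm
    set R1 := AddMonoidHom.range (T : V →+ V) with hR1
    set R2 := AddSubgroup.map (T : V →+ V) R1 with hR2
    have hlt1 : R1 ≠ ⊤ := fun htop => by
      have hsurj : ∀ k : ℕ, Function.Surjective (T ^ k : AddMonoid.End V) := by
        intro k
        induction k with
        | zero => exact fun w => ⟨w, rfl⟩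
        | succ k ih =>
          intro w
          obtain ⟨u, rfl⟩ := ih w
          obtain ⟨u', hu'⟩ : u ∈ R1 := htop ▸ AddSubgroup.mem_top u
          exact ⟨u', by rw [pow_succ T]; exact congrArg (T ^ k : AddMonoid.End V) hu'⟩
      have h0 : ∀ w : V, w = 0 := fun w => by
        obtain ⟨u, rfl⟩ := hsurj p w
        rw [hTp]; rfl
      have h1 := Nat.card_eq_one_iff_unique.2 (⟨⟨fun u w => (h0 u).trans (h0 w).symm⟩, ⟨0⟩⟩ : Subsingleton V ∧ Nonempty V)
      rw [hVcard] at h1
      exact (Nat.one_lt_pow two_ne_zero hpp.one_lt).ne' h1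
    have hle21 : R2 ≤ R1 := by
      rintro _ ⟨w, -, rfl⟩; exact ⟨w, rfl⟩
    intro v hv
    by_contra hne
    have hR2ne : R2 ≠ ⊥ := fun hb => hne (by
      have hm : (T (T ⟨v, hv⟩) : V) ∈ R2 := ⟨_, ⟨⟨v, hv⟩, rfl⟩, rfl⟩
      rw [hb, AddSubgroup.mem_bot] at hm
      exact congrArg Subtype.val hm)
    obtain ⟨i, hi2, hi⟩ := (Nat.dvd_prime_pow hpp).1 (hVcard ▸ R1.card_addSubgroup_dvd_card)
    obtain ⟨j, hj2, hj⟩ := (Nat.dvd_prime_pow hpp).1 (hVcard ▸ R2.card_addSubgroup_dvd_card)
    have hj0 : j ≠ 0 := fun h => hR2ne (AddSubgroup.card_eq_one.1 (by rw [hj, h, pow_zero]))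
    have hi1 : i < 2 := by
      by_contra h
      exact hlt1 (AddSubgroup.eq_top_of_card_eq _ (by rw [hi, hVcard, show i = 2 by omega]))
    have hji : j ≤ i := (Nat.pow_le_pow_iff_right hpp.one_lt).1 (hj ▸ hi ▸ AddSubgroup.card_le_of_le hle21)
    have heq : R2 = R1 := AddSubgroup.eq_of_le_of_card_ge hle21 (by rw [hi, hj, show j = i by omega])
    have hstable : ∀ k : ℕ, ∀ w ∈ R1, ∃ u ∈ R1, (T ^ k : AddMonoid.End V) u = w := by
      intro k
      induction k with
      | zero => exact fun w hw => ⟨w, hw, rfl⟩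
      | succ k ih =>
        intro w hw
        obtain ⟨u, hu, rfl⟩ := ih w hw
        obtain ⟨u', hu', huu⟩ : u ∈ R2 := heq.symm ▸ hu
        exact ⟨u', hu', by rw [pow_succ T]; exact congrArg (T ^ k : AddMonoid.End V) huu⟩
    obtain ⟨u, -, hu⟩ := hstable p (T (T ⟨v, hv⟩)) ⟨_, rfl⟩
    rw [hTp] at hu
    exact hne (congrArg Subtype.val hu.symm)
  have hpδ : ∀ y : L, δ (δ (p • y)) = 0 := fun y => hfix _ (hpp' y)
  have h4 : ∀ y : L, δ (δ (δ (δ y))) = 0 := fun y => hfix _ (by
    rw [hVmem, ← map_nsmul, ← map_nsmul]; exact hpδ y)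
  obtain ⟨x', hx'⟩ : ∃ x', Multiplicative.ofAdd x' = x := ⟨Multiplicative.toAdd x, rfl⟩
  subst hx'
  have hxV : p • x' = 0 := by
    have := congrArg Multiplicative.toAdd (hx ▸ pow_orderOf_eq_one (Multiplicative.ofAdd x'))
    simpa using this
  obtain ⟨y, rfl⟩ := hV x' hxV
  have h := hit p y (h4 y)
  obtain ⟨⟨c, hc⟩, ⟨d, hd⟩⟩ := S4080.choose_two_dvd hpp hp
  have e : p • δ (δ y) = 0 := by rw [← map_nsmul, ← map_nsmul]; exact hpδ y
  have e2 : p.choose 2 • δ (δ y) = 0 := by rw [hc, mul_comm, mul_nsmul', e, nsmul_zero]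
  have e3 : p.choose 3 • δ (δ (δ y)) = 0 := by
    rw [hd, mul_comm, mul_nsmul', ← map_nsmul δ p, e, map_zero, nsmul_zero]
  rw [hid, e2, e3, add_zero, add_zero, left_eq_add, ← map_nsmul] at h
  have hfin : α (p • y) = p • y := by rw [hα, h, add_zero]
  exact congrArg Multiplicative.ofAdd hfin

end Cfsg.Agent.S4080
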