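import Cfsg.Statements.S4081
import Cfsg.Agent.Char.Integral
import Cfsg.Agent.Core.MinimalNormal
import Cfsg.Agent.Core.PCore
import Cfsg.Agent.Core.Basics
import Cfsg.Agent.Coprime.Generation
import Mathlib.RingTheory.Polynomial.Cyclotomic.Factorization
import Mathlib.GroupTheory.SemidirectProduct
-- import your own Cfsg.Agent.* helpers here

set_option autoImplicit false
open Cfsg

namespace Cfsg.Agent.S4081

open Subgroup Polynomial
open scoped Pointwise
open scoped IsMulCommutative

universe u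

variable {G : Type u} [Group G]

section Action

variable (K : Subgroup G) [K.Normal] [IsMulCommutative K] (p : ℕ) [Module (ZMod p) (Additive K)]

/-- Conjugation on the additive group of an abelian normal subgroup. -/
def Θ : G →* Module.End (ZMod p) (Additive K) where
  toFun g := (MonoidHom.toAdditive (MulAut.conjNormal (H := K) g).toMonoidHom).toZModLinearMap p
  map_one' := by
    refine LinearMap.ext fun v => ?_
    show Additive.ofMul (MulAut.conjNormal (H := K) (1 : G) (Additive.toMul v)) = v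
    rw [map_one]; rfl
  map_mul' a b := by
    refine LinearMap.ext fun v => ?_
    show Additive.ofMul (MulAut.conjNormal (H := K) (a * b) (Additive.toMul v)) = _
    rw [map_mul]; rfl

theorem Θ_apply (g : G) (v : Additive K) :
    ((Additive.toMul (Θ K p g v) : K) : G) = g * ((Additive.toMul v : K) : G) * g⁻¹ :=
  MulAut.conjNormal_apply g (Additive.toMul v)

theorem Θ_of_mem {k : G} (hk : k ∈ K) : Θ K p k = 1 := by
  refine LinearMap.ext fun v => ?_
  apply Additive.toMul.injective
  apply Subtype.ext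
  rw [Θ_apply]
  show k * ((Additive.toMul v : K) : G) * k⁻¹ = ((Additive.toMul v : K) : G)
  rw [show k * ((Additive.toMul v : K) : G) = ((Additive.toMul v : K) : G) * k from
    congrArg Subtype.val (mul_comm (⟨k, hk⟩ : K) (Additive.toMul v))]
  group

theorem aeval_intertwine {A B ψ : Module.End (ZMod p) (Additive K)} (h : ψ * A = B * ψ)
    (g : (ZMod p)[X]) : ψ * aeval A g = aeval B g * ψ := by
  induction g using Polynomial.induction_on' with
  | add a b ha hb => rw [map_add, map_add, mul_add, add_mul, ha, hb]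
  | monomial n a =>
    rw [aeval_monomial, aeval_monomial, ← mul_assoc, ← Algebra.commutes a ψ, mul_assoc,
      SemiconjBy.pow_right h n, mul_assoc]

/-- The cyclotomic polynomial kills a fixed point free action of order `q`. -/
theorem cyclotomic_kills {q : ℕ} [Fact q.Prime] {θ : Module.End (ZMod p) (Additive K)}
    (hθ : θ ^ q = 1) (hfix : ∀ v, θ v = v → v = 0) : aeval θ (cyclotomic q (ZMod p)) = 0 := by
  refine LinearMap.ext fun v => ?_
  refine hfix _ ?_
  have h1 : (θ - 1) * aeval θ (cyclotomic q (ZMod p)) = 0 := by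
    have := congrArg (aeval θ) (cyclotomic_prime_mul_X_sub_one (ZMod p) q)
    rw [mul_comm, map_mul, map_sub, map_sub, aeval_X, map_one, map_pow, aeval_X, hθ, sub_self] at this
    exact this
  have := LinearMap.congr_fun h1 v
  rw [Module.End.mul_apply, LinearMap.sub_apply, LinearMap.zero_apply, sub_eq_zero] at this
  exact this

end Action

theorem pow_mod_eq {M : Type*} [Monoid M] {θ : M} {q : ℕ} (hθ : θ ^ q = 1) {a b : ℕ}
    (h : a ≡ b [MOD q]) : θ ^ a = θ ^ b := by
  rw [pow_eq_pow_mod a hθ, pow_eq_pow_mod b hθ, h]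

/-- The forward direction at the level of the module. -/
theorem orderOf_eq_of_transitive (K : Subgroup G) [K.Normal] [IsMulCommutative K] (p : ℕ)
    [Fact p.Prime] [Module (ZMod p) (Additive K)] [Finite K] (hKne : K ≠ ⊥) {q : ℕ} [Fact q.Prime]
    (hpq : p ≠ q) (θ : Module.End (ZMod p) (Additive K)) (hθ : θ ^ q = 1)
    (hfix : ∀ v, θ v = v → v = 0)
    (hpow : ∀ i : ℕ, ¬ q ∣ i → ∃ ψ : Module.End (ZMod p) (Additive K),
      Function.Injective ψ ∧ ψ * θ = θ ^ i * ψ)
    (htrans : ∀ v u : Additive K, v ≠ 0 → u ≠ 0 → ∃ (i : ℕ) (ψ : Module.End (ZMod p) (Additive K)),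
      ¬ q ∣ i ∧ Function.Injective ψ ∧ ψ * θ = θ ^ i * ψ ∧ ψ v = u) :
    orderOf (p : ZMod q) = q - 1 := by
  classical
  have hp : p.Prime := Fact.out
  have hq : q.Prime := Fact.out
  have : Nontrivial (Additive K) := by
    have : Nontrivial K := (Subgroup.nontrivial_iff_ne_bot K).2 hKne
    infer_instance
  set Φ := cyclotomic q (ZMod p) with hΦ
  have hΦθ : aeval θ Φ = 0 := cyclotomic_kills K p hθ hfix
  have hint : IsIntegral (ZMod p) θ := ⟨Φ, cyclotomic.monic q _, hΦθ⟩
  obtain ⟨f, hfirr, g, hg⟩ := WfDvdMonoid.exists_irreducible_factor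
    (minpoly.not_isUnit (ZMod p) θ) (minpoly.ne_zero hint)
  have hgne : aeval θ g ≠ 0 := by
    intro h0
    have hg0 : g ≠ 0 := fun e => minpoly.ne_zero hint (by rw [hg, e, mul_zero])
    have h1 := natDegree_le_natDegree (minpoly.degree_le_of_ne_zero (ZMod p) θ hg0 h0)
    rw [hg, natDegree_mul hfirr.ne_zero hg0] at h1
    have := hfirr.natDegree_pos
    omega
  obtain ⟨w, hw⟩ : ∃ w, aeval θ g w ≠ 0 := by
    by_contra hc
    push Not at hc
    exact hgne (LinearMap.ext hc)
  set v := aeval θ g w with hv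
  have hfv : aeval θ f v = 0 := by
    rw [hv, ← Module.End.mul_apply, ← map_mul, ← hg, minpoly.aeval, LinearMap.zero_apply]
  have hann : ∀ h : (ZMod p)[X], aeval θ h v = 0 ↔ f ∣ h := by
    intro h
    constructor
    · intro hh
      by_contra hnd
      obtain ⟨a, b, hab⟩ := hfirr.coprime_iff_not_dvd.2 hnd
      apply hw
      have := congrArg (fun P => aeval θ P v) hab
      simp only [map_add, map_mul, map_one, LinearMap.add_apply, Module.End.mul_apply, hfv, hh,
        map_zero, add_zero, Module.End.one_apply] at this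
      exact this.symm
    · rintro ⟨a, rfl⟩
      rw [mul_comm, map_mul, Module.End.mul_apply, hfv, map_zero]
  have hcomp : ∀ (h : (ZMod p)[X]) (i : ℕ), aeval θ (h.comp (X ^ i)) = aeval (θ ^ i) h := by
    intro h i
    rw [aeval_comp, map_pow, aeval_X]
  -- the annihilator of a transported vector
  have htr : ∀ u, u ≠ 0 → ∃ i j : ℕ, ¬ q ∣ i ∧ θ ^ (i * j) = θ ∧ (∃ k, j = i ^ k) ∧
      (aeval θ (f.comp (X ^ i)) u = 0) ∧
      ∀ h : (ZMod p)[X], aeval θ h u = 0 ↔ f ∣ h.comp (X ^ j) := by
    intro u hu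
    obtain ⟨i, ψ, hi, hinj, hψ, hψv⟩ := htrans v u hw hu
    have hij : i * i ^ (q - 2) ≡ 1 [MOD q] := by
      rw [← pow_succ', show q - 2 + 1 = q - 1 by have := hq.two_le; omega]
      rw [← Nat.totient_prime hq]
      exact Nat.ModEq.pow_totient ((hq.coprime_iff_not_dvd.2 hi).symm)
    refine ⟨i, i ^ (q - 2), hi, by rw [pow_mod_eq hθ hij, pow_one], ⟨_, rfl⟩, ?_, fun h => ?_⟩
    · rw [hcomp, ← hψv, ← Module.End.mul_apply, ← aeval_intertwine K p hψ, Module.End.mul_apply,
        hfv, map_zero]
    · have hψ' : ψ * θ ^ (i ^ (q - 2)) = θ * ψ := by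
        have h2 : SemiconjBy ψ θ (θ ^ i) := hψ
        rw [(h2.pow_right (i ^ (q - 2))).eq, ← pow_mul, pow_mod_eq hθ hij, pow_one]
      rw [← hann, hcomp, ← hψv, ← Module.End.mul_apply, ← aeval_intertwine K p hψ',
        Module.End.mul_apply]
      exact ⟨fun e => hinj (e.trans (map_zero ψ).symm), fun e => by rw [e, map_zero]⟩
  have hfu : ∀ u, aeval θ f u = 0 := by
    intro u
    by_cases hu : u = 0
    · rw [hu, map_zero]
    by_cases hvu : v + u = 0
    · rw [eq_neg_of_add_eq_zero_right hvu, map_neg, hfv, neg_zero]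
    obtain ⟨i, j, hi, hθij, ⟨k, hk⟩, hgu, hu'⟩ := htr u hu
    obtain ⟨i', j', -, -, -, -, hvu'⟩ := htr (v + u) hvu
    have hprod : aeval θ (f * f.comp (X ^ i)) (v + u) = 0 := by
      rw [map_add]
      have e1 : aeval θ (f * f.comp (X ^ i)) v = 0 := (hann _).2 (dvd_mul_right f _)
      rw [e1, map_mul, Module.End.mul_apply, hgu, map_zero, add_zero]
    rw [hvu', mul_comp] at hprod
    rcases hfirr.prime.dvd_or_dvd hprod with h | h
    · have := (hvu' f).2 h
      rw [map_add, hfv, zero_add] at this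
      exact this
    · have := (hvu' _).2 h
      rw [map_add, hgu, add_zero, hann] at this
      -- `f ∣ f.comp (X ^ i)`, hence also for the powers of `i`
      have hiter : ∀ k : ℕ, f ∣ f.comp (X ^ (i ^ k)) := by
        intro k
        induction k with
        | zero => simp
        | succ k ih =>
          refine this.trans ?_
          have := _root_.map_dvd (compRingHom (X ^ i : (ZMod p)[X])) ih
          simpa [comp_assoc, pow_comp, ← pow_mul, mul_comm, pow_succ'] using this
      exact (hu' f).2 (hk ▸ hiter k)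
  have hf0 : aeval θ f = 0 := LinearMap.ext hfu
  have hfi : ∀ i : ℕ, ¬ q ∣ i → f ∣ f.comp (X ^ i) := by
    intro i hi
    obtain ⟨ψ, hinj, hψ⟩ := hpow i hi
    rw [← hann, hcomp]
    have h1 : aeval (θ ^ i) f * ψ = 0 := by rw [← aeval_intertwine K p hψ, hf0, mul_zero]
    obtain ⟨y, hy⟩ := (Finite.injective_iff_surjective.1 hinj) v
    rw [← hy, ← Module.End.mul_apply, h1, LinearMap.zero_apply]
  -- roots
  have : Fact (Irreducible f) := ⟨hfirr⟩
  set ζ := AdjoinRoot.root f with hζ
  have hroot : ∀ h : (ZMod p)[X], f ∣ h → aeval ζ h = 0 := fun h hh => by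
    rw [AdjoinRoot.aeval_eq]; exact AdjoinRoot.mk_eq_zero.2 hh
  have hfΦ : f ∣ Φ := (hann Φ).1 (by rw [hΦθ, LinearMap.zero_apply])
  have hζq : ζ ^ q = 1 := by
    have := hroot (X ^ q - 1) ((hann _).1 (by
      rw [map_sub, map_pow, aeval_X, hθ, map_one, sub_self, LinearMap.zero_apply]))
    rwa [map_sub, map_pow, aeval_X, map_one, sub_eq_zero] at this
  have hζ1 : ζ ≠ 1 := by
    intro h1
    have h2 : f ∣ (X - 1 : (ZMod p)[X]) := by
      rw [← AdjoinRoot.mk_eq_zero, ← AdjoinRoot.aeval_eq, map_sub, aeval_X, map_one, sub_eq_zero]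
      exact h1
    have h3 : aeval θ (X - 1 : (ZMod p)[X]) v = 0 := (hann _).2 h2
    rw [map_sub, aeval_X, map_one, LinearMap.sub_apply, sub_eq_zero] at h3
    exact hw (hfix v h3)
  have hord : orderOf ζ = q := orderOf_eq_prime hζq hζ1
  have hf' : f.map (algebraMap (ZMod p) (AdjoinRoot f)) ≠ 0 :=
    Polynomial.map_ne_zero hfirr.ne_zero
  have hdeg : q - 1 ≤ f.natDegree := by
    have hinj : Set.InjOn (fun i => ζ ^ i) (Finset.Icc 1 (q - 1) : Set ℕ) := by
      intro a ha b hb e
      simp only [Finset.coe_Icc, Set.mem_Icc] at ha hb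
      exact pow_injOn_Iio_orderOf (by rw [Set.mem_Iio, hord]; have := hq.two_le; omega)
        (by rw [Set.mem_Iio, hord]; have := hq.two_le; omega) e
    calc q - 1 = ((Finset.Icc 1 (q - 1)).image (fun i => ζ ^ i)).card := by
          rw [Finset.card_image_of_injOn hinj, Nat.card_Icc]; simp
      _ ≤ (f.map (algebraMap (ZMod p) (AdjoinRoot f))).natDegree := by
          refine Polynomial.card_le_degree_of_subset_roots fun z hz => ?_
          obtain ⟨i, hi, rfl⟩ := Finset.mem_image.1 (Finset.mem_def.2 hz)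
          rw [Finset.mem_Icc] at hi
          rw [Polynomial.mem_roots hf', IsRoot.def, eval_map_algebraMap]
          have := hroot _ (hfi i (fun hd => by have := Nat.le_of_dvd (by omega) hd; omega))
          rwa [aeval_comp, map_pow, aeval_X] at this
      _ = f.natDegree := natDegree_map _
  have hcard : Fintype.card (ZMod p) = p ^ 1 := by simp
  have hcop : p.Coprime q := (Nat.coprime_primes hp hq).2 hpq
  rw [natDegree_of_dvd_cyclotomic_of_irreducible hcard hcop hfΦ hfirr] at hdeg
  rw [← orderOf_units, ZMod.coe_unitOfCoprime, pow_one] at hdeg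
  refine le_antisymm ?_ hdeg
  refine Nat.le_of_dvd (by have := hq.two_le; omega) (ZMod.orderOf_dvd_card_sub_one ?_)
  rw [Ne, ZMod.natCast_eq_zero_iff]
  exact fun h => hpq ((Nat.prime_dvd_prime_iff_eq hq hp).1 h).symm

/-- Extending a semilinear map of the kernel to an automorphism of `G`. -/
theorem exists_extend [Finite G] (K : Subgroup G) [K.Normal] [IsMulCommutative K] (p : ℕ)
    [Module (ZMod p) (Additive K)] (x : G) (hK : K.IsComplement' (zpowers x)) {i : ℕ}
    (hi : (orderOf x).Coprime i)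
    (ψ : Additive K →+ Additive K) (hinj : Function.Injective ψ)
    (hψ : ∀ v, ψ (Θ K p x v) = (Θ K p x ^ i) (ψ v)) :
    ∃ φ : MulAut G, φ x = x ^ i ∧
      ∀ v : Additive K, φ ((Additive.toMul v : K) : G) = ((Additive.toMul (ψ v) : K) : G) := by
  classical
  let f1 : K →* G := K.subtype.comp (AddMonoidHom.toMultiplicative ψ)
  let f2 : zpowers x →* G := (zpowers x).subtype.comp (powMonoidHom i)
  let e := SemidirectProduct.mulEquivSubgroup hK
  have hm : ∀ (m : ℕ) (v : Additive K), ψ ((Θ K p x ^ m) v) = (Θ K p x ^ (i * m)) (ψ v) := by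
    intro m
    induction m with
    | zero => simp
    | succ m ih =>
      intro v
      rw [pow_succ', Module.End.mul_apply, hψ, ih, ← Module.End.mul_apply, ← pow_add]
      congr 2
      ring
  let F := SemidirectProduct.lift (φ := (K.normalizerMonoidHom).comp
    (inclusion (K.normalizer_eq_top ▸ le_top : zpowers x ≤ normalizer (K : Set G)))) f1 f2 (by
      rintro ⟨h, hh⟩
      obtain ⟨m, rfl⟩ := (Submonoid.mem_powers_iff _ _).1 (mem_powers_iff_mem_zpowers.2 hh)
      ext k
      have e1 : ((Additive.toMul ((Θ K p x ^ (i * m)) (ψ (Additive.ofMul k))) : K) : G)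
          = x ^ (i * m) * (f1 k) * (x ^ (i * m))⁻¹ := by
        rw [← map_pow, Θ_apply]; rfl
      show _ = MulAut.conj (f2 ⟨x ^ m, hh⟩) (f1 k)
      rw [MulAut.conj_apply]
      show _ = (x ^ m) ^ i * f1 k * ((x ^ m) ^ i)⁻¹
      rw [← pow_mul, mul_comm m i, ← e1, ← hm]
      simp only [MonoidHom.comp_apply, f1]
      refine congrArg (fun z : K => ((Additive.toMul (ψ (Additive.ofMul z)) : K) : G)) ?_
      apply Subtype.ext
      rw [← map_pow]
      exact (Θ_apply K p (x ^ m) (Additive.ofMul k)).symm)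
  let φ0 : G →* G := F.comp e.symm.toMonoidHom
  have heK : ∀ k : K, e.symm (k : G) = SemidirectProduct.inl k := fun k => by
    rw [MulEquiv.symm_apply_eq]; simp [e, SemidirectProduct.monoidHomSubgroup]
  have hex : ∀ h : zpowers x, e.symm (h : G) = SemidirectProduct.inr h := fun h => by
    rw [MulEquiv.symm_apply_eq]; simp [e, SemidirectProduct.monoidHomSubgroup]
  have hφK : ∀ k : K, φ0 k = f1 k := fun k => by simp [φ0, heK, F]
  have hφx : φ0 x = x ^ i := by
    have := hex ⟨x, mem_zpowers x⟩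
    simp only [φ0, MonoidHom.comp_apply, MulEquiv.coe_toMonoidHom, this]
    simp [F, f2]
  have hsurj : Function.Surjective φ0 := by
    rw [← MonoidHom.range_eq_top, eq_top_iff, ← hK.sup_eq_top, sup_le_iff]
    refine ⟨fun k hk => ?_, zpowers_le.2 ?_⟩
    · obtain ⟨w, hw⟩ := (Finite.injective_iff_surjective.1 hinj) (Additive.ofMul ⟨k, hk⟩)
      refine ⟨((Additive.toMul w : K) : G), ?_⟩
      rw [hφK]
      show ((Additive.toMul (ψ w) : K) : G) = k
      rw [hw]
      rfl
    · obtain ⟨n, hn⟩ := exists_pow_eq_self_of_coprime hi.symm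
      refine ⟨x ^ n, ?_⟩
      rw [map_pow, hφx]
      exact hn
  exact ⟨MulEquiv.ofBijective φ0 ((Finite.surjective_iff_bijective).1 hsurj), hφx, fun v => hφK (Additive.toMul v)⟩

/-- The backward direction at the level of the module. -/
theorem exists_maps (K : Subgroup G) [K.Normal] [IsMulCommutative K] (p : ℕ)
    [Fact p.Prime] [Module (ZMod p) (Additive K)] [Finite K] {q : ℕ} [Fact q.Prime]
    (θ : Module.End (ZMod p) (Additive K)) (hθ : θ ^ q = 1)
    (hfix : ∀ v, θ v = v → v = 0) (hpq : p ≠ q) (hord : orderOf (p : ZMod q) = q - 1) :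
    (∀ v u : Additive K, v ≠ 0 → u ≠ 0 → ∃ ψ : Additive K →+ Additive K,
      Function.Injective ψ ∧ (∀ w, ψ (θ w) = θ (ψ w)) ∧ ψ v = u) ∧
    ∀ i : ℕ, ¬ q ∣ i → ∃ ψ : Additive K →+ Additive K,
      Function.Injective ψ ∧ ∀ w, ψ (θ w) = (θ ^ i) (ψ w) := by
  classical
  have hp : p.Prime := Fact.out
  have hq : q.Prime := Fact.out
  have hcop : p.Coprime q := (Nat.coprime_primes hp hq).2 hpq
  set Φ := cyclotomic q (ZMod p) with hΦ
  have hΦθ : aeval θ Φ = 0 := cyclotomic_kills K p hθ hfix
  have hirr : Irreducible Φ := by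
    refine ZMod.irreducible_of_dvd_cyclotomic_of_natDegree
      (fun h => hpq ((Nat.prime_dvd_prime_iff_eq hp hq).1 h)) dvd_rfl ?_
    rw [natDegree_cyclotomic, Nat.totient_prime hq, ← orderOf_units, ZMod.coe_unitOfCoprime, hord]
  have : (Ideal.span {Φ}).IsMaximal :=
    PrincipalIdealRing.isMaximal_of_irreducible hirr
  let F := (ZMod p)[X] ⧸ Ideal.span {Φ}
  let _ : Field F := Ideal.Quotient.field _
  let ρ : F →+* Module.End (ZMod p) (Additive K) :=
    Ideal.Quotient.lift _ (aeval θ).toRingHom (fun a ha => by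
      obtain ⟨b, rfl⟩ := Ideal.mem_span_singleton.1 ha
      simp [hΦθ])
  letI : Module F (Additive K) := Module.compHom (Additive K) ρ
  set ζ : F := Ideal.Quotient.mk _ X with hζ
  have hsmul : ∀ w : Additive K, ζ • w = θ w := fun w => by
    show (aeval θ (X : (ZMod p)[X])) w = θ w
    rw [aeval_X]
  constructor
  · intro v u hv hu
    obtain ⟨f, hfv, hfu⟩ : ∃ f : Module.Dual F (Additive K), f v ≠ 0 ∧ f u ≠ 0 := by
      have hex : ∀ w : Additive K, w ≠ 0 → ∃ f : Module.Dual F (Additive K), f w ≠ 0 := by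
        intro w hw
        by_contra hc
        push Not at hc
        exact hw ((Module.forall_dual_apply_eq_zero_iff F w).1 hc)
      obtain ⟨f1, h1⟩ := hex v hv
      obtain ⟨f2, h2⟩ := hex u hu
      by_cases a : f1 u = 0
      · by_cases b : f2 v = 0
        · exact ⟨f1 + f2, by simp [b, h1], by simp [a, h2]⟩
        · exact ⟨f2, b, h2⟩
      · exact ⟨f1, h1, a⟩
    let g : Module.Dual F (Additive K) := (f v)⁻¹ • f
    have hgv : g v = 1 := by simp [g, hfv]
    have hgu : g u ≠ 0 := by simp [g, hfv, hfu]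
    let T : Additive K →ₗ[F] Additive K := LinearMap.id + g.smulRight (u - v)
    have hT : ∀ w, T w = w + g w • (u - v) := fun w => rfl
    refine ⟨T.toAddMonoidHom, (injective_iff_map_eq_zero _).2 fun w hw => ?_, fun w => ?_, ?_⟩
    · have hw' : T w = 0 := hw
      rw [hT] at hw'
      have h := congrArg g hw'
      rw [map_add, map_smul, map_sub, hgv, map_zero, smul_eq_mul] at h
      have h' : g w * g u = 0 := by linear_combination h
      rw [(mul_eq_zero.1 h').resolve_right hgu, zero_smul, add_zero] at hw'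
      exact hw'
    · show T (θ w) = θ (T w)
      rw [← hsmul, map_smul, hsmul]
    · show T v = u
      rw [hT, hgv, one_smul, add_sub_cancel]
  · intro i hi
    obtain ⟨k, hk⟩ : ∃ k : ℕ, (p : ZMod q) ^ k = i := by
      set w := ZMod.unitOfCoprime p hcop
      have hw : orderOf w = q - 1 := by rw [← orderOf_units, ZMod.coe_unitOfCoprime, hord]
      have htop : zpowers w = ⊤ := by
        refine Subgroup.eq_top_of_card_eq _ ?_
        rw [Nat.card_zpowers, hw, Nat.card_eq_fintype_card, ZMod.card_units]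
      have hmem : ZMod.unitOfCoprime i ((hq.coprime_iff_not_dvd.2 hi).symm) ∈ zpowers w :=
        htop ▸ Subgroup.mem_top _
      obtain ⟨k, hk⟩ := (Submonoid.mem_powers_iff _ _).1 (mem_powers_iff_mem_zpowers.2 hmem)
      exact ⟨k, by simpa [w] using congrArg Units.val hk⟩
    have hζq : ζ ^ q = 1 := by
      rw [hζ, ← map_pow, ← (Ideal.Quotient.mk _).map_one, Ideal.Quotient.eq,
        Ideal.mem_span_singleton, ← cyclotomic_prime_mul_X_sub_one]
      exact dvd_mul_right _ _
    have hζi : ζ ^ (p ^ k) = ζ ^ i := by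
      refine pow_mod_eq hζq ?_
      rw [← ZMod.natCast_eq_natCast_iff]
      simpa using hk
    have : CharP F p := charP_of_injective_ringHom ((algebraMap (ZMod p) F)).injective p
    let σ : F →+* F := iterateFrobenius F p k
    have : Module.Finite F (Additive K) := Module.Finite.of_finite
    let b := Module.finBasis F (Additive K)
    let ψ : Additive K →+ Additive K :=
      (b.equivFun.symm.toLinearMap.toAddMonoidHom).comp
        ((AddMonoidHom.compLeft σ.toAddMonoidHom _).comp b.equivFun.toLinearMap.toAddMonoidHom)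
    have hψ : ∀ (c : F) (w : Additive K), ψ (c • w) = σ c • ψ w := by
      intro c w
      show b.equivFun.symm (σ ∘ b.equivFun (c • w)) = σ c • b.equivFun.symm (σ ∘ b.equivFun w)
      rw [← map_smul]
      congr 1
      ext j
      simp
    refine ⟨ψ, fun a c e => ?_, fun w => ?_⟩
    · have e' : b.equivFun.symm (σ ∘ b.equivFun a) = b.equivFun.symm (σ ∘ b.equivFun c) := e
      exact b.equivFun.injective (σ.injective.comp_left (b.equivFun.symm.injective e'))
    · have hpow : ∀ (n : ℕ) (w : Additive K), ζ ^ n • w = (θ ^ n) w := by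
        intro n
        induction n with
        | zero => intro w; simp
        | succ n ih => intro w; rw [pow_succ', mul_smul, ih, hsmul, pow_succ', Module.End.mul_apply]
      rw [← hsmul, hψ]
      show (iterateFrobenius F p k ζ) • ψ w = _
      rw [iterateFrobenius_def, hζi, hpow]

theorem exists_module (K : Subgroup G) [IsMulCommutative K] (p : ℕ) (hexp : ∀ g ∈ K, g ^ p = 1) :
    Nonempty (Module (ZMod p) (Additive K)) :=
  ⟨AddCommGroup.zmodModule fun v =>
    Additive.toMul.injective (Subtype.ext (hexp _ (Additive.toMul v).2))⟩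

theorem orderOf_cases [Finite G] {p q n : ℕ} [hp : Fact p.Prime] [hq : Fact q.Prime]
    (hcard : Nat.card G = p ^ n * q)
    (hP : ∀ P : Sylow p G, (P : Subgroup G).Normal ∧ Cfsg.IsElementaryAbelian p (P : Subgroup G))
    (hpq : p ≠ q) (hfpf : ∀ x y : G, orderOf x = q → orderOf y = p → x * y * x⁻¹ ≠ y)
    (g : G) (hg : g ≠ 1) : orderOf g = p ∨ orderOf g = q := by
  obtain ⟨P⟩ := (inferInstance : Nonempty (Sylow p G))
  have := (hP P).1
  have hPc : Nat.card (P : Subgroup G) = p ^ n := by
    rw [P.card_eq_multiplicity, hcard, Nat.factorization_mul (pow_ne_zero _ hp.out.ne_zero) hq.out.ne_zero]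
    simp [hq.out.factorization, hp.out.factorization, Finsupp.single_eq_of_ne' hpq.symm]
  have hind : (P : Subgroup G).index = q := by
    refine Nat.eq_of_mul_eq_mul_left (Nat.card_pos (α := (P : Subgroup G))) ?_
    rw [(P : Subgroup G).card_mul_index, hcard, hPc]
  have hgq : g ^ q ∈ (P : Subgroup G) := hind ▸ (P : Subgroup G).pow_index_mem g
  by_cases hgP : g ∈ (P : Subgroup G)
  · exact Or.inl (orderOf_eq_prime ((hP P).2.2 g hgP) hg)
  right
  refine orderOf_eq_prime ?_ hg
  by_contra hne
  have hyo : orderOf (g ^ q) = p := orderOf_eq_prime ((hP P).2.2 _ hgq) hne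
  have hxo : orderOf (g ^ p) = q := by
    refine orderOf_eq_prime ?_ ?_
    · rw [← pow_mul, mul_comm, pow_mul]
      exact (hP P).2.2 _ hgq
    · intro h1
      obtain ⟨a, ha⟩ := exists_pow_eq_self_of_coprime (x := g) (n := q)
        ((Nat.coprime_primes hq.out hp.out).2 hpq.symm |>.coprime_dvd_right (orderOf_dvd_of_pow_eq_one h1))
      exact hgP (ha ▸ Subgroup.pow_mem _ hgq a)
  refine hfpf _ _ hxo hyo ?_
  rw [← pow_add, ← div_eq_mul_inv, div_eq_iff_eq_mul, ← pow_add, add_comm]

theorem card_eq_three [Finite G] {p q n : ℕ} [hp : Fact p.Prime] [hq : Fact q.Prime]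
    (hcard : Nat.card G = p ^ n * q) (hn : 1 ≤ n)
    (hP : ∀ P : Sylow p G, (P : Subgroup G).Normal ∧ Cfsg.IsElementaryAbelian p (P : Subgroup G))
    (hpq : p ≠ q) (hord : orderOf (p : ZMod q) = q - 1)
    (hfpf : ∀ x y : G, orderOf x = q → orderOf y = p → x * y * x⁻¹ ≠ y) :
    Nat.card (MulAction.orbitRel.Quotient (MulAut G) G) = 3 := by
  classical
  obtain ⟨P⟩ := (inferInstance : Nonempty (Sylow p G))
  set K : Subgroup G := (P : Subgroup G) with hK
  have : K.Normal := (hP P).1
  have : IsMulCommutative K := (hP P).2.1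
  obtain ⟨instK⟩ := exists_module K p (hP P).2.2
  obtain ⟨x, hx⟩ := exists_prime_orderOf_dvd_card' (G := G) q (hcard ▸ dvd_mul_left q _)
  obtain ⟨y, hy⟩ := exists_prime_orderOf_dvd_card' (G := G) p
    (hcard ▸ (dvd_pow_self p (by omega)).mul_right q)
  have hcases := orderOf_cases hcard hP hpq hfpf
  have hKc : Nat.card K = p ^ n := by
    rw [hK, P.card_eq_multiplicity, hcard, Nat.factorization_mul (pow_ne_zero _ hp.out.ne_zero) hq.out.ne_zero]
    simp [hq.out.factorization, hp.out.factorization, Finsupp.single_eq_of_ne' hpq.symm]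
  have hKx : K.IsComplement' (zpowers x) := by
    refine isComplement'_of_coprime (by rw [hKc, Nat.card_zpowers, hx, hcard]) ?_
    rw [hKc, Nat.card_zpowers, hx]
    exact ((Nat.coprime_primes hp.out hq.out).2 hpq).pow_left n
  have hmemK : ∀ g : G, orderOf g = p → g ∈ K := by
    intro g hg
    obtain ⟨Q, hQ⟩ := (IsPGroup.of_card (p := p) (G := zpowers g) (n := 1)
      (by rw [Nat.card_zpowers, hg, pow_one])).exists_le_sylow
    obtain ⟨h, hh⟩ := MulAction.exists_smul_eq G P Q
    have := Sylow.smul_eq_of_normal (g := h) (P := P)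
    rw [this] at hh
    rw [← hh] at hQ
    exact hQ (mem_zpowers g)
  have hθ : Θ K p x ^ q = 1 := by rw [← map_pow, ← hx, pow_orderOf_eq_one, map_one]
  have hfix : ∀ v : Additive K, Θ K p x v = v → v = 0 := by
    intro v hv
    by_contra hne
    have h1 : ((Additive.toMul v : K) : G) ≠ 1 := fun e => hne (Additive.toMul.injective (Subtype.ext e))
    have h2 : orderOf ((Additive.toMul v : K) : G) = p :=
      orderOf_eq_prime ((hP P).2.2 _ (Additive.toMul v).2) h1
    exact hfpf x _ hx h2 (by rw [← Θ_apply K p, hv])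
  obtain ⟨hA, hB⟩ := exists_maps K p (Θ K p x) hθ hfix hpq hord
  -- orbits are the classes of equal order
  have horb : ∀ a b : G, a ∈ MulAction.orbit (MulAut G) b ↔ orderOf a = orderOf b := by
    intro a b
    constructor
    · rintro ⟨φ, rfl⟩
      exact (φ : G ≃* G).orderOf_eq b
    intro hab
    by_cases hb1 : b = 1
    · subst hb1
      rw [orderOf_one, orderOf_eq_one_iff] at hab
      subst hab
      exact MulAction.mem_orbit_self _
    rcases hcases b hb1 with hb | hb
    · obtain ⟨ψ, hinj, hψ, hψv⟩ := hA (Additive.ofMul ⟨b, hmemK b hb⟩)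
        (Additive.ofMul ⟨a, hmemK a (hab.trans hb)⟩)
        (fun e => hb1 (congrArg (fun z : Additive K => ((Additive.toMul z : K) : G)) e))
        (fun e => by
          have : a = 1 := congrArg (fun z : Additive K => ((Additive.toMul z : K) : G)) e
          rw [this, orderOf_one, eq_comm, orderOf_eq_one_iff] at hab
          exact hb1 hab)
      obtain ⟨φ, -, hφ⟩ := exists_extend K p x hKx (i := 1) (Nat.coprime_one_right _) ψ hinj
        (fun w => by rw [pow_one]; exact hψ w)
      exact ⟨φ, (hφ (Additive.ofMul ⟨b, hmemK b hb⟩)).trans (by rw [hψv]; rfl)⟩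
    · -- every element of order `q` is in the orbit of `x`
      suffices ∀ g : G, orderOf g = q → g ∈ MulAction.orbit (MulAut G) x by
        have h1 := MulAction.orbit_eq_iff.2 (this a (hab.trans hb))
        have h2 := MulAction.orbit_eq_iff.2 (this b hb)
        rw [h2, ← h1]
        exact MulAction.mem_orbit_self a
      intro g hg
      have hsyl : ∀ z : G, orderOf z = q → ∃ S : Sylow q G, (S : Subgroup G) = zpowers z := by
        intro z hz
        refine ⟨Sylow.ofCard (zpowers z) ?_, rfl⟩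
        rw [Nat.card_zpowers, hz, hcard, Nat.factorization_mul (pow_ne_zero _ hp.out.ne_zero) hq.out.ne_zero]
        simp [hq.out.factorization, hp.out.factorization, Finsupp.single_eq_of_ne' hpq]
      obtain ⟨S, hS⟩ := hsyl x hx
      obtain ⟨T, hT⟩ := hsyl g hg
      obtain ⟨h, hh⟩ := MulAction.exists_smul_eq G S T
      have hgm : g ∈ MulAut.conj h • (zpowers x) := by
        rw [← hS, ← Sylow.coe_subgroup_smul, hh, hT]
        exact mem_zpowers g
      rw [Subgroup.mem_pointwise_smul_iff_inv_smul_mem, ← mem_powers_iff_mem_zpowers] at hgm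
      obtain ⟨i, hi⟩ := (Submonoid.mem_powers_iff _ _).1 hgm
      have hi0 : ¬ q ∣ i := by
        rintro ⟨j, rfl⟩
        rw [pow_mul, ← hx, pow_orderOf_eq_one, one_pow] at hi
        have : g = 1 := by
          have := congrArg (fun z => MulAut.conj h z) hi
          simpa [MulAut.smul_def, ← map_inv, mul_assoc] using this.symm
        rw [this, orderOf_one] at hg
        exact hq.out.one_lt.ne hg
      obtain ⟨ψ, hinj, hψ⟩ := hB i hi0
      obtain ⟨φ, hφ, -⟩ := exists_extend K p x hKx (i := i)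
        (hx ▸ hq.out.coprime_iff_not_dvd.2 hi0) ψ hinj hψ
      refine ⟨MulAut.conj h * φ, ?_⟩
      show MulAut.conj h (φ x) = g
      rw [hφ, hi]
      simp [MulAut.smul_def, ← map_inv, mul_assoc]
  have e : MulAction.orbitRel (MulAut G) G = Setoid.ker (orderOf : G → ℕ) :=
    Setoid.ext fun a b => by rw [MulAction.orbitRel_apply, horb]; rfl
  have hrange : Set.range (orderOf : G → ℕ) = {1, p, q} := by
    ext m
    constructor
    · rintro ⟨g, rfl⟩
      by_cases h1 : g = 1
      · simp [h1]
      · rcases hcases g h1 with h | h <;> simp [h]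
    · rintro (rfl | rfl | rfl)
      · exact ⟨1, orderOf_one⟩
      · exact ⟨y, hy⟩
      · exact ⟨x, hx⟩
  show Nat.card (Quotient (MulAction.orbitRel (MulAut G) G)) = 3
  rw [e, Nat.card_congr (Setoid.quotientKerEquivRange orderOf), hrange, Nat.card_coe_set_eq]
  exact Set.ncard_eq_three.2 ⟨1, p, q, hp.out.one_lt.ne, hq.out.one_lt.ne, hpq, rfl⟩

/-- The forward direction once the prime of the minimal normal subgroup is fixed. -/
theorem forward [Finite G] {p q : ℕ} [hp : Fact p.Prime] [hq : Fact q.Prime] (hpq : p ≠ q)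
    (hdp : p ∣ Nat.card G) (hdq : q ∣ Nat.card G)
    (hord : ∀ g : G, g ≠ 1 → orderOf g = p ∨ orderOf g = q)
    (htrans : ∀ a b : G, orderOf a = orderOf b → ∃ φ : MulAut G, φ a = b)
    (hO : Cfsg.pCore p G ≠ ⊥) :
    ∃ n : ℕ, 1 ≤ n ∧ Nat.card G = p ^ n * q ∧
      (∀ P : Sylow p G, (P : Subgroup G).Normal ∧ Cfsg.IsElementaryAbelian p (P : Subgroup G)) ∧
      orderOf (p : ZMod q) = q - 1 ∧
      ∀ x y : G, orderOf x = q → orderOf y = p → x * y * x⁻¹ ≠ y := by
  classical
  set O := Cfsg.pCore p G with hOdef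
  have hord' : ∀ (r : ℕ) [Fact r.Prime] (g : G), (∃ k, orderOf g = r ^ k) → g ≠ 1 →
      (r = p ∨ r = q) ∧ orderOf g = r := by
    rintro r hr g ⟨k, hk⟩ hg
    rcases hord g hg with h | h
    · have := (Nat.Prime.pow_eq_iff hp.out).1 (hk.symm.trans h)
      exact ⟨Or.inl this.1, by rw [h, this.1]⟩
    · have := (Nat.Prime.pow_eq_iff hq.out).1 (hk.symm.trans h)
      exact ⟨Or.inr this.1, by rw [h, this.1]⟩
  have hOp : IsPGroup p O := Core.pCore_isPGroup
  have hchar : ∀ (φ : MulAut G) (g : G), g ∈ O → φ g ∈ O := fun φ g hg =>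
    (Core.map_pCore (p := p) (φ : G ≃* G)).le ⟨g, hg, rfl⟩
  obtain ⟨z, hz, hz1⟩ := (bot_or_exists_ne_one O).resolve_left hO
  have hzo : orderOf z = p := by
    obtain ⟨k, hk⟩ := IsPGroup.iff_orderOf.1 hOp ⟨z, hz⟩
    exact (hord' p z ⟨k, (Subgroup.orderOf_mk z hz).symm.trans hk⟩ hz1).2
  have hpO : ∀ g : G, orderOf g = p → g ∈ O := fun g hg => by
    obtain ⟨φ, rfl⟩ := htrans z g (hzo.trans hg.symm)
    exact hchar φ z hz
  have hPO : ∀ P : Sylow p G, (P : Subgroup G) = O := by
    intro P
    refine le_antisymm (fun g hg => ?_) (Core.pCore_le_sylow P)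
    by_cases h1 : g = 1
    · subst h1; exact one_mem _
    obtain ⟨k, hk⟩ := IsPGroup.iff_orderOf.1 P.2 ⟨g, hg⟩
    exact hpO g (hord' p g ⟨k, (Subgroup.orderOf_mk g hg).symm.trans hk⟩ h1).2
  have hexp : ∀ g ∈ O, g ^ p = 1 := by
    intro g hg
    by_cases h1 : g = 1
    · subst h1; exact one_pow _
    obtain ⟨k, hk⟩ := IsPGroup.iff_orderOf.1 hOp ⟨g, hg⟩
    rw [← (hord' p g ⟨k, (Subgroup.orderOf_mk g hg).symm.trans hk⟩ h1).2, pow_orderOf_eq_one]
  have hab : IsMulCommutative O := by
    have : Nontrivial O := (Subgroup.nontrivial_iff_ne_bot O).2 hO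
    have := hOp.center_nontrivial
    obtain ⟨⟨c, hc⟩, hc1⟩ := exists_ne (1 : center O)
    have hco : orderOf (c : G) = p :=
      orderOf_eq_prime (hexp c c.2) fun e => hc1 (Subtype.ext (Subtype.ext e))
    have : ((center O).map O.subtype).Characteristic := Core.characteristic_map_subtype O (center O)
    have hall : ∀ g : O, g ∈ center O := by
      intro g
      by_cases h1 : g = 1
      · subst h1; exact one_mem _
      have hgo : orderOf (g : G) = p :=
        orderOf_eq_prime (hexp g g.2) fun e => h1 (Subtype.ext e)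
      obtain ⟨φ, hφ⟩ := htrans c g (hco.trans hgo.symm)
      have h2 : φ (c : G) ∈ (center O).map O.subtype :=
        (Subgroup.characteristic_iff_map_eq.1 this (φ : G ≃* G)).le ⟨c, ⟨c, hc, rfl⟩, rfl⟩
      rw [hφ] at h2
      obtain ⟨g', hg', e⟩ := h2
      rwa [← Subtype.ext e]
    exact ⟨⟨fun a b => (mem_center_iff.1 (hall b) a)⟩⟩
  -- fixed point freeness
  have hfpf : ∀ x y : G, orderOf x = q → orderOf y = p → x * y * x⁻¹ ≠ y := by
    intro x y hx hy he
    have hc : Commute x y := mul_inv_eq_iff_eq_mul.1 he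
    have h1 := hc.orderOf_mul_eq_mul_orderOf_of_coprime
      (by rw [hx, hy]; exact (Nat.coprime_primes hq.out hp.out).2 hpq.symm)
    rw [hx, hy] at h1
    have hne : x * y ≠ 1 := fun e => by
      rw [e, orderOf_one] at h1
      exact hq.out.one_lt.ne' (Nat.eq_one_of_mul_eq_one_right h1.symm)
    have h2 : 1 < p := hp.out.one_lt
    have h3 : 1 < q := hq.out.one_lt
    rcases hord _ hne with h | h <;> rw [h1] at h <;> nlinarith
  obtain ⟨Q⟩ := (inferInstance : Nonempty (Sylow q G))
  have hQexp : ∀ g ∈ (Q : Subgroup G), g ≠ 1 → orderOf g = q := by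
    intro g hg h1
    obtain ⟨k, hk⟩ := IsPGroup.iff_orderOf.1 Q.2 ⟨g, hg⟩
    exact (hord' q g ⟨k, (Subgroup.orderOf_mk g hg).symm.trans hk⟩ h1).2
  have hQne := Q.ne_bot_of_dvd_card hdq
  have hQO : (Nat.card (Q : Subgroup G)).Coprime (Nat.card O) := by
    obtain ⟨a, ha⟩ := IsPGroup.iff_card.1 Q.2
    obtain ⟨b, hb⟩ := IsPGroup.iff_card.1 hOp
    rw [ha, hb]
    exact Nat.coprime_pow_primes a b hq.out hp.out hpq.symm
  -- the Sylow `q`-subgroup has order `q`
  have hQc : Nat.card (Q : Subgroup G) = q := by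
    have : Nontrivial (Q : Subgroup G) := (Subgroup.nontrivial_iff_ne_bot _).2 hQne
    have := Q.2.center_nontrivial
    obtain ⟨⟨c, hc⟩, hc1⟩ := exists_ne (1 : center (Q : Subgroup G))
    have hco : orderOf (c : G) = q :=
      hQexp c c.2 fun e => hc1 (Subtype.ext (Subtype.ext e))
    suffices (Q : Subgroup G) ≤ zpowers (c : G) by
      rw [le_antisymm this (zpowers_le.2 c.2), Nat.card_zpowers, hco]
    intro w hw
    by_contra hwc
    set A : Subgroup G := zpowers (c : G) ⊔ zpowers w with hA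
    have hcw : (c : G) * w = w * c := congrArg Subtype.val (mem_center_iff.1 hc ⟨w, hw⟩).symm
    have hAQ : A ≤ (Q : Subgroup G) := sup_le (zpowers_le.2 c.2) (zpowers_le.2 hw)
    have : IsMulCommutative A := by
      have e : A = closure {(c : G), w} := by
        rw [hA, zpowers_eq_closure, zpowers_eq_closure, ← Subgroup.closure_union, Set.singleton_union]
      rw [e]
      refine isMulCommutative_closure ?_
      rintro a (rfl | rfl) b (rfl | rfl) <;> first | rfl | exact hcw | exact hcw.symm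
    have hAc : ¬ IsCyclic A := by
      intro hcy
      obtain ⟨⟨a, ha⟩, hgen⟩ := hcy.exists_generator
      have ha1 : a ≠ 1 := by
        rintro rfl
        obtain ⟨k, hk⟩ := mem_zpowers_iff.1 (hgen ⟨(c : G), le_sup_left (a := zpowers (c:G)) (mem_zpowers _)⟩)
        have : (1 : G) ^ k = c := congrArg Subtype.val hk
        rw [one_zpow] at this
        rw [← this, orderOf_one] at hco
        exact hq.out.one_lt.ne hco
      have hle : A ≤ zpowers a := fun b hb => by
        obtain ⟨k, hk⟩ := mem_zpowers_iff.1 (hgen ⟨b, hb⟩)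
        exact mem_zpowers_iff.2 ⟨k, congrArg Subtype.val hk⟩
      have h2 : zpowers (c : G) = zpowers a := by
        refine Subgroup.eq_of_le_of_card_ge (zpowers_le.2 (hle (le_sup_left (a := zpowers (c:G)) (mem_zpowers _)))) ?_
        rw [Nat.card_zpowers, Nat.card_zpowers, hco, hQexp a (hAQ ha) ha1]
      exact hwc (h2 ▸ hle (le_sup_right (a := zpowers (c:G)) (mem_zpowers w)))
    have h := Coprime.iSup_centralizer_eq hAc (le_normalizer_of_normal (H := O))
      (hQO.coprime_dvd_left (card_dvd_of_le hAQ))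
    refine hO (eq_bot_iff.2 ?_)
    rw [← h]
    refine iSup₂_le fun a ha v hv => ?_
    rw [Subgroup.mem_bot]
    by_contra hv1
    exact hfpf a v (hQexp a (hAQ ha.1) ha.2) (orderOf_eq_prime (hexp v hv.1) hv1)
      (by rw [← mem_centralizer_singleton_iff.1 hv.2]; group)
  obtain ⟨n, hn⟩ := IsPGroup.iff_card.1 hOp
  have hcard : Nat.card G = p ^ n * q := by
    have hinf : (Q : Subgroup G) ⊓ O = ⊥ := Subgroup.inf_eq_bot_of_coprime hQO
    have hT : Nat.card ((Q : Subgroup G) ⊔ O : Subgroup G) = p ^ n * q := by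
      rw [Core.card_sup_of_inf_eq_bot hinf, hn, hQc, mul_comm]
    suffices ((Q : Subgroup G) ⊔ O) = ⊤ by rw [← hT, this, card_top]
    rw [← index_eq_one, Nat.eq_one_iff_not_exists_prime_dvd]
    intro r hr hd
    have := Fact.mk hr
    obtain ⟨g, hg⟩ := exists_prime_orderOf_dvd_card' r (hd.trans (index_dvd_card _))
    rcases hord g (fun e => by rw [e, orderOf_one] at hg; exact hr.one_lt.ne hg) with h | h
    · obtain ⟨P⟩ := (inferInstance : Nonempty (Sylow p G))
      rw [hg.symm.trans h] at hd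
      exact P.not_dvd_index (hd.trans (index_dvd_of_le (by rw [hPO P]; exact le_sup_right)))
    · rw [hg.symm.trans h] at hd
      exact Q.not_dvd_index (hd.trans (index_dvd_of_le le_sup_left))
  have hn1 : 1 ≤ n := by
    rcases n with _ | n
    · exact absurd (card_eq_one.1 (by rw [hn, pow_zero])) hO
    · omega
  refine ⟨n, hn1, hcard, fun P => ?_, ?_, hfpf⟩
  · rw [hPO P]
    exact ⟨inferInstance, hab, hexp⟩
  -- the primitive root condition
  obtain ⟨instO⟩ := exists_module O p hexp
  obtain ⟨x, hx⟩ := exists_prime_orderOf_dvd_card' (G := G) q hdq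
  have hθ : Θ O p x ^ q = 1 := by rw [← map_pow, ← hx, pow_orderOf_eq_one, map_one]
  have hfix : ∀ v : Additive O, Θ O p x v = v → v = 0 := by
    intro v hv
    by_contra hne
    exact hfpf x _ hx (orderOf_eq_prime (hexp _ (Additive.toMul v).2)
      fun e => hne (Additive.toMul.injective (Subtype.ext e))) (by rw [← Θ_apply O p, hv])
  have hdec : ∀ φ : MulAut G, ∃ (i : ℕ) (ψ : Module.End (ZMod p) (Additive O)),
      ¬ q ∣ i ∧ Function.Injective ψ ∧ ψ * Θ O p x = Θ O p x ^ i * ψ ∧
      (∀ v, ((Additive.toMul (ψ v) : O) : G) = φ ((Additive.toMul v : O) : G)) ∧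
      ∀ j : ℕ, φ x = x ^ j → Θ O p x ^ i = Θ O p x ^ j := by
    intro φ
    let ψ0 : O →* O := ((φ : G ≃* G).toMonoidHom.comp O.subtype).codRestrict O fun v => hchar φ _ v.2
    let ψ : Module.End (ZMod p) (Additive O) := (MonoidHom.toAdditive ψ0).toZModLinearMap p
    have hψ : ∀ v, ((Additive.toMul (ψ v) : O) : G) = φ ((Additive.toMul v : O) : G) := fun v => rfl
    have hmul : ψ * Θ O p x = Θ O p (φ x) * ψ := by
      refine LinearMap.ext fun v => Additive.toMul.injective (Subtype.ext ?_)
      rw [Module.End.mul_apply, Module.End.mul_apply, hψ, Θ_apply, Θ_apply, hψ, map_mul, map_mul,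
        map_inv]
    -- write `φ x` modulo `O` as a power of `x`
    have hKx : O.IsComplement' (zpowers x) := by
      refine isComplement'_of_coprime (by rw [hn, Nat.card_zpowers, hx, hcard]) ?_
      rw [hn, Nat.card_zpowers, hx]
      exact ((Nat.coprime_primes hp.out hq.out).2 hpq).pow_left n
    obtain ⟨⟨⟨k, hk⟩, ⟨h, hh⟩⟩, hkh⟩ := hKx.2 (φ x)
    obtain ⟨i, hi⟩ := (Submonoid.mem_powers_iff _ _).1 (mem_powers_iff_mem_zpowers.2 hh)
    simp only at hkh
    have hΘ : Θ O p (φ x) = Θ O p x ^ i := by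
      rw [← hkh, map_mul, Θ_of_mem O p hk, one_mul, ← hi, map_pow]
    refine ⟨i, ψ, ?_, ?_, hΘ ▸ hmul, hψ, fun j hj => by rw [← hΘ, hj, map_pow]⟩
    · intro hdvd
      obtain ⟨j, rfl⟩ := hdvd
      rw [pow_mul, ← hx, pow_orderOf_eq_one, one_pow] at hi
      have h2 : φ x ∈ O := by rw [← hkh, ← hi, mul_one]; exact hk
      have h3 := orderOf_dvd_of_pow_eq_one (hexp _ h2)
      rw [MulEquiv.orderOf_eq, hx, Nat.prime_dvd_prime_iff_eq hq.out hp.out] at h3
      exact hpq h3.symm
    · intro a b e
      exact Additive.toMul.injective (Subtype.ext ((φ : G ≃* G).injective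
        (by rw [← hψ, ← hψ, e])))
  refine orderOf_eq_of_transitive O p hO hpq (Θ O p x) hθ hfix (fun i hi => ?_) (fun v u hv hu => ?_)
  · obtain ⟨φ, hφ⟩ := htrans x (x ^ i) (by
      rw [Nat.Coprime.orderOf_pow (hx ▸ hq.out.coprime_iff_not_dvd.2 hi : (orderOf x).Coprime i)])
    obtain ⟨i', ψ, -, hinj, hmul, -, hj⟩ := hdec φ
    exact ⟨ψ, hinj, (hj i hφ) ▸ hmul⟩
  · have hne : ∀ w : Additive O, w ≠ 0 → orderOf ((Additive.toMul w : O) : G) = p := fun w hw =>
      orderOf_eq_prime (hexp _ (Additive.toMul w).2) fun e => hw (Additive.toMul.injective (Subtype.ext e))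
    obtain ⟨φ, hφ⟩ := htrans _ _ ((hne v hv).trans (hne u hu).symm)
    obtain ⟨i, ψ, hi, hinj, hmul, hψ, -⟩ := hdec φ
    exact ⟨i, ψ, hi, hinj, hmul, Additive.toMul.injective (Subtype.ext ((hψ v).trans hφ))⟩


/-- Let G be a finite group whose order is not a prime power. Then the automorphism group of G has exactly three orbits on G if and only if there are distinct primes p, q with #G = pⁿ·q (n ≥ 1) such that G has a normal elementary abelian Sylow p-subgroup P, p is a primitive root modulo q (the multiplicative order of p mod q is q − 1), and every element of order q of G acts on P without non-identity fixed points. -/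
theorem result {G : Type*} [Group G] [Finite G] (hnpp : ¬ IsPrimePow (Nat.card G)) (hnt : Nat.card G ≠ 1) :
    Nat.card (MulAction.orbitRel.Quotient (MulAut G) G) = 3 ↔
    ∃ (p q n : ℕ) (_ : Fact p.Prime) (_ : Fact q.Prime), p ≠ q ∧ 1 ≤ n ∧ Nat.card G = p ^ n * q ∧
      (∀ P : Sylow p G, (P : Subgroup G).Normal ∧ Cfsg.IsElementaryAbelian p (P : Subgroup G)) ∧
      orderOf (p : ZMod q) = q - 1 ∧
      ∀ x y : G, orderOf x = q → orderOf y = p → x * y * x⁻¹ ≠ y := by
  classical
  constructor
  · intro h3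
    set n := Nat.card G with hn
    obtain ⟨p, hp, hpd⟩ := Nat.exists_prime_and_dvd hnt
    obtain ⟨q, hq, hqd, hpq⟩ : ∃ q, q.Prime ∧ q ∣ n ∧ p ≠ q := by
      by_contra hc
      push Not at hc
      refine hnpp ((isPrimePow_nat_iff n).2 ⟨p, n.primeFactorsList.length, hp, ?_, ?_⟩)
      · exact List.length_pos_of_mem (Nat.mem_primeFactorsList (Nat.card_pos (α := G)).ne' |>.2 ⟨hp, hpd⟩)
      · exact (Nat.eq_prime_pow_of_unique_prime_dvd (Nat.card_pos (α := G)).ne'
          fun {d} hd hdd => (hc d hd hdd).symm).symm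
    have := Fact.mk hp
    have := Fact.mk hq
    obtain ⟨y, hy⟩ := exists_prime_orderOf_dvd_card' (G := G) p hpd
    obtain ⟨x, hx⟩ := exists_prime_orderOf_dvd_card' (G := G) q hqd
    let f : MulAction.orbitRel.Quotient (MulAut G) G → Set.range (orderOf : G → ℕ) :=
      Quotient.lift (fun g => ⟨orderOf g, g, rfl⟩) fun a b hab => by
        obtain ⟨φ, rfl⟩ := hab
        exact Subtype.ext ((φ : G ≃* G).orderOf_eq b)
    have hsurj : Function.Surjective f := by
      rintro ⟨_, g, rfl⟩
      exact ⟨Quotient.mk'' g, rfl⟩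
    have hsub : ({1, p, q} : Set ℕ) ⊆ Set.range (orderOf : G → ℕ) := by
      rintro m (rfl | rfl | rfl)
      exacts [⟨1, orderOf_one⟩, ⟨y, hy⟩, ⟨x, hx⟩]
    have hc3 : ({1, p, q} : Set ℕ).ncard = 3 :=
      Set.ncard_eq_three.2 ⟨1, p, q, hp.one_lt.ne, hq.one_lt.ne, hpq, rfl⟩
    have hle : Nat.card (Set.range (orderOf : G → ℕ)) ≤ 3 := h3 ▸ Nat.card_le_card_of_surjective f hsurj
    have heq : ({1, p, q} : Set ℕ) = Set.range (orderOf : G → ℕ) :=
      Set.eq_of_subset_of_ncard_le hsub (by rw [hc3, ← Nat.card_coe_set_eq]; exact hle) (Set.finite_range _)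
    have hinj : Function.Injective f := by
      refine ((Nat.bijective_iff_surjective_and_card f).2 ⟨hsurj, ?_⟩).1
      rw [h3, ← heq, Nat.card_coe_set_eq, hc3]
    have htrans : ∀ a b : G, orderOf a = orderOf b → ∃ φ : MulAut G, φ a = b := by
      intro a b hab
      have h := hinj (a₁ := Quotient.mk'' a) (a₂ := Quotient.mk'' b) (Subtype.ext hab)
      obtain ⟨φ, hφ⟩ := Quotient.eq''.1 h.symm
      exact ⟨φ, hφ⟩
    have hord : ∀ g : G, g ≠ 1 → orderOf g = p ∨ orderOf g = q := by
      intro g hg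
      have : orderOf g ∈ ({1, p, q} : Set ℕ) := heq ▸ ⟨g, rfl⟩
      rcases this with h | h | h
      · exact absurd (orderOf_eq_one_iff.1 h) hg
      · exact Or.inl h
      · exact Or.inr h
    have hsol : Group.IsSolvable G := by
      refine Char.isSolvable_of_card_eq p q hp hq _ G rfl
        ⟨n.factorization p, n.factorization q, ?_⟩
      have hpf : n.primeFactors = {p, q} := by
        ext r
        simp only [Nat.mem_primeFactors, Finset.mem_insert, Finset.mem_singleton]
        constructor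
        · rintro ⟨hr, hrd, -⟩
          have := Fact.mk hr
          obtain ⟨g, hg⟩ := exists_prime_orderOf_dvd_card' (G := G) r hrd
          rcases hord g (fun e => by rw [e, orderOf_one] at hg; exact hr.one_lt.ne hg) with h | h
          · exact Or.inl (hg.symm.trans h)
          · exact Or.inr (hg.symm.trans h)
        · rintro (rfl | rfl)
          exacts [⟨hp, hpd, (Nat.card_pos (α := G)).ne'⟩, ⟨hq, hqd, (Nat.card_pos (α := G)).ne'⟩]
      conv_lhs => rw [← Nat.prod_factorization_pow_eq_self (Nat.card_pos (α := G)).ne']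
      rw [Finsupp.prod, Nat.support_factorization, hpf, Finset.prod_pair hpq]
    have : Nontrivial G := by
      rw [← not_subsingleton_iff_nontrivial]
      intro hs
      exact hnt (Nat.card_of_subsingleton (1 : G))
    obtain ⟨M, hM⟩ := Core.exists_isMinNormal (G := G)
    have := hM.normal
    have := hM.isMulCommutative
    obtain ⟨r, hr, hrM⟩ := hM.exists_prime_pow_eq_one
    obtain ⟨m, hm, hm1⟩ := (Subgroup.bot_or_exists_ne_one M).resolve_left hM.ne_bot
    have := Fact.mk hr
    have hmo : orderOf m = r := orderOf_eq_prime (hrM m hm) hm1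
    have hcore : Cfsg.pCore r G ≠ ⊥ := fun e => hm1 (Subgroup.mem_bot.1 (e ▸ Core.le_pCore
      (fun a => ⟨1, Subtype.ext (by simpa using hrM a a.2)⟩ : IsPGroup r M) hm))
    rcases hord m hm1 with h | h <;> rw [hmo] at h <;> subst h
    · obtain ⟨k, h1, h2, h3, h4, h5⟩ := forward hpq hpd hqd hord htrans hcore
      exact ⟨r, q, k, ⟨hr⟩, ⟨hq⟩, hpq, h1, h2, h3, h4, h5⟩
    · obtain ⟨k, h1, h2, h3, h4, h5⟩ :=
        forward hpq.symm hqd hpd (fun g hg => (hord g hg).symm) htrans hcore
      exact ⟨r, p, k, ⟨hr⟩, ⟨hp⟩, hpq.symm, h1, h2, h3, h4, h5⟩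
  · rintro ⟨p, q, k, hp, hq, hpq, hk, hcard, hP, hord, hfpf⟩
    exact card_eq_three hcard hk hP hpq hord hfpf

end Cfsg.Agent.S4081
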