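import Cfsg.Statements.S4082
import Cfsg.Agent.MaxClass.Basic
import Cfsg.Agent.Fusion.Transfer
import Cfsg.Agent.Fusion.Residual

set_option autoImplicit false
open Cfsg

namespace Cfsg.Agent.S4082

open Subgroup

/-- In a dihedral group an element normalising an odd order element either commutes with it or inverts it. -/
theorem dihedral_dichotomy {n : ℕ} (a b : DihedralGroup n) (ha : Odd (orderOf a)) :
    a * b = b * a ∨ (b * b = 1 ∧ b * a * b⁻¹ = a⁻¹) := by
  rcases a with i | i
  · rcases b with j | j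
    · left; rw [DihedralGroup.r_mul_r, DihedralGroup.r_mul_r, add_comm]
    · right
      constructor
      · rw [DihedralGroup.sr_mul_sr, sub_self, ← DihedralGroup.one_def]
      · rw [DihedralGroup.sr_mul_r, DihedralGroup.inv_sr, DihedralGroup.sr_mul_sr, DihedralGroup.inv_r]
        congr 1; ring
  · rw [DihedralGroup.orderOf_sr] at ha
    exact absurd ha (by decide)

variable {G : Type*} [Group G] [Finite G] {p : ℕ} [hp : Fact p.Prime]

/-- The restricted hypothesis on p-by-cyclic subgroups. -/
def Restricted (p : ℕ) (G : Type*) [Group G] : Prop :=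
  ∀ H : Subgroup G, (∀ S : Sylow p ↥H, (S : Subgroup ↥H).Normal) →
        (∀ (S : Sylow p ↥H) [(S : Subgroup ↥H).Normal], IsCyclic (↥H ⧸ (S : Subgroup ↥H))) →
        IsCyclic H ∨ (∃ n : ℕ, Nonempty (H ≃* DihedralGroup (p ^ n)))

theorem odd_orderOf (hp2 : p ≠ 2) {Q : Subgroup G} (hQ : IsPGroup p Q) {q : G} (hq : q ∈ Q) :
    Odd (orderOf q) := by
  obtain ⟨k, hk⟩ := IsPGroup.iff_orderOf.1 hQ ⟨q, hq⟩
  rw [← Subgroup.orderOf_mk q hq, hk]
  exact (hp.out.odd_of_ne_two hp2).pow

theorem normalizer_dichotomy (hp2 : p ≠ 2) (h : Restricted p G) {Q : Subgroup G} (hQ : IsPGroup p Q)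
    {x : G} (hx : x ∈ normalizer (Q : Set G)) :
    ∀ q ∈ Q, q * x = x * q ∨ (x * x = 1 ∧ x * q * x⁻¹ = q⁻¹) := by
  set H := Q ⊔ zpowers x with hH
  have hQH : Q ≤ H := le_sup_left
  haveI : (Q.subgroupOf H).Normal :=
    normal_subgroupOf_of_le_normalizer (sup_le le_normalizer (zpowers_le.2 hx))
  set xH : H := ⟨x, mem_sup_right (mem_zpowers x)⟩
  have hgen : zpowers (QuotientGroup.mk' (Q.subgroupOf H) xH) = ⊤ := by
    have e : Q.subgroupOf H ⊔ zpowers xH = ⊤ := by
      apply map_injective H.subtype_injective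
      rw [Subgroup.map_sup, map_subgroupOf_eq_of_le hQH, MonoidHom.map_zpowers,
        ← MonoidHom.range_eq_map, range_subtype]
      rfl
    have := congrArg (map (QuotientGroup.mk' (Q.subgroupOf H))) e
    rwa [Subgroup.map_sup, QuotientGroup.map_mk'_self, bot_sup_eq, MonoidHom.map_zpowers,
      map_top_of_surjective _ (QuotientGroup.mk'_surjective _)] at this
  haveI hcyc : IsCyclic (H ⧸ Q.subgroupOf H) :=
    isCyclic_iff_exists_zpowers_eq_top.2 ⟨_, hgen⟩
  have hQS : ∀ S : Sylow p H, Q.subgroupOf H ≤ S := fun S =>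
    IsPGroup.le_sylow_of_normal (N := Q.subgroupOf H) hQ.comap_subtype S
  have hSn : ∀ S : Sylow p H, (S : Subgroup H).Normal := by
    intro S
    letI : CommGroup (H ⧸ Q.subgroupOf H) := IsCyclic.commGroup
    have : ((S : Subgroup H).map (QuotientGroup.mk' (Q.subgroupOf H))).Normal :=
      Subgroup.normal_of_comm _
    have h2 := this.comap (QuotientGroup.mk' (Q.subgroupOf H))
    rwa [comap_map_eq, QuotientGroup.ker_mk', sup_eq_left.2 (hQS S)] at h2
  have hSc : ∀ (S : Sylow p H) [(S : Subgroup H).Normal], IsCyclic (↥H ⧸ (S : Subgroup H)) := by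
    intro S _
    exact isCyclic_of_surjective (QuotientGroup.map (Q.subgroupOf H) (S : Subgroup H) (MonoidHom.id H) (hQS S))
      (QuotientGroup.map_surjective_of_surjective _ _ _ (fun z => by
        obtain ⟨a, rfl⟩ := QuotientGroup.mk'_surjective (S : Subgroup H) z
        exact ⟨a, rfl⟩) _)
  intro q hq
  rcases h H hSn hSc with hc | ⟨n, ⟨e⟩⟩
  · letI : CommGroup H := hc.commGroup
    exact Or.inl (congrArg Subtype.val (mul_comm (⟨q, hQH hq⟩ : H) xH))
  · have hodd : Odd (orderOf (e ⟨q, hQH hq⟩)) := by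
      rw [e.orderOf_eq, Subgroup.orderOf_mk]; exact odd_orderOf hp2 hQ hq
    rcases dihedral_dichotomy _ (e xH) hodd with h1 | ⟨h1, h2⟩
    · rw [← map_mul, ← map_mul] at h1
      exact Or.inl (congrArg Subtype.val (e.injective h1))
    · rw [← map_mul, ← map_one e] at h1
      rw [← map_inv, ← map_mul, ← map_inv, ← map_mul] at h2
      exact Or.inr ⟨congrArg Subtype.val (e.injective h1), congrArg Subtype.val (e.injective h2)⟩

theorem isCyclic_sylow (hp2 : p ≠ 2) (h : Restricted p G) (P : Sylow p G) : IsCyclic P := by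
  have htop : ∀ S : Sylow p (P : Subgroup G), (S : Subgroup ↥(P : Subgroup G)) = ⊤ := fun S =>
    top_le_iff.1 ((P.2.to_subgroup ⊤).le_sylow_of_normal S)
  rcases h (P : Subgroup G) (fun S => by rw [htop S]; infer_instance) (fun S hS => by
      haveI : Subsingleton (↥(P : Subgroup G) ⧸ (S : Subgroup ↥(P : Subgroup G))) :=
        QuotientGroup.subsingleton_iff.2 (htop S)
      infer_instance) with hc | ⟨n, ⟨e⟩⟩
  · exact hc
  · obtain ⟨k, hk⟩ := IsPGroup.iff_card.1 P.2
    have h2 : 2 ∣ p ^ k := ⟨p ^ n, by rw [← hk, Nat.card_congr e.toEquiv, DihedralGroup.nat_card]⟩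
    exact absurd ((Nat.prime_dvd_prime_iff_eq Nat.prime_two hp.out).1 (Nat.prime_two.dvd_of_dvd_pow h2)).symm hp2

omit [Finite G] in
theorem ne_inv (hp2 : p ≠ 2) {q : G} (hq : orderOf q = p) : q⁻¹ ≠ q := fun h => by
  have : orderOf q ∣ 2 := orderOf_dvd_of_pow_eq_one (by rw [sq]; nth_rw 1 [← h]; exact inv_mul_cancel q)
  rw [hq] at this
  exact hp2 ((Nat.prime_dvd_prime_iff_eq hp.out Nat.prime_two).1 this)

/-- Local property at an element of order p. -/
def Local (q : G) : Prop :=
  (∀ a b : G, a * q = q * a → b * q = q * b → a * b = b * a) ∧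
    ∀ x : G, x * q * x⁻¹ ∈ zpowers q → x * q ≠ q * x →
      x * x = 1 ∧ ∀ c : G, c * q = q * c → x * c * x⁻¹ = c⁻¹

omit [Finite G] in
theorem local_conj {q : G} (g : G) (h : Local q) : Local (g * q * g⁻¹) := by
  obtain ⟨h1, h2⟩ := h
  set e := MulAut.conj g⁻¹ with he
  have hq : e (g * q * g⁻¹) = q := by simp [he, mul_assoc]
  have hcom : ∀ a, a * (g * q * g⁻¹) = g * q * g⁻¹ * a → e a * q = q * e a := fun a h => by
    have := congrArg e h
    rwa [map_mul e a _, map_mul e _ a, hq] at this
  refine ⟨fun a b ha hb => e.injective ?_, fun x hx hne => ?_⟩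
  · rw [map_mul, map_mul]
    exact h1 _ _ (hcom _ ha) (hcom _ hb)
  · have hx' : e x * q * (e x)⁻¹ ∈ zpowers q := by
      obtain ⟨k, hk⟩ := mem_zpowers_iff.1 hx
      refine mem_zpowers_iff.2 ⟨k, ?_⟩
      rw [← hq, ← map_zpow, hk, map_mul e (x * _), map_mul e x, map_inv]
    obtain ⟨h3, h4⟩ := h2 (e x) hx' (fun hc => hne (e.injective (by rw [map_mul e x _, map_mul e _ x, hq, hc])))
    refine ⟨e.injective (by rw [map_mul, map_one, h3]), fun c hc => e.injective ?_⟩
    rw [map_mul, map_mul, map_inv, map_inv]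
    exact h4 _ (hcom _ hc)

omit [Finite G] in
theorem isCyclic_of_comm {H : Type*} [Group H] [Finite H] (S : Sylow p H) [(S : Subgroup H).Normal]
    (hS : IsCyclic S) (hq : IsCyclic (H ⧸ (S : Subgroup H)))
    (hcomm : ∀ a b : H, a * b = b * a) : IsCyclic H := by
  obtain ⟨s, hs⟩ := IsCyclic.exists_ofOrder_eq_natCard (α := (S : Subgroup H))
  obtain ⟨gb, hgb⟩ := IsCyclic.exists_ofOrder_eq_natCard (α := H ⧸ (S : Subgroup H))
  obtain ⟨g, rfl⟩ := QuotientGroup.mk'_surjective _ gb
  set m := Nat.card (H ⧸ (S : Subgroup H)) with hm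
  set n := Nat.card (S : Subgroup H) with hn
  have hcop : Nat.Coprime m n := by
    obtain ⟨k, hk⟩ := IsPGroup.iff_card.1 S.2
    rw [hn, hk, hm, ← index_eq_card]
    exact ((hp.out.coprime_iff_not_dvd.2 S.not_dvd_index).symm).pow_right k
  have hg : orderOf (g ^ n) = m := by
    refine Nat.dvd_antisymm (orderOf_dvd_of_pow_eq_one ?_) ?_
    · rw [← pow_mul, hn, hm, ← index_eq_card, card_mul_index]
      exact pow_card_eq_one'
    · have := orderOf_map_dvd (QuotientGroup.mk' (S : Subgroup H)) (g ^ n)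
      rwa [map_pow, (hgb ▸ hcop : (orderOf (QuotientGroup.mk' (S : Subgroup H) g)).Coprime n).orderOf_pow,
        hgb] at this
  refine isCyclic_of_orderOf_eq_card (g ^ n * s) ?_
  rw [(Commute.orderOf_mul_eq_mul_orderOf_of_coprime (hcomm _ _) (by rw [hg, Subgroup.orderOf_coe, hs]; exact hcop)),
    hg, Subgroup.orderOf_coe, hs, hn, hm, ← index_eq_card, mul_comm, card_mul_index]

/-- The converse case split. -/
theorem restricted_of (P : Sylow p G) (hPc : IsCyclic P) (H : Subgroup G) (S : Sylow p H)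
    [(S : Subgroup H).Normal] (hq : IsCyclic (↥H ⧸ (S : Subgroup H)))
    (hcase : Cfsg.HasNormalPComplement p G ∨ ∀ q ∈ (P : Subgroup G), orderOf q = p → Local q) :
    IsCyclic H ∨ ∃ n : ℕ, Nonempty (H ≃* DihedralGroup (p ^ n)) := by
  obtain ⟨P', hP'⟩ := (S.2.map H.subtype).exists_le_sylow
  obtain ⟨g, hg⟩ := MulAction.exists_smul_eq G P P'
  haveI : IsCyclic P' := by
    rw [← hg]
    exact isCyclic_of_surjective (P.equivSMul g).toMonoidHom (P.equivSMul g).surjective
  haveI hS : IsCyclic S := by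
    haveI : IsCyclic ((S : Subgroup H).map H.subtype) := by
      exact isCyclic_of_injective (inclusion hP') (inclusion_injective hP')
    exact isCyclic_of_injective ((S : Subgroup H).equivMapOfInjective H.subtype H.subtype_injective).toMonoidHom
      (MulEquiv.injective _)
  have hScomm : ∀ a ∈ (S : Subgroup H), ∀ b ∈ (S : Subgroup H), a * b = b * a := fun a ha b hb => by
    letI : CommGroup (S : Subgroup H) := IsCyclic.commGroup
    exact congrArg Subtype.val (mul_comm (⟨a, ha⟩ : (S : Subgroup H)) ⟨b, hb⟩)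
  rcases hcase with hN | hL
  · left
    have hH := Fusion.hasNormalPComplement_subgroup hN H
    obtain ⟨K, hKn, hKS⟩ : ∃ K : Subgroup H, K.Normal ∧ K.IsComplement' (S : Subgroup H) :=
      ⟨_, inferInstance, Fusion.isComplement'_pResidual hH S⟩
    have hKc : ∀ a ∈ K, ∀ b ∈ K, a * b = b * a := by
      intro a ha b hb
      letI : CommGroup (↥H ⧸ (S : Subgroup H)) := hq.commGroup
      have h1 : a * b * (b * a)⁻¹ ∈ (S : Subgroup H) := (QuotientGroup.eq_one_iff _).1 (by
        rw [QuotientGroup.mk_mul, QuotientGroup.mk_inv, QuotientGroup.mk_mul, QuotientGroup.mk_mul,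
          mul_comm (a : ↥H ⧸ (S : Subgroup H)), mul_inv_cancel])
      have h2 := (hKS.disjoint).le_bot (⟨K.mul_mem (K.mul_mem ha hb) (K.inv_mem (K.mul_mem hb ha)), h1⟩ : _ ∈ K ⊓ (S : Subgroup H))
      exact mul_inv_eq_one.1 h2
    refine isCyclic_of_comm S hS hq fun a b => ?_
    have hks : ∀ k ∈ K, ∀ s ∈ (S : Subgroup H), Commute k s := fun k hk s hs =>
      commute_of_normal_of_disjoint K S hKn inferInstance hKS.disjoint k s hk hs
    obtain ⟨⟨⟨k, hk⟩, ⟨s, hs⟩⟩, rfl, -⟩ := hKS.existsUnique a
    obtain ⟨⟨⟨k', hk'⟩, ⟨s', hs'⟩⟩, rfl, -⟩ := hKS.existsUnique b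
    exact ((Commute.mul_right (hKc k hk k' hk') (hks k hk s' hs')).mul_left
      (Commute.mul_right (hks k' hk' s hs).symm (hScomm s hs s' hs'))).eq
  · by_cases hpH : p ∣ Nat.card (S : Subgroup H)
    · obtain ⟨q0, hq0⟩ := exists_prime_orderOf_dvd_card' (G := (S : Subgroup H)) p hpH
      set q : G := ((q0 : H) : G) with hqdef
      have hqo : orderOf q = p := by rw [hqdef, Subgroup.orderOf_coe, Subgroup.orderOf_coe, hq0]
      have hqP : q ∈ (P' : Subgroup G) := hP' ⟨q0, q0.2, rfl⟩
      rw [← hg, Sylow.coe_subgroup_smul, mem_pointwise_smul_iff_inv_smul_mem] at hqP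
      have hloc : Local q := by
        have hp0 : (MulAut.conj g)⁻¹ • q = g⁻¹ * q * g := by simp [MulAut.smul_def]
        rw [hp0] at hqP
        have := local_conj g (hL _ hqP (by
          rw [show g⁻¹ * q * g = MulAut.conj g⁻¹ q by simp, MulEquiv.orderOf_eq, hqo]))
        rwa [show g * (g⁻¹ * q * g) * g⁻¹ = q by group] at this
      have hnorm : ∀ x : H, (x : G) * q * (x : G)⁻¹ ∈ zpowers q := by
        intro x
        have hmem : x * (q0 : H) * x⁻¹ ∈ (S : Subgroup H) := Normal.conj_mem inferInstance _ q0.2 x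
        set y : (S : Subgroup H) := ⟨_, hmem⟩ with hy
        have hqp : q0 ^ p = 1 := by have := pow_orderOf_eq_one q0; rwa [hq0] at this
        have hyp : y ^ p = 1 := Subtype.ext (by
          rw [SubgroupClass.coe_pow, hy, conj_pow, OneMemClass.coe_one]
          rw [← SubgroupClass.coe_pow, hqp, OneMemClass.coe_one, mul_one, mul_inv_cancel])
        classical
        haveI := Fintype.ofFinite (S : Subgroup H)
        have hsub : (Finset.univ.filter fun a : (S : Subgroup H) => a ∈ zpowers q0) ⊆
            (Finset.univ.filter fun a : (S : Subgroup H) => a ^ p = 1) := by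
          intro a ha
          simp only [Finset.mem_filter, Finset.mem_univ, true_and] at ha ⊢
          obtain ⟨k, rfl⟩ := mem_zpowers_iff.1 ha
          rw [← zpow_natCast, ← zpow_mul, mul_comm, zpow_mul, zpow_natCast, hqp, one_zpow]
        have heq := Finset.eq_of_subset_of_card_le hsub
          ((IsCyclic.card_pow_eq_one_le hp.out.pos).trans (le_of_eq (by
            rw [← Fintype.card_subtype, ← Nat.card_eq_fintype_card]
            show p = Nat.card (zpowers q0)
            rw [Nat.card_zpowers, hq0])))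
        have hyz : y ∈ zpowers q0 := by
          have : y ∈ (Finset.univ.filter fun a : (S : Subgroup H) => a ∈ zpowers q0) := by
            rw [heq]; simp [hyp]
          simpa using this
        obtain ⟨k, hk⟩ := mem_zpowers_iff.1 hyz
        refine mem_zpowers_iff.2 ⟨k, ?_⟩
        have := congrArg (fun t : (S : Subgroup H) => ((t : H) : G)) hk
        simpa [hqdef, hy] using this
      by_cases hall : ∀ x : H, (x : G) * q = q * (x : G)
      · left
        exact isCyclic_of_comm S hS hq fun a b => Subtype.ext (hloc.1 _ _ (hall a) (hall b))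
      · right
        obtain ⟨x, hx⟩ := not_forall.1 hall
        obtain ⟨hx2, hxinv⟩ := hloc.2 _ (hnorm x) hx
        have hCinv : ∀ y : H, (y : G) * q = q * (y : G) → x * y * x⁻¹ = y⁻¹ := fun y hy =>
          Subtype.ext (hxinv _ hy)
        have hSC : ∀ s ∈ (S : Subgroup H), ((s : H) : G) * q = q * (s : G) := fun s hs =>
          congrArg Subtype.val (hScomm s hs q0 q0.2)
        have hxq : (x : G) * q * (x : G)⁻¹ = q⁻¹ := hxinv q rfl
        have hxS : x ∉ (S : Subgroup H) := fun hs => hx (hSC x hs)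
        have hxx : x * x = 1 := Subtype.ext hx2
        have hkey : ∀ y : H, (y : G) * q = q * (y : G) → y ∈ (S : Subgroup H) := by
          intro y hy
          letI : CommGroup (↥H ⧸ (S : Subgroup H)) := hq.commGroup
          set π := QuotientGroup.mk' (S : Subgroup H)
          by_contra hyS
          have h1 : π y = (π y)⁻¹ := by
            rw [← map_inv, ← hCinv y hy, map_mul, map_mul, map_inv, mul_inv_cancel_comm]
          have hy2 : π y ^ 2 = 1 := by
            rw [sq]; nth_rw 1 [h1]; exact inv_mul_cancel _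
          have hx2' : π x ^ 2 = 1 := by rw [sq, ← map_mul, hxx, map_one]
          classical
          haveI := Fintype.ofFinite (↥H ⧸ (S : Subgroup H))
          have hcard := IsCyclic.card_pow_eq_one_le (α := ↥H ⧸ (S : Subgroup H)) two_pos
          have hyx : π y ≠ π x := by
            intro h
            rw [QuotientGroup.mk'_eq_mk'] at h
            obtain ⟨z, hz, hzx⟩ := h
            refine hx ?_
            have e1 := hSC z hz
            rw [← hzx, Subgroup.coe_mul]
            rw [mul_assoc, e1, ← mul_assoc, hy, mul_assoc]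
          have h3 : ({1, π y, π x} : Finset _) ⊆ Finset.univ.filter fun a => a ^ 2 = 1 := by
            intro a ha
            simp only [Finset.mem_insert, Finset.mem_singleton] at ha
            rcases ha with rfl | rfl | rfl <;> simp [hy2, hx2']
          have hπy : π y ≠ 1 := fun h => hyS ((QuotientGroup.eq_one_iff y).1 h)
          have hπx : π x ≠ 1 := fun h => hxS ((QuotientGroup.eq_one_iff x).1 h)
          have h4 : ({1, π y, π x} : Finset _).card = 3 :=
            Finset.card_eq_three.2 ⟨_, _, _, hπy.symm, hπx.symm, hyx, rfl⟩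
          have := (Finset.card_le_card h3).trans hcard
          omega
        obtain ⟨s, hs⟩ := IsCyclic.exists_ofOrder_eq_natCard (α := (S : Subgroup H))
        obtain ⟨n, hn⟩ := IsPGroup.iff_card.1 S.2
        have hz : ∀ y ∈ (S : Subgroup H), y ∈ zpowers (s : H) := by
          intro y hy
          have : zpowers s = ⊤ := eq_top_of_card_eq _ (by rw [Nat.card_zpowers, hs])
          obtain ⟨k, hk⟩ := mem_zpowers_iff.1 (this.ge (mem_top (⟨y, hy⟩ : (S : Subgroup H))))
          exact mem_zpowers_iff.2 ⟨k, congrArg Subtype.val hk⟩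
        haveI : NeZero (p ^ n) := ⟨pow_ne_zero _ hp.out.ne_zero⟩
        refine ⟨n, MaxClass.nonempty_mulEquiv_dihedral (p ^ n) (a := (s : H)) (g := x)
          (by rw [Subgroup.orderOf_coe, hs, hn]) hxx (hCinv _ (hSC _ s.2))
          (fun h => hxS ((zpowers_le.2 s.2) h)) fun y => ?_⟩
        by_cases hy : (y : G) * q = q * (y : G)
        · exact Or.inl (hz _ (hkey y hy))
        · refine Or.inr (hz _ (hkey _ ?_))
          have e1 : (y : G) * q * (y : G)⁻¹ = q⁻¹ := (hloc.2 _ (hnorm y) hy).2 q rfl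
          have exi : (x : G)⁻¹ = x := inv_eq_of_mul_eq_one_right hx2
          rw [Subgroup.coe_mul, Subgroup.coe_inv, exi]
          have e2 : (x : G) * q⁻¹ * (x : G)⁻¹ = q := by
            rw [← inv_inj, ← conj_inv, inv_inv, hxq]
          calc (x : G) * y * q = x * (y * q * (y : G)⁻¹) * (x : G)⁻¹ * (x * y) := by group
            _ = q * (x * y) := by rw [e1, e2]
    · left
      have hbot : (S : Subgroup H) = ⊥ := by
        obtain ⟨k, hk⟩ := IsPGroup.iff_card.1 S.2
        rw [← card_eq_one, hk]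
        rcases Nat.eq_zero_or_pos k with rfl | hk0
        · exact pow_zero p
        · exact absurd (hk ▸ dvd_pow_self p hk0.ne') hpH
      exact isCyclic_of_surjective ((QuotientGroup.quotientMulEquivOfEq hbot).trans QuotientGroup.quotientBot).toMonoidHom
        (MulEquiv.surjective _)

/-- Let p be an odd prime and G a finite group with Sylow p-subgroup P. Say that G has restricted p-by-cyclic subgroups when every subgroup H of G whose Sylow p-subgroup is normal in H with cyclic quotient is itself cyclic or dihedral of order 2pⁿ for some n. Then G has restricted p-by-cyclic subgroups if and only if P is cyclic and one of the following holds: (1) N_G(P) = C_G(P); or (2) N_G(P)/C_G(P) has order 2 and, for the subgroup Q of order p of P, the centralizer C_G(Q) is abelian and every element of N_G(Q) outside C_G(Q) is an involution inverting every element of C_G(Q). -/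
theorem result {G : Type*} [Group G] [Finite G] {p : ℕ}
    [Fact p.Prime] (hp : p ≠ 2) (P : Sylow p G) :
    (∀ H : Subgroup G, (∀ S : Sylow p ↥H, (S : Subgroup ↥H).Normal) →
        (∀ (S : Sylow p ↥H) [(S : Subgroup ↥H).Normal], IsCyclic (↥H ⧸ (S : Subgroup ↥H))) →
        IsCyclic H ∨ (∃ n : ℕ, Nonempty (H ≃* DihedralGroup (p ^ n)))) ↔
    (IsCyclic P ∧
      (Subgroup.normalizer ((P : Subgroup G) : Set G) = Subgroup.centralizer ((P : Subgroup G) : Set G) ∨
       ((Subgroup.centralizer ((P : Subgroup G) : Set G)).relIndex (Subgroup.normalizer ((P : Subgroup G) : Set G)) = 2 ∧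
        ∀ Q : Subgroup G, Q ≤ P → Nat.card Q = p →
          IsMulCommutative ↥(Subgroup.centralizer (Q : Set G)) ∧
          ∀ x : G, x ∈ Subgroup.normalizer (Q : Set G) → x ∉ Subgroup.centralizer (Q : Set G) →
            orderOf x = 2 ∧ ∀ c : G, c ∈ Subgroup.centralizer (Q : Set G) → x * c * x⁻¹ = c⁻¹))) := by
  constructor
  · intro h
    have h' : Restricted p G := h
    haveI hPc := isCyclic_sylow hp h' P
    refine ⟨hPc, ?_⟩
    have hcomm : ∀ a ∈ (P : Subgroup G), ∀ b ∈ (P : Subgroup G), a * b = b * a := fun a ha b hb => by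
      letI : CommGroup (P : Subgroup G) := IsCyclic.commGroup
      exact congrArg Subtype.val (mul_comm (⟨a, ha⟩ : (P : Subgroup G)) ⟨b, hb⟩)
    obtain ⟨s, hs⟩ := IsCyclic.exists_ofOrder_eq_natCard (α := (P : Subgroup G))
    have hgen : ∀ a ∈ (P : Subgroup G), a ∈ zpowers (s : G) := by
      intro a ha
      have : zpowers s = ⊤ := eq_top_of_card_eq _ (by rw [Nat.card_zpowers, hs])
      obtain ⟨k, hk⟩ := mem_zpowers_iff.1 (this.ge (mem_top (⟨a, ha⟩ : (P : Subgroup G))))
      exact mem_zpowers_iff.2 ⟨k, congrArg Subtype.val hk⟩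
    by_cases hNC : normalizer ((P : Subgroup G) : Set G) ≤ centralizer ((P : Subgroup G) : Set G)
    · exact Or.inl (le_antisymm hNC (centralizer_le_normalizer _))
    right
    obtain ⟨x, hxN, hxC⟩ := SetLike.not_le_iff_exists.1 hNC
    have key : ∀ y ∈ normalizer ((P : Subgroup G) : Set G), y ∉ centralizer ((P : Subgroup G) : Set G) →
        y * y = 1 ∧ ∀ a ∈ (P : Subgroup G), y * a * y⁻¹ = a⁻¹ := by
      intro y hyN hyC
      rcases normalizer_dichotomy hp h' P.2 hyN _ s.2 with h1 | ⟨h1, h2⟩
      · refine absurd (mem_centralizer_iff.2 fun a ha => ?_) hyC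
        obtain ⟨k, rfl⟩ := mem_zpowers_iff.1 (hgen a ha)
        exact (Commute.zpow_left h1 k).eq
      · refine ⟨h1, fun a ha => ?_⟩
        obtain ⟨k, rfl⟩ := mem_zpowers_iff.1 (hgen a ha)
        rw [← conj_zpow, h2, inv_zpow]
    refine ⟨?_, fun Q hQP hQc => ?_⟩
    · rw [relIndex, index_eq_two_iff]
      refine ⟨⟨x, hxN⟩, fun y => ?_⟩
      by_cases hy : (y : G) ∈ centralizer ((P : Subgroup G) : Set G)
      · refine Or.inr ⟨mem_subgroupOf.2 hy, fun h1 => hxC ?_⟩
        have := (mul_mem_cancel_left hy).1 (mem_subgroupOf.1 h1)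
        exact this
      · refine Or.inl ⟨mem_subgroupOf.2 (mem_centralizer_iff.2 fun a ha => ?_), fun h1 => hy (mem_subgroupOf.1 h1)⟩
        obtain ⟨hx2, hxi⟩ := key x hxN hxC
        obtain ⟨hy2, hyi⟩ := key y y.2 hy
        have e1 : (y : G) * ((x : G) * a * (x : G)⁻¹) * (y : G)⁻¹ = a := by
          rw [hxi a ha, hyi _ (inv_mem ha), inv_inv]
        calc a * ((y * ⟨x, hxN⟩ : normalizer ((P : Subgroup G) : Set G)) : G)
            = (y : G) * ((x : G) * a * (x : G)⁻¹) * (y : G)⁻¹ * ((y : G) * x) := by rw [e1]; rfl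
          _ = ((y : G) * x) * a := by group
    · have hQ : IsPGroup p Q := P.2.to_le hQP
      obtain ⟨hx2, hxi⟩ := key x hxN hxC
      have hinv : ∀ a ∈ Q, x * a * x⁻¹ = a⁻¹ := fun a ha => hxi a (hQP ha)
      have exi : x⁻¹ = x := inv_eq_of_mul_eq_one_right hx2
      have hxQ : x ∈ normalizer (Q : Set G) := mem_normalizer_iff.2 fun a => by
        refine ⟨fun ha => (hinv a ha).symm ▸ inv_mem ha, fun ha => ?_⟩
        have := hinv _ ha
        rw [show x * (x * a * x⁻¹) * x⁻¹ = (x * x) * a * (x * x)⁻¹ by group, hx2, one_mul, inv_one, mul_one] at this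
        exact this ▸ inv_mem ha
      obtain ⟨q0, hq0⟩ := exists_prime_orderOf_dvd_card' (G := Q) p (hQc ▸ dvd_rfl)
      have hqo : orderOf (q0 : G) = p := by rw [Subgroup.orderOf_coe, hq0]
      have hout : ∀ y ∈ normalizer (Q : Set G), y ∉ centralizer (Q : Set G) → y * y = 1 := by
        intro y hyN hyC
        by_contra hy2
        refine hyC (mem_centralizer_iff.2 fun a ha => ?_)
        exact ((normalizer_dichotomy hp h' hQ hyN a ha).resolve_right fun h => hy2 h.1)
      have hxC' : x ∉ centralizer (Q : Set G) := fun h1 => by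
        have e := mem_centralizer_iff.1 h1 _ q0.2
        exact ne_inv hp hqo (by rw [← hinv _ q0.2, ← e, mul_assoc, mul_inv_cancel, mul_one])
      have hCinv : ∀ y ∈ normalizer (Q : Set G), y ∉ centralizer (Q : Set G) →
          ∀ c ∈ centralizer (Q : Set G), y * c * y⁻¹ = c⁻¹ := by
        intro y hyN hyC c hc
        have h1 := hout (y * c) (mul_mem hyN (centralizer_le_normalizer _ hc))
          (fun h1 => hyC ((mul_mem_cancel_right hc).1 h1))
        have h2 := hout y hyN hyC
        rw [inv_eq_of_mul_eq_one_right h2]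
        exact eq_inv_of_mul_eq_one_left (by rw [← h1]; group)
      refine ⟨⟨⟨fun a b => Subtype.ext ?_⟩⟩, fun y hyN hyC => ⟨?_, hCinv y hyN hyC⟩⟩
      · have e1 := hCinv x hxQ hxC' (a * b : G) (mul_mem a.2 b.2)
        rw [show x * ((a : G) * b) * x⁻¹ = (x * a * x⁻¹) * (x * b * x⁻¹) by group,
          hCinv x hxQ hxC' a a.2, hCinv x hxQ hxC' b b.2, ← mul_inv_rev, inv_inj] at e1
        exact e1.symm
      · exact orderOf_eq_prime (by rw [sq]; exact hout y hyN hyC) fun h1 => hyC (h1 ▸ one_mem _)
  · rintro ⟨hPc, hcase⟩ H hSn hSq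
    obtain ⟨S⟩ : Nonempty (Sylow p H) := inferInstance
    haveI := hSn S
    refine restricted_of P hPc H S (hSq S) ?_
    rcases hcase with hNC | ⟨-, hloc⟩
    · exact Or.inl (Fusion.hasNormalPComplement_of_normalizer_le_centralizer P hNC.le)
    · refine Or.inr fun q hq hqo => ?_
      obtain ⟨hc, hx⟩ := hloc (zpowers q) (zpowers_le.2 hq) (by rw [Nat.card_zpowers, hqo])
      have hmem : ∀ a : G, a * q = q * a → a ∈ centralizer (zpowers q : Set G) := fun a ha =>
        mem_centralizer_iff.2 fun b hb => by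
          obtain ⟨k, rfl⟩ := mem_zpowers_iff.1 hb
          exact (Commute.zpow_left (ha.symm : Commute q a) k).eq
      refine ⟨fun a b ha hb => congrArg Subtype.val (hc.is_comm.comm ⟨a, hmem a ha⟩ ⟨b, hmem b hb⟩),
        fun x hxq hne => ?_⟩
      have hxN : x ∈ normalizer (zpowers q : Set G) := by
        refine mem_normalizer_iff_map_conj_eq.2 (eq_of_le_of_card_ge ?_ (le_of_eq ?_))
        · rw [map_le_iff_le_comap, zpowers_le]; exact hxq
        · exact (card_map_of_injective (MulAut.conj x).injective).symm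
      have hxC : x ∉ centralizer (zpowers q : Set G) := fun h1 =>
        hne (mem_centralizer_iff.1 h1 q (mem_zpowers q)).symm
      obtain ⟨h1, h2⟩ := hx x hxN hxC
      exact ⟨by rw [← sq, ← h1, pow_orderOf_eq_one], fun c hcq => h2 c (hmem c hcq)⟩

end Cfsg.Agent.S4082
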