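import Cfsg.Statements.S4083
import Mathlib

set_option autoImplicit false
open Cfsg

namespace Cfsg.Agent.S4083

open Subgroup DihedralGroup

/-- A subgroup of exponent two is abelian. -/
theorem comm_of_sq {G : Type*} [Group G] {K : Subgroup G} (h : ∀ x ∈ K, x ^ 2 = 1) (x : G)
    (hx : x ∈ K) (y : G) (hy : y ∈ K) : x * y = y * x := by
  have hi : ∀ z ∈ K, z⁻¹ = z := fun z hz => inv_eq_of_mul_eq_one_right (by rw [← pow_two]; exact h z hz)
  rw [← hi _ (K.mul_mem hy hx), mul_inv_rev, hi x hx, hi y hy]

/-- An automorphism of odd order of a dihedral 2-group of order at least 8 is trivial. -/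
theorem dihedral_aut_trivial {j n : ℕ} (hj : 2 ≤ j) (hn : Odd n)
    (σ : MulAut (DihedralGroup (2 ^ j))) (hσ : σ ^ n = 1) : σ = 1 := by
  haveI : NeZero (2 ^ j) := ⟨by positivity⟩
  have h4 : 2 ^ 2 ≤ 2 ^ j := Nat.pow_le_pow_right two_pos hj
  have hcop : ∀ a : ℕ, (2 ^ a).Coprime n := fun a => (Nat.coprime_two_left.2 hn).pow_left a
  have hord : ∀ x, orderOf (σ x) = orderOf x := fun x => orderOf_injective σ.toMonoidHom σ.injective x
  obtain ⟨u, hu⟩ : ∃ u, σ (r 1) = r u := by
    rcases hs : σ (r 1) with u | u
    · exact ⟨u, rfl⟩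
    · have := hord (r 1)
      rw [hs, orderOf_sr, orderOf_r_one] at this
      omega
  have hrot : ∀ i : ZMod (2 ^ j), σ (r i) = r (u * i) := fun i => by
    rw [← ZMod.natCast_zmod_val i, ← r_one_pow, map_pow, hu, r_pow]
  obtain ⟨c, hc⟩ : ∃ c, σ (sr 0) = sr c := by
    rcases hs : σ (sr 0) with c | c
    · exfalso
      obtain ⟨x, hx⟩ := σ.surjective (sr 0)
      rcases x with i | i
      · rw [hrot] at hx; exact DihedralGroup.noConfusion rfl (heq_of_eq hx)
      · rw [show (sr i : DihedralGroup (2 ^ j)) = sr 0 * r i by rw [sr_mul_r, zero_add], map_mul, hs,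
          hrot, r_mul_r] at hx
        exact DihedralGroup.noConfusion rfl (heq_of_eq hx)
    · exact ⟨c, rfl⟩
  have hiter : ∀ m : ℕ, (σ ^ m) (r 1) = r (u ^ m) := by
    intro m
    induction m with
    | zero => simp
    | succ m ih => rw [pow_succ', MulAut.mul_apply, ih, hrot, pow_succ']
  have hu1 : u = 1 := by
    have h1 : u ^ n = 1 := by
      have := hiter n
      rw [hσ, MulAut.one_apply] at this
      exact (r.inj this).symm
    let uu := Units.ofPowEqOne u n h1 hn.pos.ne'
    have h2 : orderOf uu ∣ n := orderOf_dvd_of_pow_eq_one (Units.ext (by simp [uu, h1]))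
    have h3 : orderOf uu ∣ 2 ^ (j - 1) := by
      have := orderOf_dvd_natCard uu
      rwa [Nat.card_eq_fintype_card, ZMod.card_units_eq_totient,
        Nat.totient_prime_pow Nat.prime_two (by omega), show (2 - 1 : ℕ) = 1 from rfl, mul_one] at this
    have := Nat.eq_one_of_dvd_coprimes (hcop _) h3 h2
    rw [orderOf_eq_one_iff] at this
    exact congrArg Units.val this
  have hr : ∀ i, σ (r i) = r i := fun i => by rw [hrot, hu1, one_mul]
  have hiter2 : ∀ m : ℕ, (σ ^ m) (sr 0) = sr ((m : ZMod (2 ^ j)) * c) := by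
    intro m
    induction m with
    | zero => simp
    | succ m ih =>
      rw [pow_succ', MulAut.mul_apply, ih,
        show (sr ((m : ZMod (2 ^ j)) * c) : DihedralGroup (2 ^ j)) = sr 0 * r ((m : ZMod (2 ^ j)) * c) by rw [sr_mul_r, zero_add],
        map_mul, hc, hr, sr_mul_r]
      congr 1
      push_cast; ring
  have hc0 : c = 0 := by
    have := hiter2 n
    rw [hσ, MulAut.one_apply] at this
    have h1 : (n : ZMod (2 ^ j)) * c = 0 := (sr.inj this).symm
    have h2 : IsUnit (n : ZMod (2 ^ j)) := (ZMod.isUnit_iff_coprime _ _).2 (hcop j).symm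
    exact h2.mul_right_eq_zero.1 h1
  refine MulEquiv.ext fun x => ?_
  rcases x with i | i
  · exact hr i
  · rw [MulAut.one_apply, show (sr i : DihedralGroup (2 ^ j)) = sr 0 * r i by rw [sr_mul_r, zero_add],
      map_mul, hc, hr, hc0]

/-- A noncyclic subgroup of a dihedral 2-group. -/
theorem subgroup_cases {k : ℕ} (U : Subgroup (DihedralGroup (2 ^ k))) (hU : ¬ IsCyclic U) :
    ∃ j, 1 ≤ j ∧ Nonempty (U ≃* DihedralGroup (2 ^ j)) ∧
      ∃ K ≤ U, Nat.card K = 4 ∧ ∀ x ∈ K, x ^ 2 = 1 := by
  haveI : NeZero (2 ^ k) := ⟨by positivity⟩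
  let R : AddSubgroup (ZMod (2 ^ k)) :=
    { carrier := {i | r i ∈ U}
      zero_mem' := U.one_mem
      add_mem' := fun {a b} ha hb => by
        have := U.mul_mem ha hb
        rwa [r_mul_r] at this
      neg_mem' := fun {a} ha => by
        have := U.inv_mem ha
        rwa [DihedralGroup.inv_r] at this }
  obtain ⟨a, ha⟩ : ∃ a, sr a ∈ U := by
    by_contra hno
    push Not at hno
    refine hU ?_
    let f : U →* Multiplicative (ZMod (2 ^ k)) :=
      { toFun := fun x => match (x : DihedralGroup (2 ^ k)) with
          | r i => Multiplicative.ofAdd i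
          | sr i => Multiplicative.ofAdd i
        map_one' := rfl
        map_mul' := by
          rintro ⟨x, hx⟩ ⟨y, hy⟩
          rcases x with i | i
          · rcases y with l | l
            · rfl
            · exact absurd hy (hno l)
          · exact absurd hx (hno i) }
    refine isCyclic_of_injective f ?_
    rintro ⟨x, hx⟩ ⟨y, hy⟩ e
    rcases x with i | i
    · rcases y with l | l
      · exact Subtype.ext (congrArg r e)
      · exact absurd hy (hno l)
    · exact absurd hx (hno i)
  obtain ⟨j, -, hj⟩ : ∃ j ≤ k, Nat.card R = 2 ^ j := by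
    refine (Nat.dvd_prime_pow Nat.prime_two).1 ?_
    have := AddSubgroup.card_addSubgroup_dvd_card R
    rwa [Nat.card_zmod] at this
  let φ : ZMod (2 ^ j) ≃+ R :=
    (ZMod.ringEquivCongr hj.symm).toAddEquiv.trans (zmodAddCyclicAddEquiv inferInstance)
  have hmemR : ∀ i, sr i ∈ U ↔ i - a ∈ R := fun i => by
    constructor
    · intro hi
      show r (i - a) ∈ U
      have := U.mul_mem ha hi
      rwa [sr_mul_sr] at this
    · intro hi
      have := U.mul_mem ha (show r (i - a) ∈ U from hi)
      rwa [sr_mul_r, add_sub_cancel] at this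
  let f : DihedralGroup (2 ^ j) → U := fun x => match x with
    | r i => ⟨r (φ i : ZMod (2 ^ k)), (φ i).2⟩
    | sr i => ⟨sr (a + (φ i : ZMod (2 ^ k))), (hmemR _).2 (by simp)⟩
  let f' : DihedralGroup (2 ^ j) →* U :=
    { toFun := f
      map_one' := Subtype.ext (by
        show r ((φ 0 : R) : ZMod (2 ^ k)) = 1
        simp)
      map_mul' := by
        rintro (i | i) (l | l) <;> refine Subtype.ext ?_
        · show r _ = r _ * r _
          simp
        · show sr _ = r _ * sr _
          simp [add_sub_assoc]
        · show sr _ = sr _ * r _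
          simp [add_assoc]
        · show r _ = sr _ * sr _
          simp }
  have hf : Function.Bijective f' := by
    constructor
    · rintro (i | i) (l | l) e
      · exact congrArg r (φ.injective (Subtype.ext (r.inj (congrArg Subtype.val e))))
      · exact DihedralGroup.noConfusion rfl (heq_of_eq (congrArg Subtype.val e))
      · exact DihedralGroup.noConfusion rfl (heq_of_eq (congrArg Subtype.val e))
      · exact congrArg sr (φ.injective (Subtype.ext (add_left_cancel (sr.inj (congrArg Subtype.val e)))))
    · rintro ⟨x, hx⟩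
      rcases x with i | i
      · obtain ⟨l, hl⟩ := φ.surjective ⟨i, hx⟩
        exact ⟨r l, Subtype.ext (congrArg r (congrArg Subtype.val hl))⟩
      · obtain ⟨l, hl⟩ := φ.surjective ⟨i - a, (hmemR i).1 hx⟩
        refine ⟨sr l, Subtype.ext ?_⟩
        show sr (a + (φ l : ZMod (2 ^ k))) = sr i
        rw [hl]; simp
  have hj1 : 1 ≤ j := by
    by_contra h
    refine hU ?_
    haveI : Fact (Nat.Prime 2) := ⟨Nat.prime_two⟩
    refine isCyclic_of_prime_card (p := 2) ?_
    rw [← Nat.card_congr (Equiv.ofBijective _ hf), DihedralGroup.nat_card, show j = 0 by omega, pow_zero, mul_one]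
  refine ⟨j, hj1, ⟨(MulEquiv.ofBijective f' hf).symm⟩, ?_⟩
  -- the four group
  haveI : Fact (Nat.Prime 2) := ⟨Nat.prime_two⟩
  obtain ⟨⟨h, hhR⟩, hh⟩ := exists_prime_addOrderOf_dvd_card' (G := R) 2 (hj ▸ dvd_pow_self 2 (by omega))
  rw [← AddSubgroup.addOrderOf_coe] at hh
  change addOrderOf h = 2 at hh
  have hh2 : h + h = 0 := by
    have := addOrderOf_nsmul_eq_zero h
    rwa [hh, two_nsmul] at this
  have hh0 : h ≠ 0 := fun e => by rw [e, addOrderOf_zero] at hh; omega
  have hneg : -h = h := neg_eq_of_add_eq_zero_left hh2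
  let S4 : Set (DihedralGroup (2 ^ k)) := {r 0, r h, sr a, sr (a + h)}
  have hcomp : a + h + h = a := by rw [add_assoc, hh2, add_zero]
  let K : Subgroup (DihedralGroup (2 ^ k)) :=
    { carrier := S4
      one_mem' := Or.inl rfl
      mul_mem' := by
        rintro x y (rfl | rfl | rfl | rfl) (rfl | rfl | rfl | rfl) <;>
          simp [S4, hh2, hneg, hcomp, sub_eq_add_neg, add_comm, add_left_comm]
      inv_mem' := by
        rintro x (rfl | rfl | rfl | rfl) <;> simp [S4, DihedralGroup.inv_r, DihedralGroup.inv_sr, hneg] }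
  have hKmem : ∀ x, x ∈ K ↔ x = r 0 ∨ x = r h ∨ x = sr a ∨ x = sr (a + h) := fun x => Iff.rfl
  refine ⟨K, ?_, ?_, ?_⟩
  · intro x hx
    rcases (hKmem x).1 hx with rfl | rfl | rfl | rfl
    · exact R.zero_mem
    · exact hhR
    · exact ha
    · exact (hmemR _).2 (by simpa using hhR)
  · classical
    rw [Nat.card_congr (Equiv.subtypeEquivRight
      (q := fun x => x ∈ ({r 0, r h, sr a, sr (a + h)} : Finset (DihedralGroup (2 ^ k)))) fun x => by
        rw [hKmem]; simp), Nat.card_eq_fintype_card, Fintype.card_coe]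
    rw [Finset.card_insert_of_notMem (by simp [-r_zero, hh0.symm]),
      Finset.card_insert_of_notMem (by simp), Finset.card_pair (by simpa using hh0)]
  · intro x hx
    rcases (hKmem x).1 hx with rfl | rfl | rfl | rfl <;> simp [pow_two, hh2]

/-- A group of order 12 with a self-centralising normal four-group is alternating of degree 4. -/
theorem nonempty_alt_four {H : Type*} [Group H] [Finite H] (h12 : Nat.card H = 12) (V : Subgroup H)
    [V.Normal] (hV : Nat.card V = 4) (hC : centralizer (V : Set H) = V) :
    Nonempty (H ≃* alternatingGroup (Fin 4)) := by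
  classical
  haveI : Fact (Nat.Prime 3) := ⟨Nat.prime_three⟩
  obtain ⟨c, hc⟩ := exists_prime_orderOf_dvd_card' (G := H) 3 (by rw [h12]; norm_num)
  set C := zpowers c with hCdef
  have hC3 : Nat.card C = 3 := by rw [hCdef, Nat.card_zpowers, hc]
  have hidx : C.index = 4 := by
    have := C.card_mul_index
    rw [hC3, h12] at this; omega
  have hcore : C.normalCore = ⊥ := by
    by_contra hne
    have heq : C.normalCore = C := by
      refine eq_of_le_of_card_ge (normalCore_le C) ?_
      have h1 := card_dvd_of_le (normalCore_le C)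
      rw [hC3] at h1
      rcases (Nat.dvd_prime Nat.prime_three).1 h1 with h | h
      · exact absurd (card_eq_one.1 h) hne
      · rw [h, hC3]
    have hCn : C.Normal := heq ▸ normalCore_normal C
    have hd : Disjoint V C := by
      rw [disjoint_iff, ← card_eq_one]
      exact Nat.eq_one_of_dvd_coprimes (by norm_num : Nat.Coprime 4 3)
        (hV ▸ card_dvd_of_le inf_le_left) (hC3 ▸ card_dvd_of_le inf_le_right)
    have hcV : c ∈ V := hC.le (mem_centralizer_iff.2 fun v hv =>
      commute_of_normal_of_disjoint _ _ ‹V.Normal› hCn hd v c hv (mem_zpowers c))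
    have := Subgroup.orderOf_dvd_natCard V hcV
    rw [hc, hV] at this; omega
  let f : H →* Equiv.Perm (H ⧸ C) := MulAction.toPermHom H (H ⧸ C)
  have hf : Function.Injective f := by
    rw [← MonoidHom.ker_eq_bot_iff, ← hcore, normalCore_eq_ker]
  haveI : Fintype (H ⧸ C) := Fintype.ofFinite _
  have hcard : Fintype.card (H ⧸ C) = 4 := by
    rw [← Nat.card_eq_fintype_card, ← index_eq_card, hidx]
  let e := Fintype.equivFinOfCardEq hcard
  let g : H →* Equiv.Perm (Fin 4) := e.permCongrHom.toMonoidHom.comp f
  have hg : Function.Injective g := e.permCongrHom.injective.comp hf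
  have hA : g.range = alternatingGroup (Fin 4) := by
    refine Equiv.Perm.eq_alternatingGroup_of_index_eq_two ?_
    have := g.range.card_mul_index
    rw [← Nat.card_congr (MonoidHom.ofInjective hg).toEquiv, h12, Nat.card_perm, Nat.card_fin] at this
    norm_num [Nat.factorial] at this
    omega
  exact ⟨(MonoidHom.ofInjective hg).trans (MulEquiv.subgroupCongr hA)⟩

/-- An automorphism of odd order of a cyclic 2-group is trivial. -/
theorem cyclic_aut_trivial {S : Type*} [Group S] [Finite S] [IsCyclic S] {a n : ℕ}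
    (hS : Nat.card S = 2 ^ a) (hn : Odd n) (σ : MulAut S) (hσ : σ ^ n = 1) : σ = 1 := by
  rw [← orderOf_eq_one_iff]
  have h1 : orderOf σ ∣ (2 ^ a).totient := by
    have := orderOf_dvd_natCard σ
    rwa [IsCyclic.card_mulAut, hS] at this
  rcases Nat.eq_zero_or_pos a with rfl | ha
  · simpa using h1
  rw [Nat.totient_prime_pow Nat.prime_two ha, show (2 - 1 : ℕ) = 1 from rfl, mul_one] at h1
  exact Nat.eq_one_of_dvd_coprimes ((Nat.coprime_two_left.2 hn).pow_left _) h1
    (orderOf_dvd_of_pow_eq_one hσ)

/-- Let G be a finite group with Sylow 2-subgroup P. Every subgroup H of G whose Sylow 2-subgroup is normal in H with cyclic quotient is cyclic, dihedral of 2-power order, or isomorphic to the alternating group of degree 4, if and only if either P is cyclic, or P is dihedral (of order at least 4) and every elementary abelian subgroup K of order 4 of P satisfies C_G(K) = K. -/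
theorem result {G : Type*} [Group G] [Finite G] (P : Sylow 2 G) :
    (∀ H : Subgroup G, (∀ S : Sylow 2 ↥H, (S : Subgroup ↥H).Normal) →
        (∀ (S : Sylow 2 ↥H) [(S : Subgroup ↥H).Normal], IsCyclic (↥H ⧸ (S : Subgroup ↥H))) →
        IsCyclic H ∨ (∃ n : ℕ, Nonempty (H ≃* DihedralGroup (2 ^ n))) ∨ Nonempty (H ≃* alternatingGroup (Fin 4))) ↔
    (IsCyclic P ∨
      ((∃ n : ℕ, 1 ≤ n ∧ Nonempty ((P : Subgroup G) ≃* DihedralGroup (2 ^ n))) ∧
        ∀ K : Subgroup G, K ≤ P → Nat.card K = 4 → (∀ k ∈ K, k ^ 2 = 1) → Subgroup.centralizer (K : Set G) = K)) := by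
  classical
  haveI : Fact (Nat.Prime 2) := ⟨Nat.prime_two⟩
  constructor
  · intro hall
    rw [or_iff_not_imp_left]
    intro hcycP
    obtain ⟨a, ha⟩ := IsPGroup.iff_card.1 P.isPGroup'
    have hP : IsCyclic P ∨ (∃ n : ℕ, Nonempty ((P : Subgroup G) ≃* DihedralGroup (2 ^ n))) ∨
        Nonempty ((P : Subgroup G) ≃* alternatingGroup (Fin 4)) := by
      have htop : ∀ S : Sylow 2 (P : Subgroup G), (S : Subgroup (P : Subgroup G)) = ⊤ := fun S => by
        refine S.3 (Q := ⊤) ?_ le_top |>.symm
        exact IsPGroup.of_surjective P.isPGroup' (topEquiv (G := (P : Subgroup G))).symm.toMonoidHom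
          (topEquiv (G := (P : Subgroup G))).symm.surjective
      refine hall P (fun S => by rw [htop S]; infer_instance) fun S _ => ?_
      haveI : Subsingleton ((P : Subgroup G) ⧸ (S : Subgroup (P : Subgroup G))) := by
        rw [htop S]; exact QuotientGroup.subsingleton_quotient_top
      exact isCyclic_of_subsingleton
    obtain ⟨n, ⟨e⟩⟩ : ∃ n : ℕ, Nonempty ((P : Subgroup G) ≃* DihedralGroup (2 ^ n)) := by
      refine (hP.resolve_left hcycP).resolve_right ?_
      rintro ⟨e⟩
      have h1 := Nat.card_congr e.toEquiv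
      rw [ha, show Nat.card (alternatingGroup (Fin 4)) = 12 by
        rw [nat_card_alternatingGroup, Nat.card_fin]; rfl] at h1
      have : 3 ∣ 2 ^ a := by rw [h1]; norm_num
      exact absurd (Nat.prime_three.dvd_of_dvd_pow this) (by norm_num)
    have hn : 1 ≤ n := by
      by_contra h
      refine hcycP (isCyclic_of_prime_card (p := 2) ?_)
      rw [Nat.card_congr e.toEquiv, DihedralGroup.nat_card, show n = 0 by omega, pow_zero, mul_one]
    refine ⟨⟨n, hn, ⟨e⟩⟩, fun K hKP hK4 hK2 => le_antisymm (fun c hc => ?_) (fun x hx => ?_)⟩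
    · have hKcomm : ∀ x ∈ K, ∀ y ∈ K, x * y = y * x := fun x hx y hy =>
        comm_of_sq hK2 x hx y hy
      set L := closure ((K : Set G) ∪ {c}) with hL
      have hLcomm : IsMulCommutative L := by
        refine Subgroup.isMulCommutative_closure ?_
        intro x hx y hy
        rcases hx with hx | rfl <;> rcases hy with hy | rfl
        · exact hKcomm x hx y hy
        · exact mem_centralizer_iff.1 hc x hx
        · exact (mem_centralizer_iff.1 hc y hy).symm
        · rfl
      have hKL : K ≤ L := fun x hx => subset_closure (Or.inl hx)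
      have hcL : c ∈ L := subset_closure (Or.inr rfl)
      have hnorm : ∀ S : Sylow 2 L, (S : Subgroup L).Normal := fun S => inferInstance
      have hquot : ∀ (S : Sylow 2 L) [(S : Subgroup L).Normal], IsCyclic (L ⧸ (S : Subgroup L)) := by
        intro S _
        have hKS : K.subgroupOf L ≤ (S : Subgroup L) := by
          obtain ⟨T, hT⟩ := (IsPGroup.of_card (p := 2) (n := 2) (show Nat.card (K.subgroupOf L) = 2 ^ 2 by
            rw [Nat.card_congr (subgroupOfEquivOfLe hKL).toEquiv, hK4]; norm_num)).exists_le_sylow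
          haveI := hnorm S
          haveI := Sylow.unique_of_normal S inferInstance
          rwa [Subsingleton.elim T S] at hT
        refine ⟨(⟨c, hcL⟩ : L), fun x => ?_⟩
        obtain ⟨⟨y, hy⟩, rfl⟩ := QuotientGroup.mk_surjective x
        suffices ∀ y (hy : y ∈ L), ((⟨y, hy⟩ : L) : L ⧸ (S : Subgroup L)) ∈
            zpowers (((⟨c, hcL⟩ : L)) : L ⧸ (S : Subgroup L)) from this y hy
        intro y hy
        induction hy using closure_induction with
        | mem y hy =>
          rcases hy with hy | rfl
          · rw [(QuotientGroup.eq_one_iff (⟨y, subset_closure (Or.inl hy)⟩ : L)).2 (hKS hy)]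
            exact one_mem _
          · exact mem_zpowers _
        | one => exact one_mem _
        | mul x y hx' hy' hx hy => exact mul_mem hx hy
        | inv x hx' hx => exact inv_mem hx
      rcases hall L hnorm hquot with hcy | ⟨m, ⟨f⟩⟩ | ⟨⟨f⟩⟩
      · exfalso
        haveI := hcy
        have hc' : IsCyclic K := isCyclic_of_injective (inclusion hKL) (inclusion_injective hKL)
        obtain ⟨g, hg⟩ := hc'.exists_ofOrder_eq_natCard
        have : orderOf g ∣ 2 := orderOf_dvd_of_pow_eq_one (Subtype.ext (hK2 g g.2))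
        rw [hg, hK4] at this
        omega
      · -- an abelian dihedral group has order at most four
        have hm : 2 ^ m ≤ 2 := by
          have h1 : (r 1 * sr 0 : DihedralGroup (2 ^ m)) = sr 0 * r 1 := by
            obtain ⟨u, hu⟩ := f.surjective (r 1)
            obtain ⟨v, hv⟩ := f.surjective (sr 0)
            rw [← hu, ← hv, ← map_mul, ← map_mul, hLcomm.is_comm.comm]
          rw [r_mul_sr, sr_mul_r, sr.injEq] at h1
          have h2 : ((2 : ℕ) : ZMod (2 ^ m)) = 0 := by push_cast; linear_combination -h1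
          rw [ZMod.natCast_eq_zero_iff] at h2
          exact Nat.le_of_dvd two_pos h2
        have hKLeq : K = L := eq_of_le_of_card_ge hKL (by
          rw [hK4, Nat.card_congr f.toEquiv, DihedralGroup.nat_card]; omega)
        rw [hKLeq]; exact hcL
      · exfalso
        haveI := hLcomm
        have : IsMulCommutative (alternatingGroup (Fin 4)) :=
          ⟨⟨fun x y => f.symm.injective (by rw [map_mul, map_mul, mul_comm'])⟩⟩
        let a : alternatingGroup (Fin 4) := ⟨Equiv.swap 0 1 * Equiv.swap 1 2, by
          rw [Equiv.Perm.mem_alternatingGroup]; decide⟩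
        let b : alternatingGroup (Fin 4) := ⟨Equiv.swap 0 1 * Equiv.swap 2 3, by
          rw [Equiv.Perm.mem_alternatingGroup]; decide⟩
        exact absurd (congrArg Subtype.val (this.is_comm.comm a b)) (by decide)
    · exact mem_centralizer_iff.2 fun y hy => comm_of_sq hK2 y hy x hx
  · intro hP H hnorm hquot
    obtain ⟨S⟩ : Nonempty (Sylow 2 H) := inferInstance
    haveI := hnorm S
    haveI := hquot S
    obtain ⟨a, ha⟩ := IsPGroup.iff_card.1 S.isPGroup'
    set m := (S : Subgroup H).index with hm
    have hmodd : Odd m := Nat.not_even_iff_odd.1 fun h => S.not_dvd_index (even_iff_two_dvd.1 h)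
    have hcop : (2 ^ a).Coprime m := (Nat.coprime_two_left.2 hmodd).pow_left a
    have hHcard : Nat.card H = 2 ^ a * m := by rw [← ha, hm, card_mul_index]
    -- a generator of odd order of the quotient
    obtain ⟨x, hx⟩ := IsCyclic.exists_ofOrder_eq_natCard (α := H ⧸ (S : Subgroup H))
    obtain ⟨c₀, rfl⟩ := QuotientGroup.mk_surjective x
    rw [← index_eq_card, ← hm] at hx
    set c := c₀ ^ (2 ^ a) with hc
    have hcm : c ^ m = 1 := by
      rw [hc, ← pow_mul, mul_comm, pow_mul]
      have : c₀ ^ m ∈ (S : Subgroup H) := by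
        rw [← QuotientGroup.eq_one_iff, QuotientGroup.mk_pow, ← hx, pow_orderOf_eq_one]
      have h1 := congrArg Subtype.val (pow_card_eq_one' (x := (⟨_, this⟩ : (S : Subgroup H))))
      rw [ha] at h1
      simpa using h1
    have hcord : orderOf c = m := by
      refine Nat.dvd_antisymm (orderOf_dvd_of_pow_eq_one hcm) ?_
      have h1 : orderOf (c : H ⧸ (S : Subgroup H)) = m := by
        rw [hc, QuotientGroup.mk_pow, Nat.Coprime.orderOf_pow (by rw [hx]; exact hcop.symm), hx]
      rw [← h1]
      exact orderOf_map_dvd (QuotientGroup.mk' (S : Subgroup H)) c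
    let σ : MulAut (S : Subgroup H) := MulAut.conjNormal c
    have hσ : σ ^ m = 1 := by rw [← map_pow, hcm, map_one]
    have hcent : σ = 1 → ∀ s ∈ (S : Subgroup H), Commute c s := fun h s hs => by
      have := congrArg Subtype.val (DFunLike.congr_fun h ⟨s, hs⟩)
      simp only [σ, MulAut.conjNormal_apply, MulAut.one_apply] at this
      exact mul_inv_eq_iff_eq_mul.1 this
    by_cases hScyc : IsCyclic (S : Subgroup H)
    · left
      haveI := hScyc
      obtain ⟨s, hs⟩ := IsCyclic.exists_ofOrder_eq_natCard (α := (S : Subgroup H))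
      rw [ha, ← orderOf_coe] at hs
      refine isCyclic_of_orderOf_eq_card ((s : H) * c) ?_
      rw [((hcent (cyclic_aut_trivial ha hmodd σ hσ) s s.2).symm).orderOf_mul_eq_mul_orderOf_of_coprime
        (by rw [hs, hcord]; exact hcop), hs, hcord, hHcard]
    right
    -- move into the given Sylow subgroup
    obtain ⟨T, hT⟩ := (S.isPGroup'.map H.subtype).exists_le_sylow
    obtain ⟨g, hg⟩ := MulAction.exists_smul_eq G T P
    let ι : H →* G := (MulAut.conj g).toMonoidHom.comp H.subtype
    have hι : Function.Injective ι := (MulAut.conj g).injective.comp Subtype.val_injective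
    have hSP : (S : Subgroup H).map ι ≤ P := by
      rintro _ ⟨s, hs, rfl⟩
      rw [← hg]
      exact Subgroup.smul_mem_pointwise_smul _ _ _ (hT ⟨s, hs, rfl⟩)
    rcases hP with hcyc | ⟨⟨n, -, ⟨e⟩⟩, hK⟩
    · refine absurd ?_ hScyc
      exact isCyclic_of_injective (G := (S : Subgroup H)) (((inclusion hSP).comp
        (((S : Subgroup H).equivMapOfInjective ι hι).toMonoidHom))) (by
          exact (inclusion_injective hSP).comp (MulEquiv.injective _))
    let j : (S : Subgroup H) →* DihedralGroup (2 ^ n) := e.toMonoidHom.comp ((inclusion hSP).comp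
      (((S : Subgroup H).equivMapOfInjective ι hι).toMonoidHom))
    have hj : Function.Injective j :=
      e.injective.comp ((inclusion_injective hSP).comp (MulEquiv.injective _))
    obtain ⟨i, hi, ⟨f⟩, V, hVle, hV4, hV2⟩ := subgroup_cases j.range (fun h =>
      hScyc (isCyclic_of_injective (G := (S : Subgroup H)) j.rangeRestrict
        fun u v h' => hj (congrArg Subtype.val h')))
    let eS : (S : Subgroup H) ≃* DihedralGroup (2 ^ i) := (MonoidHom.ofInjective hj).trans f
    -- the four group
    set K' : Subgroup H := (V.comap j).map (S : Subgroup H).subtype with hK'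
    have hK'S : K' ≤ (S : Subgroup H) := map_subtype_le _
    have hK'4 : Nat.card K' = 4 := by
      rw [hK', card_map_of_injective (subtype_injective _), ← card_map_of_injective hj,
        map_comap_eq, inf_eq_right.2 hVle, hV4]
    have hK'2 : ∀ x ∈ K', x ^ 2 = 1 := by
      rintro _ ⟨x, hx, rfl⟩
      rw [← map_pow, show x ^ 2 = 1 from hj (by rw [map_pow, hV2 _ hx, map_one]), map_one]
    have hcK : centralizer (K' : Set H) ≤ K' := by
      intro z hz
      have h1 := hK (K'.map ι) ((map_mono hK'S).trans hSP)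
        (by rw [card_map_of_injective hι, hK'4]) (by
          rintro _ ⟨x, hx, rfl⟩
          rw [← map_pow, hK'2 x hx, map_one])
      have h2 : ι z ∈ centralizer ((K'.map ι : Subgroup G) : Set G) := by
        rw [mem_centralizer_iff]
        rintro _ ⟨x, hx, rfl⟩
        rw [← map_mul, ← map_mul, mem_centralizer_iff.1 hz x hx]
      rw [h1] at h2
      obtain ⟨x, hx, hxz⟩ := h2
      exact hι hxz ▸ hx
    have hK'c : ∀ k : ℕ, (∀ s ∈ K', Commute (c ^ k) s) → c ^ k = 1 := by
      intro k hk
      have h1 : c ^ k ∈ K' := hcK (mem_centralizer_iff.2 fun s hs => (hk s hs).symm.eq)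
      rw [← orderOf_eq_one_iff]
      refine Nat.eq_one_of_dvd_coprimes (show Nat.Coprime 4 m from
        (Nat.coprime_two_left.2 hmodd).pow_left 2) (hK'4 ▸ orderOf_dvd_natCard K' h1) ?_
      exact hcord ▸ orderOf_pow_dvd k
    by_cases hi2 : 2 ≤ i
    · -- no odd part
      left
      have h1 : MulAut.congr eS σ = 1 := by
        refine dihedral_aut_trivial hi2 hmodd _ ?_
        rw [← map_pow, hσ, map_one]
      have h2 : σ = 1 := (MulAut.congr eS).injective (h1.trans (map_one _).symm)
      have h3 := hK'c 1 fun s hs => by rw [pow_one]; exact hcent h2 s (hK'S hs)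
      rw [pow_one] at h3
      have hm1 : m = 1 := by rw [← hcord, h3, orderOf_one]
      have hStop : (S : Subgroup H) = ⊤ := index_eq_one.1 hm1
      exact ⟨i, ⟨(topEquiv (G := H)).symm.trans ((MulEquiv.subgroupCongr hStop.symm).trans eS)⟩⟩
    -- the four-group case
    have hi1 : i = 1 := by omega
    subst hi1
    have hS4 : Nat.card (S : Subgroup H) = 4 := by
      rw [Nat.card_congr eS.toEquiv, DihedralGroup.nat_card]; norm_num
    have hSK : (S : Subgroup H) = K' := (eq_of_le_of_card_ge hK'S (by rw [hS4, hK'4])).symm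
    have hm3 : m ∣ 3 := by
      let ψ : MulAut (S : Subgroup H) →* Equiv.Perm {s : (S : Subgroup H) // s ≠ 1} :=
        { toFun := fun τ => Equiv.Perm.subtypePerm τ.toEquiv fun s => not_congr (MulEquiv.map_eq_one_iff τ)
          map_one' := Equiv.ext fun s => rfl
          map_mul' := fun τ τ' => Equiv.ext fun s => rfl }
      have hψ : Function.Injective ψ := fun τ τ' h => MulEquiv.ext fun s => by
        by_cases hs : s = 1
        · rw [hs, map_one, map_one]
        · exact congrArg Subtype.val (Equiv.ext_iff.1 h ⟨s, hs⟩)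
      have h6 : orderOf (ψ σ) ∣ 6 := by
        haveI := Fintype.ofFinite (S : Subgroup H)
        have h := orderOf_dvd_natCard (ψ σ)
        rwa [Nat.card_perm, Nat.card_eq_fintype_card, Fintype.card_subtype_compl, Fintype.card_subtype_eq,
          ← Nat.card_eq_fintype_card, hS4] at h
      rw [orderOf_injective ψ hψ] at h6
      have h3 : orderOf σ ∣ 3 := by
        have h2 : (orderOf σ).Coprime 2 :=
          ((Nat.coprime_two_left.2 hmodd).coprime_dvd_right (orderOf_dvd_of_pow_eq_one hσ)).symm
        exact h2.dvd_of_dvd_mul_left (show orderOf σ ∣ 2 * 3 from h6)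
      have h4 : σ ^ 3 = 1 := orderOf_dvd_iff_pow_eq_one.1 h3
      rw [← hcord, orderOf_dvd_iff_pow_eq_one]
      refine hK'c 3 fun s hs => ?_
      have := congrArg Subtype.val (DFunLike.congr_fun h4 ⟨s, hK'S hs⟩)
      simp only [σ, ← map_pow, MulAut.conjNormal_apply, MulAut.one_apply] at this
      exact mul_inv_eq_iff_eq_mul.1 this
    rcases (Nat.dvd_prime Nat.prime_three).1 hm3 with hm1 | hm1
    · left
      exact ⟨1, ⟨(topEquiv (G := H)).symm.trans
        ((MulEquiv.subgroupCongr (index_eq_one.1 hm1).symm).trans eS)⟩⟩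
    · right
      refine nonempty_alt_four ?_ (S : Subgroup H) hS4 ?_
      · rw [← card_mul_index (S : Subgroup H), hS4, ← hm, hm1]
      · refine le_antisymm (by rw [hSK]; exact hcK) fun x hx => mem_centralizer_iff.2 fun y hy => ?_
        rw [hSK] at hx hy
        exact comm_of_sq hK'2 y hy x hx

end Cfsg.Agent.S4083
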