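import Cfsg.Statements.S4084
import Mathlib.GroupTheory.Perm.Cycle.Type

set_option autoImplicit false
open Cfsg

namespace Cfsg.Agent.S4084

theorem exists_order_pq {K : Type*} {L : Type*} [Group K] [Finite K] [Group L] [Finite L]
    (f : K ≃ L) (hf : ∀ x y : K, Commute x y ↔ Commute (f x) (f y))
    {p q : ℕ} (hp : p.Prime) (hq : q.Prime) (hpq : p ≠ q) (h : ∃ g : K, orderOf g = p * q) :
    ∃ h : L, orderOf h = p * q := by
  obtain ⟨g, hg⟩ := h
  haveI : Finite (Subgroup K) :=
    Finite.of_injective (fun H : Subgroup K => (H : Set K)) SetLike.coe_injective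
  obtain ⟨A, hAmem, hAmax⟩ := (Set.toFinite
    {A : Subgroup K | g ∈ A ∧ ∀ a ∈ A, ∀ b ∈ A, Commute a b}).exists_maximal
    ⟨Subgroup.zpowers g, Subgroup.mem_zpowers g, fun a ⟨i, hi⟩ b ⟨j, hj⟩ =>
      hi ▸ hj ▸ Commute.zpow_zpow_self g i j⟩
  have hself : ∀ x : K, (∀ a ∈ A, Commute x a) → x ∈ A := by
    intro x hx
    refine hAmax (y := Subgroup.closure (insert x (A : Set K)))
      ⟨Subgroup.subset_closure (Or.inr hAmem.1), fun a ha b hb => ?_⟩
      (fun a ha => Subgroup.subset_closure (Or.inr ha)) (Subgroup.subset_closure (Or.inl rfl))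
    have hgen : ∀ u ∈ insert x (A : Set K), ∀ v ∈ insert x (A : Set K), Commute u v := by
      rintro u (rfl | hu) v (rfl | hv)
      · exact Commute.refl _
      · exact hx v hv
      · exact (hx u hu).symm
      · exact hAmem.2 u hu v hv
    have h1 : ∀ u ∈ Subgroup.closure (insert x (A : Set K)),
        u ∈ Subgroup.centralizer (insert x (A : Set K)) := fun u hu =>
      (Subgroup.closure_le _).2 (fun w hw => Subgroup.mem_centralizer_iff.2 fun v hv =>
        (hgen v hv w hw).eq) hu
    have h2 : Subgroup.centralizer (insert x (A : Set K)) ≤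
        Subgroup.centralizer (Subgroup.closure (insert x (A : Set K)) : Set K) := by
      rw [Subgroup.centralizer_closure]
    exact (Subgroup.mem_centralizer_iff.1 (h2 (h1 b hb)) a ha)
  let B : Subgroup L :=
    { carrier := f '' (A : Set K)
      one_mem' := ⟨f.symm 1, hself _ fun a _ => (hf _ _).2 (by
        rw [f.apply_symm_apply]; exact Commute.one_left _), f.apply_symm_apply 1⟩
      mul_mem' := by
        rintro _ _ ⟨a, ha, rfl⟩ ⟨b, hb, rfl⟩
        refine ⟨f.symm (f a * f b), hself _ fun c hc => (hf _ _).2 ?_, f.apply_symm_apply _⟩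
        rw [f.apply_symm_apply]
        exact ((hf a c).1 (hAmem.2 a ha c hc)).mul_left ((hf b c).1 (hAmem.2 b hb c hc))
      inv_mem' := by
        rintro _ ⟨a, ha, rfl⟩
        refine ⟨f.symm (f a)⁻¹, hself _ fun c hc => (hf _ _).2 ?_, f.apply_symm_apply _⟩
        rw [f.apply_symm_apply]
        exact ((hf a c).1 (hAmem.2 a ha c hc)).inv_left }
  have hcard : Nat.card B = Nat.card A :=
    Nat.card_image_of_injective f.injective (A : Set K)
  have hd : p * q ∣ Nat.card B := by
    rw [hcard, ← hg]
    exact A.orderOf_dvd_natCard hAmem.1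
  haveI := Fact.mk hp
  haveI := Fact.mk hq
  obtain ⟨a, ha⟩ := exists_prime_orderOf_dvd_card' p ((Dvd.intro q rfl).trans hd)
  obtain ⟨b, hb⟩ := exists_prime_orderOf_dvd_card' q ((Dvd.intro_left p rfl).trans hd)
  obtain ⟨a', ha', haa⟩ := a.2
  obtain ⟨b', hb', hbb⟩ := b.2
  have hc : Commute (a : L) (b : L) := haa ▸ hbb ▸ (hf _ _).1 (hAmem.2 a' ha' b' hb')
  refine ⟨(a : L) * b, ?_⟩
  rw [hc.orderOf_mul_eq_mul_orderOf_of_coprime]
  · rw [Subgroup.orderOf_coe, Subgroup.orderOf_coe, ha, hb]
  · rw [Subgroup.orderOf_coe, Subgroup.orderOf_coe, ha, hb]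
    exact (Nat.coprime_primes hp hq).2 hpq

/-- Let G and H be finite groups whose commuting graphs are isomorphic: there is a bijection e : G → H with x, y commuting exactly when e(x), e(y) commute. Then G and H have the same prime graph: for distinct primes p, q, G has an element of order pq if and only if H does (and #G = #H, so the prime divisors agree). -/
theorem result {G H : Type*} [Group G] [Finite G] [Group H] [Finite H] (e : G ≃ H)
    (he : ∀ x y : G, Commute x y ↔ Commute (e x) (e y))
    {p q : ℕ} (hp : p.Prime) (hq : q.Prime) (hpq : p ≠ q) :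
    (∃ g : G, orderOf g = p * q) ↔ (∃ h : H, orderOf h = p * q) := by
  refine ⟨exists_order_pq e he hp hq hpq, exists_order_pq e.symm (fun x y => ?_) hp hq hpq⟩
  rw [he]
  simp

end Cfsg.Agent.S4084
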