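import Cfsg.Statements.S4086

set_option autoImplicit false
open Cfsg

namespace Cfsg.Agent.S4086

/-- For a finite group G the following are equivalent: every non-identity element has prime-power order; whenever two elements generate a cyclic subgroup, one of them is a power of the other (the enhanced power graph of G coincides with its power graph). -/
theorem result {G : Type*} [Group G] [Finite G] :
    (∀ g : G, g ≠ 1 → IsPrimePow (orderOf g)) ↔
    (∀ x y : G, IsCyclic ↥(Subgroup.closure ({x, y} : Set G)) → (x ∈ Subgroup.zpowers y ∨ y ∈ Subgroup.zpowers x)) := by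
  constructor
  · intro h x y hcyc
    obtain ⟨⟨z, hz⟩, hzgen⟩ := hcyc.exists_generator
    have hxz : x ∈ Subgroup.zpowers z := by
      obtain ⟨i, hi⟩ := hzgen ⟨x, Subgroup.subset_closure (by simp)⟩
      exact ⟨i, congrArg Subtype.val hi⟩
    have hyz : y ∈ Subgroup.zpowers z := by
      obtain ⟨i, hi⟩ := hzgen ⟨y, Subgroup.subset_closure (by simp)⟩
      exact ⟨i, congrArg Subtype.val hi⟩
    have key : ∀ {a b : G}, a ∈ Subgroup.zpowers z → b ∈ Subgroup.zpowers z →
        orderOf a ∣ orderOf b → a ∈ Subgroup.zpowers b := by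
      intro a b ha hb hd
      set A := Subgroup.zpowers z
      obtain ⟨c, hc⟩ : ∃ c, orderOf b = orderOf a * c := hd
      have h1 : (Subgroup.zpowers b).subgroupOf A = (Subgroup.zpowers b).subgroupOf A := rfl
      have hb0 := orderOf_pos b
      set b' := b ^ c with hb'
      have hord : orderOf b' = orderOf a := by
        have hc0 : 0 < c := Nat.pos_of_ne_zero fun e => by rw [e, mul_zero] at hc; omega
        rw [hb', orderOf_pow' _ hc0.ne', hc, Nat.gcd_eq_right (Dvd.intro_left _ rfl),
          Nat.mul_div_cancel _ hc0]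
      haveI : IsCyclic A := inferInstance
      have h2 : (⟨a, ha⟩ : A) ∈ Subgroup.zpowers (⟨b', A.pow_mem hb c⟩ : A) := by
        classical
        cases nonempty_fintype A
        by_contra hnot
        have hle := IsCyclic.card_pow_eq_one_le (α := A) (n := orderOf a) (orderOf_pos a)
        have hsub : insert (⟨a, ha⟩ : A) ((Finset.univ.filter fun x : A =>
            x ∈ Subgroup.zpowers (⟨b', A.pow_mem hb c⟩ : A))) ⊆
            Finset.univ.filter fun x : A => x ^ orderOf a = 1 := by
          intro x hx
          rw [Finset.mem_filter]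
          refine ⟨Finset.mem_univ _, ?_⟩
          rcases Finset.mem_insert.1 hx with rfl | hx
          · exact Subtype.ext (by simpa using pow_orderOf_eq_one a)
          · obtain ⟨i, rfl⟩ := (Finset.mem_filter.1 hx).2
            refine Subtype.ext ?_
            show (b' ^ i) ^ orderOf a = 1
            rw [← hord, ← zpow_natCast, ← zpow_mul, mul_comm, zpow_mul, zpow_natCast,
              pow_orderOf_eq_one, one_zpow]
        have h4 := (Finset.card_le_card hsub).trans hle
        rw [Finset.card_insert_of_notMem (fun h5 => hnot (Finset.mem_filter.1 h5).2),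
          ← Fintype.card_subtype, ← Nat.card_eq_fintype_card] at h4
        rw [show Nat.card {x : A // x ∈ Subgroup.zpowers (⟨b', A.pow_mem hb c⟩ : A)} = orderOf a by
          rw [← hord, ← Subgroup.orderOf_mk b' (A.pow_mem hb c)]
          exact Nat.card_zpowers _] at h4
        omega
      obtain ⟨i, hi⟩ := h2
      have h3 : b' ^ i = a := congrArg Subtype.val hi
      exact h3 ▸ Subgroup.zpow_mem _ (Subgroup.pow_mem _ (Subgroup.mem_zpowers b) c) i
    rcases eq_or_ne z 1 with rfl | hne
    · left
      have : x = 1 := by simpa using hxz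
      exact this ▸ Subgroup.one_mem _
    obtain ⟨q, k, hq, -, hk⟩ := h z hne
    have hq' : q.Prime := Nat.prime_iff.mpr hq
    obtain ⟨i, -, hi⟩ := (Nat.dvd_prime_pow hq').1 (hk ▸ orderOf_dvd_of_mem_zpowers hxz)
    obtain ⟨j, -, hj⟩ := (Nat.dvd_prime_pow hq').1 (hk ▸ orderOf_dvd_of_mem_zpowers hyz)
    rcases le_total i j with hij | hij
    · exact Or.inl (key hxz hyz (hi ▸ hj ▸ pow_dvd_pow q hij))
    · exact Or.inr (key hyz hxz (hi ▸ hj ▸ pow_dvd_pow q hij))
  · intro h g hg
    by_contra hpp
    have hn1 : orderOf g ≠ 1 := by simpa [orderOf_eq_one_iff] using hg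
    obtain ⟨q, hq, hqd⟩ := Nat.exists_prime_and_dvd hn1
    obtain ⟨k, m, hm, hord⟩ := Nat.exists_eq_pow_mul_and_not_dvd (orderOf_pos g).ne' q hq.ne_one
    have hk : k ≠ 0 := fun e => hm (by
      rw [hord, e, pow_zero, one_mul] at hqd
      exact hqd)
    have hm1 : m ≠ 1 := fun e => hpp ⟨q, k, hq.prime, Nat.pos_of_ne_zero hk, by rw [hord, e, mul_one]⟩
    have hm0 : 0 < m := Nat.pos_of_ne_zero fun e => by simp [e] at hm
    have hq0 : 0 < q ^ k := pow_pos hq.pos k
    have hx : orderOf (g ^ m) = q ^ k := by
      rw [orderOf_pow' _ hm0.ne', hord, Nat.gcd_eq_right (Dvd.intro_left _ rfl), Nat.mul_div_cancel _ hm0]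
    have hy : orderOf (g ^ q ^ k) = m := by
      rw [orderOf_pow' _ hq0.ne', hord, Nat.gcd_eq_right (Dvd.intro _ rfl),
        Nat.mul_div_cancel_left _ hq0]
    have hle : Subgroup.closure ({g ^ m, g ^ q ^ k} : Set G) ≤ Subgroup.zpowers g := by
      rw [Subgroup.closure_le]
      rintro _ (rfl | rfl) <;> exact Subgroup.pow_mem _ (Subgroup.mem_zpowers g) _
    have hcyc : IsCyclic ↥(Subgroup.closure ({g ^ m, g ^ q ^ k} : Set G)) :=
      Subgroup.isCyclic_of_le hle
    rcases h _ _ hcyc with h1 | h1
    · have := orderOf_dvd_of_mem_zpowers h1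
      rw [hx, hy] at this
      exact hm ((dvd_pow_self q hk).trans this)
    · have := orderOf_dvd_of_mem_zpowers h1
      rw [hx, hy] at this
      obtain ⟨i, -, hi⟩ := (Nat.dvd_prime_pow hq).1 this
      rcases Nat.eq_zero_or_pos i with rfl | hi0
      · exact hm1 (by simpa using hi)
      · exact hm (hi ▸ dvd_pow_self q hi0.ne')

end Cfsg.Agent.S4086
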