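import Cfsg.Statements.S4088
import Cfsg.Agent.Subnormalizer.Count
import Cfsg.Agent.Layer.Subnormal
import Cfsg.Agent.Core.PCore
import Cfsg.Agent.FiniteChecks.Subnormal

set_option autoImplicit false
open Cfsg

namespace Cfsg.Agent.S4088

open Subgroup

variable {G : Type*} [Group G] [Finite G] {p : ℕ} [Fact p.Prime]

theorem subnormal_iff_sn {H : Subgroup G} (hH : IsPGroup p H) (g : G) :
    (H.subgroupOf (H ⊔ zpowers g)).IsSubnormal ↔ Subnormalizer.Sn p ⊤ H g := by
  constructor
  · intro h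
    refine ⟨mem_top g, (Cfsg.pCore p ↥(H ⊔ zpowers g)).map (H ⊔ zpowers g).subtype,
      Core.pCore_isPGroup.map _, ?_, le_top, ?_⟩
    · have h1 := Layer.subnormal_le_pCore h (hH.comap_of_injective _ (subtype_injective _))
      intro x hx
      exact ⟨⟨x, mem_sup_left hx⟩, h1 (mem_subgroupOf.mpr hx), rfl⟩
    · haveI : (Cfsg.pCore p ↥(H ⊔ zpowers g)).Normal := Core.pCore_normal
      refine le_normalizer_map _ ⟨⟨g, mem_sup_right (mem_zpowers g)⟩, ?_, rfl⟩
      rw [normalizer_eq_top]
      exact mem_top _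
  · rintro ⟨-, T, hT, hHT, -, hg⟩
    set L := H ⊔ zpowers g
    have hL : L ≤ normalizer (T : Set G) := sup_le (hHT.trans le_normalizer) (zpowers_le.mpr hg)
    haveI : ((T ⊓ L).subgroupOf L).Normal := by
      refine ⟨fun x hx y => mem_subgroupOf.mpr ⟨?_, (y * x * y⁻¹).2⟩⟩
      exact ((mem_normalizer_iff.mp (hL y.2)) x).mp (mem_subgroupOf.mp hx).1
    have hle : H.subgroupOf L ≤ (T ⊓ L).subgroupOf L := fun x hx =>
      mem_subgroupOf.mpr ⟨hHT (mem_subgroupOf.mp hx), x.2⟩
    have hp : IsPGroup p ((T ⊓ L).subgroupOf L) :=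
      (hT.to_le inf_le_left).comap_of_injective _ (subtype_injective _)
    haveI := hp.isNilpotent
    exact IsSubnormal.trans hle (FiniteChecks.isSubnormal_nilpotent _)
      (Subgroup.Normal.isSubnormal inferInstance)

theorem map_conj_comp (H : Subgroup G) (a b : G) :
    (H.map (MulAut.conj a).toMonoidHom).map (MulAut.conj b).toMonoidHom =
      H.map (MulAut.conj (b * a)).toMonoidHom := by
  rw [Subgroup.map_map]; congr 1; ext x; simp [mul_assoc]

theorem card_conj (H : Subgroup G) :
    Nat.card {K : Subgroup G // ∃ g : G, K = H.map (MulAut.conj g).toMonoidHom} *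
      Nat.card (normalizer (H : Set G)) = Nat.card G := by
  let f : G ⧸ normalizer (H : Set G) → {K : Subgroup G // ∃ g : G, K = H.map (MulAut.conj g).toMonoidHom} :=
    fun q => Quotient.liftOn' q (fun g => ⟨_, g, rfl⟩) fun a b h => Subtype.ext (by
      rw [QuotientGroup.leftRel_apply, mem_normalizer_iff_map_conj_eq] at h
      show H.map (MulAut.conj a).toMonoidHom = H.map (MulAut.conj b).toMonoidHom
      conv_lhs => rw [← h]
      exact (map_conj_comp H _ a).trans (by rw [mul_inv_cancel_left]))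
  have hf : Function.Bijective f := by
    constructor
    · intro a b h
      obtain ⟨a, rfl⟩ := QuotientGroup.mk_surjective a
      obtain ⟨b, rfl⟩ := QuotientGroup.mk_surjective b
      have h' : H.map (MulAut.conj a).toMonoidHom = H.map (MulAut.conj b).toMonoidHom :=
        congrArg Subtype.val h
      rw [QuotientGroup.eq, mem_normalizer_iff_map_conj_eq]
      refine ((map_conj_comp H b a⁻¹).symm.trans ?_)
      rw [← h', map_conj_comp, inv_mul_cancel, map_one]
      exact map_id H
    · rintro ⟨K, g, rfl⟩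
      exact ⟨(g : G ⧸ normalizer (H : Set G)), rfl⟩
  rw [← Nat.card_congr (Equiv.ofBijective f hf),
    ← card_eq_card_quotient_mul_card_subgroup]

theorem isMax_top_iff (Q : Subgroup G) :
    Subnormalizer.IsMax p ⊤ Q ↔ ∃ S : Sylow p G, (S : Subgroup G) = Q := by
  constructor
  · intro h
    exact ⟨⟨Q, h.1.1, fun {T} hT hle => le_antisymm (h.2 ⟨hT, le_top⟩ hle) hle⟩, rfl⟩
  · rintro ⟨S, rfl⟩
    exact ⟨⟨S.2, le_top⟩, fun T hT hle => (S.3 hT.1 hle).le⟩

theorem card_isMax_top (P : Subgroup G → Prop) :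
    Nat.card {Q // Subnormalizer.IsMax p ⊤ Q ∧ P Q} = Nat.card {S : Sylow p G // P S} :=
  (Nat.card_congr (Equiv.ofBijective
    (fun S : {S : Sylow p G // P S} =>
      (⟨S.1, (isMax_top_iff _).mpr ⟨S.1, rfl⟩, S.2⟩ : {Q // Subnormalizer.IsMax p ⊤ Q ∧ P Q}))
    ⟨fun _ _ h => Subtype.ext (Sylow.ext (congrArg Subtype.val h)), fun ⟨Q, hQ, hP⟩ => by
      obtain ⟨S, rfl⟩ := (isMax_top_iff Q).mp hQ
      exact ⟨⟨S, hP⟩, rfl⟩⟩)).symm

theorem incidence (H : Subgroup G) (P : Sylow p G) :
    Nat.card {K : Subgroup G // ∃ g : G, K = H.map (MulAut.conj g).toMonoidHom} *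
        Nat.card {Q : Sylow p G // H ≤ (Q : Subgroup G)} =
      Nat.card (Sylow p G) * Nat.card {K : Subgroup G // K ≤ (P : Subgroup G) ∧
        ∃ g : G, K = H.map (MulAut.conj g).toMonoidHom} := by
  let C : Subgroup G → Prop := fun K => ∃ g : G, K = H.map (MulAut.conj g).toMonoidHom
  have h1 : ∀ K : {K // C K}, Nonempty ({Q : Sylow p G // K.1 ≤ (Q : Subgroup G)} ≃
      {Q : Sylow p G // H ≤ (Q : Subgroup G)}) := by
    rintro ⟨K, g, rfl⟩
    refine ⟨((MulAction.toPerm g : Equiv.Perm (Sylow p G)).subtypeEquiv fun Q => ?_).symm⟩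
    show H ≤ (Q : Subgroup G) ↔ _ ≤ ((g • Q : Sylow p G) : Subgroup G)
    rw [Sylow.coe_subgroup_smul]
    exact (Subgroup.map_le_map_iff_of_injective (MulAut.conj g).injective).symm
  have h2 : ∀ Q : Sylow p G, Nonempty ({K : {K // C K} // K.1 ≤ (Q : Subgroup G)} ≃
      {K : Subgroup G // K ≤ (P : Subgroup G) ∧ C K}) := by
    intro Q
    obtain ⟨g, hg⟩ := MulAction.exists_smul_eq G P Q
    refine ⟨(Equiv.subtypeSubtypeEquivSubtypeInter C (fun K => K ≤ (Q : Subgroup G))).trans
      (Equiv.ofBijective (fun K => (⟨K.1.map (MulAut.conj g⁻¹).toMonoidHom, ?_, ?_⟩ :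
        {K : Subgroup G // K ≤ (P : Subgroup G) ∧ C K})) ⟨?_, ?_⟩)⟩
    · refine (map_mono K.2.2).trans ?_
      rw [← hg, Sylow.coe_subgroup_smul]
      show ((P : Subgroup G).map (MulAut.conj g).toMonoidHom).map _ ≤ _
      rw [map_conj_comp, inv_mul_cancel, map_one]
      exact (map_id _).le
    · obtain ⟨a, ha⟩ := K.2.1
      exact ⟨g⁻¹ * a, by rw [ha, map_conj_comp]⟩
    · intro K K' h
      exact Subtype.ext (map_injective (MulAut.conj g⁻¹).injective (congrArg Subtype.val h))
    · rintro ⟨K, hK, a, ha⟩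
      refine ⟨⟨K.map (MulAut.conj g).toMonoidHom, ⟨g * a, by rw [ha, map_conj_comp]⟩, ?_⟩,
        Subtype.ext ?_⟩
      · rw [← hg, Sylow.coe_subgroup_smul]
        exact map_mono hK
      · show (K.map _).map _ = K
        rw [map_conj_comp, inv_mul_cancel, map_one]
        exact map_id K
  let e1 : {K // C K} × {Q : Sylow p G // H ≤ (Q : Subgroup G)} ≃
      Σ K : {K // C K}, {Q : Sylow p G // K.1 ≤ (Q : Subgroup G)} :=
    (Equiv.sigmaEquivProd _ _).symm.trans (Equiv.sigmaCongrRight fun K => (h1 K).some.symm)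
  let e2 : Sylow p G × {K : Subgroup G // K ≤ (P : Subgroup G) ∧ C K} ≃
      Σ Q : Sylow p G, {K : {K // C K} // K.1 ≤ (Q : Subgroup G)} :=
    (Equiv.sigmaEquivProd _ _).symm.trans (Equiv.sigmaCongrRight fun Q => (h2 Q).some.symm)
  let e3 : (Σ K : {K // C K}, {Q : Sylow p G // K.1 ≤ (Q : Subgroup G)}) ≃
      Σ Q : Sylow p G, {K : {K // C K} // K.1 ≤ (Q : Subgroup G)} :=
    ⟨fun x => ⟨x.2.1, x.1, x.2.2⟩, fun x => ⟨x.2.1, x.1, x.2.2⟩, fun _ => rfl, fun _ => rfl⟩
  rw [← Nat.card_prod, ← Nat.card_prod]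
  exact Nat.card_congr (e1.trans (e3.trans e2.symm))

/-- Let G be a finite group, p a prime dividing the order of G, H a p-subgroup of G and P a Sylow p-subgroup of G. Call the subnormalizer of H the set of elements g of G such that H is subnormal in the subgroup generated by H and g. Then the number of elements of the subnormalizer of H equals the number of Sylow p-subgroups of G containing H times the order of N_G(P), and also equals the number of conjugates of H contained in P times the order of N_G(H). -/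
theorem result {G : Type*} [Group G] [Finite G] (p : ℕ) [Fact p.Prime]
    (hp : p ∣ Nat.card G) (H : Subgroup G) (hH : IsPGroup p H) (P : Sylow p G) :
    Nat.card {g : G // ((H).subgroupOf (H ⊔ Subgroup.zpowers g)).IsSubnormal} =
        Nat.card {Q : Sylow p G // H ≤ (Q : Subgroup G)} * Nat.card (Subgroup.normalizer ((P : Subgroup G) : Set G)) ∧
    Nat.card {g : G // ((H).subgroupOf (H ⊔ Subgroup.zpowers g)).IsSubnormal} =
        Nat.card {K : Subgroup G // K ≤ (P : Subgroup G) ∧ ∃ g : G, K = H.map (MulAut.conj g).toMonoidHom} *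
          Nat.card (Subgroup.normalizer (H : Set G)) := by
  let n := Nat.card (Sylow p G)
  have hS : Nat.card {g : G // ((H).subgroupOf (H ⊔ Subgroup.zpowers g)).IsSubnormal} =
      Nat.card {g : G // Subnormalizer.Sn p ⊤ H g} :=
    Nat.card_congr (Equiv.subtypeEquivRight (subnormal_iff_sn hH))
  have hn : Nat.card {Q // Subnormalizer.IsMax p (⊤ : Subgroup G) Q} = n := by
    have h := card_isMax_top (p := p) (fun _ : Subgroup G => True)
    exact (Nat.card_congr (Equiv.subtypeEquivRight fun Q => (and_iff_left trivial).symm)).trans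
      (h.trans (Nat.card_congr (Equiv.subtypeUnivEquiv fun _ => trivial)))
  have hcount := Subnormalizer.count p ⊤ H hH le_top
  rw [← hS, hn, card_top, card_isMax_top (p := p) (fun Q => H ≤ Q)] at hcount
  have hN : n * Nat.card (normalizer ((P : Subgroup G) : Set G)) = Nat.card G := by
    show Nat.card (Sylow p G) * _ = _
    rw [P.card_eq_index_normalizer, mul_comm]
    exact card_mul_index _
  have hn0 : 0 < n := Nat.card_pos
  have e1 : Nat.card {g : G // ((H).subgroupOf (H ⊔ Subgroup.zpowers g)).IsSubnormal} =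
      Nat.card {Q : Sylow p G // H ≤ (Q : Subgroup G)} *
        Nat.card (normalizer ((P : Subgroup G) : Set G)) := by
    refine Nat.eq_of_mul_eq_mul_right hn0 ?_
    rw [hcount, ← hN]
    ring
  refine ⟨e1, Nat.eq_of_mul_eq_mul_left hn0 ?_⟩
  rw [← mul_assoc, ← incidence H P, e1, ← mul_assoc, mul_comm n, mul_assoc, hN,
    ← card_conj H]
  ring

end Cfsg.Agent.S4088
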