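import Cfsg.Statements.S4089
import Cfsg.Agent.LocalStructure.CharP
import Cfsg.Agent.S3937
import Cfsg.Agent.Core.PCore
import Cfsg.Agent.Coprime.Tools
-- import your own Cfsg.Agent.* helpers here

set_option autoImplicit false
open Cfsg
open Cfsg.Agent
open scoped commutatorElement Pointwise

namespace Cfsg.Agent.S4089
open Cfsg.Agent in
theorem le_pCore_of_forall {G : Type*} [Group G] [Finite G] {p : ℕ} [Fact p.Prime] {X : Subgroup G}
    (h : ∀ S : Sylow p G, X ≤ (S : Subgroup G)) : X ≤ Cfsg.pCore p G := by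
  let K : Subgroup G := ⨅ S : Sylow p G, (S : Subgroup G)
  have hKn : K.Normal := ⟨fun x hx g => by
    rw [Subgroup.mem_iInf] at hx ⊢
    intro S
    have h1 : x ∈ MulAut.conj g⁻¹ • (S : Subgroup G) := hx (g⁻¹ • S)
    rw [Coprime.mem_conj_smul, inv_inv] at h1
    exact h1⟩
  obtain ⟨S⟩ := (inferInstance : Nonempty (Sylow p G))
  exact (le_iInf h).trans (Core.le_pCore (N := K) (hN := hKn) (S.2.to_le (iInf_le _ S)))

open Cfsg.Agent in
theorem sn_iff_exists {G : Type*} [Group G] [Finite G] {p : ℕ} [Fact p.Prime] {H : Subgroup G} (hH : IsPGroup p H) (g : G) :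
    ((H).subgroupOf (H ⊔ Subgroup.zpowers g)).IsSubnormal ↔
      ∃ R : Subgroup G, H ≤ R ∧ Cfsg.pCoreOf p (Subgroup.normalizer (R : Set G)) = R ∧ g ∈ Subgroup.normalizer (R : Set G) := by
  set J := H ⊔ Subgroup.zpowers g
  constructor
  · intro hsn
    have h1 : H ≤ Cfsg.pCoreOf p J := LocalStructure.le_pCoreOf le_sup_left hsn hH
    suffices key : ∀ n, ∀ R : Subgroup G, Nat.card G - Nat.card R = n → IsPGroup p R → H ≤ R → g ∈ Subgroup.normalizer (R : Set G) →
        ∃ R : Subgroup G, H ≤ R ∧ Cfsg.pCoreOf p (Subgroup.normalizer (R : Set G)) = R ∧ g ∈ Subgroup.normalizer (R : Set G) from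
      key _ _ rfl (LocalStructure.pCoreOf_isPGroup J) h1
        (LocalStructure.le_normalizer_pCoreOf J (Subgroup.mem_sup_right (Subgroup.mem_zpowers g)))
    intro n
    induction n using Nat.strong_induction_on with
    | _ n IH =>
    intro R hn hR hHR hg
    set R' := Cfsg.pCoreOf p (Subgroup.normalizer (R : Set G))
    have hle : R ≤ R' := LocalStructure.le_pCoreOf_of_normal Subgroup.le_normalizer le_rfl hR
    rcases eq_or_ne R' R with he | hne
    · exact ⟨R, hHR, he, hg⟩
    have hlt : Nat.card R < Nat.card R' := lt_of_le_of_ne (Subgroup.card_le_of_le hle)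
      fun e => hne (Subgroup.eq_of_le_of_card_ge hle e.ge).symm
    have hG : Nat.card R' ≤ Nat.card G := Subgroup.card_le_card_group R'
    exact IH _ (by omega) R' rfl (LocalStructure.pCoreOf_isPGroup _) (hHR.trans hle)
      (LocalStructure.le_normalizer_pCoreOf _ hg)
  · rintro ⟨R, hHR, hR, hg⟩
    have hJ : J ≤ Subgroup.normalizer (R : Set G) :=
      sup_le (hHR.trans Subgroup.le_normalizer) (Subgroup.zpowers_le.mpr hg)
    have hRn : ((R ⊓ J).subgroupOf J).Normal := by
      rw [Subgroup.inf_subgroupOf_right]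
      exact Subgroup.normal_subgroupOf_of_le_normalizer hJ
    have hRp : IsPGroup p (R ⊓ J : Subgroup G) := (hR ▸ LocalStructure.pCoreOf_isPGroup _ : IsPGroup p R).to_le inf_le_left
    have hRp' : IsPGroup p ((R ⊓ J).subgroupOf J : Subgroup J) := hRp.comap_of_injective J.subtype J.subtype_injective
    have := hRp'.isNilpotent
    exact Subgroup.IsSubnormal.trans (show H.subgroupOf J ≤ (R ⊓ J).subgroupOf J from Subgroup.comap_mono (le_inf hHR le_sup_left))
      (S3937.isSubnormal_of_nilpotent _) hRn.isSubnormal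



/-- Let G be a finite group, p a prime and H a p-subgroup of G. Then the set of elements g of G such that H is subnormal in the subgroup generated by H and g is the union of the normalizers N_G(R) over the subgroups R of G containing H with R = O_p(N_G(R)); and this set does not change when H is replaced by the intersection of all Sylow p-subgroups of G containing H. -/
theorem result {G : Type*} [Group G] [Finite G] (p : ℕ) [Fact p.Prime]
    (H : Subgroup G) (hH : IsPGroup p H) :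
    {g : G | ((H).subgroupOf (H ⊔ Subgroup.zpowers g)).IsSubnormal} =
      {g : G | ∃ R : Subgroup G, H ≤ R ∧ (Cfsg.pCore p (Subgroup.normalizer (R : Set G))).map (Subgroup.normalizer (R : Set G)).subtype = R ∧ g ∈ Subgroup.normalizer (R : Set G)} ∧
    ∀ g : G, (((H).subgroupOf (H ⊔ Subgroup.zpowers g)).IsSubnormal ↔
      (((sInf {K : Subgroup G | ∃ Q : Sylow p G, H ≤ (Q : Subgroup G) ∧ K = (Q : Subgroup G)})).subgroupOf ((sInf {K : Subgroup G | ∃ Q : Sylow p G, H ≤ (Q : Subgroup G) ∧ K = (Q : Subgroup G)}) ⊔ Subgroup.zpowers g)).IsSubnormal) := by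
  have hset := sn_iff_exists (G := G) hH
  refine ⟨Set.ext fun g => hset g, fun g => ?_⟩
  set D := sInf {K : Subgroup G | ∃ Q : Sylow p G, H ≤ (Q : Subgroup G) ∧ K = (Q : Subgroup G)} with hD
  have hHD : H ≤ D := le_sInf fun K ⟨Q, hQ, hK⟩ => hK ▸ hQ
  have hDQ : ∀ Q : Sylow p G, H ≤ (Q : Subgroup G) → D ≤ (Q : Subgroup G) := fun Q hQ => sInf_le ⟨Q, hQ, rfl⟩
  obtain ⟨Q₀, hQ₀⟩ := hH.exists_le_sylow
  rw [hset g, sn_iff_exists (Q₀.2.to_le (hDQ Q₀ hQ₀)) g]
  refine exists_congr fun R => ⟨fun h => ⟨?_, h.2⟩, fun h => ⟨hHD.trans h.1, h.2⟩⟩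
  -- a radical subgroup containing `H` contains `D`
  obtain ⟨hHR, hR, -⟩ := h
  have hRp : IsPGroup p R := hR ▸ LocalStructure.pCoreOf_isPGroup _
  set X := R ⊔ D with hX
  have hXQ : ∀ Q : Sylow p G, R ≤ (Q : Subgroup G) → X ≤ (Q : Subgroup G) := fun Q hQ => sup_le hQ (hDQ Q (hHR.trans hQ))
  obtain ⟨Q₁, hQ₁⟩ := hRp.exists_le_sylow
  by_contra hnot
  have hlt : R < X := lt_of_le_of_ne le_sup_left fun e => hnot (e ▸ le_sup_right)
  have := (Q₁.2.to_le (hXQ Q₁ hQ₁)).isNilpotent
  obtain ⟨x, hxX, hxN, hxR⟩ : ∃ x ∈ X, x ∈ Subgroup.normalizer (R : Set G) ∧ x ∉ R := by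
    have h1 : R.subgroupOf X < ⊤ := lt_top_iff_ne_top.mpr fun e => hlt.not_ge (Subgroup.subgroupOf_eq_top.mp e)
    obtain ⟨x, hx, hxR⟩ := SetLike.exists_of_lt (Group.normalizerCondition_of_isNilpotent (G := X) _ h1)
    refine ⟨x, x.2, ?_, fun h => hxR h⟩
    rw [Subgroup.mem_normalizer_iff] at hx ⊢
    intro y
    constructor
    · intro hy; exact (hx ⟨y, hlt.le hy⟩).mp hy
    · intro hy
      have hyX : y ∈ X := by simpa [mul_assoc] using X.mul_mem (X.mul_mem (X.inv_mem x.2) (hlt.le hy)) x.2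
      exact (hx ⟨y, hyX⟩).mpr hy
  apply hxR
  rw [← hR]
  set N := Subgroup.normalizer (R : Set G)
  refine ⟨⟨x, hxN⟩, ?_, rfl⟩
  have hle : (X ⊓ N).subgroupOf N ≤ Cfsg.pCore p N := by
    rw [Subgroup.inf_subgroupOf_right]
    refine le_pCore_of_forall fun S => ?_
    obtain ⟨T, hT⟩ := (S.2.map N.subtype).exists_le_sylow
    have hRS : R ≤ (S : Subgroup N).map N.subtype := fun r hr => ⟨⟨r, Subgroup.le_normalizer hr⟩,
      (Core.pCore_le_sylow S) (Core.le_pCore (N := R.subgroupOf N) (hN := Subgroup.normal_in_normalizer)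
        (hRp.comap_of_injective N.subtype N.subtype_injective) hr), rfl⟩
    intro y hy
    have hyT : (y : G) ∈ (T : Subgroup G) := hXQ T (hRS.trans hT) hy
    have hmax : ((T : Subgroup G).subgroupOf N) = (S : Subgroup N) :=
      S.3 (T.2.comap_of_injective N.subtype N.subtype_injective) (fun z hz => hT ⟨z, hz, rfl⟩)
    rw [← hmax]
    exact hyT
  exact hle ⟨hxX, hxN⟩

end Cfsg.Agent.S4089
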