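import Cfsg.Statements.S4092

set_option autoImplicit false
open Cfsg

namespace Cfsg.Agent.S4092

open scoped Pointwise


/-- Let G be a finite group, p a prime and P a Sylow p-subgroup of G that is not normal in G. Then G has at least p·#P elements of p-power order (the identity included). -/
theorem result {G : Type*} [Group G] [Finite G] (p : ℕ) [Fact p.Prime]
    (P : Sylow p G) (hP : ¬ (P : Subgroup G).Normal) :
    p * Nat.card (P : Subgroup G) ≤ Nat.card {g : G // ∃ k : ℕ, orderOf g = p ^ k} := by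
  classical
  obtain ⟨Q, hQ⟩ : ∃ Q : Sylow p G, Q ≠ P := by
    by_contra h
    push Not at h
    haveI : Subsingleton (Sylow p G) := ⟨fun a b => (h a).trans (h b).symm⟩
    exact hP (Sylow.normal_of_subsingleton _)
  obtain ⟨⟨P₁, Q₁⟩, hne₁, hmax⟩ := Set.exists_max_image {x : Sylow p G × Sylow p G | x.1 ≠ x.2}
    (fun x => Nat.card ↥((x.1 : Subgroup G) ⊓ x.2)) (Set.toFinite _) ⟨(Q, P), hQ⟩
  simp only [Set.mem_setOf_eq] at hne₁ hmax
  set D : Subgroup G := (P₁ : Subgroup G) ⊓ Q₁ with hD
  have hlt : ∀ R : Sylow p G, ∀ R' : Sylow p G, D ≤ R → D ≤ R' → R ≠ R' → (R : Subgroup G) ⊓ R' = D := by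
    intro R R' h1 h2 hne
    exact (Subgroup.eq_of_le_of_card_ge (le_inf h1 h2) (hmax (R, R') hne)).symm
  set N := Subgroup.normalizer (D : Set G) with hN
  haveI : Fact p.Prime := inferInstance
  -- normalizers grow inside a Sylow
  have hgrow : ∀ R : Sylow p G, D < (R : Subgroup G) → D < (R : Subgroup G) ⊓ N := by
    intro R hR
    refine lt_of_le_of_ne (le_inf hR.le Subgroup.le_normalizer) fun h => ?_
    haveI := R.isPGroup'.isNilpotent
    have hnc := Group.normalizerCondition_of_isNilpotent (G := ↥(R : Subgroup G)) (D.subgroupOf R)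
      (lt_top_iff_ne_top.mpr fun htop => hR.ne (le_antisymm hR.le (Subgroup.subgroupOf_eq_top.mp htop)))
    obtain ⟨x, hx, hxn⟩ := SetLike.exists_of_lt hnc
    refine hxn ?_
    rw [Subgroup.mem_subgroupOf, h]
    refine ⟨x.2, ?_⟩
    show (x : G) ∈ N
    rw [hN, Subgroup.mem_normalizer_iff]
    intro g
    rw [Subgroup.mem_normalizer_iff] at hx
    constructor
    · intro hg
      exact (hx ⟨g, hR.le hg⟩).mp hg
    · intro hg
      have hgR : g ∈ (R : Subgroup G) := by
        have h1 := (R : Subgroup G).mul_mem ((R : Subgroup G).mul_mem ((R : Subgroup G).inv_mem x.2) (hR.le hg)) x.2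
        simpa [mul_assoc] using h1
      exact (hx ⟨g, hgR⟩).mpr hg
  have hltS : ∀ R : Sylow p G, D ≤ R → D < (R : Subgroup G) := by
    intro R hR
    refine lt_of_le_of_ne hR fun h => hne₁ ?_
    have hc : ∀ S : Sylow p G, Nat.card ↥(S : Subgroup G) = Nat.card ↥(R : Subgroup G) := by
      intro S; rw [S.card_eq_multiplicity, R.card_eq_multiplicity]
    have h1 := Subgroup.eq_of_le_of_card_ge (inf_le_left : D ≤ P₁) (by rw [hc P₁, ← h])
    have h2 := Subgroup.eq_of_le_of_card_ge (inf_le_right : D ≤ Q₁) (by rw [hc Q₁, ← h])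
    exact Sylow.ext (h1.symm.trans h2)
  -- extend Sylows of N
  choose ext hext using fun S : Sylow p N =>
    (S.isPGroup'.map N.subtype).exists_le_sylow
  have hDS : ∀ S : Sylow p N, D ≤ (S : Subgroup N).map N.subtype := by
    intro S
    haveI : (D.subgroupOf N).Normal := Subgroup.normal_in_normalizer
    have hp' : IsPGroup p ↥(D.subgroupOf N) :=
      (P₁.isPGroup'.to_le inf_le_left).of_equiv (Subgroup.subgroupOfEquivOfLe Subgroup.le_normalizer).symm
    have := hp'.le_sylow_of_normal S
    intro d hd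
    exact ⟨⟨d, Subgroup.le_normalizer hd⟩, this hd, rfl⟩
  have hextD : ∀ S, D ≤ (ext S : Subgroup G) := fun S => (hDS S).trans (hext S)
  have hinj : Function.Injective ext := by
    intro S S' h
    apply Sylow.ext
    have key : ∀ S : Sylow p N, (S : Subgroup N) = (ext S : Subgroup G).subgroupOf N := fun S =>
      (S.3 ((ext S).isPGroup'.comap_of_injective N.subtype N.subtype_injective)
        (fun x hx => hext S ⟨x, hx, rfl⟩)).symm
    rw [key S, key S', h]
  have hin : ∀ R : Sylow p G, D < (R : Subgroup G) → ∃ S : Sylow p N, ext S = R := by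
    intro R hR
    obtain ⟨S, hS⟩ := (IsPGroup.to_le R.isPGroup' (inf_le_left : (R : Subgroup G) ⊓ N ≤ R)).of_equiv
      (Subgroup.subgroupOfEquivOfLe (inf_le_right : (R : Subgroup G) ⊓ N ≤ N)).symm |>.exists_le_sylow
    refine ⟨S, ?_⟩
    by_contra hne
    have h1 : (R : Subgroup G) ⊓ N ≤ (ext S : Subgroup G) ⊓ R :=
      le_inf (fun x hx => hext S ⟨⟨x, hx.2⟩, hS hx, rfl⟩) inf_le_left
    rw [hlt _ _ (hextD S) hR.le hne] at h1
    exact (hgrow R hR).not_ge h1
  haveI : Fintype (Sylow p N) := Fintype.ofFinite _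
  haveI : Fintype G := Fintype.ofFinite _
  have hcardN : p + 1 ≤ Fintype.card (Sylow p N) := by
    obtain ⟨S, hS⟩ := hin P₁ (hltS _ inf_le_left)
    obtain ⟨S', hS'⟩ := hin Q₁ (hltS _ inf_le_right)
    have h2 : 1 < Fintype.card (Sylow p N) := Fintype.one_lt_card_iff.mpr ⟨S, S', fun h => hne₁ (by
      rw [← hS, ← hS', h])⟩
    have h1 := card_sylow_modEq_one p N
    rw [Nat.card_eq_fintype_card] at h1
    have h3 : p ∣ Fintype.card (Sylow p N) - 1 := (Nat.modEq_iff_dvd' h2.le).mp h1.symm
    have := Nat.le_of_dvd (by omega) h3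
    omega
  let A : Sylow p N → Finset G := fun S => Finset.univ.filter fun g => g ∈ (ext S : Subgroup G) ∧ g ∉ D
  let B : Finset G := Finset.univ.filter fun g => g ∈ D
  have hdis : ((Finset.univ : Finset (Sylow p N)) : Set (Sylow p N)).PairwiseDisjoint A := by
    intro S _ S' _ hne
    rw [Function.onFun, Finset.disjoint_left]
    intro g h1 h2
    simp only [A, Finset.mem_filter] at h1 h2
    have : g ∈ (ext S : Subgroup G) ⊓ ext S' := ⟨h1.2.1, h2.2.1⟩
    rw [hlt _ _ (hextD S) (hextD S') (fun h => hne (hinj h))] at this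
    exact h1.2.2 this
  have hB : B.card = Nat.card ↥D := by
    rw [Nat.card_eq_fintype_card, Fintype.card_subtype]
  have hA : ∀ S, (A S).card + Nat.card ↥D = Nat.card ↥(P : Subgroup G) := by
    intro S
    have hc : Nat.card ↥(ext S : Subgroup G) = Nat.card ↥(P : Subgroup G) := by
      rw [(ext S).card_eq_multiplicity, P.card_eq_multiplicity]
    rw [← hc, Nat.card_eq_fintype_card, Nat.card_eq_fintype_card, Fintype.card_subtype, Fintype.card_subtype,
      ← Finset.card_union_of_disjoint (by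
        rw [Finset.disjoint_left]; intro g h1 h2; simp only [A, Finset.mem_filter] at h1 h2; exact h1.2.2 h2.2)]
    congr 1
    ext g
    simp only [A, Finset.mem_union, Finset.mem_filter, Finset.mem_univ, true_and]
    constructor
    · rintro (h | h)
      · exact h.1
      · exact hextD S h
    · intro h; by_cases hg : g ∈ D
      · exact Or.inr hg
      · exact Or.inl ⟨h, hg⟩
  have hsub : B ∪ Finset.univ.biUnion A ⊆ Finset.univ.filter (fun g : G => ∃ k : ℕ, orderOf g = p ^ k) := by
    intro g hg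
    simp only [A, B, Finset.mem_union, Finset.mem_biUnion, Finset.mem_filter, Finset.mem_univ, true_and] at hg ⊢
    obtain ⟨R, hR⟩ : ∃ R : Sylow p G, g ∈ (R : Subgroup G) := by
      rcases hg with h | ⟨S, h, -⟩
      · exact ⟨P₁, h.1⟩
      · exact ⟨ext S, h⟩
    obtain ⟨k, hk⟩ := R.isPGroup'.exists_orderOf_eq_pow ⟨g, hR⟩ 
    exact ⟨k, by rw [← hk]; simp⟩
  have htot := Finset.card_le_card hsub
  rw [Finset.card_union_of_disjoint (by
      rw [Finset.disjoint_left]; intro g h1 h2
      simp only [A, B, Finset.mem_biUnion, Finset.mem_filter] at h1 h2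
      obtain ⟨S, -, h⟩ := h2; exact h.2.2 h1.2),
    Finset.card_biUnion hdis, hB] at htot
  rw [← Fintype.card_subtype] at htot
  rw [Nat.card_eq_fintype_card (α := {g : G // ∃ k : ℕ, orderOf g = p ^ k})]
  refine le_trans ?_ htot
  have hpD : p * Nat.card ↥D ≤ Nat.card ↥(P : Subgroup G) := by
    have hDp : IsPGroup p ↥D := P₁.isPGroup'.to_le inf_le_left
    obtain ⟨a, ha⟩ := IsPGroup.iff_card.mp hDp
    obtain ⟨b, hb⟩ := IsPGroup.iff_card.mp P.isPGroup'
    have h1 : Nat.card ↥D < Nat.card ↥(P₁ : Subgroup G) :=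
      lt_of_le_of_ne (Subgroup.card_le_of_le inf_le_left)
        fun h => (hltS P₁ inf_le_left).ne (Subgroup.eq_of_le_of_card_ge inf_le_left h.ge)
    rw [P₁.card_eq_multiplicity, ← P.card_eq_multiplicity, ha, hb] at h1
    have := (Nat.pow_lt_pow_iff_right (Fact.out : p.Prime).one_lt).mp h1
    rw [ha, hb, ← pow_succ']
    exact Nat.pow_le_pow_right (Fact.out : p.Prime).pos this
  set d := Nat.card ↥D
  set q := Nat.card ↥(P : Subgroup G)
  have hsum : ∑ S : Sylow p N, (A S).card = Fintype.card (Sylow p N) * (q - d) := by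
    rw [Finset.sum_congr rfl (fun S _ => (show (A S).card = q - d by have := hA S; omega)), Finset.sum_const,
      Finset.card_univ, smul_eq_mul]
  rw [hsum]
  obtain ⟨e, he⟩ : ∃ e, q = d + e := ⟨q - d, by have := hA (hin P₁ (hltS _ inf_le_left)).choose; omega⟩
  rw [he, Nat.add_sub_cancel_left]
  have h5 := Nat.mul_le_mul_right e hcardN
  rw [he] at hpD
  nlinarith

end Cfsg.Agent.S4092
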