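import Cfsg.Statements.S4093
import Mathlib

set_option autoImplicit false
open scoped BigOperators
open Cfsg
open scoped Pointwise

namespace Cfsg.Agent.S4093

/-- Let G be a finite group with a normal subgroup N complementing a Sylow p-subgroup P (a normal p-complement). Then the number of elements of G of p-power order equals the sum over x ∈ P of the index of C_N(x) in N. -/
theorem result {G : Type*} [Group G] [Finite G] (p : ℕ) [Fact p.Prime]
    (P : Sylow p G) (N : Subgroup G) [N.Normal] (hNP : N.IsComplement' (P : Subgroup G)) :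
    Nat.card {g : G // ∃ k : ℕ, orderOf g = p ^ k} =
      ∑ᶠ x : (P : Subgroup G), Nat.card N / Nat.card ↥(N ⊓ Subgroup.centralizer ({(x : G)} : Set G)) := by
  have hp : p.Prime := Fact.out
  classical
  haveI : Fintype (P : Subgroup G) := Fintype.ofFinite _
  have hsup : N ⊔ (P : Subgroup G) = ⊤ := hNP.sup_eq_top
  have hdisj : ∀ a : G, a ∈ N → a ∈ (P : Subgroup G) → a = 1 := fun a ha hb =>
    Subgroup.mem_bot.1 (hNP.disjoint.eq_bot ▸ Subgroup.mem_inf.2 ⟨ha, hb⟩)
  let K : ↥(P : Subgroup G) → Subgroup N := fun x =>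
    (N ⊓ Subgroup.centralizer ({(x : G)} : Set G)).subgroupOf N
  let f : (Σ x : (P : Subgroup G), N ⧸ K x) → {g : G // ∃ k : ℕ, orderOf g = p ^ k} := fun s =>
    Quotient.lift (fun n : N => (⟨(n : G) * (s.1 : G) * (n : G)⁻¹, by
      obtain ⟨k, hk⟩ := IsPGroup.iff_orderOf.1 P.2 s.1
      exact ⟨k, by rw [← MulAut.conj_apply, MulEquiv.orderOf_eq, Subgroup.orderOf_coe, hk]⟩⟩ :
        {g : G // ∃ k : ℕ, orderOf g = p ^ k}))
      (fun a b hab => by
        have hab' : (a : G)⁻¹ * b ∈ N ⊓ Subgroup.centralizer ({(s.1 : G)} : Set G) :=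
          Subgroup.mem_subgroupOf.1 (QuotientGroup.leftRel_apply.1 hab)
        have hc := Subgroup.mem_centralizer_singleton_iff.1 hab'.2
        refine Subtype.ext ?_
        calc (a : G) * (s.1 : G) * (a : G)⁻¹ = a * ((s.1 : G) * ((a : G)⁻¹ * b)) * (b : G)⁻¹ := by group
          _ = (b : G) * (s.1 : G) * (b : G)⁻¹ := by rw [← hc]; group) s.2
  have hf : Function.Bijective f := by
    constructor
    · rintro ⟨x, q⟩ ⟨x', q'⟩
      induction q using Quotient.inductionOn with
      | _ n =>
        induction q' using Quotient.inductionOn with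
        | _ n' =>
          intro h
          have h' : (n : G) * x * (n : G)⁻¹ = n' * x' * (n' : G)⁻¹ := congrArg Subtype.val h
          set m : G := (n' : G)⁻¹ * n with hm
          have hmN : m ∈ N := N.mul_mem (N.inv_mem n'.2) n.2
          have hx' : m * x * m⁻¹ = (x' : G) := by
            calc m * x * m⁻¹ = (n' : G)⁻¹ * ((n : G) * x * (n : G)⁻¹) * n' := by rw [hm]; group
              _ = (x' : G) := by rw [h']; group
          have hxx : (x : G)⁻¹ * x' = 1 := by
            refine hdisj _ ?_ (mul_mem (inv_mem x.2) x'.2)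
            rw [← hx', show (x : G)⁻¹ * (m * x * m⁻¹) = (x : G)⁻¹ * m * ((x : G)⁻¹)⁻¹ * m⁻¹ by group]
            exact N.mul_mem ((‹N.Normal›).conj_mem _ hmN _) (N.inv_mem hmN)
          obtain rfl : x = x' := Subtype.ext (inv_mul_eq_one.1 hxx)
          refine congrArg (Sigma.mk x) (Quotient.sound (QuotientGroup.leftRel_apply.2 ?_))
          refine Subgroup.mem_subgroupOf.2 ⟨N.mul_mem (N.inv_mem n.2) n'.2, ?_⟩
          refine Subgroup.mem_centralizer_singleton_iff.2 ?_
          show (n : G)⁻¹ * n' * x = x * ((n : G)⁻¹ * n')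
          calc (n : G)⁻¹ * n' * x = (n : G)⁻¹ * ((n' : G) * x * (n' : G)⁻¹) * n' := by group
            _ = x * ((n : G)⁻¹ * n') := by rw [← h']; group
    · rintro ⟨g, k, hk⟩
      have hpg : IsPGroup p (Subgroup.zpowers g) :=
        IsPGroup.of_card (n := k) (by rw [Nat.card_zpowers, hk])
      obtain ⟨Q, hQ⟩ := hpg.exists_le_sylow
      obtain ⟨c, rfl⟩ := MulAction.exists_smul_eq G P Q
      have hg : g ∈ MulAut.conj c • (P : Subgroup G) := by
        have := hQ (Subgroup.mem_zpowers g)
        rwa [Sylow.smul_def, Sylow.pointwise_smul_def] at this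
      obtain ⟨x, hx, rfl⟩ := hg
      have hcs : c ∈ N ⊔ (P : Subgroup G) := hsup ▸ Subgroup.mem_top c
      obtain ⟨n, hn, y, hy, rfl⟩ := Subgroup.mem_sup_of_normal_left.1 hcs
      refine ⟨⟨⟨y * x * y⁻¹, mul_mem (mul_mem hy hx) (inv_mem hy)⟩, ((⟨n, hn⟩ : N) : N ⧸ _)⟩, ?_⟩
      refine Subtype.ext ?_
      show n * (y * x * y⁻¹) * n⁻¹ = n * y * x * (n * y)⁻¹
      group
  rw [← Nat.card_eq_of_bijective f hf, Nat.card_sigma, finsum_eq_sum_of_fintype]
  refine Finset.sum_congr rfl fun x _ => ?_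
  have hc : Nat.card (K x) = Nat.card ↥(N ⊓ Subgroup.centralizer ({(x : G)} : Set G)) :=
    Nat.card_congr (Subgroup.subgroupOfEquivOfLe inf_le_left).toEquiv
  rw [Subgroup.card_eq_card_quotient_mul_card_subgroup (K x), hc,
    Nat.mul_div_cancel _ Nat.card_pos]

end Cfsg.Agent.S4093
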