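import Cfsg.Statements.S4097
import Cfsg.Agent.Char.Frobenius
import Cfsg.Agent.Coprime.Basic
import Cfsg.Agent.Layer.Subnormal
import Cfsg.Agent.Core.Basics
-- import your own Cfsg.Agent.* helpers here

set_option autoImplicit false
open Cfsg

namespace Cfsg.Agent.S4097

open Subgroup
open scoped IsMulCommutative

universe u

theorem key : ∀ (n : ℕ) (G : Type u) [Group G] [Finite G], Nat.card G = n → ∀ A : Subgroup G,
    Group.IsSolvable A →
    (∀ S : Subgroup G, A ≤ S → Group.IsSolvable S → ∀ a ∈ A, ∀ s ∈ S, a * s = s * a) →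
    A ≤ center G := by
  intro n
  induction n using Nat.strong_induction_on with
  | _ n ih =>
  intro G _ _ hn A hA hc
  classical
  -- if every element is in a solvable subgroup containing `A`, we are done
  have hfin : (∀ g : G, ∃ S : Subgroup G, A ≤ S ∧ g ∈ S ∧ Group.IsSolvable S) → A ≤ center G := by
    intro h a ha
    refine mem_center_iff.2 fun g => ?_
    obtain ⟨S, hAS, hgS, hS⟩ := h g
    exact (hc S hAS hS a ha g hgS).symm
  have hAab : IsMulCommutative A :=
    ⟨⟨fun a b => Subtype.ext (hc A le_rfl hA a a.2 b b.2)⟩⟩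
  have hproper : ∀ M : Subgroup G, A ≤ M → M ≠ ⊤ → ∀ a ∈ A, ∀ m ∈ M, a * m = m * a := by
    intro M hAM hM a ha m hm
    have hA' : Group.IsSolvable (A.subgroupOf M) :=
      Group.isSolvable_of_isSolvable_injective (f := (subgroupOfEquivOfLe hAM).toMonoidHom)
        (MulEquiv.injective _)
    have h1 := ih _ (hn ▸ Core.card_lt_of_ne_top hM) M rfl (A.subgroupOf M) hA'
      (fun S hS hSs x hx s hs => Subtype.ext
        (hc (S.map M.subtype) (fun y hy => ⟨⟨y, hAM hy⟩, hS (mem_subgroupOf.2 hy), rfl⟩)
          (Core.isSolvable_map hSs M.subtype) x (mem_subgroupOf.1 hx) s ⟨s, hs, rfl⟩))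
    have h2 : (⟨a, hAM ha⟩ : M) ∈ center M := h1 (mem_subgroupOf.2 ha)
    exact (congrArg Subtype.val (mem_center_iff.1 h2 ⟨m, hm⟩)).symm
  by_cases hZ : center G = ⊥
  swap
  · -- pass to the quotient by the centre
    set f := QuotientGroup.mk' (center G) with hf
    have hAb : A.map f ≤ center (G ⧸ center G) := by
      refine ih _ (hn ▸ Core.card_quotient_lt hZ) _ rfl (A.map f) (Core.isSolvable_map hA f) ?_
      intro S hS hSs a ha s hs
      obtain ⟨a, ha, rfl⟩ := ha
      obtain ⟨s, rfl⟩ := QuotientGroup.mk'_surjective _ s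
      have hSp : Group.IsSolvable (S.comap f) := by
        refine Group.isSolvable_of_ker_le_range
          (Subgroup.inclusion (show center G ≤ S.comap f from fun z hz => by
            rw [mem_comap, show f z = 1 from (QuotientGroup.eq_one_iff z).2 hz]; exact one_mem _))
          (f.subgroupComap S) ?_
        intro x hx
        have h1 : f x.1 = 1 := congrArg Subtype.val (MonoidHom.mem_ker.1 hx)
        exact ⟨⟨x.1, (QuotientGroup.eq_one_iff x.1).1 h1⟩, rfl⟩
      have := hc (S.comap f) (fun y hy => hS ⟨y, hy, rfl⟩) hSp a ha s hs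
      rw [← map_mul, this, map_mul]
    refine hfin fun g => ?_
    have hn1 : A ≤ normalizer ((center G ⊔ zpowers g : Subgroup G) : Set G) := by
      intro a ha
      have hcz : ∀ x : G, a * x * a⁻¹ * x⁻¹ ∈ center G := by
        intro x
        rw [← QuotientGroup.eq_one_iff (N := center G)]
        show f (a * x * a⁻¹ * x⁻¹) = 1
        have hcomm := mem_center_iff.1 (hAb ⟨a, ha, rfl⟩) (f x)
        rw [map_mul, map_mul, map_mul, map_inv, map_inv, ← hcomm]
        simp
      rw [mem_normalizer_iff]
      intro x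
      have e : a * x * a⁻¹ = a * x * a⁻¹ * x⁻¹ * x := by group
      have hz : a * x * a⁻¹ * x⁻¹ ∈ center G ⊔ zpowers g := mem_sup_left (hcz x)
      rw [e]
      exact ⟨fun hx => mul_mem hz hx, fun hx => (Subgroup.mul_mem_cancel_left _ hz).1 hx⟩
    refine ⟨A ⊔ (center G ⊔ zpowers g), le_sup_left, mem_sup_right (mem_sup_right (mem_zpowers g)),
      Layer.isSolvable_sup hn1 hA ?_⟩
    exact Layer.isSolvable_sup (Subgroup.center_le_normalizer _) inferInstance inferInstance
  by_contra hne
  have hns : ¬ Group.IsSolvable G := fun hs => hne (hfin fun g => ⟨⊤, le_top, mem_top g, inferInstance⟩)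
  set M := centralizer (A : Set G) with hM
  have hAM : A ≤ M := fun a ha => mem_centralizer_iff.2 fun b hb =>
    congrArg Subtype.val (hAab.is_comm.comm ⟨b, hb⟩ ⟨a, ha⟩)
  have hCC : ∀ x ∈ M, x ≠ 1 → centralizer ({x} : Set G) ≤ M := by
    intro x hx hx1 y hy
    refine mem_centralizer_iff.2 fun a ha => hproper _ (fun b hb => ?_) ?_ a ha y hy
    · exact mem_centralizer_singleton_iff.2 (mem_centralizer_iff.1 hx b hb)
    · intro htop
      refine hx1 (mem_bot.1 (hZ ▸ mem_center_iff.2 fun z => ?_))
      exact mem_centralizer_singleton_iff.1 (htop ▸ mem_top z)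
  have hsn : ∀ g ∈ normalizer (M : Set G), g ∈ M := by
    intro g hg
    set W := (center M).map M.subtype with hW
    have hAW : A ≤ W := fun a ha => ⟨⟨a, hAM ha⟩, mem_center_iff.2 fun m => Subtype.ext
      (mem_centralizer_iff.1 m.2 a ha).symm, rfl⟩
    have hgW : zpowers g ≤ normalizer (W : Set G) := by
      have hk : ∀ k ∈ normalizer (M : Set G), ∀ x ∈ W, k * x * k⁻¹ ∈ W := by
        rintro k hk _ ⟨x, hx, rfl⟩
        refine ⟨⟨k * x * k⁻¹, (mem_normalizer_iff.1 hk x.1).1 x.2⟩, mem_center_iff.2 fun m => ?_, rfl⟩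
        apply Subtype.ext
        have hm : k⁻¹ * m * k ∈ M := (mem_normalizer_iff''.1 hk m.1).1 m.2
        have := congrArg Subtype.val (mem_center_iff.1 hx ⟨_, hm⟩)
        simp only [Subgroup.coe_mul] at this ⊢
        calc (m : G) * (k * x * k⁻¹) = k * ((k⁻¹ * m * k) * x) * k⁻¹ := by group
          _ = k * ((x : G) * (k⁻¹ * m * k)) * k⁻¹ := by rw [this]
          _ = k * x * k⁻¹ * m := by group
      rw [zpowers_le, mem_normalizer_iff]
      intro x
      refine ⟨hk g hg x, fun hx => ?_⟩
      have := hk g⁻¹ (inv_mem hg) _ hx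
      simpa [mul_assoc] using this
    have hWs : Group.IsSolvable W := Core.isSolvable_map inferInstance M.subtype
    have hS : Group.IsSolvable (zpowers g ⊔ W : Subgroup G) :=
      Layer.isSolvable_sup hgW inferInstance hWs
    exact mem_centralizer_iff.2 fun a ha =>
      hc _ (hAW.trans le_sup_right) hS a ha g (mem_sup_left (mem_zpowers g))
  have hmal : ∀ g : G, g ∉ M → ∀ y ∈ M, g * y * g⁻¹ ∈ M → y = 1 := by
    intro g hg y hy hy'
    by_contra hy1
    by_cases hAb : A = ⊥
    · exact hne (hAb ▸ bot_le)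
    obtain ⟨a, ha, ha1⟩ := (bot_or_exists_ne_one A).resolve_left hAb
    have hx1 : g⁻¹ * a * g ≠ 1 := fun e => ha1 (by
      have := congrArg (fun z => g * z * g⁻¹) e
      simpa [mul_assoc] using this)
    have hcy : g⁻¹ * a * g ∈ centralizer ({y} : Set G) := by
      rw [mem_centralizer_singleton_iff]
      have h := mem_centralizer_iff.1 hy' a ha
      calc g⁻¹ * a * g * y = g⁻¹ * (a * (g * y * g⁻¹)) * g := by group
        _ = g⁻¹ * (g * y * g⁻¹ * a) * g := by rw [h]
        _ = y * (g⁻¹ * a * g) := by group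
    have hxM : g⁻¹ * a * g ∈ M := hCC y hy hy1 hcy
    have hle : ∀ m ∈ M, g⁻¹ * m * g ∈ M := by
      intro m hm
      refine hCC _ hxM hx1 (mem_centralizer_singleton_iff.2 ?_)
      have h := mem_centralizer_iff.1 hm a ha
      calc g⁻¹ * m * g * (g⁻¹ * a * g) = g⁻¹ * (m * a) * g := by group
        _ = g⁻¹ * (a * m) * g := by rw [h]
        _ = g⁻¹ * a * g * (g⁻¹ * m * g) := by group
    have hmem : g⁻¹ ∈ normalizer (M : Set G) := by
      rw [mem_normalizer_iff]
      intro m
      rw [inv_inv]
      refine ⟨hle m, fun hm => ?_⟩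
      obtain ⟨k, hk⟩ : ∃ k, g ^ k = g⁻¹ ∧ True := by
        refine ⟨orderOf g - 1, ?_, trivial⟩
        rw [eq_inv_iff_mul_eq_one, ← pow_succ, Nat.sub_add_cancel (orderOf_pos g),
          pow_orderOf_eq_one]
      have hiter : ∀ (j : ℕ) (x : G), x ∈ M → (g ^ j)⁻¹ * x * g ^ j ∈ M := by
        intro j
        induction j with
        | zero => intro x hx; simpa using hx
        | succ j ihj =>
          intro x hx
          have := hle _ (ihj x hx)
          rw [pow_succ]
          simpa [mul_assoc] using this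
      have := hiter k _ hm
      rw [hk.1] at this
      simpa [mul_assoc] using this
    exact hg (by simpa using inv_mem (hsn _ hmem))
  obtain ⟨K, hKn, hKM, -⟩ := Char.frobenius_kernel M hmal
  by_cases hK1 : Nat.card K = 1
  · have hK : K = ⊥ := card_eq_one.1 hK1
    subst hK
    have : M = ⊤ := isComplement'_bot_left.1 hKM
    exact hne fun a ha => mem_center_iff.2 fun g =>
      (mem_centralizer_iff.1 (this ▸ mem_top g : g ∈ M) a ha).symm
  obtain ⟨r, hr, hrK⟩ := Nat.exists_prime_and_dvd hK1
  have : Fact r.Prime := ⟨hr⟩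
  have hcop : (Nat.card M).Coprime (Nat.card K) := by
    refine Nat.coprime_of_dvd fun p hp hpM hpK => ?_
    have : Fact p.Prime := ⟨hp⟩
    obtain ⟨⟨x, hxM⟩, hxo⟩ := exists_prime_orderOf_dvd_card' p hpM
    rw [Subgroup.orderOf_mk] at hxo
    obtain ⟨P, hP⟩ := (IsPGroup.of_card (p := p) (G := zpowers x) (n := 1)
      (by rw [Nat.card_zpowers, hxo, pow_one])).exists_le_sylow
    have hxP : x ∈ (P : Subgroup G) := hP (mem_zpowers x)
    have : Nontrivial (P : Subgroup G) := ⟨⟨⟨x, hxP⟩, 1, fun e => by
      have : x = 1 := congrArg Subtype.val e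
      rw [this, orderOf_one] at hxo
      exact hp.one_lt.ne hxo⟩⟩
    have := P.2.center_nontrivial
    obtain ⟨z, hz1⟩ := exists_ne (1 : center (P : Subgroup G))
    have hzM : z.1.1 ∈ M := hCC x hxM (fun e => by rw [e, orderOf_one] at hxo; exact hp.one_lt.ne hxo)
      (mem_centralizer_singleton_iff.2 (congrArg Subtype.val (mem_center_iff.1 z.2 ⟨x, hxP⟩)).symm)
    have hPM : (P : Subgroup G) ≤ M := fun y hy => hCC _ hzM
      (fun e => hz1 (Subtype.ext (Subtype.ext e)))
      (mem_centralizer_singleton_iff.2 (congrArg Subtype.val (mem_center_iff.1 z.2 ⟨y, hy⟩)))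
    exact P.not_dvd_index ((hKM.index_eq_card ▸ hpK).trans (index_dvd_of_le hPM))
  have hcopA : (Nat.card A).Coprime (Nat.card K) := hcop.coprime_dvd_left (card_dvd_of_le hAM)
  obtain ⟨R, hR⟩ := Coprime.exists_invariant_sylow (A := A) (K := K) le_normalizer_of_normal hcopA
    (Or.inl hA) r
  have hRs : Group.IsSolvable ((R : Subgroup K).map K.subtype) := by
    have := (R.2.map K.subtype).isNilpotent
    infer_instance
  have hS := Layer.isSolvable_sup hR hA hRs
  have hRM : (R : Subgroup K).map K.subtype ≤ M := fun x hx => mem_centralizer_iff.2 fun a ha =>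
    hc _ le_sup_left hS a ha x (mem_sup_right hx)
  refine R.ne_bot_of_dvd_card hrK ((map_eq_bot_iff_of_injective _ K.subtype_injective).1 ?_)
  exact le_bot_iff.1 ((le_inf (map_subtype_le _) hRM).trans_eq hKM.disjoint.eq_bot)


/-- Let A be a solvable subgroup of a finite group G such that A lies in the centre of every solvable subgroup of G containing A. Then A lies in the centre of G. -/
theorem result {G : Type*} [Group G] [Finite G]
    (A : Subgroup G) (hA : Group.IsSolvable A)
    (hc : ∀ S : Subgroup G, A ≤ S → Group.IsSolvable S → ∀ a ∈ A, ∀ s ∈ S, a * s = s * a) : A ≤ Subgroup.center G := by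
  exact key _ G rfl A hA hc

end Cfsg.Agent.S4097
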