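import Cfsg.Statements.S4100
import Cfsg.Agent.AltCentCert.Module5
import Cfsg.Agent.AltCentCert.Module9
import Cfsg.Agent.AltCent.Lift

set_option autoImplicit false
set_option linter.style.haveILetI false
open Cfsg

namespace Cfsg.Agent.S4100

open Equiv Subgroup Cfsg.Agent.AltCent Cfsg.Agent.AltCentCert

/-- two permutations side by side -/
def side (a b : ℕ) : Perm (Fin a) × Perm (Fin b) →* Perm (Fin (a + b)) :=
  (finSumFinEquiv.permCongrHom).toMonoidHom.comp (Perm.sumCongrHom (Fin a) (Fin b))

theorem side_injective (a b : ℕ) : Function.Injective (side a b) := fun _ _ h =>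
  Perm.sumCongrHom_injective ((finSumFinEquiv (m := a) (n := b)).permCongr.injective h)

theorem sign_side (a b : ℕ) (x : Perm (Fin a) × Perm (Fin b)) :
    Perm.sign (side a b x) = Perm.sign x.1 * Perm.sign x.2 := by
  show Perm.sign (finSumFinEquiv.permCongr (Perm.sumCongr x.1 x.2)) = _
  rw [Perm.sign_permCongr, Perm.sign_sumCongr]

/-- the smaller alternating group in the larger one -/
def inj (a b : ℕ) : alternatingGroup (Fin a) →* alternatingGroup (Fin (a + b)) :=
  ((side a b).comp ((alternatingGroup (Fin a)).subtype.prod 1)).codRestrict _ fun x => by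
    rw [Perm.mem_alternatingGroup]
    show Perm.sign (side a b ((x : Perm (Fin a)), 1)) = 1
    rw [sign_side]
    show Perm.sign (x : Perm (Fin a)) * Perm.sign (1 : Perm (Fin b)) = 1
    rw [Perm.sign_one, mul_one, Perm.mem_alternatingGroup.1 x.2]

theorem inj_injective (a b : ℕ) : Function.Injective (inj a b) := by
  intro x y h
  have h' : side a b ((x : Perm (Fin a)), 1) = side a b ((y : Perm (Fin a)), 1) := congrArg Subtype.val h
  exact Subtype.ext (congrArg Prod.fst (side_injective a b h'))

theorem exists_seed {p m : ℕ} [Fact p.Prime] (σ0 : Perm (Fin m)) (hs : Perm.sign σ0 = 1) (hp : σ0 ^ p = 1)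
    (hne : σ0 ≠ 1) : ∃ D : Seed (alternatingGroup (Fin (5 + m))) p, Nat.card D.H ∣ 60 := by
  have hmem : side 5 m (1, σ0) ∈ alternatingGroup (Fin (5 + m)) := by
    rw [Perm.mem_alternatingGroup, sign_side, Perm.sign_one, one_mul, hs]
  refine ⟨⟨⟨_, hmem⟩, (inj 5 m).range, ?_, ?_, ?_, ?_⟩, ?_⟩
  · apply Subtype.ext
    show side 5 m (1, σ0) ^ p = 1
    rw [← map_pow, Prod.pow_mk, one_pow, hp]
    exact map_one _
  · intro h
    have h' : side 5 m (1, σ0) = side 5 m 1 := (congrArg Subtype.val h).trans (map_one _).symm
    exact hne (congrArg Prod.snd (side_injective 5 m h'))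
  · rintro _ ⟨x, rfl⟩
    apply Subtype.ext
    show side 5 m ((x : Perm (Fin 5)), 1) * side 5 m (1, σ0) = side 5 m (1, σ0) * side 5 m ((x : Perm (Fin 5)), 1)
    rw [← map_mul, ← map_mul]
    simp
  · intro hsol
    haveI := hsol
    haveI : Group.IsSolvable (alternatingGroup (Fin 5)) :=
      Group.isSolvable_of_isSolvable_injective (f := (inj 5 m).rangeRestrict)
        (fun x y h => inj_injective 5 m (congrArg Subtype.val h))
    haveI : Nontrivial (alternatingGroup (Fin 5)) := alternatingGroup.nontrivial_of_three_le_card (by simp)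
    exact (Group.IsSolvable.commutator_lt_top_of_nontrivial (G := alternatingGroup (Fin 5))).ne
      (commutator_alternatingGroup_eq_top (by simp))
  · refine (Subgroup.card_range_dvd _).trans (dvd_of_eq ?_)
    haveI : Nontrivial (Fin 5) := inferInstance
    have h2 := two_mul_card_alternatingGroup (α := Fin 5)
    rw [Fintype.card_perm, Fintype.card_fin, show Nat.factorial 5 = 120 from rfl] at h2
    rw [← Nat.card_eq_fintype_card] at h2
    omega

/-- An action on a group of exponent `p`, seen as an action on an additive group. -/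
theorem hasFixed.{u} {n p : ℕ}
    (hz : ∀ (V : Type u) [AddCommGroup V] [DistribMulAction (Alt n) V],
      (∀ w : V, p • w = 0) → NoFixed n V → ∀ v : V, v = 0)
    (E : Type u) [Group E] : HasFixed (Alt n) p E := by
  intro act hcomm hexp hne
  letI : CommGroup E := { (inferInstance : Group E) with mul_comm := hcomm }
  letI : DistribMulAction (Alt n) (Additive E) :=
    { smul := fun g v => Additive.ofMul (act g v.toMul)
      one_smul := fun v => by show Additive.ofMul (act 1 v.toMul) = v; rw [map_one]; rfl
      mul_smul := fun g h v => by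
        show Additive.ofMul (act (g * h) v.toMul) = Additive.ofMul (act g (act h v.toMul))
        rw [map_mul]; rfl
      smul_zero := fun g => by show Additive.ofMul (act g 1) = 0; rw [map_one]; rfl
      smul_add := fun g v w => by
        show Additive.ofMul (act g (v.toMul * w.toMul)) = _
        rw [map_mul]; rfl }
  by_contra hc
  obtain ⟨e, he⟩ := hne
  apply he
  refine congrArg Additive.toMul (hz (Additive E) (fun w => by
    show Additive.ofMul (w.toMul ^ p) = 0
    rw [hexp]; rfl) ?_ (Additive.ofMul e))
  intro a b hns w ha hb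
  by_contra hw
  refine hc ⟨Subgroup.closure {a, b}, w.toMul, hns, fun h => hw h, fun g hg => ?_⟩
  show act g w.toMul = w.toMul
  induction hg using Subgroup.closure_induction with
  | mem g hg =>
    rcases hg with rfl | rfl
    · exact ha
    · exact hb
  | one => rw [map_one]; rfl
  | mul g h _ _ ig ih => rw [map_mul]; show act g (act h w.toMul) = _; rw [ih, ig]
  | inv g _ ig => rw [map_inv]; show (act g).symm w.toMul = _; rw [MulEquiv.symm_apply_eq, ig]

theorem key {X : Type*} [Group X] [Finite X] {p n : ℕ} [Fact p.Prime]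
    (hn : (p = 2 ∧ n = 9) ∨ (5 ≤ p ∧ n = 5 + p)) (f : X →* Alt n) (hf : Function.Surjective f)
    (hmin : ∀ M : Subgroup X, M.map f = ⊤ → M = ⊤) :
    ∃ x : X, x ∉ center X ∧ (∃ k : ℕ, orderOf x = p ^ k) ∧
      ¬ Group.IsSolvable (centralizer ({x} : Set X)) := by
  have hY := kernel_nilpotent hf hmin
  obtain ⟨P0, hP0n, hp0, hle, hP0⟩ := exists_p_part (p := p) f.ker hY
  haveI := hP0n
  rcases hn with ⟨rfl, rfl⟩ | ⟨h5, rfl⟩
  · have hcA : center (Alt 9) = ⊥ := alternatingGroup.center_eq_bot (by simp)
    obtain ⟨D, -⟩ := exists_seed (p := 2) (m := 4) (swap 0 1 * swap 2 3) (by decide) (by decide) (by decide)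
    by_cases hc : P0 ≤ center X
    · exact exists_of_central hf hcA D hP0 hc
    · exact exists_of_module hf hp0 hle hY hc fun E =>
        hasFixed (fun V _ _ hp hn => Nine.all_zero hp hn) E
  · have hp : p.Prime := Fact.out
    have hcA : center (Alt (5 + p)) = ⊥ := alternatingGroup.center_eq_bot (by simp; omega)
    obtain ⟨D, hD⟩ := exists_seed (p := p) (m := p) (finRotate p) (by
        obtain ⟨q, rfl⟩ : ∃ q, p = q + 1 := ⟨p - 1, by omega⟩
        rw [sign_finRotate]
        exact Even.neg_one_pow (by
          rcases hp.eq_two_or_odd with h | h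
          · omega
          · exact Nat.even_iff.2 (by omega)))
      (by
        obtain ⟨q, rfl⟩ : ∃ q, p = q + 2 := ⟨p - 2, by omega⟩
        have h := (isCycle_finRotate (n := q)).orderOf
        rw [support_finRotate, Finset.card_univ, Fintype.card_fin] at h
        have := pow_orderOf_eq_one (finRotate (q + 2))
        rwa [h] at this)
      (by
        obtain ⟨q, rfl⟩ : ∃ q, p = q + 2 := ⟨p - 2, by omega⟩
        exact (isCycle_finRotate (n := q)).ne_one)
    by_cases h7 : p = 5
    · subst h7
      by_cases hc : P0 ≤ center X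
      · exact exists_of_central hf hcA D hP0 hc
      · exact exists_of_module hf hp0 hle hY hc fun E =>
          hasFixed (fun V _ _ hp hn => Ten.all_zero hp hn) E
    · refine exists_of_coprime hf hcA D hp0 hle hP0 ((Nat.Coprime.coprime_dvd_right hD) ?_)
      refine (Nat.Prime.coprime_iff_not_dvd hp).2 fun h => ?_
      have : p ≤ 60 := Nat.le_of_dvd (by norm_num) h
      interval_cases p <;> simp_all (config := { decide := true })

/-- Let G be a finite group and p a prime other than 3 such that the centralizer of every non-central element of p-power order is solvable. Then every alternating group of degree at least 5 involved in G (as a section) has degree at most p + 4, or at most p + 6 = 8 when p = 2. -/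
theorem result {G : Type*} [Group G] [Finite G] (p : ℕ) [Fact p.Prime] (hp3 : p ≠ 3)
    (h : ∀ x : G, x ∉ Subgroup.center G → (∃ k : ℕ, orderOf x = p ^ k) → Group.IsSolvable (Subgroup.centralizer ({x} : Set G)))
    (d : ℕ) (hd : 5 ≤ d) (hinv : Cfsg.Involves (alternatingGroup (Fin d)) G) :
    d ≤ p + 4 + (if p = 2 then 2 else 0) := by
  classical
  have hp : p.Prime := Fact.out
  obtain ⟨K, R, hR, ⟨iso⟩⟩ := hinv
  by_contra hbig
  obtain ⟨n, hn, k, rfl⟩ : ∃ n, ((p = 2 ∧ n = 9) ∨ (5 ≤ p ∧ n = 5 + p)) ∧ ∃ k, d = n + k := by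
    by_cases h2 : p = 2
    · rw [if_pos h2] at hbig
      exact ⟨9, Or.inl ⟨h2, rfl⟩, d - 9, by omega⟩
    · rw [if_neg h2] at hbig
      have : 5 ≤ p := by
        have := hp.two_le
        by_contra hlt
        have h4 : p = 4 := by omega
        rw [h4] at hp
        exact absurd hp (by norm_num)
      exact ⟨5 + p, Or.inr ⟨this, rfl⟩, d - (5 + p), by omega⟩
  haveI := hR
  let g : K →* alternatingGroup (Fin (n + k)) := iso.toMonoidHom.comp (QuotientGroup.mk' _)
  have hg : Function.Surjective g := iso.surjective.comp (QuotientGroup.mk'_surjective _)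
  let K0 : Subgroup K := (inj n k).range.comap g
  let f0 : K0 →* Alt n :=
    (MonoidHom.ofInjective (inj_injective n k)).symm.toMonoidHom.comp
      ((g.comp K0.subtype).codRestrict _ fun x => x.2)
  have hf0 : Function.Surjective f0 := by
    intro a
    obtain ⟨x, hx⟩ := hg (inj n k a)
    refine ⟨⟨x, ⟨a, hx.symm⟩⟩, ?_⟩
    show (MonoidHom.ofInjective (inj_injective n k)).symm ⟨g x, _⟩ = a
    rw [MulEquiv.symm_apply_eq]
    exact Subtype.ext hx
  obtain ⟨M, hM, hmin⟩ := WellFounded.has_min (wellFounded_lt (α := Subgroup K0))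
    {M | M.map f0 = ⊤} ⟨⊤, by rw [Set.mem_ofPred_eq, ← MonoidHom.range_eq_map, MonoidHom.range_eq_top.2 hf0]⟩
  let f : M →* Alt n := f0.comp M.subtype
  have hf : Function.Surjective f := by
    intro a
    obtain ⟨m, hm, rfl⟩ := (show a ∈ M.map f0 by rw [hM]; trivial)
    exact ⟨⟨m, hm⟩, rfl⟩
  obtain ⟨x, hxc, hxp, hxs⟩ := key (p := p) hn f hf (fun N hN => by
    have h1 : (N.map M.subtype).map f0 = ⊤ := by rw [Subgroup.map_map]; exact hN
    have h2 : ¬ N.map M.subtype < M := hmin _ h1
    rcases (Subgroup.map_subtype_le N).lt_or_eq with hlt | heq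
    · exact absurd hlt h2
    · refine Subgroup.map_injective M.subtype_injective ?_
      rw [heq, ← MonoidHom.range_eq_map, Subgroup.range_subtype])
  let ι : M →* G := K.subtype.comp (K0.subtype.comp M.subtype)
  have hι : Function.Injective ι := fun a b e =>
    Subtype.ext (Subtype.ext (Subtype.ext e))
  apply hxs
  haveI := h (ι x) (fun hc => hxc (Subgroup.mem_center_iff.2 fun y => hι (by
      rw [map_mul, map_mul]; exact Subgroup.mem_center_iff.1 hc (ι y))))
    (by obtain ⟨j, hj⟩ := hxp; exact ⟨j, (orderOf_injective ι hι x).trans hj⟩)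
  let r : centralizer ({x} : Set M) →* centralizer ({ι x} : Set G) :=
    (ι.comp (centralizer ({x} : Set M)).subtype).codRestrict _ fun y => by
      rw [mem_centralizer_iff]
      intro z hz
      rw [Set.mem_singleton_iff] at hz
      rw [hz]
      show ι x * ι y.1 = ι y.1 * ι x
      rw [← map_mul, ← map_mul, mem_centralizer_iff.1 y.2 x rfl]
  exact Group.isSolvable_of_isSolvable_injective (f := r)
    (fun a b e => Subtype.ext (hι (congrArg (fun z : centralizer ({ι x} : Set G) => (z : G)) e)))

end Cfsg.Agent.S4100
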