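import Cfsg.Statements.S4105
import Cfsg.Agent.PiClasses.Main
import Cfsg.Agent.PiClasses.Derived

set_option autoImplicit false
open Cfsg

namespace Cfsg.Agent.S4105

/-- Let G be a finite group, π a set of primes with least member p, m the π-part of the order of G and k the number of conjugacy classes of G consisting of π-elements. If k > m·(p² + p − 1)/p³, then G has an abelian Hall π-subgroup (an abelian subgroup of order m). -/
theorem result {G : Type*} [Group G] [Finite G]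
    (π : Set ℕ) (hπ : ∀ q ∈ π, q.Prime) (p : ℕ) (hp : p ∈ π) (hmin : ∀ q ∈ π, p ≤ q)
    (m : ℕ) (hm : m ∣ Nat.card G) (hmπ : ∀ q : ℕ, q.Prime → q ∣ m → q ∈ π)
    (hm' : ∀ q ∈ π, ¬ q ∣ Nat.card G / m)
    (k : ℕ) (hk : k = Nat.card {C : ConjClasses G // ∀ q : ℕ, q.Prime → (∃ g : G, ConjClasses.mk g = C ∧ q ∣ orderOf g) → q ∈ π})
    (hmany : m * (p ^ 2 + p - 1) < p ^ 3 * k) :
    ∃ H : Subgroup G, Nat.card H = m ∧ IsMulCommutative H := by
  classical
  obtain ⟨ρ, hρ, hρm, hρk⟩ := Cfsg.Agent.PiClasses.to_finset π hπ m hm hmπ hm'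
  have hρp : ∀ r ∈ ρ, r.Prime := fun r hr => (hρ r hr).1
  have hρmin : ∀ r ∈ ρ, p ≤ r := fun r hr => hmin r (hρ r hr).2
  have hp2 : 2 ≤ p := (hπ p hp).two_le
  rw [← hρk] at hk
  have hmain : m < p * k := by
    have h1 : p ^ 2 ≤ p ^ 2 + p - 1 := by omega
    have h2 : p ^ 2 * m < p ^ 2 * (p * k) := by
      calc p ^ 2 * m = m * p ^ 2 := mul_comm _ _
        _ ≤ m * (p ^ 2 + p - 1) := Nat.mul_le_mul_left m h1
        _ < p ^ 3 * k := hmany
        _ = p ^ 2 * (p * k) := by ring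
    exact Nat.lt_of_mul_lt_mul_left h2
  obtain ⟨H, hHc, hHn⟩ := Cfsg.Agent.PiClasses.exists_nilpotent_hall ρ hρp G p hp2 hρmin
    (by rw [hρm, ← hk]; exact hmain)
  rw [hρm] at hHc
  refine ⟨H, hHc, Cfsg.Agent.PiClasses.isMulCommutative_of_many hHn hp2
    (fun r hr hd => hmin r (hmπ r hr (hHc ▸ hd))) ?_⟩
  have h1 := Cfsg.Agent.PiClasses.kPi_le_card_classes ρ hρp H hHn (by rw [hHc, hρm])
  rw [hHc]
  rw [← hk] at h1
  exact hmany.trans_le (Nat.mul_le_mul_left (p ^ 3) h1)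

end Cfsg.Agent.S4105
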