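import Cfsg.Statements.S4106
import Cfsg.Agent.ClassCount.Pi
-- import your own Cfsg.Agent.* helpers here

set_option autoImplicit false
open Cfsg

namespace Cfsg.Agent.S4106

/-- Let G be a finite group, π a set of primes and m the π-part of the order of G. Then the number of conjugacy classes of G consisting of π-elements (elements whose order is divisible only by primes in π) is at most m. -/
theorem result {G : Type*} [Group G] [Finite G]
    (π : Set ℕ) (hπ : ∀ q ∈ π, q.Prime)
    (m : ℕ) (hm : m ∣ Nat.card G) (hmπ : ∀ q : ℕ, q.Prime → q ∣ m → q ∈ π)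
    (hm' : ∀ q ∈ π, ¬ q ∣ Nat.card G / m) :
    Nat.card {C : ConjClasses G // ∀ q : ℕ, q.Prime → (∃ g : G, ConjClasses.mk g = C ∧ q ∣ orderOf g) → q ∈ π} ≤ m := by

  classical
  have hG : Nat.card G ≠ 0 := Nat.card_pos.ne'
  have hm0 : m ≠ 0 := fun h => hG (by simpa [h] using hm)
  obtain ⟨d, hd⟩ := hm
  have hd0 : d ≠ 0 := fun h => hG (by simp [hd, h])
  let ρ : Finset ℕ := (Nat.card G).primeFactors.filter (· ∈ π)
  have hρ : ∀ r ∈ ρ, r.Prime := fun r hr =>
    Nat.prime_of_mem_primeFactors (Finset.mem_of_mem_filter r hr)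
  have hpart : Cfsg.Agent.ClassCount.piPart ρ G = m := by
    have h1 : Cfsg.Agent.ClassCount.piPart ρ G = ∏ r ∈ ρ, r ^ m.factorization r := by
      refine Finset.prod_congr rfl fun r hr => ?_
      have hrd : ¬ r ∣ d := by
        have := hm' r (Finset.mem_filter.mp hr).2
        rwa [hd, Nat.mul_div_cancel_left _ (Nat.pos_of_ne_zero hm0)] at this
      rw [hd, Nat.factorization_mul hm0 hd0, Finsupp.add_apply,
        Nat.factorization_eq_zero_of_not_dvd hrd, add_zero]
    rw [h1]
    conv_rhs => rw [← Nat.prod_factorization_pow_eq_self hm0]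
    rw [Finsupp.prod]
    refine (Finset.prod_subset ?_ ?_).symm
    · intro r hr
      rw [Nat.support_factorization] at hr
      exact Finset.mem_filter.mpr ⟨Nat.primeFactors_mono ⟨d, hd⟩ hG hr,
        hmπ r (Nat.prime_of_mem_primeFactors hr) (Nat.dvd_of_mem_primeFactors hr)⟩
    · intro r _ hr
      rw [Finsupp.notMem_support_iff.mp hr, pow_zero]
  refine le_trans ?_ (hpart ▸ Cfsg.Agent.ClassCount.kPi_le_piPart ρ hρ G)
  refine Nat.card_le_card_of_injective (fun c => ⟨c.1, fun x hx r hr hrd => ?_⟩) ?_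
  · refine Finset.mem_filter.mpr ⟨Nat.mem_primeFactors.mpr ⟨hr, hrd.trans (orderOf_dvd_natCard x), hG⟩,
      c.2 r hr ⟨x, ConjClasses.mem_carrier_iff_mk_eq.mp hx, hrd⟩⟩
  · intro a b h
    exact Subtype.ext (congrArg Subtype.val h :)

end Cfsg.Agent.S4106
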