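import Cfsg.Statements.S4107
import Cfsg.Agent.Coprime.Basic
import Cfsg.Agent.Core.Fitting
-- import your own Cfsg.Agent.* helpers here

set_option autoImplicit false
open Cfsg
open Cfsg.Agent
open scoped commutatorElement Pointwise

namespace Cfsg.Agent.S4107
open Cfsg.Agent in
theorem isPGroup_of_not_le {G : Type*} [Group G] [Finite G] {N : Subgroup G} [N.Normal]
    (heq : ∀ x : G, x ∉ N → ∀ n ∈ N, orderOf (x * n) = orderOf x) {q : ℕ} [hq : Fact q.Prime]
    (h : ¬ Cfsg.pCore q G ≤ N) : IsPGroup q N := by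
  have hO := Core.pCore_isPGroup (p := q) (G := G)
  refine IsPGroup.of_card (Nat.eq_prime_pow_of_unique_prime_dvd (Nat.card_pos (α := N)).ne' fun {r} hr hrd => ?_)
  by_contra hrq
  have : Fact r.Prime := ⟨hr⟩
  obtain ⟨y, hy⟩ := exists_prime_orderOf_dvd_card' r hrd
  rw [← Subgroup.orderOf_coe] at hy
  set O := Cfsg.pCore q G
  set A := Subgroup.zpowers (y : G)
  obtain ⟨k, hk⟩ := hO.exists_card_eq
  have hcop : (Nat.card A).Coprime (Nat.card O) := by
    rw [Nat.card_zpowers, hy, hk]; exact ((Nat.coprime_primes hr hq.out).mpr hrq).pow_right k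
  have hOn : O.Normal := Core.pCore_normal
  have hAO : A ≤ Subgroup.normalizer (O : Set G) := (Subgroup.normalizer_eq_top_iff.mpr hOn).symm ▸ le_top
  have hsup := Coprime.commutator_sup_centralizer hAO hcop
    (Or.inl (Group.isSolvable_of_comm fun a b => mul_comm' a b))
  have hcom : ⁅O, A⁆ ≤ N := (Subgroup.commutator_mono le_rfl (Subgroup.zpowers_le.mpr y.2)).trans
    (Subgroup.commutator_le_right O N)
  obtain ⟨c, hc, hcN⟩ : ∃ c ∈ O ⊓ Subgroup.centralizer (A : Set G), c ∉ N := by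
    by_contra hcon
    push Not at hcon
    exact h (hsup ▸ sup_le hcom hcon)
  have hcomm : Commute c (y : G) := (Subgroup.mem_centralizer_iff.mp hc.2 y (Subgroup.mem_zpowers _)).symm
  obtain ⟨j, hj⟩ := IsPGroup.iff_orderOf.mp hO ⟨c, hc.1⟩
  rw [Subgroup.orderOf_mk] at hj
  have h1 := heq c hcN y y.2
  rw [hcomm.orderOf_mul_eq_mul_orderOf_of_coprime (by
    rw [hj, hy]; exact ((Nat.coprime_primes hq.out hr).mpr (Ne.symm hrq)).pow_left j), hy] at h1
  have := orderOf_pos c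
  have := hr.two_le
  nlinarith

open Cfsg.Agent in
theorem main {G : Type*} [Group G] [Finite G] (N : Subgroup G) [N.Normal] (hN1 : N ≠ ⊥)
    (heq : ∀ x : G, x ∉ N → ∀ n ∈ N, orderOf (x * n) = orderOf x) :
    Cfsg.fittingSubgroup G ≤ N ∨ (N ≤ Cfsg.fittingSubgroup G ∧ IsPrimePow (Nat.card (Cfsg.fittingSubgroup G)) ∧
      IsPrimePow (Nat.card N)) := by
  by_cases hall : ∀ q : Nat.Primes, Cfsg.pCore (q : ℕ) G ≤ N
  · left
    rw [Core.fittingSubgroup_eq_iSup_pCore]
    exact iSup_le hall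
  right
  push Not at hall
  obtain ⟨⟨q, hq⟩, hqN⟩ := hall
  have : Fact q.Prime := ⟨hq⟩
  have hNq := isPGroup_of_not_le heq hqN
  have hF : Cfsg.fittingSubgroup G = Cfsg.pCore q G := by
    refine le_antisymm ?_ (Core.pCore_le_fittingSubgroup q)
    rw [Core.fittingSubgroup_eq_iSup_pCore]
    refine iSup_le fun r => ?_
    obtain ⟨r, hr⟩ := r
    have : Fact r.Prime := ⟨hr⟩
    rcases eq_or_ne r q with rfl | hne
    · exact le_rfl
    by_cases hrN : Cfsg.pCore r G ≤ N
    · intro x hx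
      obtain ⟨i, hi⟩ := IsPGroup.iff_orderOf.mp (Core.pCore_isPGroup (p := r) (G := G)) ⟨x, hx⟩
      obtain ⟨l, hl⟩ := IsPGroup.iff_orderOf.mp hNq ⟨x, hrN hx⟩
      rw [Subgroup.orderOf_mk] at hi hl
      have h1 : orderOf x ∣ Nat.gcd (r ^ i) (q ^ l) := Nat.dvd_gcd hi.dvd hl.dvd
      rw [Nat.Coprime.gcd_eq_one (((Nat.coprime_primes hr hq).mpr hne).pow i l), Nat.dvd_one, orderOf_eq_one_iff] at h1
      rw [h1]; exact one_mem _
    · obtain ⟨k, hk⟩ := hNq.exists_card_eq
      obtain ⟨l, hl⟩ := (isPGroup_of_not_le heq hrN).exists_card_eq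
      exfalso
      refine hN1 (Subgroup.eq_bot_of_card_eq N (Nat.eq_one_of_dvd_coprimes ?_ hk.dvd hl.dvd))
      exact ((Nat.coprime_primes hq hr).mpr (Ne.symm hne)).pow k l
  have hNF : N ≤ Cfsg.pCore q G := Core.le_pCore hNq
  have hpp : ∀ S : Subgroup G, IsPGroup q S → S ≠ ⊥ → IsPrimePow (Nat.card S) := fun S hS hne => by
    obtain ⟨k, hk⟩ := hS.exists_card_eq
    exact (isPrimePow_nat_iff _).mpr ⟨q, k, hq, Nat.pos_of_ne_zero fun e => hne (Subgroup.eq_bot_of_card_eq S (by rw [hk, e, pow_zero])), hk.symm⟩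
  rw [hF]
  exact ⟨hNF, hpp _ Core.pCore_isPGroup (fun e => hN1 (le_bot_iff.mp (e ▸ hNF))), hpp N hNq hN1⟩



/-- Let G be a finite group and N a proper non-trivial normal subgroup such that for every x outside N all elements of the coset xN have the same order as x. Then N ≤ F(G) or F(G) ≤ N, where F(G) is the Fitting subgroup; and if N is properly contained in F(G) then F(G) has prime-power order. -/
theorem result {G : Type*} [Group G] [Finite G] (N : Subgroup G) [N.Normal] (hN1 : N ≠ ⊥) (hN2 : N ≠ ⊤)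
    (heq : ∀ x : G, x ∉ N → ∀ n ∈ N, orderOf (x * n) = orderOf x) :
    (N ≤ Cfsg.fittingSubgroup G ∨ Cfsg.fittingSubgroup G ≤ N) ∧
    (N < Cfsg.fittingSubgroup G → IsPrimePow (Nat.card (Cfsg.fittingSubgroup G))) := by
  rcases main N hN1 heq with h | ⟨h1, h2, -⟩
  · exact ⟨Or.inr h, fun hlt => absurd h hlt.not_ge⟩
  · exact ⟨Or.inl h1, fun _ => h2⟩

end Cfsg.Agent.S4107
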