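import Cfsg.Statements.S4108
import Mathlib

set_option autoImplicit false
open Cfsg
open scoped Pointwise

namespace Cfsg.Agent.S4108

/-- Let G be a finite group, p a prime and N a proper non-trivial normal p-subgroup such that for every x outside N all elements of the coset xN have the same order as x. Then every non-trivial subgroup H of G of order prime to p acts fixed-point-freely on N: NH is a Frobenius group with complement H and kernel N. -/
theorem result {G : Type*} [Group G] [Finite G] (N : Subgroup G) [N.Normal] (hN1 : N ≠ ⊥) (hN2 : N ≠ ⊤)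
    (heq : ∀ x : G, x ∉ N → ∀ n ∈ N, orderOf (x * n) = orderOf x)
    (p : ℕ) [Fact p.Prime] (hNp : IsPGroup p N) :
    ∀ H : Subgroup G, H ≠ ⊥ → (Nat.card H).Coprime p →
      Cfsg.IsFrobeniusComplement (H.subgroupOf (N ⊔ H)) ∧ Cfsg.frobeniusKernel (H.subgroupOf (N ⊔ H)) = (N.subgroupOf (N ⊔ H) : Set ↥(N ⊔ H)) := by
  intro H hH hcop
  set K := N ⊔ H with hK
  have hp : p.Prime := Fact.out
  -- elements of H outside 1 commute with no nontrivial element of N
  have hfpf : ∀ h ∈ H, h ≠ 1 → ∀ n ∈ N, n * h = h * n → n = 1 := by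
    intro h hh h1 n hn hc
    obtain ⟨k, hk⟩ := IsPGroup.iff_orderOf.1 hNp ⟨n, hn⟩
    rw [← Subgroup.orderOf_coe] at hk
    change orderOf n = p ^ k at hk
    have hco : (orderOf h).Coprime (orderOf n) := by
      refine Nat.Coprime.coprime_dvd_left ?_ (hk ▸ hcop.pow_right k)
      simpa using orderOf_dvd_natCard (⟨h, hh⟩ : H)
    have hhN : h ∉ N := fun hc' => h1 (by
      obtain ⟨j, hj⟩ := IsPGroup.iff_orderOf.1 hNp ⟨h, hc'⟩
      rw [← Subgroup.orderOf_coe] at hj
      have hdd : orderOf h ∣ Nat.gcd (Nat.card H) (p ^ j) :=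
        Nat.dvd_gcd (by simpa using orderOf_dvd_natCard (⟨h, hh⟩ : H)) (by simp at hj; rw [hj])
      rw [(hcop.pow_right j).gcd_eq_one] at hdd
      exact orderOf_eq_one_iff.1 (Nat.dvd_one.1 hdd))
    have e := heq h hhN n hn
    rw [Commute.orderOf_mul_eq_mul_orderOf_of_coprime (hc.symm : Commute h n) hco] at e
    have := (Nat.mul_eq_left (orderOf_pos h).ne').1 e
    exact orderOf_eq_one_iff.1 this
  have hdisj : ∀ a ∈ H, a ∈ N → a = 1 := fun a ha haN =>
    by_contra fun h1 => h1 (hfpf a ha h1 a haN rfl)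
  have hdec : ∀ x : K, ∃ n ∈ N, ∃ h ∈ H, (x : G) = n * h := by
    intro x
    have hx := x.2
    simp only [hK, Subgroup.mem_sup_of_normal_left] at hx
    obtain ⟨n, hn, h, hh, e⟩ := hx
    exact ⟨n, hn, h, hh, e.symm⟩
  have hNK : N ≤ K := le_sup_left
  have hHK : H ≤ K := le_sup_right
  have hconj : ∀ (g x : K), x ∈ MulAut.conj g • H.subgroupOf K ↔ (g : G)⁻¹ * x * g ∈ H := by
    intro g x
    simp [Subgroup.mem_pointwise_smul_iff_inv_smul_mem, MulAut.smul_def, Subgroup.mem_subgroupOf,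
      mul_assoc]
  refine ⟨⟨?_, ?_, ?_⟩, ?_⟩
  · rw [Ne, Subgroup.subgroupOf_eq_bot, disjoint_iff, inf_eq_left.2 hHK]; exact hH
  · rw [Ne, Subgroup.subgroupOf_eq_top]
    intro hle
    exact hN1 (eq_bot_iff.2 fun a ha => Subgroup.mem_bot.2 (hdisj a (hle (hNK ha)) ha))
  · intro g hg
    obtain ⟨n, hn, h, hh, e⟩ := hdec g
    rw [eq_bot_iff]
    rintro x ⟨hx1, hx2⟩
    have hy : (g : G)⁻¹ * x * g ∈ H := (hconj g x).1 hx2
    rw [Subgroup.mem_bot]
    by_contra hx
    have hx1' : (x : G) ∈ H := hx1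
    have hn1 : n ≠ 1 := fun h1 => hg (by rw [Subgroup.mem_subgroupOf, e, h1, one_mul]; exact hh)
    have hmem : n⁻¹ * x * n ∈ H := by
      have : h * ((g : G)⁻¹ * x * g) * h⁻¹ ∈ H := mul_mem (mul_mem hh hy) (inv_mem hh)
      have e2 : n⁻¹ * x * n = h * ((g : G)⁻¹ * x * g) * h⁻¹ := by rw [e]; group
      rw [e2]; exact this
    have hz : (x : G)⁻¹ * (n⁻¹ * x * n) = 1 := by
      refine hdisj _ (mul_mem (inv_mem hx1') hmem) ?_
      have e3 : (x : G)⁻¹ * (n⁻¹ * x * n) = ((x : G)⁻¹ * n⁻¹ * ((x : G)⁻¹)⁻¹) * n := by group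
      rw [e3]
      exact mul_mem ((‹N.Normal›).conj_mem _ (inv_mem hn) _) hn
    refine hn1 (hfpf x hx1' (fun h1 => hx (Subtype.ext h1)) n hn ?_)
    calc n * x = n * x * ((x : G)⁻¹ * (n⁻¹ * x * n)) := by rw [hz, mul_one]
      _ = x * n := by group
  · ext x
    simp only [Cfsg.frobeniusKernel, Set.mem_setOf_eq, SetLike.mem_coe, Subgroup.mem_subgroupOf,
      hconj]
    constructor
    · intro hx
      by_contra hxN
      rcases hx with rfl | hx
      · exact hxN N.one_mem
      obtain ⟨n, hn, h, hh, e⟩ := hdec x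
      have h1 : h ≠ 1 := fun h1 => hxN (by rw [e, h1, mul_one]; exact hn)
      let φ : N → N := fun m => ⟨(m : G) * (h * (m : G)⁻¹ * h⁻¹),
        mul_mem m.2 ((‹N.Normal›).conj_mem _ (inv_mem m.2) _)⟩
      have hinj : Function.Injective φ := by
        intro a b hab
        have hab' : (a : G) * (h * (a : G)⁻¹ * h⁻¹) = b * (h * (b : G)⁻¹ * h⁻¹) := congrArg Subtype.val hab
        have hc : ((b : G)⁻¹ * a) * h = h * ((b : G)⁻¹ * a) := by
          calc ((b : G)⁻¹ * a) * h = (b : G)⁻¹ * ((a : G) * (h * (a : G)⁻¹ * h⁻¹)) * (h * a) := by group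
            _ = (b : G)⁻¹ * (b * (h * (b : G)⁻¹ * h⁻¹)) * (h * a) := by rw [hab']
            _ = h * ((b : G)⁻¹ * a) := by group
        exact Subtype.ext (inv_mul_eq_one.1 (hfpf h hh h1 _ (mul_mem (inv_mem b.2) a.2) hc)).symm
      obtain ⟨m, hm⟩ := Finite.injective_iff_surjective.1 hinj ⟨n, hn⟩
      have hm' : (m : G) * (h * (m : G)⁻¹ * h⁻¹) = n := congrArg Subtype.val hm
      refine hx ⟨m, hNK m.2⟩ ?_
      show (m : G)⁻¹ * x * m ∈ H
      rw [e, ← hm']
      have : (m : G)⁻¹ * ((m : G) * (h * (m : G)⁻¹ * h⁻¹) * h) * m = h := by group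
      rwa [this]
    · intro hx
      by_cases hx1 : x = 1
      · exact Or.inl hx1
      refine Or.inr fun g hg => hx1 ?_
      have := hdisj _ hg (by
        have := (‹N.Normal›).conj_mem _ hx (g : G)⁻¹
        rwa [inv_inv] at this)
      exact Subtype.ext (by
        calc (x : G) = g * ((g : G)⁻¹ * x * g) * (g : G)⁻¹ := by group
          _ = _ := by rw [this]; simp)

end Cfsg.Agent.S4108
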