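import Cfsg.Statements.S4112
import Cfsg.Agent.S0049
import Cfsg.Agent.Fusion.PGroup

set_option autoImplicit false
open Cfsg

namespace Cfsg.Agent.S4112

/-- Let G be a finite group and M ≤ N non-trivial proper normal subgroups such that for every g outside N the conjugacy class of g is a union of cosets of M (equivalently gm is conjugate to g for every m ∈ M). Then (1) and (2) below are equivalent, and they imply (3): (1) every g outside N acts fixed-point-freely on M, that is C_G(x) ≤ N for every x ∈ M, x ≠ 1; (2) the index of N in G is coprime to the order of M; (3) there is a subgroup H of G with HN = G and H ∩ M = 1. -/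
theorem result {G : Type*} [Group G] [Finite G] (N M : Subgroup G) [N.Normal] [M.Normal] (hMN : M ≤ N) (hM1 : M ≠ ⊥) (hN2 : N ≠ ⊤)
    (hcam : ∀ g : G, g ∉ N → ∀ m ∈ M, ∃ x : G, x * g * x⁻¹ = g * m) :
    ((∀ x ∈ M, x ≠ 1 → Subgroup.centralizer ({x} : Set G) ≤ N) ↔ N.index.Coprime (Nat.card M)) ∧
    ((∀ x ∈ M, x ≠ 1 → Subgroup.centralizer ({x} : Set G) ≤ N) → ∃ H : Subgroup G, H ⊔ N = ⊤ ∧ H ⊓ M = ⊥) := by
  classical
  have h12 : (∀ x ∈ M, x ≠ 1 → Subgroup.centralizer ({x} : Set G) ≤ N) →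
      N.index.Coprime (Nat.card M) := by
    intro h
    refine Nat.coprime_of_dvd fun p hp h1 h2 => ?_
    haveI := Fact.mk hp
    obtain ⟨P⟩ : Nonempty (Sylow p G) := inferInstance
    have hMP : M.subgroupOf (P : Subgroup G) ≠ ⊥ := by
      intro hb
      obtain ⟨y, hy⟩ := exists_prime_orderOf_dvd_card' p h2
      rw [← Subgroup.orderOf_coe] at hy
      obtain ⟨T, hT⟩ := (IsPGroup.of_card (n := 1) (by rw [Nat.card_zpowers, hy, pow_one]) :
        IsPGroup p (Subgroup.zpowers (y : G))).exists_le_sylow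
      obtain ⟨u, hu⟩ := MulAction.exists_smul_eq G T P
      have hmem : u * (y : G) * u⁻¹ ∈ (P : Subgroup G) := by
        rw [← hu]
        exact ⟨y, hT (Subgroup.mem_zpowers _), rfl⟩
      have h3 : u * (y : G) * u⁻¹ = 1 := by
        rw [Subgroup.subgroupOf_eq_bot, disjoint_iff] at hb
        exact Subgroup.mem_bot.1 (hb ▸ Subgroup.mem_inf.2 ⟨Subgroup.Normal.conj_mem inferInstance _ y.2 u, hmem⟩)
      rw [conj_eq_one_iff] at h3
      rw [h3, orderOf_one] at hy
      exact hp.ne_one hy.symm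
    obtain ⟨z, ⟨hzM, hzc⟩, hz1⟩ := (Subgroup.bot_or_exists_ne_one _).resolve_left
      (Fusion.pGroup_inf_center_ne_bot P.isPGroup' _ hMP)
    have hPN : (P : Subgroup G) ≤ N := fun u hu => h z hzM (fun e => hz1 (Subtype.ext e))
      (Subgroup.mem_centralizer_singleton_iff.2
        (congrArg Subtype.val (Subgroup.mem_center_iff.1 hzc ⟨u, hu⟩)))
    exact P.not_dvd_index (h1.trans (Subgroup.index_dvd_of_le hPN))
  have h21 : N.index.Coprime (Nat.card M) →
      ∀ x ∈ M, x ≠ 1 → Subgroup.centralizer ({x} : Set G) ≤ N := by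
    intro hc x hx hx1 g hg
    have hgx : g * x = x * g := Subgroup.mem_centralizer_singleton_iff.1 hg
    clear hg
    by_contra hgN
    induction hn : orderOf g using Nat.strong_induction_on generalizing g with
    | _ o ih =>
    subst hn
    by_cases hco : (orderOf g).Coprime (Nat.card M)
    · obtain ⟨u, hu⟩ := hcam g hgN x hx
      have h3 : orderOf (g * x) = orderOf g := by
        rw [← hu]
        exact (MulEquiv.orderOf_eq (MulAut.conj u) g)
      rw [(Commute.orderOf_mul_eq_mul_orderOf_of_coprime hgx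
        (hco.coprime_dvd_right (Subgroup.orderOf_dvd_natCard M hx)))] at h3
      exact hx1 (orderOf_eq_one_iff.1 ((Nat.mul_eq_left (orderOf_pos g).ne').1 h3))
    · obtain ⟨r, hr, hrg, hrM⟩ := Nat.Prime.not_coprime_iff_dvd.1 hco
      refine ih (orderOf (g ^ r)) ?_ (g := g ^ r) (Commute.pow_left hgx r) ?_ rfl
      · rw [orderOf_pow_of_dvd hr.ne_zero hrg]
        exact Nat.div_lt_self (orderOf_pos g) hr.one_lt
      · intro h4
        refine hgN ((QuotientGroup.eq_one_iff g).1 (orderOf_eq_one_iff.1 ?_))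
        refine Nat.eq_one_of_dvd_coprimes (hc.coprime_dvd_right hrM).symm ?_ (orderOf_dvd_natCard (g : G ⧸ N))
        refine orderOf_dvd_of_pow_eq_one ?_
        rw [← QuotientGroup.mk_pow, QuotientGroup.eq_one_iff]
        exact h4
  refine ⟨⟨h12, h21⟩, fun h => ?_⟩
  have hc := h12 h
  obtain ⟨H, hH, hmin⟩ := Set.Finite.exists_minimal
    (Set.toFinite {H : Subgroup G | H ⊔ N = ⊤}) ⟨⊤, top_sup_eq N⟩
  refine ⟨H, hH, ?_⟩
  have hF : N.subgroupOf H ≤ frattini H := Core.le_frattini fun K hK => by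
    by_contra hle
    have hsup : K ⊔ N.subgroupOf H = ⊤ := hK.2 _ (left_lt_sup.2 hle)
    have h4 : K.map H.subtype ⊔ N = ⊤ := by
      rw [eq_top_iff, ← hH, sup_le_iff]
      refine ⟨fun v hv => ?_, le_sup_right⟩
      have h5 : (⟨v, hv⟩ : H) ∈ K ⊔ N.subgroupOf H := hsup ▸ Subgroup.mem_top _
      obtain ⟨a, ha, c, hcN, e⟩ := Subgroup.mem_sup_of_normal_right.1 h5
      rw [← show (a : G) * (c : G) = v from congrArg Subtype.val e]
      exact Subgroup.mul_mem_sup ⟨a, ha, rfl⟩ hcN
    have h6 : H ≤ K.map H.subtype := hmin h4 (Subgroup.map_subtype_le K)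
    refine hK.1 (eq_top_iff.2 fun v _ => ?_)
    obtain ⟨w, hw, e⟩ := h6 v.2
    exact (Subtype.ext e : w = v) ▸ hw
  refine disjoint_iff.1 (Subgroup.disjoint_of_coprime_natCard ?_)
  refine Nat.coprime_of_dvd fun r hr h7 h8 => ?_
  have h9 := ((S0049.result r hr h7).trans (Subgroup.index_dvd_of_le hF)).trans
    (Subgroup.relIndex_dvd_index_of_normal (H := N) (K := H))
  exact hr.not_dvd_one ((Nat.Coprime.eq_one_of_dvd (hc.coprime_dvd_left h9) h8) ▸ dvd_rfl)

end Cfsg.Agent.S4112
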