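import Cfsg.Statements.S4113
-- import your own Cfsg.Agent.* helpers here

set_option autoImplicit false
open Cfsg
open scoped commutatorElement Pointwise

namespace Cfsg.Agent.S4113

/-- Let G be a finite group, M ≤ N non-trivial proper normal subgroups, and H a subgroup with HM = G and H ∩ M = 1. Then every element of G outside N acts fixed-point-freely on M (C_G(x) ≤ N for every x ∈ M, x ≠ 1) if and only if H ∩ gHg⁻¹ ≤ H ∩ N for every g outside H, with H proper and non-trivial and H ∩ N proper in H. -/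
theorem result {G : Type*} [Group G] [Finite G] (N M : Subgroup G) [N.Normal] [M.Normal] (hMN : M ≤ N) (hM1 : M ≠ ⊥) (hN2 : N ≠ ⊤)
    (H : Subgroup G) (hHM : H ⊔ M = ⊤) (hHM' : H ⊓ M = ⊥) :
    (∀ x ∈ M, x ≠ 1 → Subgroup.centralizer ({x} : Set G) ≤ N) ↔
      (H ≠ ⊥ ∧ H ≠ ⊤ ∧ H ⊓ N < H ∧ ∀ g : G, g ∉ H → H ⊓ H.map (MulAut.conj g).toMonoidHom ≤ N) := by
  have hset : ∀ g : G, ∃ m ∈ M, ∃ h ∈ H, g = m * h := fun g => by
    have : g ∈ ((M ⊔ H : Subgroup G) : Set G) := by rw [sup_comm, hHM]; trivial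
    rw [Subgroup.normal_mul] at this
    obtain ⟨m, hm, h, hh, rfl⟩ := this
    exact ⟨m, hm, h, hh, rfl⟩
  have hnorm := (inferInstance : M.Normal)
  constructor
  · intro hfpf
    refine ⟨fun h => ?_, fun h => ?_, lt_of_le_of_ne inf_le_left fun h => ?_, fun g hg y hy => ?_⟩
    · rw [h, bot_sup_eq] at hHM
      exact hN2 (top_le_iff.mp (hHM ▸ hMN))
    · rw [h, top_inf_eq] at hHM'
      exact hM1 hHM'
    · exact hN2 (top_le_iff.mp (hHM ▸ sup_le (inf_eq_left.mp h) hMN))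
    · obtain ⟨m, hm, h, hh, rfl⟩ := hset g
      obtain ⟨hyH, z, hz, hzy⟩ := hy
      replace hzy : m * h * z * (m * h)⁻¹ = y := hzy
      set h' := h * z * h⁻¹ with hh'
      have hh'H : h' ∈ H := H.mul_mem (H.mul_mem hh hz) (H.inv_mem hh)
      have hy' : y = m * h' * m⁻¹ := by rw [← hzy, hh']; group
      have h1 : y * h'⁻¹ ∈ H ⊓ M := ⟨H.mul_mem hyH (H.inv_mem hh'H), by
        rw [hy', show m * h' * m⁻¹ * h'⁻¹ = m * (h' * m⁻¹ * h'⁻¹) by group]
        exact mul_mem hm (hnorm.conj_mem _ (inv_mem hm) h')⟩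
      rw [hHM', Subgroup.mem_bot, mul_inv_eq_one] at h1
      refine hfpf m hm (fun h' => hg (by rw [h', one_mul]; exact hh)) (Subgroup.mem_centralizer_singleton_iff.mpr ?_)
      rw [← h1] at hy'
      exact mul_inv_eq_iff_eq_mul.mp hy'.symm |>.symm
  · rintro ⟨-, -, -, hconj⟩ x hx hx1 c hc
    by_contra hcN
    obtain ⟨m₀, hm₀, h, hh, rfl⟩ := hset c
    have hhN : h ∉ N := fun hh' => hcN (mul_mem (hMN hm₀) hh')
    have hfree : ∀ z ∈ M, h * z = z * h → z = 1 := fun z hz hzh => by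
      by_contra hz1
      refine hhN (hconj z (fun hzH => hz1 (Subgroup.mem_bot.mp (hHM' ▸ ⟨hzH, hz⟩))) ⟨hh, h, hh, ?_⟩)
      show z * h * z⁻¹ = h
      rw [← hzh, mul_inv_cancel_right]
    let f : M → M := fun a => ⟨(a : G) * (h * (a : G)⁻¹ * h⁻¹), mul_mem a.2 (hnorm.conj_mem _ (inv_mem a.2) h)⟩
    have hf : Function.Injective f := fun a b hab => by
      have h1 : (a : G) * (h * (a : G)⁻¹ * h⁻¹) = b * (h * (b : G)⁻¹ * h⁻¹) := congrArg Subtype.val hab
      have h2 : h * ((b : G)⁻¹ * a) = (b : G)⁻¹ * a * h := by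
        calc h * ((b : G)⁻¹ * a) = (b : G)⁻¹ * (b * (h * (b : G)⁻¹ * h⁻¹)) * h * a := by group
          _ = (b : G)⁻¹ * (a * (h * (a : G)⁻¹ * h⁻¹)) * h * a := by rw [h1]
          _ = (b : G)⁻¹ * a * h := by group
      exact Subtype.ext (inv_mul_eq_one.mp (hfree _ (mul_mem (Subgroup.inv_mem _ b.2) a.2) h2)).symm
    obtain ⟨a, ha⟩ := (Finite.injective_iff_surjective.mp hf) ⟨m₀, hm₀⟩
    have ha' : (a : G) * (h * (a : G)⁻¹ * h⁻¹) = m₀ := congrArg Subtype.val ha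
    have hc' : m₀ * h * x = x * (m₀ * h) := Subgroup.mem_centralizer_singleton_iff.mp hc
    rw [← ha'] at hc'
    have h1 : h * ((a : G)⁻¹ * x * a) = (a : G)⁻¹ * x * a * h := by
      calc h * ((a : G)⁻¹ * x * a) = (a : G)⁻¹ * ((a : G) * (h * (a : G)⁻¹ * h⁻¹) * h * x) * a := by group
        _ = (a : G)⁻¹ * (x * ((a : G) * (h * (a : G)⁻¹ * h⁻¹) * h)) * a := by rw [hc']
        _ = (a : G)⁻¹ * x * a * h := by group
    have h2 := hfree _ (by simpa using hnorm.conj_mem x hx (a : G)⁻¹) h1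
    refine hx1 ?_
    rw [show x = (a : G) * ((a : G)⁻¹ * x * a) * (a : G)⁻¹ by group, h2, mul_one, mul_inv_cancel]

end Cfsg.Agent.S4113
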