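import Cfsg.Statements.S4116
-- import your own Cfsg.Agent.* helpers here

set_option autoImplicit false
open Cfsg

namespace Cfsg.Agent.S4116
theorem card_dvd_of_free {K Ω : Type*} [Group K] [Finite K] [MulAction K Ω] [Finite Ω] (p : Ω → Prop)
    (hp : ∀ (k : K) ω, p ω → p (k • ω)) (hfree : ∀ ω, p ω → MulAction.stabilizer K ω = ⊥) :
    Nat.card K ∣ Nat.card {ω : Ω // p ω} := by
  let _i : MulAction K {ω : Ω // p ω} :=
    { smul := fun k ω => ⟨k • ω.1, hp k _ ω.2⟩
      one_smul := fun ω => Subtype.ext (one_smul K ω.1)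
      mul_smul := fun a b ω => Subtype.ext (mul_smul a b ω.1) }
  have hst : ∀ ω : {ω : Ω // p ω}, MulAction.stabilizer K ω = ⊥ := fun ω => by
    rw [← hfree ω.1 ω.2]; ext k
    simp only [MulAction.mem_stabilizer_iff]
    exact ⟨fun h => congrArg Subtype.val h, fun h => Subtype.ext h⟩
  have := Fintype.ofFinite (MulAction.orbitRel.Quotient K {ω : Ω // p ω})
  rw [Nat.card_congr (MulAction.selfEquivSigmaOrbitsQuotientStabilizer K {ω : Ω // p ω}), Nat.card_sigma]
  refine Finset.dvd_sum fun i _ => ?_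
  rw [hst, Nat.card_congr QuotientGroup.quotientBot.toEquiv]

theorem exists_fixed {K Ω : Type*} [Group K] [Finite K] [MulAction K Ω] [Finite Ω]
    (hTI : ∀ a b : Ω, a ≠ b → MulAction.stabilizer K a ⊓ MulAction.stabilizer K b = ⊥)
    (hmod : Nat.card Ω ≡ 1 [MOD Nat.card K]) [Nonempty Ω] : ∃ ω : Ω, ∀ k : K, k • ω = ω := by
  classical
  by_contra hno
  push Not at hno
  set n := Nat.card K with hn
  have hn1 : 1 < n := by
    obtain ⟨ω⟩ := ‹Nonempty Ω›
    obtain ⟨k, hk⟩ := hno ω
    exact Finite.one_lt_card_iff_nontrivial.mpr ⟨k, 1, fun h => hk (h ▸ one_smul K ω)⟩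
  let E : Ω → Prop := fun ω => MulAction.stabilizer K ω ≠ ⊥
  have hEinv : ∀ (k : K) ω, E ω → E (k • ω) := fun k ω h h' => h (by
    rw [eq_bot_iff]; intro x hx
    have hx' : k * x * k⁻¹ ∈ MulAction.stabilizer K (k • ω) := by
      rw [MulAction.mem_stabilizer_iff, mul_smul, inv_smul_smul, mul_smul, hx]
    rw [h', Subgroup.mem_bot, mul_inv_eq_one, mul_eq_left] at hx'
    exact hx')
  have hfreedvd : n ∣ Nat.card {ω : Ω // ¬ E ω} := card_dvd_of_free _
    (fun k ω h h' => h (by simpa using hEinv k⁻¹ (k • ω) h')) (fun ω h => not_not.mp h)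
  have hsplit : Nat.card {ω : Ω // E ω} + Nat.card {ω : Ω // ¬ E ω} = Nat.card Ω := by
    rw [← Nat.card_sum, Nat.card_congr (Equiv.sumCompl E)]
  have hEmod : Nat.card {ω : Ω // E ω} % n = 1 := by
    rw [Nat.ModEq, ← hsplit, Nat.mod_eq_of_lt hn1] at hmod
    obtain ⟨c, hc⟩ := hfreedvd
    rwa [hc, Nat.add_mul_mod_self_left] at hmod
  obtain ⟨⟨ω, hω⟩⟩ : Nonempty {ω : Ω // E ω} := by
    by_contra h
    rw [not_nonempty_iff] at h
    rw [Nat.card_of_isEmpty, Nat.zero_mod] at hEmod
    omega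
  -- nontrivial stabilisers are disjoint
  have hcount : ∀ S : Finset Ω, ∑ a ∈ S, (Nat.card (MulAction.stabilizer K a) - 1) ≤ n - 1 := fun S => by
    have := Fintype.ofFinite K
    have e : ∀ a : Ω, Nat.card (MulAction.stabilizer K a) - 1 = ((MulAction.stabilizer K a : Set K).toFinset.erase 1).card := fun a => by
      rw [Finset.card_erase_of_mem (by simp), Set.toFinset_card, Nat.card_eq_fintype_card]
      rfl
    simp only [e]
    rw [← Finset.card_biUnion (fun a _ b _ hab => Finset.disjoint_left.mpr fun x hxa hxb => by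
      simp only [Finset.mem_erase, Set.mem_toFinset, SetLike.mem_coe] at hxa hxb
      exact hxa.1 (Subgroup.mem_bot.mp (hTI a b hab ▸ ⟨hxa.2, hxb.2⟩)))]
    refine le_trans (Finset.card_le_card (t := (Finset.univ : Finset K).erase 1) fun x hx => ?_)
      (by rw [Finset.card_erase_of_mem (Finset.mem_univ _), Finset.card_univ, hn, Nat.card_eq_fintype_card])
    simp only [Finset.mem_biUnion, Finset.mem_erase] at hx
    obtain ⟨a, -, hx1, -⟩ := hx
    exact Finset.mem_erase.mpr ⟨hx1, Finset.mem_univ x⟩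
  have := Fintype.ofFinite Ω
  have horb : ∀ a : Ω, E a → 2 * (MulAction.orbit K a).toFinset.card ≤ n ∧
      ∑ b ∈ (MulAction.orbit K a).toFinset, (Nat.card (MulAction.stabilizer K b) - 1) + (MulAction.orbit K a).toFinset.card = n := by
    intro a ha
    have hos : ∀ b ∈ (MulAction.orbit K a).toFinset,
        (MulAction.orbit K a).toFinset.card * Nat.card (MulAction.stabilizer K b) = n := fun b hb => by
      rw [Set.mem_toFinset] at hb
      have h := Nat.card_congr (MulAction.orbitProdStabilizerEquivGroup K b)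
      rw [Nat.card_prod, MulAction.orbit_eq_iff.mpr hb] at h
      rw [hn, ← h, Nat.card_eq_fintype_card (α := ↥(MulAction.orbit K a)), Set.toFinset_card]
    have hs := hos a (by simp)
    have hs2 : 2 ≤ Nat.card (MulAction.stabilizer K a) := (Subgroup.one_lt_card_iff_ne_bot _).mpr ha
    refine ⟨by rw [← hs, mul_comm]; exact Nat.mul_le_mul_left _ hs2, ?_⟩
    have hconst : ∀ b ∈ (MulAction.orbit K a).toFinset,
        Nat.card (MulAction.stabilizer K b) - 1 = Nat.card (MulAction.stabilizer K a) - 1 := fun b hb => by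
      congr 1
      exact Nat.eq_of_mul_eq_mul_left (Finset.card_pos.mpr ⟨b, hb⟩) ((hos b hb).trans hs.symm)
    rw [Finset.sum_congr rfl hconst, Finset.sum_const, smul_eq_mul, ← hs, Nat.mul_sub, mul_one,
      Nat.sub_add_cancel (Nat.le_mul_of_pos_right _ (by omega))]
  have hEorb : ∀ a : Ω, E a → a ∈ MulAction.orbit K ω := by
    intro a ha
    by_contra hna
    have hdis : Disjoint (MulAction.orbit K ω).toFinset (MulAction.orbit K a).toFinset := by
      rw [Set.disjoint_toFinset]
      refine Set.disjoint_left.mpr fun b hb hb' => hna ?_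
      rw [← MulAction.orbit_eq_iff.mpr hb, MulAction.orbit_eq_iff.mpr hb']
      exact MulAction.mem_orbit_self a
    have h := hcount ((MulAction.orbit K ω).toFinset ∪ (MulAction.orbit K a).toFinset)
    rw [Finset.sum_union hdis] at h
    obtain ⟨h1, h2⟩ := horb ω hω
    obtain ⟨h3, h4⟩ := horb a ha
    omega
  have hcard : Nat.card {a : Ω // E a} = (MulAction.orbit K ω).toFinset.card := by
    rw [Set.toFinset_card, ← Nat.card_eq_fintype_card]
    refine Nat.card_congr (Equiv.subtypeEquivRight fun a => ⟨hEorb a, ?_⟩)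
    rintro ⟨k, rfl⟩
    exact hEinv k ω hω
  have hlt : (MulAction.orbit K ω).toFinset.card < n := by
    have := (horb ω hω).1
    omega
  rw [hcard, Nat.mod_eq_of_lt hlt, Finset.card_eq_one] at hEmod
  obtain ⟨w, hw⟩ := hEmod
  obtain ⟨k, hk⟩ := hno ω
  apply hk
  have h1 : k • ω ∈ ({w} : Finset Ω) := hw ▸ Set.mem_toFinset.mpr (MulAction.mem_orbit ω k)
  have h2 : ω ∈ ({w} : Finset Ω) := hw ▸ Set.mem_toFinset.mpr (MulAction.mem_orbit_self ω)
  rw [Finset.mem_singleton] at h1 h2
  rw [h1, h2]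



/-- Let G be a finite group with a subgroup H whose order is coprime to its index (a Hall subgroup) and which meets each of its conjugates by elements outside N_G(H) trivially. Then every subgroup of G whose order is divisible only by primes dividing the order of H lies in a conjugate of H. -/
theorem result {G : Type*} [Group G] [Finite G] (H : Subgroup G)
    (hHall : (Nat.card H).Coprime H.index) (hTI : Cfsg.IsTISubset (H : Set G))
    (K : Subgroup G) (hK : ∀ q : ℕ, q.Prime → q ∣ Nat.card K → q ∣ Nat.card H) :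
    ∃ g : G, K ≤ H.map (MulAut.conj g).toMonoidHom := by
  set N := Subgroup.normalizer (H : Set G) with hN
  have hHN : H ≤ N := Subgroup.le_normalizer
  have hin : ∀ x ∈ N, orderOf x ∣ Nat.card H → x ∈ H := fun x hx hd => by
    have : (H.subgroupOf N).Normal := Subgroup.normal_in_normalizer
    have h1 : orderOf (QuotientGroup.mk' (H.subgroupOf N) ⟨x, hx⟩) ∣ Nat.gcd (Nat.card H) H.index := by
      refine Nat.dvd_gcd ((orderOf_map_dvd _ _).trans (by rwa [Subgroup.orderOf_mk])) ?_
      refine (orderOf_dvd_natCard _).trans ?_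
      rw [← Subgroup.index_eq_card]
      exact Subgroup.relIndex_dvd_index_of_le hHN
    rw [hHall.gcd_eq_one, Nat.dvd_one, orderOf_eq_one_iff, QuotientGroup.mk'_apply, QuotientGroup.eq_one_iff] at h1
    exact Subgroup.mem_subgroupOf.mp h1
  have hKH : Nat.card K ∣ Nat.card H := by
    have h1 : Nat.card K ∣ Nat.card H * H.index := by
      rw [Subgroup.card_mul_index]; exact Subgroup.card_subgroup_dvd_card K
    refine (Nat.Coprime.dvd_mul_right (Nat.coprime_of_dvd fun q hq hqK hqi => ?_)).mp h1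
    exact hq.ne_one (Nat.dvd_one.mp (hHall ▸ Nat.dvd_gcd (hK q hq hqK) hqi))
  have hst : ∀ (L : Subgroup G) (g : G) (x : L), Nat.card L ∣ Nat.card H →
      x • (QuotientGroup.mk g : G ⧸ N) = QuotientGroup.mk g → g⁻¹ * (x : G) * g ∈ H := by
    intro L g x hd hx
    change (((x : G) * g : G) : G ⧸ N) = _ at hx
    rw [eq_comm, QuotientGroup.eq, ← mul_assoc] at hx
    refine hin _ hx ?_
    have : orderOf (g⁻¹ * (x : G) * g) = orderOf (x : G) := by
      simpa using (MulAut.conj g⁻¹).orderOf_eq (x : G)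
    rw [this, Subgroup.orderOf_coe]
    exact (orderOf_dvd_natCard x).trans hd
  have hTI' : ∀ (g₁ g₂ : G) (y : G), (QuotientGroup.mk g₁ : G ⧸ N) ≠ QuotientGroup.mk g₂ →
      g₁⁻¹ * y * g₁ ∈ H → g₂⁻¹ * y * g₂ ∈ H → y = 1 := fun g₁ g₂ y hne h1 h2 => by
    have h := hTI (g₂⁻¹ * g₁) (fun hh => hne (QuotientGroup.eq.mpr (by
      have := N.inv_mem hh; rwa [mul_inv_rev, inv_inv] at this))) _ h1
      (by rwa [show g₂⁻¹ * g₁ * (g₁⁻¹ * y * g₁) * (g₂⁻¹ * g₁)⁻¹ = g₂⁻¹ * y * g₂ by group])
    calc y = g₁ * (g₁⁻¹ * y * g₁) * g₁⁻¹ := by group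
      _ = 1 := by rw [h]; group
  have hmod : Nat.card (G ⧸ N) ≡ 1 [MOD Nat.card H] := by
    classical
    have hdvd := card_dvd_of_free (K := H) (Ω := G ⧸ N) (fun ω => ω ≠ ((1 : G) : G ⧸ N))
      (fun h ω hω hh => hω (by
        have h1 : h⁻¹ • ((1 : G) : G ⧸ N) = ((1 : G) : G ⧸ N) := by
          change ((((h⁻¹ : ↥H) : G) * 1 : G) : G ⧸ N) = _
          rw [mul_one, QuotientGroup.eq, mul_one]
          exact N.inv_mem (hHN (h⁻¹).2)
        rw [← inv_smul_smul h ω, hh, h1]))
      (fun ω hω => by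
        obtain ⟨g, rfl⟩ := QuotientGroup.mk_surjective ω
        rw [eq_bot_iff]
        intro x hx
        rw [Subgroup.mem_bot]
        refine Subtype.ext (hTI' g 1 (x : G) hω (hst H g x dvd_rfl hx) ?_)
        simp)
    have hc : Nat.card {ω : G ⧸ N // ω ≠ ((1 : G) : G ⧸ N)} + 1 = Nat.card (G ⧸ N) := by
      have := Fintype.ofFinite (G ⧸ N)
      have : 0 < Fintype.card (G ⧸ N) := Fintype.card_pos
      rw [Nat.card_eq_fintype_card, Nat.card_eq_fintype_card, Fintype.card_subtype_compl, Fintype.card_subtype_eq]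
      omega
    obtain ⟨c, hc'⟩ := hdvd
    rw [← hc, hc', Nat.ModEq, add_comm, Nat.add_mul_mod_self_left]
  obtain ⟨ω, hω⟩ := exists_fixed (K := K) (Ω := G ⧸ N) (fun a b hab => by
    obtain ⟨g₁, rfl⟩ := QuotientGroup.mk_surjective a
    obtain ⟨g₂, rfl⟩ := QuotientGroup.mk_surjective b
    rw [eq_bot_iff]
    intro x hx
    rw [Subgroup.mem_bot]
    exact Subtype.ext (hTI' g₁ g₂ x hab (hst K g₁ x hKH hx.1) (hst K g₂ x hKH hx.2)))
    (hmod.of_dvd hKH)
  obtain ⟨g, rfl⟩ := QuotientGroup.mk_surjective ω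
  refine ⟨g, fun y hy => ⟨g⁻¹ * y * g, hst K g ⟨y, hy⟩ hKH (hω _), ?_⟩⟩
  simp [mul_assoc]

end Cfsg.Agent.S4116
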