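import Cfsg.Statements.S4115
import Mathlib
import Cfsg.Agent.TIComplement.Basic
import Cfsg.Agent.Coprime.Basic
import Cfsg.Agent.S4116

set_option autoImplicit false
universe u
open Cfsg

namespace Cfsg.Agent.S4115

theorem mem_of_ti {G : Type*} [Group G] {H : Subgroup G} (hTI : Cfsg.IsTISubset (H : Set G)) {g x : G}
    (hx : x ∈ H) (hx1 : x ≠ 1) (hg : g * x * g⁻¹ ∈ H) : g ∈ Subgroup.normalizer (H : Set G) :=
  by_contra fun h => hx1 (hTI g h x hx hg)

theorem hall_of_ti {G : Type*} [Group G] [Finite G] {H : Subgroup G} (hH : H ≠ ⊥) (hTI : Cfsg.IsTISubset (H : Set G))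
    (hHall : (Nat.card H).Coprime (H.subgroupOf (Subgroup.normalizer (H : Set G))).index) :
    (Nat.card H).Coprime H.index := by
  refine Nat.coprime_of_dvd fun p hp hpH hpi => ?_
  haveI := Fact.mk hp
  set M := Subgroup.normalizer (H : Set G)
  obtain ⟨S⟩ : Nonempty (Sylow p H) := inferInstance
  set Sg := (S : Subgroup H).map H.subtype with hSg
  have hSH : Sg ≤ H := Subgroup.map_subtype_le _
  obtain ⟨x, hx, hx1⟩ : ∃ x ∈ Sg, x ≠ 1 := by
    have hne : Sg ≠ ⊥ := by
      rw [hSg, Ne, Subgroup.map_eq_bot_iff_of_injective _ H.subtype_injective]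
      exact S.ne_bot_of_dvd_card hpH
    exact (Subgroup.bot_or_exists_ne_one Sg).resolve_left hne
  have hSp : IsPGroup p Sg := S.2.map _
  obtain ⟨R, hR⟩ := hSp.exists_le_sylow
  have hnS : Subgroup.normalizer (Sg : Set G) ≤ M := fun g hg =>
    mem_of_ti hTI (hSH hx) hx1 (hSH ((Subgroup.mem_normalizer_iff.1 hg x).1 hx))
  have hSS : (R : Subgroup G) ⊓ H = Sg := by
    refine le_antisymm ?_ (le_inf hR hSH)
    intro y hy
    have hle : (S : Subgroup H) ≤ ((R : Subgroup G).subgroupOf H) := fun z hz => hR ⟨z, hz, rfl⟩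
    have := S.3 (R.2.comap_of_injective H.subtype H.subtype_injective) hle
    exact ⟨⟨y, hy.2⟩, this ▸ hy.1, rfl⟩
  have hRM : ∀ y ∈ (R : Subgroup G) ⊓ M, y ∈ Sg := by
    intro y hy
    rw [← hSS]
    refine ⟨hy.1, ?_⟩
    obtain ⟨k, hk⟩ := IsPGroup.iff_orderOf.1 R.2 ⟨y, hy.1⟩
    rw [Subgroup.orderOf_mk] at hk
    haveI : (H.subgroupOf M).Normal := Subgroup.normal_in_normalizer
    have hd : orderOf (QuotientGroup.mk' (H.subgroupOf M) ⟨y, hy.2⟩) ∣ p ^ k := by
      rw [← hk, ← Subgroup.orderOf_mk y hy.2]; exact orderOf_map_dvd _ _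
    have hd2 : orderOf (QuotientGroup.mk' (H.subgroupOf M) ⟨y, hy.2⟩) ∣ (H.subgroupOf M).index := orderOf_dvd_natCard _
    have : QuotientGroup.mk' (H.subgroupOf M) ⟨y, hy.2⟩ = 1 := orderOf_eq_one_iff.1
      (Nat.eq_one_of_dvd_coprimes ((Nat.Coprime.coprime_dvd_left hpH hHall).pow_left k) hd hd2)
    exact (QuotientGroup.eq_one_iff (N := H.subgroupOf M) _).1 this
  have hSR : Sg.subgroupOf (R : Subgroup G) = ⊤ := by
    haveI : Group.IsNilpotent (R : Subgroup G) := R.2.isNilpotent
    have hc : NormalizerCondition (R : Subgroup G) := Group.normalizerCondition_of_isNilpotent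
    refine normalizerCondition_iff_only_full_group_self_normalizing.1 hc _ (le_antisymm ?_ Subgroup.le_normalizer)
    intro y hy
    refine hRM _ ⟨y.2, hnS ?_⟩
    refine Subgroup.mem_normalizer_fintype fun z hz => ?_
    have hz' : (⟨z, hR hz⟩ : (R : Subgroup G)) ∈ Sg.subgroupOf (R : Subgroup G) := hz
    exact (Subgroup.mem_normalizer_iff.1 hy _).1 hz'
  have hRH : (R : Subgroup G) ≤ H := (Subgroup.subgroupOf_eq_top.1 hSR).trans hSH
  exact R.not_dvd_index (hpi.trans (Subgroup.index_dvd_of_le hRH))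

theorem mem_of_orderOf {G : Type*} [Group G] [Finite G] {H M : Subgroup G} [(H.subgroupOf M).Normal]
    (hHall : (Nat.card H).Coprime (H.subgroupOf M).index) {y : G} (hy : y ∈ M) (hd : orderOf y ∣ Nat.card H) : y ∈ H := by
  have hd1 : orderOf (QuotientGroup.mk' (H.subgroupOf M) ⟨y, hy⟩) ∣ Nat.card H :=
    (orderOf_map_dvd _ _).trans (by rwa [Subgroup.orderOf_mk])
  have hd2 : orderOf (QuotientGroup.mk' (H.subgroupOf M) ⟨y, hy⟩) ∣ (H.subgroupOf M).index := orderOf_dvd_natCard _
  have : QuotientGroup.mk' (H.subgroupOf M) ⟨y, hy⟩ = 1 := orderOf_eq_one_iff.1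
    (Nat.eq_one_of_dvd_coprimes hHall hd1 hd2)
  exact (QuotientGroup.eq_one_iff (N := H.subgroupOf M) _).1 this

open scoped Pointwise in
theorem exists_invariant_sylow_ti {G : Type*} [Group G] [Finite G] {H N : Subgroup G} [hN : N.Normal]
    (hTI : Cfsg.IsTISubset (H : Set G)) (hHall : (Nat.card H).Coprime H.index) (hc : N.IsComplement' H)
    (q : ℕ) [Fact q.Prime] :
    ∃ Q : Sylow q N, H ≤ Subgroup.normalizer ((Q : Subgroup N).map N.subtype : Set G) := by
  obtain ⟨Q⟩ : Nonempty (Sylow q N) := inferInstance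
  set L := Subgroup.normalizer ((Q : Subgroup N).map N.subtype : Set G) with hL
  have hidxN : N.index = Nat.card H := hc.symm.index_eq_card
  have hcardN : Nat.card N = H.index := hc.index_eq_card.symm
  haveI : (N.subgroupOf L).Normal := inferInstance
  have hsup : L ⊔ N = ⊤ := Sylow.normalizer_sup_eq_top Q
  have hidx : (N.subgroupOf L).index = Nat.card H := by
    rw [← hidxN]
    show N.relIndex L = N.index
    rw [← Subgroup.relIndex_sup_right, hsup, Subgroup.relIndex_top_right]
  obtain ⟨H', hH'⟩ := Subgroup.exists_right_complement'_of_coprime (N := N.subgroupOf L) (by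
    rw [hidx]
    refine Nat.Coprime.coprime_dvd_left ?_ hHall.symm
    rw [← hcardN]
    exact Subgroup.card_comap_dvd_of_injective N L.subtype L.subtype_injective)
  have hcard : Nat.card (H'.map L.subtype) = Nat.card H := by
    rw [Subgroup.card_map_of_injective L.subtype_injective, ← hH'.symm.index_eq_card, hidx]
  obtain ⟨g, hg⟩ := Cfsg.Agent.S4116.result H hHall hTI (H'.map L.subtype) fun r _ hrd => hcard ▸ hrd
  have heq : H'.map L.subtype = H.map (MulAut.conj g).toMonoidHom :=
    Subgroup.eq_of_le_of_card_ge hg (by rw [hcard, Subgroup.card_map_of_injective (MulAut.conj g).injective])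
  refine ⟨(MulAut.conjNormal g⁻¹ : MulAut N) • Q, fun h hh => ?_⟩
  have hghL : g * h * g⁻¹ ∈ L := by
    have : g * h * g⁻¹ ∈ H'.map L.subtype := heq ▸ ⟨h, hh, rfl⟩
    exact Subgroup.map_subtype_le _ this
  refine Subgroup.mem_normalizer_fintype fun x hx => ?_
  obtain ⟨_, ⟨z, hz, rfl⟩, rfl⟩ := hx
  obtain ⟨w, hw, hwe⟩ := (Subgroup.mem_normalizer_iff.1 hghL (z : G)).1 ⟨z, hz, rfl⟩
  refine ⟨(MulAut.conjNormal g⁻¹ : MulAut N) w, ⟨w, hw, rfl⟩, ?_⟩
  simp only [Subgroup.coe_subtype] at hwe ⊢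
  simp [MulAut.conjNormal_apply, hwe, mul_assoc]

universe v

open scoped Pointwise in
theorem exists_frobenius_complement {G : Type v} [Group G] [Finite G] (H N : Subgroup G) [N.Normal]
    (hcop : (Nat.card H).Coprime (Nat.card N)) (hH : H ≠ ⊥)
    (hfix : ∀ h ∈ H, h ≠ 1 → ∀ n ∈ N, h * n = n * h → n ∈ Subgroup.centralizer (H : Set G))
    (hsyl : ∀ q : ℕ, q.Prime → ∃ Q : Sylow q N, H ≤ Subgroup.normalizer ((Q : Subgroup N).map N.subtype : Set G))
    (hnt : ¬ N ≤ Subgroup.centralizer (H : Set G)) :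
    ∃ (F : Type v) (_ : Group F) (_ : Finite F) (C : Subgroup F), Cfsg.IsFrobeniusComplement C ∧ Nonempty (H ≃* C) := by
  classical
  obtain ⟨T, ⟨hTN, hTH, hTC, q, hq, hTp⟩, hmin⟩ : ∃ T, (T ≤ N ∧ H ≤ Subgroup.normalizer (T : Set G) ∧ ¬ T ≤ Subgroup.centralizer (H : Set G) ∧ ∃ q : ℕ, q.Prime ∧ IsPGroup q T) ∧
      ∀ U, (U ≤ N ∧ H ≤ Subgroup.normalizer (U : Set G) ∧ ¬ U ≤ Subgroup.centralizer (H : Set G) ∧ ∃ q : ℕ, q.Prime ∧ IsPGroup q U) → ¬ U < T := by
    refine wellFounded_lt.has_min _ ?_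
    by_contra hcon
    apply hnt
    suffices h : (Subgroup.centralizer (H : Set G)).subgroupOf N = ⊤ from Subgroup.subgroupOf_eq_top.1 h
    rw [← Subgroup.index_eq_one]
    by_contra h1
    obtain ⟨r, hr, hrd⟩ := Nat.exists_prime_and_dvd h1
    haveI := Fact.mk hr
    obtain ⟨Q, hQ⟩ := hsyl r hr
    have hle : (Q : Subgroup N) ≤ (Subgroup.centralizer (H : Set G)).subgroupOf N := by
      by_contra hne
      refine hcon ⟨_, Subgroup.map_subtype_le _, hQ, fun hh => hne fun x hx => hh ⟨x, hx, rfl⟩, r, hr, Q.2.map _⟩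
    exact Q.not_dvd_index (hrd.trans (Subgroup.index_dvd_of_le hle))
  haveI := Fact.mk hq
  haveI : Group.IsNilpotent T := hTp.isNilpotent
  have hTne : T ≠ ⊥ := fun h => hTC (h ▸ bot_le)
  haveI : Nontrivial T := (Subgroup.nontrivial_iff_ne_bot T).2 hTne
  set E := T ⊓ Subgroup.centralizer (H : Set G) with hE
  set D := (commutator T).map T.subtype with hD
  have hDlt : D < T := by
    refine lt_of_le_of_ne (Subgroup.map_subtype_le _) fun h => ?_
    have h2 : commutator T = ⊤ := Subgroup.map_injective T.subtype_injective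
      (h.trans (by rw [← MonoidHom.range_eq_map, Subgroup.range_subtype]))
    exact (Group.IsSolvable.commutator_lt_top_of_nontrivial T).ne h2
  have hDeq : D = ⁅T, T⁆ := Subgroup.map_subtype_commutator T
  have hDC : D ≤ Subgroup.centralizer (H : Set G) := by
    by_contra h
    refine hmin D ⟨hDlt.le.trans hTN, fun x hx => ?_, h, q, hq, hTp.to_le hDlt.le⟩ hDlt
    have h1 : T.map (MulAut.conj x).toMonoidHom = T := by
      ext z
      rw [Subgroup.mem_map_equiv, MulAut.conj_symm_apply]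
      exact (Subgroup.mem_normalizer_iff''.1 (hTH hx) z).symm
    rw [Subgroup.mem_normalizer_iff'']
    intro z
    rw [hDeq]
    conv_lhs => rw [← h1, ← Subgroup.map_commutator, Subgroup.mem_map_equiv, MulAut.conj_symm_apply]
  set X := T ⊔ H with hX
  have hXE : X ≤ Subgroup.normalizer (E : Set G) := by
    refine sup_le (fun t ht => Subgroup.mem_normalizer_fintype fun e he => ?_) (fun h hh => Subgroup.mem_normalizer_fintype fun e he => ?_)
    · have hc : t * e * t⁻¹ * e⁻¹ ∈ D := by rw [hDeq]; exact Subgroup.commutator_mem_commutator ht he.1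
      have := E.mul_mem (⟨hDlt.le hc, hDC hc⟩ : t * e * t⁻¹ * e⁻¹ ∈ E) he
      simpa using this
    · have := Subgroup.mem_centralizer_iff.1 he.2 h hh
      rw [this, mul_inv_cancel_right]; exact he
  haveI : (E.subgroupOf X).Normal := Subgroup.normal_subgroupOf_of_le_normalizer hXE
  let π := QuotientGroup.mk' (E.subgroupOf X)
  have hHX : H ≤ X := le_sup_right
  have hTX : T ≤ X := le_sup_left
  let C : Subgroup (X ⧸ E.subgroupOf X) := (H.subgroupOf X).map π
  have hHT : ∀ x ∈ H, x ∈ T → x = 1 := fun x hx hxT => by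
    have : x ∈ H ⊓ N := ⟨hx, hTN hxT⟩
    rwa [Subgroup.inf_eq_bot_of_coprime hcop, Subgroup.mem_bot] at this
  let f : H →* C := ((π.comp (Subgroup.inclusion hHX)).codRestrict C fun h => ⟨_, h.2, rfl⟩)
  have hfb : Function.Bijective f := by
    refine ⟨?_, ?_⟩
    · rw [← MonoidHom.ker_eq_bot_iff, Subgroup.eq_bot_iff_forall]
      intro h hh
      have : (h : G) ∈ E := (QuotientGroup.eq_one_iff (N := E.subgroupOf X) (Subgroup.inclusion hHX h)).1 (congrArg Subtype.val hh)
      exact Subtype.ext (hHT _ h.2 this.1)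
    · rintro ⟨_, x, hx, rfl⟩
      exact ⟨⟨x, hx⟩, rfl⟩
  refine ⟨X ⧸ E.subgroupOf X, inferInstance, inferInstance, C, ⟨?_, ?_, ?_⟩, ⟨MulEquiv.ofBijective f hfb⟩⟩
  · intro hC
    obtain ⟨h, hh, h1⟩ := (Subgroup.bot_or_exists_ne_one H).resolve_left hH
    have he : f ⟨h, hh⟩ = 1 := Subtype.ext (Subgroup.mem_bot.1 (hC ▸ (f ⟨h, hh⟩).2))
    exact h1 (congrArg Subtype.val (hfb.1 (he.trans (map_one f).symm)))
  · intro hC
    obtain ⟨t, ht, htC⟩ := SetLike.not_le_iff_exists.1 hTC
    obtain ⟨x, hx, hxe⟩ := (hC ▸ Subgroup.mem_top (π ⟨t, hTX ht⟩) : π ⟨t, hTX ht⟩ ∈ C)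
    have he : (x : G)⁻¹ * t ∈ E := (QuotientGroup.eq (s := E.subgroupOf X)).1 hxe
    have hxT : (x : G) ∈ T := by
      have := T.mul_mem ht (T.inv_mem he.1)
      simpa [mul_assoc] using this
    have hx1 : (x : G) = 1 := hHT _ hx hxT
    rw [hx1, inv_one, one_mul] at he
    exact htC he.2
  · intro y hy
    rw [Subgroup.eq_bot_iff_forall]
    rintro z ⟨⟨a, ha, rfl⟩, hz2⟩
    obtain ⟨b', ⟨b, hb, rfl⟩, hbe⟩ := Subgroup.mem_smul_pointwise_iff_exists _ _ _ |>.1 hz2
    obtain ⟨w, rfl⟩ := QuotientGroup.mk'_surjective _ y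
    have hw : (w : G) ∈ ((T : Subgroup G) : Set G) * (H : Set G) := by
      rw [← Subgroup.coe_mul_of_right_le_normalizer_left T H hTH]; exact w.2
    obtain ⟨t, ht, h, hh, hth⟩ := hw
    simp only at hth
    set w0 : X := ⟨t, hTX ht⟩
    set h0 : X := ⟨h, hHX hh⟩
    have hw0 : w = w0 * h0 := Subtype.ext hth.symm
    set b1 : X := h0 * b * h0⁻¹
    have hb1 : (b1 : G) ∈ H := H.mul_mem (H.mul_mem hh hb) (H.inv_mem hh)
    have e1 : π a = π w0 * π b1 * (π w0)⁻¹ := by
      rw [← hbe]
      show MulAut.conj (π w) (π b) = _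
      rw [hw0, MulAut.conj_apply, ← map_inv, ← map_inv, ← map_mul, ← map_mul, ← map_mul, ← map_mul]
      congr 1
      simp [b1, mul_assoc]
    by_contra hne
    -- the two elements of `H` agree
    have hab : (a : G) = b1 := by
      have he : (a : G)⁻¹ * (t * b1 * t⁻¹) ∈ E := by
        rw [← map_inv, ← map_mul, ← map_mul] at e1
        exact (QuotientGroup.eq (s := E.subgroupOf X)).1 e1
      have h2 : (b1 : G)⁻¹ * t * b1 ∈ T := (Subgroup.mem_normalizer_iff''.1 (hTH hb1) t).1 ht
      have h3 : (a : G)⁻¹ * b1 ∈ T := by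
        have := T.mul_mem (T.mul_mem he.1 ht) (T.inv_mem h2)
        simpa [mul_assoc] using this
      exact inv_mul_eq_one.1 (hHT _ (H.mul_mem (H.inv_mem ha) hb1) h3)
    have hab' : a = b1 := Subtype.ext hab
    rw [← hab'] at e1
    have hcom : Commute (π a) (π w0) := (eq_mul_inv_iff_mul_eq.1 e1)
    have hk : ∀ c ∈ Subgroup.zpowers (a : G), t⁻¹ * (c * t * c⁻¹) ∈ E := by
      rintro _ ⟨i, rfl⟩
      have h4 : π w0 = π (a ^ i * w0 * (a ^ i)⁻¹) := by
        rw [map_mul, map_mul, map_inv, map_zpow, (hcom.zpow_left i).eq, mul_inv_cancel_right]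
      exact (QuotientGroup.eq (s := E.subgroupOf X)).1 h4
    have hsolv : Group.IsSolvable (Subgroup.zpowers (a : G)) := inferInstance
    have haH : (a : G) ∈ H := ha
    have hcopE : (Nat.card (Subgroup.zpowers (a : G))).Coprime (Nat.card E) :=
      (hcop.coprime_dvd_left (Subgroup.card_dvd_of_le (Subgroup.zpowers_le.2 haH))).coprime_dvd_right
        (Subgroup.card_dvd_of_le (inf_le_left.trans hTN))
    have hnE : Subgroup.zpowers (a : G) ≤ Subgroup.normalizer (E : Set G) :=
      (Subgroup.zpowers_le.2 haH).trans (hHX.trans hXE)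
    obtain ⟨e, he, hec⟩ := Cfsg.Agent.Coprime.exists_fixed_mem_leftCoset hnE hcopE (Or.inl hsolv) hk
    have hae : (a : G) * (t * e) = t * e * a := Subgroup.mem_centralizer_iff.1 hec a (Subgroup.mem_zpowers _)
    have ha1 : (a : G) ≠ 1 := fun h0' => hne (by rw [show a = 1 from Subtype.ext h0']; exact map_one π)
    have htE : t ∈ E := by
      refine ⟨ht, ?_⟩
      have := Subgroup.mul_mem _ (hfix _ ha ha1 _ (N.mul_mem (hTN ht) (hTN he.1)) hae) (Subgroup.inv_mem _ he.2)
      simpa using this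
    apply hy
    rw [hw0, map_mul, show QuotientGroup.mk' (E.subgroupOf X) w0 = 1 from (QuotientGroup.eq_one_iff _).2 htE, one_mul]
    exact ⟨h0, hh, rfl⟩


/-- Let G be a finite group and H a subgroup that meets each of its conjugates by elements outside N_G(H) trivially and whose order is coprime to its index in N_G(H). Then H has a normal complement in N_G(H) if and only if H has a normal complement in G. Moreover, if H is not normal in G and has a normal complement in N_G(H), then H is isomorphic to a Frobenius complement of some finite Frobenius group. -/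
theorem result {G : Type u} [Group G] [Finite G] (H : Subgroup G)
    (hTI : Cfsg.IsTISubset (H : Set G)) (hHall : (Nat.card H).Coprime (H.subgroupOf (Subgroup.normalizer (H : Set G))).index) :
    ((∃ K : Subgroup (Subgroup.normalizer (H : Set G)), K.Normal ∧ K.IsComplement' (H.subgroupOf (Subgroup.normalizer (H : Set G)))) ↔
      (∃ N : Subgroup G, N.Normal ∧ N.IsComplement' H)) ∧
    (¬ H.Normal → (∃ K : Subgroup (Subgroup.normalizer (H : Set G)), K.Normal ∧ K.IsComplement' (H.subgroupOf (Subgroup.normalizer (H : Set G)))) →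
      ∃ (F : Type u) (_ : Group F) (_ : Finite F) (C : Subgroup F), Cfsg.IsFrobeniusComplement C ∧ Nonempty (H ≃* C)) := by
  classical
  set M := Subgroup.normalizer (H : Set G) with hM
  have hHM : H ≤ M := Subgroup.le_normalizer
  haveI : (H.subgroupOf M).Normal := Subgroup.normal_in_normalizer
  have hcardH : Nat.card (H.subgroupOf M) = Nat.card H := Nat.card_congr (Subgroup.subgroupOfEquivOfLe hHM).toEquiv
  have part1 : (∃ K : Subgroup M, K.Normal ∧ K.IsComplement' (H.subgroupOf M)) →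
      ∃ N : Subgroup G, N.Normal ∧ N.IsComplement' H := by
    rintro ⟨K, hKn, hK⟩
    haveI := hKn
    let f : (H.subgroupOf M) →* M ⧸ K := (QuotientGroup.mk' K).comp (H.subgroupOf M).subtype
    have hfb : Function.Bijective f := by
      refine (Nat.bijective_iff_injective_and_card _).2 ⟨?_, ?_⟩
      · rw [← MonoidHom.ker_eq_bot_iff, Subgroup.eq_bot_iff_forall]
        intro x hx
        have hxK : (x : M) ∈ K := (QuotientGroup.eq_one_iff _).1 hx
        exact Subtype.ext (Subgroup.disjoint_def.1 hK.disjoint hxK x.2)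
      · exact hK.symm.index_eq_card.symm
    let π : M →* H := ((Subgroup.subgroupOfEquivOfLe hHM).toMonoidHom.comp
      (MulEquiv.ofBijective f hfb).symm.toMonoidHom).comp (QuotientGroup.mk' K)
    have hπ : ∀ h : H, π ⟨h, hHM h.2⟩ = h := by
      intro h
      have e : (MulEquiv.ofBijective f hfb).symm (QuotientGroup.mk' K ⟨h, hHM h.2⟩) = ⟨⟨h, hHM h.2⟩, h.2⟩ := by
        rw [MulEquiv.symm_apply_eq]; rfl
      show (Subgroup.subgroupOfEquivOfLe hHM) ((MulEquiv.ofBijective f hfb).symm _) = h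
      rw [e]; rfl
    refine Cfsg.Agent.TIComplement.exists_complement hHM π hπ fun g hg m hm hgm => ?_
    set h := π m
    set k : M := m * (⟨(h : G), hHM h.2⟩ : M)⁻¹ with hk
    have hkK : k ∈ K := by
      have h1 : π k = 1 := by rw [hk, map_mul, map_inv, hπ, mul_inv_cancel]
      have h2 : (MulEquiv.ofBijective f hfb).symm (QuotientGroup.mk' K k) = 1 :=
        (Subgroup.subgroupOfEquivOfLe hHM).injective (h1.trans (map_one _).symm)
      rw [MulEquiv.symm_apply_eq, map_one] at h2
      exact (QuotientGroup.eq_one_iff _).1 h2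
    set h' : M := ⟨(h : G), hHM h.2⟩
    have hcomm : Commute k h' := Subgroup.commute_of_normal_of_disjoint K (H.subgroupOf M) hKn inferInstance hK.disjoint k h' hkK h.2
    set j := Nat.card K
    have hmj : m ^ j = h' ^ j := by
      rw [show m = k * h' by rw [hk, inv_mul_cancel_right], hcomm.mul_pow]
      rw [show k ^ j = 1 from congrArg Subtype.val (pow_card_eq_one' (x := (⟨k, hkK⟩ : K))), one_mul]
    have hcop : (Nat.card H).Coprime j := by
      have := hHall
      rwa [hK.index_eq_card] at this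
    have hne : (h : G) ^ j ≠ 1 := by
      intro h0
      apply hm
      exact orderOf_eq_one_iff.1 (Nat.eq_one_of_dvd_coprimes hcop (orderOf_dvd_natCard h)
        (orderOf_dvd_of_pow_eq_one (Subtype.ext h0)))
    have hmem : g * (h : G) ^ j * g⁻¹ ∈ M := by
      have h1 : ((m : G)) ^ j = (h : G) ^ j := congrArg Subtype.val hmj
      rw [← h1, ← conj_pow]
      exact pow_mem hgm j
    have hord : orderOf (g * (h : G) ^ j * g⁻¹) ∣ Nat.card H := by
      rw [show g * (h : G) ^ j * g⁻¹ = MulAut.conj g ((h : G) ^ j) from rfl, MulEquiv.orderOf_eq]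
      exact Subgroup.orderOf_dvd_natCard H (pow_mem h.2 j)
    exact hg (mem_of_ti hTI (pow_mem h.2 j) hne (mem_of_orderOf hHall hmem hord))
  refine ⟨⟨part1, ?_⟩, fun hnn hK => ?_⟩
  · rintro ⟨N, hN, hc⟩
    refine ⟨N.subgroupOf M, inferInstance, Subgroup.isComplement'_of_disjoint_and_mul_eq_univ ?_ ?_⟩
    · rw [Subgroup.disjoint_def]
      intro x hx1 hx2
      exact Subtype.ext (Subgroup.disjoint_def.1 hc.disjoint hx1 hx2)
    · rw [Set.eq_univ_iff_forall]
      intro x
      obtain ⟨⟨n, h⟩, hnh⟩ := hc.2 (x : G)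
      simp only at hnh
      have hnM : (n : G) ∈ M := by
        rw [show (n : G) = x * (h : G)⁻¹ by rw [← hnh, mul_inv_cancel_right]]
        exact M.mul_mem x.2 (M.inv_mem (hHM h.2))
      exact ⟨⟨n, hnM⟩, n.2, ⟨h, hHM h.2⟩, h.2, Subtype.ext hnh⟩
  · obtain ⟨N, hN, hc⟩ := part1 hK
    haveI := hN
    have hH : H ≠ ⊥ := fun h => hnn (h ▸ inferInstance)
    have hHall' := hall_of_ti hH hTI hHall
    have hcop : (Nat.card H).Coprime (Nat.card N) := by rwa [← hc.index_eq_card]
    have hfix : ∀ h ∈ H, h ≠ 1 → ∀ n ∈ N, h * n = n * h → n ∈ Subgroup.centralizer (H : Set G) := by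
      intro h hh h1 n hn hcm
      have hnM : n ∈ M := mem_of_ti hTI hh h1 (by rw [← hcm, mul_inv_cancel_right]; exact hh)
      rw [Subgroup.mem_centralizer_iff]
      intro x hx
      have hz : n * x * n⁻¹ * x⁻¹ ∈ H ⊓ N := by
        refine ⟨H.mul_mem ((Subgroup.mem_normalizer_iff.1 hnM x).1 hx) (H.inv_mem hx), ?_⟩
        have := N.mul_mem hn (hN.conj_mem _ (N.inv_mem hn) x)
        simpa [mul_assoc] using this
      rw [Subgroup.inf_eq_bot_of_coprime hcop, Subgroup.mem_bot, mul_inv_eq_one, mul_inv_eq_iff_eq_mul] at hz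
      exact hz.symm
    refine exists_frobenius_complement H N hcop hH hfix (fun q hq => ?_) fun hcent => ?_
    · haveI := Fact.mk hq
      exact exists_invariant_sylow_ti hTI hHall' hc q
    · apply hnn
      rw [← Subgroup.normalizer_eq_top_iff, eq_top_iff, ← hc.sup_eq_top]
      exact sup_le (hcent.trans (Subgroup.centralizer_le_normalizer _)) Subgroup.le_normalizer

end Cfsg.Agent.S4115
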