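import Cfsg.Statements.S4117
import Cfsg.Agent.Coprime.Action
import Cfsg.Agent.Core.Basics
-- import your own Cfsg.Agent.* helpers here

set_option autoImplicit false
open Cfsg

namespace Cfsg.Agent.S4117

open scoped commutatorElement

/-- In a finite cyclic group two elements of the same order generate the same subgroup. -/
theorem mem_zpowers_of_orderOf_eq {P : Type*} [Group P] [Finite P] [IsCyclic P] {c m : P}
    (h : orderOf c = orderOf m) : c ∈ Subgroup.zpowers m := by
  letI : CommGroup P := IsCyclic.commGroup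
  set n := orderOf m
  have hle : ∀ x : P, orderOf x = n → Subgroup.zpowers x = (powMonoidHom n : P →* P).ker := by
    intro x hx
    refine Subgroup.eq_of_le_of_card_ge (Subgroup.zpowers_le.mpr ?_) ?_
    · rw [MonoidHom.mem_ker, powMonoidHom_apply, ← hx, pow_orderOf_eq_one]
    · rw [Nat.card_zpowers, hx, IsCyclic.card_powMonoidHom_ker]
      exact Nat.le_of_dvd (orderOf_pos m) (Nat.gcd_dvd_right _ _)
  rw [hle m rfl, ← hle c h]
  exact Subgroup.mem_zpowers c


/-- Let A be a finite group acting on the finite group G by automorphisms with the orders of A and G coprime, and suppose every Sylow subgroup of G is cyclic. Then the fixed-point subgroup C_G(A) is a Hall subgroup of G (its order is coprime to its index), the subgroup [G, A] generated by the elements g⁻¹·a(g) is cyclic and normal with [G, A] ∩ C_G(A) = 1 and [G, A]·C_G(A) = G. -/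
theorem result {G A : Type*} [Group G] [Finite G] [Group A] [Finite A]
    [MulDistribMulAction A G] (hcop : (Nat.card A).Coprime (Nat.card G))
    (hcyc : ∀ (p : ℕ) [Fact p.Prime] (P : Sylow p G), IsCyclic (P : Subgroup G)) :
    (Nat.card (MulAction.fixedPoints A G : Set G)).Coprime (Nat.card G / Nat.card (MulAction.fixedPoints A G : Set G)) ∧
    IsCyclic (Subgroup.closure {y : G | ∃ (a : A) (g : G), y = g⁻¹ * a • g}) ∧
    (Subgroup.closure {y : G | ∃ (a : A) (g : G), y = g⁻¹ * a • g}).Normal ∧
    (Subgroup.closure {y : G | ∃ (a : A) (g : G), y = g⁻¹ * a • g} : Set G) ∩ MulAction.fixedPoints A G = {1} ∧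
    Subgroup.closure {y : G | ∃ (a : A) (g : G), y = g⁻¹ * a • g} ⊔ Subgroup.closure (MulAction.fixedPoints A G) = ⊤ := by
  classical
  set φ : A →* MulAut G := MulDistribMulAction.toMulAut A G with hφ
  set M : Subgroup G := Coprime.actCommutator φ with hM
  set C : Subgroup G := Coprime.fixedSubgroup φ with hC
  have hZ : IsZGroup G := ⟨fun p hp P => @hcyc p ⟨hp⟩ P⟩
  have hGs : Group.IsSolvable G := inferInstance
  have hMn : M.Normal := Coprime.actCommutator_normal φ
  have hMset : Subgroup.closure {y : G | ∃ (a : A) (g : G), y = g⁻¹ * a • g} = M := rfl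
  have hCset : (MulAction.fixedPoints A G : Set G) = (C : Set G) := rfl
  -- `M` centralises the cyclic derived subgroup
  have hDcyc : IsCyclic (commutator G) := IsZGroup.isCyclic_commutator G
  have := Coprime.finite_semidirect φ
  set L := G ⋊[φ] A
  set Z : Subgroup L := (commutator G).map SemidirectProduct.inl with hZdef
  have hZG : Coprime.inG φ ≤ Subgroup.normalizer (Z : Set L) := by
    rintro _ ⟨g, rfl⟩
    refine Coprime.mem_normalizer_of_conj_smul_eq ?_
    rw [hZdef, ← Coprime.map_conj_smul, Coprime.conj_smul_eq_self_of_mem_normalizer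
      (Subgroup.le_normalizer_of_normal (H := commutator G) (Subgroup.mem_top g))]
  have hZA : Coprime.inA φ ≤ Subgroup.normalizer (Z : Set L) :=
    (Coprime.inA_le_normalizer_map_iff φ).mpr fun a h hh => by
      have h1 := Subgroup.characteristic_iff_map_eq.mp
        (inferInstance : (commutator G).Characteristic) (φ a)
      rw [← h1]
      exact Subgroup.mem_map_of_mem _ hh
  have hMC : M ≤ Subgroup.centralizer (commutator G : Set G) := by
    intro x hx
    have hx' : (SemidirectProduct.inl x : L) ∈ ⁅Coprime.inG φ, Coprime.inA φ⁆ := by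
      rw [← Coprime.map_inl_actCommutator]; exact Subgroup.mem_map_of_mem _ hx
    have hZc : IsCyclic Z :=
      isCyclic_of_surjective _ ((SemidirectProduct.inl (φ := φ)).subgroupMap_surjective (commutator G))
    let ρ : Subgroup.normalizer (Z : Set L) →* MulAut Z := Z.normalizerMonoidHom
    have hle : ⁅Coprime.inG φ, Coprime.inA φ⁆ ≤ Subgroup.centralizer (Z : Set L) := by
      rw [Subgroup.commutator_le]
      intro g hg a ha
      have h1 : ρ ⁅(⟨g, hZG hg⟩ : Subgroup.normalizer (Z : Set L)), ⟨a, hZA ha⟩⁆ = 1 := by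
        let e := IsCyclic.mulAutMulEquiv Z
        apply e.injective
        rw [map_one, map_commutatorElement, map_commutatorElement, commutatorElement_eq_one_iff_mul_comm,
          mul_comm]
      rw [← MonoidHom.mem_ker, Subgroup.normalizerMonoidHom_ker] at h1
      exact h1
    rw [Subgroup.mem_centralizer_iff]
    intro y hy
    apply SemidirectProduct.inl_injective (φ := φ)
    rw [map_mul, map_mul]
    exact Subgroup.mem_centralizer_iff.mp (hle hx') _ (Subgroup.mem_map_of_mem _ hy)
  have hMab : IsMulCommutative M := by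
    refine ⟨⟨fun x y => ?_⟩⟩
    have : IsCyclic (G ⧸ commutator G) :=
      (inferInstance : IsCyclic (Abelianization G))
    refine (MonoidHom.isMulCommutative_of_isCyclic_of_ker_le_center
      ((QuotientGroup.mk' (commutator G)).comp M.subtype) ?_).is_comm.comm x y
    intro z hz
    rw [Subgroup.mem_center_iff]
    intro w
    have hz' : (z : G) ∈ commutator G := (QuotientGroup.eq_one_iff _).mp hz
    exact Subtype.ext (Subgroup.mem_centralizer_iff.mp (hMC w.2) z hz').symm
  have hMcyc : IsCyclic M := by
    have : Group.IsNilpotent M := by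
      letI : CommGroup M := { (inferInstance : Group M) with mul_comm := fun x y => hMab.is_comm.comm x y }
      infer_instance
    infer_instance
  have hinf : M ⊓ C = ⊥ := Coprime.actCommutator_inf_fixed_eq_bot φ hcop (Or.inr hGs) hMab
  have hsup : M ⊔ C = ⊤ := Coprime.actCommutator_sup_fixed φ hcop (Or.inr hGs)
  have hcard : Nat.card G = Nat.card M * Nat.card C := by
    rw [← Coprime.card_sup_eq_mul Subgroup.le_normalizer_of_normal hinf, hsup, Subgroup.card_top]
  have hcopMC : (Nat.card C).Coprime (Nat.card M) := by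
    refine Nat.coprime_of_dvd fun r hr hrC hrM => ?_
    have := Fact.mk hr
    obtain ⟨c, hc⟩ := exists_prime_orderOf_dvd_card' r hrC
    obtain ⟨m, hm⟩ := exists_prime_orderOf_dvd_card' r hrM
    rw [← Subgroup.orderOf_coe] at hc hm
    obtain ⟨P, hP⟩ := (IsPGroup.of_card (n := 1) (by rw [Nat.card_zpowers, hc, pow_one]) :
      IsPGroup r (Subgroup.zpowers (c : G))).exists_le_sylow
    obtain ⟨Q, hQ⟩ := (IsPGroup.of_card (n := 1) (by rw [Nat.card_zpowers, hm, pow_one]) :
      IsPGroup r (Subgroup.zpowers (m : G))).exists_le_sylow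
    obtain ⟨g, hg⟩ := MulAction.exists_smul_eq G Q P
    have hgm : g * m * g⁻¹ ∈ (P : Subgroup G) := by
      rw [← hg, Sylow.coe_subgroup_smul]
      exact Coprime.conj_mem_conj_smul (hQ (Subgroup.mem_zpowers _))
    have hcP : (c : G) ∈ (P : Subgroup G) := hP (Subgroup.mem_zpowers _)
    have hPc : IsCyclic (P : Subgroup G) := @hcyc r ⟨hr⟩ P
    have hgm' : orderOf (g * m * g⁻¹) = r := by
      rw [← hm]; exact MulEquiv.orderOf_eq (MulAut.conj g) (m : G)
    have hcm : (c : G) ∈ M := by
      have h1 : (⟨c, hcP⟩ : (P : Subgroup G)) ∈ Subgroup.zpowers (⟨g * m * g⁻¹, hgm⟩ : (P : Subgroup G)) := by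
        refine mem_zpowers_of_orderOf_eq ?_
        rw [← Subgroup.orderOf_coe, ← Subgroup.orderOf_coe]
        exact hc.trans hgm'.symm
      obtain ⟨i, hi⟩ := Subgroup.mem_zpowers_iff.mp h1
      have h3 := congrArg Subtype.val hi
      rw [SubgroupClass.coe_zpow] at h3
      change (g * m * g⁻¹) ^ i = (c : G) at h3
      rw [← h3]
      exact M.zpow_mem (hMn.conj_mem _ m.2 g) i
    have : (c : G) ∈ M ⊓ C := ⟨hcm, c.2⟩
    rw [hinf, Subgroup.mem_bot] at this
    rw [this, orderOf_one] at hc
    exact hr.ne_one hc.symm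
  rw [hCset, hMset]
  refine ⟨?_, hMcyc, hMn, ?_, ?_⟩
  · change (Nat.card C).Coprime (Nat.card G / Nat.card C)
    rw [hcard, Nat.mul_div_cancel _ Nat.card_pos]
    exact hcopMC
  · rw [← Subgroup.coe_inf, hinf, Subgroup.coe_bot]
  · rw [Subgroup.closure_eq, hsup]

end Cfsg.Agent.S4117
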