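import Cfsg.Statements.S4118
import Cfsg.Agent.FPF25.TISep
-- import your own Cfsg.Agent.* helpers here

set_option autoImplicit false
open Cfsg

namespace Cfsg.Agent.S4118

theorem coprime_index {G : Type*} [Group G] [Finite G] (H : Subgroup G)
    (hTI : Cfsg.IsTISubset (H : Set G))
    (hHall : (Nat.card H).Coprime (H.subgroupOf (Subgroup.normalizer (H : Set G))).index) :
    (Nat.card H).Coprime H.index := by
  refine Nat.coprime_of_dvd fun p hp hpH hpi => ?_
  have := Fact.mk hp
  obtain ⟨P⟩ := (inferInstance : Nonempty (Sylow p H))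
  obtain ⟨n, hn⟩ := IsPGroup.iff_card.mp P.isPGroup'
  have hP : Nat.card ((P : Subgroup H).map H.subtype) = p ^ n := by
    rw [← hn]
    exact (Nat.card_congr ((P : Subgroup H).equivMapOfInjective _ H.subtype_injective).toEquiv).symm
  have hdvdH : p ^ n ∣ Nat.card H := hn ▸ Subgroup.card_subgroup_dvd_card _
  have hdvd : p ^ (n + 1) ∣ Nat.card G := by
    rw [← H.card_mul_index, pow_succ]; exact mul_dvd_mul hdvdH hpi
  obtain ⟨x, hx, hx1⟩ : ∃ x ∈ (P : Subgroup H).map H.subtype, x ≠ 1 := by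
    refine (Subgroup.bot_or_exists_ne_one _).resolve_left fun e => ?_
    exact (P.ne_bot_of_dvd_card hpH) ((Subgroup.map_eq_bot_iff_of_injective _ H.subtype_injective).mp e)
  have hle : Subgroup.normalizer (((P : Subgroup H).map H.subtype : Subgroup G) : Set G) ≤
      Subgroup.normalizer (H : Set G) := fun g hg => by
    by_contra hgn
    exact hx1 (hTI g hgn x (Subgroup.map_subtype_le _ hx)
      (Subgroup.map_subtype_le _ ((Subgroup.mem_normalizer_iff.mp hg x).mp hx)))
  have h1 := (Sylow.prime_pow_dvd_card_normalizer hdvd hP).trans (Subgroup.card_dvd_of_le hle)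
  rw [← (H.subgroupOf (Subgroup.normalizer (H : Set G))).card_mul_index,
    Coprime.card_subgroupOf Subgroup.le_normalizer] at h1
  have h2 : p ^ (n + 1) ∣ Nat.card H := by
    refine ((Nat.Coprime.pow_left _ ?_).dvd_of_dvd_mul_right h1)
    exact hHall.coprime_dvd_left hpH
  obtain ⟨Q, hQ⟩ := Sylow.exists_subgroup_card_pow_prime p h2
  have h3 := P.card_eq_multiplicity
  rw [hn] at h3
  have h4 := (Nat.Prime.pow_dvd_iff_le_factorization hp Nat.card_pos.ne').mp h2
  have h5 := Nat.pow_right_injective hp.two_le h3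
  omega

theorem coprime_sup {G : Type*} [Group G] [Finite G] {m : ℕ} (A B : Subgroup G) [B.Normal]
    (hA : (Nat.card A).Coprime m) (hB : (Nat.card B).Coprime m) : (Nat.card (A ⊔ B : Subgroup G)).Coprime m :=
  (hA.mul_left hB).coprime_dvd_left (Dvd.intro _ (Core.card_sup_mul_card_inf A B))

theorem isSolvable_sup {G : Type*} [Group G] (O H : Subgroup G) [O.Normal] [Group.IsSolvable O]
    [Group.IsSolvable H] : Group.IsSolvable (O ⊔ H : Subgroup G) := by
  have h1 : Group.IsSolvable (O.subgroupOf (O ⊔ H)) :=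
    Group.isSolvable_of_isSolvable_injective (f := (Subgroup.subgroupOfEquivOfLe (le_sup_left : O ≤ O ⊔ H)).toMonoidHom)
      (MulEquiv.injective _)
  have h2 : Group.IsSolvable ((O ⊔ H : Subgroup G) ⧸ O.subgroupOf (O ⊔ H)) := by
    refine Group.isSolvable_of_surjective
      (f := (QuotientGroup.mk' _).comp (Subgroup.inclusion (le_sup_right : H ≤ O ⊔ H))) fun q => ?_
    obtain ⟨⟨x, hx⟩, rfl⟩ := QuotientGroup.mk'_surjective _ q
    obtain ⟨o, ho, h, hh, rfl⟩ := Subgroup.mem_sup_of_normal_left.mp hx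
    refine ⟨⟨h, hh⟩, (QuotientGroup.mk'_eq_mk' _).mpr ⟨⟨h⁻¹ * o * h, Subgroup.mem_sup_left ?_⟩, ?_, ?_⟩⟩
    · simpa using Subgroup.Normal.conj_mem inferInstance o ho h⁻¹
    · exact Subgroup.mem_subgroupOf.mpr (by simpa using Subgroup.Normal.conj_mem inferInstance o ho h⁻¹)
    · exact Subtype.ext (show h * (h⁻¹ * o * h) = o * h by group)
  exact Group.isSolvable_of_ker_le_range (O.subgroupOf (O ⊔ H)).subtype
    (QuotientGroup.mk' (O.subgroupOf (O ⊔ H))) (by rw [QuotientGroup.ker_mk', Subgroup.range_subtype])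



/-- Let G be a finite group and H a non-normal subgroup meeting each of its conjugates by elements outside N_G(H) trivially, with the order of H coprime to its index in N_G(H); let π be the set of primes dividing the order of H and suppose G is π-separable (it has a chain of normal subgroups from 1 to G each of whose factors has order divisible only by primes in π or coprime to the order of H). Let O be the largest normal subgroup of G of order coprime to the order of H. Then G = O·N_G(H), O·H is normal in G, and G is solvable if and only if O is solvable and H has no subgroup isomorphic to SL₂(5). -/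
theorem result {G : Type*} [Group G] [Finite G] (H : Subgroup G)
    (hTI : Cfsg.IsTISubset (H : Set G)) (hnn : ¬ H.Normal)
    (hHall : (Nat.card H).Coprime (H.subgroupOf (Subgroup.normalizer (H : Set G))).index)
    (hsep : ∃ (n : ℕ) (M : Fin (n + 1) → Subgroup G), M 0 = ⊥ ∧ M (Fin.last n) = ⊤ ∧ Monotone M ∧ (∀ i, (M i).Normal) ∧
      ∀ i : Fin n, (∀ q : ℕ, q.Prime → q ∣ (M i.castSucc).relIndex (M i.succ) → q ∣ Nat.card H) ∨
        ((M i.castSucc).relIndex (M i.succ)).Coprime (Nat.card H))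
    (O : Subgroup G) (hO : O = sSup {K : Subgroup G | K.Normal ∧ (Nat.card K).Coprime (Nat.card H)}) :
    O ⊔ Subgroup.normalizer (H : Set G) = ⊤ ∧ (O ⊔ H).Normal ∧
    (Group.IsSolvable G ↔ Group.IsSolvable O ∧
      ∀ K : Subgroup G, K ≤ H → ¬ Nonempty (K ≃* Matrix.SpecialLinearGroup (Fin 2) (ZMod 5))) := by
  classical
  set N := Subgroup.normalizer (H : Set G) with hN
  set m := Nat.card H with hm
  have hHne : H ≠ ⊥ := fun e => hnn (e ▸ inferInstance)
  have hHN : H ≤ N := Subgroup.le_normalizer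
  have hHallG := coprime_index H hTI hHall
  -- the core
  have hOprop : O.Normal ∧ (Nat.card O).Coprime m ∧ ∀ K : Subgroup G, K.Normal → (Nat.card K).Coprime m → K ≤ O := by
    set s : Set (Subgroup G) := {K | K.Normal ∧ (Nat.card K).Coprime m} with hs
    obtain ⟨T, ⟨hTn, hTc⟩, hT⟩ := (wellFounded_gt (α := Subgroup G)).has_min s
      ⟨⊥, inferInstance, by rw [Subgroup.card_bot]; exact Nat.coprime_one_left m⟩
    have hall : ∀ K : Subgroup G, K.Normal → (Nat.card K).Coprime m → K ≤ T := fun K hK hKc => by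
      have h1 : (T ⊔ K).Normal := inferInstance
      rcases (le_sup_left : T ≤ T ⊔ K).lt_or_eq with hlt | heq
      · exact absurd hlt (hT (T ⊔ K) ⟨h1, coprime_sup T K hTc hKc⟩)
      · exact heq ▸ le_sup_right
    have : O = T := hO.trans (le_antisymm (sSup_le fun K hK => hall K hK.1 hK.2) (le_sSup ⟨hTn, hTc⟩))
    exact this ▸ ⟨hTn, hTc, hall⟩
  obtain ⟨hOn, hOc, hOmax⟩ := hOprop
  set X := O ⊔ H with hX
  have hOH : O ⊓ H = ⊥ := Coprime.inf_eq_bot_of_coprime hOc
  -- a normal subgroup above the core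
  obtain ⟨K, hKn, hOK, hKO, hKπ⟩ : ∃ K : Subgroup G, K.Normal ∧ O ≤ K ∧ ¬ K ≤ O ∧
      ∀ q : ℕ, q.Prime → q ∣ O.relIndex K → q ∣ m := by
    obtain ⟨n, M, h0, hl, hmono, hMn, hfac⟩ := hsep
    obtain ⟨i, hi, hi'⟩ : ∃ i : Fin n, M i.castSucc ≤ O ∧ ¬ M i.succ ≤ O := by
      by_contra hcon
      push Not at hcon
      have hall : ∀ j, M j ≤ O := Fin.induction (h0.le.trans bot_le) fun i ih => hcon i ih
      have hOtop : O = ⊤ := top_le_iff.mp (hl ▸ hall _)
      rw [hOtop, Subgroup.card_top] at hOc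
      exact hHne (Subgroup.card_eq_one.mp (Nat.eq_one_of_dvd_coprimes hOc (Subgroup.card_subgroup_dvd_card H) dvd_rfl))
    have := hMn i.succ
    have hr : O.relIndex (M i.succ ⊔ O) ∣ (M i.castSucc).relIndex (M i.succ) := by
      rw [Subgroup.relIndex_sup_right]
      exact Subgroup.relIndex_dvd_of_le_left _ hi
    refine ⟨M i.succ ⊔ O, inferInstance, le_sup_right, fun e => hi' (le_sup_left.trans e), fun q hq hqd => ?_⟩
    rcases hfac i with hπ | hc
    · exact hπ q hq (hqd.trans hr)
    · refine absurd (hOmax (M i.succ ⊔ O) inferInstance ?_) (fun e => hi' (le_sup_left.trans e))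
      rw [← Subgroup.relIndex_mul_relIndex ⊥ O (M i.succ ⊔ O) bot_le le_sup_right |>.trans
        (Subgroup.relIndex_bot_left _), Subgroup.relIndex_bot_left]
      exact hOc.mul_left (hc.coprime_dvd_left hr)
  have hKX : K ≤ X := by
    have h1 := Core.card_sup_mul_card_inf X K
    have h2 : Nat.card (X ⊓ K : Subgroup G) * X.relIndex K = Nat.card K := by
      rw [← Subgroup.inf_relIndex_right, ← Subgroup.relIndex_bot_left, ← Subgroup.relIndex_bot_left]
      exact Subgroup.relIndex_mul_relIndex _ _ _ bot_le inf_le_right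
    have h3 : X.relIndex K ∣ X.index := by
      refine ⟨(X ⊔ K).index, ?_⟩
      have e1 := X.card_mul_index
      rw [← (X ⊔ K).card_mul_index] at e1
      have e3 : Nat.card (X ⊔ K : Subgroup G) = Nat.card X * X.relIndex K := by
        refine Nat.eq_of_mul_eq_mul_right (Nat.card_pos (α := (X ⊓ K : Subgroup G))) ?_
        rw [h1, ← h2]; ring
      rw [e3, mul_assoc] at e1
      exact Nat.eq_of_mul_eq_mul_left Nat.card_pos e1
    have h4 : X.relIndex K ∣ O.relIndex K := Subgroup.relIndex_dvd_of_le_left _ le_sup_left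
    have h5 : X.relIndex K = 1 := by
      by_contra hne
      obtain ⟨q, hq, hqd⟩ := Nat.exists_prime_and_dvd hne
      exact hq.ne_one (Nat.eq_one_of_dvd_coprimes hHallG (hKπ q hq (hqd.trans h4))
        (hqd.trans (h3.trans (Subgroup.index_dvd_of_le le_sup_right))))
    exact Subgroup.relIndex_eq_one.mp h5
  have hKsplit : ∀ x ∈ K, ∃ o ∈ O, ∃ h ∈ H ⊓ K, o * h = x := fun x hx => by
    obtain ⟨o, ho, h, hh, rfl⟩ := Subgroup.mem_sup_of_normal_left.mp (hKX hx)
    exact ⟨o, ho, h, ⟨hh, by simpa using K.mul_mem (K.inv_mem (hOK ho)) hx⟩, rfl⟩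
  have hKeq : O ⊔ (H ⊓ K) = K := le_antisymm (sup_le hOK inf_le_right) fun x hx => by
    obtain ⟨o, ho, h, hh, rfl⟩ := hKsplit x hx
    exact Subgroup.mul_mem_sup ho hh
  have hcardK : Nat.card K = Nat.card (H ⊓ K : Subgroup G) * Nat.card O := by
    have h1 := Core.card_sup_mul_card_inf (H ⊓ K) O
    rw [sup_comm, hKeq, show H ⊓ K ⊓ O = ⊥ from le_bot_iff.mp ((inf_le_inf_right O inf_le_left).trans
      (by rw [inf_comm, hOH])), Subgroup.card_bot, mul_one] at h1
    exact h1
  have hJne : H ⊓ K ≠ ⊥ := fun e => hKO (by rw [← hKeq, e, sup_bot_eq])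
  obtain ⟨p, hp, hpJ⟩ := Nat.exists_prime_and_dvd (fun e => hJne (Subgroup.card_eq_one.mp e))
  have := Fact.mk hp
  obtain ⟨P0⟩ := (inferInstance : Nonempty (Sylow p (H ⊓ K : Subgroup G)))
  set P := (P0 : Subgroup (H ⊓ K : Subgroup G)).map (H ⊓ K : Subgroup G).subtype with hP
  have hPJ : P ≤ H ⊓ K := Subgroup.map_subtype_le _
  have hpO : ¬ p ∣ Nat.card O := fun hd => hp.ne_one (Nat.eq_one_of_dvd_coprimes hOc hd
    (hpJ.trans (Subgroup.card_dvd_of_le inf_le_left)))
  have hPcard : Nat.card (P.subgroupOf K) = p ^ (Nat.card K).factorization p := by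
    rw [Coprime.card_subgroupOf (hPJ.trans inf_le_right), hP,
      ← Nat.card_congr ((P0 : Subgroup (H ⊓ K : Subgroup G)).equivMapOfInjective _ (Subgroup.subtype_injective _)).toEquiv,
      P0.card_eq_multiplicity, hcardK, Nat.factorization_mul Nat.card_pos.ne' Nat.card_pos.ne']
    simp [Nat.factorization_eq_zero_of_not_dvd hpO]
  have hfr := Sylow.normalizer_sup_eq_top (Sylow.ofCard (P.subgroupOf K) hPcard)
  rw [Sylow.coe_ofCard, Subgroup.map_subgroupOf_eq_of_le (hPJ.trans inf_le_right)] at hfr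
  obtain ⟨x, hxP, hx1⟩ : ∃ x ∈ P, x ≠ 1 := (Subgroup.bot_or_exists_ne_one _).resolve_left fun e =>
    P0.ne_bot_of_dvd_card hpJ ((Subgroup.map_eq_bot_iff_of_injective _ (Subgroup.subtype_injective _)).mp e)
  have hNP : Subgroup.normalizer (P : Set G) ≤ N := fun g hg => by
    by_contra hgn
    exact hx1 (hTI g hgn x (hPJ hxP).1 (hPJ ((Subgroup.mem_normalizer_iff.mp hg x).mp hxP)).1)
  have htop : O ⊔ N = ⊤ := top_le_iff.mp (hfr.ge.trans (sup_le (hNP.trans le_sup_right)
    (hKeq.ge.trans (sup_le_sup_left (inf_le_left.trans hHN) _))))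
  have hnormal : ∀ E : Subgroup G, O ≤ E → N ≤ Subgroup.normalizer (E : Set G) → E.Normal := fun E hOE hNE => by
    rw [← Subgroup.normalizer_eq_top_iff, eq_top_iff, ← htop]
    exact sup_le (hOE.trans Subgroup.le_normalizer) hNE
  have hXn : X.Normal := hnormal X le_sup_left fun g hg => by
    refine Coprime.mem_normalizer_of_conj_smul_eq ?_
    rw [Coprime.conj_smul_eq_map, hX, Subgroup.map_sup]
    congr 1
    · exact (Subgroup.mem_normalizer_iff_map_conj_eq.mp ((Subgroup.normalizer_eq_top (H := O)).ge (Subgroup.mem_top g)))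
    · exact Subgroup.mem_normalizer_iff_map_conj_eq.mp hg
  refine ⟨htop, hXn, fun hG => ⟨inferInstance, fun K' _ ⟨e⟩ => FPF25.not_isSolvable_of_mulEquiv e inferInstance⟩, ?_⟩
  rintro ⟨hOs, hno⟩
  -- fixed-point-free section
  have hON : ∀ x ∈ O, x ∈ N → x ∈ Subgroup.centralizer (H : Set G) := fun x hxO hxN =>
    Subgroup.mem_centralizer_iff.mpr fun h hh => by
      have h1 : x * h * x⁻¹ * h⁻¹ ∈ O ⊓ H := ⟨by
          rw [mul_assoc, mul_assoc]
          exact O.mul_mem hxO (by simpa [mul_assoc] using hOn.conj_mem _ (O.inv_mem hxO) h),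
        H.mul_mem ((Subgroup.mem_normalizer_iff.mp hxN h).mp hh) (H.inv_mem hh)⟩
      rw [hOH, Subgroup.mem_bot, mul_inv_eq_one, mul_inv_eq_iff_eq_mul] at h1
      exact h1.symm
  have hfpf : FPF25.HasFPF H := by
    refine FPF25.hasFPF_of_fixed_points (O := O) (fun h _ => (Subgroup.normalizer_eq_top (H := O)).ge (Subgroup.mem_top h))
      hOc.symm (fun hle => hnn ?_) fun x hxO h hh h1 hc => hON x hxO ?_
    · rw [← Subgroup.normalizer_eq_top_iff, eq_top_iff, ← htop]
      exact sup_le (hle.trans (Subgroup.centralizer_le_normalizer _ )) le_rfl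
    · by_contra hxn
      refine h1 (hTI x hxn h hh ?_)
      rw [show x * h * x⁻¹ = h by rw [← hc, mul_inv_cancel_right]]
      exact hh
  have hHs : Group.IsSolvable H := by
    by_contra hns
    obtain ⟨K', ⟨e⟩⟩ := hfpf.exists_sl25 hns
    exact hno (K'.map H.subtype) (Subgroup.map_subtype_le _)
      ⟨(K'.equivMapOfInjective _ H.subtype_injective).symm.trans e⟩
  have hXs : Group.IsSolvable X := isSolvable_sup O H
  obtain ⟨n, hn⟩ := hfpf.derivedSeries_le_centralizer
  -- the centraliser lies in `O H`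
  set C := Subgroup.centralizer (H : Set G) with hC
  have hCN : C ≤ N := Subgroup.centralizer_le_normalizer _
  have hCX : C ≤ X := by
    set A := (H ⊓ C).subgroupOf C with hA
    have hAc : ∀ a ∈ A, ∀ c : C, c * a = a * c := fun a ha c =>
      Subtype.ext ((Subgroup.mem_centralizer_iff.mp c.2 (a : G) (Subgroup.mem_subgroupOf.mp ha).1).symm)
    have hAn : A.Normal := ⟨fun a ha c => by rw [hAc a ha c, mul_inv_cancel_right]; exact ha⟩
    have hAcard : Nat.card A ∣ m := by
      rw [hA, Coprime.card_subgroupOf inf_le_right]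
      exact Subgroup.card_dvd_of_le inf_le_left
    have hAidx : A.index.Coprime m := by
      refine Nat.Coprime.coprime_dvd_left ?_ hHall.symm
      rw [hA, ← Subgroup.relIndex, Subgroup.inf_relIndex_right]
      have hn' : (H.subgroupOf N).Normal := Subgroup.normal_in_normalizer
      have h1 := Subgroup.relIndex_dvd_index_of_normal (H.subgroupOf N) (C.subgroupOf N)
      rwa [Subgroup.relIndex_subgroupOf hCN] at h1
    obtain ⟨T, hT⟩ := Subgroup.exists_left_complement'_of_coprime
      ((hAidx.coprime_dvd_right hAcard).symm)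
    have hTn : T.Normal := by
      refine ⟨fun t ht c => ?_⟩
      obtain ⟨t', ht', a, ha, rfl⟩ : ∃ t' ∈ T, ∃ a ∈ A, t' * a = c :=
        Subgroup.mem_sup_of_normal_right.mp (hT.sup_eq_top.ge (Subgroup.mem_top c))
      rw [show t' * a * t * (t' * a)⁻¹ = t' * (a * t * a⁻¹) * t'⁻¹ by group,
        show a * t * a⁻¹ = t by rw [← hAc a ha t, mul_inv_cancel_right]]
      exact T.mul_mem (T.mul_mem ht' ht) (T.inv_mem ht')
    have hTcard : (Nat.card T).Coprime m := by rw [← hT.index_eq_card]; exact hAidx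
    have hTmem : ∀ c : C, (orderOf c).Coprime m → c ∈ T := fun c hc => by
      rw [← QuotientGroup.eq_one_iff, ← orderOf_eq_one_iff]
      refine Nat.eq_one_of_dvd_coprimes hc (orderOf_map_dvd (QuotientGroup.mk' T) c) ?_
      refine (_root_.orderOf_dvd_natCard _).trans ?_
      rw [← Subgroup.index_eq_card, hT.symm.index_eq_card]
      exact hAcard
    set T' := T.map C.subtype with hT'
    have hT'c : (Nat.card T').Coprime m := by
      rw [hT', ← Nat.card_congr (T.equivMapOfInjective _ C.subtype_injective).toEquiv]; exact hTcard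
    have hT'N : ∀ g ∈ N, ∀ y ∈ T', g * y * g⁻¹ ∈ T' := by
      rintro g hg _ ⟨t, ht, rfl⟩
      have hgC : g * (t : G) * g⁻¹ ∈ C := Subgroup.mem_centralizer_iff.mpr fun h hh => by
        have h1 := Subgroup.mem_centralizer_iff.mp t.2 (g⁻¹ * h * g)
          (by simpa using (Subgroup.mem_normalizer_iff.mp (N.inv_mem hg) h).mp hh)
        calc h * (g * (t : G) * g⁻¹) = g * ((g⁻¹ * h * g) * t) * g⁻¹ := by group
          _ = g * (t * (g⁻¹ * h * g)) * g⁻¹ := by rw [h1]
          _ = g * (t : G) * g⁻¹ * h := by group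
      refine ⟨⟨_, hgC⟩, hTmem _ ?_, rfl⟩
      rw [Subgroup.orderOf_mk, FPF25.Setting.orderOf_conj', Subgroup.orderOf_coe]
      exact hTcard.coprime_dvd_left (Subgroup.orderOf_dvd_natCard T ht)
    have hE : (O ⊔ T').Normal := hnormal _ le_sup_left fun g hg => by
      have hgT : g ∈ Subgroup.normalizer (T' : Set G) := Subgroup.mem_normalizer_iff.mpr fun y =>
        ⟨hT'N g hg y, fun hy => by simpa [mul_assoc] using hT'N g⁻¹ (N.inv_mem hg) _ hy⟩
      refine Coprime.mem_normalizer_of_conj_smul_eq ?_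
      rw [Coprime.conj_smul_eq_map, Subgroup.map_sup]
      congr 1
      · exact (Subgroup.mem_normalizer_iff_map_conj_eq.mp ((Subgroup.normalizer_eq_top (H := O)).ge (Subgroup.mem_top g)))
      · exact Subgroup.mem_normalizer_iff_map_conj_eq.mp hgT
    have hT'O : T' ≤ O := le_sup_right.trans (hOmax _ hE (by rw [sup_comm]; exact coprime_sup T' O hT'c hOc))
    intro c hc
    obtain ⟨t, ht, a, ha, hta⟩ := Subgroup.mem_sup_of_normal_right.mp (hT.sup_eq_top.ge (Subgroup.mem_top (⟨c, hc⟩ : C)))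
    have e : (t : G) * (a : G) = c := congrArg Subtype.val hta
    rw [← e]
    exact Subgroup.mul_mem_sup (hT'O ⟨t, ht, rfl⟩) (Subgroup.mem_subgroupOf.mp ha).1
  have hq : Group.IsSolvable (G ⧸ X) := by
    have hsurj : Function.Surjective ((QuotientGroup.mk' X).comp N.subtype) := fun q => by
      obtain ⟨g, rfl⟩ := QuotientGroup.mk'_surjective X q
      obtain ⟨o, ho, y, hy, rfl⟩ := Subgroup.mem_sup_of_normal_left.mp (htop.ge (Subgroup.mem_top g))
      refine ⟨⟨y, hy⟩, ?_⟩
      show QuotientGroup.mk' X y = QuotientGroup.mk' X (o * y)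
      rw [map_mul, show QuotientGroup.mk' X o = 1 from (QuotientGroup.eq_one_iff o).mpr (Subgroup.mem_sup_left ho), one_mul]
    refine ⟨⟨n, ?_⟩⟩
    rw [← map_derivedSeries_eq hsurj n, Subgroup.map_eq_bot_iff]
    exact fun y hy => (QuotientGroup.eq_one_iff (y : G)).mpr (hCX (hn y hy))
  exact Group.isSolvable_of_ker_le_range X.subtype (QuotientGroup.mk' X)
    (by rw [QuotientGroup.ker_mk', Subgroup.range_subtype])

end Cfsg.Agent.S4118
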