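import Cfsg.Statements.S4125
import Cfsg.Agent.QBaer.Main

set_option autoImplicit false
open Cfsg

namespace Cfsg.Agent.S4125

theorem relIndex_comap_ker {A B : Type*} [Group A] [Group B] {f : A →* B}
    (hf : Function.Surjective f) (S : Subgroup B) : f.ker.relIndex (S.comap f) = Nat.card S := by
  rw [← MonoidHom.comap_bot, Subgroup.relIndex_comap,
    Subgroup.map_comap_eq_self_of_surjective hf, Subgroup.relIndex_bot_left]

/-- Let G be a finite group and q a prime dividing its order such that every element of q-power order has a conjugacy class of prime-power size. Then G is q-solvable of q-length 1: there are normal subgroups K ≤ L of G with K of order prime to q, L/K a q-group and L of index prime to q. Moreover there is a prime p such that every element of q-power order has a class of p-power size (one prime serving for all of them), and for a Sylow q-subgroup Q: if p = q then Q is normal with a normal complement (a direct factor), while if p ≠ q then Q is abelian, the product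 of Q with the largest normal p-subgroup O_p(G) is normal in G, and G/O_{q'}(G) is solvable, where O_{q'}(G) is the largest normal subgroup of order prime to q. -/
theorem result {G : Type*} [Group G] [Finite G] (q : ℕ) [Fact q.Prime] (hq : q ∣ Nat.card G)
    (hBaer : ∀ x : G, (∃ k : ℕ, orderOf x = q ^ k) → ∃ (r : ℕ) (a : ℕ), r.Prime ∧ (Subgroup.centralizer ({x} : Set G)).index = r ^ a) (Q : Sylow q G) :
    (∃ K L : Subgroup G, K.Normal ∧ L.Normal ∧ K ≤ L ∧ (Nat.card K).Coprime q ∧ (∃ m : ℕ, K.relIndex L = q ^ m) ∧ L.index.Coprime q) ∧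
    ∃ p : ℕ, p.Prime ∧ (∀ x : G, (∃ k : ℕ, orderOf x = q ^ k) → ∃ a : ℕ, (Subgroup.centralizer ({x} : Set G)).index = p ^ a) ∧
      (p = q → (Q : Subgroup G).Normal ∧ ∃ N : Subgroup G, N.Normal ∧ N.IsComplement' (Q : Subgroup G)) ∧
      (p ≠ q → IsMulCommutative (Q : Subgroup G) ∧ (Cfsg.pCore p G ⊔ (Q : Subgroup G)).Normal ∧
        ∀ _h : (Cfsg.pPrimeCore q G).Normal, Group.IsSolvable (G ⧸ Cfsg.pPrimeCore q G)) := by
  have hqp : q.Prime := Fact.out
  have hB : QBaer.QB q G := hBaer
  have hOn : (Cfsg.pPrimeCore q G).Normal := Core.pPrimeCore_normal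
  set π := QuotientGroup.mk' (Cfsg.pPrimeCore q G) with hπ
  have hs := QuotientGroup.mk'_surjective (Cfsg.pPrimeCore q G)
  have himg := hB.sylow_image_normal Q
  set Qb : Sylow q (G ⧸ Cfsg.pPrimeCore q G) := Q.mapSurjective hs with hQb
  have hQbn : (Qb : Subgroup (G ⧸ Cfsg.pPrimeCore q G)).Normal := by
    show ((Q : Subgroup G).map π).Normal
    rw [himg]; exact Core.pCore_normal
  refine ⟨⟨Cfsg.pPrimeCore q G, (Qb : Subgroup (G ⧸ Cfsg.pPrimeCore q G)).comap π, hOn,
    hQbn.comap π, ?_, Core.coprime_card_pPrimeCore, ?_, ?_⟩, ?_⟩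
  · intro x hx
    rw [Subgroup.mem_comap]
    have : π x = 1 := (QuotientGroup.eq_one_iff x).2 hx
    rw [this]; exact one_mem _
  · obtain ⟨n, hn⟩ := IsPGroup.iff_card.1 Qb.isPGroup'
    refine ⟨n, ?_⟩
    exact (relIndex_comap_ker hs _).trans hn ▸ (congrArg (fun K : Subgroup G => K.relIndex _) (QuotientGroup.ker_mk' _)).symm
  · rw [Subgroup.index_comap_of_surjective _ hs]
    exact (hqp.coprime_iff_not_dvd.2 Qb.not_dvd_index).symm
  by_cases hgen : (Q : Subgroup G) ≤ Subgroup.closure {x : G | x ∈ (Q : Subgroup G) ∧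
      ∃ a, (Subgroup.centralizer ({x} : Set G)).index = q ^ a}
  · obtain ⟨hn, hidx, hN⟩ := QBaer.QB.direct Q hgen
    exact ⟨q, hqp, hidx, fun _ => ⟨hn, hN⟩, fun h => absurd rfl h⟩
  obtain ⟨hab, p, hp, hpq, hidx⟩ := hB.exists_prime Q hgen
  refine ⟨p, hp, hidx, fun h => absurd h hpq, fun _ => ⟨⟨⟨fun a b => Subtype.ext (hab a a.2 b b.2)⟩⟩,
    hB.sup_normal Q hp hidx, fun _h => ?_⟩⟩
  refine QBaer.solvable_of_trivial_core Core.pPrimeCore_quotient_eq_bot Qb ?_ hp hpq ?_
  · rintro _ ⟨a, ha, rfl⟩ _ ⟨b, hb, rfl⟩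
    rw [← map_mul, hab a ha b hb, map_mul]
  · intro y hy
    obtain ⟨x, hx, rfl⟩ := QBaer.exists_lift hs hy
    obtain ⟨a, ha⟩ := hidx x hx
    obtain ⟨b, -, hb⟩ := (Nat.dvd_prime_pow hp).1 (ha ▸ QBaer.index_centralizer_map hs x)
    exact ⟨b, hb⟩

end Cfsg.Agent.S4125
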