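import Cfsg.Statements.S4130
import Cfsg.Agent.SqClass.Derived

set_option autoImplicit false
open Cfsg
open scoped commutatorElement

namespace Cfsg.Agent.S4130

/-- Let G be a finite group all of whose conjugacy class sizes are square-free. Then G is supersolvable, G/F(G) and the derived subgroup G′ are cyclic of square-free order (F(G) the Fitting subgroup, which is normal), F(G) has nilpotency class at most 2, and G is metabelian. -/
theorem result {G : Type*} [Group G] [Finite G]
    (h : ∀ x : G, Squarefree (Subgroup.centralizer ({x} : Set G)).index) :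
    Cfsg.IsSupersolvable G ∧ (Cfsg.fittingSubgroup G).Normal ∧
    (∀ _h : (Cfsg.fittingSubgroup G).Normal, IsCyclic (G ⧸ Cfsg.fittingSubgroup G) ∧ Squarefree (Cfsg.fittingSubgroup G).index) ∧
    IsCyclic (commutator G) ∧ Squarefree (Nat.card (commutator G)) ∧
    Subgroup.upperCentralSeries ↥(Cfsg.fittingSubgroup G) 2 = ⊤ ∧ commutator ↥(commutator G) = ⊥ := by
  have hS : SqClass.SQ G := h
  have hcyc := hS.isCyclic_commutator
  have hab : IsMulCommutative (commutator G) := inferInstance
  have hFn : (Cfsg.fittingSubgroup G).Normal := Core.fittingSubgroup_normal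
  have hFC := hS.fitting_eq
  have hG'F : commutator G ≤ Cfsg.fittingSubgroup G :=
    Core.le_fittingSubgroup_of_isMulCommutative
  obtain ⟨d, hd⟩ := (Subgroup.isCyclic_iff_exists_zpowers_eq_top (commutator G)).mp hcyc
  have hC : Subgroup.centralizer ((commutator G : Subgroup G) : Set G) =
      Subgroup.centralizer ({d} : Set G) := by
    refine le_antisymm (Subgroup.centralizer_le
      (Set.singleton_subset_iff.2 (hd ▸ Subgroup.mem_zpowers d))) fun g hg => ?_
    rw [← hd, Subgroup.mem_centralizer_iff]
    intro y hy
    obtain ⟨i, rfl⟩ := Subgroup.mem_zpowers_iff.1 hy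
    exact ((show Commute g d from Subgroup.mem_centralizer_singleton_iff.1 hg).zpow_right i).eq.symm
  have hsqF : Squarefree (Cfsg.fittingSubgroup G).index := by
    rw [hFC, hC]; exact h d
  refine ⟨SqClass.isSupersolvable_of_sq _ G rfl hS, hFn, fun _h => ⟨?_, hsqF⟩, hcyc,
    hS.squarefree_card_commutator, ?_, ?_⟩
  · have := IsZGroup.of_squarefree (G := G ⧸ Cfsg.fittingSubgroup G)
      (by rw [← Subgroup.index_eq_card]; exact hsqF)
    have hcomm : ∀ a b : G ⧸ Cfsg.fittingSubgroup G, a * b = b * a := by
      intro a b
      obtain ⟨a, rfl⟩ := QuotientGroup.mk'_surjective _ a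
      obtain ⟨b, rfl⟩ := QuotientGroup.mk'_surjective _ b
      rw [← commutatorElement_eq_one_iff_mul_comm, ← map_commutatorElement]
      exact (QuotientGroup.eq_one_iff _).2 (hG'F (by
        rw [_root_.commutator_def]
        exact Subgroup.commutator_mem_commutator (Subgroup.mem_top a) (Subgroup.mem_top b)))
    letI : CommGroup (G ⧸ Cfsg.fittingSubgroup G) :=
      { (inferInstance : Group (G ⧸ Cfsg.fittingSubgroup G)) with mul_comm := hcomm }
    infer_instance
  · rw [eq_top_iff]
    intro x _
    rw [Subgroup.mem_upperCentralSeries_succ_iff]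
    intro y
    rw [Subgroup.upperCentralSeries_one, Subgroup.mem_center_iff]
    intro z
    apply Subtype.ext
    have hm : ⁅(x : G), (y : G)⁆ ∈ commutator G := by
      rw [_root_.commutator_def]
      exact Subgroup.commutator_mem_commutator (Subgroup.mem_top _) (Subgroup.mem_top _)
    have hz : (z : G) ∈ Subgroup.centralizer ((commutator G : Subgroup G) : Set G) :=
      hFC ▸ z.2
    simpa [commutatorElement_def] using (Subgroup.mem_centralizer_iff.1 hz _ hm).symm
  · rw [eq_bot_iff]
    refine (Subgroup.commutator_le (H₁ := (⊤ : Subgroup (commutator G))) (H₂ := ⊤)).2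
      fun a _ b _ => Subgroup.mem_bot.2 ?_
    rw [commutatorElement_eq_one_iff_mul_comm]
    exact IsMulCommutative.is_comm.comm a b

end Cfsg.Agent.S4130
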