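import Cfsg.Statements.S4134
import Cfsg.Agent.TwoClassSizes.Main
import Cfsg.Agent.Fusion.FixedPointFree

set_option autoImplicit false
open Cfsg

namespace Cfsg.Agent.S4134

/-- Let G be a finite group whose conjugacy classes have exactly two sizes, 1 and n > 1. Then n is a power of a prime p and G is the direct product of a p-group and an abelian group of order prime to p: its Sylow p-subgroup P is normal with an abelian normal complement centralizing it; moreover P has an abelian normal subgroup A with P/A of exponent dividing p. -/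
theorem result {G : Type*} [Group G] [Finite G] (n : ℕ) (hn : 1 < n)
    (h : ∀ x : G, (Subgroup.centralizer ({x} : Set G)).index = 1 ∨ (Subgroup.centralizer ({x} : Set G)).index = n) (hex : ∃ x : G, (Subgroup.centralizer ({x} : Set G)).index = n) :
    ∃ (p : ℕ) (_ : Fact p.Prime) (a : ℕ), n = p ^ a ∧ ∀ P : Sylow p G, (P : Subgroup G).Normal ∧
      (∃ N : Subgroup G, N.Normal ∧ N.IsComplement' (P : Subgroup G) ∧ IsMulCommutative N ∧
        ∀ x ∈ N, ∀ y ∈ (P : Subgroup G), x * y = y * x) ∧
      ∃ A : Subgroup (P : Subgroup G), A.Normal ∧ IsMulCommutative A ∧ ∀ y : (P : Subgroup G), y ^ p ∈ A := by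
  classical
  obtain ⟨x₀, hx₀⟩ := hex
  have H : TwoClassSizes.Hyp G n := by
    refine ⟨hn, fun x hx => (h x).resolve_left fun e => hx (Subgroup.mem_center_iff.mpr fun g => ?_)⟩
    rw [Subgroup.index_eq_one] at e
    exact Subgroup.mem_centralizer_singleton_iff.mp (e ▸ Subgroup.mem_top g)
  obtain ⟨p, hp, hall⟩ := H.exists_prime
  haveI := Fact.mk hp
  have hx₀Z : x₀ ∉ Subgroup.center G := fun hz => by
    have htop : Subgroup.centralizer ({x₀} : Set G) = ⊤ := top_le_iff.mp fun g _ =>
      Subgroup.mem_centralizer_singleton_iff.mpr (Subgroup.mem_center_iff.mp hz g)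
    rw [htop, Subgroup.index_top] at hx₀
    omega
  refine ⟨p, ⟨hp⟩, n.primeFactorsList.length, Nat.eq_prime_pow_of_unique_prime_dvd (by omega)
    (fun {r} hr hrn => ?_), fun P => ?_⟩
  · by_contra hrp
    haveI := Fact.mk hr
    obtain ⟨R⟩ := (inferInstance : Nonempty (Sylow r G))
    refine R.not_dvd_index ?_
    rw [← hx₀] at hrn
    refine hrn.trans (Subgroup.index_dvd_of_le fun y hy =>
      TwoClassSizes.center_le_centralizer_singleton x₀ ?_)
    obtain ⟨k, hk⟩ := IsPGroup.iff_orderOf.mp R.2 ⟨y, hy⟩
    exact hall r hr hrp y ⟨k, by rw [Subgroup.orderOf_mk] at hk; exact hk.dvd⟩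
  · have hres : Cfsg.pResidual p G ≤ Subgroup.center G := by
      rw [Cfsg.pResidual, Subgroup.closure_le]
      intro g hg
      refine TwoClassSizes.le_of_primePow_mem (H := Subgroup.zpowers g) (K := Subgroup.center G)
        (fun e he r hr hk => ?_) (Subgroup.mem_zpowers g)
      by_cases hrp : r = p
      · subst hrp
        obtain ⟨k, hk⟩ := hk
        have h1 : orderOf e = 1 := Nat.eq_one_of_dvd_coprimes (Nat.Coprime.pow_right k hg)
          (orderOf_dvd_of_mem_zpowers he) hk
        rw [orderOf_eq_one_iff.mp h1]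
        exact one_mem _
      · exact hall r hr hrp e hk
    have hnil : Group.IsNilpotent G := Group.of_quotient_center_nilpotent
      (Fusion.isPGroup_quotient_of_pResidual_le (p := p) _ hres).isNilpotent
    haveI := hnil
    refine ⟨(Group.isNilpotent_of_finite_tfae.out 0 3 rfl rfl).mp hnil p inferInstance P,
      ⟨Cfsg.pResidual p G, inferInstance, Fusion.isComplement'_pResidual
        (Fusion.hasNormalPComplement_of_isNilpotent hnil) P,
        ⟨⟨fun a b => Subtype.ext (Subgroup.mem_center_iff.mp (hres b.2) a)⟩⟩,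
        fun x hx y _ => (Subgroup.mem_center_iff.mp (hres hx) y).symm⟩,
      TwoClassSizes.exists_abelian_pow_mem H P⟩

end Cfsg.Agent.S4134
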