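import Cfsg.Statements.S4138
import Cfsg.Agent.CoprimeClass.Main
-- import your own Cfsg.Agent.* helpers here

set_option autoImplicit false
open Cfsg

namespace Cfsg.Agent.S4138

open Subgroup Cfsg.Agent.CoprimeClass

open scoped Pointwise

theorem main {G : Type*} [Group G] [Finite G] (D : Hyp G) :
    IsMulCommutative (cz D.x) ∧ IsMulCommutative (cz D.y) ∧
    Cfsg.IsFrobeniusComplement ((cz D.y).map (QuotientGroup.mk' (center G))) ∧
    Cfsg.frobeniusKernel ((cz D.y).map (QuotientGroup.mk' (center G))) =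
      ((cz D.x).map (QuotientGroup.mk' (center G)) : Set (G ⧸ center G)) := by
  classical
  have habx : IsMulCommutative (cz D.x) :=
    ⟨⟨fun a b => Subtype.ext (mem_cz.mp (D.abelian_x D.hx b.2 a.2))⟩⟩
  have haby : IsMulCommutative (cz D.y) :=
    ⟨⟨fun a b => Subtype.ext (mem_cz.mp (D.abelian_y b.2 a.2))⟩⟩
  haveI := D.normal_cz D.hx
  obtain ⟨y, q, a, hq, hyo, hy, hcy⟩ := D.exists_part_m
  have hD : cz D.x ⊓ cz D.y = center G := hcy ▸ D.inf_eq_center hq hyo hy D.hx
  set π := QuotientGroup.mk' (center G) with hπ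
  have hker : ∀ c : G, π c = 1 ↔ c ∈ center G := fun c => QuotientGroup.eq_one_iff c
  have hmem : ∀ {K : Subgroup G} {c : G}, center G ≤ K → π c ∈ K.map π → c ∈ K := by
    intro K c hK h
    obtain ⟨d, hd, e⟩ := h
    have h1 : π (d⁻¹ * c) = 1 := by rw [map_mul, map_inv, e, inv_mul_cancel]
    have := mul_mem hd (hK ((hker _).mp h1))
    rwa [mul_inv_cancel_left] at this
  have hb : ∀ {t b : G}, t ∈ cz D.x → b ∈ cz D.y → t * b * t⁻¹ * b⁻¹ ∈ center G → t ∈ cz b := fun ht hb h =>
    D.comm_trick hq hyo hy D.hx (hcy ▸ hb) ht h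
  refine ⟨habx, haby, ⟨?_, ?_, ?_⟩, ?_⟩
  · intro h
    have h1 : π D.y = 1 := (Subgroup.eq_bot_iff_forall _).mp h _ ⟨D.y, mem_cz.mpr rfl, rfl⟩
    exact D.not_central_of_sz D.hy ((hker _).mp h1)
  · intro h
    have h1 : cz D.y = ⊤ := (Subgroup.eq_top_iff' _).mpr fun c => hmem (center_le _) (h ▸ mem_top _)
    have h2 := D.hy
    rw [sz, h1, index_top] at h2
    have := D.hmn
    have := D.hn
    omega
  · intro g hg
    obtain ⟨g, rfl⟩ := QuotientGroup.mk'_surjective (center G) g
    rw [Subgroup.eq_bot_iff_forall]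
    rintro _ ⟨⟨c, hc, rfl⟩, hs⟩
    by_contra hne
    have hcnc : c ∉ center G := fun h => hne ((hker c).mpr h)
    have h1 : g⁻¹ * c * g ∈ cz D.y := by
      refine hmem (center_le _) ?_
      have h2 := Subgroup.mem_pointwise_smul_iff_inv_smul_mem.mp hs
      obtain ⟨z0, hz0, e0⟩ := h2
      exact ⟨z0, hz0, e0.trans (by simp [MulAut.smul_def, hπ])⟩
    have h1nc : g⁻¹ * c * g ∉ center G := fun h => hcnc (by
      have := (inferInstance : (center G).Normal).conj_mem _ h g
      rwa [show g * (g⁻¹ * c * g) * g⁻¹ = c by group] at this)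
    obtain ⟨t, ht, b, hb', rfl⟩ := exists_mem_cz (show (sz D.x).Coprime (sz D.y) by
      rw [D.hx, D.hy]; exact D.hcop.symm) g
    refine hg ⟨t * b, mul_mem ?_ hb', rfl⟩
    -- `t` normalises `cz D.y`
    have h3 : t⁻¹ * c * t ∈ cz D.y := by
      have := mul_mem (mul_mem hb' h1) (inv_mem hb')
      rwa [show b * ((t * b)⁻¹ * c * (t * b)) * b⁻¹ = t⁻¹ * c * t by group] at this
    have h4 : t⁻¹ ∈ cz c := by
      refine hb (inv_mem ht) hc (hD.le ⟨?_, ?_⟩)
      · rw [inv_inv]
        have := mul_mem (inv_mem ht) ((D.normal_cz D.hx).conj_mem _ ht c)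
        rwa [show t⁻¹ * (c * t * c⁻¹) = t⁻¹ * c * t * c⁻¹ by group] at this
      · rw [inv_inv]; exact mul_mem h3 (inv_mem (S := Subgroup G) hc)
    rw [D.cz_eq_y hc hcnc] at h4
    exact inv_inv t ▸ inv_mem h4
  · ext v
    obtain ⟨c, rfl⟩ := QuotientGroup.mk'_surjective (center G) v
    constructor
    · intro hv
      by_contra hcx
      have hcx' : c ∉ cz D.x := fun h => hcx ⟨c, h, rfl⟩
      rcases hv with hv | hv
      · exact hcx' (center_le _ ((hker c).mp hv))
      obtain ⟨t, ht, b, hb', rfl⟩ := exists_mem_cz (show (sz D.x).Coprime (sz D.y) by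
        rw [D.hx, D.hy]; exact D.hcop.symm) c
      have hbnc : b ∉ center G := fun h => hcx' (mul_mem ht (center_le _ h))
      let F : (cz D.x).map π → (cz D.x).map π := fun z => ⟨(z : G ⧸ center G) * π b * (z : G ⧸ center G)⁻¹ * (π b)⁻¹, by
        obtain ⟨z', hz', e⟩ := z.2
        rw [← e, ← map_inv, ← map_inv, ← map_mul, ← map_mul, ← map_mul]
        refine mem_map_of_mem π ?_
        have := mul_mem hz' ((D.normal_cz D.hx).conj_mem _ (inv_mem hz') b)
        rwa [show z' * (b * z'⁻¹ * b⁻¹) = z' * b * z'⁻¹ * b⁻¹ by group] at this⟩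
      have hF : Function.Injective F := by
        rintro ⟨z1, a1, ha1, rfl⟩ ⟨z2, a2, ha2, rfl⟩ h
        have h' : π a1 * π b * (π a1)⁻¹ * (π b)⁻¹ = π a2 * π b * (π a2)⁻¹ * (π b)⁻¹ := congrArg Subtype.val h
        have h'' : a2⁻¹ * a1 * b * (a2⁻¹ * a1)⁻¹ * b⁻¹ ∈ center G := by
          rw [← hker]
          simp only [map_mul, map_inv]
          have h5 := mul_right_cancel h'
          calc (π a2)⁻¹ * π a1 * π b * ((π a2)⁻¹ * π a1)⁻¹ * (π b)⁻¹
              = (π a2)⁻¹ * (π a1 * π b * (π a1)⁻¹) * π a2 * (π b)⁻¹ := by group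
            _ = 1 := by rw [h5]; group
        have h6 := hb (mul_mem (inv_mem ha2) ha1) hb' h''
        rw [D.cz_eq_y hb' hbnc] at h6
        refine Subtype.ext ?_
        show π a1 = π a2
        have := (hker _).mpr (hD.le ⟨mul_mem (inv_mem (S := Subgroup G) ha2) ha1, h6⟩)
        rw [map_mul, map_inv, inv_mul_eq_one] at this
        exact this.symm
      obtain ⟨⟨_, a0, ha0, rfl⟩, he⟩ := (Finite.injective_iff_surjective.mp hF) ⟨π t, mem_map_of_mem π ht⟩
      have he' : π a0 * π b * (π a0)⁻¹ * (π b)⁻¹ = π t := congrArg Subtype.val he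
      refine hv (π a0) ?_
      refine Subgroup.mem_pointwise_smul_iff_inv_smul_mem.mpr ⟨b, hb', ?_⟩
      simp only [map_mul, MulAut.smul_def, MulAut.inv_apply, MulAut.conj_symm_apply]
      show π b = (π a0)⁻¹ * π t * π a0 * ((π a0)⁻¹ * π b * π a0)
      rw [← he']; group
    · rintro ⟨c', hc', e⟩
      rw [← e]
      by_cases hc'1 : π c' = 1
      · exact Or.inl hc'1
      refine Or.inr fun g hg => hc'1 ((hker _).mpr ?_)
      obtain ⟨g, rfl⟩ := QuotientGroup.mk'_surjective (center G) g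
      have h1 : g⁻¹ * c' * g ∈ cz D.y := by
        refine hmem (center_le _) ?_
        have h2 := Subgroup.mem_pointwise_smul_iff_inv_smul_mem.mp hg
        obtain ⟨z0, hz0, e0⟩ := h2
        exact ⟨z0, hz0, e0.trans (by simp [MulAut.smul_def, hπ])⟩
      have h2 : g⁻¹ * c' * g ∈ cz D.x := by
        have := (D.normal_cz D.hx).conj_mem _ hc' g⁻¹
        rwa [inv_inv] at this
      have := (inferInstance : (center G).Normal).conj_mem _ (hD.le ⟨h2, h1⟩) g
      rwa [show g * (g⁻¹ * c' * g) * g⁻¹ = c' by group] at this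

/-- Let G be a finite group whose two largest conjugacy class sizes m > n > 1 are coprime, and let x, y ∈ G have classes of sizes n and m respectively. Then C_G(x) and C_G(y) are abelian, and G/Z(G) is a Frobenius group with kernel C_G(x)/Z(G) and complement C_G(y)/Z(G). -/
theorem result {G : Type*} [Group G] [Finite G] (m n : ℕ) (hmn : n < m) (hn : 1 < n)
    (hcop : m.Coprime n) (htop : ∀ z : G, (Subgroup.centralizer ({z} : Set G)).index ≤ m) (hsecond : ∀ z : G, (Subgroup.centralizer ({z} : Set G)).index < m → (Subgroup.centralizer ({z} : Set G)).index ≤ n)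
    (x y : G) (hx : (Subgroup.centralizer ({x} : Set G)).index = n) (hy : (Subgroup.centralizer ({y} : Set G)).index = m) :
    IsMulCommutative (Subgroup.centralizer ({x} : Set G)) ∧ IsMulCommutative (Subgroup.centralizer ({y} : Set G)) ∧
    Cfsg.IsFrobeniusComplement ((Subgroup.centralizer ({y} : Set G)).map (QuotientGroup.mk' (Subgroup.center G))) ∧
    Cfsg.frobeniusKernel ((Subgroup.centralizer ({y} : Set G)).map (QuotientGroup.mk' (Subgroup.center G))) =
      ((Subgroup.centralizer ({x} : Set G)).map (QuotientGroup.mk' (Subgroup.center G)) : Set (G ⧸ Subgroup.center G)) := by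
  exact main { m := m, n := n, hmn := hmn, hn := hn, hcop := hcop, top := htop, second := hsecond, x := x, hx := hx, y := y, hy := hy }

end Cfsg.Agent.S4138
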