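import Cfsg.Statements.S4139
import Mathlib

set_option autoImplicit false
open Cfsg

namespace Cfsg.Agent.S4139

open scoped Pointwise

theorem card_mul_relIndex' {G : Type*} [Group G] {H K : Subgroup G} (h : H ≤ K) :
    Nat.card H * H.relIndex K = Nat.card K := by
  rw [← Nat.card_congr (Subgroup.subgroupOfEquivOfLe h).toEquiv]
  exact Subgroup.card_mul_index _

section

variable {G : Type*} [Group G] [Finite G] (p : ℕ) [hp : Fact p.Prime]

theorem card_carrier (x : G) :
    Nat.card (ConjClasses.mk x).carrier = (Subgroup.centralizer ({x} : Set G)).index := by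
  rw [← ConjAct.orbit_eq_carrier_conjClasses, Nat.card_coe_set_eq, ← MulAction.index_stabilizer,
    ConjAct.stabilizer_eq_centralizer]
  rfl

/-- Elements whose class has size prime to `p`. -/
def primeClass : Set G := {x | ¬ p ∣ (Subgroup.centralizer ({x} : Set G)).index}

/-- The number of Sylow `p`-subgroups centralizing an element. -/
noncomputable def numSyl (x : G) : ℕ :=
  Nat.card {Q : Sylow p G // (Q : Subgroup G) ≤ Subgroup.centralizer ({x} : Set G)}

theorem exists_le_iff (x : G) :
    x ∈ primeClass p ↔ ∃ Q : Sylow p G, (Q : Subgroup G) ≤ Subgroup.centralizer ({x} : Set G) := by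
  constructor
  · intro hx
    obtain ⟨R⟩ := (inferInstance : Nonempty (Sylow p ↥(Subgroup.centralizer ({x} : Set G))))
    obtain ⟨Q, hQ⟩ := (R.2.map (Subgroup.centralizer ({x} : Set G)).subtype).exists_le_sylow
    refine ⟨Q, ?_⟩
    have h1 : Nat.card ↥((R : Subgroup ↥(Subgroup.centralizer ({x} : Set G))).map
        (Subgroup.centralizer ({x} : Set G)).subtype) = Nat.card ↥(Q : Subgroup G) := by
      rw [Subgroup.card_map_of_injective (Subgroup.subtype_injective _), R.card_eq_multiplicity,
        Q.card_eq_multiplicity]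
      have h := Subgroup.card_mul_index (Subgroup.centralizer ({x} : Set G))
      rw [← h, Nat.factorization_mul Nat.card_pos.ne' Subgroup.index_ne_zero_of_finite, Finsupp.add_apply,
        Nat.factorization_eq_zero_of_not_dvd hx, add_zero]
    rw [← Subgroup.eq_of_le_of_card_ge hQ h1.ge]
    exact Subgroup.map_subtype_le _
  · rintro ⟨Q, hQ⟩ hdvd
    exact Q.not_dvd_index (hdvd.trans (Subgroup.index_dvd_of_le hQ))

theorem numSyl_modEq {x : G} (hx : x ∈ primeClass p) : numSyl p x ≡ 1 [MOD p] := by
  obtain ⟨Q0, hQ0⟩ := (exists_le_iff p x).1 hx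
  set C := Subgroup.centralizer ({x} : Set G)
  have e : numSyl p x = Nat.card (Sylow p ↥C) := by
    refine Nat.card_congr (Equiv.ofBijective (fun Q => Q.1.subtype Q.2) ⟨?_, ?_⟩)
    · intro a b h
      exact Subtype.ext (Sylow.subtype_injective h)
    · intro R
      obtain ⟨g, hg⟩ := MulAction.exists_smul_eq ↥C (Q0.subtype hQ0) R
      refine ⟨⟨(g : G) • Q0, Sylow.smul_le hQ0 g⟩, ?_⟩
      rw [← hg, Sylow.smul_subtype]
      rfl
  rw [e]
  exact card_sylow_modEq_one p ↥C

theorem numSyl_one : numSyl p (1 : G) = Nat.card (Sylow p G) :=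
  Nat.card_congr (Equiv.subtypeUnivEquiv fun Q g _ => Subgroup.mem_centralizer_singleton_iff.2 (by simp))

theorem numSyl_pos {x : G} (hx : x ∈ primeClass p) : 0 < numSyl p x := by
  obtain ⟨Q, hQ⟩ := (exists_le_iff p x).1 hx
  have : Nonempty {Q : Sylow p G // (Q : Subgroup G) ≤ Subgroup.centralizer ({x} : Set G)} := ⟨⟨Q, hQ⟩⟩
  exact Nat.card_pos

theorem numSyl_eq_zero {x : G} (hx : x ∉ primeClass p) : numSyl p x = 0 :=
  Nat.card_eq_zero.2 (Or.inl ⟨fun Q => hx ((exists_le_iff p x).2 ⟨Q.1, Q.2⟩)⟩)

theorem sum_numSyl [Fintype G] (P : Sylow p G) :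
    ∑ x : G, numSyl p x = Nat.card (Sylow p G) * Nat.card ↥(Subgroup.centralizer (P : Set G)) := by
  classical
  have hiff : ∀ (Q : Sylow p G) (x : G),
      (Q : Subgroup G) ≤ Subgroup.centralizer ({x} : Set G) ↔ x ∈ Subgroup.centralizer (Q : Set G) := by
    intro Q x
    rw [Subgroup.mem_centralizer_iff]
    exact ⟨fun h y hy => Subgroup.mem_centralizer_singleton_iff.1 (h hy),
      fun h y hy => Subgroup.mem_centralizer_singleton_iff.2 (h y hy)⟩
  have hconj : ∀ Q : Sylow p G, Nat.card ↥(Subgroup.centralizer (Q : Set G)) =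
      Nat.card ↥(Subgroup.centralizer (P : Set G)) := by
    intro Q
    obtain ⟨g, rfl⟩ := MulAction.exists_smul_eq G P Q
    refine (Nat.card_congr ((MulAut.conj g).toEquiv.subtypeEquiv fun x => ?_)).symm
    simp only [Subgroup.mem_centralizer_iff, MulEquiv.toEquiv_eq_coe, EquivLike.coe_coe, SetLike.mem_coe]
    constructor
    · intro h y hy
      change y ∈ MulAut.conj g • (P : Subgroup G) at hy
      obtain ⟨z, hz, rfl⟩ := hy
      change MulAut.conj g z * MulAut.conj g x = MulAut.conj g x * MulAut.conj g z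
      rw [← map_mul, ← map_mul, h z hz]
    · intro h y hy
      have := h (MulAut.conj g y) (by
        change MulAut.conj g y ∈ MulAut.conj g • (P : Subgroup G)
        exact ⟨y, hy, rfl⟩)
      rw [← map_mul, ← map_mul] at this
      exact (MulAut.conj g).injective this
  have : Fintype (Sylow p G) := Fintype.ofFinite _
  calc ∑ x : G, numSyl p x
      = Nat.card ((x : G) × {Q : Sylow p G // (Q : Subgroup G) ≤ Subgroup.centralizer ({x} : Set G)}) := by
        rw [Nat.card_sigma]; rfl
    _ = Nat.card ((Q : Sylow p G) × {x : G // x ∈ Subgroup.centralizer (Q : Set G)}) :=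
        Nat.card_congr
          { toFun := fun a => ⟨a.2.1, a.1, (hiff _ _).1 a.2.2⟩
            invFun := fun b => ⟨b.2.1, b.1, (hiff _ _).2 b.2.2⟩
            left_inv := fun a => rfl
            right_inv := fun b => rfl }
    _ = ∑ Q : Sylow p G, Nat.card ↥(Subgroup.centralizer (Q : Set G)) := Nat.card_sigma
    _ = _ := by rw [Finset.sum_congr rfl fun Q _ => hconj Q, Finset.sum_const, Finset.card_univ,
          smul_eq_mul, Nat.card_eq_fintype_card (α := Sylow p G)]

theorem card_mul_dvd (P : Sylow p G) :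
    Nat.card ↥(Subgroup.centralizer (P : Set G)) * Nat.card ↥(P : Subgroup G) ∣
      Nat.card ↥(Subgroup.normalizer ((P : Subgroup G) : Set G)) *
        Nat.card ↥((P : Subgroup G) ⊓ Subgroup.centralizer (P : Set G)) := by
  have h1 := card_mul_relIndex' (H := (P : Subgroup G) ⊓ Subgroup.centralizer (P : Set G))
    (K := Subgroup.centralizer (P : Set G)) inf_le_right
  rw [Subgroup.inf_relIndex_right] at h1
  have hdvd : (P : Subgroup G).relIndex (Subgroup.centralizer (P : Set G)) ∣
      (P : Subgroup G).relIndex (Subgroup.normalizer ((P : Subgroup G) : Set G)) := by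
    have hn : ((P : Subgroup G).subgroupOf (Subgroup.normalizer ((P : Subgroup G) : Set G))).Normal :=
      Subgroup.normal_in_normalizer
    rw [← Subgroup.relIndex_subgroupOf (Subgroup.centralizer_le_normalizer (P : Set G))]
    exact Subgroup.relIndex_dvd_index_of_normal _ _
  have h2 := card_mul_relIndex' (Subgroup.le_normalizer (H := (P : Subgroup G)))
  rw [← h1, ← h2]
  obtain ⟨c, hc⟩ := hdvd
  exact ⟨c, by rw [hc]; ring⟩

theorem key (m : ℕ) (hm : Nat.card ↥(Subgroup.center G) = m)
    (hX : Nat.card (primeClass (G := G) p) = ordCompl[p] (Nat.card G) * ordProj[p] m) (P : Sylow p G) :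
    (P : Subgroup G).Normal := by
  classical
  have : Fintype G := Fintype.ofFinite G
  obtain ⟨W0⟩ := (inferInstance : Nonempty (Sylow p ↥(Subgroup.center G)))
  set W : Subgroup G := (W0 : Subgroup ↥(Subgroup.center G)).map (Subgroup.center G).subtype with hWdef
  have hWc : W ≤ Subgroup.center G := Subgroup.map_subtype_le _
  have hWp : IsPGroup p W := W0.2.map _
  have hWcard : Nat.card W = ordProj[p] m := by
    rw [hWdef, Subgroup.card_map_of_injective (Subgroup.subtype_injective _), W0.card_eq_multiplicity, hm]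
  have hWn : W.Normal := ⟨fun x hx g => by rwa [Subgroup.mem_center_iff.1 (hWc hx) g, mul_inv_cancel_right]⟩
  set C := Subgroup.centralizer (P : Set G)
  set a := Nat.card ↥((P : Subgroup G) ⊓ C)
  set n := Nat.card (Sylow p G)
  have hWP : W ≤ (P : Subgroup G) ⊓ C := by
    obtain ⟨Q, hQ⟩ := hWp.exists_le_sylow
    obtain ⟨g, rfl⟩ := MulAction.exists_smul_eq G Q P
    refine le_inf (fun x hx => ?_) fun x hx y _ => Subgroup.mem_center_iff.1 (hWc hx) y
    change x ∈ MulAut.conj g • (Q : Subgroup G)
    refine ⟨x, hQ hx, ?_⟩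
    change MulAut.conj g x = x
    rw [MulAut.conj_apply, Subgroup.mem_center_iff.1 (hWc hx) g, mul_inv_cancel_right]
  have hinv : ∀ x : G, ∀ w ∈ W, Subgroup.centralizer ({x * w} : Set G) = Subgroup.centralizer ({x} : Set G) := by
    intro x w hw
    have hw' := Subgroup.mem_center_iff.1 (hWc hw)
    ext y
    rw [Subgroup.mem_centralizer_singleton_iff, Subgroup.mem_centralizer_singleton_iff]
    constructor
    · intro h
      refine mul_right_cancel (b := w) ?_
      rw [mul_assoc y x w, h, mul_assoc x w y, ← hw' y, ← mul_assoc]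
    · intro h
      rw [← mul_assoc, h, mul_assoc x y w, hw' y, ← mul_assoc]
  have hmodsum : ∀ f : G → ℕ, (∀ x, ∀ w ∈ W, f (x * w) = f x) →
      ∑ x : G, f x = Nat.card W * ∑ c : G ⧸ W, f c.out := by
    intro f hf
    rw [← Finset.sum_fiberwise Finset.univ (fun x : G => (x : G ⧸ W)), Finset.mul_sum]
    refine Finset.sum_congr rfl fun c _ => ?_
    have hcard : (Finset.univ.filter fun x : G => (x : G ⧸ W) = c).card = Nat.card W := by
      rw [← Fintype.card_subtype, ← Nat.card_eq_fintype_card]
      refine Nat.card_congr ((Equiv.subtypeEquivRight fun x => ?_).trans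
        (((Equiv.mulLeft c.out⁻¹).subtypeEquiv (q := fun y => y ∈ W) fun x => Iff.rfl)))
      simp only [Equiv.coe_mulLeft]
      rw [← QuotientGroup.eq, QuotientGroup.out_eq', eq_comm]
    rw [← hcard, Finset.sum_congr rfl fun x hx => ?_, Finset.sum_const, smul_eq_mul]
    have hx' := (Finset.mem_filter.1 hx).2
    rw [← hx']
    obtain ⟨w, hw⟩ := QuotientGroup.mk_out_eq_mul W x
    rw [hw, hf x w w.2]
  have hnum : ∀ x, ∀ w ∈ W, numSyl p (x * w) = numSyl p x := fun x w hw => by
    unfold numSyl; rw [hinv x w hw]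
  let ind : G → ℕ := fun x => if x ∈ primeClass p then 1 else 0
  have hind : ∀ x, ∀ w ∈ W, ind (x * w) = ind x := fun x w hw => by
    have : x * w ∈ primeClass p ↔ x ∈ primeClass p := by
      change ¬ _ ↔ ¬ _
      rw [hinv x w hw]
    simp only [ind, this]
  have hsum : ∑ x : G, numSyl p x = n * Nat.card C := sum_numSyl p P
  have hcnt : ∑ x : G, ind x = Nat.card (primeClass (G := G) p) := by
    simp only [ind, Finset.sum_boole, Nat.cast_id, Nat.card_eq_fintype_card, Fintype.card_ofFinset]
    try rfl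
  rw [hmodsum _ hnum] at hsum
  rw [hmodsum _ hind, hX, mul_comm (ordCompl[p] (Nat.card G)), ← hWcard] at hcnt
  have hq := Nat.eq_of_mul_eq_mul_left Nat.card_pos hcnt
  have hmod : ∑ c : G ⧸ W, numSyl p c.out ≡ ∑ c : G ⧸ W, ind c.out [MOD p] := by
    rw [← ZMod.natCast_eq_natCast_iff]
    push_cast
    refine Finset.sum_congr rfl fun c _ => ?_
    rw [ZMod.natCast_eq_natCast_iff]
    by_cases hc : c.out ∈ primeClass p
    · simpa only [ind, if_pos hc] using numSyl_modEq p hc
    · simp only [ind, if_neg hc, numSyl_eq_zero p hc]; rfl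
  have hMp : ¬ p ∣ ∑ c : G ⧸ W, numSyl p c.out := by
    intro hd
    have := (hmod.dvd_iff (dvd_refl p)).1 hd
    rw [hq] at this
    exact Nat.not_dvd_ordCompl hp.out Nat.card_pos.ne' this
  have haW : a = Nat.card W := by
    obtain ⟨i, hi⟩ := IsPGroup.iff_card.1 (P.2.to_le (inf_le_left : (P : Subgroup G) ⊓ C ≤ _))
    obtain ⟨j, hj⟩ := IsPGroup.iff_card.1 hWp
    refine le_antisymm ?_ (Subgroup.card_le_of_le hWP)
    have hdvdC : a ∣ n * Nat.card C := (Subgroup.card_dvd_of_le inf_le_right).mul_left n
    rw [← hsum] at hdvdC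
    have hcop : Nat.Coprime a (∑ c : G ⧸ W, numSyl p c.out) := by
      change Nat.Coprime (Nat.card ↥((P : Subgroup G) ⊓ C)) _
      rw [hi]
      exact Nat.Coprime.pow_left i ((hp.out.coprime_iff_not_dvd).2 hMp)
    exact Nat.le_of_dvd Nat.card_pos (hcop.dvd_of_dvd_mul_right hdvdC)
  have hnC : n * Nat.card C ≤ Nat.card (primeClass (G := G) p) := by
    have hd := card_mul_dvd p P
    have hle := Nat.le_of_dvd (Nat.mul_pos Nat.card_pos Nat.card_pos) hd
    have hnN : n * Nat.card ↥(Subgroup.normalizer ((P : Subgroup G) : Set G)) = Nat.card G := by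
      rw [show n = (Subgroup.normalizer ((P : Subgroup G) : Set G)).index from P.card_eq_index_normalizer]
      exact Subgroup.index_mul_card _
    have hPW : Nat.card G = Nat.card ↥(P : Subgroup G) * ordCompl[p] (Nat.card G) := by
      rw [P.card_eq_multiplicity, Nat.ordProj_mul_ordCompl_eq_self]
    rw [hX, ← hWcard, ← haW]
    refine Nat.le_of_mul_le_mul_right (c := Nat.card ↥(P : Subgroup G)) ?_ Nat.card_pos
    calc n * Nat.card C * Nat.card ↥(P : Subgroup G) = n * (Nat.card C * Nat.card ↥(P : Subgroup G)) := by ring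
      _ ≤ n * (Nat.card ↥(Subgroup.normalizer ((P : Subgroup G) : Set G)) * a) := Nat.mul_le_mul_left n hle
      _ = Nat.card G * a := by rw [← hnN]; ring
      _ = _ := by nth_rewrite 1 [hPW]; ring
  have hpt : ∀ x : G, ind x ≤ numSyl p x := by
    intro x
    by_cases hx : x ∈ primeClass p
    · simp only [ind, if_pos hx]; exact numSyl_pos p hx
    · simp only [ind, if_neg hx]; exact Nat.zero_le _
  have h1 : (1 : G) ∈ primeClass p := (exists_le_iff p 1).2 ⟨P, fun g _ => Subgroup.mem_centralizer_singleton_iff.2 (by simp)⟩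
  have hlow : Nat.card (primeClass (G := G) p) + n ≤ n * Nat.card C + 1 := by
    have e1 : ∑ x : G, ind x = Nat.card (primeClass (G := G) p) := by
      rw [hmodsum _ hind, hq, hX, hWcard]; ring
    rw [← e1, ← sum_numSyl p P, ← Finset.add_sum_erase _ ind (Finset.mem_univ 1),
      ← Finset.add_sum_erase _ (numSyl p) (Finset.mem_univ (1 : G))]
    have := Finset.sum_le_sum (s := Finset.univ.erase (1 : G)) fun x _ => hpt x
    have hn1 : numSyl p (1 : G) = n := numSyl_one p
    have hi1 : ind 1 = 1 := by simp only [ind, if_pos h1]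
    omega
  have hn : Nat.card (Sylow p G) = 1 := le_antisymm (show n ≤ 1 by omega) Nat.card_pos
  have : Subsingleton (Sylow p G) := (Nat.card_eq_one_iff_unique.1 hn).1
  exact P.normal_of_subsingleton

theorem card_primeClass_of_nilpotent [Group.IsNilpotent G] :
    Nat.card (primeClass (G := G) p) = ordCompl[p] (Nat.card G) * ordProj[p] (Nat.card ↥(Subgroup.center G)) := by
  classical
  obtain ⟨P⟩ := (inferInstance : Nonempty (Sylow p G))
  have hPn : (P : Subgroup G).Normal := inferInstance
  have hs : Subsingleton (Sylow p G) := (P.unique_of_normal hPn).instSubsingleton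
  set C := Subgroup.centralizer (P : Set G)
  have hXC : primeClass (G := G) p = (C : Set G) := by
    ext x
    rw [exists_le_iff, SetLike.mem_coe, Subgroup.mem_centralizer_iff]
    constructor
    · rintro ⟨Q, hQ⟩ y hy
      rw [Subsingleton.elim P Q] at hy
      exact Subgroup.mem_centralizer_singleton_iff.1 (hQ hy)
    · exact fun h => ⟨P, fun y hy => Subgroup.mem_centralizer_singleton_iff.2 (h y hy)⟩
  have hsup : (P : Subgroup G) ⊔ C = ⊤ := by
    rw [← Subgroup.index_eq_one]
    refine Nat.eq_one_iff_not_exists_prime_dvd.2 fun r hr hdvd => ?_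
    have : Fact r.Prime := ⟨hr⟩
    obtain ⟨R⟩ := (inferInstance : Nonempty (Sylow r G))
    rcases eq_or_ne r p with rfl | hrp
    · exact P.not_dvd_index (hdvd.trans (Subgroup.index_dvd_of_le le_sup_left))
    · have hRC : (R : Subgroup G) ≤ C := fun x hx y hy =>
        Subgroup.commute_of_normal_of_disjoint _ _ hPn inferInstance
          (IsPGroup.disjoint_of_ne p r hrp.symm _ _ P.2 R.2) y x hy hx
      exact R.not_dvd_index (hdvd.trans (Subgroup.index_dvd_of_le (hRC.trans le_sup_right)))
  obtain ⟨W0⟩ := (inferInstance : Nonempty (Sylow p ↥(Subgroup.center G)))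
  have hPC : (P : Subgroup G) ⊓ C = (W0 : Subgroup ↥(Subgroup.center G)).map (Subgroup.center G).subtype := by
    have hcen : (P : Subgroup G) ⊓ C ≤ Subgroup.center G := by
      rintro x ⟨hxP, hxC⟩
      rw [Subgroup.mem_center_iff]
      intro g
      have hle : (P : Subgroup G) ⊔ C ≤ Subgroup.centralizer ({x} : Set G) := sup_le
        (fun y hy => Subgroup.mem_centralizer_singleton_iff.2 (Subgroup.mem_centralizer_iff.1 hxC y hy))
        (fun y hy => Subgroup.mem_centralizer_singleton_iff.2 (Subgroup.mem_centralizer_iff.1 hy x hxP).symm)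
      exact Subgroup.mem_centralizer_singleton_iff.1 (hle (hsup ▸ Subgroup.mem_top g))
    refine le_antisymm ?_ (le_inf ?_ ?_)
    · have hp' : IsPGroup p ↥(((P : Subgroup G) ⊓ C).subgroupOf (Subgroup.center G)) :=
        (P.2.to_le inf_le_left).of_equiv (Subgroup.subgroupOfEquivOfLe hcen).symm
      obtain ⟨Q, hQ⟩ := hp'.exists_le_sylow
      have : Subsingleton (Sylow p ↥(Subgroup.center G)) := (W0.unique_of_normal inferInstance).instSubsingleton
      rw [Subsingleton.elim Q W0] at hQ
      intro x hx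
      exact ⟨⟨x, hcen hx⟩, hQ (by exact hx), rfl⟩
    · obtain ⟨Q, hQ⟩ := (W0.2.map (Subgroup.center G).subtype).exists_le_sylow
      rwa [Subsingleton.elim Q P] at hQ
    · rintro _ ⟨z, -, rfl⟩ y -
      exact Subgroup.mem_center_iff.1 z.2 y
  have hW : Nat.card ↥((P : Subgroup G) ⊓ C) = ordProj[p] (Nat.card ↥(Subgroup.center G)) := by
    rw [hPC, Subgroup.card_map_of_injective (Subgroup.subtype_injective _), W0.card_eq_multiplicity]
  rw [hXC, ← hW]
  have h1 := card_mul_relIndex' (H := (P : Subgroup G) ⊓ C) (K := C) inf_le_right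
  rw [Subgroup.inf_relIndex_right, ← Subgroup.relIndex_sup_right, sup_comm, hsup,
    Subgroup.relIndex_top_right] at h1
  change Nat.card C = _
  rw [← h1, mul_comm]
  congr 1
  refine Nat.eq_of_mul_eq_mul_left (Nat.card_pos (α := ↥(P : Subgroup G))) ?_
  rw [Subgroup.card_mul_index, P.card_eq_multiplicity, Nat.ordProj_mul_ordCompl_eq_self]

end

theorem center_card_eq {G : Type*} [Group G] [Finite G] :
    Nat.card ↥(Subgroup.center G) = Nat.card {C : ConjClasses G // Nat.card C.carrier = 1} := by
  classical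
  have hiff : ∀ x : G, Nat.card (ConjClasses.mk x).carrier = 1 ↔ x ∈ Subgroup.center G := fun x => by
    rw [card_carrier, Subgroup.index_eq_one, Subgroup.centralizer_eq_top_iff_subset,
      Set.singleton_subset_iff, SetLike.mem_coe]
  refine Nat.card_congr (Equiv.ofBijective (fun x => ⟨ConjClasses.mk x.1, (hiff x.1).2 x.2⟩) ⟨?_, ?_⟩)
  · intro x y h
    have : IsConj x.1 y.1 := ConjClasses.mk_eq_mk_iff_isConj.1 (congrArg Subtype.val h)
    obtain ⟨c, hc⟩ := isConj_iff.1 this
    apply Subtype.ext
    rw [← hc, Subgroup.mem_center_iff.1 x.2 c, mul_inv_cancel_right]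
  · rintro ⟨C, hC⟩
    obtain ⟨x, rfl⟩ := ConjClasses.mk_surjective C
    exact ⟨⟨x, (hiff x).1 hC⟩, rfl⟩

theorem card_primeClass_eq {G : Type*} [Group G] [Finite G] (p : ℕ) :
    Nat.card (primeClass (G := G) p) =
      Nat.card ((C : {C : ConjClasses G // ¬ p ∣ Nat.card C.carrier}) × C.1.carrier) := by
  symm
  refine Nat.card_congr (Equiv.ofBijective (fun a => ⟨a.2.1, ?_⟩) ⟨?_, ?_⟩)
  · have h := a.1.2
    rw [← ConjClasses.mem_carrier_iff_mk_eq.1 a.2.2, card_carrier] at h
    exact h
  · rintro ⟨⟨C, hC⟩, x, hx⟩ ⟨⟨D, hD⟩, y, hy⟩ h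
    obtain rfl : x = y := congrArg Subtype.val h
    obtain rfl : C = D := (ConjClasses.mem_carrier_iff_mk_eq.1 hx).symm.trans (ConjClasses.mem_carrier_iff_mk_eq.1 hy)
    rfl
  · rintro ⟨x, hx⟩
    exact ⟨⟨⟨ConjClasses.mk x, by rw [card_carrier]; exact hx⟩, x, ConjClasses.mem_carrier_mk⟩, rfl⟩


/-- Let G and H be finite groups such that for every natural number k, G and H have the same number of conjugacy classes of size k. If H is nilpotent then G is nilpotent. -/
theorem result {G H : Type*} [Group G] [Finite G] [Group H] [Finite H]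
    (hH : Group.IsNilpotent H)
    (h : ∀ k : ℕ, Nat.card {C : ConjClasses G // Nat.card C.carrier = k} = Nat.card {C : ConjClasses H // Nat.card C.carrier = k}) :
    Group.IsNilpotent G := by
  classical
  haveI := hH
  let e : ConjClasses G ≃ ConjClasses H := Equiv.ofFiberEquiv
    (f := fun C : ConjClasses G => Nat.card C.carrier) (g := fun C : ConjClasses H => Nat.card C.carrier)
    fun k => (Finite.card_eq.1 (h k)).some
  have he : ∀ C : ConjClasses G, Nat.card C.carrier = Nat.card (e C).carrier := fun C =>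
    (Equiv.ofFiberEquiv_map (f := fun C : ConjClasses G => Nat.card C.carrier)
      (g := fun C : ConjClasses H => Nat.card C.carrier) _ C).symm
  have hcar : ∀ C : ConjClasses G, Nonempty (C.carrier ≃ (e C).carrier) := fun C => Finite.card_eq.1 (he C)
  have hG : Nat.card G = Nat.card H := by
    have eG : ∀ (K : Type _) [Group K], Nat.card K = Nat.card ((C : ConjClasses K) × C.carrier) := fun K _ =>
      Nat.card_congr ((Equiv.sigmaFiberEquiv ConjClasses.mk).symm.trans
        (Equiv.sigmaCongrRight fun C => Equiv.subtypeEquivRight fun x => ConjClasses.mem_carrier_iff_mk_eq.symm))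
    rw [eG G, Nat.card_congr (Equiv.sigmaFiberEquiv (ConjClasses.mk (α := H))).symm]
    exact Nat.card_congr ((Equiv.sigmaCongr e fun C => (hcar C).some).trans
      (Equiv.sigmaCongrRight fun C => Equiv.subtypeEquivRight fun x => ConjClasses.mem_carrier_iff_mk_eq))
  refine (Group.isNilpotent_of_finite_tfae.out 0 3 rfl rfl).2 fun p hp P => ?_
  refine key p (Nat.card ↥(Subgroup.center H)) ((center_card_eq).trans ((h 1).trans center_card_eq.symm)) ?_ P
  rw [hG, ← card_primeClass_of_nilpotent p, card_primeClass_eq, card_primeClass_eq]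
  exact Nat.card_congr (Equiv.sigmaCongr (e.subtypeEquiv fun C => by rw [he C]) fun C => (hcar C.1).some)

end Cfsg.Agent.S4139
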