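import Cfsg.Statements.S4140
import Cfsg.Agent.Camina.Perfect

set_option autoImplicit false
open Cfsg

namespace Cfsg.Agent.S4140

section Prep

open Subgroup
open scoped commutatorElement

variable {G : Type*} [Group G] [Finite G] {N : Subgroup G} [N.Normal]

theorem exists_prime_element (h : N.index ≠ 0) {q : ℕ} (hq : q.Prime) (hqi : q ∣ N.index) :
    ∃ c : G, c ∉ N ∧ ∃ k, c ^ q ^ k = 1 := by
  have := Fact.mk hq
  obtain ⟨b, hb⟩ := exists_prime_orderOf_dvd_card' (G := G ⧸ N) q (by rwa [← N.index_eq_card])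
  obtain ⟨P, c, hcP, hcb⟩ := Agent.Camina.exists_lift (p := q) (b := b)
    ⟨1, by rw [pow_one, ← hb, pow_orderOf_eq_one]⟩
  refine ⟨c, fun hc => ?_, ?_⟩
  · rw [← hcb, QuotientGroup.mk'_apply, (QuotientGroup.eq_one_iff c).2 hc, orderOf_one] at hb
    exact hq.one_lt.ne hb
  · obtain ⟨k, hk⟩ := P.isPGroup' ⟨c, hcP⟩
    exact ⟨k, congrArg Subtype.val hk⟩

/-- A prime of the index not dividing `|N|` makes `N` nilpotent. -/
theorem isNilpotent_of_coprime (h : Agent.Camina.IsPair N) {q : ℕ} (hq : q.Prime)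
    (hqi : q ∣ N.index) (hqN : ¬ q ∣ Nat.card N) : Group.IsNilpotent N := by
  have := Fact.mk hq
  obtain ⟨b, hb⟩ := exists_prime_orderOf_dvd_card' (G := G) q (hqi.trans N.index_dvd_card)
  have hbN : b ∉ N := fun hbn => hqN (by
    rw [← hb, ← Subgroup.orderOf_mk b hbn]
    exact orderOf_dvd_natCard _)
  refine Agent.Fusion.isNilpotent_of_fpf_prime hq (c := b) (by rw [← hb, pow_orderOf_eq_one]) ?_ ?_
  · rw [normalizer_eq_top]
    exact mem_top b
  · rw [eq_bot_iff]
    rintro x ⟨hxN, hxc⟩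
    have hxo : orderOf x ∣ Nat.card N := by
      rw [← Subgroup.orderOf_mk x hxN]
      exact orderOf_dvd_natCard _
    exact h.eq_one_of_commute hbN ⟨1, by rw [pow_one, ← hb, pow_orderOf_eq_one]⟩ hxN
      (mem_centralizer_singleton_iff.1 hxc).symm
      ((hq.coprime_iff_not_dvd.2 hqN).symm.coprime_dvd_left hxo)

theorem exists_abelian_prime (hnil : Group.IsNilpotent N) {r : ℕ} (hr : r.Prime)
    (hrN : r ∣ Nat.card N) : r ∣ ⁅N, N⁆.relIndex N := by
  have := Fact.mk hr
  obtain ⟨P, K, hKn, hc⟩ := Agent.Fusion.hasNormalPComplement_of_isNilpotent (p := r) hnil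
  let φ : N →* N ⧸ K := QuotientGroup.mk' K
  have hq : IsPGroup r (N ⧸ K) := P.isPGroup'.of_equiv hc.symm.QuotientMulEquiv.symm
  have hne : commutator (N ⧸ K) ≠ ⊤ := by
    have : Group.IsNilpotent (N ⧸ K) := hq.isNilpotent
    have hnt : Nontrivial (N ⧸ K) := by
      rw [← Finite.one_lt_card_iff_nontrivial,
        Nat.card_congr hc.symm.QuotientMulEquiv.toEquiv]
      exact lt_of_lt_of_le hr.one_lt (Nat.le_of_dvd Nat.card_pos
        (P.card_eq_multiplicity ▸ dvd_pow_self r
          (hr.factorization_pos_of_dvd Nat.card_pos.ne' hrN).ne'))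
    exact (Group.IsSolvable.commutator_lt_top_of_nontrivial (N ⧸ K)).ne
  have h1 : r ∣ (commutator (N ⧸ K)).index := by
    obtain ⟨j, hj⟩ := IsPGroup.iff_card.1 hq
    obtain ⟨i, -, hi⟩ := (Nat.dvd_prime_pow hr).1 (hj ▸ (commutator (N ⧸ K)).index_dvd_card)
    rcases Nat.eq_zero_or_pos i with rfl | hi0
    · exact absurd (Subgroup.index_eq_one.1 hi) hne
    · exact hi ▸ dvd_pow_self r hi0.ne'
  refine h1.trans ?_
  rw [← (commutator (N ⧸ K)).index_comap_of_surjective (QuotientGroup.mk'_surjective K)]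
  refine Subgroup.index_dvd_of_le fun x hx => ?_
  have hmap : (x : G) ∈ (commutator N).map N.subtype := by
    rw [Subgroup.map_subtype_commutator]
    exact hx
  obtain ⟨y, hy, hyx⟩ := Subgroup.mem_map.1 hmap
  rw [show y = x from Subtype.ext hyx] at hy
  rw [Subgroup.mem_comap]
  have h2 := Subgroup.mem_map_of_mem (QuotientGroup.mk' K) hy
  rw [commutator_def, map_commutator,
    Subgroup.map_top_of_surjective _ (QuotientGroup.mk'_surjective K), ← commutator_def] at h2
  exact h2

end Prep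

/-- Let G be a finite group and N a proper non-trivial normal subgroup such that for every g outside N the conjugacy class of g is a union of cosets of N (equivalently gn is conjugate to g for every n ∈ N). Then either every element of G outside N acts fixed-point-freely on N (C_G(x) ≤ N for all x ∈ N, x ≠ 1, so G is a Frobenius group with kernel N), or N has prime-power order, or G/N has prime-power order. -/
theorem result {G : Type*} [Group G] [Finite G] (N : Subgroup G) [N.Normal] (hN1 : N ≠ ⊥) (hN2 : N ≠ ⊤)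
    (hcam : ∀ g : G, g ∉ N → ∀ n ∈ N, ∃ x : G, x * g * x⁻¹ = g * n) :
    (∀ x ∈ N, x ≠ 1 → Subgroup.centralizer ({x} : Set G) ≤ N) ∨ IsPrimePow (Nat.card N) ∨ IsPrimePow N.index := by
  classical
  have := Fintype.ofFinite G
  have h : Agent.Camina.IsPair N := hcam
  by_cases hgcd : ∃ p, p.Prime ∧ p ∣ Nat.card N ∧ p ∣ N.index
  · right
    obtain ⟨p, hp, hpN, hpi⟩ := hgcd
    have := Fact.mk hp
    by_contra! hnot
    obtain ⟨hnN, hnI⟩ := hnot
    have hd0 : ∃ r, r.Prime ∧ r ∣ ⁅N, N⁆.relIndex N := by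
      refine ⟨_, Nat.minFac_prime ?_, Nat.minFac_dvd _⟩
      exact fun e => h.false_of_perfect (Subgroup.relIndex_eq_one.1 e) hpN hpi
    have hI1 : N.index ≠ 1 := fun e => hN2 (Subgroup.index_eq_one.1 e)
    obtain ⟨q, hq, hqi, hqp⟩ : ∃ q, q.Prime ∧ q ∣ N.index ∧ q ≠ p := by
      by_contra! hall
      have hpd := Nat.eq_prime_pow_of_unique_prime_dvd Subgroup.index_ne_zero_of_finite
        (fun {d} hd hdd => hall d hd hdd)
      exact hnI (hpd ▸ hp.isPrimePow.pow (fun e0 => hI1 (by rw [hpd, e0, pow_zero])))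
    obtain ⟨r, hr, hrd⟩ := hd0
    have hrp := h.eq_of_dvd_abelianization hpN hpi hr hrd
    by_cases hqN : q ∣ Nat.card N
    · have := Fact.mk hq
      exact hqp ((h.eq_of_dvd_abelianization hqN hqi hr hrd).symm.trans hrp)
    · have hnil := isNilpotent_of_coprime h hq hqi hqN
      have hall : ∀ d, Nat.Prime d → d ∣ Nat.card N → d = p := fun d hd hdd =>
        h.eq_of_dvd_abelianization hpN hpi hd (exists_abelian_prime hnil hd hdd)
      have hpd := Nat.eq_prime_pow_of_unique_prime_dvd Nat.card_pos.ne' (fun {d} hd hdd => hall d hd hdd)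
      exact hnN (hpd ▸ hp.isPrimePow.pow (fun e0 => hN1 (Subgroup.card_eq_one.1 (by rw [hpd, e0, pow_zero]))))
  · left
    push Not at hgcd
    intro x hxN hx1 y hy
    by_contra hyN
    have hy' : (QuotientGroup.mk y : G ⧸ N) ≠ 1 := fun e => hyN ((QuotientGroup.eq_one_iff y).1 e)
    obtain ⟨p, hp, hpd⟩ := Nat.exists_prime_and_dvd (fun e => hy' (orderOf_eq_one_iff.1 e))
    have := Fact.mk hp
    have hpi : p ∣ N.index := hpd.trans (N.index_eq_card ▸ orderOf_dvd_natCard _)
    have hpN : ¬ p ∣ Nat.card N := fun hd => hgcd p hp hd hpi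
    obtain ⟨k, m, hm, hkm⟩ := Nat.exists_eq_pow_mul_and_not_dvd (orderOf_pos y).ne' p hp.ne_one
    have hz : y ^ m ∉ N := fun hz => hm (hpd.trans (orderOf_dvd_of_pow_eq_one
      (by rw [← QuotientGroup.mk_pow, (QuotientGroup.eq_one_iff _).2 hz])))
    have hxo : orderOf x ∣ Nat.card N := by
      rw [← Subgroup.orderOf_mk x hxN]
      exact orderOf_dvd_natCard _
    refine hx1 (h.eq_one_of_commute hz ⟨k, ?_⟩ hxN
      ((show Commute y x from (Subgroup.mem_centralizer_singleton_iff.1 hy)).pow_left m)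
      ((hp.coprime_iff_not_dvd.2 hpN).symm.coprime_dvd_left hxo))
    rw [← pow_mul, mul_comm, ← hkm, pow_orderOf_eq_one]

end Cfsg.Agent.S4140
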