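import Cfsg.Statements.S4144
import Cfsg.Agent.MaxClass.ExponentP
import Cfsg.Agent.MaxClass.Class
import Cfsg.Agent.Core.Frattini

set_option autoImplicit false
open Cfsg

namespace Cfsg.Agent.S4144

open Subgroup
open scoped commutatorElement
open Cfsg.Agent.MaxClass
open Cfsg.Agent.MaxClass.Graded (L_anti L_comm L_comm_x MX)

universe u

/-- `Y` of maximal class and order `p ^ (p + 1)` does not have exponent `p`. -/
theorem exists_pow_ne_one {Y : Type u} [Group Y] [Finite Y] {p : ℕ} [hp : Fact p.Prime] (hp3 : 3 ≤ p)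
    (h : TwoStep.MCl p (p + 1) Y) : ∃ y : Y, y ^ p ≠ 1 := by
  by_contra! hexp
  obtain ⟨s, v, hvK, hv, hs1, hs, hex⟩ := h.setup hp3 (a := p + 1 - 3) (b := p + 1 - 3) (by omega) le_rfl
    (by omega) le_rfl fun i h1 hi => by
      rcases (by omega : i ≤ p + 1 - 4 ∨ i = p + 1 - 3) with h2 | rfl
      exacts [Or.inl (TwoStep.middle hp3 _ Y h i h1 h2), Or.inr (Or.inl rfl)]
  set A := TwoStep.K Y 1 with hA
  have hAL : (⊤ : Subgroup Y).lowerCentralSeries 1 ≤ A := h.L1_le_K 1
  have hAne : A ≠ ⊤ := h.K_ne_top le_rfl (by omega)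
  have hn : A.Normal := ⟨fun a ha g => by
    have h1 : ⁅g, a⁆ ∈ A := hAL (L_comm_x (Subgroup.mem_top a : a ∈ (⊤ : Subgroup Y).lowerCentralSeries 0) g)
    have h2 := mul_mem h1 ha
    rwa [commutatorElement_def, inv_mul_cancel_right] at h2⟩
  have hAW : A ≤ zpowers v ⊔ (⊤ : Subgroup Y).lowerCentralSeries 1 :=
    h.le_of_mem hAne hAL le_sup_right hv hvK (mem_sup_left (mem_zpowers v))
  have htop : zpowers s ⊔ A = ⊤ := by
    by_contra hne
    exact hs 1 le_rfl (by omega)
      (h.le_of_mem hne (hAL.trans le_sup_right) hAL hv (mem_sup_right hvK) hvK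
        (mem_sup_left (mem_zpowers s)))
  refine ExponentP.Setup.false (A := A) (s := s) (u := v) (p := p)
    ⟨hp.out, hp3, hexp, ?_, hn, hvK, hAL, ?_, ?_, ?_, ?_⟩
  · exact le_bot_iff.1 fun z hz => mem_bot.2 (h.eq_one (by omega) hz)
  · exact (commutator_mono hAW hAW).trans (PowMax.cyc_sup_comm v 1)
  · set N := ⁅A, (⊤ : Subgroup Y)⁆
    show ⁅(⊤ : Subgroup Y), (⊤ : Subgroup Y)⁆ ≤ N
    rw [commutator_le]
    intro a _ b _
    obtain ⟨k, hk, a', ha', rfl⟩ := mem_sup_of_normal_right.1 (htop.symm ▸ mem_top a : a ∈ zpowers s ⊔ A)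
    obtain ⟨l, hl, b', hb', rfl⟩ := mem_sup_of_normal_right.1 (htop.symm ▸ mem_top b : b ∈ zpowers s ⊔ A)
    obtain ⟨i, rfl⟩ := mem_zpowers_iff.1 hk
    obtain ⟨j, rfl⟩ := mem_zpowers_iff.1 hl
    refine PowMax.mem_of_commute_mk ?_
    have hc : ∀ {z : Y}, z ∈ A → ∀ g : Y, Commute (z : Y ⧸ N) (g : Y ⧸ N) := fun hz g =>
      PowMax.commute_mk (commutator_mem_commutator hz (mem_top g))
    rw [QuotientGroup.mk_mul, QuotientGroup.mk_mul, QuotientGroup.mk_zpow, QuotientGroup.mk_zpow]
    exact (((Commute.refl _).zpow_zpow i j).mul_left ((hc ha' s).zpow_right j)).mul_right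
      (((hc hb' s).symm.zpow_left i).mul_left (hc ha' b'))
  · intro b hb hb2
    rw [commutator_le]
    intro a ha z hz
    have hKb : TwoStep.K Y b = A := TwoStep.middle hp3 _ Y h b hb (by omega)
    exact TwoStep.mem_K.1 (hKb.symm ▸ ha) z hz
  · intro h1
    refine hex (p - 1) (by omega) (by omega) ?_
    rw [h1]
    exact one_mem _

theorem card_le_of_relIndex {X : Type u} [Group X] [Finite X] {P H : Subgroup X} {c : ℕ} (hPH : P ≤ H)
    (h : Nat.card H ≤ Nat.card P * c) : P.relIndex H ≤ c := by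
  have h2 := relIndex_mul_relIndex (⊥ : Subgroup X) P H bot_le hPH
  rw [relIndex_bot_left, relIndex_bot_left] at h2
  rw [← h2] at h
  exact Nat.le_of_mul_le_mul_left h Nat.card_pos

/-- Let X be a finite p-group of order p^n, n ≥ 2, of nilpotency class n − 1 (maximal class), and H any subgroup of X. Then the index in H of the subgroup generated by the p-th powers of elements of H is at most p^p. -/
theorem result {X : Type*} [Group X] [Finite X] {p : ℕ} [Fact p.Prime] (n : ℕ) (hn : 2 ≤ n) (hX : Nat.card X = p ^ n)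
    (hmax : Group.nilpotencyClass X = n - 1) (H : Subgroup X) :
    (Subgroup.closure {y : X | ∃ h ∈ H, y = h ^ p}).relIndex H ≤ p ^ p := by
  set P := Subgroup.closure {y : X | ∃ h ∈ H, y = h ^ p} with hP
  have hpp := (Fact.out : p.Prime)
  have hgrp : IsPGroup p X := IsPGroup.of_card hX
  have hnil := hgrp.isNilpotent
  have hPH : P ≤ H := (closure_le _).2 (by rintro _ ⟨g, hg, rfl⟩; exact pow_mem hg p)
  have hpow : ∀ g ∈ H, g ^ p ∈ P := fun g hg => subset_closure ⟨g, hg, rfl⟩
  rcases le_or_gt n p with hnp | hnp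
  · refine card_le_of_relIndex hPH (le_trans ?_ (Nat.le_mul_of_pos_left _ Nat.card_pos))
    exact (card_le_card_group H).trans (hX.le.trans (Nat.pow_le_pow_right hpp.pos hnp))
  have hn3 : 3 ≤ n := by have := hpp.two_le; omega
  rcases hpp.eq_two_or_odd with rfl | hodd
  · -- a cyclic subgroup of index two
    have hna : ¬ IsMulCommutative X := fun hc => by
      have hb : (⊤ : Subgroup X).lowerCentralSeries 1 = ⊥ := le_bot_iff.1 (by
        show ⁅(⊤ : Subgroup X), (⊤ : Subgroup X)⁆ ≤ ⊥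
        exact commutator_le.2 fun a _ b _ => mem_bot.2
          (commutatorElement_eq_one_iff_mul_comm.2 (hc.1.1 a b)))
      have := Subgroup.lowerCentralSeries_eq_bot_iff_nilpotencyClass_le.1 hb
      omega
    obtain ⟨m, a, b, w, -, -, -, hi, -⟩ := MC.data (mc_of_lowerCentralSeries hna hX fun hb => by
      have := Subgroup.lowerCentralSeries_eq_bot_iff_nilpotencyClass_le.1 hb
      omega)
    obtain ⟨c, hc⟩ := (Subgroup.isCyclic_iff_exists_zpowers_eq_top (H ⊓ zpowers a)).1
      (Subgroup.isCyclic_of_le (inf_le_right : H ⊓ zpowers a ≤ zpowers a))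
    have hcH : c ∈ H := ((hc ▸ mem_zpowers c : c ∈ H ⊓ zpowers a)).1
    refine card_le_of_relIndex hPH ?_
    have h1 : Nat.card H ≤ 2 * orderOf c := by
      have h2 := relIndex_mul_relIndex (⊥ : Subgroup X) (H ⊓ zpowers a) H bot_le inf_le_left
      rw [relIndex_bot_left, relIndex_bot_left, inf_relIndex_left, ← hc, Nat.card_zpowers] at h2
      have h3 : (zpowers a).relIndex H ≤ 2 := by
        rw [← hi, ← relIndex_top_right]
        exact relIndex_le_of_le_right le_top (by rw [relIndex_top_right, hi]; norm_num)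
      rw [← h2, mul_comm]
      exact Nat.mul_le_mul_right _ h3
    have h2 : orderOf c ≤ 2 * Nat.card P := by
      have h3 := card_le_of_le (zpowers_le.2 (hpow c hcH))
      rw [Nat.card_zpowers, orderOf_pow] at h3
      have h4 := Nat.mul_div_cancel' (Nat.gcd_dvd_left (orderOf c) 2)
      have h5 : (orderOf c).gcd 2 ≤ 2 := Nat.gcd_le_right _ (by norm_num)
      rw [← h4]
      exact Nat.mul_le_mul h5 h3
    omega
  have hp3 : 3 ≤ p := by have := hpp.two_le; omega
  have hMC : TwoStep.MCl p n X := ⟨hn3, hX, hmax⟩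
  obtain ⟨x, hmx⟩ := hMC.exists_mx hp3 (by omega)
  have claim : ∀ d i, 1 ≤ i → n - 1 ≤ i + d → Nat.card ↥(H ⊓ (⊤ : Subgroup X).lowerCentralSeries i) ≤
      Nat.card ↥(P ⊓ (⊤ : Subgroup X).lowerCentralSeries (i + p - 1)) * p ^ (p - 1) := by
    have hsmall : ∀ i, 1 ≤ i → n - 1 - i ≤ p - 1 → Nat.card ↥(H ⊓ (⊤ : Subgroup X).lowerCentralSeries i) ≤
        Nat.card ↥(P ⊓ (⊤ : Subgroup X).lowerCentralSeries (i + p - 1)) * p ^ (p - 1) := fun i h1 hle =>
      ((card_le_of_le inf_le_right).trans ((hMC.cardL h1).le.trans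
        (Nat.pow_le_pow_right hpp.pos hle))).trans (Nat.le_mul_of_pos_left _ Nat.card_pos)
    intro d
    induction d with
    | zero => intro i h1 hi; exact hsmall i h1 (by omega)
    | succ d ih =>
      intro i h1 hi
      rcases Nat.lt_or_ge (n - 1 - i) p with hlt | hge
      · exact hsmall i h1 (by omega)
      have hrec := ih (i + 1) (by omega) (by omega)
      rw [show i + 1 + p - 1 = i + p by omega] at hrec
      have hPmono : P ⊓ (⊤ : Subgroup X).lowerCentralSeries (i + p) ≤
          P ⊓ (⊤ : Subgroup X).lowerCentralSeries (i + p - 1) := inf_le_inf_left _ (L_anti (by omega))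
      have hHmono : H ⊓ (⊤ : Subgroup X).lowerCentralSeries (i + 1) ≤
          H ⊓ (⊤ : Subgroup X).lowerCentralSeries i := inf_le_inf_left _ (L_anti (by omega))
      by_cases hex : ∀ t ∈ H, t ∈ (⊤ : Subgroup X).lowerCentralSeries i →
          t ∈ (⊤ : Subgroup X).lowerCentralSeries (i + 1)
      · exact (card_le_of_le (show H ⊓ (⊤ : Subgroup X).lowerCentralSeries i ≤
            H ⊓ (⊤ : Subgroup X).lowerCentralSeries (i + 1) from fun t ht => ⟨ht.1, hex t ht.1 ht.2⟩)).trans
          (hrec.trans (Nat.mul_le_mul_right _ (card_le_of_le hPmono)))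
      push Not at hex
      obtain ⟨t, htH, ht, ht'⟩ := hex
      have hup : Nat.card ↥(H ⊓ (⊤ : Subgroup X).lowerCentralSeries i) ≤
          p * Nat.card ↥(H ⊓ (⊤ : Subgroup X).lowerCentralSeries (i + 1)) := by
        have h2 := relIndex_mul_relIndex (⊥ : Subgroup X) _ _ bot_le hHmono
        rw [relIndex_bot_left, relIndex_bot_left] at h2
        have h3 : (⊤ : Subgroup X).lowerCentralSeries (i + 1) ≤ (⊤ : Subgroup X).lowerCentralSeries i :=
          L_anti (by omega)
        have h4 := relIndex_mul_relIndex (⊥ : Subgroup X) _ _ bot_le h3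
        rw [relIndex_bot_left, relIndex_bot_left, hMC.cardL (by omega), hMC.cardL h1,
          show n - 1 - i = n - 1 - (i + 1) + 1 by omega, pow_succ] at h4
        have h5 := Nat.eq_of_mul_eq_mul_left (pow_pos hpp.pos _) h4
        have h6 : (H ⊓ (⊤ : Subgroup X).lowerCentralSeries (i + 1)).relIndex
            (H ⊓ (⊤ : Subgroup X).lowerCentralSeries i) ≤ p := by
          refine le_trans (le_of_eq ?_) ((relIndex_le_of_le_right
            (inf_le_right : H ⊓ (⊤ : Subgroup X).lowerCentralSeries i ≤ _)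
            (h5.trans_ne hpp.ne_zero)).trans h5.le)
          rw [← inf_relIndex_right ((⊤ : Subgroup X).lowerCentralSeries (i + 1))
            (H ⊓ (⊤ : Subgroup X).lowerCentralSeries i)]
          congr 1
          rw [inf_comm ((⊤ : Subgroup X).lowerCentralSeries (i + 1)), inf_assoc, inf_eq_right.2 h3]
        rw [← h2, mul_comm]
        exact Nat.mul_le_mul_right _ h6
      have hdn : p * Nat.card ↥(P ⊓ (⊤ : Subgroup X).lowerCentralSeries (i + p)) ≤
          Nat.card ↥(P ⊓ (⊤ : Subgroup X).lowerCentralSeries (i + p - 1)) := by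
        have hmem : t ^ p ∈ (⊤ : Subgroup X).lowerCentralSeries (i + p - 1) := by
          rcases Nat.lt_or_ge i 2 with hi2 | hi2
          · exact L_anti (by omega) (hmx.pow_mem i h1 t ht).1
          · exact (hmx.pow_mem i h1 t ht).2 hi2
        have hnot := hmx.pow_exact hp3 i h1 (by omega) t ht ht'
        obtain ⟨j, hj⟩ := IsPGroup.iff_card.1
          (hgrp.to_subgroup (P ⊓ (⊤ : Subgroup X).lowerCentralSeries (i + p)))
        obtain ⟨k, hk⟩ := IsPGroup.iff_card.1
          (hgrp.to_subgroup (P ⊓ (⊤ : Subgroup X).lowerCentralSeries (i + p - 1)))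
        have h2 : p ^ j < p ^ k := by
          rw [← hj, ← hk]
          by_contra hle
          exact hnot ((eq_of_le_of_card_ge hPmono (not_lt.1 hle)).symm ▸
            (⟨hpow t htH, hmem⟩ : t ^ p ∈ P ⊓ _) : t ^ p ∈ P ⊓ _).2
        rw [hj, hk, ← pow_succ']
        exact Nat.pow_le_pow_right hpp.pos ((Nat.pow_lt_pow_iff_right hpp.one_lt).1 h2)
      calc _ ≤ _ := hup
        _ ≤ p * (Nat.card ↥(P ⊓ (⊤ : Subgroup X).lowerCentralSeries (i + p)) * p ^ (p - 1)) :=
          Nat.mul_le_mul_left _ hrec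
        _ ≤ _ := by rw [← mul_assoc]; exact Nat.mul_le_mul_right _ hdn
  have h1 := claim n 1 le_rfl (by omega)
  rw [show 1 + p - 1 = p by omega] at h1
  have hppow : p ^ (p - 1) * p = p ^ p := by rw [← pow_succ, Nat.sub_add_cancel hpp.one_le]
  refine card_le_of_relIndex hPH ?_
  set N := (⊤ : Subgroup X).lowerCentralSeries 1 with hN
  have h2 := relIndex_mul_relIndex (⊥ : Subgroup X) (H ⊓ N) H bot_le inf_le_left
  rw [relIndex_bot_left, relIndex_bot_left, inf_relIndex_left] at h2
  have hNi : N.index = p ^ 2 := by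
    have h3 := N.card_mul_index
    rw [hN, hMC.cardL le_rfl, hX, ← hN,
      show p ^ n = p ^ (n - 1 - 1) * p ^ 2 by rw [← pow_add]; congr 1; omega] at h3
    exact Nat.eq_of_mul_eq_mul_left (pow_pos hpp.pos _) h3
  obtain ⟨k, hk2, hk⟩ := (Nat.dvd_prime_pow hpp).1
    (hNi ▸ Subgroup.relIndex_dvd_index_of_normal N H : N.relIndex H ∣ p ^ 2)
  rcases (by omega : k ≤ 1 ∨ k = 2) with hk1 | rfl
  · rw [← h2, hk]
    calc _ ≤ Nat.card P * p ^ (p - 1) * p := Nat.mul_le_mul
          (h1.trans (Nat.mul_le_mul_right _ (card_le_of_le inf_le_left)))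
          ((Nat.pow_le_pow_right hpp.pos hk1).trans (pow_one p).le)
      _ = _ := by rw [mul_assoc, hppow]
  -- the whole group
  have hHtop : H = ⊤ := by
    refine Core.eq_top_of_sup_frattini (D := N)
      (by rw [hN, Subgroup.top_lowerCentralSeries_one]; exact Core.commutator_le_frattini) ?_
    refine eq_top_of_le_card _ ?_
    have h3 := relIndex_mul_relIndex (⊥ : Subgroup X) N (H ⊔ N) bot_le le_sup_right
    rw [relIndex_bot_left, relIndex_bot_left, relIndex_sup_right, hk, ← hNi, N.card_mul_index] at h3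
    exact h3.le
  have hbig : Nat.card ↥(P ⊓ (⊤ : Subgroup X).lowerCentralSeries p) =
      Nat.card ↥((⊤ : Subgroup X).lowerCentralSeries p) := by
    refine le_antisymm (card_le_of_le inf_le_right) ?_
    rw [hHtop, top_inf_eq, hN, hMC.cardL le_rfl] at h1
    rw [hMC.cardL (by omega)]
    refine Nat.le_of_mul_le_mul_right (le_trans (le_of_eq ?_) h1) (pow_pos hpp.pos (p - 1))
    rw [← pow_add]
    congr 1
    omega
  have hLP : (⊤ : Subgroup X).lowerCentralSeries p ≤ P :=
    (eq_of_le_of_card_ge inf_le_right hbig.ge).ge.trans inf_le_left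
  set Lp := (⊤ : Subgroup X).lowerCentralSeries p with hLp
  obtain ⟨g, hg⟩ : ∃ g : X, g ^ p ∉ Lp := by
    by_contra! hall
    have hcq : Nat.card (X ⧸ Lp) = p ^ (p + 1) := by
      have h3 := Lp.card_mul_index
      rw [hLp, hMC.cardL (by omega), hX, ← hLp,
        show p ^ n = p ^ (n - 1 - p) * p ^ (p + 1) by rw [← pow_add]; congr 1; omega] at h3
      rw [← index_eq_card]
      exact Nat.eq_of_mul_eq_mul_left (pow_pos hpp.pos _) h3
    have hY : TwoStep.MCl p (p + 1) (X ⧸ Lp) := by
      refine TwoStep.mcl_of_ne_bot hcq (by omega) fun hb => ?_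
      have hm : ((⊤ : Subgroup X).lowerCentralSeries (p + 1 - 2)).map (QuotientGroup.mk' Lp) = ⊥ := by
        rw [Subgroup.map_lowerCentralSeries, ← MonoidHom.range_eq_map, MonoidHom.range_eq_top.2
          (QuotientGroup.mk'_surjective Lp), hb]
      rw [Subgroup.map_eq_bot_iff, QuotientGroup.ker_mk'] at hm
      have h3 := card_le_of_le hm
      rw [hLp, hMC.cardL (by omega), hMC.cardL (by omega)] at h3
      have := (Nat.pow_le_pow_iff_right hpp.one_lt).1 h3
      omega
    obtain ⟨y, hy⟩ := exists_pow_ne_one hp3 hY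
    obtain ⟨g, rfl⟩ := QuotientGroup.mk'_surjective Lp y
    exact hy (by rw [← map_pow]; exact (QuotientGroup.eq_one_iff _).2 (hall g))
  obtain ⟨j, hj⟩ := IsPGroup.iff_card.1 (hgrp.to_subgroup P)
  have h3 : p ^ (n - 1 - p) < p ^ j := by
    rw [← hMC.cardL (i := p) (by omega), ← hj, ← hLp]
    by_contra hle
    exact hg ((eq_of_le_of_card_ge hLP (not_lt.1 hle)).symm ▸ hpow g (hHtop ▸ mem_top g) : g ^ p ∈ Lp)
  have := (Nat.pow_lt_pow_iff_right hpp.one_lt).1 h3
  rw [hj, ← pow_add, hHtop, card_top, hX]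
  exact Nat.pow_le_pow_right hpp.pos (by omega)

end Cfsg.Agent.S4144
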