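import Cfsg.Statements.S4145
import Cfsg.Agent.Fusion.Frobenius
import Cfsg.Agent.Fusion.Residual
import Cfsg.Agent.Fusion.AbelianNormal
-- import your own Cfsg.Agent.* helpers here

set_option autoImplicit false
open Cfsg
open Cfsg.Agent
open scoped commutatorElement Pointwise

namespace Cfsg.Agent.S4145
open Cfsg.Agent in
/-- A `p'`-element which acts on a cyclic `p`-group by a power congruent to one acts trivially. -/
theorem commute_of_congr {G : Type*} [Group G] [Finite G] {p : ℕ} [hp : Fact p.Prime] {y s : G} {u : ℤ}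
    (hy : (orderOf y).Coprime p) {m : ℕ} (hs : orderOf s = p ^ m) (hu : y * s * y⁻¹ = s ^ u) (hup : (p : ℤ) ∣ u - 1) :
    Commute y s := by
  have hiter : ∀ k : ℕ, y ^ k * s * (y ^ k)⁻¹ = s ^ (u ^ k) := fun k => by
    induction k with
    | zero => simp
    | succ k ih =>
      rw [pow_succ', mul_inv_rev, show y * y ^ k * s * ((y ^ k)⁻¹ * y⁻¹) = y * (y ^ k * s * (y ^ k)⁻¹) * y⁻¹ by group,
        ih, ← conj_zpow, hu, ← zpow_mul, ← pow_succ']
  have h1 : Commute (y ^ p ^ m) s := by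
    refine mul_inv_eq_iff_eq_mul.mp ?_
    rw [hiter]
    conv_rhs => rw [← zpow_one s]
    rw [← orderOf_dvd_sub_iff_zpow_eq_zpow, hs]
    push_cast
    have h := dvd_sub_pow_of_dvd_sub (p := p) (a := u) (b := 1) hup m
    rw [one_pow] at h
    exact (pow_dvd_pow _ (Nat.le_succ m)).trans h
  obtain ⟨k, hk⟩ := exists_pow_eq_self_of_coprime (x := y) (n := p ^ m) (hy.pow_right m).symm
  rw [← hk]; exact h1.pow_left k

open Cfsg.Agent in
/-- An element normalising a cyclic `p`-group and fixing a nontrivial element of it acts by a power congruent to one. -/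
theorem dvd_of_fixed {G : Type*} [Group G] {p : ℕ} [hp : Fact p.Prime] {y s z : G} {u : ℤ} {m : ℕ}
    (hs : orderOf s = p ^ m) (hu : y * s * y⁻¹ = s ^ u) (hz : z ∈ Subgroup.zpowers s) (hz1 : z ≠ 1) (hyz : y * z * y⁻¹ = z) :
    (p : ℤ) ∣ u - 1 := by
  obtain ⟨j, rfl⟩ := Subgroup.mem_zpowers_iff.mp hz
  rw [← conj_zpow, hu, ← zpow_mul, ← orderOf_dvd_sub_iff_zpow_eq_zpow, hs, ← sub_one_mul] at hyz
  push_cast at hyz
  by_contra hnd
  refine hz1 (orderOf_dvd_iff_zpow_eq_one.mp ?_)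
  rw [hs]
  push_cast
  exact (((Nat.prime_iff_prime_int.mp hp.out).coprime_iff_not_dvd).mpr hnd).pow_left.dvd_of_dvd_mul_left hyz

open Cfsg.Agent in
/-- A `p`-element normalising a cyclic Sylow subgroup lies in it. -/
theorem mem_sylow_of_normalizes {G : Type*} [Group G] [Finite G] {p : ℕ} [Fact p.Prime] (P : Sylow p G) {y : G}
    (hy : y ∈ Subgroup.normalizer ((P : Subgroup G) : Set G)) (hyp : ∃ k, orderOf y = p ^ k) : y ∈ (P : Subgroup G) := by
  obtain ⟨k, hk⟩ := hyp
  have hz : IsPGroup p (Subgroup.zpowers y) := IsPGroup.of_card (by rw [Nat.card_zpowers, hk])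
  have hsup : IsPGroup p ((P : Subgroup G) ⊔ Subgroup.zpowers y : Subgroup G) := by
    rw [sup_comm]; exact hz.to_sup_of_normal_right' P.2 (Subgroup.zpowers_le.mpr hy)
  rw [← P.3 hsup le_sup_left]
  exact Subgroup.mem_sup_right (Subgroup.mem_zpowers y)

open Cfsg.Agent in
/-- Burnside for cyclic Sylow subgroups. -/
theorem npc_of_fixed_aux {D : Type*} [Group D] [Finite D] {p : ℕ} [Fact p.Prime] (P : Sylow p D)
    (hP : IsCyclic (P : Subgroup D))
    (h : ∀ y : D, y ∈ Subgroup.normalizer ((P : Subgroup D) : Set D) ∧ (orderOf y).Coprime p →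
      ∃ z ∈ (P : Subgroup D), z ≠ 1 ∧ y * z * y⁻¹ = z) :
    Cfsg.HasNormalPComplement p D := by
  have : IsMulCommutative (P : Subgroup D) := IsCyclic.isMulCommutative
  apply Fusion.hasNormalPComplement_of_normalizer_le_centralizer P
  obtain ⟨⟨s, hsP⟩, hs⟩ := hP.exists_generator
  have hgen : ∀ x ∈ (P : Subgroup D), x ∈ Subgroup.zpowers s := fun x hx => by
    obtain ⟨j, hj⟩ := Subgroup.mem_zpowers_iff.mp (hs ⟨x, hx⟩)
    exact ⟨j, congrArg Subtype.val hj⟩
  obtain ⟨m, hm⟩ := IsPGroup.iff_orderOf.mp P.2 ⟨s, hsP⟩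
  rw [Subgroup.orderOf_mk] at hm
  intro y hy
  rw [Subgroup.mem_centralizer_iff]
  suffices hys : Commute y s by
    intro x hx
    obtain ⟨j, rfl⟩ := Subgroup.mem_zpowers_iff.mp (hgen x hx)
    exact ((hys.zpow_right j).eq).symm
  -- split into the `p`-part and the `p'`-part
  obtain ⟨e, c, hc, hec⟩ := Nat.exists_eq_pow_mul_and_not_dvd (orderOf_pos y).ne' p (Fact.out : p.Prime).ne_one
  have hcop : c.Coprime (p ^ e) := (((Fact.out : p.Prime).coprime_iff_not_dvd).mpr hc).symm.pow_right e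
  have hsplit : ∀ z ∈ Subgroup.zpowers y, (orderOf z).Coprime p → Commute z s := by
    intro z hz hzc
    have hzN := Subgroup.zpowers_le.mpr hy hz
    obtain ⟨u, hu⟩ := Subgroup.mem_zpowers_iff.mp (hgen _ ((Subgroup.mem_normalizer_iff.mp hzN s).mp hsP))
    obtain ⟨w, hw, hw1, hwz⟩ := h z ⟨hzN, hzc⟩
    exact commute_of_congr hzc hm hu.symm (dvd_of_fixed hm hu.symm (hgen w hw) hw1 hwz)
  obtain ⟨a, ha0, ha1⟩ := Nat.chineseRemainder hcop 0 1
  obtain ⟨b, hb1, hb0⟩ := Nat.chineseRemainder hcop 1 0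
  have hpe : (y ^ a) ^ p ^ e = 1 := by
    rw [← pow_mul]
    refine orderOf_dvd_iff_pow_eq_one.mp ?_
    rw [hec, mul_comm a]
    exact mul_dvd_mul_left _ (Nat.modEq_zero_iff_dvd.mp ha0)
  have hce : (y ^ b) ^ c = 1 := by
    rw [← pow_mul]
    refine orderOf_dvd_iff_pow_eq_one.mp ?_
    rw [hec]
    exact mul_dvd_mul_right (Nat.modEq_zero_iff_dvd.mp hb0) _
  have hab : y = y ^ a * y ^ b := by
    rw [← pow_add]
    conv_lhs => rw [← pow_one y]
    refine pow_eq_pow_iff_modEq.mpr ?_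
    rw [hec]
    refine ((Nat.modEq_and_modEq_iff_modEq_mul hcop.symm).mp ⟨?_, ?_⟩).symm
    · simpa using ha1.add hb0
    · simpa using ha0.add hb1
  obtain ⟨k, -, hk⟩ := (Nat.dvd_prime_pow (Fact.out : p.Prime)).mp (orderOf_dvd_of_pow_eq_one hpe)
  have h1 : Commute (y ^ a) s := setLike_mul_comm (s := (P : Subgroup D))
    (mem_sylow_of_normalizes P (Subgroup.pow_mem _ hy a) ⟨k, hk⟩) hsP
  have h2 : Commute (y ^ b) s := hsplit _ (Subgroup.npow_mem_zpowers y b)
    (Nat.Coprime.coprime_dvd_left (orderOf_dvd_of_pow_eq_one hce) (((Fact.out : p.Prime).coprime_iff_not_dvd).mpr hc).symm)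
  rw [hab]
  exact h1.mul_left h2

open Cfsg.Agent in
theorem npc_of_fixed' {D : Type*} [Group D] [Finite D] {p : ℕ} [Fact p.Prime] (P : Sylow p D) [IsCyclic (P : Subgroup D)]
    (h : ∀ y : D, y ∈ Subgroup.normalizer ((P : Subgroup D) : Set D) ∧ (orderOf y).Coprime p →
      ∃ z ∈ (P : Subgroup D), z ≠ 1 ∧ y * z * y⁻¹ = z) :
    Cfsg.HasNormalPComplement p D :=
  npc_of_fixed_aux P inferInstance h



/-- Let G be a finite group with a cyclic Sylow p-subgroup and H a normal subgroup such that p divides both the order of H and the index of H. Then H has a normal p-complement and G is p-solvable. -/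
theorem result {G : Type*} [Group G] [Finite G] (p : ℕ) [Fact p.Prime]
    (P : Sylow p G) (hP : IsCyclic (P : Subgroup G)) (H : Subgroup G) [H.Normal] (h1 : p ∣ Nat.card H) (h2 : p ∣ H.index) :
    Cfsg.HasNormalPComplement p H ∧ Cfsg.IsPSolvable p G := by
  classical
  have hp := (Fact.out : p.Prime)
  set PS : Subgroup G := (P : Subgroup G) with hPS
  obtain ⟨PH, hPH⟩ : ∃ PH : Sylow p H, ((PH : Subgroup H).map H.subtype) = H ⊓ PS := by
    obtain ⟨S⟩ := (inferInstance : Nonempty (Sylow p H))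
    obtain ⟨T, hT⟩ := (S.2.map H.subtype).exists_le_sylow
    obtain ⟨g, hg⟩ := MulAction.exists_smul_eq G T P
    subst hg
    have hS : (S : Subgroup H) = (T : Subgroup G).subgroupOf H :=
      (S.3 (T.2.comap_of_injective H.subtype H.subtype_injective) (fun z hz => hT ⟨z, hz, rfl⟩)).symm
    -- conjugation by `g` is an automorphism of `H`
    let φ : MulAut H := MulAut.conjNormal g
    obtain ⟨S', hS'⟩ : ∃ S' : Sylow p H, (S' : Subgroup H) = (S : Subgroup H).map φ.toMonoidHom :=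
      ⟨S.mapSurjective (f := φ.toMonoidHom) φ.surjective, Sylow.coe_mapSurjective _ _⟩
    refine ⟨S', ?_⟩
    rw [hS', hS]
    ext x
    constructor
    · rintro ⟨_, ⟨z, hz, rfl⟩, rfl⟩
      refine ⟨(φ z).2, ?_⟩
      change _ ∈ ((g • T : Sylow p G) : Subgroup G)
      rw [Sylow.coe_subgroup_smul]
      exact ⟨z, hz, rfl⟩
    · rintro ⟨hxH, hx⟩
      change x ∈ ((g • T : Sylow p G) : Subgroup G) at hx
      rw [Sylow.coe_subgroup_smul] at hx
      obtain ⟨z, hz, rfl⟩ := hx
      have hzH : z ∈ H := by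
        have := (inferInstance : H.Normal).conj_mem _ hxH g⁻¹
        simpa [mul_assoc] using this
      exact ⟨φ ⟨z, hzH⟩, ⟨⟨z, hzH⟩, hz, rfl⟩, rfl⟩
  set Z := H ⊓ PS
  have hZ1 : Z ≠ ⊥ := by
    rw [← hPH, Ne, Subgroup.map_eq_bot_iff_of_injective _ H.subtype_injective]
    exact PH.ne_bot_of_dvd_card h1
  obtain ⟨⟨s, hsP⟩, hs⟩ := hP.exists_generator
  have hgen : ∀ x ∈ PS, x ∈ Subgroup.zpowers s := fun x hx => by
    obtain ⟨j, hj⟩ := Subgroup.mem_zpowers_iff.mp (hs ⟨x, hx⟩)
    exact ⟨j, congrArg Subtype.val hj⟩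
  obtain ⟨m, hm⟩ := IsPGroup.iff_orderOf.mp P.2 ⟨s, hsP⟩
  rw [Subgroup.orderOf_mk] at hm
  have hPcyc : ∀ S : Subgroup G, S ≤ PS → IsCyclic S := fun S hS => Subgroup.isCyclic_of_le hS
  have hsH : s ∉ H := fun hsH => by
    refine hp.coprime_iff_not_dvd.mp ?_ h2
    have hle : PS ≤ H := fun x hx => Subgroup.zpowers_le.mpr hsH (hgen x hx)
    exact (Nat.Coprime.coprime_dvd_right (Subgroup.index_dvd_of_le hle) ((hp.coprime_iff_not_dvd).mpr P.not_dvd_index))
  have : IsMulCommutative PS := IsCyclic.isMulCommutative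
  have hPZ : PS ≤ Subgroup.centralizer (Z : Set G) := fun x hx => Subgroup.mem_centralizer_iff.mpr fun z hz =>
    setLike_mul_comm (s := PS) hz.2 hx
  -- subgroups above `P` fixing something in `P`
  have hnpc : ∀ D : Subgroup G, PS ≤ D →
      (∀ y ∈ D, y ∈ Subgroup.normalizer (PS : Set G) → ∀ z ∈ Z, y * z * y⁻¹ = z) →
      Cfsg.HasNormalPComplement p D := by
    intro D hPD hfix
    let PD : Sylow p D := P.subtype hPD
    have hPDc : (PD : Subgroup D) = PS.subgroupOf D := Sylow.coe_subtype _ _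
    refine npc_of_fixed_aux PD ?_ fun y ⟨hy, _⟩ => ?_
    · rw [hPDc]
      exact isCyclic_of_surjective _ (Subgroup.subgroupOfEquivOfLe hPD).symm.surjective
    obtain ⟨z, hz, hz1⟩ := (Subgroup.bot_or_exists_ne_one Z).resolve_left hZ1
    refine ⟨⟨z, hPD hz.2⟩, by rw [hPDc]; exact hz.2, fun e => hz1 (congrArg Subtype.val e), Subtype.ext ?_⟩
    refine hfix y y.2 ?_ z hz
    rw [hPDc] at hy
    rw [Subgroup.mem_normalizer_iff] at hy ⊢
    intro x
    constructor
    · intro hx; exact (hy ⟨x, hPD hx⟩).mp hx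
    · intro hx
      have hxD : x ∈ D := by
        simpa [mul_assoc] using D.mul_mem (D.mul_mem (D.inv_mem y.2) (hPD hx)) y.2
      exact (hy ⟨x, hxD⟩).mpr hx
  -- the normal complement of `H`
  have hH : Cfsg.HasNormalPComplement p H := by
    have : IsCyclic (PH : Subgroup H) := by
      have := hPcyc Z inf_le_right
      rw [← hPH] at this
      exact isCyclic_of_surjective _ ((PH : Subgroup H).equivMapOfInjective _ H.subtype_injective).symm.surjective
    refine npc_of_fixed' PH fun y hy => ?_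
    set X := Subgroup.normalizer (Z : Set G)
    have hyX : (y : G) ∈ X := by
      rw [Subgroup.mem_normalizer_iff, ← hPH]
      intro x
      constructor
      · rintro ⟨w, hw, rfl⟩
        exact ⟨_, (Subgroup.mem_normalizer_iff.mp hy.1 w).mp hw, rfl⟩
      · rintro ⟨w, hw, hwx⟩
        refine ⟨y⁻¹ * w * y, (Subgroup.mem_normalizer_iff.mp hy.1 _).mpr (by rw [show y * (y⁻¹ * w * y) * y⁻¹ = w by group]; exact hw), ?_⟩
        rw [map_mul, map_mul, map_inv, hwx]
        simp [mul_assoc]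
    set C := X ⊓ Subgroup.centralizer (Z : Set G) with hC
    have hPC : PS ≤ C := le_inf (fun x hx => by
      rw [Subgroup.mem_normalizer_iff_map_conj_eq]
      refine Subgroup.eq_of_le_of_card_ge ?_ (le_of_eq (Subgroup.card_map_of_injective (MulEquiv.injective _)).symm)
      rintro _ ⟨z, hz, rfl⟩
      change x * z * x⁻¹ ∈ Z
      rw [← Subgroup.mem_centralizer_iff.mp (hPZ hx) z hz, mul_inv_cancel_right]
      exact hz) hPZ
    have hCnpc := hnpc C hPC fun w hw _ z hz => by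
      rw [← Subgroup.mem_centralizer_iff.mp hw.2 z hz, mul_inv_cancel_right]
    -- Frattini
    set O := Cfsg.pResidual p C
    let PC : Sylow p C := P.subtype hPC
    have hXC : ∀ w ∈ C, (y : G) * w * (y : G)⁻¹ ∈ C := fun w hw => ⟨X.mul_mem (X.mul_mem hyX hw.1) (X.inv_mem hyX), by
      refine Subgroup.mem_centralizer_iff.mpr fun z hz => ?_
      have h3 : (y : G)⁻¹ * z * y ∈ Z := by
        simpa using (Subgroup.mem_normalizer_iff.mp (X.inv_mem hyX) z).mp hz
      have h4 := Subgroup.mem_centralizer_iff.mp hw.2 _ h3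
      calc z * ((y : G) * w * (y : G)⁻¹) = y * (((y : G)⁻¹ * z * y) * w) * (y : G)⁻¹ := by group
        _ = y * (w * ((y : G)⁻¹ * z * y)) * (y : G)⁻¹ := by rw [h4]
        _ = (y : G) * w * (y : G)⁻¹ * z := by group⟩
    have hsub : PS.map (MulAut.conj (y : G)).toMonoidHom ≤ C := by
      rintro _ ⟨w, hw, rfl⟩; exact hXC w (hPC hw)
    let Q : Sylow p C := (MulAut.conj (y : G)).toMonoidHom |> fun _ => ((y : G) • P).subtype (by
      rw [Sylow.coe_subgroup_smul]; exact hsub)
    obtain ⟨c, hc⟩ := MulAction.exists_smul_eq C PC Q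
    obtain ⟨⟨o, t⟩, hot⟩ := (Fusion.isComplement'_pResidual hCnpc PC).2 c
    have hot' : (o : C) * (t : C) = c := hot
    have ho : (o : C) • PC = Q := by
      rw [← hc, ← hot', mul_smul, Sylow.smul_eq_iff_mem_normalizer.mpr (Subgroup.le_normalizer t.2)]
    set n := ((o : C) : G)⁻¹ * y
    have hn : n ∈ Subgroup.normalizer (PS : Set G) := by
      rw [Subgroup.mem_normalizer_iff_map_conj_eq]
      refine Subgroup.eq_of_le_of_card_ge ?_ (le_of_eq (Subgroup.card_map_of_injective (MulEquiv.injective _)).symm)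
      rintro _ ⟨w, hw, rfl⟩
      have h3 : (⟨(y : G) * w * (y : G)⁻¹, hXC w (hPC hw)⟩ : C) ∈ (Q : Subgroup C) := by
        rw [Sylow.coe_subtype, Sylow.coe_subgroup_smul, Subgroup.mem_subgroupOf]
        exact ⟨w, hw, rfl⟩
      rw [← ho, Sylow.coe_subgroup_smul] at h3
      obtain ⟨v, hv, hvw⟩ := h3
      rw [SetLike.mem_coe, Sylow.coe_subtype, Subgroup.mem_subgroupOf] at hv
      have h4 : ((o : C) : G) * v * ((o : C) : G)⁻¹ = (y : G) * w * (y : G)⁻¹ := congrArg Subtype.val hvw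
      show n * w * n⁻¹ ∈ PS
      rw [show n * w * n⁻¹ = ((o : C) : G)⁻¹ * ((y : G) * w * (y : G)⁻¹) * ((o : C) : G) by simp only [n]; group,
        ← h4]
      simpa [mul_assoc] using hv
    obtain ⟨u, hu⟩ := Subgroup.mem_zpowers_iff.mp (hgen _ ((Subgroup.mem_normalizer_iff.mp hn s).mp hsP))
    let f := QuotientGroup.mk' H
    have hup : (p : ℤ) ∣ u - 1 := by
      have hfn : f n = (f (o : C))⁻¹ := by
        rw [map_mul, map_inv, show f (y : G) = 1 from (QuotientGroup.eq_one_iff _).mpr y.2, mul_one]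
      set os : C := (o : C)⁻¹ * ⟨s, hPC hsP⟩ * (o : C) * ⟨s, hPC hsP⟩⁻¹
      have hosO : os ∈ O := by
        rw [show os = (o : C)⁻¹ * (⟨s, hPC hsP⟩ * (o : C) * (⟨s, hPC hsP⟩ : C)⁻¹) by simp only [os]; group]
        exact O.mul_mem (O.inv_mem o.2) ((inferInstance : O.Normal).conj_mem _ o.2 _)
      have hfos : f (os : G) = f (n * s * n⁻¹ * s⁻¹) := by
        simp only [os, Subgroup.coe_mul, Subgroup.coe_inv, map_mul, map_inv, hfn, inv_inv]
      have h5 : f (s ^ (u - 1)) = 1 := by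
        rw [zpow_sub, zpow_one, hu, ← hfos, ← orderOf_eq_one_iff]
        refine Nat.eq_one_of_dvd_coprimes (((Fusion.mem_pResidual_iff hCnpc).mp hosO).pow_right m)
          ((orderOf_map_dvd f _).trans (by rw [Subgroup.orderOf_coe])) ?_
        rw [hfos, ← hu, ← zpow_neg_one s, ← zpow_add]
        exact (orderOf_map_dvd f _).trans (hm ▸ orderOf_dvd_of_mem_zpowers (Subgroup.zpow_mem_zpowers s _))
      by_contra hnd
      refine hsH ?_
      obtain ⟨a, b, hab⟩ := (((Nat.prime_iff_prime_int.mp hp).coprime_iff_not_dvd).mpr hnd).pow_left (m := m)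
      have h6 : s = (s ^ (u - 1)) ^ b := by
        rw [← zpow_mul]
        conv_lhs => rw [← zpow_one s]
        rw [← orderOf_dvd_sub_iff_zpow_eq_zpow, hm]
        exact ⟨a, by push_cast; linear_combination (-1 : ℤ) * hab⟩
      rw [h6]
      exact H.zpow_mem ((QuotientGroup.eq_one_iff _).mp h5) b
    obtain ⟨⟨w₀, hw₀⟩, hw₀gen⟩ := (hPcyc Z inf_le_right).exists_generator
    obtain ⟨l, hl⟩ := IsPGroup.iff_orderOf.mp (P.2.to_le (inf_le_right : Z ≤ PS)) ⟨w₀, hw₀⟩
    rw [Subgroup.orderOf_mk] at hl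
    have hnw : (y : G) * w₀ * (y : G)⁻¹ = w₀ ^ u := by
      have h7 : n * w₀ * n⁻¹ = w₀ ^ u := by
        obtain ⟨j, hj⟩ := Subgroup.mem_zpowers_iff.mp (hgen _ hw₀.2)
        rw [← hj, ← conj_zpow, ← hu, ← zpow_mul, ← zpow_mul, mul_comm]
      have hyw : (y : G) * w₀ * (y : G)⁻¹ ∈ Z := (Subgroup.mem_normalizer_iff.mp hyX w₀).mp hw₀
      have h8 := Subgroup.mem_centralizer_iff.mp ((o : C)⁻¹ : C).2.2 _ hyw
      rw [← h7]
      simp only [n]
      rw [Subgroup.coe_inv] at h8
      rw [show ((o : C) : G)⁻¹ * (y : G) * w₀ * (((o : C) : G)⁻¹ * (y : G))⁻¹ =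
        ((o : C) : G)⁻¹ * ((y : G) * w₀ * (y : G)⁻¹) * ((o : C) : G) by group, ← h8, inv_mul_cancel_right]
    have hcomm : Commute (y : G) w₀ := commute_of_congr (by rw [Subgroup.orderOf_coe]; exact hy.2) hl hnw hup
    refine ⟨⟨w₀, hw₀.1⟩, ?_, fun e => hZ1 ?_, Subtype.ext ?_⟩
    · have : (w₀ : G) ∈ (PH : Subgroup H).map H.subtype := hPH ▸ hw₀
      obtain ⟨v, hv, hvw⟩ := this
      rwa [show (⟨w₀, hw₀.1⟩ : H) = v from Subtype.ext hvw.symm]
    · rw [Subgroup.eq_bot_iff_forall]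
      intro x hx
      obtain ⟨j, hj⟩ := Subgroup.mem_zpowers_iff.mp (hw₀gen ⟨x, hx⟩)
      have hj' : w₀ ^ j = x := congrArg Subtype.val hj
      rw [← hj', show w₀ = 1 from congrArg Subtype.val e, one_zpow]
    · exact mul_inv_eq_iff_eq_mul.mpr hcomm.eq
  refine ⟨hH, ?_⟩
  -- the series
  set K := (Cfsg.pResidual p H).map H.subtype
  have hHres : (Cfsg.pResidual p H).Characteristic :=
    Subgroup.characteristic_iff_map_eq.mpr fun e => Fusion.map_pResidual_of_surjective _ e.surjective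
  have hKn : K.Normal := inferInstance
  let g := QuotientGroup.mk' K
  set D := (Subgroup.centralizer ((H.map g : Subgroup (G ⧸ K)) : Set (G ⧸ K))).comap g
  have hDn : D.Normal := by
    have : (H.map g).Normal := (inferInstance : H.Normal).map g (QuotientGroup.mk'_surjective K)
    exact Subgroup.Normal.comap inferInstance g
  have hKcop : ∀ x ∈ K, (orderOf x).Coprime p := by
    rintro _ ⟨x, hx, rfl⟩
    rw [Subgroup.subtype_apply, Subgroup.orderOf_coe]
    exact (Fusion.mem_pResidual_iff hH).mp hx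
  have hPD : PS ≤ D := fun x hx => by
    refine Subgroup.mem_comap.mpr (Subgroup.mem_centralizer_iff.mpr ?_)
    rintro _ ⟨h, hh, rfl⟩
    obtain ⟨⟨o, t⟩, hot⟩ := (Fusion.isComplement'_pResidual hH PH).2 ⟨h, hh⟩
    have hot' : ((o : H) : G) * (t : H) = h := congrArg Subtype.val hot
    have ht : ((t : H) : G) ∈ Z := hPH ▸ Subgroup.mem_map_of_mem _ t.2
    rw [← hot', map_mul, show g ((o : H) : G) = 1 from (QuotientGroup.eq_one_iff _).mpr ⟨_, o.2, rfl⟩, one_mul,
      ← map_mul, ← map_mul, setLike_mul_comm (s := PS) ht.2 hx]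
  have hDnpc := hnpc D hPD fun w hw hwN z hz => by
    have h3 := Subgroup.mem_centralizer_iff.mp hw (g z) (Subgroup.mem_map_of_mem g hz.1)
    have h4 : w * z * w⁻¹ * z⁻¹ ∈ K := by
      rw [← QuotientGroup.eq_one_iff, ← QuotientGroup.mk'_apply]
      show g _ = 1
      rw [map_mul, map_mul, map_mul, map_inv, map_inv, ← h3, mul_inv_cancel_right, mul_inv_cancel]
    have h5 : w * z * w⁻¹ * z⁻¹ ∈ PS := PS.mul_mem ((Subgroup.mem_normalizer_iff.mp hwN z).mp hz.2) (PS.inv_mem hz.2)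
    obtain ⟨k, hk⟩ := IsPGroup.iff_orderOf.mp P.2 ⟨_, h5⟩
    rw [Subgroup.orderOf_mk] at hk
    exact mul_inv_eq_one.mp (orderOf_eq_one_iff.mp (Nat.eq_one_of_dvd_coprimes ((hKcop _ h4).pow_right k) dvd_rfl (hk ▸ dvd_rfl)))
  set E := (Cfsg.pResidual p D).map D.subtype
  have hDres : (Cfsg.pResidual p D).Characteristic :=
    Subgroup.characteristic_iff_map_eq.mpr fun e => Fusion.map_pResidual_of_surjective _ e.surjective
  have hEn : E.Normal := inferInstance
  have hED : E ≤ D := Subgroup.map_subtype_le _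
  refine ⟨3, ![⊥, E, D, ⊤], rfl, rfl, ?_, ?_, ?_⟩
  · refine Fin.monotone_iff_le_succ.mpr fun i => ?_
    fin_cases i
    · exact bot_le
    · exact hED
    · exact le_top
  · intro i
    fin_cases i
    · exact Subgroup.normal_bot
    · exact hEn
    · exact hDn
    · exact Subgroup.normal_top
  · intro i
    fin_cases i
    · right
      change ((⊥ : Subgroup G).relIndex E).Coprime p
      rw [Subgroup.relIndex_bot_left, Subgroup.card_map_of_injective D.subtype_injective]
      exact Fusion.hasNormalPComplement_iff.mp hDnpc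
    · left
      obtain ⟨k, hk⟩ := Fusion.index_pResidual_eq_pow (G := D) (p := p)
      refine ⟨k, ?_⟩
      change E.relIndex D = p ^ k
      rw [← hk, Subgroup.relIndex, Subgroup.subgroupOf, Subgroup.comap_map_eq_self_of_injective D.subtype_injective]
    · right
      change (D.relIndex ⊤).Coprime p
      rw [Subgroup.relIndex_top_right]
      exact Nat.Coprime.coprime_dvd_left (Subgroup.index_dvd_of_le hPD) ((hp.coprime_iff_not_dvd).mpr P.not_dvd_index).symm

end Cfsg.Agent.S4145
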