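import Cfsg.Statements.S4149
-- import your own Cfsg.Agent.* helpers here

set_option autoImplicit false
open Cfsg

namespace Cfsg.Agent.S4149

/-- If `p` has no normal complement, at most half of the elements have class size prime to `p`. -/
theorem two_mul_card_le {G : Type*} [Group G] [Finite G] (p : ℕ) [Fact p.Prime]
    (h : ¬ Cfsg.HasNormalPComplement p G) :
    2 * Nat.card {x : G // ¬ p ∣ (Subgroup.centralizer ({x} : Set G)).index} ≤ Nat.card G := by
  classical
  obtain ⟨P⟩ := (inferInstance : Nonempty (Sylow p G))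
  set C := Subgroup.centralizer ((P : Subgroup G) : Set G) with hC
  set N := Subgroup.normalizer ((P : Subgroup G) : Set G) with hN
  have hCN : C ≤ N := by
    intro c hc
    rw [hN, Subgroup.mem_normalizer_iff]
    intro y
    constructor
    · intro hy
      have e : c * y * c⁻¹ = y := by
        rw [← Subgroup.mem_centralizer_iff.1 hc y hy]; group
      rw [e]; exact hy
    · intro hy
      have e := Subgroup.mem_centralizer_iff.1 hc _ hy
      have e2 : c * y * c⁻¹ = y := by
        have := congrArg (fun z => c⁻¹ * z) e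
        simpa [mul_assoc] using this.symm
      rwa [e2] at hy
  have hne : ¬ N ≤ C := fun hle =>
    h ⟨P, _, MonoidHom.normal_ker _, MonoidHom.ker_transferSylow_isComplement' P hle⟩
  have hrel : 2 * Nat.card C ≤ Nat.card N := by
    obtain ⟨k, hk⟩ := Subgroup.card_dvd_of_le hCN
    have hpos : 0 < Nat.card N := Nat.card_pos
    rcases k with _ | _ | k
    · simp [hk] at hpos
    · exact absurd (Subgroup.eq_of_le_of_card_ge hCN (by omega)).ge hne
    · rw [hk, Nat.mul_comm 2]; exact Nat.mul_le_mul_left _ (by omega)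
  let f : (G ⧸ N) × C → G := fun qc => qc.1.out * (qc.2 : G) * qc.1.out⁻¹
  have hcov : ∀ x : {x : G // ¬ p ∣ (Subgroup.centralizer ({x} : Set G)).index}, ∃ qc, f qc = x.1 := by
    rintro ⟨x, hx⟩
    obtain ⟨Q⟩ := (inferInstance : Nonempty (Sylow p (Subgroup.centralizer ({x} : Set G))))
    have hQ : ¬ p ∣ ((Q : Subgroup _).map (Subgroup.centralizer ({x} : Set G)).subtype).index := by
      rw [Subgroup.index_map_subtype]
      intro hd
      rcases (Fact.out : p.Prime).dvd_mul.1 hd with h1 | h1
      · exact Q.not_dvd_index h1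
      · exact hx h1
    let Q' : Sylow p G := (IsPGroup.map Q.2 _).toSylow hQ
    obtain ⟨g, hg⟩ := MulAction.exists_smul_eq G P Q'
    have hcen : ∀ y ∈ (P : Subgroup G), g * y * g⁻¹ * x = x * (g * y * g⁻¹) := by
      intro y hy
      have hy' : g * y * g⁻¹ ∈ (Q' : Subgroup G) := by
        rw [← hg, Sylow.coe_subgroup_smul]
        exact Subgroup.smul_mem_pointwise_smul y (MulAut.conj g) _ hy
      have h2 : g * y * g⁻¹ ∈ Subgroup.centralizer ({x} : Set G) :=
        Subgroup.map_subtype_le _ hy'
      exact ((Subgroup.mem_centralizer_singleton_iff).1 h2)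
    set q : G ⧸ N := (g : G ⧸ N)
    obtain ⟨n, hn⟩ := QuotientGroup.mk_out_eq_mul N g
    refine ⟨(q, ⟨q.out⁻¹ * x * q.out, ?_⟩), ?_⟩
    · rw [hn]
      have hx' : g⁻¹ * x * g ∈ C := by
        rw [hC, Subgroup.mem_centralizer_iff]
        intro y hy
        have := hcen y hy
        calc y * (g⁻¹ * x * g) = g⁻¹ * (g * y * g⁻¹ * x) * g := by group
          _ = g⁻¹ * (x * (g * y * g⁻¹)) * g := by rw [this]
          _ = g⁻¹ * x * g * y := by group
      have hCn : (n : G)⁻¹ * (g⁻¹ * x * g) * n ∈ C := by
        rw [hC, Subgroup.mem_centralizer_iff]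
        intro y hy
        have hy2 : (n : G) * y * (n : G)⁻¹ ∈ (P : Subgroup G) :=
          (Subgroup.mem_normalizer_iff.1 n.2 y).1 hy
        have := Subgroup.mem_centralizer_iff.1 hx' _ hy2
        calc y * ((n : G)⁻¹ * (g⁻¹ * x * g) * n)
            = (n : G)⁻¹ * ((n : G) * y * (n : G)⁻¹ * (g⁻¹ * x * g)) * n := by group
          _ = (n : G)⁻¹ * ((g⁻¹ * x * g) * ((n : G) * y * (n : G)⁻¹)) * n := by rw [this]
          _ = (n : G)⁻¹ * (g⁻¹ * x * g) * n * y := by group
      convert hCn using 1
      group
    · simp only [f]; group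
  choose s hs using hcov
  have hinj : Function.Injective s := fun a b e => Subtype.ext (by rw [← hs a, ← hs b, e])
  have := Nat.card_le_card_of_injective s hinj
  rw [Nat.card_prod, ← Subgroup.index_eq_card] at this
  calc 2 * Nat.card {x : G // ¬ p ∣ (Subgroup.centralizer ({x} : Set G)).index}
      ≤ 2 * (N.index * Nat.card C) := by omega
    _ = N.index * (2 * Nat.card C) := by ring
    _ ≤ N.index * Nat.card N := Nat.mul_le_mul_left _ hrel
    _ = Nat.card G := Subgroup.index_mul_card N


/-- Let G be a finite group that has a normal p-complement for at most one prime p dividing its order, and let σ be a natural number such that every conjugacy class size of G has at most σ distinct prime divisors. Then the number of primes dividing at least one conjugacy class size of G is at most 2σ. -/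
theorem result {G : Type*} [Group G] [Finite G] (σ : ℕ)
    (hσ : ∀ x : G, ((Subgroup.centralizer ({x} : Set G)).index).primeFactors.card ≤ σ)
    (hnil : ∀ p q : ℕ, p.Prime → q.Prime → p ∣ Nat.card G → q ∣ Nat.card G →
      Cfsg.HasNormalPComplement p G → Cfsg.HasNormalPComplement q G → p = q) :
    Nat.card {p : ℕ | p.Prime ∧ ∃ x : G, p ∣ (Subgroup.centralizer ({x} : Set G)).index} ≤ 2 * σ := by
  classical
  have := Fintype.ofFinite G
  set n := Nat.card G with hn
  have hn0 : 0 < n := Nat.card_pos
  let d : ℕ → G → Prop := fun p x => p ∣ (Subgroup.centralizer ({x} : Set G)).index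
  set ρ := n.primeFactors.filter (fun p => ∃ x, d p x) with hρ
  have hset : {p : ℕ | p.Prime ∧ ∃ x : G, p ∣ (Subgroup.centralizer ({x} : Set G)).index}
      = (ρ : Set ℕ) := by
    ext p
    simp only [hρ, Finset.coe_filter, Nat.mem_primeFactors, Set.mem_setOf_eq, d]
    constructor
    · rintro ⟨hp, x, hx⟩
      exact ⟨⟨hp, hx.trans (Subgroup.index_dvd_card _), hn0.ne'⟩, x, hx⟩
    · rintro ⟨⟨hp, -, -⟩, hx⟩
      exact ⟨hp, hx⟩
  rw [hset, Nat.card_coe_set_eq, Set.ncard_coe_finset]
  -- double counting
  set a : ℕ → ℕ := fun p => (Finset.univ.filter (fun x : G => d p x)).card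
  have hsum : ∑ p ∈ ρ, a p ≤ n * σ := by
    have h1 : ∑ p ∈ ρ, a p = ∑ x : G, (ρ.filter (fun p => d p x)).card := by
      simp only [a, Finset.card_filter]
      rw [Finset.sum_comm]
    rw [h1]
    calc ∑ x : G, (ρ.filter (fun p => d p x)).card ≤ ∑ _x : G, σ := by
          refine Finset.sum_le_sum (fun x _ => le_trans (Finset.card_le_card ?_) (hσ x))
          intro p hp
          simp only [hρ, Finset.mem_filter, Nat.mem_primeFactors] at hp
          rw [Nat.mem_primeFactors]
          exact ⟨hp.1.1.1, hp.2, Subgroup.index_ne_zero_of_finite⟩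
      _ = n * σ := by simp [hn, Nat.card_eq_fintype_card]
  have hhalf : ∀ p ∈ ρ, ¬ Cfsg.HasNormalPComplement p G → n ≤ 2 * a p := by
    intro p hp hnp
    simp only [hρ, Finset.mem_filter, Nat.mem_primeFactors] at hp
    have : Fact p.Prime := ⟨hp.1.1⟩
    have h2 : 2 * Nat.card {x : G // ¬ d p x} ≤ n := two_mul_card_le p hnp
    have h3 : Nat.card {x : G // ¬ d p x} + a p = n := by
      simp only [a, hn, Nat.card_eq_fintype_card, Fintype.card_subtype]
      rw [add_comm, Finset.card_filter_add_card_filter_not]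
      rfl
    omega
  have hone : ∀ p ∈ ρ, 1 ≤ a p := by
    intro p hp
    simp only [hρ, Finset.mem_filter] at hp
    obtain ⟨x, hx⟩ := hp.2
    exact Finset.card_pos.2 ⟨x, by simp [hx]⟩
  -- at most one exceptional prime
  set E := ρ.filter (fun p => Cfsg.HasNormalPComplement p G)
  have hE : E.card ≤ 1 := by
    refine Finset.card_le_one.2 (fun p hp q hq => ?_)
    simp only [E, hρ, Finset.mem_filter, Nat.mem_primeFactors] at hp hq
    exact hnil p q hp.1.1.1 hq.1.1.1 hp.1.1.2.1 hq.1.1.2.1 hp.2 hq.2
  have hR : (ρ.filter (fun p => ¬ Cfsg.HasNormalPComplement p G)).card * n + 2 * E.card ≤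
      2 * (n * σ) := by
    calc (ρ.filter (fun p => ¬ Cfsg.HasNormalPComplement p G)).card * n + 2 * E.card
        = (∑ _p ∈ ρ.filter (fun p => ¬ Cfsg.HasNormalPComplement p G), n) + ∑ _p ∈ E, 2 := by
          simp [Finset.sum_const, mul_comm]
      _ ≤ (∑ p ∈ ρ.filter (fun p => ¬ Cfsg.HasNormalPComplement p G), 2 * a p) +
            ∑ p ∈ E, 2 * a p := by
          refine Nat.add_le_add (Finset.sum_le_sum fun p hp => ?_) (Finset.sum_le_sum fun p hp => ?_)
          · exact hhalf p (Finset.mem_filter.1 hp).1 (Finset.mem_filter.1 hp).2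
          · have := hone p (Finset.mem_filter.1 hp).1
            omega
      _ = 2 * ∑ p ∈ ρ, a p := by
          rw [add_comm, Finset.sum_filter_add_sum_filter_not, Finset.mul_sum]
      _ ≤ 2 * (n * σ) := Nat.mul_le_mul_left 2 hsum
  have hsplit : E.card + (ρ.filter (fun p => ¬ Cfsg.HasNormalPComplement p G)).card = ρ.card :=
    Finset.card_filter_add_card_filter_not _
  by_contra hlt
  rcases Nat.eq_zero_or_pos E.card with h0 | h1
  · have : (2 * σ + 1) * n ≤ (ρ.filter (fun p => ¬ Cfsg.HasNormalPComplement p G)).card * n :=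
      Nat.mul_le_mul_right n (by omega)
    nlinarith
  · have : 2 * σ * n ≤ (ρ.filter (fun p => ¬ Cfsg.HasNormalPComplement p G)).card * n :=
      Nat.mul_le_mul_right n (by omega)
    nlinarith

end Cfsg.Agent.S4149
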