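import Cfsg.Statements.S4150
import Cfsg.Agent.AltTwoPrimes.Core
import Cfsg.Agent.AltTwoPrimes.Primes
-- import your own Cfsg.Agent.* helpers here

set_option autoImplicit false
open Cfsg

namespace Cfsg.Agent.S4150
open Equiv Cfsg.Agent.AltTwoPrimes

/-- The choice of the two primes. -/
theorem choose_primes (m : ℕ) (hm : 5 ≤ m) : ∃ p q : ℕ, p.Prime ∧ q.Prime ∧ m ≤ 2 * p ∧ p < q ∧ q ≤ m ∧
    m < 2 * q ∧ ((p = 3 ∧ q = 5 ∧ m ≤ 6) ∨ (p = 5 ∧ q = 7 ∧ m ≤ 10) ∨ (p = 11 ∧ q = 13 ∧ m ≤ 16) ∨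
      (m < 2 * p ∧ p + 4 ≤ q)) := by
  rcases lt_or_ge m 7 with h | h
  · exact ⟨3, 5, by norm_num, by norm_num, by omega, by omega, by omega, by omega, Or.inl ⟨rfl, rfl, by omega⟩⟩
  rcases lt_or_ge m 11 with h1 | h1
  · exact ⟨5, 7, by norm_num, by norm_num, by omega, by omega, by omega, by omega, Or.inr (Or.inl ⟨rfl, rfl, by omega⟩)⟩
  rcases lt_or_ge m 13 with h2 | h2
  · exact ⟨7, 11, by norm_num, by norm_num, by omega, by omega, by omega, by omega, Or.inr (Or.inr (Or.inr ⟨by omega, by omega⟩))⟩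
  rcases lt_or_ge m 17 with h3 | h3
  · exact ⟨11, 13, by norm_num, by norm_num, by omega, by omega, by omega, by omega, Or.inr (Or.inr (Or.inl ⟨rfl, rfl, by omega⟩))⟩
  rcases lt_or_ge m 18 with h4 | h4
  · exact ⟨11, 17, by norm_num, by norm_num, by omega, by omega, by omega, by omega, Or.inr (Or.inr (Or.inr ⟨by omega, by omega⟩))⟩
  obtain ⟨p, q, hp, hq, hnp, hpq, hq2⟩ := exists_three_primes (m / 2) (by omega)
  exact ⟨p, q, hp, hq, by omega, by omega, by omega, by omega, Or.inr (Or.inr (Or.inr ⟨by omega, hpq⟩))⟩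

/-- Passage to the points moved by the two elements. -/
theorem main {m p q : ℕ} (hp : p.Prime) (hq : q.Prime) (hm : 5 ≤ m) (hmp : m ≤ 2 * p) (hqm : q ≤ m) (hpq : p < q)
    (hstrict : m < 2 * q) (hcase : (p = 3 ∧ q = 5 ∧ m ≤ 6) ∨ (p = 5 ∧ q = 7 ∧ m ≤ 10) ∨ (p = 11 ∧ q = 13 ∧ m ≤ 16) ∨
      (m < 2 * p ∧ p + 4 ≤ q)) (x y : alternatingGroup (Fin m)) (hx : orderOf x = p) (hy : orderOf y = q) :
    ∃ d : ℕ, 5 ≤ d ∧ Nonempty (Subgroup.closure ({x, y} : Set (alternatingGroup (Fin m))) ≃* alternatingGroup (Fin d)) := by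
  classical
  set W : Finset (Fin m) := (x : Perm (Fin m)).support ∪ (y : Perm (Fin m)).support with hW
  set H := Subgroup.closure ({x, y} : Set (alternatingGroup (Fin m))) with hH
  have hfix : ∀ g ∈ H, ∀ w, w ∉ W → (g : Perm (Fin m)) w = w := by
    intro g hg w hw
    induction hg using Subgroup.closure_induction with
    | mem z hz =>
      simp only [hW, Finset.mem_union, Perm.mem_support, not_or, not_not] at hw
      rcases hz with rfl | rfl
      · exact hw.1
      · exact hw.2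
    | one => rfl
    | mul a b _ _ iha ihb => rw [Subgroup.coe_mul, Perm.mul_apply, ihb, iha]
    | inv a _ iha => rw [Subgroup.coe_inv, Perm.inv_eq_iff_eq, iha]
  have hpres : ∀ g : H, ∀ w, (g.1 : Perm (Fin m)) w ∈ W ↔ w ∈ W := by
    intro g w
    constructor
    · intro h
      by_contra hc
      rw [hfix g.1 g.2 w hc] at h
      exact hc h
    · intro h
      by_contra hc
      have h1 := hfix g.1 g.2 _ hc
      rw [(g.1 : Perm (Fin m)).injective h1] at hc
      exact hc h
  let φ : H →* Perm W :=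
    { toFun := fun g => (g.1 : Perm (Fin m)).subtypePerm (hpres g)
      map_one' := Equiv.ext fun z => Subtype.ext rfl
      map_mul' := fun g l => Equiv.ext fun z => Subtype.ext rfl }
  have hφ : Function.Injective φ := fun g l hgl => by
    refine Subtype.ext (Subtype.ext (Equiv.ext fun w => ?_))
    by_cases hw : w ∈ W
    · exact congrArg Subtype.val (DFunLike.congr_fun hgl (⟨w, hw⟩ : W))
    · rw [hfix _ g.2 w hw, hfix _ l.2 w hw]
  set X : H := ⟨x, Subgroup.subset_closure (by simp)⟩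
  set Y : H := ⟨y, Subgroup.subset_closure (by simp)⟩
  have hX : orderOf (φ X) = p := by rw [orderOf_injective φ hφ, Subgroup.orderOf_mk, hx]
  have hY : orderOf (φ Y) = q := by rw [orderOf_injective φ hφ, Subgroup.orderOf_mk, hy]
  have hd : Fintype.card W = W.card := Fintype.card_coe W
  have hdm : W.card ≤ m := (Finset.card_le_univ W).trans (Fintype.card_fin m).le
  have hys : (y : Perm (Fin m)).support.card = q := by
    have ho : orderOf (y : Perm (Fin m)) = q := by rw [Subgroup.orderOf_coe, hy]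
    rw [← (Perm.isCycle_of_prime_order' (ho ▸ hq) (by rw [ho, Fintype.card_fin]; omega)).orderOf, ho]
  have hqd : q ≤ W.card := hys ▸ Finset.card_le_card Finset.subset_union_right
  have hxs : p ≤ (x : Perm (Fin m)).support.card ∧
      ((x : Perm (Fin m)).support.card = p ∨ 2 * p ≤ (x : Perm (Fin m)).support.card) := by
    have ho : orderOf (x : Perm (Fin m)) = p := by rw [Subgroup.orderOf_coe, hx]
    obtain ⟨n, hn⟩ := Perm.cycleType_prime_order (σ := (x : Perm (Fin m))) (ho ▸ hp)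
    rw [ho] at hn
    rw [← Perm.sum_cycleType, hn, Multiset.sum_replicate, smul_eq_mul]
    rcases Nat.eq_zero_or_pos n with rfl | hn0
    · simp
    · exact ⟨Nat.le_mul_of_pos_left p (by omega), Or.inr (Nat.mul_le_mul_right p (by omega))⟩
  have hGalt : φ.range ≤ alternatingGroup W := by
    rintro _ ⟨g, rfl⟩
    show Perm.sign _ = 1
    have h := (Perm.sign_subtypePerm (g.1 : Perm (Fin m)) (hpres g) (fun w hw => by
        by_contra hc
        exact hw (hfix g.1 g.2 w hc))).trans g.1.2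
    convert! h
  have hcov : ∀ a : W, φ X a ≠ a ∨ φ Y a ≠ a := by
    intro a
    have ha := a.2
    simp only [hW, Finset.mem_union, Perm.mem_support] at ha
    rcases ha with h | h
    · exact Or.inl fun h' => h (congrArg Subtype.val h')
    · exact Or.inr fun h' => h (congrArg Subtype.val h')
  have hxW : (x : Perm (Fin m)).support.card ≤ W.card := Finset.card_le_card Finset.subset_union_left
  obtain ⟨d, hd5, ⟨e⟩⟩ := core φ.range hGalt (⟨X, rfl⟩ : φ X ∈ φ.range) (⟨Y, rfl⟩ : φ Y ∈ φ.range) hX hY hp hq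
    (by omega) (by omega) (by omega) hcov (by
      rcases hcase with ⟨rfl, rfl, h6⟩ | ⟨rfl, rfl, h10⟩ | ⟨rfl, rfl, h16⟩ | ⟨h2p, h4⟩
      · rcases (show W.card = 5 ∨ W.card = 6 by omega) with h | h
        · exact Or.inl ⟨by omega, Or.inr (Or.inl ⟨rfl, le_rfl⟩)⟩
        · exact Or.inr (Or.inr ⟨rfl, rfl, by omega⟩)
      · rcases (show W.card = 7 ∨ (8 ≤ W.card ∧ W.card < 10) ∨ W.card = 10 by omega) with h | h | h
        · exact Or.inl ⟨by omega, Or.inr (Or.inr (Or.inl ⟨rfl, rfl, by omega⟩))⟩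
        · exact Or.inl ⟨by omega, Or.inl ⟨by omega, by omega⟩⟩
        · exact Or.inr (Or.inl ⟨by omega, by omega⟩)
      · rcases (show W.card = 13 ∨ 14 ≤ W.card by omega) with h | h
        · exact Or.inl ⟨by omega, Or.inr (Or.inr (Or.inr ⟨rfl, rfl, by omega⟩))⟩
        · exact Or.inl ⟨by omega, Or.inl ⟨by omega, by omega⟩⟩
      · exact Or.inl ⟨by omega, Or.inl ⟨by omega, by omega⟩⟩)
  exact ⟨d, hd5, ⟨(MonoidHom.ofInjective hφ).trans e⟩⟩


/-- Let m ≥ 5. Then there are primes p < q with m/2 ≤ p and q ≤ m such that any two elements x, y of the alternating group of degree m with x of order p and y of order q generate a subgroup isomorphic to an alternating group of some degree d ≥ 5. -/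
theorem result (m : ℕ) (hm : 5 ≤ m) :
    ∃ p q : ℕ, p.Prime ∧ q.Prime ∧ m ≤ 2 * p ∧ p < q ∧ q ≤ m ∧
      ∀ x y : alternatingGroup (Fin m), orderOf x = p → orderOf y = q →
        ∃ d : ℕ, 5 ≤ d ∧ Nonempty (Subgroup.closure ({x, y} : Set (alternatingGroup (Fin m))) ≃* alternatingGroup (Fin d)) := by
  obtain ⟨p, q, hp, hq, hmp, hpq, hqm, hstrict, hcase⟩ := choose_primes m hm
  exact ⟨p, q, hp, hq, hmp, hpq, hqm, fun x y hx hy => main hp hq hm hmp hqm hpq hstrict hcase x y hx hy⟩

end Cfsg.Agent.S4150
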