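import Cfsg.Statements.S4151
import Cfsg.Agent.Coprime.Basic
import Cfsg.Agent.Coprime.Generation
import Cfsg.Agent.Coprime.SchurZassenhaus
import Cfsg.Agent.Core.Basics
import Cfsg.Agent.Fusion.UniqueInvolution
import Mathlib.GroupTheory.SpecificGroups.ZGroup
import Mathlib.GroupTheory.SchurZassenhaus
-- import your own Cfsg.Agent.* helpers here

set_option autoImplicit false
open Cfsg

namespace Cfsg.Agent.S4151

open scoped commutatorElement

open Subgroup Cfsg.Agent.Coprime
open scoped Pointwise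

variable {G : Type*} [Group G] [Finite G]

theorem hall_of_ti {H : Subgroup G} (hTI : Cfsg.IsTISubset (H : Set G))
    (hHall : (Nat.card H).Coprime (H.relIndex (normalizer (H : Set G)))) :
    (Nat.card H).Coprime H.index := by
  refine Nat.coprime_of_dvd fun p hp h1 h2 => ?_
  haveI := Fact.mk hp
  obtain ⟨P⟩ : Nonempty (Sylow p H) := inferInstance
  set P' : Subgroup G := (P : Subgroup H).map H.subtype with hP'
  have hcard : Nat.card P' = p ^ (Nat.card H).factorization p := by
    rw [hP', card_map_of_injective H.subtype_injective, P.card_eq_multiplicity]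
  have hdvd : p ^ ((Nat.card H).factorization p + 1) ∣ Nat.card G := by
    rw [pow_succ, ← card_mul_index H]
    exact mul_dvd_mul (Nat.ordProj_dvd _ _) h2
  have h3 := Sylow.prime_pow_dvd_card_normalizer hdvd hcard
  have hle : normalizer (P' : Set G) ≤ normalizer (H : Set G) := by
    intro x hx
    by_contra hxN
    have hne : P' ≠ ⊥ := fun e => by
      rw [e, card_bot] at hcard
      have := hp.factorization_pos_of_dvd Nat.card_pos.ne' h1
      exact (Nat.one_lt_pow this.ne' hp.one_lt).ne hcard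
    obtain ⟨y, hy, hy1⟩ := (Subgroup.bot_or_exists_ne_one P').resolve_left hne
    have hP'H : P' ≤ H := map_subtype_le _
    exact hy1 (hTI x hxN y (hP'H hy) (hP'H ((mem_normalizer_iff.1 hx y).1 hy)))
  have h4 := h3.trans (card_dvd_of_le hle)
  rw [← relIndex_bot_left (normalizer (H : Set G)), ← relIndex_mul_relIndex ⊥ H _ bot_le le_normalizer, relIndex_bot_left] at h4
  have hc : Nat.Coprime (p ^ ((Nat.card H).factorization p + 1)) (H.relIndex (normalizer (H : Set G))) :=
    Nat.Coprime.pow_left _ (hHall.coprime_dvd_left h1)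
  exact Nat.pow_succ_factorization_not_dvd Nat.card_pos.ne' hp (hc.dvd_of_dvd_mul_right h4)

theorem eq_bot_of_sigma {H : Subgroup G} (hTI : Cfsg.IsTISubset (H : Set G)) (hnn : ¬ H.Normal)
    (hH : (Nat.card H).Coprime H.index) {M : Subgroup G} [M.Normal]
    (hM : ∀ q : ℕ, q.Prime → q ∣ Nat.card M → q ∣ Nat.card H) : M = ⊥ := by
  have hle : M ≤ H := by
    refine relIndex_eq_one.1 (Nat.eq_one_of_dvd_coprimes (a := Nat.card M) (b := H.index) ?_ (relIndex_dvd_card _ _) ?_)
    · exact Nat.coprime_of_dvd fun q hq h1 h2 => hq.one_lt.ne' (Nat.eq_one_of_dvd_coprimes hH (hM q hq h1) h2)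
    · have h := Cfsg.Agent.Core.card_sup_mul_card_inf H M
      have h2 : Nat.card (H ⊓ M : Subgroup G) * H.relIndex M = Nat.card M := by
        rw [← relIndex_bot_left, ← relIndex_bot_left, ← inf_relIndex_right H M, inf_comm H M,
          relIndex_mul_relIndex ⊥ (M ⊓ H) M bot_le inf_le_left]
      have h3 : Nat.card (H ⊔ M : Subgroup G) = Nat.card H * H.relIndex M := by
        rw [← h2, mul_comm (Nat.card (H ⊓ M : Subgroup G)), ← mul_assoc] at h
        exact Nat.eq_of_mul_eq_mul_right Nat.card_pos h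
      have h4 := card_subgroup_dvd_card (H ⊔ M)
      rw [h3, ← card_mul_index H] at h4
      exact Nat.dvd_of_mul_dvd_mul_left Nat.card_pos h4
  obtain ⟨g, hg⟩ : ∃ g : G, g ∉ normalizer (H : Set G) := by
    by_contra hall
    push Not at hall
    exact hnn (normalizer_eq_top_iff.1 (eq_top_iff.2 fun g _ => hall g))
  exact (eq_bot_iff_forall _).2 fun m hm =>
    hTI g hg m (hle hm) (hle (Subgroup.Normal.conj_mem inferInstance m hm g))

theorem fixed_mem_centralizer {H K : Subgroup G} [K.Normal] (hTI : Cfsg.IsTISubset (H : Set G))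
    (hd : K ⊓ H = ⊥) {h k : G} (hh : h ∈ H) (h1 : h ≠ 1) (hk : k ∈ K) (hcomm : h * k = k * h) :
    k ∈ centralizer (H : Set G) := by
  refine mem_centralizer_of_mem_normalizer (by rw [normalizer_eq_top_iff.2 inferInstance]; exact le_top) hd hk ?_
  by_contra hkN
  refine h1 (hTI k hkN h hh ?_)
  show k * h * k⁻¹ ∈ H
  rw [← hcomm, mul_inv_cancel_right]; exact hh

theorem isZGroup_of {H K : Subgroup G} [K.Normal] (hTI : Cfsg.IsTISubset (H : Set G))
    (hne : H ≠ ⊥) (hcop : (Nat.card H).Coprime (Nat.card K)) (hC : centralizer (K : Set G) ≤ K)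
    (h2 : ∀ P : Sylow 2 H, IsMulCommutative (P : Subgroup H)) : IsZGroup H := by
  have hd : K ⊓ H = ⊥ := Subgroup.inf_eq_bot_of_coprime hcop.symm
  have hcyc : ∀ A : Subgroup G, A ≤ H → IsMulCommutative A → IsCyclic A := by
    intro A hA hAc
    by_contra hnc
    have h := iSup_centralizer_eq hnc (K := K) (by rw [normalizer_eq_top_iff.2 inferInstance]; exact le_top)
      (hcop.coprime_dvd_left (card_dvd_of_le hA))
    have hle : K ≤ centralizer (H : Set G) := by
      rw [← h, iSup₂_le_iff]
      rintro a ⟨ha, ha1⟩ k ⟨hk, hkc⟩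
      exact fixed_mem_centralizer hTI hd (hA ha) ha1 hk (mem_centralizer_iff.1 hkc a rfl)
    have hHK : H ≤ K := (le_centralizer_iff.1 hle).trans hC
    exact hne (le_bot_iff.1 ((le_inf hHK le_rfl).trans_eq hd))
  refine ⟨fun p hp P => ?_⟩
  haveI := Fact.mk hp
  by_cases hab : IsMulCommutative (P : Subgroup H)
  · have hA : IsMulCommutative ((P : Subgroup H).map H.subtype) :=
      ⟨⟨fun ⟨_, a, ha, ea⟩ ⟨_, b, hb, eb⟩ => by
        subst ea eb
        exact Subtype.ext (congrArg H.subtype (congrArg Subtype.val (hab.is_comm.comm ⟨a, ha⟩ ⟨b, hb⟩)))⟩⟩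
    haveI := hcyc _ (map_subtype_le _) hA
    exact isCyclic_of_surjective _ ((P : Subgroup H).equivMapOfInjective H.subtype H.subtype_injective).symm.surjective
  have hp2 : p ≠ 2 := by
    rintro rfl; exact hab (h2 P)
  refine ((Cfsg.Agent.Fusion.cyclic_or_quaternion_of_unique (G := P) P.2 ?_).resolve_right fun h => hp2 h.1)
  -- a central element of order `p`
  haveI : Nontrivial P := by
    rw [Subgroup.nontrivial_iff_ne_bot]
    intro e; exact hab (by rw [e]; infer_instance)
  haveI := P.2.center_nontrivial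
  obtain ⟨z, hz⟩ := exists_prime_orderOf_dvd_card' p (G := center P)
    (by
      obtain ⟨n, hn, e⟩ := (IsPGroup.nontrivial_iff_card (IsPGroup.to_subgroup P.2 (center P))).1 inferInstance
      rw [e]; exact dvd_pow_self p hn.ne')
  have hzo : orderOf (z : P) = p := by rw [Subgroup.orderOf_coe, hz]
  suffices key : ∀ X : Subgroup P, Nat.card X = p → X = zpowers (z : P) from
    fun X Y hX hY => (key X hX).trans (key Y hY).symm
  intro X hX
  let ι : P →* G := H.subtype.comp (P : Subgroup H).subtype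
  have hι : Function.Injective ι := H.subtype_injective.comp (P : Subgroup H).subtype_injective
  refine eq_of_le_of_card_ge (fun x hx => ?_) (by rw [hX, Nat.card_zpowers, hzo])
  let Z := closure ({x, (z : P)} : Set P)
  have hZc : IsMulCommutative Z := by
    refine isMulCommutative_closure ?_
    intro a ha b hb
    rcases ha with rfl | rfl <;> rcases hb with rfl | rfl
    · rfl
    · exact Subgroup.mem_center_iff.1 z.2 a
    · exact (Subgroup.mem_center_iff.1 z.2 b).symm
    · rfl
  have hZm : IsMulCommutative (Z.map ι) := ⟨⟨fun ⟨_, a, ha, ea⟩ ⟨_, b, hb, eb⟩ => by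
    subst ea eb
    exact Subtype.ext (show ι a * ι b = ι b * ι a by
      rw [← map_mul, ← map_mul]; exact congrArg ι (congrArg Subtype.val (hZc.is_comm.comm ⟨a, ha⟩ ⟨b, hb⟩)))⟩⟩
  haveI := hcyc (Z.map ι) (by rintro _ ⟨a, -, rfl⟩; exact ((a : H)).2) hZm
  have hZcy : IsCyclic Z := isCyclic_of_surjective _ (Z.equivMapOfInjective ι hι).symm.surjective
  refine Cfsg.Agent.Fusion.mem_zpowers_of_orderOf_dvd hZcy (subset_closure (Or.inl rfl)) (subset_closure (Or.inr rfl)) ?_
  rw [hzo]
  exact (Subgroup.orderOf_mk x hx ▸ orderOf_dvd_natCard (⟨x, hx⟩ : X)).trans (dvd_of_eq hX)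

theorem exists_M {H Q : Subgroup G} [IsZGroup H] (hQ : Q ≤ normalizer (H : Set G))
    (hcop : (Nat.card Q).Coprime (Nat.card H)) :
    ∃ M ≤ H, H ≤ normalizer (M : Set G) ∧ Q ≤ normalizer (M : Set G) ∧
      (∀ h ∈ H, ∀ q ∈ Q, ⁅h, q⁆ ∈ M) ∧ M ⊔ (H ⊓ centralizer (Q : Set G)) = H ∧
      (Nat.card M).Coprime (Nat.card (H ⊓ centralizer (Q : Set G) : Subgroup G)) := by
  classical
  have hsolv : Group.IsSolvable Q ∨ Group.IsSolvable H := Or.inr inferInstance
  have hexP : ∀ r : Nat.Primes, ∃ P : Sylow r.1 H, Q ≤ normalizer ((P : Subgroup H).map H.subtype : Set G) :=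
    fun r => by
      haveI := Fact.mk r.2
      exact exists_invariant_sylow hQ hcop hsolv r.1
  choose P hPQ using hexP
  let P' : Nat.Primes → Subgroup G := fun r => (P r : Subgroup H).map H.subtype
  let Mh : Subgroup H := normalClosure {x : H | ∃ r : Nat.Primes, ¬ Q ≤ centralizer (P' r : Set G) ∧ x ∈ (P r : Subgroup H)}
  let M : Subgroup G := Mh.map H.subtype
  have hMH : M ≤ H := map_subtype_le _
  have hHM : H ≤ normalizer (M : Set G) := by
    intro h hh
    have h1 := le_normalizer_map (H := Mh) H.subtype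
    refine h1 ⟨⟨h, hh⟩, ?_, rfl⟩
    rw [normalizer_eq_top_iff.2 normalClosure_normal]
    exact mem_top _
  have hQM : Q ≤ normalizer (M : Set G) := by
    have hconj : ∀ q ∈ Q, M ≤ M.comap (MulAut.conj q).toMonoidHom := by
      intro q hq
      let c : H →* G := (MulAut.conj q).toMonoidHom.comp H.subtype
      have hn : ((M.comap c)).Normal := ⟨fun x hx h => by
        show q * (((h * x * h⁻¹ : H)) : G) * q⁻¹ ∈ M
        have e : q * (((h * x * h⁻¹ : H)) : G) * q⁻¹ = (q * h * q⁻¹) * (q * x * q⁻¹) * (q * h * q⁻¹)⁻¹ := by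
          simp only [Subgroup.coe_mul, Subgroup.coe_inv]; group
        rw [e]
        exact (mem_normalizer_iff.1 (hHM ((mem_normalizer_iff.1 (hQ hq) h).1 h.2)) _).1 hx⟩
      have hsub : Mh ≤ M.comap c := by
        refine normalClosure_le_normal ?_
        rintro x ⟨r, hr, hx⟩
        obtain ⟨y, hy, hy'⟩ := (mem_normalizer_iff.1 (hPQ r hq) x).1 ⟨x, hx, rfl⟩
        exact ⟨y, subset_normalClosure ⟨r, hr, hy⟩, hy'⟩
      rintro _ ⟨x, hx, rfl⟩
      exact hsub hx
    intro q hq
    rw [mem_normalizer_iff]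
    refine fun m => ⟨fun hm => hconj q hq hm, fun hm => ?_⟩
    have h := hconj q⁻¹ (inv_mem hq) hm
    have e : q⁻¹ * (q * m * q⁻¹) * q⁻¹⁻¹ = m := by group
    have h2 : q⁻¹ * (q * m * q⁻¹) * q⁻¹⁻¹ ∈ M := h
    rwa [e] at h2
  have hgen : ∀ S : Subgroup H, (∀ r : Nat.Primes, (P r : Subgroup H) ≤ S) → S = ⊤ := fun S hS => by
    refine eq_top_of_le_card S (Nat.le_of_dvd Nat.card_pos ?_)
    refine (Nat.dvd_iff_prime_pow_dvd_dvd _ _).2 fun p k hp hk => ?_
    haveI := Fact.mk hp
    refine ((Nat.pow_dvd_pow p ((hp.pow_dvd_iff_le_factorization Nat.card_pos.ne').1 hk)).trans ?_)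
    rw [← (P ⟨p, hp⟩).card_eq_multiplicity]
    exact card_dvd_of_le (hS ⟨p, hp⟩)
  have hP'M : ∀ r, ¬ Q ≤ centralizer (P' r : Set G) → P' r ≤ M :=
    fun r hr => map_mono fun x hx => subset_normalClosure ⟨r, hr, hx⟩
  have hcomm : ∀ h ∈ H, ∀ q ∈ Q, ⁅h, q⁆ ∈ M := by
    intro h hh q hq
    let S : Subgroup H :=
      { carrier := {x | ∀ q ∈ Q, ⁅(x : G), q⁆ ∈ M}
        one_mem' := fun q _ => by simp [one_mem]
        mul_mem' := fun {a b} ha hb q hq => by
          have e : ⁅((a * b : H) : G), q⁆ = ((a : G) * ⁅(b : G), q⁆ * (a : G)⁻¹) * ⁅(a : G), q⁆ := by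
            simp only [Subgroup.coe_mul, commutatorElement_def]; group
          rw [e]
          exact mul_mem ((mem_normalizer_iff.1 (hHM a.2) _).1 (hb q hq)) (ha q hq)
        inv_mem' := fun {a} ha q hq => by
          have e : ⁅((a⁻¹ : H) : G), q⁆ = (a : G)⁻¹ * ⁅(a : G), q⁆⁻¹ * (a : G)⁻¹⁻¹ := by
            simp only [Subgroup.coe_inv, commutatorElement_def]; group
          rw [e]
          exact (mem_normalizer_iff.1 (hHM (inv_mem a.2)) _).1 (inv_mem (ha q hq)) }
    have hS : S = ⊤ := hgen S fun r x hx q hq => by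
      by_cases hr : Q ≤ centralizer (P' r : Set G)
      · rw [commutatorElement_eq_one_iff_mul_comm.2 (mem_centralizer_iff.1 (hr hq) x ⟨x, hx, rfl⟩)]
        exact one_mem _
      · refine hP'M r hr ?_
        have h' : (x : G) * (q * (x : G)⁻¹ * q⁻¹) ∈ P' r := (P' r).mul_mem ⟨x, hx, rfl⟩
          ((mem_normalizer_iff.1 (hPQ r hq) _).1 ((P' r).inv_mem ⟨x, hx, rfl⟩))
        simpa [commutatorElement_def, mul_assoc] using h'
    exact (hS.ge (mem_top (⟨h, hh⟩ : H))) q hq
  refine ⟨M, hMH, hHM, hQM, hcomm, ?_, ?_⟩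
  · refine le_antisymm (sup_le hMH inf_le_left) fun h hh => ?_
    have hS : (M ⊔ (H ⊓ centralizer (Q : Set G))).subgroupOf H = ⊤ := hgen _ fun r x hx => by
      rw [mem_subgroupOf]
      by_cases hr : Q ≤ centralizer (P' r : Set G)
      · exact mem_sup_right ⟨x.2, mem_centralizer_iff.2 fun q hq => (mem_centralizer_iff.1 (hr hq) x ⟨x, hx, rfl⟩).symm⟩
      · exact mem_sup_left (hP'M r hr ⟨x, hx, rfl⟩)
    exact mem_subgroupOf.1 (hS.ge (mem_top (⟨h, hh⟩ : H)))
  refine Nat.coprime_of_dvd fun p hp hpM hpD => ?_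
  haveI := Fact.mk hp
  -- the fixed points meet the chosen Sylow subgroup
  obtain ⟨x, hx⟩ := exists_prime_orderOf_dvd_card' p hpD
  obtain ⟨R, hxR, hQR⟩ := exists_le_invariant_sylow hQ hcop hsolv
    (U := zpowers (x : G)) (p := p) (by rw [zpowers_le]; exact x.2.1)
    (IsPGroup.of_card (n := 1) (by rw [Nat.card_zpowers, Subgroup.orderOf_coe, hx, pow_one]))
    (by
      intro q hq
      have hc : q * (x : G) = (x : G) * q := mem_centralizer_iff.1 x.2.2 q hq
      refine Subgroup.mem_normalizer_iff.2 fun y => ?_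
      have hq' : Commute q (x : G) := hc
      constructor
      · rintro ⟨n, rfl⟩
        exact ⟨n, by rw [(hq'.zpow_right n).eq, mul_inv_cancel_right]⟩
      · rintro ⟨n, hn⟩
        refine ⟨n, ?_⟩
        have : y = q⁻¹ * ((x : G) ^ n) * q := by rw [show (x : G) ^ n = q * y * q⁻¹ from hn]; group
        rw [this, mul_assoc, ← (hq'.zpow_right n).eq, inv_mul_cancel_left])
  obtain ⟨c, hcQ, hcR⟩ := exists_centralizer_conj_sylow hQ hcop hsolv R (P ⟨p, hp⟩) hQR (hPQ ⟨p, hp⟩)
  set pp : Nat.Primes := ⟨p, hp⟩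
  have hy : ∃ y ∈ P' pp, y ≠ 1 ∧ ∀ q ∈ Q, q * y = y * q := by
    obtain ⟨x', hx', ex⟩ := hxR (mem_zpowers (x : G))
    refine ⟨(c : G) * x * (c : G)⁻¹, ⟨c * x' * c⁻¹, ?_, ?_⟩, ?_, ?_⟩
    · rw [← hcR]
      exact Subgroup.smul_mem_pointwise_smul x' (MulAut.conj c) _ hx'
    · show (c : G) * (x' : G) * (c : G)⁻¹ = _
      rw [show (x' : G) = x from ex]
    · intro e
      have : (x : G) = 1 := conj_eq_one_iff.1 e
      rw [← Subgroup.orderOf_coe, this, orderOf_one] at hx
      exact hp.one_lt.ne hx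
    · intro q hq
      have h1 : Commute q (x : G) := mem_centralizer_iff.1 x.2.2 q hq
      have h2 : Commute q (c : G) := mem_centralizer_iff.1 hcQ q hq
      exact ((h2.mul_right h1).mul_right h2.inv_right).eq
  have hcycP : ∀ r : Nat.Primes, IsCyclic (P' r) := fun r => by
    haveI := Fact.mk r.2
    exact isCyclic_of_surjective _ ((P r : Subgroup H).equivMapOfInjective H.subtype H.subtype_injective).surjective
  -- on a cyclic `p`-group a coprime action with a fixed point is trivial
  have hcent : Q ≤ centralizer (P' pp : Set G) := by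
    obtain ⟨y, hy, hy1, hyQ⟩ := hy
    haveI := hcycP pp
    haveI : IsMulCommutative (P' pp) := inferInstance
    have hPp : IsPGroup p (P' pp) := (P pp).2.map _
    refine le_centralizer_of_fixes_prime_order (hPQ pp)
      (hcop.coprime_dvd_right ((card_dvd_of_le (map_subtype_le _)).trans dvd_rfl)) fun v hv hvp a ha => ?_
    have hvo : orderOf v = p := by
      obtain ⟨k, hk⟩ := hPp ⟨v, hv⟩
      have hvk : v ^ p ^ k = 1 := congrArg Subtype.val hk
      exact ((Nat.prime_dvd_prime_iff_eq hvp hp).1 (hvp.dvd_of_dvd_pow (orderOf_dvd_of_pow_eq_one hvk)))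
    have hdiv : p ∣ orderOf y := by
      obtain ⟨k, hk⟩ := hPp ⟨y, hy⟩
      have hyk : y ^ p ^ k = 1 := congrArg Subtype.val hk
      obtain ⟨j, -, hj⟩ := (Nat.dvd_prime_pow hp).1 (orderOf_dvd_of_pow_eq_one hyk)
      rcases j with _ | j
      · rw [pow_zero, orderOf_eq_one_iff] at hj; exact absurd hj hy1
      · rw [hj]; exact dvd_pow_self p (by simp)
    obtain ⟨n, hn⟩ := Cfsg.Agent.Fusion.mem_zpowers_of_orderOf_dvd (hcycP pp) hv hy (hvo ▸ hdiv)
    rw [← show y ^ n = v from hn]
    exact ((show Commute a y from hyQ a ha).zpow_right n).eq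
  -- it suffices to find a normal `p'`-subgroup containing the generators
  suffices key : ∃ W : Subgroup H, W.Normal ∧ ¬ p ∣ Nat.card W ∧
      ∀ r : Nat.Primes, ¬ Q ≤ centralizer (P' r : Set G) → (P r : Subgroup H) ≤ W by
    obtain ⟨W, hW, hpW, hgenW⟩ := key
    refine hpW (hpM.trans ?_)
    rw [card_map_of_injective H.subtype_injective]
    exact card_dvd_of_le (normalClosure_le_normal fun x ⟨r, hr, hx⟩ => hgenW r hr hx)
  have hne : ∀ r : Nat.Primes, ¬ Q ≤ centralizer (P' r : Set G) → ¬ r.1 = p := fun r hr e =>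
    hr (by rw [show r = pp from Subtype.ext e]; exact hcent)
  have hcopr : ∀ r : Nat.Primes, ¬ r.1 = p → Nat.Coprime p (Nat.card (P r : Subgroup H)) := fun r hr => by
    haveI := Fact.mk r.2
    rw [(P r).card_eq_multiplicity]
    exact Nat.Coprime.pow_right _ ((Nat.coprime_primes hp r.2).2 (Ne.symm hr))
  by_cases hpc : p ∣ Nat.card (_root_.commutator H)
  · -- the Sylow subgroup is normal
    have hPc : (P pp : Subgroup H) ≤ _root_.commutator H := by
      refine Cfsg.Agent.Core.le_of_coprime_index ?_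
      rw [(P pp).card_eq_multiplicity]
      exact Nat.Coprime.pow_left _ ((IsZGroup.coprime_commutator_index (G := H)).coprime_dvd_left hpc)
    haveI : (P pp : Subgroup H).Normal := by
      haveI := IsZGroup.isCyclic_commutator (G := H)
      refine ⟨fun a ha g => ?_⟩
      have hb : g * a * g⁻¹ ∈ _root_.commutator H := Subgroup.Normal.conj_mem inferInstance a (hPc ha) g
      obtain ⟨n, hn⟩ := Cfsg.Agent.Fusion.mem_zpowers_of_orderOf_dvd (IsZGroup.isCyclic_commutator (G := H)) hb (hPc ha)
        (MulEquiv.orderOf_eq (MulAut.conj g) a).dvd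
      exact hn ▸ zpow_mem ha n
    set C : Subgroup H := centralizer ((P pp : Subgroup H) : Set H) with hC
    haveI : C.Normal := Subgroup.normal_centralizer
    have hPC : (P pp : Subgroup H) ≤ C := le_centralizer (P pp : Subgroup H)
    obtain ⟨W, hW⟩ := exists_right_complement'_of_coprime
      (N := (P pp : Subgroup H).subgroupOf C)
      (by
        rw [Nat.card_congr (subgroupOfEquivOfLe hPC).toEquiv]
        exact (P pp).card_coprime_index.coprime_dvd_right (relIndex_dvd_index_of_normal _ _))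
    haveI : W.Normal := ⟨fun w hw g => by
      have hg : g ∈ ((P pp : Subgroup H).subgroupOf C) ⊔ W := by rw [hW.sup_eq_top]; exact mem_top _
      obtain ⟨a, ha, b, hb, rfl⟩ := mem_sup_of_normal_left.1 hg
      have hcen : Commute a (b * w * b⁻¹) :=
        Subtype.ext (mem_centralizer_iff.1 (b * w * b⁻¹).2 (a : H) ha)
      have e : a * b * w * (a * b)⁻¹ = b * w * b⁻¹ := by
        rw [mul_inv_rev, show a * b * w * (b⁻¹ * a⁻¹) = a * (b * w * b⁻¹) * a⁻¹ by group, hcen.eq, mul_inv_cancel_right]
      rw [e]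
      exact mul_mem (mul_mem hb hw) (inv_mem hb)⟩
    have hWcard : Nat.card W = ((P pp : Subgroup H).subgroupOf C).index := (hW.symm.index_eq_card).symm
    have hpW : ¬ p ∣ Nat.card W := fun h => (P pp).not_dvd_index
      ((hWcard ▸ h).trans (relIndex_dvd_index_of_normal _ _))
    have hcopW : (Nat.card W).Coprime W.index := by
      rw [hW.index_eq_card, Nat.card_congr (subgroupOfEquivOfLe hPC).toEquiv, (P pp).card_eq_multiplicity]
      exact Nat.Coprime.pow_right _ ((hp.coprime_iff_not_dvd.2 hpW).symm)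
    haveI := Cfsg.Agent.Core.characteristic_of_coprime hcopW
    refine ⟨W.map C.subtype, inferInstance, by rwa [card_map_of_injective C.subtype_injective], fun r hr => ?_⟩
    haveI := Fact.mk r.2
    have hfix : (P r : Subgroup H) ≤ C := by
      haveI := hcycP r
      obtain ⟨hd, hs⟩ := abelian_decomposition (hPQ r) (hcop.coprime_dvd_right (card_dvd_of_le (map_subtype_le _)))
      have hbot : P' r ⊓ centralizer (Q : Set G) = ⊥ := by
        by_contra hne'
        obtain ⟨y', ⟨hy', hyc⟩, hy1'⟩ := (Subgroup.bot_or_exists_ne_one _).resolve_left hne'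
        refine hr ?_
        have hPr : IsPGroup r.1 (P' r) := (P r).2.map _
        refine le_centralizer_of_fixes_prime_order (hPQ r)
          (hcop.coprime_dvd_right (card_dvd_of_le (map_subtype_le _))) fun v hv hvp a ha => ?_
        have hvo : orderOf v = r.1 := by
          obtain ⟨k, hk⟩ := hPr ⟨v, hv⟩
          have hvk : v ^ r.1 ^ k = 1 := congrArg Subtype.val hk
          exact ((Nat.prime_dvd_prime_iff_eq hvp r.2).1 (hvp.dvd_of_dvd_pow (orderOf_dvd_of_pow_eq_one hvk)))
        have hdiv : r.1 ∣ orderOf y' := by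
          obtain ⟨k, hk⟩ := hPr ⟨y', hy'⟩
          have hyk : y' ^ r.1 ^ k = 1 := congrArg Subtype.val hk
          obtain ⟨j, -, hj⟩ := (Nat.dvd_prime_pow r.2).1 (orderOf_dvd_of_pow_eq_one hyk)
          rcases j with _ | j
          · rw [pow_zero, orderOf_eq_one_iff] at hj; exact absurd hj hy1'
          · rw [hj]; exact dvd_pow_self r.1 (by simp)
        obtain ⟨n, hn⟩ := Cfsg.Agent.Fusion.mem_zpowers_of_orderOf_dvd (hcycP r) hv hy' (hvo ▸ hdiv)
        rw [← show y' ^ n = v from hn]
        exact ((show Commute a y' from mem_centralizer_iff.1 hyc a ha).zpow_right n).eq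
      have hPr_le : P' r ≤ centralizer (P' pp : Set G) := by
        refine hs.ge.trans ?_
        rw [hbot, bot_sup_eq, Subgroup.commutator_le]
        intro w hw q hq
        rw [mem_centralizer_iff]
        intro z hz
        have hzq : ∀ u ∈ P' pp, q * u * q⁻¹ = u := fun u hu => by
          rw [← mem_centralizer_iff.1 (hcent hq) u hu, mul_inv_cancel_right]
        have hzq' : ∀ u ∈ P' pp, q⁻¹ * u * q = u := fun u hu => by
          rw [mul_assoc, mem_centralizer_iff.1 (hcent hq) u hu, inv_mul_cancel_left]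
        have hwn : ∀ u ∈ P' pp, w⁻¹ * u * w ∈ P' pp := fun u hu => by
          obtain ⟨u', hu', rfl⟩ := hu
          obtain ⟨w', -, rfl⟩ := hw
          have h0 : w'⁻¹ * u' * w'⁻¹⁻¹ ∈ ((P pp : Subgroup H)) := Subgroup.Normal.conj_mem inferInstance u' hu' w'⁻¹
          rw [inv_inv] at h0
          exact ⟨w'⁻¹ * u' * w', h0, by simp⟩
        have h1 : w⁻¹ * z * w = q⁻¹ * (w⁻¹ * z * w) * q := (hzq' _ (hwn z hz)).symm
        -- `z` commutes with the commutator
        have h2 : ⁅w, q⁆⁻¹ * z * ⁅w, q⁆ = z := by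
          rw [commutatorElement_def]
          calc (w * q * w⁻¹ * q⁻¹)⁻¹ * z * (w * q * w⁻¹ * q⁻¹)
              = q * (w * (q⁻¹ * (w⁻¹ * z * w) * q) * w⁻¹) * q⁻¹ := by group
            _ = q * (w * (w⁻¹ * z * w) * w⁻¹) * q⁻¹ := by rw [← h1]
            _ = q * z * q⁻¹ := by group
            _ = z := hzq z hz
        calc z * ⁅w, q⁆ = ⁅w, q⁆ * (⁅w, q⁆⁻¹ * z * ⁅w, q⁆) := by group
          _ = ⁅w, q⁆ * z := by rw [h2]
      intro x hx
      rw [hC, mem_centralizer_iff]
      intro z hz
      exact Subtype.ext (mem_centralizer_iff.1 (hPr_le ⟨x, hx, rfl⟩) (z : G) ⟨z, hz, rfl⟩)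
    rw [← map_subgroupOf_eq_of_le hfix]
    refine map_mono (Cfsg.Agent.Core.le_of_coprime_index ?_)
    rw [Nat.card_congr (subgroupOfEquivOfLe hfix).toEquiv, hW.index_eq_card,
      Nat.card_congr (subgroupOfEquivOfLe hPC).toEquiv, (P pp).card_eq_multiplicity]
    exact Nat.Coprime.pow_right _ (hcopr r (hne r hr)).symm
  · -- `p` does not divide the derived subgroup
    let W : Subgroup H := ((powMonoidHom (P pp : Subgroup H).index).comp Abelianization.of).ker
    refine ⟨W, inferInstance, fun h => ?_, fun r hr x hx => ?_⟩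
    · obtain ⟨w, hw⟩ := exists_prime_orderOf_dvd_card' p h
      have h1 : (w : H) ^ (P pp : Subgroup H).index ∈ _root_.commutator H := by
        rw [← Abelianization.ker_of, MonoidHom.mem_ker, map_pow]; exact w.2
      refine hpc (dvd_trans ?_ (orderOf_dvd_natCard (⟨_, h1⟩ : _root_.commutator H)))
      rw [Subgroup.orderOf_mk, Nat.Coprime.orderOf_pow, Subgroup.orderOf_coe, hw]
      rw [Subgroup.orderOf_coe, hw]
      exact hp.coprime_iff_not_dvd.2 (P pp).not_dvd_index
    · rw [MonoidHom.mem_ker]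
      show Abelianization.of x ^ (P pp : Subgroup H).index = 1
      haveI := Fact.mk r.2
      have h1 : x ^ (P pp : Subgroup H).index = 1 := by
        refine orderOf_dvd_iff_pow_eq_one.1 ((((P r : Subgroup H).orderOf_dvd_natCard hx).trans ?_))
        have hc : Nat.Coprime (Nat.card (P r : Subgroup H)) (Nat.card (P pp : Subgroup H)) := by
          rw [(P pp).card_eq_multiplicity]
          exact Nat.Coprime.pow_right _ (hcopr r (hne r hr)).symm
        exact hc.dvd_of_dvd_mul_left ((card_mul_index (P pp : Subgroup H)).symm ▸ card_subgroup_dvd_card _)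
      rw [← map_pow, h1, map_one]



/-- Let G be a finite group and H a non-normal subgroup meeting each of its conjugates by elements outside N_G(H) trivially, with the order of H coprime to its index in N_G(H), such that G is π-separable for π the set of primes dividing the order of H (G has a chain of normal subgroups from 1 to G each of whose factors has order divisible only by primes dividing the order of H or coprime to it). Suppose a Sylow 2-subgroup of H is abelian and Q is a complement of H in N_G(H). Then C_H(Q), the subgroup of elements of H commuting with Q, has order coprime to its index in G and has a normal complement in G. -/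
theorem result {G : Type*} [Group G] [Finite G] (H : Subgroup G)
    (hTI : Cfsg.IsTISubset (H : Set G)) (hnn : ¬ H.Normal)
    (hHall : (Nat.card H).Coprime (H.subgroupOf (Subgroup.normalizer (H : Set G))).index)
    (hsep : ∃ (n : ℕ) (M : Fin (n + 1) → Subgroup G), M 0 = ⊥ ∧ M (Fin.last n) = ⊤ ∧ Monotone M ∧ (∀ i, (M i).Normal) ∧
      ∀ i : Fin n, (∀ q : ℕ, q.Prime → q ∣ (M i.castSucc).relIndex (M i.succ) → q ∣ Nat.card H) ∨
        ((M i.castSucc).relIndex (M i.succ)).Coprime (Nat.card H))
    (h2 : ∀ P : Sylow 2 H, IsMulCommutative (P : Subgroup H))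
    (Q : Subgroup G) (hQ : Q ≤ Subgroup.normalizer (H : Set G)) (hQH : Q ⊓ H = ⊥) (hQH' : Q ⊔ H = Subgroup.normalizer (H : Set G)) :
    (Nat.card ↥(H ⊓ Subgroup.centralizer (Q : Set G))).Coprime (H ⊓ Subgroup.centralizer (Q : Set G)).index ∧
    ∃ N : Subgroup G, N.Normal ∧ N.IsComplement' (H ⊓ Subgroup.centralizer (Q : Set G)) := by
  classical
  set N := Subgroup.normalizer (H : Set G) with hN
  have hrel : (Nat.card H).Coprime (H.relIndex N) := hHall
  have hH := hall_of_ti hTI hrel
  have hne : H ≠ ⊥ := fun e => hnn (e ▸ inferInstance)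
  -- the largest normal subgroup of order prime to `|H|`
  obtain ⟨K, ⟨hKn, hKc⟩, hKmax⟩ : ∃ K : Subgroup G, (K.Normal ∧ (Nat.card H).Coprime (Nat.card K)) ∧
      ∀ L : Subgroup G, L.Normal → (Nat.card H).Coprime (Nat.card L) → L ≤ K := by
    obtain ⟨K, hK, hmax⟩ := wellFounded_gt.has_min {K : Subgroup G | K.Normal ∧ (Nat.card H).Coprime (Nat.card K)}
      ⟨⊥, inferInstance, by simp⟩
    refine ⟨K, hK, fun L hL hLc => ?_⟩
    haveI := hK.1
    haveI := hL
    by_contra hle
    exact hmax (L ⊔ K) ⟨inferInstance, ((hLc.mul_right hK.2).coprime_dvd_right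
      (Cfsg.Agent.Core.card_sup_dvd_mul L K))⟩ (lt_of_le_of_ne le_sup_right fun e => hle (e ▸ le_sup_left))
  haveI := hKn
  obtain ⟨n, M, hM0, hMn, hMmono, hMnorm, hMfac⟩ := hsep
  have hd : K ⊓ H = ⊥ := Cfsg.Agent.Coprime.inf_eq_bot_of_coprime hKc.symm
  have hC : Subgroup.centralizer (K : Set G) ≤ K := by
    set C := Subgroup.centralizer (K : Set G) with hCdef
    by_contra hCK
    obtain ⟨i, hi, hi'⟩ : ∃ i : Fin n, M i.castSucc ⊓ C ≤ K ∧ ¬ M i.succ ⊓ C ≤ K := by
      by_contra hall
      push Not at hall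
      have h : ∀ i : Fin (n + 1), M i ⊓ C ≤ K := fun i => by
        induction i using Fin.induction with
        | zero => rw [hM0, bot_inf_eq]; exact bot_le
        | succ i ih => exact hall i ih
      exact hCK (by simpa [hMn] using h (Fin.last n))
    haveI := hMnorm i.castSucc
    haveI := hMnorm i.succ
    haveI : C.Normal := Subgroup.normal_centralizer
    set L := M i.succ ⊓ C with hL
    haveI : L.Normal := inferInstance
    have hdvd : (K ⊓ L).relIndex L ∣ (M i.castSucc).relIndex (M i.succ) := by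
      refine (Subgroup.relIndex_dvd_of_le_left L (H := M i.castSucc ⊓ C) (le_inf hi (inf_le_inf_right _ (hMmono (Fin.castSucc_le_succ i))))).trans ?_
      have h1 : (M i.castSucc ⊓ C).relIndex L = (M i.castSucc).relIndex L := by
        rw [← Subgroup.inf_relIndex_right, inf_assoc, inf_eq_right.2 (inf_le_right : L ≤ C),
          Subgroup.inf_relIndex_right]
      rw [h1, ← Subgroup.relIndex_sup_right L (M i.castSucc)]
      exact ⟨_, (Subgroup.relIndex_mul_relIndex (M i.castSucc) (L ⊔ M i.castSucc) (M i.succ) le_sup_right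
        (sup_le inf_le_left (hMmono (Fin.castSucc_le_succ i)))).symm⟩
    rcases hMfac i with hσ | hco
    · -- central subgroup with a normal complement
      have hLcard : Nat.card ((K ⊓ L).subgroupOf L) = Nat.card (K ⊓ L : Subgroup G) :=
        Nat.card_congr (Subgroup.subgroupOfEquivOfLe inf_le_right).toEquiv
      have hcz : (Nat.card (K ⊓ L : Subgroup G)).Coprime ((K ⊓ L).relIndex L) :=
        Nat.coprime_of_dvd fun q hq h1 h2 => hq.one_lt.ne' (Nat.eq_one_of_dvd_coprimes hKc
          (hσ q hq (h2.trans hdvd)) (h1.trans (Subgroup.card_dvd_of_le inf_le_left)))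
      obtain ⟨W, hW⟩ := Subgroup.exists_right_complement'_of_coprime (N := (K ⊓ L).subgroupOf L)
        (by rw [hLcard]; exact hcz)
      haveI : W.Normal := ⟨fun w hw g => by
        have hg : g ∈ ((K ⊓ L).subgroupOf L) ⊔ W := by rw [hW.sup_eq_top]; exact Subgroup.mem_top _
        obtain ⟨a, ha, b, hb, rfl⟩ := Subgroup.mem_sup_of_normal_left.1 hg
        have hcen : Commute a (b * w * b⁻¹) :=
          Subtype.ext (Subgroup.mem_centralizer_iff.1 ((b * w * b⁻¹).2.2) (a : G) (ha.1))
        have e : a * b * w * (a * b)⁻¹ = b * w * b⁻¹ := by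
          rw [mul_inv_rev, show a * b * w * (b⁻¹ * a⁻¹) = a * (b * w * b⁻¹) * a⁻¹ by group, hcen.eq, mul_inv_cancel_right]
        rw [e]
        exact mul_mem (mul_mem hb hw) (inv_mem hb)⟩
      have hWc : (Nat.card W).Coprime W.index := by
        rw [← hW.symm.index_eq_card, hW.index_eq_card, hLcard]
        exact hcz.symm
      haveI := Cfsg.Agent.Core.characteristic_of_coprime hWc
      have hWbot : W.map L.subtype = ⊥ := eq_bot_of_sigma hTI hnn hH fun q hq hqW => by
        rw [Subgroup.card_map_of_injective L.subtype_injective, ← hW.symm.index_eq_card] at hqW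
        exact hσ q hq (hqW.trans hdvd)
      rw [Subgroup.map_eq_bot_iff_of_injective _ L.subtype_injective] at hWbot
      rw [hWbot] at hW
      have := Subgroup.isComplement'_bot_right.1 hW
      rw [Subgroup.subgroupOf_eq_top] at this
      exact hi' (this.trans inf_le_left)
    · refine hi' (hKmax L inferInstance ?_)
      have e : Nat.card (K ⊓ L : Subgroup G) * (K ⊓ L).relIndex L = Nat.card L := by
        rw [← Subgroup.relIndex_bot_left, ← Subgroup.relIndex_bot_left,
          Subgroup.relIndex_mul_relIndex _ _ _ bot_le inf_le_right]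
      rw [← e]
      exact (hKc.coprime_dvd_right (Subgroup.card_dvd_of_le inf_le_left)).mul_right
        ((hco.symm.coprime_dvd_right hdvd))
  haveI hZ : IsZGroup H := isZGroup_of hTI hne hKc hC h2
  -- Frattini argument
  have hKN : K ⊔ N = ⊤ := by
    obtain ⟨i, hi, hi'⟩ : ∃ i : Fin n, M i.castSucc ≤ K ∧ ¬ M i.succ ≤ K := by
      by_contra hall
      push Not at hall
      have h : ∀ i : Fin (n + 1), M i ≤ K := fun i => by
        induction i using Fin.induction with
        | zero => rw [hM0]; exact bot_le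
        | succ i ih => exact hall i ih
      have hle := hMn ▸ h (Fin.last n)
      exact hne (le_bot_iff.1 ((le_inf (le_top.trans hle) le_rfl).trans_eq hd))
    haveI := hMnorm i.succ
    set L := M i.succ ⊔ K with hL
    have hLK : K.relIndex L ∣ (M i.castSucc).relIndex (M i.succ) := by
      rw [hL, Subgroup.relIndex_sup_right]
      exact Subgroup.relIndex_dvd_of_le_left _ hi
    have hσ : ∀ q : ℕ, q.Prime → q ∣ K.relIndex L → q ∣ Nat.card H := by
      rcases hMfac i with hσ | hco
      · exact fun q hq h => hσ q hq (h.trans hLK)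
      · refine absurd (le_sup_left.trans (hKmax L inferInstance ?_)) hi'
        rw [← Subgroup.relIndex_bot_left L, ← Subgroup.relIndex_mul_relIndex ⊥ K L bot_le le_sup_right,
          Subgroup.relIndex_bot_left]
        exact hKc.mul_right (hco.symm.coprime_dvd_right hLK)
    set H1 := L ⊓ H with hH1
    have hrelH : H1.relIndex L ∣ H.index := by
      rw [hH1, Subgroup.inf_relIndex_left]
      have h := Cfsg.Agent.Core.card_sup_mul_card_inf H L
      have h2 : Nat.card (H ⊓ L : Subgroup G) * H.relIndex L = Nat.card L := by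
        rw [← Subgroup.relIndex_bot_left, ← Subgroup.relIndex_bot_left, ← Subgroup.inf_relIndex_right H L, inf_comm H L,
          Subgroup.relIndex_mul_relIndex ⊥ (L ⊓ H) L bot_le inf_le_left]
      have h3 : Nat.card (H ⊔ L : Subgroup G) = Nat.card H * H.relIndex L := by
        rw [← h2, mul_comm (Nat.card (H ⊓ L : Subgroup G)), ← mul_assoc] at h
        exact Nat.eq_of_mul_eq_mul_right Nat.card_pos h
      have h4 := Subgroup.card_subgroup_dvd_card (H ⊔ L)
      rw [h3, ← Subgroup.card_mul_index H] at h4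
      exact Nat.dvd_of_mul_dvd_mul_left Nat.card_pos h4
    have hLeq : K ⊔ H1 = L := by
      refine le_antisymm (sup_le le_sup_right inf_le_left) (Subgroup.relIndex_eq_one.1 ?_)
      refine Nat.eq_one_of_dvd_coprimes (a := K.relIndex L) (b := H.index) ?_
        (Subgroup.relIndex_dvd_of_le_left _ le_sup_left) ((Subgroup.relIndex_dvd_of_le_left _ le_sup_right).trans hrelH)
      exact Nat.coprime_of_dvd fun q hq h1 h2 => hq.one_lt.ne' (Nat.eq_one_of_dvd_coprimes hH (hσ q hq h1) h2)
    have hH1ne : H1 ≠ ⊥ := fun e => hi' (by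
      rw [e, sup_bot_eq] at hLeq
      exact le_sup_left.trans hLeq.ge)
    rw [eq_top_iff]
    intro g _
    obtain ⟨k, hk, hkB⟩ := Cfsg.Agent.Coprime.exists_conj_eq (A := H1) (K := K) (B := MulAut.conj g • H1)
      (by rw [Subgroup.normalizer_eq_top_iff.2 hKn]; exact le_top)
      (hKc.coprime_dvd_left (Subgroup.card_dvd_of_le inf_le_right))
      (Or.inl (Cfsg.Agent.Core.isSolvable_mono (inferInstance : Group.IsSolvable H) inf_le_right))
      (by
        rw [hLeq]
        exact Cfsg.Agent.Coprime.conj_smul_le_self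
          (by rw [Subgroup.normalizer_eq_top_iff.2 inferInstance]; exact Subgroup.mem_top g) inf_le_left)
      (Cfsg.Agent.Coprime.card_conj_smul _ _)
    rw [← Cfsg.Agent.Coprime.conj_mul_smul] at hkB
    obtain ⟨y, hy, hy1⟩ := (Subgroup.bot_or_exists_ne_one H1).resolve_left hH1ne
    have hkg : k * g ∈ N := by
      by_contra hkg
      refine hy1 (hTI _ hkg y hy.2 ?_)
      have h := Cfsg.Agent.Coprime.conj_mem_conj_smul (g := k * g) hy
      rw [hkB] at h
      exact h.2
    rw [show g = k⁻¹ * (k * g) by group]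
    exact Subgroup.mul_mem_sup (inv_mem hk) hkg
  -- the complement inside the normalizer
  have hQc : (Nat.card Q).Coprime (Nat.card H) := by
    have h1 : Nat.card (H ⊔ Q : Subgroup G) = Nat.card H * Nat.card Q :=
      Cfsg.Agent.Coprime.card_sup_eq_mul hQ (by rw [inf_comm]; exact hQH)
    rw [sup_comm, hQH'] at h1
    have h2 : Nat.card H * H.relIndex N = Nat.card N := by
      rw [← Subgroup.relIndex_bot_left, ← Subgroup.relIndex_bot_left,
        Subgroup.relIndex_mul_relIndex ⊥ H N bot_le Subgroup.le_normalizer]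
    rw [h1] at h2
    rw [← Nat.eq_of_mul_eq_mul_left Nat.card_pos h2]
    exact hrel.symm
  obtain ⟨W, hWH, hHW, hQW, hcomm, hWD, hWc⟩ := exists_M hQ hQc
  set D := H ⊓ Subgroup.centralizer (Q : Set G) with hD
  set R := W ⊔ Q with hR
  have hRN : N ≤ Subgroup.normalizer (R : Set G) := by
    rw [← hQH', sup_le_iff]
    refine ⟨Cfsg.Agent.Coprime.le_normalizer_sup hQW Subgroup.le_normalizer, ?_⟩
    have hc : ∀ h ∈ H, R ≤ R.comap (MulAut.conj h).toMonoidHom := by
      intro h hh
      rw [hR, sup_le_iff]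
      refine ⟨fun w hw => Subgroup.mem_sup_left ((Subgroup.mem_normalizer_iff.1 (hHW hh) w).1 hw), fun q hq => ?_⟩
      show h * q * h⁻¹ ∈ W ⊔ Q
      rw [show h * q * h⁻¹ = ⁅h, q⁆ * q by rw [commutatorElement_def]; group]
      exact Subgroup.mul_mem_sup (hcomm h hh q hq) hq
    intro h hh
    rw [Subgroup.mem_normalizer_iff]
    refine fun m => ⟨fun hm => hc h hh hm, fun hm => ?_⟩
    have h' := hc h⁻¹ (inv_mem hh) hm
    have e : h⁻¹ * (h * m * h⁻¹) * h⁻¹⁻¹ = m := by group
    have h2 : h⁻¹ * (h * m * h⁻¹) * h⁻¹⁻¹ ∈ R := h'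
    rwa [e] at h2
  haveI hNn : (K ⊔ R).Normal := by
    rw [← Subgroup.normalizer_eq_top_iff, eq_top_iff, ← hKN, sup_le_iff]
    exact ⟨le_sup_left.trans Subgroup.le_normalizer, Cfsg.Agent.Coprime.le_normalizer_sup
      (by rw [Subgroup.normalizer_eq_top_iff.2 hKn]; exact le_top) hRN⟩
  have hDH : D ≤ H := inf_le_left
  have hcard : (Nat.card D).Coprime (Nat.card (K ⊔ R : Subgroup G)) := by
    have h1 : Nat.card (K ⊔ R : Subgroup G) ∣ Nat.card R * Nat.card K := by
      rw [sup_comm]; exact Cfsg.Agent.Core.card_sup_dvd_mul R K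
    have hWQ : W ⊓ Q = ⊥ := le_bot_iff.1 ((inf_le_inf_right Q hWH).trans_eq (by rw [inf_comm]; exact hQH))
    rw [hR, Cfsg.Agent.Coprime.card_sup_eq_mul hQW hWQ] at h1
    exact Nat.Coprime.coprime_dvd_right h1 (((hWc.symm).mul_right
      (hQc.symm.coprime_dvd_left (Subgroup.card_dvd_of_le hDH))).mul_right
      (hKc.coprime_dvd_left (Subgroup.card_dvd_of_le hDH)))
  have hcomp : Subgroup.IsComplement' (K ⊔ R) D := by
    refine Cfsg.Agent.Coprime.isComplement'_of_inf_sup (Cfsg.Agent.Coprime.inf_eq_bot_of_coprime hcard.symm) ?_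
    rw [eq_top_iff, ← hKN, sup_le_iff, ← hQH', sup_le_iff]
    refine ⟨le_sup_left.trans le_sup_left, (le_sup_right.trans le_sup_right).trans le_sup_left, ?_⟩
    conv_lhs => rw [← hWD]
    exact sup_le ((le_sup_left.trans le_sup_right).trans le_sup_left) le_sup_right
  refine ⟨?_, K ⊔ R, hNn, hcomp⟩
  rw [hcomp.index_eq_card]
  exact hcard

end Cfsg.Agent.S4151
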