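import Cfsg.Statements.S4152
import Mathlib

set_option autoImplicit false
open Cfsg

namespace Cfsg.Agent.S4152

open scoped Classical in
theorem exists_exponents {G : Type*} [Group G] [Finite G] (π : Set ℕ) :
    ∃ A B e : ℕ, e ≡ 1 [MOD A] ∧ e ≡ 0 [MOD B] ∧ (∀ x : G, x ^ (A * B) = 1) ∧ A.Coprime B ∧
      (∀ q, q.Prime → q ∣ A → q ∈ π) ∧ ∀ q, q.Prime → q ∣ B → q ∉ π := by
  set S := (Nat.card G).primeFactors
  set A := ∏ q ∈ S.filter (· ∈ π), q ^ (Nat.card G).factorization q with hA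
  set B := ∏ q ∈ S.filter (fun q => ¬ q ∈ π), q ^ (Nat.card G).factorization q with hB
  have hAp : ∀ q, q.Prime → q ∣ A → q ∈ π := fun q hq hd => by
    obtain ⟨r, hr, hqr⟩ := (Nat.prime_iff.1 hq).dvd_finsetProd_iff _ |>.1 hd
    rw [Finset.mem_filter] at hr
    have := (Nat.prime_dvd_prime_iff_eq hq (Nat.prime_of_mem_primeFactors hr.1)).1 (hq.dvd_of_dvd_pow hqr)
    exact this ▸ hr.2
  have hBp : ∀ q, q.Prime → q ∣ B → q ∉ π := fun q hq hd => by
    obtain ⟨r, hr, hqr⟩ := (Nat.prime_iff.1 hq).dvd_finsetProd_iff _ |>.1 hd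
    rw [Finset.mem_filter] at hr
    have := (Nat.prime_dvd_prime_iff_eq hq (Nat.prime_of_mem_primeFactors hr.1)).1 (hq.dvd_of_dvd_pow hqr)
    exact this ▸ hr.2
  have hcop : A.Coprime B := Nat.coprime_of_dvd fun q hq h1 h2 => hBp q hq h2 (hAp q hq h1)
  have hAB : A * B = Nat.card G := by
    rw [hA, hB, Finset.prod_filter_mul_prod_filter_not]
    conv_rhs => rw [← Nat.prod_factorization_pow_eq_self (Nat.card_pos (α := G)).ne']
    rfl
  obtain ⟨e, he1, he0⟩ := Nat.chineseRemainder hcop 1 0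
  exact ⟨A, B, e, he1, he0, fun x => by rw [hAB]; exact pow_card_eq_one', hcop, hAp, hBp⟩

/-- Being a `π`-element. -/
def IsPiElt {G : Type*} [Group G] (π : Set ℕ) (x : G) : Prop :=
  ∀ q : ℕ, q.Prime → q ∣ orderOf x → q ∈ π

theorem isPiElt_of_conj {G : Type*} [Group G] {π : Set ℕ} {x y : G} (h : IsConj x y)
    (hx : IsPiElt π x) : IsPiElt π y := by
  obtain ⟨c, hc⟩ := isConj_iff.1 h
  intro q hq hd
  refine hx q hq ?_
  have : orderOf x = orderOf y :=
    SemiconjBy.orderOf_eq c (by rw [SemiconjBy, ← hc]; group)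
  rwa [this]

open scoped Classical in
theorem fiber_le {G : Type*} [Group G] [Finite G] (N : Subgroup G) [hNn : N.Normal] (π : Set ℕ) (g : G)
    (hg : IsPiElt π (g : G ⧸ N)) :
    Nat.card {C : ConjClasses G // ∃ x : G, ConjClasses.mk x = C ∧ (x : G ⧸ N) = g ∧ IsPiElt π x} ≤
      Nat.card {C : ConjClasses N // ∀ q : ℕ, q.Prime →
        (∃ u : N, ConjClasses.mk u = C ∧ q ∣ orderOf u) → q ∈ π} := by
  obtain ⟨A, B, e, he1, he0, hAB, hcop, hAp, hBp⟩ := exists_exponents (G := G) π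
  obtain ⟨f, hf0, hf1⟩ := Nat.chineseRemainder hcop 0 1
  have hpiA : ∀ {H : Type _} [Group H] (x : H), x ^ (A * B) = 1 → IsPiElt π x → x ^ A = 1 := by
    intro H _ x hxAB hx
    rw [← orderOf_dvd_iff_pow_eq_one] at hxAB ⊢
    refine Nat.Coprime.dvd_of_dvd_mul_right ?_ hxAB
    exact Nat.coprime_of_dvd fun q hq h1 h2 => hBp q hq h2 (hx q hq h1)
  have hApi : ∀ x : G, x ^ A = 1 → IsPiElt π x := fun x hx q hq hd =>
    hAp q hq (hd.trans (orderOf_dvd_of_pow_eq_one hx))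
  have hef : e + f ≡ 1 [MOD A * B] := by
    refine (Nat.modEq_and_modEq_iff_modEq_mul hcop).1 ⟨?_, ?_⟩
    · simpa using he1.add hf0
    · simpa using he0.add hf1
  have hsplit : ∀ x : G, x ^ e * x ^ f = x := fun x => by
    rw [← pow_add]
    conv_rhs => rw [← pow_one x]
    exact pow_eq_pow_iff_modEq.2 (hef.of_dvd (orderOf_dvd_of_pow_eq_one (hAB x)))
  have hfA : ∀ {H : Type _} [Group H] (x : H), x ^ A = 1 → x ^ f = 1 ∧ x ^ e = x := fun x hx => by
    constructor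
    · rw [← pow_zero x]
      exact pow_eq_pow_iff_modEq.2 (hf0.of_dvd (orderOf_dvd_of_pow_eq_one hx))
    · conv_rhs => rw [← pow_one x]
      exact pow_eq_pow_iff_modEq.2 (he1.of_dvd (orderOf_dvd_of_pow_eq_one hx))
  have hgf : (g : G ⧸ N) ^ f = 1 ∧ (g : G ⧸ N) ^ e = g := by
    refine hfA _ (hpiA _ ?_ hg)
    rw [← QuotientGroup.mk_pow, hAB, QuotientGroup.mk_one]
  have hproj : ∀ x : G, (x ^ e) ^ A = 1 := fun x => by
    obtain ⟨c, hc⟩ := Nat.modEq_zero_iff_dvd.1 he0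
    rw [← pow_mul, show e * A = A * B * c by rw [hc]; ring, pow_mul, hAB, one_pow]
  -- step 1
  let P1 : Type _ := {q : G × N // (q.1 : G ⧸ N) = g ∧ IsPiElt π q.1 ∧ Commute q.1 (q.2 : G)}
  let P2 : Type _ := {q : N × N // IsPiElt π (q.1 : G) ∧ Commute (q.1 : G) (q.2 : G)}
  set k := Nat.card {C : ConjClasses G // ∃ x : G, ConjClasses.mk x = C ∧ (x : G ⧸ N) = g ∧ IsPiElt π x}
  set kN := Nat.card {C : ConjClasses N // ∀ q : ℕ, q.Prime →
    (∃ u : N, ConjClasses.mk u = C ∧ q ∣ orderOf u) → q ∈ π}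
  have h1 : k * Nat.card N ≤ Nat.card P1 := by
    rw [← Nat.card_prod]
    let x₀ : {C : ConjClasses G // ∃ x : G, ConjClasses.mk x = C ∧ (x : G ⧸ N) = g ∧ IsPiElt π x} → G :=
      fun C => C.2.choose
    have hx₀ : ∀ C, ConjClasses.mk (x₀ C) = C.1 ∧ (x₀ C : G ⧸ N) = g ∧ IsPiElt π (x₀ C) :=
      fun C => C.2.choose_spec
    let r : G → G → N := fun x y => if h : ∃ m : N, (m : G) * x * (m : G)⁻¹ = y then h.choose else 1
    have hr : ∀ (x y : G) (m : N), (m : G) * x * (m : G)⁻¹ = y → (r x y : G) * x * (r x y : G)⁻¹ = y := by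
      intro x y m hm
      have hex : ∃ m : N, (m : G) * x * (m : G)⁻¹ = y := ⟨m, hm⟩
      simp only [r, dif_pos hex]
      exact hex.choose_spec
    refine Nat.card_le_card_of_injective (fun Cn => ⟨((Cn.2 : G) * x₀ Cn.1 * (Cn.2 : G)⁻¹,
      Cn.2 * (r (x₀ Cn.1) ((Cn.2 : G) * x₀ Cn.1 * (Cn.2 : G)⁻¹))⁻¹), ?_, ?_, ?_⟩) ?_
    · rw [QuotientGroup.mk_mul, QuotientGroup.mk_mul, QuotientGroup.mk_inv,
        (QuotientGroup.eq_one_iff _).2 Cn.2.2, (hx₀ Cn.1).2.1, one_mul, inv_one, mul_one]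
    · exact isPiElt_of_conj (isConj_iff.2 ⟨_, rfl⟩) (hx₀ Cn.1).2.2
    · have h := hr (x₀ Cn.1) _ Cn.2 rfl
      show (Cn.2 : G) * x₀ Cn.1 * (Cn.2 : G)⁻¹ * _ = _ * ((Cn.2 : G) * x₀ Cn.1 * (Cn.2 : G)⁻¹)
      set m : G := (r (x₀ Cn.1) ((Cn.2 : G) * x₀ Cn.1 * (Cn.2 : G)⁻¹) : G)
      rw [Subgroup.coe_mul, Subgroup.coe_inv]
      calc (Cn.2 : G) * x₀ Cn.1 * (Cn.2 : G)⁻¹ * ((Cn.2 : G) * m⁻¹) = Cn.2 * x₀ Cn.1 * m⁻¹ := by group
        _ = Cn.2 * m⁻¹ * (m * x₀ Cn.1 * m⁻¹) := by group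
        _ = _ := by rw [h]
    · rintro ⟨C, n⟩ ⟨C', n'⟩ hCC
      have hx : (n : G) * x₀ C * (n : G)⁻¹ = n' * x₀ C' * (n' : G)⁻¹ :=
        congrArg (fun q : P1 => q.1.1) hCC
      have hn : n * (r (x₀ C) ((n : G) * x₀ C * (n : G)⁻¹))⁻¹ =
          n' * (r (x₀ C') ((n' : G) * x₀ C' * (n' : G)⁻¹))⁻¹ := congrArg (fun q : P1 => q.1.2) hCC
      have hC : C = C' := by
        apply Subtype.ext
        rw [← (hx₀ C).1, ← (hx₀ C').1, ConjClasses.mk_eq_mk_iff_isConj]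
        exact (isConj_iff.2 ⟨(n : G), hx⟩).trans (isConj_iff.2 ⟨(n' : G), rfl⟩).symm
      subst hC
      rw [hx] at hn
      rw [mul_right_cancel hn]
  have h2 : Nat.card P1 ≤ Nat.card P2 := by
    rcases isEmpty_or_nonempty P1 with hP | hP
    · simp
    have hu : ∀ q : P1, ((q.1.2 ^ e : N) : G) = (q.1.2 : G) ^ e := fun q => Subgroup.coe_pow _ _ _
    let y : P1 → G := fun q => q.1.1 * (q.1.2 : G) ^ f
    have hy : ∀ q : P1, (y q : G ⧸ N) = g := fun q => by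
      show ((q.1.1 * (q.1.2 : G) ^ f : G) : G ⧸ N) = g
      rw [QuotientGroup.mk_mul, (QuotientGroup.eq_one_iff _).2 (N.pow_mem q.1.2.2 f), mul_one, q.2.1]
    have hyc : ∀ q : P1, Commute ((q.1.2 : G) ^ e) (y q) := fun q =>
      ((q.2.2.2.symm.pow_left e)).mul_right ((Commute.refl _).pow_pow e f)
    -- a coset representative depending only on `u`
    let y₀ : N → G := fun u =>
      if h : ∃ z : G, (z : G ⧸ N) = g ∧ Commute (u : G) z then h.choose else g
    have hy₀ : ∀ q : P1, (y₀ (q.1.2 ^ e) : G ⧸ N) = g ∧ Commute ((q.1.2 : G) ^ e) (y₀ (q.1.2 ^ e)) := by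
      intro q
      have hex : ∃ z : G, (z : G ⧸ N) = g ∧ Commute ((q.1.2 ^ e : N) : G) z :=
        ⟨y q, hy q, by rw [hu]; exact hyc q⟩
      simp only [y₀, dif_pos hex]
      exact ⟨hex.choose_spec.1, by rw [← hu]; exact hex.choose_spec.2⟩
    refine Nat.card_le_card_of_injective (fun q => ⟨(q.1.2 ^ e, ⟨(y₀ (q.1.2 ^ e))⁻¹ * y q, ?_⟩), ?_, ?_⟩) ?_
    · exact QuotientGroup.eq.1 ((hy₀ q).1.trans (hy q).symm)
    · refine hApi _ ?_
      show ((q.1.2 ^ e : N) : G) ^ A = 1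
      rw [hu]; exact hproj _
    · show Commute ((q.1.2 ^ e : N) : G) ((y₀ (q.1.2 ^ e))⁻¹ * y q)
      rw [hu]
      exact ((hy₀ q).2.inv_right).mul_right (hyc q)
    · intro q q' hqq
      have hue : q.1.2 ^ e = q'.1.2 ^ e := congrArg (fun z : P2 => z.1.1) hqq
      have hye : (y₀ (q.1.2 ^ e))⁻¹ * y q = (y₀ (q'.1.2 ^ e))⁻¹ * y q' :=
        congrArg (fun z : P2 => (z.1.2 : G)) hqq
      rw [hue] at hye
      have hyy : y q = y q' := mul_left_cancel hye
      have hxe : ∀ z : P1, (y z) ^ e = z.1.1 ∧ (y z) ^ f = (z.1.2 : G) ^ f := fun z => by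
        have hxA := hfA z.1.1 (hpiA _ (hAB _) z.2.2.1)
        have hc : Commute z.1.1 ((z.1.2 : G) ^ f) := z.2.2.2.pow_right f
        have h0 : ((z.1.2 : G) ^ f) ^ e = 1 := by
          obtain ⟨c, hc'⟩ := Nat.modEq_zero_iff_dvd.1 he0
          obtain ⟨d, hd'⟩ := Nat.modEq_zero_iff_dvd.1 hf0
          rw [← pow_mul, show f * e = A * B * (c * d) by rw [hc', hd']; ring, pow_mul, hAB, one_pow]
        have h1' : ((z.1.2 : G) ^ f) ^ f = (z.1.2 : G) ^ f := by
          have h := hsplit ((z.1.2 : G) ^ f)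
          rwa [h0, one_mul] at h
        constructor
        · show (z.1.1 * _) ^ e = _
          rw [hc.mul_pow, hxA.2, h0, mul_one]
        · show (z.1.1 * _) ^ f = _
          rw [hc.mul_pow, hxA.1, h1', one_mul]
      refine Subtype.ext (Prod.ext ?_ (Subtype.ext ?_))
      · rw [← (hxe q).1, ← (hxe q').1, hyy]
      · rw [← hsplit q.1.2, ← hsplit q'.1.2]
        congr 1
        · rw [← hu, ← hu, hue]
        · rw [← (hxe q).2, ← (hxe q').2, hyy]
  have h3 : Nat.card P2 ≤ kN * Nat.card N := by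
    rw [← Nat.card_prod]
    let u₀ : ConjClasses N → N := Quotient.out
    have hu₀ : ∀ u : N, IsConj (u₀ (ConjClasses.mk u)) u := fun u =>
      ConjClasses.mk_eq_mk_iff_isConj.1 (Quotient.out_eq _)
    let r : N → N := fun u => (isConj_iff.1 (hu₀ u)).choose
    have hr : ∀ u, r u * u₀ (ConjClasses.mk u) * (r u)⁻¹ = u := fun u =>
      (isConj_iff.1 (hu₀ u)).choose_spec
    refine Nat.card_le_card_of_injective (fun q => (⟨ConjClasses.mk q.1.1, ?_⟩, q.1.2 * r q.1.1)) ?_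
    · rintro s hs ⟨v, hv, hsv⟩
      have hconj := ConjClasses.mk_eq_mk_iff_isConj.1 hv
      have := isPiElt_of_conj (π := π) hconj.symm (fun t ht htd => q.2.1 t ht (by rwa [Subgroup.orderOf_coe]))
      exact this s hs hsv
    · rintro ⟨⟨u, n⟩, hu, hc⟩ ⟨⟨u', n'⟩, hu', hc'⟩ hqq
      have hC : ConjClasses.mk u = ConjClasses.mk u' := congrArg (fun z => z.1.1) hqq
      have hn : n * r u = n' * r u' := congrArg (fun z => z.2) hqq
      have key : ∀ (v m : N), Commute (v : G) (m : G) →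
          (m * r v) * u₀ (ConjClasses.mk v) * (m * r v)⁻¹ = v := fun v m hvm => by
        calc (m * r v) * u₀ (ConjClasses.mk v) * (m * r v)⁻¹
            = m * (r v * u₀ (ConjClasses.mk v) * (r v)⁻¹) * m⁻¹ := by group
          _ = m * v * m⁻¹ := by rw [hr]
          _ = v := by
            rw [mul_inv_eq_iff_eq_mul]
            exact Subtype.ext hvm.symm.eq
      have huu : u = u' := by rw [← key u n hc, ← key u' n' hc', hC, hn]
      subst huu
      exact Subtype.ext (Prod.ext rfl (mul_right_cancel hn))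
  exact Nat.le_of_mul_le_mul_right (h1.trans (h2.trans h3)) Nat.card_pos


/-- Let G be a finite group, N a normal subgroup and π a set of primes. Then the number of conjugacy classes of π-elements of G (elements whose order is divisible only by primes in π) is at most the number of conjugacy classes of π-elements of N (under conjugation by N) times the number of conjugacy classes of π-elements of G/N. -/
theorem result {G : Type*} [Group G] [Finite G] (N : Subgroup G) [N.Normal] (π : Set ℕ) :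
    Nat.card {C : ConjClasses G // ∀ q : ℕ, q.Prime → (∃ g : G, ConjClasses.mk g = C ∧ q ∣ orderOf g) → q ∈ π} ≤ Nat.card {C : ConjClasses N // ∀ q : ℕ, q.Prime → (∃ g : N, ConjClasses.mk g = C ∧ q ∣ orderOf g) → q ∈ π} * Nat.card {C : ConjClasses (G ⧸ N) // ∀ q : ℕ, q.Prime → (∃ g : (G ⧸ N), ConjClasses.mk g = C ∧ q ∣ orderOf g) → q ∈ π} := by
  classical
  have hG : ∀ C : {C : ConjClasses G // ∀ q : ℕ, q.Prime → (∃ g : G, ConjClasses.mk g = C ∧ q ∣ orderOf g) → q ∈ π},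
      IsPiElt π (Quotient.out C.1) := fun C q hq hd => C.2 q hq ⟨_, Quotient.out_eq _, hd⟩
  let KQ := {C : ConjClasses (G ⧸ N) // ∀ q : ℕ, q.Prime → (∃ g : (G ⧸ N), ConjClasses.mk g = C ∧ q ∣ orderOf g) → q ∈ π}
  let rep : KQ → G := fun D => (Quotient.out D.1 : G ⧸ N).out
  have hrep : ∀ D : KQ, (rep D : G ⧸ N) = Quotient.out D.1 := fun D => QuotientGroup.out_eq' _
  have hQ : ∀ D : KQ, IsPiElt π (rep D : G ⧸ N) := fun D q hq hd =>
    D.2 q hq ⟨_, by rw [hrep]; exact Quotient.out_eq _, hd⟩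
  let proj : {C : ConjClasses G // ∀ q : ℕ, q.Prime → (∃ g : G, ConjClasses.mk g = C ∧ q ∣ orderOf g) → q ∈ π} → KQ :=
    fun C => ⟨ConjClasses.mk ((Quotient.out C.1 : G) : G ⧸ N), by
      rintro q hq ⟨v, hv, hqv⟩
      have h' : IsPiElt π ((Quotient.out C.1 : G) : G ⧸ N) := fun t ht htd =>
        hG C t ht (htd.trans (orderOf_map_dvd (QuotientGroup.mk' N) _))
      exact isPiElt_of_conj (ConjClasses.mk_eq_mk_iff_isConj.1 hv).symm h' q hq hqv⟩
  refine le_trans (Nat.card_le_card_of_injective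
    (β := Σ D : KQ, {C : ConjClasses G // ∃ x : G, ConjClasses.mk x = C ∧ (x : G ⧸ N) = (rep D : G ⧸ N) ∧ IsPiElt π x})
    (fun C => ⟨proj C, C.1, ?_⟩) ?_) ?_
  · have h1 : IsConj ((Quotient.out C.1 : G) : G ⧸ N) (rep (proj C) : G ⧸ N) := by
      rw [hrep]
      exact (ConjClasses.mk_eq_mk_iff_isConj.1 (Quotient.out_eq (proj C).1)).symm
    obtain ⟨c, hc⟩ := isConj_iff.1 h1
    obtain ⟨c, rfl⟩ := QuotientGroup.mk_surjective c
    refine ⟨c * Quotient.out C.1 * c⁻¹, ?_, ?_, isPiElt_of_conj (isConj_iff.2 ⟨c, rfl⟩) (hG C)⟩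
    · exact (ConjClasses.mk_eq_mk_iff_isConj.2 (isConj_iff.2 ⟨c, rfl⟩).symm).trans (Quotient.out_eq C.1)
    · rw [QuotientGroup.mk_mul, QuotientGroup.mk_mul, QuotientGroup.mk_inv]
      exact hc
  · intro C C' h
    exact Subtype.ext (congrArg (fun z : Σ D : KQ, {C : ConjClasses G // ∃ x : G, ConjClasses.mk x = C ∧ (x : G ⧸ N) = (rep D : G ⧸ N) ∧ IsPiElt π x} => z.2.1) h)
  · have : Finite (ConjClasses (G ⧸ N)) := Quotient.finite _
    have : Fintype KQ := Fintype.ofFinite _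
    rw [Nat.card_sigma]
    refine le_trans (Finset.sum_le_card_nsmul _ _ _ fun D _ => fiber_le N π (rep D) (hQ D)) ?_
    rw [Finset.card_univ, smul_eq_mul, ← Nat.card_eq_fintype_card, mul_comm]

end Cfsg.Agent.S4152
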