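import Cfsg.Statements.S4153
import Mathlib

set_option autoImplicit false
open Cfsg
open scoped Pointwise

namespace Cfsg.Agent.S4153

/-- Let G be a finite group, p a prime, N a normal subgroup, P a Sylow p-subgroup of G and P̄ a Sylow p-subgroup of G/N. Count the elements of p-power order, the identity included. Then (number of such elements of G/N)/#P̄ ≤ (number of such elements of G)/#P, stated as a cross-multiplied inequality, with equality when N is central. -/
theorem result {G : Type*} [Group G] [Finite G] (p : ℕ) [Fact p.Prime] (N : Subgroup G) [N.Normal]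
    (P : Sylow p G) (Pbar : Sylow p (G ⧸ N)) :
    Nat.card {g : (G ⧸ N) // ∃ k : ℕ, orderOf g = p ^ k} * Nat.card (P : Subgroup G) ≤ Nat.card {g : G // ∃ k : ℕ, orderOf g = p ^ k} * Nat.card (Pbar : Subgroup (G ⧸ N)) ∧
    (N ≤ Subgroup.center G → Nat.card {g : (G ⧸ N) // ∃ k : ℕ, orderOf g = p ^ k} * Nat.card (P : Subgroup G) = Nat.card {g : G // ∃ k : ℕ, orderOf g = p ^ k} * Nat.card (Pbar : Subgroup (G ⧸ N))) := by
  have hp : p.Prime := Fact.out
  classical
  haveI : Fintype (G ⧸ N) := Fintype.ofFinite _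
  set f := QuotientGroup.mk' N with hf
  set d := Nat.card (P : Subgroup G) / Nat.card (Pbar : Subgroup (G ⧸ N)) with hd
  -- intersections of Sylow subgroups with N
  have hsyl : ∀ Q : Sylow p G, Nat.card (P : Subgroup G) =
      Nat.card (Pbar : Subgroup (G ⧸ N)) * Nat.card (N.subgroupOf (Q : Subgroup G)) := by
    intro Q
    have hc : Nat.card (Q.mapSurjective (QuotientGroup.mk'_surjective N) : Subgroup (G ⧸ N)) =
        Nat.card (Pbar : Subgroup (G ⧸ N)) := by
      rw [Sylow.card_eq_multiplicity, Sylow.card_eq_multiplicity]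
    rw [P.card_eq_multiplicity, ← Q.card_eq_multiplicity,
      Subgroup.card_eq_card_quotient_mul_card_subgroup (N.subgroupOf (Q : Subgroup G)), ← hc]
    congr 1
    rw [Sylow.coe_mapSurjective]
    let g : (Q : Subgroup G) →* (Q : Subgroup G).map f := f.subgroupMap _
    have hg : Function.Surjective g := f.subgroupMap_surjective _
    have hker : g.ker = N.subgroupOf (Q : Subgroup G) := by
      ext x
      rw [MonoidHom.mem_ker, Subgroup.mem_subgroupOf, Subtype.ext_iff]
      exact QuotientGroup.eq_one_iff _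
    rw [← hker]
    exact Nat.card_congr (QuotientGroup.quotientKerEquivOfSurjective g hg).toEquiv
  have hdQ : ∀ Q : Sylow p G, Nat.card (N.subgroupOf (Q : Subgroup G)) = d := fun Q => by
    rw [hd, hsyl Q, Nat.mul_div_cancel_left _ Nat.card_pos]
  -- lift to a Sylow subgroup
  have hlift : ∀ x : G ⧸ N, (∃ k, orderOf x = p ^ k) → ∃ (Q : Sylow p G) (g : G), g ∈ (Q : Subgroup G) ∧ f g = x := by
    intro x ⟨k, hk⟩
    obtain ⟨R, hR⟩ := (IsPGroup.of_card (n := k) (G := Subgroup.zpowers x) (by rw [Nat.card_zpowers, hk])).exists_le_sylow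
    obtain ⟨c, hc⟩ := MulAction.exists_smul_eq (G ⧸ N) (P.mapSurjective (QuotientGroup.mk'_surjective N)) R
    have hx : x ∈ (R : Subgroup (G ⧸ N)) := hR (Subgroup.mem_zpowers x)
    rw [← hc, Sylow.smul_def, Sylow.pointwise_smul_def] at hx
    obtain ⟨y, hy, rfl⟩ := hx
    rw [Sylow.coe_mapSurjective] at hy
    obtain ⟨y, hy', rfl⟩ := hy
    obtain ⟨c, rfl⟩ := QuotientGroup.mk'_surjective N c
    refine ⟨c • P, c * y * c⁻¹, ?_, ?_⟩
    · rw [Sylow.smul_def, Sylow.pointwise_smul_def]
      exact ⟨y, hy', rfl⟩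
    · simp [hf]
  set Eb := {x : G ⧸ N // ∃ k : ℕ, orderOf x = p ^ k}
  set E := {g : G // ∃ k : ℕ, orderOf g = p ^ k}
  let π : E → Eb := fun g => ⟨f g.1, by
    obtain ⟨k, hk⟩ := g.2
    obtain ⟨j, -, hj⟩ := (Nat.dvd_prime_pow hp).1 (hk ▸ orderOf_map_dvd f g.1)
    exact ⟨j, hj⟩⟩
  have hlow : ∀ x : Eb, d ≤ Nat.card {g : E // π g = x} := by
    intro x
    obtain ⟨Q, g, hg, hgx⟩ := hlift x.1 x.2
    rw [← hdQ Q]
    refine Nat.card_le_card_of_injective (fun n => ⟨⟨g * ((n.1 : (Q : Subgroup G)) : G), ?_⟩, ?_⟩) ?_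
    · obtain ⟨k, hk⟩ := IsPGroup.iff_orderOf.1 Q.2 ⟨_, mul_mem hg n.1.2⟩
      exact ⟨k, by rw [← Subgroup.orderOf_coe] at hk; exact hk⟩
    · refine Subtype.ext ?_
      show f (g * _) = x.1
      rw [map_mul, show f ((n.1 : (Q : Subgroup G)) : G) = 1 from (QuotientGroup.eq_one_iff _).2 n.2, mul_one, hgx]
    · intro a b hab
      have := congrArg (fun s : {g : E // π g = x} => (s.1.1 : G)) hab
      exact Subtype.ext (Subtype.ext (mul_left_cancel this))
  haveI : Fintype Eb := Fintype.ofFinite _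
  have hsum : Nat.card E = ∑ x : Eb, Nat.card {g : E // π g = x} := by
    rw [← Nat.card_sigma]; exact Nat.card_congr (Equiv.sigmaFiberEquiv π).symm
  have hPd : Nat.card (P : Subgroup G) = Nat.card (Pbar : Subgroup (G ⧸ N)) * d := by
    rw [hsyl P, hdQ P]
  rw [hsum, hPd]
  refine ⟨?_, fun hN => ?_⟩
  · rw [Nat.card_eq_fintype_card (α := Eb)]
    calc Fintype.card Eb * (Nat.card (Pbar : Subgroup (G ⧸ N)) * d)
        = (∑ _x : Eb, d) * Nat.card (Pbar : Subgroup (G ⧸ N)) := by
          rw [Finset.sum_const, Finset.card_univ, smul_eq_mul]; ring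
      _ ≤ _ := Nat.mul_le_mul_right _ (Finset.sum_le_sum fun x _ => hlow x)
  · have hup : ∀ x : Eb, Nat.card {g : E // π g = x} = d := by
      intro x
      refine le_antisymm ?_ (hlow x)
      obtain ⟨Q, g, hg, hgx⟩ := hlift x.1 x.2
      rw [← hdQ Q]
      have hmem : ∀ s : {h : E // π h = x}, g⁻¹ * s.1.1 ∈ (Q : Subgroup G) ∧ g⁻¹ * s.1.1 ∈ N := by
        intro s
        set n := g⁻¹ * s.1.1
        have hn : n ∈ N := by
          have h1 : f s.1.1 = x.1 := congrArg Subtype.val s.2
          rw [← QuotientGroup.eq_one_iff (N := N)]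
          show f (g⁻¹ * s.1.1) = 1
          rw [map_mul, map_inv, hgx, h1, inv_mul_cancel]
        refine ⟨?_, hn⟩
        obtain ⟨k, hk⟩ := s.1.2
        obtain ⟨j, hj⟩ := IsPGroup.iff_orderOf.1 Q.2 ⟨g, hg⟩
        rw [← Subgroup.orderOf_coe] at hj
        have hcg : Commute g s.1.1 := by
          have hc : Commute g n := (Subgroup.mem_center_iff.1 (hN hn) g)
          have : s.1.1 = g * n := by simp [n]
          rw [this]
          exact (Commute.refl g).mul_right hc
        have hnp : n ^ p ^ (j + k) = 1 := by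
          show (g⁻¹ * s.1.1) ^ _ = 1
          rw [hcg.inv_left.mul_pow, inv_pow]
          have e1 : g ^ p ^ (j + k) = 1 := orderOf_dvd_iff_pow_eq_one.1 (hj ▸ pow_dvd_pow p (Nat.le_add_right _ _))
          have e2 : (s.1.1) ^ p ^ (j + k) = 1 := orderOf_dvd_iff_pow_eq_one.1 (hk ▸ pow_dvd_pow p (Nat.le_add_left _ _))
          rw [e1, e2, inv_one, one_mul]
        obtain ⟨i, -, hi⟩ := (Nat.dvd_prime_pow hp).1 (orderOf_dvd_of_pow_eq_one hnp)
        have hnQ : Subgroup.zpowers n ≤ Subgroup.normalizer ((Q : Subgroup G) : Set G) := by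
          rw [Subgroup.zpowers_le, Subgroup.mem_normalizer_iff]
          intro y
          rw [← Subgroup.mem_center_iff.1 (hN hn) y, mul_inv_cancel_right]
        have hsup := IsPGroup.to_sup_of_normal_left' Q.2
          (IsPGroup.of_card (n := i) (G := Subgroup.zpowers n) (by rw [Nat.card_zpowers, hi])) hnQ
        exact (Q.3 hsup le_sup_left).le (Subgroup.mem_sup_right (Subgroup.mem_zpowers n))
      refine Nat.card_le_card_of_injective (fun s => ⟨⟨_, (hmem s).1⟩, (hmem s).2⟩) ?_
      intro a b hab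
      have h1 : g⁻¹ * a.1.1 = g⁻¹ * b.1.1 := congrArg (fun z : N.subgroupOf (Q : Subgroup G) => ((z.1 : (Q : Subgroup G)) : G)) hab
      exact Subtype.ext (Subtype.ext (mul_left_cancel h1))
    rw [Nat.card_eq_fintype_card (α := Eb), Finset.sum_congr rfl fun x _ => hup x, Finset.sum_const, Finset.card_univ, smul_eq_mul]
    ring

end Cfsg.Agent.S4153
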