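import Cfsg.Statements.S4154
import Mathlib

set_option autoImplicit false
open Cfsg

namespace Cfsg.Agent.S4154

/-- Let G be a finite group and α an automorphism of G such that every element of G is the product of an element fixed by α and an element of the form g⁻¹α(g). If N is a normal α-invariant subgroup, then the automorphism ᾱ induced on G/N has the same property, and every coset fixed by ᾱ contains an element fixed by α (so the fixed points of ᾱ are the images of the fixed points of α). -/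
theorem result {G : Type*} [Group G] [Finite G] (α : MulAut G)
    (hccp : ∀ x : G, ∃ c g : G, α c = c ∧ x = c * (g⁻¹ * α g))
    (N : Subgroup G) [N.Normal] (hN : ∀ n ∈ N, α n ∈ N) :
    (∀ x : G, ∃ c g : G, c⁻¹ * α c ∈ N ∧ x⁻¹ * (c * (g⁻¹ * α g)) ∈ N) ∧
    (∀ x : G, x⁻¹ * α x ∈ N → ∃ c : G, α c = c ∧ c⁻¹ * x ∈ N) := by
  refine ⟨fun x => ?_, fun x hx => ?_⟩
  · obtain ⟨c, g, hc, hxe⟩ := hccp x
    exact ⟨c, g, by rw [hc, inv_mul_cancel]; exact N.one_mem,
      by rw [← hxe, inv_mul_cancel]; exact N.one_mem⟩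
  set m := QuotientGroup.mk' N with hm
  set F := MonoidHom.eqLocus (m.comp α.toMonoidHom) m with hF
  set C := MonoidHom.eqLocus α.toMonoidHom (MonoidHom.id G) with hC
  have hmem : ∀ f : G, f ∈ F ↔ m (α f) = m f := fun f => Iff.rfl
  have hCF : C.map m ≤ F.map m := Subgroup.map_mono fun c hc => by
    rw [hmem]; exact congrArg m hc
  have hNF : m.ker ≤ F := by
    intro n hn
    rw [hm, QuotientGroup.ker_mk'] at hn
    rw [hmem, hm, QuotientGroup.mk'_apply, QuotientGroup.mk'_apply,
      (QuotientGroup.eq_one_iff _).2 hn, (QuotientGroup.eq_one_iff _).2 (hN n hn)]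
  let φ : G ⧸ F → G ⧸ N := Quotient.lift (fun g : G => m g * (m (α g))⁻¹) (fun a b hab => by
    replace hab := (hmem _).1 (QuotientGroup.leftRel_apply.1 hab)
    simp only [map_mul, map_inv] at hab
    calc m a * (m (α a))⁻¹ = m b * ((m a)⁻¹ * m b)⁻¹ * (m (α a))⁻¹ := by group
      _ = m b * (m (α b))⁻¹ := by rw [← hab]; group)
  let f : (C.map m) × (G ⧸ F) → G ⧸ N := fun p => (p.1 : G ⧸ N) * φ p.2
  have hf : Function.Surjective f := by
    intro y
    obtain ⟨x, rfl⟩ := QuotientGroup.mk'_surjective N y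
    obtain ⟨c, g, hc, rfl⟩ := hccp x
    refine ⟨(⟨m c, Subgroup.mem_map_of_mem m hc⟩, ((g⁻¹ : G) : G ⧸ F)), ?_⟩
    show m c * (m g⁻¹ * (m (α g⁻¹))⁻¹) = m (c * (g⁻¹ * α g))
    simp
  have hle := Nat.card_le_card_of_surjective f hf
  rw [Nat.card_prod, ← Subgroup.card_mul_index (F.map m), Subgroup.index_map_eq F
    (QuotientGroup.mk'_surjective N) hNF, ← Subgroup.index_eq_card] at hle
  have heq : C.map m = F.map m :=
    Subgroup.eq_of_le_of_card_ge hCF (Nat.le_of_mul_le_mul_right hle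
      (Nat.pos_of_ne_zero Subgroup.index_ne_zero_of_finite))
  have hxF : x ∈ F := (QuotientGroup.eq.2 hx).symm
  obtain ⟨c, hc, hcx⟩ : m x ∈ C.map m := heq ▸ Subgroup.mem_map_of_mem m hxF
  exact ⟨c, hc, QuotientGroup.eq.1 hcx⟩

end Cfsg.Agent.S4154
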