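import Cfsg.Statements.S4155
import Cfsg.Agent.S4107
import Cfsg.Agent.OddLocal.CNFrobenius
import Cfsg.Agent.Core.KegelWielandt
-- import your own Cfsg.Agent.* helpers here

set_option autoImplicit false
open Cfsg
open Cfsg.Agent
open scoped commutatorElement Pointwise

namespace Cfsg.Agent.S4155

/-- Let G be a finite group and N a proper non-trivial normal nilpotent subgroup whose order is not a prime power, such that for every x outside N all elements of the coset xN have the same order as x. Then N is the Fitting subgroup of G, and for every prime q every Sylow q-subgroup of G/N is cyclic or generalized quaternion. -/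
theorem result {G : Type*} [Group G] [Finite G] (N : Subgroup G) [N.Normal] (hN1 : N ≠ ⊥) (hN2 : N ≠ ⊤)
    (heq : ∀ x : G, x ∉ N → ∀ n ∈ N, orderOf (x * n) = orderOf x)
    (hnil : Group.IsNilpotent N) (hnpp : ¬ IsPrimePow (Nat.card N)) :
    N = Cfsg.fittingSubgroup G ∧
    ∀ (q : ℕ) [Fact q.Prime] (Q : Sylow q (G ⧸ N)), IsCyclic (Q : Subgroup (G ⧸ N)) ∨ ∃ n : ℕ, Nonempty ((Q : Subgroup (G ⧸ N)) ≃* QuaternionGroup (2 ^ n)) := by
  have hF : N = Cfsg.fittingSubgroup G := by
    rcases S4107.main N hN1 heq with h | ⟨-, -, h⟩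
    · exact le_antisymm (Core.le_fittingSubgroup hnil) h
    · exact absurd h hnpp
  refine ⟨hF, fun q hqf Q => ?_⟩
  have hq : q.Prime := hqf.out
  -- another prime dividing `N`
  obtain ⟨r, hr, hrd, hrq⟩ : ∃ r, r.Prime ∧ r ∣ Nat.card N ∧ r ≠ q := by
    by_contra hcon
    push Not at hcon
    refine hnpp ((isPrimePow_nat_iff _).mpr ⟨q, _, hq, ?_, (Nat.eq_prime_pow_of_unique_prime_dvd (Nat.card_pos (α := N)).ne'
      (fun {d} hd hdd => hcon d hd hdd)).symm⟩)
    refine Nat.pos_of_ne_zero fun e => hN1 (Subgroup.eq_bot_of_card_eq N ?_)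
    rw [Nat.eq_prime_pow_of_unique_prime_dvd (Nat.card_pos (α := N)).ne' (fun {d} hd hdd => hcon d hd hdd), e, pow_zero]
  have : Fact r.Prime := ⟨hr⟩
  have := hnil
  let P : Sylow r N := default
  have hPn : (P : Subgroup N).Normal := inferInstance
  have hPc : (P : Subgroup N).Characteristic := P.characteristic_of_normal hPn
  set V := ((Subgroup.center (P : Subgroup N)).map (P : Subgroup N).subtype).map N.subtype with hV
  have hVn : V.Normal := inferInstance
  have hP1 : (P : Subgroup N) ≠ ⊥ := P.ne_bot_of_dvd_card hrd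
  have : Nontrivial (P : Subgroup N) := (Subgroup.nontrivial_iff_ne_bot _).mpr hP1
  have hVN : V ≤ N := Subgroup.map_subtype_le _
  have hV1 : V ≠ ⊥ := by
    rw [hV, Ne, Subgroup.map_eq_bot_iff_of_injective _ N.subtype_injective,
      Subgroup.map_eq_bot_iff_of_injective _ (Subgroup.subtype_injective _)]
    exact (Subgroup.nontrivial_iff_ne_bot _).mp P.2.center_nontrivial
  have hVr : IsPGroup r V := ((P.2.to_subgroup _).map _).map _
  have hVc : IsMulCommutative V := inferInstance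
  -- work modulo the `q`-core of `N`
  set M := Cfsg.pCore q G with hMdef
  have hMn : M.Normal := Core.pCore_normal
  have hMN : M ≤ N := hF ▸ Core.pCore_le_fittingSubgroup q
  have hdisj : ∀ x : G, x ∈ M → x ∈ V → x = 1 := fun x hM hV' => by
    obtain ⟨i, hi⟩ := IsPGroup.iff_orderOf.mp (Core.pCore_isPGroup (p := q) (G := G)) ⟨x, hM⟩
    obtain ⟨l, hl⟩ := IsPGroup.iff_orderOf.mp hVr ⟨x, hV'⟩
    rw [Subgroup.orderOf_mk] at hi hl
    refine orderOf_eq_one_iff.mp (Nat.eq_one_of_dvd_coprimes ?_ hi.dvd hl.dvd)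
    exact ((Nat.coprime_primes hq hr).mpr (Ne.symm hrq)).pow i l
  let f := QuotientGroup.mk' M
  let g := QuotientGroup.mk' N
  obtain ⟨Q₀⟩ := (inferInstance : Nonempty (Sylow q G))
  set E := (Q₀ : Subgroup G).map f
  set W := V.map f
  have hWn : W.Normal := hVn.map f (QuotientGroup.mk'_surjective M)
  have hEq : IsPGroup q E := Q₀.2.map f
  have hNker : ∀ x ∈ (Q₀ : Subgroup G), x ∈ N → x ∈ M := fun x hx hxN => by
    rw [hMdef]
    refine Core.mem_pCore_of_mem_fitting (hF ▸ hxN) ?_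
    obtain ⟨i, hi⟩ := IsPGroup.iff_orderOf.mp Q₀.2 ⟨x, hx⟩
    exact ⟨i, by rwa [Subgroup.orderOf_mk] at hi⟩
  have hfpf : OddLocal.CN.FPF E W := by
    refine ⟨inferInstance, fun h => hV1 ?_, (Subgroup.normalizer_eq_top_iff.mpr hWn).symm ▸ le_top, ?_, ?_⟩
    · refine (Subgroup.eq_bot_iff_forall V).mpr fun v hv => hdisj v ?_ hv
      rw [← QuotientGroup.eq_one_iff]
      exact Subgroup.mem_bot.mp (h ▸ Subgroup.mem_map_of_mem f hv)
    · obtain ⟨i, hi⟩ := hEq.exists_card_eq
      obtain ⟨l, hl⟩ := (hVr.map f).exists_card_eq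
      rw [hi, hl]
      exact ((Nat.coprime_primes hq hr).mpr (Ne.symm hrq)).pow i l
    · rintro _ ⟨x, hx, rfl⟩ hne
      rw [eq_bot_iff]
      rintro _ ⟨⟨v, hv, rfl⟩, hc⟩
      rw [Subgroup.mem_bot]
      have hxN : x ∉ N := fun h => hne ((QuotientGroup.eq_one_iff x).mpr (hNker x hx h))
      have hcomm : Commute x v := by
        refine commutatorElement_eq_one_iff_commute.mp (hdisj _ ?_ ?_)
        · rw [← QuotientGroup.eq_one_iff, ← QuotientGroup.mk'_apply, map_commutatorElement]
          exact commutatorElement_eq_one_iff_mul_comm.mpr (Subgroup.mem_centralizer_singleton_iff.mp hc).symm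
        · rw [commutatorElement_def]
          exact V.mul_mem (hVn.conj_mem v hv x) (V.inv_mem hv)
      obtain ⟨i, hi⟩ := IsPGroup.iff_orderOf.mp Q₀.2 ⟨x, hx⟩
      obtain ⟨l, hl⟩ := IsPGroup.iff_orderOf.mp hVr ⟨v, hv⟩
      rw [Subgroup.orderOf_mk] at hi hl
      have h1 := heq x hxN v (hVN hv)
      rw [hcomm.orderOf_mul_eq_mul_orderOf_of_coprime (by
        rw [hi, hl]; exact ((Nat.coprime_primes hq hr).mpr (Ne.symm hrq)).pow i l)] at h1
      have h2 : orderOf v = 1 := Nat.eq_of_mul_eq_mul_left (orderOf_pos x) (by rw [h1, mul_one])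
      rw [orderOf_eq_one_iff.mp h2, map_one]
  -- transfer to the quotient by `N`
  let π : G ⧸ M →* G ⧸ N := QuotientGroup.map M N (MonoidHom.id G) hMN
  let ψ : E →* G ⧸ N := π.comp E.subtype
  have hψ : Function.Injective ψ := (injective_iff_map_eq_one ψ).mpr (by
    rintro ⟨_, x, hx, rfl⟩ he
    have hxN : x ∈ N := (QuotientGroup.eq_one_iff x).mp he
    exact Subtype.ext ((QuotientGroup.eq_one_iff x).mpr (hNker x hx hxN)))
  let Q₁ : Sylow q (G ⧸ N) := Q₀.mapSurjective (QuotientGroup.mk'_surjective N)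
  have hrange : ψ.range = (Q₁ : Subgroup (G ⧸ N)) := by
    rw [Sylow.coe_mapSurjective, MonoidHom.range_eq_map, ← Subgroup.map_map, ← MonoidHom.range_eq_map, Subgroup.range_subtype,
      Subgroup.map_map]
    rfl
  let e : (Q : Subgroup (G ⧸ N)) ≃* E :=
    ((Q.equiv Q₁).trans (MulEquiv.subgroupCongr hrange.symm)).trans (MonoidHom.ofInjective hψ).symm
  let S : Sylow q E := default
  have hStop : (S : Subgroup E) = ⊤ := S.is_maximal' (hEq.to_subgroup ⊤) le_top |>.symm
  let e' : (Q : Subgroup (G ⧸ N)) ≃* (S : Subgroup E) :=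
    e.trans (Subgroup.topEquiv.symm.trans (MulEquiv.subgroupCongr hStop.symm))
  rcases hfpf.sylow_cyclic_or_quaternion S with hc | ⟨-, n, -, ⟨en⟩⟩
  · exact Or.inl (isCyclic_of_surjective _ e'.symm.surjective)
  · exact Or.inr ⟨n, ⟨e'.trans en⟩⟩

end Cfsg.Agent.S4155
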