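import Cfsg.Statements.S4156
-- import your own Cfsg.Agent.* helpers here

set_option autoImplicit false
open Cfsg

namespace Cfsg.Agent.S4156

/-- Let n ≥ 5 and F a finite field. Then the projective special linear group PSL_n(F) contains a subgroup isomorphic to the alternating group of degree n + 1. -/
theorem result (n : ℕ) (hn : 5 ≤ n) (F : Type*) [Field F] [Finite F] :
    ∃ f : alternatingGroup (Fin (n + 1)) →* Matrix.ProjectiveSpecialLinearGroup (Fin n) F, Function.Injective f := by
  classical
  let W : Submodule F (Fin (n + 1) → F) := LinearMap.ker (∑ i, LinearMap.proj (R := F) i)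
  have hW : ∀ v : Fin (n + 1) → F, v ∈ W ↔ ∑ i, v i = 0 := fun v => by simp [W]
  have hdim : Module.finrank F W = n := by
    have h := LinearMap.finrank_range_add_finrank_ker (∑ i : Fin (n + 1), LinearMap.proj (R := F) (φ := fun _ => F) i)
    rw [LinearMap.range_eq_top.2 (fun c => ⟨Pi.single 0 c, by simp⟩), finrank_top, Module.finrank_self,
      Module.finrank_fin_fun] at h
    show Module.finrank F (LinearMap.ker (∑ i : Fin (n + 1), LinearMap.proj (R := F) (φ := fun _ => F) i)) = n
    omega
  let b := Module.finBasisOfFinrankEq F W hdim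
  let act : Equiv.Perm (Fin (n + 1)) →* Module.End F W :=
    { toFun := fun σ => (LinearMap.funLeft F F ⇑σ⁻¹).restrict (p := W) (q := W) fun v hv => by
        rw [hW] at hv ⊢
        rw [← hv]
        exact Equiv.sum_comp σ⁻¹ v
      map_one' := by ext v i; rfl
      map_mul' := fun σ τ => by ext v i; rfl }
  let toM : alternatingGroup (Fin (n + 1)) →* Matrix (Fin n) (Fin n) F :=
    ((LinearMap.toMatrixAlgEquiv b).toMonoidHom.comp act).comp (alternatingGroup (Fin (n + 1))).subtype
  have hsimp : IsSimpleGroup (alternatingGroup (Fin (n + 1))) := alternatingGroup.isSimpleGroup (by simp; omega)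
  have hperf : commutator (alternatingGroup (Fin (n + 1))) = ⊤ :=
    commutator_alternatingGroup_eq_top (by simp; omega)
  have hcomm : ¬ ∀ g h : alternatingGroup (Fin (n + 1)), g * h = h * g := fun h => by
    have hle : commutator (alternatingGroup (Fin (n + 1))) ≤ ⊥ := by
      rw [commutator_def, Subgroup.commutator_le]
      exact fun x _ y _ => Subgroup.mem_bot.2 (commutatorElement_eq_one_iff_mul_comm.2 (h x y))
    rw [hperf] at hle
    obtain ⟨x, hx⟩ := exists_ne (1 : alternatingGroup (Fin (n + 1)))
    exact hx (Subgroup.mem_bot.1 (hle (Subgroup.mem_top x)))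
  have hdet : ∀ g, (toM g).det = 1 := by
    let δ : alternatingGroup (Fin (n + 1)) →* Fˣ := (Matrix.detMonoidHom.comp toM).toHomUnits
    have hle : commutator (alternatingGroup (Fin (n + 1))) ≤ δ.ker := Abelianization.commutator_subset_ker δ
    rw [hperf] at hle
    exact fun g => congrArg Units.val (hle (Subgroup.mem_top g))
  let toSL : alternatingGroup (Fin (n + 1)) →* Matrix.SpecialLinearGroup (Fin n) F :=
    { toFun := fun g => ⟨toM g, hdet g⟩
      map_one' := Subtype.ext (map_one toM)
      map_mul' := fun g h => Subtype.ext (map_mul toM g h) }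
  let f : alternatingGroup (Fin (n + 1)) →* Matrix.ProjectiveSpecialLinearGroup (Fin n) F :=
    (QuotientGroup.mk' _).comp toSL
  refine ⟨f, (MonoidHom.ker_eq_bot_iff f).1
    ((IsSimpleGroup.eq_bot_or_eq_top_of_normal f.ker inferInstance).resolve_right fun htop => ?_)⟩
  have hscal : ∀ g, ∃ c : F, toM g = c • (1 : Matrix (Fin n) (Fin n) F) := fun g => by
    have : toSL g ∈ Subgroup.center (Matrix.SpecialLinearGroup (Fin n) F) :=
      (QuotientGroup.eq_one_iff _).1 (htop.symm ▸ Subgroup.mem_top g : g ∈ f.ker)
    obtain ⟨r, -, hr⟩ := Matrix.SpecialLinearGroup.mem_center_iff.1 this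
    exact ⟨r, by rw [show toM g = Matrix.scalar (Fin n) r from hr.symm, Matrix.scalar_apply, Matrix.smul_one_eq_diagonal]⟩
  refine hcomm fun g h => ?_
  obtain ⟨c, hc⟩ := hscal g
  obtain ⟨c', hc'⟩ := hscal h
  have heq : toM (g * h) = toM (h * g) := by rw [map_mul, map_mul, hc, hc', smul_mul_smul_comm, smul_mul_smul_comm, mul_comm c]
  have hact : act (g * h).1 = act (h * g).1 := (LinearMap.toMatrixAlgEquiv b).injective heq
  refine Subtype.ext (inv_injective (Equiv.ext fun i => ?_))
  by_contra hne
  have h3 : ∃ j, j ≠ (g * h).1⁻¹ i ∧ j ≠ (h * g).1⁻¹ i := by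
    by_contra hh
    push Not at hh
    have hsub : (Finset.univ : Finset (Fin (n + 1))) ⊆ {(g * h).1⁻¹ i, (h * g).1⁻¹ i} := fun j _ => by
      simp only [Finset.mem_insert, Finset.mem_singleton]
      exact or_iff_not_imp_left.2 (hh j)
    have := (Finset.card_le_card hsub).trans Finset.card_le_two
    rw [Finset.card_univ, Fintype.card_fin] at this
    omega
  obtain ⟨j, hj1, hj2⟩ := h3
  let v : W := ⟨Pi.single ((g * h).1⁻¹ i) 1 - Pi.single j 1, (hW _).2 (by
    simp [Finset.sum_sub_distrib, Finset.sum_pi_single'])⟩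
  have hv := congrFun (congrArg Subtype.val (LinearMap.congr_fun hact v)) i
  change v.1 ((g * h).1⁻¹ i) = v.1 ((h * g).1⁻¹ i) at hv
  simp only [v, Pi.sub_apply, Pi.single_eq_same, Pi.single_eq_of_ne hj1.symm, Pi.single_eq_of_ne hj2.symm,
    Pi.single_eq_of_ne (Ne.symm hne), sub_zero] at hv
  exact one_ne_zero hv

end Cfsg.Agent.S4156
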