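import Cfsg.Statements.S4157
import Cfsg.Agent.SubgroupCount.Kulakoff

set_option autoImplicit false
open Cfsg

namespace Cfsg.Agent.S4157

open Subgroup Cfsg.Agent.SubgroupCount Cfsg.Agent.MaxClass

universe u

theorem class_le {p : ℕ} [Fact p.Prime] (m : ℕ) : ∀ (X : Type u) [Group X] [Finite X],
    Nat.card X = p ^ m → 2 ≤ m → Group.nilpotencyClass X ≤ m - 1 := by
  induction m using Nat.strong_induction_on with
  | _ m ih =>
    intro X _ _ hm hm2
    have hX : IsPGroup p X := IsPGroup.of_card hm
    have := hX.isNilpotent
    have : Nontrivial X := Finite.one_lt_card_iff_nontrivial.1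
      (by rw [hm]; exact Nat.one_lt_pow (by omega) (Fact.out : p.Prime).one_lt)
    obtain ⟨z, hz⟩ := exists_card_pow_of_subgroup hX (center X)
    have hz1 : z ≠ 0 := by
      rintro rfl
      have := hX.center_nontrivial
      rw [pow_zero] at hz
      exact (Finite.one_lt_card (α := center X)).ne' hz
    have hq := (center X).card_mul_index
    obtain ⟨j, hj⟩ := IsPGroup.iff_card.1 (hX.to_quotient (center X))
    rw [index_eq_card, hz, hj, hm, ← pow_add] at hq
    have hzj := Nat.pow_right_injective (Fact.out : p.Prime).two_le hq
    rcases Nat.lt_or_ge j 2 with hlt | hge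
    · have : IsCyclic (X ⧸ center X) := by
        rcases (show j = 0 ∨ j = 1 by omega) with rfl | rfl
        · have : Subsingleton (X ⧸ center X) := (Nat.card_eq_one_iff_unique.1 hj).1
          infer_instance
        · exact isCyclic_of_prime_card (hj.trans (pow_one p))
      have h := Group.IsNilpotent.nilpotencyClass_le_one_iff.2
        ⟨⟨commutative_of_cyclic_center_quotient (QuotientGroup.mk' (center X)) (by rw [QuotientGroup.ker_mk'])⟩⟩
      omega
    · have h := ih j (by omega) (X ⧸ center X) hj hge
      rw [nilpotencyClass_quotient_center] at h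
      omega


/-- Let G be a finite p-group of order p^m that is not cyclic and, when p = 2, not of maximal class (nilpotency class m − 1). Then for every 1 ≤ k < m the number of subgroups of G of order p^k is congruent to 1 + p modulo p². -/
theorem result {G : Type*} [Group G] [Finite G] {p : ℕ} [Fact p.Prime] (m : ℕ)
    (hG : Nat.card G = p ^ m) (hnc : ¬ IsCyclic G) (h2 : p = 2 → Group.nilpotencyClass G ≠ m - 1)
    (k : ℕ) (hk1 : 1 ≤ k) (hk2 : k < m) :
    Nat.card {H : Subgroup G // Nat.card H = p ^ k} ≡ 1 + p [MOD p ^ 2] := by
  have hp := (Fact.out : p.Prime)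
  have hmc : p = 2 → ¬ MC G := by
    rintro rfl h
    refine h2 rfl (le_antisymm ?_ ?_)
    · exact class_le m G hG (by have := three_le_of_MC h hG; omega)
    · by_contra hlt
      have := (IsPGroup.of_card hG).isNilpotent
      exact h.lowerCentralSeries_ne_bot hG
        (Subgroup.lowerCentralSeries_eq_bot_iff_nilpotencyClass_le.2 (by omega))
  have h := kulakoff m G hG hnc hmc k hk1 hk2
  rw [← subs_eq_card, ← ZMod.natCast_eq_natCast_iff, h]
  simp

end Cfsg.Agent.S4157
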