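import Cfsg.Statements.S4163
import Cfsg.Agent.Core.Basics
-- import your own Cfsg.Agent.* helpers here

set_option autoImplicit false
open Cfsg

namespace Cfsg.Agent.S4163

/-- Let G be a finite group with a normal abelian subgroup A satisfying C_G(A) = A. Suppose some conjugacy class of G has size greater than 1, let m be the smallest such size, and let M be the subgroup generated by the elements whose class has size 1 or m. Then M is nilpotent of class at most 3. -/
theorem result {G : Type*} [Group G] [Finite G]
    (A : Subgroup G) [A.Normal] (hA : IsMulCommutative A) (hCA : Subgroup.centralizer (A : Set G) = A)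
    (m : ℕ) (hm1 : 1 < m) (hm : ∃ x : G, (Subgroup.centralizer ({x} : Set G)).index = m) (hmin : ∀ x : G, 1 < (Subgroup.centralizer ({x} : Set G)).index → m ≤ (Subgroup.centralizer ({x} : Set G)).index) :
    Subgroup.upperCentralSeries ↥(Subgroup.closure {x : G | (Subgroup.centralizer ({x} : Set G)).index = 1 ∨ (Subgroup.centralizer ({x} : Set G)).index = m}) 3 = ⊤ := by
  classical
  set Z := Subgroup.center G with hZ
  set H : Subgroup G := (Subgroup.centralizer ((A.map (QuotientGroup.mk' Z) : Subgroup (G ⧸ Z)) :
    Set (G ⧸ Z))).comap (QuotientGroup.mk' Z) with hH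
  have hAab : ∀ s ∈ A, ∀ t ∈ A, s * t = t * s := fun s hs t ht =>
    congrArg Subtype.val (hA.is_comm.comm ⟨s, hs⟩ ⟨t, ht⟩)
  -- small classes act trivially on `A` modulo the centre
  have hS : ∀ x : G, ((Subgroup.centralizer ({x} : Set G)).index = 1 ∨
      (Subgroup.centralizer ({x} : Set G)).index = m) → x ∈ H := by
    intro x hx
    refine Subgroup.mem_comap.2 (Subgroup.mem_centralizer_iff.2 ?_)
    rintro _ ⟨a, ha, rfl⟩
    rw [← map_mul, ← map_mul]
    refine QuotientGroup.eq_iff_div_mem.2 ?_
    rw [div_eq_mul_inv, mul_inv_rev, ← mul_assoc]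
    by_contra hb
    set b := a * x * a⁻¹ * x⁻¹ with hbdef
    have hbA : b ∈ A := by
      rw [hbdef, mul_assoc, mul_assoc, ← mul_assoc x]
      exact A.mul_mem ha ((inferInstance : A.Normal).conj_mem _ (A.inv_mem ha) x)
    have hb1 : b ≠ 1 := fun e => hb (e ▸ Z.one_mem)
    rcases hx with hx | hx
    · refine hb1 ?_
      have hxa : a ∈ Subgroup.centralizer ({x} : Set G) := by
        rw [Subgroup.index_eq_one.1 hx]; exact Subgroup.mem_top a
      rw [hbdef, Subgroup.mem_centralizer_singleton_iff.1 hxa]
      group
    set X := Subgroup.centralizer ({x} : Set G) with hX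
    set Y := X ⊓ Subgroup.centralizer ({b} : Set G) with hY
    set K := A ⊓ X with hK
    -- the orbit of `b` under `X` avoids `1`
    have hlt : Y.relIndex X < K.relIndex A := by
      let φ : X ⧸ Y.subgroupOf X → A ⧸ K.subgroupOf A := fun q =>
        QuotientGroup.mk ⟨(q.out : G) * a * (q.out : G)⁻¹,
          (inferInstance : A.Normal).conj_mem a ha (q.out : G)⟩
      have hconj : ∀ u : X, (u : G) * b * (u : G)⁻¹ =
          ((u : G) * a * (u : G)⁻¹) * x * ((u : G) * a * (u : G)⁻¹)⁻¹ * x⁻¹ := fun u => by
        have h2 := Subgroup.mem_centralizer_singleton_iff.1 u.2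
        have h1 : (u : G)⁻¹ * x * (u : G) = x := by
          rw [mul_assoc, ← h2, inv_mul_cancel_left]
        have h3 : (u : G) * x⁻¹ * (u : G)⁻¹ = x⁻¹ := by
          rw [← inv_inj, inv_inv, mul_inv_rev, mul_inv_rev, inv_inv, inv_inv, ← mul_assoc, h2,
            mul_inv_cancel_right]
        calc (u : G) * b * (u : G)⁻¹
            = (u : G) * a * ((u : G)⁻¹ * x * (u : G)) * a⁻¹ * (u : G)⁻¹ *
                ((u : G) * x⁻¹ * (u : G)⁻¹) := by rw [h1, hbdef]; group
          _ = _ := by rw [h3]; group
      have hinj : Function.Injective φ := by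
        intro q q' h
        have h' := (QuotientGroup.eq.1 h)
        rw [Subgroup.mem_subgroupOf] at h'
        have hc : ((q.out : G) * a * (q.out : G)⁻¹)⁻¹ * ((q'.out : G) * a * (q'.out : G)⁻¹) ∈ X := h'.2
        have hc' := Subgroup.mem_centralizer_singleton_iff.1 hc
        have heq : (q.out : G) * b * (q.out : G)⁻¹ = (q'.out : G) * b * (q'.out : G)⁻¹ := by
          rw [hconj, hconj]
          refine congrArg (· * x⁻¹) ?_
          set s := (q.out : G) * a * (q.out : G)⁻¹
          set t := (q'.out : G) * a * (q'.out : G)⁻¹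
          calc s * x * s⁻¹ = s * (x * (s⁻¹ * t)) * t⁻¹ := by group
            _ = s * (s⁻¹ * t * x) * t⁻¹ := by rw [hc']
            _ = t * x * t⁻¹ := by group
        rw [← QuotientGroup.out_eq' q, ← QuotientGroup.out_eq' q']
        refine QuotientGroup.eq.2 ?_
        rw [Subgroup.mem_subgroupOf]
        refine ⟨X.mul_mem (X.inv_mem q.out.2) q'.out.2, Subgroup.mem_centralizer_singleton_iff.2 ?_⟩
        show ((q.out : G))⁻¹ * (q'.out : G) * b = b * ((q.out : G)⁻¹ * (q'.out : G))
        calc ((q.out : G))⁻¹ * (q'.out : G) * b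
            = (q.out : G)⁻¹ * ((q'.out : G) * b * (q'.out : G)⁻¹) * (q'.out : G) := by group
          _ = _ := by rw [← heq]; group
      rw [Subgroup.relIndex, Subgroup.relIndex, Subgroup.index, Subgroup.index]
      refine lt_of_le_of_ne (Nat.card_le_card_of_injective φ hinj) fun e => ?_
      obtain ⟨q, hq⟩ := (hinj.bijective_of_nat_card_le e.ge).2 (QuotientGroup.mk 1)
      have h' := QuotientGroup.eq.1 hq
      rw [Subgroup.mem_subgroupOf, mul_one] at h'
      have hc : ((q.out : G) * a * (q.out : G)⁻¹)⁻¹ ∈ X := h'.2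
      have hc' := Subgroup.mem_centralizer_singleton_iff.1 (X.inv_mem hc)
      rw [inv_inv] at hc'
      refine hb1 ((mul_right_inj (q.out : G)).1 ((mul_left_inj (q.out : G)⁻¹).1 ?_))
      rw [hconj, mul_one, mul_inv_cancel, hc']
      group
    -- so the class of `b` is smaller
    have hbc : (Subgroup.centralizer ({b} : Set G)).index < m := by
      rw [← hx]
      have h1 := Agent.Core.card_sup_mul_card_inf Y A
      have h2 : A ⊔ Y ≤ Subgroup.centralizer ({b} : Set G) :=
        sup_le (fun y hy => Subgroup.mem_centralizer_singleton_iff.2 (hAab y hy b hbA)) inf_le_right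
      have h3 : Y ⊓ A = K := by
        rw [hY, hK, inf_right_comm, inf_comm A X, inf_eq_left]
        exact inf_le_right.trans fun y hy =>
          Subgroup.mem_centralizer_singleton_iff.2 (hAab y hy b hbA)
      rw [h3, sup_comm] at h1
      have hX' := Subgroup.relIndex_mul_relIndex ⊥ Y X bot_le inf_le_left
      have hA' := Subgroup.relIndex_mul_relIndex ⊥ K A bot_le inf_le_left
      simp only [Subgroup.relIndex_bot_left] at hX' hA'
      have h4 : Nat.card X < Nat.card (Subgroup.centralizer ({b} : Set G)) := by
        refine lt_of_mul_lt_mul_left (a := Nat.card K) ?_ (Nat.zero_le _)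
        calc Nat.card K * Nat.card X = Nat.card K * (Nat.card Y * Y.relIndex X) := by rw [hX']
          _ < Nat.card K * (Nat.card Y * K.relIndex A) :=
              Nat.mul_lt_mul_of_pos_left (Nat.mul_lt_mul_of_pos_left hlt Nat.card_pos) Nat.card_pos
          _ = Nat.card (A ⊔ Y : Subgroup G) * Nat.card K := by
              rw [h1, ← hA']; ring
          _ ≤ Nat.card K * Nat.card (Subgroup.centralizer ({b} : Set G)) := by
              rw [mul_comm]
              exact Nat.mul_le_mul_left _ (Subgroup.card_le_of_le h2)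
      have e1 := X.card_mul_index
      have e2 := (Subgroup.centralizer ({b} : Set G)).card_mul_index
      by_contra hcon
      push Not at hcon
      have : Nat.card X * X.index < Nat.card (Subgroup.centralizer ({b} : Set G)) *
          (Subgroup.centralizer ({b} : Set G)).index :=
        lt_of_lt_of_le (Nat.mul_lt_mul_of_pos_right h4 (Nat.pos_of_ne_zero X.index_ne_zero_of_finite))
          (Nat.mul_le_mul_left _ hcon)
      omega
    refine hb ?_
    have h1 : (Subgroup.centralizer ({b} : Set G)).index = 1 := by
      have h0 := (Subgroup.centralizer ({b} : Set G)).index_ne_zero_of_finite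
      by_contra h
      exact absurd (hmin b (by omega)) (not_le.2 hbc)
    exact Subgroup.mem_center_iff.2 fun g => Subgroup.mem_centralizer_singleton_iff.1 (by
      rw [Subgroup.index_eq_one.1 h1]; exact Subgroup.mem_top g)
  set M := Subgroup.closure {x : G | (Subgroup.centralizer ({x} : Set G)).index = 1 ∨
    (Subgroup.centralizer ({x} : Set G)).index = m} with hM
  have hMH : M ≤ H := (Subgroup.closure_le H).2 fun x hx => hS x hx
  have hAH : ⁅A, H⁆ ≤ Z := Subgroup.commutator_le.2 fun a ha g hg => by
    have h := Subgroup.mem_centralizer_iff.1 (Subgroup.mem_comap.1 hg) _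
      (Subgroup.mem_map_of_mem _ ha)
    rw [← map_mul, ← map_mul] at h
    have h' := QuotientGroup.eq_iff_div_mem.1 h
    rwa [div_eq_mul_inv, mul_inv_rev, ← mul_assoc, ← commutatorElement_def] at h'
  have hZ0 : ∀ K : Subgroup G, ⁅Z, K⁆ = ⊥ := fun K => le_bot_iff.1 (Subgroup.commutator_le.2
    fun z hz g _ => Subgroup.mem_bot.2 (commutatorElement_eq_one_iff_mul_comm.2
      (Subgroup.mem_center_iff.1 hz g).symm))
  have hHHA : ⁅H, H⁆ ≤ A := by
    refine le_trans ?_ hCA.le
    rw [← Subgroup.commutator_eq_bot_iff_le_centralizer]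
    refine Subgroup.commutator_commutator_eq_bot_of_rotate ?_ ?_
    · rw [Subgroup.commutator_comm H A]
      exact le_bot_iff.1 ((Subgroup.commutator_mono hAH le_rfl).trans (hZ0 H).le)
    · exact le_bot_iff.1 ((Subgroup.commutator_mono hAH le_rfl).trans (hZ0 H).le)
  refine (Subgroup.eq_top_iff' _).2 fun x => ?_
  rw [Subgroup.mem_upperCentralSeries_succ_iff]
  intro y
  rw [Subgroup.mem_upperCentralSeries_succ_iff]
  intro z
  rw [Subgroup.mem_upperCentralSeries_succ_iff]
  intro w
  rw [Subgroup.upperCentralSeries_zero, Subgroup.mem_bot, commutatorElement_eq_one_iff_mul_comm]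
  have h1 := hHHA (Subgroup.commutator_mem_commutator (hMH x.2) (hMH y.2))
  have h2 := hAH (Subgroup.commutator_mem_commutator h1 (hMH z.2))
  exact Subtype.ext (Subgroup.mem_center_iff.1 h2 w).symm

end Cfsg.Agent.S4163
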