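import Cfsg.Statements.S4168

set_option autoImplicit false
open Cfsg

namespace Cfsg.Agent.S4168

open Subgroup

/-- Let L be a finite quasisimple group (perfect with L/Z(L) simple). Then every prime dividing the order of the centre Z(L) also divides the order of L/Z(L). -/
theorem result {L : Type*} [Group L] [Finite L] (hL : Cfsg.IsQuasisimple L)
    (p : ℕ) (hp : p.Prime) (hdiv : p ∣ Nat.card (Subgroup.center L)) : p ∣ (Subgroup.center L).index := by
  have := Fact.mk hp
  obtain ⟨z, hz⟩ := exists_prime_orderOf_dvd_card' p hdiv
  haveI := hL.1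
  open scoped IsMulCommutative in
  have h : (MonoidHom.transferCenterPow L).range = ⊥ := by
    rw [MonoidHom.range_eq_map, Subgroup.map_eq_bot_iff, ← Group.IsPerfect.commutator_eq_top (G := L)]
    exact Abelianization.commutator_subset_ker _
  have hzi : z ^ (center L).index = 1 := by
    refine Subtype.ext ?_
    have h1 : MonoidHom.transferCenterPow L (z : L) ∈ (⊥ : Subgroup (center L)) := h ▸ ⟨_, rfl⟩
    rw [mem_bot] at h1
    simpa using congrArg Subtype.val h1
  exact hz ▸ orderOf_dvd_of_pow_eq_one hzi

end Cfsg.Agent.S4168
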