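import Cfsg.Statements.S4169
import Cfsg.Agent.S0015
import Cfsg.Agent.S4163
-- import your own Cfsg.Agent.* helpers here

set_option autoImplicit false
open Cfsg

namespace Cfsg.Agent.S4169

/-- Let P be a finite p-group whose conjugacy classes have exactly two sizes (1 and one other value). Then P has nilpotency class at most 3. -/
theorem result {P : Type*} [Group P] [Finite P] {p : ℕ} [Fact p.Prime] (hP : IsPGroup p P)
    (m : ℕ) (hm : 1 < m) (h : ∀ x : P, (Subgroup.centralizer ({x} : Set P)).index = 1 ∨ (Subgroup.centralizer ({x} : Set P)).index = m) :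
    upperCentralSeries P 3 = ⊤ := by
  classical
  show Subgroup.upperCentralSeries P 3 = ⊤
  have := hP.isNilpotent
  obtain ⟨A, -, hA⟩ := Set.Finite.exists_le_maximal
    (s := {A : Subgroup P | A.Normal ∧ IsMulCommutative A}) (Set.toFinite _)
    (a := ⊥) ⟨inferInstance, inferInstance⟩
  have := hA.prop.1
  have := hA.prop.2
  have hself := Agent.S0015.result A fun M hMn hMc hle => le_antisymm (hA.le_of_ge ⟨hMn, hMc⟩ hle) hle
  by_cases hall : ∀ x : P, (Subgroup.centralizer ({x} : Set P)).index = 1
  · refine (Subgroup.eq_top_iff' _).2 fun x => ?_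
    rw [Subgroup.mem_upperCentralSeries_succ_iff]
    intro y
    have h : x * y = y * x := Subgroup.mem_centralizer_singleton_iff.1
      (by rw [Subgroup.index_eq_one.1 (hall y)]; exact Subgroup.mem_top x)
    rw [commutatorElement_eq_one_iff_mul_comm.2 h]
    exact Subgroup.one_mem _
  · push Not at hall
    obtain ⟨x, hx⟩ := hall
    have h3 := Agent.S4163.result A inferInstance hself m hm ⟨x, (h x).resolve_left hx⟩
      fun y hy => ((h y).resolve_left (ne_of_gt hy)).ge
    have htop : Subgroup.closure {y : P | (Subgroup.centralizer ({y} : Set P)).index = 1 ∨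
        (Subgroup.centralizer ({y} : Set P)).index = m} = ⊤ :=
      (Subgroup.eq_top_iff' _).2 fun y => Subgroup.subset_closure (h y)
    rw [htop] at h3
    have := Subgroup.upperCentralSeries_eq_top_iff_nilpotencyClass_le.1 h3
    rw [Subgroup.upperCentralSeries_eq_top_iff_nilpotencyClass_le]
    exact le_trans (Group.nilpotencyClass_le_of_surjective (⊤ : Subgroup P).subtype
      (fun x => ⟨⟨x, Subgroup.mem_top x⟩, rfl⟩)) this

end Cfsg.Agent.S4169
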