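import Cfsg.Statements.S4170
import Cfsg.Agent.SylowFix.Basic

set_option autoImplicit false
open scoped Pointwise
open Cfsg
open Cfsg.Agent

namespace Cfsg.Agent.S4170

/-- Let p be an odd prime and G a nontrivial group of permutations of a finite set Ω that is generated by its elements of p-power order. Then Ω has two disjoint nonempty subsets Δ₁ and Δ₂ such that the index in G of the subgroup of elements mapping Δ₁ onto Δ₁ and Δ₂ onto Δ₂ (and hence also the complement of their union onto itself) is divisible by p. -/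
theorem result {Ω : Type*} [Fintype Ω] (p : ℕ) [Fact p.Prime] (hp : p ≠ 2) (G : Subgroup (Equiv.Perm Ω)) (hG : G ≠ ⊥) (hgen : Subgroup.closure {g : G | ∃ k : ℕ, orderOf g = p ^ k} = ⊤) :
    ∃ Δ₁ Δ₂ : Set Ω, Δ₁.Nonempty ∧ Δ₂.Nonempty ∧ Disjoint Δ₁ Δ₂ ∧ p ∣ (MulAction.stabilizer G Δ₁ ⊓ MulAction.stabilizer G Δ₂).index := by
  classical
  have hp' : p.Prime := Fact.out
  -- a `p`-element moving a point
  obtain ⟨y, ⟨k, hk⟩, β, hβ⟩ : ∃ y : G, (∃ k : ℕ, orderOf y = p ^ k) ∧ ∃ β : Ω, y • β ≠ β := by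
    by_contra hno
    push Not at hno
    refine hG (Subgroup.eq_bot_iff_forall _ |>.mpr fun g hg => Equiv.ext fun ω => ?_)
    have hall : (⊤ : Subgroup G) ≤ MulAction.stabilizer G ω := hgen ▸ (Subgroup.closure_le _).mpr
      (fun y hy => hno y hy ω)
    exact MulAction.mem_stabilizer_iff.mp (hall (Subgroup.mem_top (⟨g, hg⟩ : G)))
  obtain ⟨z, hz, hzne, hzp⟩ := SylowFix.exists_cycle (p := p)
    (y := y) ⟨k, hk ▸ pow_orderOf_eq_one y⟩ hβ
  refine ⟨{β}, SylowFix.cycle z β p \ {β}, Set.singleton_nonempty _, ⟨z • β, ?_, hzne⟩,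
    Set.disjoint_sdiff_right, ?_⟩
  · simpa using SylowFix.pow_smul_mem_cycle (p := p) hzp 1
  by_contra hdvd
  set St := MulAction.stabilizer G ({β} : Set Ω) ⊓ MulAction.stabilizer G (SylowFix.cycle z β p \ {β})
  obtain ⟨Q⟩ := (inferInstance : Nonempty (Sylow p St))
  have hQ : ¬ p ∣ ((Q : Subgroup St).map St.subtype).index := by
    rw [Subgroup.index_map_subtype]
    exact hp'.not_dvd_mul Q.not_dvd_index hdvd
  let S : Sylow p G := (Q.2.map St.subtype).toSylow hQ
  refine SylowFix.not_forall_fixed_cycle hz hzne hzp S fun x hx ω hω => ?_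
  have hxSt : ∀ v ∈ S, v ∈ St := fun v hv => by
    obtain ⟨w, _, rfl⟩ := hv
    exact w.2
  by_cases hωβ : ω = β
  · subst hωβ
    have h1 := (hxSt x hx).1
    have h2 : x • ω ∈ x • ({ω} : Set Ω) := Set.smul_mem_smul_set (Set.mem_singleton _)
    rw [MulAction.mem_stabilizer_iff.mp h1] at h2
    exact h2
  · have hsub : MulAction.orbit (S : Subgroup G) ω ⊆ SylowFix.cycle z β p \ {β} := by
      rintro _ ⟨v, rfl⟩
      have h2 : (v : G) • ω ∈ (v : G) • (SylowFix.cycle z β p \ {β}) :=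
        Set.smul_mem_smul_set ⟨hω, hωβ⟩
      rwa [MulAction.mem_stabilizer_iff.mp (hxSt v v.2).2] at h2
    have hlt : (SylowFix.cycle z β p \ {β}).ncard < p :=
      lt_of_lt_of_le (Set.ncard_sdiff_singleton_lt_of_mem (SylowFix.self_mem_cycle z β))
        (SylowFix.ncard_cycle_le z β)
    obtain ⟨n, hn⟩ := S.2.card_orbit ω
    have h1 : Nat.card (MulAction.orbit (S : Subgroup G) ω) < p := by
      rw [Nat.card_coe_set_eq]
      exact lt_of_le_of_lt (Set.ncard_le_ncard hsub) hlt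
    have hn0 : n = 0 := by
      by_contra h0
      rw [hn] at h1
      exact absurd h1 (not_lt.mpr (Nat.le_self_pow h0 p))
    rw [hn0, pow_zero, Nat.card_eq_one_iff_unique] at hn
    have := hn.1
    exact congrArg Subtype.val (Subsingleton.elim
      (⟨x • ω, ⟨⟨x, hx⟩, rfl⟩⟩ : MulAction.orbit (S : Subgroup G) ω) ⟨ω, MulAction.mem_orbit_self ω⟩)

end Cfsg.Agent.S4170
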