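import Cfsg.Statements.S4172
import Cfsg.Agent.TwoGenSylow.Main

set_option autoImplicit false
open Cfsg
open Cfsg.Agent

namespace Cfsg.Agent.S4172

/-- Let p be a prime and G a finite group with a non-commutative Sylow p-subgroup P whose Frattini subgroup has index p² in P (P is generated by two elements). Suppose G has no nontrivial normal subgroup of order prime to p and the Frattini subgroup of P contains no nontrivial normal subgroup of G. Then the generalized Fitting subgroup F*(G) is the unique minimal normal subgroup of G, the image of P in G/F*(G) is cyclic, and if F*(G) is not commutative then P permutes the components of G transitively by conjugation. -/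
theorem result {G : Type*} [Group G] [Finite G] (p : ℕ) [Fact p.Prime] (P : Sylow p G) (hna : ¬ IsMulCommutative (P : Subgroup G)) (hgen : (frattini ↥(P : Subgroup G)).index = p ^ 2) (hcore : Cfsg.pPrimeCore p G = ⊥) (hfrat : ((frattini ↥(P : Subgroup G)).map (P : Subgroup G).subtype).normalCore = ⊥) [hFn : (Cfsg.generalizedFittingSubgroup G).Normal] :
    (Cfsg.generalizedFittingSubgroup G ≠ ⊥ ∧ ∀ K : Subgroup G, K.Normal → K ≠ ⊥ → Cfsg.generalizedFittingSubgroup G ≤ K) ∧
      IsCyclic ↥((P : Subgroup G).map (QuotientGroup.mk' (Cfsg.generalizedFittingSubgroup G))) ∧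
      (¬ IsMulCommutative (Cfsg.generalizedFittingSubgroup G) → ∀ K L : Subgroup G, Cfsg.IsComponent K → Cfsg.IsComponent L → ∃ x ∈ (P : Subgroup G), L = K.map (MulAut.conj x).toMonoidHom) := by
  classical
  haveI : Nontrivial G := by
    by_contra h
    rw [not_nontrivial_iff_subsingleton] at h
    exact hna ⟨⟨fun a b => Subtype.ext (Subsingleton.elim _ _)⟩⟩
  obtain ⟨N, hN, huniq⟩ := TwoGenSylow.exists_unique_minNormal P hna hgen hcore hfrat
  have hFN := TwoGenSylow.generalizedFitting_eq P hna hgen hcore hfrat hN huniq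
  have hFne : Cfsg.generalizedFittingSubgroup G ≠ ⊥ := hFN ▸ hN.ne_bot
  refine ⟨⟨hFne, fun K hK hKne => hFN ▸ huniq K hK hKne⟩, ?_, ?_⟩
  · obtain ⟨t, ht⟩ := TwoGenSylow.exists_sup_zpowers_eq_top hna hgen
      (TwoGenSylow.normal_not_le_frattini P hcore hfrat _ hFne)
    refine Subgroup.isCyclic_iff_exists_zpowers_eq_top _ |>.mpr
      ⟨QuotientGroup.mk' (Cfsg.generalizedFittingSubgroup G) (t : G), ?_⟩
    refine le_antisymm (Subgroup.zpowers_le.mpr ⟨_, t.2, rfl⟩) ?_
    rintro _ ⟨x, hx, rfl⟩
    have hxm : (⟨x, hx⟩ : (P : Subgroup G)) ∈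
        (Cfsg.generalizedFittingSubgroup G).subgroupOf P ⊔ Subgroup.zpowers t := ht ▸ Subgroup.mem_top _
    obtain ⟨n, hn, w, hw, he⟩ := Subgroup.mem_sup_of_normal_left.mp hxm
    obtain ⟨i, rfl⟩ := Subgroup.mem_zpowers_iff.mp hw
    have he' : x = (n : G) * (t : G) ^ i := by simpa using (congrArg Subtype.val he).symm
    rw [he', map_mul, map_zpow, show (QuotientGroup.mk' (Cfsg.generalizedFittingSubgroup G)) (n : G) = 1
      from (QuotientGroup.eq_one_iff _).mpr hn, one_mul]
    exact Subgroup.zpow_mem _ (Subgroup.mem_zpowers _) i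
  · intro hnc K L hK hL
    haveI := hN.normal
    have hF : Cfsg.fittingSubgroup G = ⊥ := by
      by_contra hne
      have hle := hFN.symm ▸ huniq _ inferInstance hne
      haveI : Group.IsNilpotent ↥(Cfsg.generalizedFittingSubgroup G) :=
        (Group.isNilpotent_congr (Subgroup.subgroupOfEquivOfLe hle)).mp inferInstance
      rw [hFN] at hnc
      haveI : Group.IsNilpotent N :=
        (Group.isNilpotent_congr (MulEquiv.subgroupCongr hFN)).mp inferInstance
      exact hnc hN.isMulCommutative
    have hlay : Cfsg.layer G = Cfsg.generalizedFittingSubgroup G := by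
      rw [Cfsg.generalizedFittingSubgroup, hF, sup_bot_eq]
    refine TwoGenSylow.exists_conj_component P hna hgen hcore hK hL (hlay ▸ hFn) ?_
    rw [hlay, hFN]
    by_contra hne
    exact hnc (hFN ▸ Subgroup.le_centralizer_iff_isMulCommutative.mp (huniq _ inferInstance hne))

end Cfsg.Agent.S4172
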