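import Mathlib
import Cfsg.Statements.S4176
import Cfsg.Agent.Char.NormalAbelianSylow
import Cfsg.Agent.SylowNumber.Formula

set_option autoImplicit false
open Cfsg

namespace Cfsg.Agent.S4176
open Subgroup

universe u v w

variable {k : Type w} [Field k]

/-- The set of all images of a vector. -/
theorem card_orbit {H : Type u} [Group H] {V : Type v} [AddCommGroup V] [Module k V]
    (ρ : Representation k H V) (a : V) (S : Subgroup H) (hS : ∀ h, h ∈ S ↔ ρ h a = a) :
    Nat.card {u : V | ∃ h : H, ρ h a = u} = S.index := by
  letI : MulAction H V :=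
    { smul := fun h v => ρ h v
      one_smul := fun v => by show ρ 1 v = v; simp
      mul_smul := fun g h v => by show ρ (g * h) v = ρ g (ρ h v); simp }
  have e1 : {u : V | ∃ h : H, ρ h a = u} = MulAction.orbit H a := rfl
  have e2 : MulAction.stabilizer H a = S := Subgroup.ext fun h => (hS h).symm
  rw [e1, ← e2, MulAction.index_stabilizer]
  rfl

/-- The stabiliser of a vector. -/
def stab {H : Type u} [Group H] {V : Type v} [AddCommGroup V] [Module k V]
    (ρ : Representation k H V) (a : V) : Subgroup H where
  carrier := {h | ρ h a = a}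
  one_mem' := by simp
  mul_mem' := fun {g h} (hg : ρ g a = a) (hh : ρ h a = a) => by
    show ρ (g * h) a = a
    rw [map_mul, Module.End.mul_apply, hh, hg]
  inv_mem' := fun {g} (hg : ρ g a = a) => by
    show ρ g⁻¹ a = a
    conv_lhs => rw [← hg]
    rw [← Module.End.mul_apply, ← map_mul, inv_mul_cancel, map_one, Module.End.one_apply]

/-- Averaging over a subgroup that is transitive on an orbit of `N`. -/
theorem sum_fixed {H : Type u} [Group H] [Finite H] {V : Type v} [AddCommGroup V] [Module k V]
    (ρ : Representation k H V) (N L : Subgroup H) [Fintype L] (hLN : L ≤ N) (v : V)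
    (hidx : (stab ρ v).relIndex L = (stab ρ v).relIndex N) {m : H} (hm : m ∈ N) :
    ρ m (∑ l : L, ρ (l : H) v) = ∑ l : L, ρ (l : H) v := by
  classical
  haveI : Fintype N := Fintype.ofFinite N
  let R := fun (M : Subgroup H) => {u : V | ∃ x : M, ρ (x : H) v = u}
  have hR : ∀ M : Subgroup H, Nat.card (R M) = (stab ρ v).relIndex M := fun M =>
    card_orbit (ρ.comp M.subtype) v ((stab ρ v).subgroupOf M) fun h => Iff.rfl
  have hsub : R L ⊆ R N := fun u ⟨x, hx⟩ => ⟨⟨x, hLN x.2⟩, hx⟩
  have hfin : (R N).Finite := Set.finite_range (fun x : N => ρ (x : H) v) |>.subset fun u ⟨x, hx⟩ => ⟨x, hx⟩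
  have heq : R L = R N := Set.eq_of_subset_of_ncard_le hsub (by
    rw [← Nat.card_coe_set_eq, ← Nat.card_coe_set_eq, hR, hR, hidx]) hfin
  let O : Finset V := Finset.univ.image fun l : L => ρ (l : H) v
  let c : ℕ := (Finset.univ.filter fun l : L => ρ (l : H) v = v).card
  have hfib : ∀ u ∈ O, (Finset.univ.filter fun l : L => ρ (l : H) v = u).card = c := by
    intro u hu
    obtain ⟨l0, -, rfl⟩ := Finset.mem_image.1 hu
    refine Finset.card_equiv (Equiv.mulLeft l0⁻¹) fun l => ?_
    simp only [Finset.mem_filter, Finset.mem_univ, true_and, Equiv.coe_mulLeft, Subgroup.coe_mul,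
      InvMemClass.coe_inv, map_mul, Module.End.mul_apply]
    constructor
    · intro h; rw [h, ← Module.End.mul_apply, ← map_mul, inv_mul_cancel, map_one, Module.End.one_apply]
    · intro h
      conv_rhs => rw [← h]
      rw [← Module.End.mul_apply (ρ (l0 : H)), ← map_mul, mul_inv_cancel, map_one, Module.End.one_apply]
  have hsum : ∑ l : L, ρ (l : H) v = c • ∑ u ∈ O, u := by
    rw [Finset.smul_sum, Finset.sum_comp (fun u => u) (fun l : L => ρ (l : H) v)]
    exact Finset.sum_congr rfl fun u hu => by rw [hfib u hu]
  have hinj : ∀ g : H, Function.Injective (ρ g) := fun g x y h => by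
    have h' := congrArg (ρ g⁻¹) h
    rwa [← Module.End.mul_apply, ← Module.End.mul_apply, ← map_mul, inv_mul_cancel, map_one,
      Module.End.one_apply, Module.End.one_apply] at h'
  have hperm : O.image (ρ m) = O := by
    refine Finset.eq_of_subset_of_card_le ?_ ?_
    · intro u hu
      obtain ⟨y, hy, rfl⟩ := Finset.mem_image.1 hu
      obtain ⟨l, -, rfl⟩ := Finset.mem_image.1 hy
      have : ρ m (ρ (l : H) v) ∈ R L := heq ▸ ⟨⟨m * l, N.mul_mem hm (hLN l.2)⟩, by simp⟩
      obtain ⟨x, hx⟩ := this
      exact Finset.mem_image.2 ⟨x, Finset.mem_univ _, hx⟩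
    · rw [Finset.card_image_of_injective _ (hinj m)]
  rw [hsum, map_nsmul]
  congr 1
  rw [map_sum, ← Finset.sum_image (f := fun u : V => u) (fun x _ y _ h => hinj m h), hperm]

theorem aux {p : ℕ} [Fact p.Prime] [CharP k p] : ∀ (n : ℕ) (H : Type u) [Group H] [Finite H], Nat.card H = n →
    Cfsg.IsPSolvable p H → ∀ (V : Type v) [AddCommGroup V] [Module k V] (ρ : Representation k H V) (a : V),
    (∃ P : Sylow p H, ∀ x : H, x ∈ (P : Subgroup H) → ρ x a = a) →
    Submodule.span k {u : V | ∃ h : H, ρ h a = u} = ⊤ →
    Module.finrank k ρ.invariants ≤ 1 ∧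
      ∀ b : V, (stab ρ a).index.Coprime (stab ρ b).index → ∀ h : H, ρ h b = b := by
  intro n
  induction n using Nat.strong_induction_on with
  | _ n ih =>
    intro H _ _ hn hsol V _ _ ρ a hfix hspan
    obtain ⟨P, hP⟩ := hfix
    rcases subsingleton_or_nontrivial H with hs | hs
    · have h1 : ∀ h : H, ρ h = 1 := fun h => by rw [Subsingleton.elim h 1, map_one]
      refine ⟨?_, fun b _ h => by rw [h1 h]; rfl⟩
      have h2 : ({u : V | ∃ h : H, ρ h a = u}) = {a} := by
        ext u; simp [h1, eq_comm]
      rw [h2] at hspan
      have : FiniteDimensional k V := Module.Finite.of_fg_top (hspan ▸ ⟨{a}, by simp⟩)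
      refine (Submodule.finrank_le _).trans ?_
      rw [← finrank_top k V, ← hspan]
      refine (finrank_span_le_card ({a} : Set V)).trans ?_
      simp
    obtain ⟨N, hN⟩ := Core.exists_isMinNormal (G := H)
    haveI hNn : N.Normal := hN.normal
    have hlt : Nat.card (H ⧸ N) < n := by
      rw [← hn, N.card_eq_card_quotient_mul_card_subgroup]
      exact lt_mul_of_one_lt_right Nat.card_pos (Subgroup.one_lt_card_iff_ne_bot N |>.2 hN.ne_bot)
    have hsol' : Cfsg.IsPSolvable p (H ⧸ N) := Layer.isPSolvable_of_surjective hsol (QuotientGroup.mk'_surjective N)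
    rcases Char.isMinNormal_card hsol hN with hNp | hNc
    · -- a normal p-subgroup acts trivially
      have hNP : N ≤ (P : Subgroup H) := Core.pCore_le_sylow P |> le_trans (Core.le_pCore hNp)
      have htriv : N ≤ ρ.ker := by
        intro x hx
        rw [MonoidHom.mem_ker]
        refine LinearMap.ext_on hspan ?_
        rintro _ ⟨h, rfl⟩
        have : ρ (h⁻¹ * x * h) a = a := hP _ (hNP (by simpa using hNn.conj_mem x hx h⁻¹))
        calc ρ x (ρ h a) = ρ h (ρ (h⁻¹ * x * h) a) := by
              rw [← Module.End.mul_apply, ← map_mul, ← Module.End.mul_apply, ← map_mul]; group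
          _ = ρ h a := by rw [this]
      let σ : Representation k (H ⧸ N) V := QuotientGroup.lift N ρ htriv
      have hσ : ∀ h : H, σ (h : H ⧸ N) = ρ h := fun h => rfl
      obtain ⟨hd, hb⟩ := ih _ hlt (H ⧸ N) rfl hsol' V σ a
        ⟨P.mapSurjective (QuotientGroup.mk'_surjective N), by
          rintro _ ⟨x, hx, rfl⟩; exact hP x hx⟩
        (by
          rw [← hspan]; congr 1; ext u
          exact ⟨fun ⟨h, hu⟩ => by obtain ⟨g, rfl⟩ := QuotientGroup.mk_surjective h; exact ⟨g, hu⟩,
            fun ⟨g, hu⟩ => ⟨(g : H ⧸ N), hu⟩⟩)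
      have hinv : σ.invariants = ρ.invariants := by
        ext v
        simp only [Representation.mem_invariants]
        exact ⟨fun h g => h (g : H ⧸ N), fun h q => by obtain ⟨g, rfl⟩ := QuotientGroup.mk_surjective q; exact h g⟩
      refine ⟨hinv ▸ hd, fun b hcop h => hb b ?_ (h : H ⧸ N)⟩
      have key : ∀ c : V, (stab σ c).index = (stab ρ c).index := fun c => by
        rw [← (stab σ c).index_comap_of_surjective (QuotientGroup.mk'_surjective N)]
        rfl
      rwa [key, key]
    · -- a normal p'-subgroup: project
      classical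
      haveI : Fintype N := Fintype.ofFinite N
      have hN0 : (Fintype.card N : k) ≠ 0 := by
        rw [Ne, CharP.cast_eq_zero_iff k p, ← Nat.card_eq_fintype_card]
        exact fun h => (Fact.out : p.Prime).one_lt.ne' (Nat.dvd_one.1 (hNc ▸ Nat.dvd_gcd h dvd_rfl))
      let e : V →ₗ[k] V := (Fintype.card N : k)⁻¹ • ∑ x : N, ρ (x : H)
      have he_apply : ∀ v, e v = (Fintype.card N : k)⁻¹ • ∑ x : N, ρ (x : H) v := fun v => by
        simp [e, LinearMap.sum_apply]
      have hefix : ∀ v, (∀ x ∈ N, ρ x v = v) → e v = v := by
        intro v hv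
        rw [he_apply, Finset.sum_congr rfl fun (x : N) _ => hv (x : H) x.2, Finset.sum_const, Finset.card_univ,
          ← Nat.cast_smul_eq_nsmul k, inv_smul_smul₀ hN0]
      have hecomm : ∀ (g : H) (v : V), ρ g (e v) = e (ρ g v) := by
        intro g v
        rw [he_apply, he_apply, map_smul, map_sum]
        congr 1
        refine Fintype.sum_equiv (MulAut.conjNormal g : MulAut N).toEquiv (fun x : N => ρ g (ρ (x : H) v))
          (fun x : N => ρ (x : H) (ρ g v)) fun x => ?_
        show ρ g (ρ (x : H) v) = ρ (((MulAut.conjNormal g : MulAut N) x : N) : H) (ρ g v)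
        rw [← Module.End.mul_apply, ← map_mul, ← Module.End.mul_apply, ← map_mul, MulAut.conjNormal_apply,
          inv_mul_cancel_right]
      have heN : ∀ (x : H), x ∈ N → ∀ v, ρ x (e v) = e v := by
        intro x hx v
        rw [he_apply, map_smul, map_sum]
        congr 1
        refine Fintype.sum_equiv (Equiv.mulLeft (⟨x, hx⟩ : N)) (fun y : N => ρ x (ρ (y : H) v))
          (fun y : N => ρ (y : H) v) fun y => ?_
        show ρ x (ρ (y : H) v) = ρ (x * (y : H)) v
        rw [map_mul, Module.End.mul_apply]
      let W : Submodule k V := LinearMap.range e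
      have hWN : ∀ v ∈ W, ∀ x ∈ N, ρ x v = v := by
        rintro _ ⟨v, rfl⟩ x hx; exact heN x hx v
      have hWinv : ∀ g : H, ∀ v ∈ W, ρ g v ∈ W := by
        rintro g _ ⟨v, rfl⟩; exact ⟨ρ g v, (hecomm g v).symm⟩
      let τ : Representation k H W :=
        { toFun := fun g => (ρ g).restrict (hWinv g)
          map_one' := LinearMap.ext fun v => Subtype.ext (by simp [LinearMap.restrict_apply])
          map_mul' := fun g h => LinearMap.ext fun v => Subtype.ext (by simp [LinearMap.restrict_apply]) }
      have hτ : ∀ (g : H) (v : W), ((τ g v : W) : V) = ρ g v := fun g v => rfl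
      let σ : Representation k (H ⧸ N) W := QuotientGroup.lift N τ fun x hx => by
        rw [MonoidHom.mem_ker]
        exact LinearMap.ext fun v => Subtype.ext (hWN v v.2 x hx)
      have hσ : ∀ (g : H) (v : W), ((σ (g : H ⧸ N) v : W) : V) = ρ g v := fun g v => rfl
      let a' : W := ⟨e a, a, rfl⟩
      have hspan' : Submodule.span k {u : W | ∃ h : H ⧸ N, σ h a' = u} = ⊤ := by
        refine Submodule.map_injective_of_injective (f := W.subtype) W.injective_subtype ?_
        rw [Submodule.map_span, Submodule.map_top, Submodule.range_subtype]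
        apply le_antisymm
        · rw [Submodule.span_le]
          rintro _ ⟨u, -, rfl⟩; exact u.2
        · show LinearMap.range e ≤ _
          rw [LinearMap.range_eq_map, ← hspan, Submodule.map_span]
          refine Submodule.span_mono ?_
          rintro _ ⟨_, ⟨h, rfl⟩, rfl⟩
          refine ⟨σ (h : H ⧸ N) a', ⟨_, rfl⟩, ?_⟩
          show ρ h (e a) = e (ρ h a)
          exact hecomm h a
      obtain ⟨hd, hb⟩ := ih _ hlt (H ⧸ N) rfl hsol' W σ a'
        ⟨P.mapSurjective (QuotientGroup.mk'_surjective N), by
          rintro _ ⟨x, hx, rfl⟩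
          refine Subtype.ext ?_
          show ρ x (e a) = e a
          rw [hecomm, hP x hx]⟩ hspan'
      refine ⟨?_, fun b hcop h => ?_⟩
      · have hinv : ρ.invariants = σ.invariants.map W.subtype := by
          ext v
          simp only [Representation.mem_invariants, Submodule.mem_map]
          constructor
          · intro hv
            refine ⟨⟨v, v, hefix v fun x _ => hv x⟩, fun q => ?_, rfl⟩
            obtain ⟨g, rfl⟩ := QuotientGroup.mk_surjective q
            exact Subtype.ext (hv g)
          · rintro ⟨w, hw, rfl⟩ g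
            exact congrArg Subtype.val (hw (g : H ⧸ N))
        rw [hinv, (Submodule.equivMapOfInjective W.subtype W.injective_subtype σ.invariants).symm.finrank_eq]
        exact hd
      -- `b` is fixed by `N`
      · let L : Subgroup H := N ⊓ stab ρ b
        haveI : Fintype L := Fintype.ofFinite L
        have hL0 : (Fintype.card L : k) ≠ 0 := by
          rw [Ne, CharP.cast_eq_zero_iff k p, ← Nat.card_eq_fintype_card]
          intro h
          have : p ∣ Nat.card N := h.trans (Subgroup.card_dvd_of_le inf_le_left)
          exact (Fact.out : p.Prime).one_lt.ne' (Nat.dvd_one.1 (hNc ▸ Nat.dvd_gcd this dvd_rfl))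
        have hdvd : ∀ S : Subgroup H, S.relIndex N ∣ S.index := fun S => by
          rw [← SylowNumber.relIndex_sup_normal S N]
          exact ⟨(S ⊔ N).index, (Subgroup.relIndex_mul_index le_sup_left).symm⟩
        have hidx : ∀ g : H, (stab ρ (ρ g a)).relIndex L = (stab ρ (ρ g a)).relIndex N := by
          intro g
          set S := stab ρ (ρ g a)
          have hS : S.index = (stab ρ a).index := by
            rw [← card_orbit ρ (ρ g a) S fun h => Iff.rfl, ← card_orbit ρ a (stab ρ a) fun h => Iff.rfl]
            congr 2
            ext u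
            exact ⟨fun ⟨h, hu⟩ => ⟨h * g, by rw [map_mul, Module.End.mul_apply, hu]⟩,
              fun ⟨h, hu⟩ => ⟨h * g⁻¹, by rw [← Module.End.mul_apply, ← map_mul, inv_mul_cancel_right, hu]⟩⟩
          have hLrel : L.relIndex N = (stab ρ b).relIndex N := by
            rw [show L = stab ρ b ⊓ N from inf_comm _ _, Subgroup.inf_relIndex_right]
          have hcop' : (S.relIndex N).Coprime (L.relIndex N) :=
            ((hS ▸ hcop).coprime_dvd_left (hdvd S)).coprime_dvd_right (hLrel ▸ hdvd (stab ρ b))
          have hmul : (S ⊓ L).relIndex L * L.relIndex N = (S ⊓ L).relIndex N :=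
            Subgroup.relIndex_mul_relIndex _ _ _ inf_le_right inf_le_left
          have h1 : S.relIndex N ∣ (S ⊓ L).relIndex N := Subgroup.relIndex_dvd_of_le_left _ inf_le_left
          rw [← hmul, Subgroup.inf_relIndex_right] at h1
          have h2 : S.relIndex N ∣ S.relIndex L := hcop'.dvd_of_dvd_mul_right h1
          have hne : S.relIndex L ≠ 0 := Subgroup.index_ne_zero_of_finite
          refine le_antisymm (Subgroup.relIndex_le_of_le_right (inf_le_left : L ≤ N) Subgroup.index_ne_zero_of_finite) ?_
          exact Nat.le_of_dvd (Nat.pos_of_ne_zero hne) h2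
        have hlin : ∀ v : V, ∀ x ∈ N, ρ x (∑ l : L, ρ (l : H) v) = ∑ l : L, ρ (l : H) v := by
          intro v x hx
          have hv : v ∈ Submodule.span k {u : V | ∃ h : H, ρ h a = u} := hspan ▸ Submodule.mem_top
          induction hv using Submodule.span_induction with
          | mem u hu =>
            obtain ⟨g, rfl⟩ := hu
            exact sum_fixed ρ N L inf_le_left _ (hidx g) hx
          | zero => simp
          | add u w _ _ hu hw => simp only [map_add, Finset.sum_add_distrib, hu, hw]
          | smul c u _ hu => simp only [map_smul, ← Finset.smul_sum, hu]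
        have hbN : ∀ x ∈ N, ρ x b = b := by
          intro x hx
          have := hlin b x hx
          rw [Finset.sum_congr rfl fun (l : L) _ => (l.2.2 : ρ (l : H) b = b), Finset.sum_const, Finset.card_univ,
            ← Nat.cast_smul_eq_nsmul k, map_smul] at this
          exact smul_right_injective V hL0 this
        let b' : W := ⟨b, b, hefix b hbN⟩
        have key : (stab σ a').index ∣ (stab ρ a).index ∧ (stab σ b').index = (stab ρ b).index := by
          rw [← (stab σ b').index_comap_of_surjective (QuotientGroup.mk'_surjective N),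
            ← (stab σ a').index_comap_of_surjective (QuotientGroup.mk'_surjective N)]
          refine ⟨Subgroup.index_dvd_of_le ?_, ?_⟩
          · intro x (hx : ρ x a = a)
            refine Subtype.ext ?_
            show ρ x (e a) = e a
            rw [hecomm, hx]
          · congr 1
            ext x
            exact Subtype.ext_iff
        have h3 := hb b' (key.2 ▸ hcop.coprime_dvd_left key.1) (h : H ⧸ N)
        exact congrArg Subtype.val h3


/-- Let k be a field of prime characteristic p, H a finite p-soluble group and ρ a k-linear representation of H on V. Let a be a vector that is fixed by some Sylow p-subgroup of H and whose H-orbit spans V. Then the space of H-fixed vectors has dimension at most 1, and every vector b whose H-orbit has size coprime to the size of the orbit of a is fixed by H. -/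
theorem result {k V H : Type*} [Field k] (p : ℕ) [Fact p.Prime] [CharP k p] [AddCommGroup V] [Module k V]
    [Group H] [Finite H] (hsol : Cfsg.IsPSolvable p H) (ρ : Representation k H V) (a : V)
    (hfix : ∃ P : Sylow p H, ∀ x : H, x ∈ (P : Subgroup H) → ρ x a = a)
    (hspan : Submodule.span k {u : V | ∃ h : H, ρ h a = u} = ⊤) :
    Module.finrank k ρ.invariants ≤ 1 ∧
    ∀ b : V, (Nat.card {u : V | ∃ h : H, ρ h a = u}).Coprime (Nat.card {u : V | ∃ h : H, ρ h b = u}) → ∀ h : H, ρ h b = b := by
  obtain ⟨h1, h2⟩ := aux (p := p) _ H rfl hsol V ρ a hfix hspan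
  refine ⟨h1, fun b hcop => h2 b ?_⟩
  rwa [card_orbit ρ a (stab ρ a) fun h => Iff.rfl, card_orbit ρ b (stab ρ b) fun h => Iff.rfl] at hcop

end Cfsg.Agent.S4176
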