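import Cfsg.Statements.S4177
import Mathlib

set_option autoImplicit false
open Cfsg

namespace Cfsg.Agent.S4177

/-- Let k be a field whose characteristic does not divide the order of the finite group H (for instance a field of characteristic zero), and ρ a k-linear representation of H on V. Let a be a vector whose H-orbit spans V. Then the space of H-fixed vectors has dimension at most 1, and every vector b whose H-orbit has size coprime to the size of the orbit of a is fixed by H. -/
theorem result {k V H : Type*} [Field k] [AddCommGroup V] [Module k V] [Group H] [Finite H]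
    (hchar : ¬ ringChar k ∣ Nat.card H) (ρ : Representation k H V) (a : V)
    (hspan : Submodule.span k {u : V | ∃ h : H, ρ h a = u} = ⊤) :
    Module.finrank k ρ.invariants ≤ 1 ∧
    ∀ b : V, (Nat.card {u : V | ∃ h : H, ρ h a = u}).Coprime (Nat.card {u : V | ∃ h : H, ρ h b = u}) → ∀ h : H, ρ h b = b := by
  classical
  haveI : Fintype H := Fintype.ofFinite H
  have hmul : ∀ (g h : H) (v : V), ρ (g * h) v = ρ g (ρ h v) := fun g h v => by
    rw [map_mul]; rfl
  have hk0 : ∀ n : ℕ, n ∣ Nat.card H → (n : k) ≠ 0 := fun n hn h0 =>
    hchar (((ringChar.spec k n).1 h0).trans hn)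
  set SH : V →ₗ[k] V := ∑ h : H, ρ h with hSH
  have hSHapp : ∀ v, SH v = ∑ h : H, ρ h v := fun v => by simp [hSH]
  have hSHr : ∀ g v, SH (ρ g v) = SH v := fun g v => by
    rw [hSHapp, hSHapp]
    exact Fintype.sum_equiv (Equiv.mulRight g) _ _ fun h => (hmul h g v).symm
  have hSHl : ∀ g v, ρ g (SH v) = SH v := fun g v => by
    rw [hSHapp, map_sum]
    exact Fintype.sum_equiv (Equiv.mulLeft g) _ _ fun h => (hmul g h v).symm
  constructor
  · -- the averaging map is onto the fixed vectors
    have hrange : ∀ v, SH v ∈ Submodule.span k ({SH a} : Set V) := by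
      intro v
      have hv : v ∈ Submodule.span k {u : V | ∃ h : H, ρ h a = u} := hspan ▸ Submodule.mem_top
      induction hv using Submodule.span_induction with
      | mem x hx => obtain ⟨g, rfl⟩ := hx; rw [hSHr]; exact Submodule.mem_span_singleton_self _
      | zero => rw [map_zero]; exact Submodule.zero_mem _
      | add x y _ _ hx hy => rw [map_add]; exact Submodule.add_mem _ hx hy
      | smul c x _ hx => rw [map_smul]; exact Submodule.smul_mem _ _ hx
    have hle : ρ.invariants ≤ Submodule.span k ({SH a} : Set V) := by
      intro v hv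
      have e : SH v = (Nat.card H : k) • v := by
        rw [hSHapp, Finset.sum_congr rfl fun h _ => hv h, Finset.sum_const, Finset.card_univ,
          Nat.card_eq_fintype_card, Nat.cast_smul_eq_nsmul]
      have := Submodule.smul_mem _ (Nat.card H : k)⁻¹ (hrange v)
      rwa [e, smul_smul, inv_mul_cancel₀ (hk0 _ dvd_rfl), one_smul] at this
    refine (Submodule.finrank_mono hle).trans ?_
    refine (finrank_span_le_card _).trans ?_
    simp
  · intro b hcop h₀
    let stab : V → Subgroup H := fun v =>
      { carrier := {g | ρ g v = v}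
        one_mem' := by simp
        mul_mem' := fun {x y} hx hy => by
          show ρ (x * y) v = v
          rw [hmul, hy, hx]
        inv_mem' := fun {x} hx => by
          show ρ x⁻¹ v = v
          conv_lhs => rw [← hx]
          rw [← hmul, inv_mul_cancel, map_one]; rfl }
    have horb : ∀ v : V, Nat.card {u : V | ∃ h : H, ρ h v = u} = (stab v).index := by
      intro v
      symm
      let f : H ⧸ stab v → {u : V | ∃ h : H, ρ h v = u} :=
        Quotient.lift (fun g : H => ⟨ρ g v, g, rfl⟩) (fun x y hxy => by
          have h' : ρ (x⁻¹ * y) v = v := QuotientGroup.leftRel_apply.1 hxy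
          refine Subtype.ext ?_
          show ρ x v = ρ y v
          conv_lhs => rw [← h']
          rw [← hmul, mul_inv_cancel_left])
      refine Nat.card_eq_of_bijective f ⟨?_, ?_⟩
      · intro p q
        induction p using Quotient.inductionOn with
        | _ x =>
          induction q using Quotient.inductionOn with
          | _ y =>
            intro he
            have he' : ρ x v = ρ y v := congrArg Subtype.val he
            refine Quotient.sound (QuotientGroup.leftRel_apply.2 ?_)
            show ρ (x⁻¹ * y) v = v
            rw [hmul, ← he', ← hmul, inv_mul_cancel, map_one]; rfl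
      · rintro ⟨_, g, rfl⟩
        exact ⟨(g : H ⧸ stab v), rfl⟩
    rw [horb, horb] at hcop
    set A := stab a
    set B := stab b
    -- H = B * A
    have hdec : ∀ g : H, ∃ β ∈ B, ρ g a = ρ β a := by
      let f : B ⧸ A.subgroupOf B → H ⧸ A := Quotient.lift (fun x : B => ((x : H) : H ⧸ A))
        (fun x y hxy => QuotientGroup.eq.2
          (Subgroup.mem_subgroupOf.1 (QuotientGroup.leftRel_apply.1 hxy)))
      have hinj : Function.Injective f := by
        intro p q
        induction p using Quotient.inductionOn with
        | _ x =>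
          induction q using Quotient.inductionOn with
          | _ y =>
            intro he
            have he' : ((x : H) : H ⧸ A) = ((y : H) : H ⧸ A) := he
            exact Quotient.sound (QuotientGroup.leftRel_apply.2
              (Subgroup.mem_subgroupOf.2 (QuotientGroup.eq.1 he')))
      have hdvd : A.index ∣ (A.subgroupOf B).index := by
        refine hcop.dvd_of_dvd_mul_right ?_
        show A.index ∣ A.relIndex B * B.index
        rw [← Subgroup.inf_relIndex_right, Subgroup.relIndex_mul_index inf_le_right]
        exact Subgroup.index_dvd_of_le inf_le_left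
      have hsurj := (hinj.bijective_of_nat_card_le
        (Nat.le_of_dvd (Nat.pos_of_ne_zero Subgroup.index_ne_zero_of_finite) hdvd)).2
      intro g
      obtain ⟨q, hq⟩ := hsurj (g : H ⧸ A)
      induction q using Quotient.inductionOn with
      | _ x =>
        have hx : (x : H)⁻¹ * g ∈ A := QuotientGroup.eq.1 hq
        refine ⟨x, x.2, ?_⟩
        have : g = (x : H) * ((x : H)⁻¹ * g) := by group
        rw [this, hmul, (hx : ρ ((x : H)⁻¹ * g) a = a)]
    set SB : V →ₗ[k] V := ∑ β : B, ρ (β : H) with hSB
    have hSBapp : ∀ v, SB v = ∑ β : B, ρ (β : H) v := fun v => by simp [hSB]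
    have hSBr : ∀ g : H, SB (ρ g a) = SB a := fun g => by
      obtain ⟨β, hβ, e⟩ := hdec g
      rw [e, hSBapp, hSBapp]
      exact Fintype.sum_equiv (Equiv.mulRight (⟨β, hβ⟩ : B)) _ _ fun x => (hmul x β a).symm
    have hgen : ∀ v : V, ∃ c : k, SB v = c • SB a := by
      intro v
      have hv : v ∈ Submodule.span k {u : V | ∃ h : H, ρ h a = u} := hspan ▸ Submodule.mem_top
      induction hv using Submodule.span_induction with
      | mem x hx => obtain ⟨g, rfl⟩ := hx; exact ⟨1, by rw [hSBr, one_smul]⟩
      | zero => exact ⟨0, by simp⟩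
      | add x y _ _ hx hy =>
        obtain ⟨c, hc⟩ := hx; obtain ⟨d, hd⟩ := hy
        exact ⟨c + d, by rw [map_add, hc, hd, add_smul]⟩
      | smul t x _ hx =>
        obtain ⟨c, hc⟩ := hx
        exact ⟨t * c, by rw [map_smul, hc, smul_smul]⟩
    obtain ⟨c, hc⟩ := hgen b
    have hSBb : SB b = (Nat.card B : k) • b := by
      rw [hSBapp, Finset.sum_congr rfl fun (x : B) _ => (x.2 : ρ (x : H) b = b), Finset.sum_const,
        Finset.card_univ, Nat.card_eq_fintype_card, Nat.cast_smul_eq_nsmul]
    have hkey : (Nat.card B : k) • SH a = (Nat.card H : k) • SB a := by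
      have h1 : SB (SH a) = (Nat.card B : k) • SH a := by
        rw [hSBapp, Finset.sum_congr rfl fun (x : B) _ => hSHl (x : H) a, Finset.sum_const,
          Finset.card_univ, Nat.card_eq_fintype_card, Nat.cast_smul_eq_nsmul]
      have h2 : SB (SH a) = (Nat.card H : k) • SB a := by
        rw [hSHapp, map_sum, Finset.sum_congr rfl fun g _ => hSBr g, Finset.sum_const,
          Finset.card_univ, Nat.card_eq_fintype_card, Nat.cast_smul_eq_nsmul]
      rw [← h1, h2]
    have hB0 : (Nat.card B : k) ≠ 0 := hk0 _ B.card_subgroup_dvd_card
    have hH0 : (Nat.card H : k) ≠ 0 := hk0 _ dvd_rfl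
    have hSBa : SB a = ((Nat.card H : k)⁻¹ * (Nat.card B : k)) • SH a := by
      rw [← smul_smul, hkey, smul_smul, inv_mul_cancel₀ hH0, one_smul]
    rw [hSBb, hSBa, smul_smul] at hc
    have hb' : b = ((Nat.card B : k)⁻¹ * (c * ((Nat.card H : k)⁻¹ * (Nat.card B : k)))) • SH a := by
      rw [← smul_smul _ _ (SH a), ← hc, smul_smul, inv_mul_cancel₀ hB0, one_smul]
    rw [hb', map_smul, hSHl]

end Cfsg.Agent.S4177
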