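import Cfsg.Statements.S4178
-- import your own Cfsg.Agent.* helpers here

set_option autoImplicit false
open Cfsg

namespace Cfsg.Agent.S4178

/-- Let F be a finite field with q elements, V a non-zero finite-dimensional F-space of dimension d, H a group of invertible linear maps of V, and R the subgroup of H generated by the elements of H that fix some non-zero vector (have eigenvalue 1). Then the index of R in H is at most q^d − 1; and if H leaves invariant some proper non-zero subspace, the index is at most q^(d/2) − 1. -/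
theorem result {F V : Type*} [Field F] [Fintype F] [AddCommGroup V] [Module F V] [FiniteDimensional F V] [Nontrivial V]
    (H : Subgroup (V ≃ₗ[F] V)) :
    (Subgroup.closure {h : ↥H | ∃ v : V, v ≠ 0 ∧ (h : V ≃ₗ[F] V) v = v}).index ≤ Fintype.card F ^ Module.finrank F V - 1 ∧
    ((∃ W : Submodule F V, W ≠ ⊥ ∧ W ≠ ⊤ ∧ ∀ h ∈ H, ∀ w ∈ W, h w ∈ W) →
      ((Subgroup.closure {h : ↥H | ∃ v : V, v ≠ 0 ∧ (h : V ≃ₗ[F] V) v = v}).index : ℝ) ≤ Real.sqrt ((Fintype.card F : ℝ) ^ Module.finrank F V) - 1) := by
  classical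
  set q := Fintype.card F with hq
  set d := Module.finrank F V with hd
  set S := {h : ↥H | ∃ v : V, v ≠ 0 ∧ (h : V ≃ₗ[F] V) v = v} with hS
  set R := Subgroup.closure S with hR
  have : Finite V := Module.finite_of_finite F
  have := Fintype.ofFinite V
  have hone : 1 < q := Fintype.one_lt_card
  -- a faithful orbit inside an invariant subspace
  have hsub : ∀ W : Submodule F V, W ≠ ⊥ → (∀ h ∈ H, ∀ w ∈ W, h w ∈ W) →
      R.index ≤ q ^ Module.finrank F W - 1 := by
    intro W hW hinv
    obtain ⟨w, hw, hw0⟩ := Submodule.exists_mem_ne_zero_of_ne_bot hW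
    let f : H ⧸ R → {x : W // x ≠ 0} := fun c =>
      ⟨⟨(c.out : V ≃ₗ[F] V) w, hinv _ c.out.2 w hw⟩, fun e =>
        hw0 ((c.out : V ≃ₗ[F] V).map_eq_zero_iff.1 (congrArg Subtype.val e))⟩
    have hf : Function.Injective f := fun c c' e => by
      rw [← QuotientGroup.out_eq' c, ← QuotientGroup.out_eq' c']
      refine QuotientGroup.eq.2 (Subgroup.subset_closure ⟨w, hw0, ?_⟩)
      have e' : (c.out : V ≃ₗ[F] V) w = (c'.out : V ≃ₗ[F] V) w :=
        congrArg (fun x : {x : W // x ≠ 0} => ((x : W) : V)) e
      show (c.out : V ≃ₗ[F] V).symm ((c'.out : V ≃ₗ[F] V) w) = w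
      rw [← e', LinearEquiv.symm_apply_apply]
    have := Nat.card_le_card_of_injective f hf
    rw [Nat.card_eq_fintype_card (α := {x : W // x ≠ 0}), Fintype.card_subtype_compl,
      Fintype.card_subtype_eq, Module.card_eq_pow_finrank (K := F)] at this
    exact this
  refine ⟨?_, ?_⟩
  · have := hsub ⊤ top_ne_bot fun h _ w _ => Submodule.mem_top
    rwa [finrank_top] at this
  · rintro ⟨W, hW0, hW1, hinv⟩
    -- the quotient
    have hquo : R.index ≤ q ^ (d - Module.finrank F W) - 1 := by
      obtain ⟨u, hu⟩ : ∃ u, u ∉ W := by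
        by_contra! h
        exact hW1 (Submodule.eq_top_iff'.2 h)
      let f : H ⧸ R → {x : V ⧸ W // x ≠ 0} := fun c =>
        ⟨Submodule.Quotient.mk ((c.out : V ≃ₗ[F] V) u), fun e => hu (by
          have h1 := hinv _ (c.out⁻¹).2 _ ((Submodule.Quotient.mk_eq_zero W).1 e)
          have h2 : ((c.out⁻¹ : H) : V ≃ₗ[F] V) ((c.out : V ≃ₗ[F] V) u) = u :=
            (c.out : V ≃ₗ[F] V).symm_apply_apply u
          rwa [h2] at h1)⟩
      have hf : Function.Injective f := fun c c' e => by
        rw [← QuotientGroup.out_eq' c, ← QuotientGroup.out_eq' c']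
        refine QuotientGroup.eq.2 (Subgroup.subset_closure ?_)
        set g := c.out⁻¹ * c'.out with hg
        have e' : (c'.out : V ≃ₗ[F] V) u - (c.out : V ≃ₗ[F] V) u ∈ W :=
          (Submodule.Quotient.eq W).1 (congrArg Subtype.val e).symm
        have hmem : (g : V ≃ₗ[F] V) u - u ∈ W := by
          have h1 := hinv _ (c.out⁻¹).2 _ e'
          have h2 : ((c.out⁻¹ : H) : V ≃ₗ[F] V) ((c.out : V ≃ₗ[F] V) u) = u :=
            (c.out : V ≃ₗ[F] V).symm_apply_apply u
          rw [map_sub, h2] at h1
          exact h1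
        by_contra hfix
        set T : V →ₗ[F] V := ((g : V ≃ₗ[F] V) : V →ₗ[F] V) - LinearMap.id with hT
        have hinj : Function.Injective T := by
          rw [← LinearMap.ker_eq_bot, LinearMap.ker_eq_bot']
          intro v hv
          by_contra hv0
          exact hfix ⟨v, hv0, sub_eq_zero.1 hv⟩
        have hTW : ∀ w ∈ W, T w ∈ W := fun w hw => W.sub_mem (hinv _ g.2 w hw) hw
        obtain ⟨⟨w, hw⟩, hwe⟩ := (LinearMap.injective_iff_surjective (f := T.restrict hTW)).1
          (fun a b h => Subtype.ext (hinj (congrArg Subtype.val h))) ⟨_, hmem⟩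
        have : w = u := hinj ((congrArg Subtype.val hwe).trans rfl)
        exact hu (this ▸ hw)
      have := Fintype.ofFinite (V ⧸ W)
      have h := Nat.card_le_card_of_injective f hf
      rw [Nat.card_eq_fintype_card (α := {x : V ⧸ W // x ≠ 0}), Fintype.card_subtype_compl,
        Fintype.card_subtype_eq, Module.card_eq_pow_finrank (K := F),
        show Module.finrank F (V ⧸ W) = d - Module.finrank F W by
          have := W.finrank_quotient_add_finrank; omega] at h
      exact h
    have hWd := W.finrank_le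
    obtain ⟨k, hk, hk'⟩ : ∃ k, 2 * k ≤ d ∧ R.index ≤ q ^ k - 1 := by
      rcases le_total (2 * Module.finrank F W) d with h | h
      · exact ⟨_, h, hsub W hW0 hinv⟩
      · exact ⟨_, by omega, hquo⟩
    have h1 : (R.index : ℝ) + 1 ≤ (q : ℝ) ^ k := by
      have : R.index + 1 ≤ q ^ k := by
        have := Nat.one_le_pow k q (by omega)
        omega
      exact_mod_cast this
    have h2 : (q : ℝ) ^ k ≤ Real.sqrt ((q : ℝ) ^ d) := by
      refine Real.le_sqrt_of_sq_le ?_
      rw [← pow_mul]
      exact pow_le_pow_right₀ (by exact_mod_cast hone.le) (by omega)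
    linarith

end Cfsg.Agent.S4178
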