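import Cfsg.Statements.S4181
import Cfsg.Agent.SylowFix.Ratio

set_option autoImplicit false
open Cfsg
open Cfsg.Agent

namespace Cfsg.Agent.S4181

/-- Let p be a prime and G a finite group generated by its elements of p-power order, and let H be a proper subgroup of G containing a Sylow p-subgroup of G. Then 2p − 1 times the number of Sylow p-subgroups of H is at most p − 1 times the number of Sylow p-subgroups of G. -/
theorem result {G : Type*} [Group G] [Finite G] (p : ℕ) [Fact p.Prime] (hgen : Subgroup.closure {g : G | ∃ k : ℕ, orderOf g = p ^ k} = ⊤)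
    (H : Subgroup G) (hH : H ≠ ⊤) (P : Sylow p G) (hP : (P : Subgroup G) ≤ H) :
    (2 * p - 1) * Nat.card (Sylow p ↥H) ≤ (p - 1) * Nat.card (Sylow p G) := by
  classical
  let α : G ⧸ H := ((1 : G) : G ⧸ H)
  have hfix : ∀ x : G, x • α = α ↔ x ∈ H := fun x => by
    rw [← MulAction.mem_stabilizer_iff, MulAction.stabilizer_quotient]
  have hiff : ∀ Q : Sylow p G, Q ∈ SylowFix.fixers p G α ↔ (Q : Subgroup G) ≤ H := fun Q =>
    ⟨fun h x hx => (hfix x).mp (h x hx), fun h x hx => (hfix x).mpr (h hx)⟩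
  have hne : SylowFix.fixers p G α ≠ Set.univ := by
    intro hu
    apply hH
    rw [eq_top_iff, ← hgen, Subgroup.closure_le]
    rintro g ⟨k, hk⟩
    obtain ⟨Q, hQ⟩ := (IsPGroup.of_card (n := k) (by rw [Nat.card_zpowers, hk])
      : IsPGroup p (Subgroup.zpowers g)).exists_le_sylow
    exact (hiff Q).mp (hu ▸ Set.mem_univ Q) (hQ (Subgroup.mem_zpowers g))
  have hcard : Nat.card (SylowFix.fixers p G α) = Nat.card (Sylow p ↥H) := by
    refine Nat.card_congr (Equiv.ofBijective
      (fun Q => (Q : Sylow p G).subtype ((hiff _).mp Q.2)) ⟨?_, ?_⟩)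
    · rintro ⟨Q, hQ⟩ ⟨R, hR⟩ he
      have h1 := congrArg (fun S : Sylow p ↥H => (S : Subgroup ↥H)) he
      simp only [Sylow.coe_subtype] at h1
      have h2 := Subgroup.subgroupOf_inj.mp h1
      rw [inf_eq_left.mpr ((hiff _).mp hQ), inf_eq_left.mpr ((hiff _).mp hR)] at h2
      exact Subtype.ext (Sylow.ext h2)
    · intro S
      obtain ⟨R, hR⟩ := SylowFix.exists_lift hP S
      have hRH : (R : Subgroup G) ≤ H := hR ▸ Subgroup.map_subtype_le _
      refine ⟨⟨R, (hiff R).mpr hRH⟩, Sylow.ext ?_⟩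
      show ((R.subtype hRH : Sylow p ↥H) : Subgroup ↥H) = (S : Subgroup ↥H)
      rw [Sylow.coe_subtype, hR]
      exact Subgroup.comap_map_eq_self_of_injective H.subtype_injective _
  rw [← hcard]
  exact SylowFix.card_fixers_mul_le hne

end Cfsg.Agent.S4181
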