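import Cfsg.Statements.S4182

set_option autoImplicit false
open Cfsg

namespace Cfsg.Agent.S4182

open Subgroup

variable {G : Type*} [Group G] [Finite G] {p : ℕ} [hp : Fact p.Prime] {ι : Type*} [Fintype ι]

/-- The `p`-elements. -/
def pel (p : ℕ) (G : Type*) [Group G] : Set G := {g | ∃ k : ℕ, orderOf g = p ^ k}

theorem pgroup_cover {P : Subgroup G} (hP : IsPGroup p P) (K : ι → Subgroup G)
    (hι : Fintype.card ι ≤ p) (hcov : ∀ g ∈ P, ∃ i, g ∈ K i) : ∃ i, P ≤ K i := by
  classical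
  have := Fintype.ofFinite G
  by_contra! hnot
  let U : ι → Finset G := fun i => Finset.univ.filter fun g => g ∈ P ⊓ K i ∧ g ≠ 1
  have hcard : ∀ i, (U i).card + 1 = Nat.card (P ⊓ K i : Subgroup G) := by
    intro i
    have h : U i = (Finset.univ.filter fun g => g ∈ P ⊓ K i).erase 1 := by
      ext g; simp [U, and_comm]
    rw [h, Finset.card_erase_of_mem (by simp [one_mem]), Nat.sub_add_cancel (Finset.card_pos.2 ⟨1, by simp [one_mem]⟩),
      Nat.card_eq_fintype_card, Fintype.card_subtype]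
  have hle : ∀ i, p * ((U i).card + 1) ≤ Nat.card P := by
    intro i
    rw [hcard]
    obtain ⟨n, hn⟩ := IsPGroup.iff_card.1 hP
    obtain ⟨m, hm, hm'⟩ := (Nat.dvd_prime_pow hp.out).1 (hn ▸ card_dvd_of_le (inf_le_left : P ⊓ K i ≤ P))
    rw [hn, hm', ← pow_succ']
    refine Nat.pow_le_pow_right hp.out.pos ?_
    by_contra h
    have : m = n := by omega
    refine hnot i fun g hg => ?_
    have he := eq_of_le_of_card_ge (inf_le_left : P ⊓ K i ≤ P) (by rw [hn, hm', this])
    rw [← he] at hg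
    exact hg.2
  have hsub : (Finset.univ.filter fun g => g ∈ P).erase 1 ⊆ Finset.univ.biUnion U := by
    intro g hg
    simp only [Finset.mem_erase, Finset.mem_filter, Finset.mem_univ, true_and] at hg
    obtain ⟨i, hi⟩ := hcov g hg.2
    exact Finset.mem_biUnion.2 ⟨i, Finset.mem_univ _, by simp [U, hg.1, hg.2, hi]⟩
  have h1 := (Finset.card_le_card hsub).trans Finset.card_biUnion_le
  rw [Finset.card_erase_of_mem (by simp [one_mem]),
    show (Finset.univ.filter fun g => g ∈ P).card = Nat.card P by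
      rw [Nat.card_eq_fintype_card, Fintype.card_subtype]] at h1
  have h2 : ∑ i, p * ((U i).card + 1) ≤ ∑ _i : ι, Nat.card P := Finset.sum_le_sum fun i _ => hle i
  rw [← Finset.mul_sum, Finset.sum_add_distrib, Finset.sum_const, Finset.sum_const, Finset.card_univ,
    smul_eq_mul, smul_eq_mul, mul_one] at h2
  have h3 := Nat.mul_le_mul_right (Nat.card P) hι
  have h4 : ∑ i, (U i).card + Fintype.card ι ≤ Nat.card P :=
    Nat.le_of_mul_le_mul_left (h2.trans h3) hp.out.pos
  have hpos : 0 < Nat.card P := Nat.card_pos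
  obtain h0 | h0 : Fintype.card ι = 0 ∨ 1 ≤ Fintype.card ι := by omega
  · obtain ⟨i, -⟩ := hcov 1 P.one_mem
    exact (Fintype.card_eq_zero_iff.1 h0).false i
  · rcases Nat.lt_or_ge 1 (Fintype.card ι) with h | h
    · omega
    · obtain ⟨i, hi⟩ := Fintype.card_eq_one_iff.1 (le_antisymm h h0)
      refine hnot i fun g hg => ?_
      obtain ⟨j, hj⟩ := hcov g hg
      rwa [hi j] at hj

theorem key (K : ι → Subgroup G) (hι : Fintype.card ι ≤ p) (hcov : ∀ g ∈ pel p G, ∃ i, g ∈ K i)
    (n : ℕ) : ∀ H : Subgroup G, Nat.card H = n → H = closure (pel p G ∩ H) → ∃ i, H ≤ K i := by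
  classical
  induction n using Nat.strong_induction_on with
  | _ n ih =>
  intro H hn hgen
  by_contra! hnot
  let L : ι → Subgroup G := fun i => closure (pel p G ∩ H ∩ K i)
  have hLH : ∀ i, L i ≤ H := fun i => (closure_le _).2 fun g hg => hg.1.2
  have hLK : ∀ i, L i ≤ K i := fun i => (closure_le _).2 fun g hg => hg.2
  have hLne : ∀ i, L i ≠ H := fun i h => hnot i (h ▸ hLK i)
  have habs : ∀ M : Subgroup G, M ≤ H → M ≠ H → M = closure (pel p G ∩ M) → ∃ i, M ≤ L i := by
    intro M hMH hne hM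
    have hlt : Nat.card M < n := by
      rw [← hn]
      exact lt_of_le_of_ne (Nat.le_of_dvd Nat.card_pos (card_dvd_of_le hMH))
        fun e => hne (eq_of_le_of_card_ge hMH e.ge)
    obtain ⟨i, hi⟩ := ih _ hlt M rfl hM
    refine ⟨i, ?_⟩
    rw [hM]
    exact closure_mono fun g hg => ⟨⟨hg.1, hMH hg.2⟩, hi hg.2⟩
  let 𝓛 : Finset (Subgroup G) := (Finset.univ.image L).filter fun A => ∀ i, A ≤ L i → L i ≤ A
  have hmax : ∀ M, (∃ i, M ≤ L i) → ∃ A ∈ 𝓛, M ≤ A := by
    rintro M ⟨i, hi⟩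
    obtain ⟨A, hA, hAmax⟩ := Set.Finite.exists_maximal (Set.toFinite {A | A ∈ Set.range L ∧ M ≤ A})
      ⟨L i, ⟨i, rfl⟩, hi⟩
    obtain ⟨⟨j, rfl⟩, hMj⟩ := hA
    exact ⟨L j, Finset.mem_filter.2 ⟨Finset.mem_image_of_mem _ (Finset.mem_univ j),
      fun k hk => hAmax ⟨⟨k, rfl⟩, hMj.trans hk⟩ hk⟩, hMj⟩
  -- conjugation by elements of `H`
  have hpel : ∀ g x : G, x ∈ pel p G → g * x * g⁻¹ ∈ pel p G := by
    rintro g x ⟨k, hk⟩
    exact ⟨k, by rw [← hk]; exact orderOf_injective (MulAut.conj g).toMonoidHom (MulAut.conj g).injective x⟩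
  have hperm : ∀ h ∈ H, ∀ A ∈ 𝓛, A.map (MulAut.conj h).toMonoidHom ∈ 𝓛 := by
    intro h hh A hA
    have step : ∀ h ∈ H, ∀ i, ∃ j, (L i).map (MulAut.conj h).toMonoidHom ≤ L j := by
      intro h hh i
      refine habs _ ?_ ?_ ?_
      · rintro _ ⟨x, hx, rfl⟩
        exact mul_mem (mul_mem hh (hLH i hx)) (inv_mem hh)
      · intro e
        refine hLne i (eq_of_le_of_card_ge (hLH i) ?_)
        have : Nat.card ((L i).map (MulAut.conj h).toMonoidHom) = Nat.card (L i) := card_map_of_injective (MulAut.conj h).injective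
        rw [e] at this
        exact this.le
      · refine le_antisymm ?_ ((closure_le _).2 fun g hg => hg.2)
        rw [MonoidHom.map_closure]
        refine closure_mono ?_
        rintro _ ⟨x, hx, rfl⟩
        refine ⟨hpel h x hx.1.1, ?_⟩
        exact subset_closure ⟨x, hx, rfl⟩
    obtain ⟨hAim, hAmax⟩ := Finset.mem_filter.1 hA
    obtain ⟨i, -, rfl⟩ := Finset.mem_image.1 hAim
    obtain ⟨B, hB, hle⟩ := hmax _ (step h hh i)
    obtain ⟨hBim, -⟩ := Finset.mem_filter.1 hB
    obtain ⟨j, -, rfl⟩ := Finset.mem_image.1 hBim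
    obtain ⟨k, hk⟩ := step h⁻¹ (inv_mem hh) j
    have h1 : L i ≤ (L j).map (MulAut.conj h⁻¹).toMonoidHom := fun x hx =>
      ⟨h * x * h⁻¹, hle ⟨x, hx, rfl⟩, by simp [mul_assoc]⟩
    have h2 := hAmax k (h1.trans hk)
    have h3 : (L i).map (MulAut.conj h).toMonoidHom = L j := by
      refine le_antisymm hle fun x hx => ?_
      exact ⟨h⁻¹ * x * h, h2 (hk ⟨x, hx, by simp⟩), by simp [mul_assoc]⟩
    rw [h3]; exact hB
  have hcard : 𝓛.card ≤ p :=
    (Finset.card_filter_le _ _).trans (Finset.card_image_le.trans (by simpa using hι))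
  -- every `p`-element fixes every member
  have hfix : ∀ x ∈ pel p G, x ∈ H → ∀ A ∈ 𝓛, A.map (MulAut.conj x).toMonoidHom = A := by
    intro x hxp hxH A hA
    obtain ⟨i, hi⟩ := hcov x hxp
    obtain ⟨B, hB, hle⟩ := hmax (L i) ⟨i, le_rfl⟩
    have hxB : x ∈ B := hle (subset_closure ⟨⟨hxp, hxH⟩, hi⟩)
    let f : Subgroup G → Subgroup G := fun C => C.map (MulAut.conj x).toMonoidHom
    have hfB : f B = B := by
      refine eq_of_le_of_card_ge ?_ (card_map_of_injective (MulAut.conj x).injective).ge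
      rintro _ ⟨y, hy, rfl⟩
      exact mul_mem (mul_mem hxB hy) (inv_mem hxB)
    have hiter : ∀ m : ℕ, f^[m] A = A.map (MulAut.conj (x ^ m)).toMonoidHom := by
      intro m
      induction m with
      | zero => ext y; simp
      | succ m ihm =>
        rw [Function.iterate_succ_apply', ihm]
        simp only [f, map_map]
        congr 1
        ext y
        simp [pow_succ', mul_assoc]
    obtain ⟨k, hk⟩ := hxp
    have hper : Function.IsPeriodicPt f (p ^ k) A := by
      show f^[p ^ k] A = A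
      rw [hiter, ← hk, pow_orderOf_eq_one]
      ext y; simp
    have hmem : ∀ m, f^[m] A ∈ 𝓛 := fun m => by
      rw [hiter]; exact hperm _ (pow_mem hxH m) A hA
    by_cases hAB : A = B
    · rw [hAB]; exact hfB
    obtain ⟨m, -, hm⟩ := (Nat.dvd_prime_pow hp.out).1 hper.minimalPeriod_dvd
    rcases Nat.eq_zero_or_pos m with hm0 | hm0
    · rw [hm0, pow_zero, Function.minimalPeriod_eq_one_iff_isFixedPt] at hm
      exact hm
    exfalso
    have hlow : p ≤ Function.minimalPeriod f A := by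
      rw [hm]; exact Nat.le_self_pow hm0.ne' p
    have hinj : Set.InjOn (fun m => f^[m] A) (Finset.range p : Set ℕ) := fun a ha b hb hab =>
      Function.iterate_injOn_Iio_minimalPeriod ((Finset.mem_range.1 ha).trans_le hlow)
        ((Finset.mem_range.1 hb).trans_le hlow) hab
    have hsub : (Finset.range p).image (fun m => f^[m] A) ⊆ 𝓛.erase B := by
      intro C hC
      obtain ⟨m', hm', rfl⟩ := Finset.mem_image.1 hC
      refine Finset.mem_erase.2 ⟨fun e => hAB ?_, hmem m'⟩
      have hAeq : f^[p ^ k - m' % p ^ k + m'] A = A := by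
        have : p ^ k ∣ p ^ k - m' % p ^ k + m' := ⟨1 + m' / p ^ k, by
          have h1 := Nat.mod_add_div m' (p ^ k)
          have h2 := Nat.mod_lt m' (pow_pos hp.out.pos k)
          rw [Nat.mul_add, mul_one]
          omega⟩
        exact (Function.IsPeriodicPt.trans_dvd hper this)
      rw [Function.iterate_add_apply, e, Function.iterate_fixed hfB] at hAeq
      exact hAeq.symm
    have := Finset.card_le_card hsub
    rw [Finset.card_image_of_injOn hinj, Finset.card_range, Finset.card_erase_of_mem hB] at this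
    have := hp.out.pos
    omega
  -- conclusion
  obtain ⟨P⟩ : Nonempty (Sylow p H) := inferInstance
  set P' : Subgroup G := (P : Subgroup H).map H.subtype with hP'
  have hPH : P' ≤ H := map_subtype_le _
  have hPp : IsPGroup p P' := P.2.map _
  have hPgen : P' = closure (pel p G ∩ P') := by
    refine le_antisymm ?_ ((closure_le _).2 fun g hg => hg.2)
    intro g hg
    have hgp : g ∈ pel p G := by
      obtain ⟨k, hk⟩ := IsPGroup.iff_orderOf.1 hPp ⟨g, hg⟩
      exact ⟨k, by rw [← hk, ← Subgroup.orderOf_coe]⟩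
    have hmem : g ∈ pel p G ∩ (P' : Set G) := ⟨hgp, hg⟩
    exact Subgroup.subset_closure hmem
  by_cases hPeq : P' = H
  · have hHp : IsPGroup p H := hPeq ▸ hPp
    obtain ⟨i, hi⟩ := pgroup_cover hHp K hι fun g hg => hcov g (by
      obtain ⟨k, hk⟩ := IsPGroup.iff_orderOf.1 hHp ⟨g, hg⟩
      exact ⟨k, by rw [← hk, ← Subgroup.orderOf_coe]⟩)
    exact hnot i hi
  obtain ⟨A, hA, hPA⟩ := hmax P' (habs P' hPH hPeq hPgen)
  obtain ⟨i, -, rfl⟩ := Finset.mem_image.1 (Finset.mem_filter.1 hA).1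
  have hnorm : H ≤ normalizer (L i : Set G) := by
    rw [hgen, closure_le]
    intro x hx
    have h := hfix x hx.1 hx.2 _ hA
    rw [SetLike.mem_coe, mem_normalizer_iff]
    intro y
    conv_rhs => rw [← h]
    rw [mem_map_equiv, MulAut.conj_symm_apply]
    simp [mul_assoc]
  have hLn : ((L i).subgroupOf H).Normal := normal_subgroupOf_of_le_normalizer hnorm
  have hidx : ¬ p ∣ ((L i).subgroupOf H).index := fun h => P.not_dvd_index (h.trans
    (index_dvd_of_le fun g hg => hPA ⟨g, hg, rfl⟩))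
  refine hLne i (le_antisymm (hLH i) ?_)
  conv_lhs => rw [hgen]
  refine (closure_le _).2 fun g hg => ?_
  obtain ⟨k, hk⟩ := hg.1
  have h1 : orderOf (((⟨g, hg.2⟩ : H)) : H ⧸ (L i).subgroupOf H) ∣ p ^ k := by
    refine (orderOf_map_dvd (QuotientGroup.mk' _) _).trans ?_
    rw [Subgroup.orderOf_mk, hk]
  obtain ⟨j, -, hj⟩ := (Nat.dvd_prime_pow hp.out).1 h1
  have hj0 : j = 0 := by
    by_contra hj0
    refine hidx ?_
    rw [index_eq_card]
    exact (dvd_pow_self p hj0).trans (hj ▸ orderOf_dvd_natCard _)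
  rw [hj0, pow_zero, orderOf_eq_one_iff] at hj
  exact mem_subgroupOf.1 ((QuotientGroup.eq_one_iff _).1 hj)

theorem result {G : Type*} [Group G] [Finite G] (p : ℕ) [Fact p.Prime] (hgen : Subgroup.closure {g : G | ∃ k : ℕ, orderOf g = p ^ k} = ⊤)
    {ι : Type*} [Fintype ι] (K : ι → Subgroup G) (hK : ∀ i, K i ≠ ⊤)
    (hcov : ∀ g : G, (∃ k : ℕ, orderOf g = p ^ k) → ∃ i, g ∈ K i) :
    p + 1 ≤ Fintype.card ι := by
  by_contra h
  obtain ⟨i, hi⟩ := key K (by omega) hcov _ ⊤ rfl (by
    rw [Subgroup.coe_top, Set.inter_univ]; exact hgen.symm)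
  exact hK i (top_le_iff.1 hi)

end Cfsg.Agent.S4182
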