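import Mathlib
import Cfsg.Statements.S4184
-- import your own Cfsg.Agent.* helpers here

set_option autoImplicit false
open Cfsg

namespace Cfsg.Agent.S4184

universe u

local notation "C[" x "]" => Subgroup.centralizer ({x} : Set _)

theorem mem_cent {G : Type*} [Group G] {x g : G} : g ∈ C[x] ↔ Commute g x :=
  Subgroup.mem_centralizer_singleton_iff

/-- The class size. -/
noncomputable def ind {G : Type*} [Group G] (x : G) : ℕ := (C[x] : Subgroup G).index

theorem ind_conj {G : Type*} [Group G] (g x : G) : ind (g * x * g⁻¹) = ind x := by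
  have e : (C[g * x * g⁻¹] : Subgroup G) =
      (C[x] : Subgroup G).map (MulAut.conj g).toMonoidHom := by
    ext u
    constructor
    · intro hu
      refine ⟨g⁻¹ * u * g, mem_cent.2 ?_, by simp [mul_assoc]⟩
      have h : u * (g * x * g⁻¹) = g * x * g⁻¹ * u := mem_cent.1 hu
      change g⁻¹ * u * g * x = x * (g⁻¹ * u * g)
      calc g⁻¹ * u * g * x = g⁻¹ * (u * (g * x * g⁻¹)) * g := by group
        _ = g⁻¹ * (g * x * g⁻¹ * u) * g := by rw [h]
        _ = x * (g⁻¹ * u * g) := by group
    · rintro ⟨v, hv, rfl⟩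
      exact mem_cent.2 ((mem_cent.1 hv).map (MulAut.conj g).toMonoidHom)
  rw [ind, ind, e]
  exact Subgroup.index_map_equiv _ (MulAut.conj g)

/-- The value of `ind` is full on a set of primes. -/
def Full {G : Type*} [Group G] (S : Set ℕ) (N : ℕ) (x : G) : Prop :=
  ∀ p ∈ S, (ind x).factorization p = N.factorization p

/-- Properties of class sizes of a group with disconnected prime graph. -/
structure Split (G : Type*) [Group G] (S : Set ℕ) (N : ℕ) : Prop where
  pos : 0 < N
  dvd : ∀ g : G, g ≠ 1 → ind g ∣ N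
  ne : ∀ g : G, g ≠ 1 → ind g ≠ N
  full : ∀ g : G, g ≠ 1 → Full S N g ∨ Full Sᶜ N g
  attained : ∀ p : ℕ, p.Prime → p ∣ N → ∃ g : G, g ≠ 1 ∧ (ind g).factorization p = N.factorization p

variable {G : Type*} [Group G] [Finite G]

theorem exists_central {p : ℕ} [hp : Fact p.Prime] (P : Sylow p G) (hd : p ∣ Nat.card G) :
    ∃ z : G, z ≠ 1 ∧ z ∈ (P : Subgroup G) ∧ (∀ u ∈ (P : Subgroup G), Commute u z) ∧
      (ind z).factorization p = 0 := by
  have hne : (P : Subgroup G) ≠ ⊥ := P.ne_bot_of_dvd_card hd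
  haveI : Nontrivial (P : Subgroup G) := (Subgroup.nontrivial_iff_ne_bot _).mpr hne
  haveI := P.2.center_nontrivial
  obtain ⟨⟨⟨z, hzP⟩, hzc⟩, hz1⟩ := exists_ne (1 : Subgroup.center ↥(P : Subgroup G))
  have hcomm : ∀ u ∈ (P : Subgroup G), Commute u z := fun u hu =>
    congrArg Subtype.val (Subgroup.mem_center_iff.mp hzc ⟨u, hu⟩)
  refine ⟨z, fun e => hz1 (by subst e; rfl), hzP, hcomm, ?_⟩
  apply Nat.factorization_eq_zero_of_not_dvd
  intro h
  exact P.not_dvd_index
    (h.trans (Subgroup.index_dvd_of_le fun u hu => mem_cent.2 (hcomm u hu)))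

namespace Split

variable {S : Set ℕ} {N : ℕ}

theorem not_both (hs : Split G S N) {g : G} (hg : g ≠ 1) (hA : Full S N g) (hB : Full Sᶜ N g) :
    False := by
  refine hs.ne g hg (Nat.eq_of_factorization_eq Subgroup.index_ne_zero_of_finite hs.pos.ne' ?_)
  intro p
  by_cases hp : p ∈ S
  · exact hA p hp
  · exact hB p hp

theorem symm (hs : Split G S N) : Split G Sᶜ N where
  pos := hs.pos
  dvd := hs.dvd
  ne := hs.ne
  full := fun g hg => by rw [compl_compl]; exact (hs.full g hg).symm
  attained := hs.attained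

theorem le (hs : Split G S N) {g : G} (hg : g ≠ 1) (p : ℕ) :
    (ind g).factorization p ≤ N.factorization p :=
  (Nat.factorization_le_iff_dvd Subgroup.index_ne_zero_of_finite hs.pos.ne').mpr (hs.dvd g hg) p

theorem mono (hs : Split G S N) {T : Set ℕ} {x w : G} (hw : w ≠ 1) (hx : Full T N x)
    (h : (C[w] : Subgroup G) ≤ C[x]) : Full T N w := by
  intro p hp
  refine le_antisymm (hs.le hw p) ?_
  rw [← hx p hp]
  exact (Nat.factorization_le_iff_dvd Subgroup.index_ne_zero_of_finite
    Subgroup.index_ne_zero_of_finite).mpr (Subgroup.index_dvd_of_le h) p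

theorem no_mixed (hs : Split G S N) {x y : G} (hx : x ≠ 1) (hc : Commute x y)
    (hco : (orderOf x).Coprime (orderOf y)) (hA : Full S N x) (hB : Full Sᶜ N y) : False := by
  have key : ∀ a b : G, Commute a b → (orderOf a).Coprime (orderOf b) →
      (C[a * b] : Subgroup G) ≤ C[a] := by
    intro a b hab hcab
    obtain ⟨k, hk⟩ := exists_pow_eq_self_of_coprime hcab.symm
    intro u hu
    refine mem_cent.2 ?_
    have h1 : (a * b) ^ orderOf b = a ^ orderOf b := by
      rw [hab.mul_pow, pow_orderOf_eq_one, mul_one]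
    rw [← hk, ← h1]
    exact ((mem_cent.1 hu).pow_right _).pow_right _
  have h1 : (C[x * y] : Subgroup G) ≤ C[x] := key x y hc hco
  have h2 : (C[x * y] : Subgroup G) ≤ C[y] := by rw [hc.eq]; exact key y x hc.symm hco.symm
  have hne : x * y ≠ 1 := by
    intro e
    have e2 : y = x⁻¹ := eq_inv_of_mul_eq_one_right e
    rw [e2, orderOf_inv, Nat.coprime_self] at hco
    exact hx (orderOf_eq_one_iff.mp hco)
  exact hs.not_both hne (hs.mono hne hA h1) (hs.mono hne hB h2)

theorem dvd_card (hs : Split G S N) {q : ℕ} (hq : q.Prime) (hqN : q ∣ N) : q ∣ Nat.card G := by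
  obtain ⟨g, _, hg⟩ := hs.attained q hq hqN
  exact (Nat.dvd_of_factorization_pos
    (hg ▸ (hq.factorization_pos_of_dvd hs.pos.ne' hqN).ne')).trans (Subgroup.index_dvd_card _)

/-- If a central element of a Sylow `p`-subgroup is full outside `S`,
then the `p`-part of the order is at most that of `N`. -/
theorem upper (hs : Split G S N) {p : ℕ} [hp : Fact p.Prime] (P : Sylow p G) {z : G} (hz1 : z ≠ 1)
    (hzP : z ∈ (P : Subgroup G)) (hzc : ∀ u ∈ (P : Subgroup G), Commute u z)
    (hz0 : (ind z).factorization p = 0) (hzB : Full Sᶜ N z)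
    {q : ℕ} (hq : q.Prime) (hqS : q ∉ S) (hqN : q ∣ N) :
    (Nat.card G).factorization p ≤ N.factorization p := by
  by_contra hlt
  rw [not_le] at hlt
  have hpq : p ≠ q := by
    rintro rfl
    have := hzB p hqS
    rw [hz0] at this
    exact (hq.factorization_pos_of_dvd hs.pos.ne' hqN).ne' this.symm
  haveI : Fact q.Prime := ⟨hq⟩
  obtain ⟨y, hy1, hyQ, -, hy0⟩ :=
    exists_central (Classical.arbitrary (Sylow q G)) (hs.dvd_card hq hqN)
  have hyA : Full S N y := (hs.full y hy1).resolve_right fun hB => by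
    have := hB q hqS
    rw [hy0] at this
    exact (hq.factorization_pos_of_dvd hs.pos.ne' hqN).ne' this.symm
  obtain ⟨j, hj⟩ := (IsPGroup.iff_orderOf.mp (Classical.arbitrary (Sylow q G)).2) ⟨y, hyQ⟩
  rw [← Subgroup.orderOf_coe] at hj
  have hordy : orderOf y = q ^ j := hj
  have full_at : ∀ w : G, w ≠ 1 → Full S N w →
      (ind w).factorization p = N.factorization p := by
    intro w hw hA
    by_cases hpS : p ∈ S
    · exact hA p hpS
    · have hN0 : N.factorization p = 0 := by rw [← hzB p hpS, hz0]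
      have := hs.le hw p
      omega
  have hCy : ((Nat.card ↥(C[y] : Subgroup G))).factorization p
      = (Nat.card G).factorization p - N.factorization p := by
    rw [← (C[y] : Subgroup G).card_mul_index,
      Nat.factorization_mul Nat.card_pos.ne' Subgroup.index_ne_zero_of_finite, Finsupp.add_apply,
      ← full_at y hy1 hyA, ind, Nat.add_sub_cancel]
  obtain ⟨R₀⟩ : Nonempty (Sylow p ↥(C[y] : Subgroup G)) := inferInstance
  set R : Subgroup G := (R₀ : Subgroup ↥(C[y] : Subgroup G)).map (C[y] : Subgroup G).subtype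
    with hR
  have hRcard : Nat.card R = p ^ ((Nat.card ↥(C[y] : Subgroup G))).factorization p := by
    rw [hR, Subgroup.card_map_of_injective (Subgroup.subtype_injective _),
      R₀.card_eq_multiplicity]
  have hRy : R ≤ C[y] := Subgroup.map_subtype_le _
  have hRp : IsPGroup p R := IsPGroup.of_card hRcard
  haveI : Nontrivial R := by
    rw [← Finite.one_lt_card_iff_nontrivial, hRcard]
    exact Nat.one_lt_pow (by omega) hp.out.one_lt
  haveI := hRp.center_nontrivial
  obtain ⟨⟨⟨x, hxR⟩, hxc⟩, hx1'⟩ := exists_ne (1 : Subgroup.center R)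
  have hx1 : x ≠ 1 := fun e => hx1' (by subst e; rfl)
  have hxcomm : ∀ u ∈ R, Commute u x := fun u hu =>
    congrArg Subtype.val (Subgroup.mem_center_iff.mp hxc ⟨u, hu⟩)
  have cop : ∀ (Q : Subgroup G), IsPGroup p Q → ∀ w ∈ Q, (orderOf w).Coprime (orderOf y) := by
    intro Q hQ w hw
    obtain ⟨i, hi⟩ := IsPGroup.iff_orderOf.mp hQ ⟨w, hw⟩
    rw [← Subgroup.orderOf_coe] at hi
    rw [show orderOf w = p ^ i from hi, hordy]
    exact ((Nat.coprime_primes hp.out hq).mpr hpq).pow i j
  have hxA : Full S N x := (hs.full x hx1).resolve_right fun hB =>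
    hs.no_mixed hy1 (mem_cent.1 (hRy hxR)).symm (cop R hRp x hxR).symm hyA hB
  obtain ⟨P', hRP'⟩ := hRp.exists_le_sylow
  obtain ⟨g, hg⟩ := MulAction.exists_smul_eq G P P'
  set z' : G := g * z * g⁻¹ with hz'
  have hP' : ∀ u ∈ (P' : Subgroup G), g⁻¹ * u * g ∈ (P : Subgroup G) := by
    intro u hu
    rw [← hg, Sylow.coe_subgroup_smul, Subgroup.mem_pointwise_smul_iff_inv_smul_mem] at hu
    simpa [MulAut.conj, mul_assoc] using hu
  have hzP' : z' ∈ (P' : Subgroup G) := by
    rw [← hg, Sylow.coe_subgroup_smul, Subgroup.mem_pointwise_smul_iff_inv_smul_mem]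
    simpa [hz', MulAut.conj, mul_assoc] using hzP
  have hz'c : ∀ u ∈ (P' : Subgroup G), Commute u z' := by
    intro u hu
    have h := (hzc _ (hP' u hu)).map (MulAut.conj g).toMonoidHom
    simpa [hz', mul_assoc] using h
  have hz'B : Full Sᶜ N z' := fun r hr => by rw [hz', ind_conj]; exact hzB r hr
  have hz'R : z' ∉ R := fun h =>
    hs.no_mixed hy1 (mem_cent.1 (hRy h)).symm (cop R hRp z' h).symm hyA hz'B
  set T : Subgroup G := (P' : Subgroup G) ⊓ C[x] with hT
  have hRT : R < T := by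
    refine lt_of_le_of_ne (le_inf hRP' fun u hu => mem_cent.2 (hxcomm u hu)) fun e => hz'R ?_
    rw [e]
    exact Subgroup.mem_inf.mpr ⟨hzP', mem_cent.2 (hz'c x (hRP' hxR)).symm⟩
  obtain ⟨k, hk⟩ := (P'.2.to_le (inf_le_left : T ≤ P')).exists_card_eq
  have hkle : k ≤ ((Nat.card ↥(C[x] : Subgroup G))).factorization p := by
    refine (hp.out.pow_dvd_iff_le_factorization Nat.card_pos.ne').mp ?_
    rw [← hk]
    exact Subgroup.card_dvd_of_le inf_le_right
  have hCx : ((Nat.card ↥(C[x] : Subgroup G))).factorization p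
      = (Nat.card G).factorization p - N.factorization p := by
    rw [← (C[x] : Subgroup G).card_mul_index,
      Nat.factorization_mul Nat.card_pos.ne' Subgroup.index_ne_zero_of_finite, Finsupp.add_apply,
      ← full_at x hx1 hxA, ind, Nat.add_sub_cancel]
  have hlt' : Nat.card R < Nat.card T := by
    refine lt_of_le_of_ne (Nat.le_of_dvd Nat.card_pos (Subgroup.card_dvd_of_le hRT.le)) fun e =>
      hRT.ne (Subgroup.eq_of_le_of_card_ge hRT.le e.ge)
  rw [hRcard, hk, hCy] at hlt'
  have := (Nat.pow_lt_pow_iff_right hp.out.one_lt).mp hlt'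
  omega

theorem card_eq (hs : Split G S N) {a b : ℕ} (ha : a.Prime) (haS : a ∈ S) (haN : a ∣ N)
    (hb : b.Prime) (hbS : b ∉ S) (hbN : b ∣ N) : Nat.card G = N := by
  refine Nat.eq_of_factorization_eq Nat.card_pos.ne' hs.pos.ne' fun p => ?_
  by_cases hp : p.Prime
  swap
  · simp [Nat.factorization_eq_zero_of_not_prime _ hp]
  haveI : Fact p.Prime := ⟨hp⟩
  refine le_antisymm ?_ ?_
  · by_cases hd : p ∣ Nat.card G
    · obtain ⟨z, hz1, hzP, hzc, hz0⟩ := exists_central (Classical.arbitrary (Sylow p G)) hd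
      rcases hs.full z hz1 with hA | hB
      · refine hs.symm.upper _ hz1 hzP hzc hz0 (by rwa [compl_compl]) ha ?_ haN
        simpa using haS
      · exact hs.upper _ hz1 hzP hzc hz0 hB hb hbS hbN
    · rw [Nat.factorization_eq_zero_of_not_dvd hd]; exact Nat.zero_le _
  · by_cases hd : p ∣ N
    · obtain ⟨g, _, hg⟩ := hs.attained p hp hd
      rw [← hg]
      exact (Nat.factorization_le_iff_dvd Subgroup.index_ne_zero_of_finite Nat.card_pos.ne').mpr
        (Subgroup.index_dvd_card _) p
    · rw [Nat.factorization_eq_zero_of_not_dvd hd]; exact Nat.zero_le _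

end Split

section M

variable {M : Type*} [Group M] [Finite M] {A : Set ℕ}

theorem no_pair
    (hd : ∀ a ∈ A, ∀ b ∉ A, a.Prime → b.Prime → a ∣ Nat.card M → b ∣ Nat.card M →
      ¬ ∃ x : M, orderOf x = a * b)
    {a b : ℕ} {x y : M} (ha : a.Prime) (hb : b.Prime) (hx : orderOf x = a) (hy : orderOf y = b)
    (hc : Commute x y) : a ∈ A ↔ b ∈ A := by
  have hne : ∀ {a b : ℕ} {x y : M}, a.Prime → b.Prime → orderOf x = a → orderOf y = b →
      Commute x y → a ∈ A → b ∈ A := by
    intro a b x y ha hb hx hy hc haA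
    by_contra hbA
    refine hd a haA b hbA ha hb (hx ▸ orderOf_dvd_natCard x) (hy ▸ orderOf_dvd_natCard y)
      ⟨x * y, ?_⟩
    rw [hc.orderOf_mul_eq_mul_orderOf_of_coprime, hx, hy]
    rw [hx, hy]
    exact (Nat.coprime_primes ha hb).mpr (by rintro rfl; exact hbA haA)
  exact ⟨hne ha hb hx hy hc, hne hb ha hy hx hc.symm⟩

theorem factorization_ind (x : M) (p : ℕ) :
    (Nat.card ↥(C[x] : Subgroup M)).factorization p + (ind x).factorization p
      = (Nat.card M).factorization p := by
  rw [ind, ← Finsupp.add_apply,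
    ← Nat.factorization_mul Nat.card_pos.ne' Subgroup.index_ne_zero_of_finite,
    Subgroup.card_mul_index]

theorem exists_commute {x : M} {p : ℕ}
    (h : (ind x).factorization p ≠ (Nat.card M).factorization p) :
    p.Prime ∧ ∃ s : M, orderOf s = p ∧ Commute s x := by
  have h1 := factorization_ind x p
  have h2 : (Nat.card ↥(C[x] : Subgroup M)).factorization p ≠ 0 := by omega
  have hp : p.Prime := by
    by_contra hnp
    exact h2 (Nat.factorization_eq_zero_of_not_prime _ hnp)
  haveI : Fact p.Prime := ⟨hp⟩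
  obtain ⟨⟨s, hs⟩, hso⟩ :=
    exists_prime_orderOf_dvd_card' (G := ↥(C[x] : Subgroup M)) p (Nat.dvd_of_factorization_pos h2)
  exact ⟨hp, s, by rw [← hso, ← Subgroup.orderOf_coe], mem_cent.1 hs⟩

theorem split_of_disconnected (hZ : Subgroup.center M = ⊥)
    (hd : ∀ a ∈ A, ∀ b ∉ A, a.Prime → b.Prime → a ∣ Nat.card M → b ∣ Nat.card M →
      ¬ ∃ x : M, orderOf x = a * b)
    {a b : ℕ} (ha : a.Prime) (haA : a ∈ A) (haM : a ∣ Nat.card M)
    (hb : b.Prime) (hbA : b ∉ A) (hbM : b ∣ Nat.card M) : Split M A (Nat.card M) where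
  pos := Nat.card_pos
  dvd := fun g _ => Subgroup.index_dvd_card _
  ne := by
    intro g hg e
    have h1 := (C[g] : Subgroup M).card_mul_index
    rw [show (C[g] : Subgroup M).index = Nat.card M from e] at h1
    have h2 : Nat.card ↥(C[g] : Subgroup M) = 1 := (mul_eq_right₀ Nat.card_pos.ne').mp h1
    have h3 : g ∈ (C[g] : Subgroup M) := mem_cent.2 (Commute.refl g)
    rw [Subgroup.card_eq_one.mp h2] at h3
    exact hg h3
  full := by
    intro g hg
    by_contra hcon
    rw [not_or] at hcon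
    obtain ⟨h1, h2⟩ := hcon
    simp only [Full, not_forall] at h1 h2
    obtain ⟨p, hpA, hpf⟩ := h1
    obtain ⟨q, hqA, hqf⟩ := h2
    obtain ⟨hp, s, hs, hsc⟩ := exists_commute hpf
    obtain ⟨hq, t, ht, htc⟩ := exists_commute hqf
    obtain ⟨r, hr, hrd⟩ := Nat.exists_prime_and_dvd (mt orderOf_eq_one_iff.mp hg)
    obtain ⟨c, hc⟩ := hrd
    have hgc : orderOf (g ^ c) = r := by
      have hc0 : c ≠ 0 := by rintro rfl; exact (orderOf_pos g).ne' (by simpa using hc)
      rw [orderOf_pow_of_dvd hc0 (hc ▸ dvd_mul_left c r), hc, Nat.mul_div_cancel _ (Nat.pos_of_ne_zero hc0)]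
    have e1 := (no_pair hd hp hr hs hgc (hsc.pow_right c)).mp hpA
    exact hqA ((no_pair hd hq hr ht hgc (htc.pow_right c)).mpr e1)
  attained := by
    intro p hp hpM
    obtain ⟨q, hq, hqM, hiff⟩ : ∃ q : ℕ, q.Prime ∧ q ∣ Nat.card M ∧ ¬ (p ∈ A ↔ q ∈ A) := by
      by_cases hpA : p ∈ A
      · exact ⟨b, hb, hbM, by simp [hpA, hbA]⟩
      · exact ⟨a, ha, haM, by simp [hpA, haA]⟩
    haveI : Fact q.Prime := ⟨hq⟩
    obtain ⟨y, hy⟩ := exists_prime_orderOf_dvd_card' (G := M) q hqM
    refine ⟨y, fun e => hq.ne_one (by rw [← hy, e, orderOf_one]), ?_⟩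
    by_contra hne
    obtain ⟨-, s, hs, hsc⟩ := exists_commute hne
    exact hiff (no_pair hd hp hq hs hy hsc)

theorem ind_eq_one_iff (hZ : Subgroup.center M = ⊥) {g : M} : ind g = 1 ↔ g = 1 := by
  rw [ind, Subgroup.index_eq_one, Subgroup.centralizer_eq_top_iff_subset, Set.singleton_subset_iff,
    hZ]
  simp

end M


/-- Let G and M be finite groups with trivial centres and the same set of conjugacy class sizes, and suppose the prime graph of M is disconnected: the prime divisors of #M split into two non-empty parts such that M has no element of order pq with p in one part and q in the other. Then #G = #M. -/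
theorem result {G M : Type*}
    [Group G] [Finite G] [Group M] [Finite M] (hZG : Subgroup.center G = ⊥) (hZM : Subgroup.center M = ⊥)
    (h : Set.range (fun g : G => (Subgroup.centralizer ({g} : Set G)).index) = Set.range (fun g : M => (Subgroup.centralizer ({g} : Set M)).index))
    (hdisc : ∃ A : Set ℕ, (∃ a ∈ A, a.Prime ∧ a ∣ Nat.card M) ∧ (∃ b ∉ A, b.Prime ∧ b ∣ Nat.card M) ∧
      ∀ a ∈ A, ∀ b ∉ A, a.Prime → b.Prime → a ∣ Nat.card M → b ∣ Nat.card M → ¬ ∃ x : M, orderOf x = a * b) :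
    Nat.card G = Nat.card M := by
  obtain ⟨A, ⟨a, haA, ha, haM⟩, ⟨b, hbA, hb, hbM⟩, hd⟩ := hdisc
  have hM := split_of_disconnected hZM hd ha haA haM hb hbA hbM
  have toM : ∀ g : G, g ≠ 1 → ∃ m : M, m ≠ 1 ∧ ind g = ind m := by
    intro g hg
    obtain ⟨m, hm⟩ := (h.subset ⟨g, rfl⟩ :)
    refine ⟨m, fun e => hg ((ind_eq_one_iff hZG).mp ?_), hm.symm⟩
    exact hm.symm.trans ((ind_eq_one_iff hZM).mpr e)
  have hG : Split G A (Nat.card M) := by
    refine ⟨Nat.card_pos, ?_, ?_, ?_, ?_⟩
    · intro g hg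
      obtain ⟨m, hm, e⟩ := toM g hg
      rw [e]; exact hM.dvd m hm
    · intro g hg
      obtain ⟨m, hm, e⟩ := toM g hg
      rw [e]; exact hM.ne m hm
    · intro g hg
      obtain ⟨m, hm, e⟩ := toM g hg
      simp only [Full, e]; exact hM.full m hm
    · intro p hp hpM
      obtain ⟨m, hm, e⟩ := hM.attained p hp hpM
      obtain ⟨g, hg⟩ := (h.symm.subset ⟨m, rfl⟩ :)
      have hg' : ind g = ind m := hg
      refine ⟨g, fun e' => hm ((ind_eq_one_iff hZM).mp ?_), hg' ▸ e⟩
      rw [← hg']; exact (ind_eq_one_iff hZG).mpr e'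
  exact hG.card_eq ha haA haM hb hbA hbM

end Cfsg.Agent.S4184
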