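import Cfsg.Statements.S4186
-- import your own Cfsg.Agent.* helpers here

set_option autoImplicit false
open Cfsg

namespace Cfsg.Agent.S4186

/-- Let T and X be subgroups of a group with T a finite 2-group normalizing X but not centralizing it. Then some element of T inverts some non-identity element of X under conjugation. -/
theorem result {G : Type*} [Group G] (T X : Subgroup G) [Finite ↥T] (hT : IsPGroup 2 ↥T) (hTN : T ≤ Subgroup.normalizer (X : Set G)) (hTC : ¬ T ≤ Subgroup.centralizer (X : Set G)) : ∃ t ∈ T, ∃ x ∈ X, x ≠ 1 ∧ t * x * t⁻¹ = x⁻¹ := by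
  classical
  obtain ⟨t₀, ht₀, ht₀C⟩ := SetLike.not_le_iff_exists.mp hTC
  have hex : ∃ i : ℕ, t₀ ^ 2 ^ i ∈ Subgroup.centralizer (X : Set G) := by
    obtain ⟨k, hk⟩ := hT ⟨t₀, ht₀⟩
    refine ⟨k, ?_⟩
    have := congrArg Subtype.val hk
    rw [SubmonoidClass.coe_pow] at this
    simp only [Subgroup.coe_one] at this
    rw [this]; exact one_mem _
  obtain ⟨i, hi⟩ : ∃ i, Nat.find hex = i + 1 := by
    refine Nat.exists_eq_succ_of_ne_zero fun h => ht₀C ?_
    have := Nat.find_spec hex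
    rwa [h, pow_zero, pow_one] at this
  set t := t₀ ^ 2 ^ i with ht
  have htC : t ∉ Subgroup.centralizer (X : Set G) := Nat.find_min hex (by omega)
  have ht2 : t * t ∈ Subgroup.centralizer (X : Set G) := by
    have := Nat.find_spec hex
    rw [hi, pow_succ, pow_mul] at this
    rwa [← pow_two]
  rw [Subgroup.mem_centralizer_iff] at htC
  push Not at htC
  obtain ⟨x, hx, hne⟩ := htC
  have htX : t * x * t⁻¹ ∈ X := (Subgroup.mem_normalizer_iff.mp (hTN (T.pow_mem ht₀ _)) x).mp hx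
  refine ⟨t, T.pow_mem ht₀ _, x⁻¹ * (t * x * t⁻¹), X.mul_mem (X.inv_mem hx) htX, fun h => hne ?_, ?_⟩
  · rw [inv_mul_eq_one] at h
    calc x * t = t * x * t⁻¹ * t := by rw [← h]
      _ = t * x := by rw [inv_mul_cancel_right]
  · have e : t * (t * x * t⁻¹) * t⁻¹ = x := by
      have h2 := Subgroup.mem_centralizer_iff.mp ht2 x hx
      calc t * (t * x * t⁻¹) * t⁻¹ = (t * t * x) * (t * t)⁻¹ := by simp [mul_assoc]
        _ = (x * (t * t)) * (t * t)⁻¹ := by rw [h2]
        _ = x := by rw [mul_inv_cancel_right]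
    calc t * (x⁻¹ * (t * x * t⁻¹)) * t⁻¹ = (t * x * t⁻¹)⁻¹ * (t * (t * x * t⁻¹) * t⁻¹) := by
          simp [mul_assoc]
      _ = (x⁻¹ * (t * x * t⁻¹))⁻¹ := by rw [e]; simp [mul_assoc]

end Cfsg.Agent.S4186
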