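import Cfsg.Statements.S4187
import Cfsg.Agent.RealGraph.Reduce

set_option autoImplicit false
open Cfsg

namespace Cfsg.Agent.S4187

/-- Let G be a finite group. Call an element real when it is conjugate to its inverse, and consider the graph whose vertices are the primes dividing the size of some conjugacy class of real elements, two distinct primes being adjacent when their product divides such a class size. If this graph is disconnected — its vertex set splits into two non-empty parts such that no real class size is divisible by a prime from each part — then G is solvable. -/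
theorem result {G : Type*} [Group G] [Finite G] (π₁ π₂ : Set ℕ) (h₁ : π₁.Nonempty) (h₂ : π₂.Nonempty) (hcover : ∀ q : ℕ, q.Prime → (∃ n ∈ {n : ℕ | ∃ x : G, IsConj x x⁻¹ ∧ (Subgroup.centralizer ({x} : Set G)).index = n}, q ∣ n) → q ∈ π₁ ∨ q ∈ π₂) (hsub : ∀ q ∈ π₁ ∪ π₂, q.Prime ∧ ∃ n ∈ {n : ℕ | ∃ x : G, IsConj x x⁻¹ ∧ (Subgroup.centralizer ({x} : Set G)).index = n}, q ∣ n) (hdisj : Disjoint π₁ π₂) (hnoedge : ∀ a ∈ π₁, ∀ b ∈ π₂, ∀ n ∈ {n : ℕ | ∃ x : G, IsConj x x⁻¹ ∧ (Subgroup.centralizer ({x} : Set G)).index = n}, ¬ (a ∣ n ∧ b ∣ n)) : Group.IsSolvable G := by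
  classical
  have heven : ∀ x : G, IsConj x x⁻¹ → x * x ≠ 1 →
      2 ∣ (Subgroup.centralizer ({x} : Set G)).index := by
    intro x hx hx2
    obtain ⟨g, hg⟩ := isConj_iff.mp hx
    have hne : x⁻¹ ≠ x := fun h => hx2 (by
      calc x * x = x⁻¹ * x := by rw [h]
        _ = 1 := inv_mul_cancel x)
    have hconj : ∀ {a : G}, a * x * a⁻¹ = x⁻¹ → a * x⁻¹ * a⁻¹ = x := fun {a} h => by
      rw [← conj_inv, h, inv_inv]
    let D : Subgroup G :=
      { carrier := {a | a * x * a⁻¹ = x ∨ a * x * a⁻¹ = x⁻¹}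
        one_mem' := Or.inl (by group)
        mul_mem' := by
          intro a b ha hb
          have e : a * b * x * (a * b)⁻¹ = a * (b * x * b⁻¹) * a⁻¹ := by group
          show _ ∨ _
          rw [e]
          rcases hb with hb | hb <;> rw [hb] <;> rcases ha with ha | ha
          · exact Or.inl ha
          · exact Or.inr ha
          · exact Or.inr (by rw [← conj_inv, ha])
          · exact Or.inl (hconj ha)
        inv_mem' := by
          intro a ha
          rcases ha with ha | ha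
          · left
            calc a⁻¹ * x * a⁻¹⁻¹ = a⁻¹ * (a * x * a⁻¹) * a := by rw [ha]; group
              _ = x := by group
          · right
            calc a⁻¹ * x * a⁻¹⁻¹ = a⁻¹ * (a * x⁻¹ * a⁻¹) * a := by rw [hconj ha]; group
              _ = x⁻¹ := by group }
    have hle : Subgroup.centralizer ({x} : Set G) ≤ D := fun a ha =>
      Or.inl (by rw [Subgroup.mem_centralizer_singleton_iff.mp ha, mul_inv_cancel_right])
    have h2 : (Subgroup.centralizer ({x} : Set G)).relIndex D = 2 := by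
      rw [Subgroup.relIndex, Subgroup.index_eq_two_iff]
      refine ⟨⟨g, Or.inr hg⟩, fun b => ?_⟩
      simp only [Subgroup.mem_subgroupOf, Subgroup.coe_mul,
        Subgroup.mem_centralizer_singleton_iff, ← mul_inv_eq_iff_eq_mul]
      have e : (b : G) * g * x * ((b : G) * g)⁻¹ = (b : G) * x⁻¹ * (b : G)⁻¹ := by
        rw [← hg]; group
      rw [e]
      rcases b.2 with hb | hb
      · refine Or.inr ⟨hb, fun h => hne ?_⟩
        rw [← conj_inv, hb] at h
        exact h
      · exact Or.inl ⟨hconj hb, fun h => hne (hb.symm.trans h)⟩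
    rw [← Subgroup.relIndex_mul_index hle, h2]
    exact dvd_mul_right 2 _
  have main : ∀ A B : Set ℕ, B.Nonempty → 2 ∈ A →
      (∀ q : ℕ, q.Prime → (∃ x : G, IsConj x x⁻¹ ∧ q ∣ (Subgroup.centralizer ({x} : Set G)).index) →
        q ∈ A ∨ q ∈ B) →
      (∀ q ∈ B, q.Prime ∧ ∃ x : G, IsConj x x⁻¹ ∧
        q ∣ (Subgroup.centralizer ({x} : Set G)).index) →
      (∀ a ∈ A, ∀ b ∈ B, ∀ x : G, IsConj x x⁻¹ →
        ¬ (a ∣ (Subgroup.centralizer ({x} : Set G)).index ∧
          b ∣ (Subgroup.centralizer ({x} : Set G)).index)) → Group.IsSolvable G := by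
    intro A B hB h2A hcov hsubB hedge
    obtain ⟨q, hq⟩ := hB
    obtain ⟨hqp, t, htr, hqt⟩ := hsubB q hq
    have hodd : Odd (Subgroup.centralizer ({t} : Set G)).index := by
      rw [Nat.odd_iff, ← Nat.two_dvd_ne_zero]
      exact fun h => hedge 2 h2A q hq t htr ⟨h, hqt⟩
    have ht2 : t * t = 1 := by
      by_contra h
      exact (Nat.not_even_iff_odd.mpr hodd) (even_iff_two_dvd.mpr (heven t htr h))
    refine RealGraph.RealHyp.isSolvable (t := t) ⟨ht2, fun hc => ?_, hodd, fun x hx hx2 => ?_⟩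
    · have htop : Subgroup.centralizer ({t} : Set G) = ⊤ := top_le_iff.mp fun a _ =>
        Subgroup.mem_centralizer_singleton_iff.mpr (Subgroup.mem_center_iff.mp hc a)
      rw [htop, Subgroup.index_top] at hqt
      exact hqp.ne_one (Nat.dvd_one.mp hqt)
    · refine Nat.coprime_of_dvd fun p hp hpt hpx => ?_
      rcases hcov p hp ⟨t, htr, hpt⟩ with h | h
      · exact hedge p h q hq t htr ⟨hpt, hqt⟩
      · exact hedge 2 h2A p h x hx ⟨heven x hx hx2, hpx⟩
  by_cases h2 : ∃ x : G, IsConj x x⁻¹ ∧ 2 ∣ (Subgroup.centralizer ({x} : Set G)).index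
  · have hcov : ∀ q : ℕ, q.Prime →
        (∃ x : G, IsConj x x⁻¹ ∧ q ∣ (Subgroup.centralizer ({x} : Set G)).index) →
          q ∈ π₁ ∨ q ∈ π₂ :=
      fun q hq ⟨x, hx, hqx⟩ => hcover q hq ⟨_, ⟨x, hx, rfl⟩, hqx⟩
    have hsub' : ∀ q ∈ π₁ ∪ π₂, q.Prime ∧ ∃ x : G, IsConj x x⁻¹ ∧
        q ∣ (Subgroup.centralizer ({x} : Set G)).index := fun q hq => by
      obtain ⟨hp, n, ⟨x, hx, rfl⟩, hn⟩ := hsub q hq
      exact ⟨hp, x, hx, hn⟩
    rcases hcov 2 Nat.prime_two h2 with h | h
    · exact main π₁ π₂ h₂ h hcov (fun q hq => hsub' q (Or.inr hq))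
        fun a ha b hb x hx => hnoedge a ha b hb _ ⟨x, hx, rfl⟩
    · exact main π₂ π₁ h₁ h (fun q hq hx => (hcov q hq hx).symm)
        (fun q hq => hsub' q (Or.inl hq))
        fun a ha b hb x hx hd => hnoedge b hb a ha _ ⟨x, hx, rfl⟩ hd.symm
  · refine RealGraph.isSolvable_of_no_real fun x hx1 hxo hx => h2 ⟨x, hx, heven x hx ?_⟩
    exact RealGraph.sq_ne_one_of_odd hxo hx1

end Cfsg.Agent.S4187
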