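import Cfsg.Statements.S4188
import Cfsg.Agent.MaxClass.CyclicNormal
import Cfsg.Agent.Fusion.PGroup
import Cfsg.Agent.Invol.UniqueInvolution

set_option autoImplicit false
open Cfsg

namespace Cfsg.Agent.S4188

open Subgroup

/-- The subgroup generated by all squares. -/
def sq (P : Type*) [Group P] : Subgroup P := closure (Set.range fun x : P => x ^ 2)

theorem sq_mem {P : Type*} [Group P] (x : P) : x ^ 2 ∈ sq P := subset_closure ⟨x, rfl⟩

theorem map_sq_le {P Q : Type*} [Group P] [Group Q] (f : P →* Q) : (sq P).map f ≤ sq Q := by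
  rw [sq, MonoidHom.map_closure, closure_le]
  rintro _ ⟨_, ⟨x, rfl⟩, rfl⟩
  simpa only [map_pow, SetLike.mem_coe] using sq_mem (f x)

instance sq_normal (P : Type*) [Group P] : (sq P).Normal := ⟨fun n hn g => by
  have := map_sq_le (MulAut.conj g).toMonoidHom (mem_map_of_mem _ hn)
  simpa using this⟩

theorem index_le {P : Type*} [Group P] [Finite P] {A B : Subgroup P} (h : A ≤ B) :
    B.index ≤ A.index :=
  Nat.le_of_dvd (Nat.pos_of_ne_zero index_ne_zero_of_finite) (index_dvd_of_le h)

theorem index_sq_le_two_mul {P : Type*} [Group P] [Finite P] (R : Subgroup P) :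
    (sq P).index ≤ R.index * (sq R).index := by
  refine (index_le (map_sq_le R.subtype)).trans ?_
  rw [index_map_subtype, Nat.mul_comm]

theorem index_sq_le {P Q : Type*} [Group P] [Group Q] [Finite P] (f : P →* Q) :
    (sq P).index ≤ (sq f.range).index * (sq f.ker).index := by
  have h1 : (sq P ⊔ f.ker).index = (sq f.range).index := by
    rw [← index_comap_of_surjective (sq f.range) f.rangeRestrict_surjective]
    congr 1
    apply le_antisymm
    · refine sup_le (map_le_iff_le_comap.1 (map_sq_le f.rangeRestrict)) ?_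
      rw [← f.ker_rangeRestrict]; exact ker_le_comap _ _
    · intro x hx
      rw [mem_comap] at hx
      have h2 : sq f.range ≤ (sq P).map f.rangeRestrict := by
        rw [sq, closure_le]
        rintro _ ⟨y, rfl⟩
        obtain ⟨z, rfl⟩ := f.rangeRestrict_surjective y
        exact ⟨z ^ 2, sq_mem z, map_pow _ _ _⟩
      obtain ⟨y, hy, hxy⟩ := h2 hx
      have h3 : y⁻¹ * x ∈ f.ker := by
        rw [← f.ker_rangeRestrict, MonoidHom.mem_ker, map_mul, map_inv, hxy, inv_mul_cancel]
      have h4 := mul_mem_sup hy h3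
      rwa [mul_inv_cancel_left] at h4
  rw [← relIndex_mul_index (le_sup_left : sq P ≤ sq P ⊔ f.ker), h1, Nat.mul_comm]
  refine Nat.mul_le_mul_left _ ?_
  rw [sup_comm, relIndex_sup_right]
  exact index_le (map_le_iff_le_comap.1 (map_sq_le f.ker.subtype))

theorem sq_le_of_coatom {P : Type*} [Group P] [Finite P] (hP : IsPGroup 2 P) :
    sq P ≤ frattini P := by
  have := hP.isNilpotent
  rw [sq, closure_le]
  rintro _ ⟨x, rfl⟩
  rw [SetLike.mem_coe, frattini, Order.radical, mem_iInf]
  intro M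
  rw [mem_iInf]
  intro hM
  have hMn : M.Normal := Subgroup.NormalizerCondition.normal_of_coatom M Group.normalizerCondition_of_isNilpotent hM
  have hidx : M.index = 2 := by
    obtain ⟨k, hk⟩ := IsPGroup.iff_card.1 hP
    obtain ⟨j, -, hj⟩ := (Nat.dvd_prime_pow Nat.prime_two).1 (hk ▸ M.index_dvd_card)
    have : Fact (Nat.Prime 2) := ⟨Nat.prime_two⟩
    have hQ : IsPGroup 2 (P ⧸ M) := hP.to_quotient M
    have h1 : M.index ≠ 1 := fun h => hM.1 (index_eq_one.1 h)
    have hd : 2 ∣ Nat.card (P ⧸ M) :=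
      (hQ.card_eq_or_dvd).resolve_left (by rwa [← index_eq_card])
    obtain ⟨y, hy⟩ := exists_prime_orderOf_dvd_card' 2 hd
    have h2 : (zpowers y).comap (QuotientGroup.mk' M) = ⊤ := by
      refine hM.2 _ (lt_of_le_of_ne ?_ ?_)
      · intro z hz
        rw [mem_comap, show QuotientGroup.mk' M z = 1 from (QuotientGroup.eq_one_iff z).2 hz]
        exact one_mem _
      · intro he
        obtain ⟨z, hz⟩ := QuotientGroup.mk'_surjective M y
        have h3 : z ∈ M := by rw [he, mem_comap, hz]; exact mem_zpowers y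
        rw [show y = 1 by rw [← hz]; exact (QuotientGroup.eq_one_iff z).2 h3, orderOf_one] at hy
        omega
    have h4 : zpowers y = ⊤ := comap_injective (QuotientGroup.mk'_surjective M) (by rw [h2, comap_top])
    rw [index_eq_card, ← card_top (G := P ⧸ M), ← h4, Nat.card_zpowers, hy]
  have := pow_index_mem M x
  rwa [hidx] at this

theorem index_sq_equiv {A B : Type*} [Group A] [Group B] [Finite A] (e : A ≃* B) :
    (sq A).index ≤ (sq B).index := by
  have := index_map_equiv (sq B) e.symm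
  exact this ▸ index_le (map_sq_le e.symm.toMonoidHom)

universe u

/-- The bound carried through the induction. -/
def Bd (n : ℕ) {V : Type u} [CommGroup V] (P : Subgroup (MulAut V)) : Prop :=
  (n = 3 → Nat.card P ≤ 2) ∧ (n ≠ 3 → 2 * (sq P).index ≤ n)

theorem Bd.index_sq {n : ℕ} {V : Type u} [CommGroup V] [Finite V] {P : Subgroup (MulAut V)}
    (h : Bd n P) : 2 * (sq P).index ≤ n ∨ (n = 3 ∧ (sq P).index ≤ 2) := by
  by_cases hn : n = 3
  · exact Or.inr ⟨hn, (Nat.le_of_dvd Nat.card_pos (index_dvd_card _)).trans (h.1 hn)⟩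
  · exact Or.inl (h.2 hn)

section split

variable {V : Type u} [CommGroup V]

/-- The two actions attached to an invariant subgroup, for an odd order module and a 2-group. -/
theorem split [Finite V] (hodd : Odd (Nat.card V)) (P : Subgroup (MulAut V)) (hP : IsPGroup 2 P)
    (W : Subgroup V) (hW : ∀ g ∈ P, ∀ w ∈ W, g w ∈ W) :
    ∃ (A : Subgroup (MulAut W)) (B : Subgroup (MulAut (V ⧸ W))), IsPGroup 2 A ∧ IsPGroup 2 B ∧
      (sq P).index ≤ (sq A).index * (sq B).index ∧ Nat.card P = Nat.card A * Nat.card B := by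
  have hmap : ∀ g : P, W.map (g : MulAut V).toMonoidHom = W := by
    intro g
    refine le_antisymm (map_le_iff_le_comap.2 fun w hw => hW g g.2 w hw) fun w hw => ?_
    exact ⟨(g⁻¹ : P).1 w, hW _ (g⁻¹).2 w hw, by simp⟩
  let α : P →* MulAut W :=
    MonoidHom.mk' (fun g =>
      { toFun := fun w => ⟨(g : MulAut V) w, hW g g.2 w w.2⟩
        invFun := fun w => ⟨(g⁻¹ : P).1 w, hW _ (g⁻¹).2 w w.2⟩
        left_inv := fun w => by ext; simp
        right_inv := fun w => by ext; simp
        map_mul' := fun a b => by ext; simp })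
      (fun a b => by ext w; rfl)
  let β : α.ker →* MulAut (V ⧸ W) :=
    MonoidHom.mk' (fun g => QuotientGroup.congr W W ((g : P) : MulAut V) (hmap g))
      (fun a b => by
        ext x
        induction x using QuotientGroup.induction_on
        rfl)
  have hβ : Function.Injective β := by
    rw [injective_iff_map_eq_one]
    rintro ⟨g, hg⟩ h
    have hfixW : ∀ w ∈ W, (g : MulAut V) w = w := fun w hw =>
      (congrArg Subtype.val (DFunLike.congr_fun (MonoidHom.mem_ker.1 hg) ⟨w, hw⟩) :)
    ext v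
    change (g : MulAut V) v = v
    set w := v⁻¹ * (g : MulAut V) v with hw'
    have hw : w ∈ W := by
      have h1 := DFunLike.congr_fun h (v : V ⧸ W)
      exact QuotientGroup.eq.1 h1.symm
    have hpow : ∀ m : ℕ, ((g : MulAut V) ^ m) v = v * w ^ m := by
      intro m
      induction m with
      | zero => simp
      | succ m ih =>
        rw [pow_succ', MulAut.mul_apply, ih, map_mul, map_pow, hfixW w hw, pow_succ',
          ← mul_assoc, hw', mul_inv_cancel_left]
    obtain ⟨k, hk⟩ := hP g
    have h2 : w ^ 2 ^ k = 1 := by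
      have := hpow (2 ^ k)
      rw [← SubgroupClass.coe_pow, hk] at this
      simpa using this
    have hw1 : w = 1 := by
      rw [← orderOf_eq_one_iff]
      exact Nat.eq_one_of_dvd_coprimes (Nat.Coprime.pow_left k hodd.coprime_two_left)
        (orderOf_dvd_of_pow_eq_one h2) (orderOf_dvd_natCard w)
    rw [hw', inv_mul_eq_one] at hw1
    exact hw1.symm
  refine ⟨α.range, β.range, hP.of_surjective _ α.rangeRestrict_surjective,
    (hP.to_subgroup _).of_surjective _ β.rangeRestrict_surjective, ?_, ?_⟩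
  · refine (index_sq_le α).trans (Nat.mul_le_mul_left _ ?_)
    refine (index_sq_le β).trans ?_
    have : (sq β.ker).index = 1 := by
      refine index_eq_one.2 (eq_top_iff.2 fun x _ => ?_)
      have hx : x = 1 := Subtype.ext (hβ (x.2.trans (map_one β).symm))
      rw [hx]; exact one_mem _
    rw [this, mul_one]
  · rw [← Nat.card_congr (MonoidHom.ofInjective hβ).toEquiv, ← index_ker, Nat.mul_comm,
      card_mul_index]

end split

theorem index_sq_le_two_of_cyclic {P : Type*} [Group P] [Finite P] (h : IsCyclic P) :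
    (sq P).index ≤ 2 := by
  obtain ⟨a, ha⟩ := h.exists_generator
  have h2 := index_sq_le_two_mul (⊤ : Subgroup P)
  have hle : zpowers (a ^ 2) ≤ sq P := zpowers_le.2 (sq_mem a)
  refine (index_le hle).trans ?_
  have ht : zpowers a = ⊤ := eq_top_iff.2 fun x _ => ha x
  have hc : Nat.card P = orderOf a := by rw [← Nat.card_zpowers, ht, card_top]
  have h3 := (zpowers (a ^ 2)).card_mul_index
  rw [Nat.card_zpowers, hc, orderOf_pow' _ two_ne_zero] at h3
  have h4 : Nat.gcd (orderOf a) 2 ≤ 2 := Nat.le_of_dvd two_pos (Nat.gcd_dvd_right _ _)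
  have h5 : orderOf a / Nat.gcd (orderOf a) 2 * Nat.gcd (orderOf a) 2 = orderOf a :=
    Nat.div_mul_cancel (Nat.gcd_dvd_left _ _)
  have hpos : 0 < orderOf a / Nat.gcd (orderOf a) 2 :=
    Nat.pos_of_ne_zero fun h0 => (orderOf_pos a).ne' (by rw [← h5, h0, zero_mul])
  exact (Nat.eq_of_mul_eq_mul_left hpos (h3.trans h5.symm)).le.trans h4

/-- A 2-group of order `≤ 8` that is not of exponent 2 has `sq` of index at most 4. -/
theorem small_case {P : Type*} [Group P] [Finite P] (h8 : Nat.card P ≤ 8)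
    (hne : ∃ x : P, x ^ 2 ≠ 1) : (sq P).index ≤ 4 := by
  obtain ⟨x, hx⟩ := hne
  have h1 : 2 ≤ Nat.card (sq P) := by
    have : Nontrivial (sq P) := ⟨⟨x ^ 2, sq_mem x⟩, 1, fun h => hx (congrArg Subtype.val h)⟩
    exact Finite.one_lt_card
  have h2 := (sq P).card_mul_index
  nlinarith

set_option maxHeartbeats 1600000 in
theorem bd_main (n : ℕ) : ∀ (V : Type u) [CommGroup V] [Finite V], Odd (Nat.card V) →
    Nat.card V = n → 1 < n → ∀ P : Subgroup (MulAut V), IsPGroup 2 P → Bd n P := by
  induction n using Nat.strong_induction_on with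
  | _ n ih =>
  intro V _ _ hodd hn h1 P hP
  have : Fact (Nat.Prime 2) := ⟨Nat.prime_two⟩
  have hno : n % 2 = 1 := by rw [← hn]; exact Nat.odd_iff.1 hodd
  -- bound through an invariant subgroup, for any 2-subgroup
  have key : ∀ R : Subgroup (MulAut V), IsPGroup 2 R → ∀ W : Subgroup V, W ≠ ⊥ → W ≠ ⊤ →
      (∀ g ∈ R, ∀ w ∈ W, g w ∈ W) → ∃ a c bA bC : ℕ, a = Nat.card W ∧ n = a * c ∧ 3 ≤ a ∧ 3 ≤ c ∧
        (2 * bA ≤ a ∨ a = 3 ∧ bA ≤ 2) ∧ (2 * bC ≤ c ∨ c = 3 ∧ bC ≤ 2) ∧
        (sq R).index ≤ bA * bC ∧ (a = 3 → c = 3 → Nat.card R ≤ 4) := by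
    intro R hR W hW0 hW1 hWinv
    obtain ⟨A, B, hA, hB, hle, hcard⟩ := split hodd R hR W hWinv
    have hprod : Nat.card W * Nat.card (V ⧸ W) = n := by
      rw [← hn, ← index_eq_card, card_mul_index]
    have hWo : Odd (Nat.card W) := hodd.of_dvd_nat (card_subgroup_dvd_card W)
    have hQo : Odd (Nat.card (V ⧸ W)) := hodd.of_dvd_nat ⟨_, by rw [hn, ← hprod, Nat.mul_comm]⟩
    have ha : 1 < Nat.card W := (one_lt_card_iff_ne_bot W).2 hW0
    have hc : 1 < Nat.card (V ⧸ W) := by
      rw [← index_eq_card]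
      exact Nat.lt_of_le_of_ne (Nat.pos_of_ne_zero index_ne_zero_of_finite)
        fun h => hW1 (index_eq_one.1 h.symm)
    have ha3 : 3 ≤ Nat.card W := by obtain ⟨r, hr⟩ := hWo; omega
    have hc3 : 3 ≤ Nat.card (V ⧸ W) := by obtain ⟨r, hr⟩ := hQo; omega
    have hlt1 : Nat.card W < n := by rw [← hprod]; nlinarith
    have hlt2 : Nat.card (V ⧸ W) < n := by rw [← hprod]; nlinarith
    have hBA := ih _ hlt1 W hWo rfl ha A hA
    have hBB := ih _ hlt2 (V ⧸ W) hQo rfl hc B hB
    refine ⟨_, _, _, _, rfl, hprod.symm, ha3, hc3, hBA.index_sq, hBB.index_sq, hle, fun e1 e2 => ?_⟩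
    rw [hcard]; exact (Nat.mul_le_mul (hBA.1 e1) (hBB.1 e2)).trans le_rfl
  by_cases hred : ∃ W : Subgroup V, W ≠ ⊥ ∧ W ≠ ⊤ ∧ ∀ g ∈ P, ∀ w ∈ W, g w ∈ W
  · obtain ⟨W, hW0, hW1, hWinv⟩ := hred
    obtain ⟨a, c, bA, bC, -, rfl, ha, hc, hA, hC, hle, -⟩ := key P hP W hW0 hW1 hWinv
    refine ⟨fun h => ?_, fun _ => ?_⟩
    · nlinarith
    · rcases hA with hA | ⟨rfl, hA⟩ <;> rcases hC with hC | ⟨rfl, hC⟩ <;> nlinarith
  push Not at hred
  -- irreducible case
  have hirr : ∀ W : Subgroup V, (∀ g ∈ P, ∀ w ∈ W, g w ∈ W) → W = ⊥ ∨ W = ⊤ := by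
    intro W hW
    by_contra! h
    obtain ⟨g, hg, w, hw, hgw⟩ := hred W h.1 h.2
    exact hgw (hW g hg w hw)
  -- a central element of order two acts as inversion
  have hinv : ∀ z : P, (∀ g : P, g * z = z * g) → z ^ 2 = 1 → z ≠ 1 →
      ∀ v, (z : MulAut V) v = v⁻¹ := by
    intro z hz hz2 hz1
    let F : Subgroup V := (z : MulAut V).toMonoidHom.eqLocus (MonoidHom.id V)
    have hF : F = ⊥ ∨ F = ⊤ := hirr F fun g hg w hw => by
      change (z : MulAut V) (g w) = g w
      rw [← MulAut.mul_apply, ← show ((⟨g, hg⟩ : P) * z : P).1 = (z : MulAut V) * g from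
        congrArg Subtype.val (hz ⟨g, hg⟩)]
      change g ((z : MulAut V) w) = g w
      rw [show (z : MulAut V) w = w from hw]
    rcases hF with hF | hF
    · intro v
      have h2 : (z : MulAut V) ((z : MulAut V) v) = v := by
        rw [← MulAut.mul_apply, ← Subgroup.coe_mul, ← pow_two z, hz2]; rfl
      have : v * (z : MulAut V) v ∈ F := by
        change (z : MulAut V) (v * (z : MulAut V) v) = v * (z : MulAut V) v
        rw [map_mul, h2, mul_comm]
      rw [hF, mem_bot] at this
      exact eq_inv_of_mul_eq_one_right this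
    · refine absurd (Subtype.ext (MulEquiv.ext fun v => ?_)) hz1
      exact (hF ▸ mem_top v : v ∈ F)
  have huniq : ∀ z z' : P, (∀ g : P, g * z = z * g) → z ^ 2 = 1 → z ≠ 1 →
      (∀ g : P, g * z' = z' * g) → z' ^ 2 = 1 → z' ≠ 1 → z = z' := fun z z' a b c a' b' c' =>
    Subtype.ext (MulEquiv.ext fun v => by rw [hinv z a b c v, hinv z' a' b' c' v])
  by_cases hidx : ∃ R : Subgroup (MulAut V), R ≤ P ∧ (R.subgroupOf P).index = 2 ∧
      ∃ W : Subgroup V, W ≠ ⊥ ∧ W ≠ ⊤ ∧ ∀ g ∈ R, ∀ w ∈ W, g w ∈ W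
  · obtain ⟨R, hRP, hR2, W, hW0, hW1, hWinv⟩ := hidx
    obtain ⟨g, hg, w, hw, hgw⟩ := hred W hW0 hW1
    set t : P := ⟨g, hg⟩ with ht
    set W' := W.map g.toMonoidHom with hW'
    have hsplit : ∀ x ∈ P, x ∈ R ∨ ∃ r ∈ R, x = g * r := by
      intro x hx
      by_cases hxR : x ∈ R
      · exact Or.inl hxR
      have hgR : g ∉ R := fun h => hgw (hWinv g h w hw)
      refine Or.inr ⟨g⁻¹ * x, ?_, by simp⟩
      have := (mul_mem_iff_of_index_two hR2 (a := (t⁻¹ : P)) (b := ⟨x, hx⟩)).2 (by
        simp only [mem_subgroupOf, inv_mem_iff]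
        exact iff_of_false hgR hxR)
      simpa [mem_subgroupOf] using this
    have hRn : ∀ r ∈ R, g⁻¹ * r * g ∈ R := by
      intro r hr
      have hN : (R.subgroupOf P).Normal := normal_of_index_eq_two hR2
      have := hN.conj_mem ⟨r, hRP hr⟩ (by simpa [mem_subgroupOf] using hr) t⁻¹
      simpa [mem_subgroupOf] using this
    have hW'inv : ∀ r ∈ R, ∀ w ∈ W', r w ∈ W' := by
      rintro r hr _ ⟨u, hu, rfl⟩
      exact ⟨(g⁻¹ * r * g) u, hWinv _ (hRn r hr) u hu, by simp⟩
    have hgg : ∀ u ∈ W, g (g u) ∈ W := by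
      intro u hu
      have h2 : g * g ∈ R := by
        have := mul_self_mem_of_index_two hR2 t
        simpa [mem_subgroupOf] using this
      exact hWinv _ h2 u hu
    have hPinv : ∀ x ∈ P, (∀ u ∈ W, x u ∈ W ∧ x (g u) ∈ W') ∨ (∀ u ∈ W, x u ∈ W' ∧ x (g u) ∈ W) := by
      intro x hx
      rcases hsplit x hx with h | ⟨r, hr, rfl⟩
      · exact Or.inl fun u hu => ⟨hWinv x h u hu, hW'inv x h _ ⟨u, hu, rfl⟩⟩
      · refine Or.inr fun u hu => ⟨⟨r u, hWinv r hr u hu, rfl⟩, ?_⟩
        obtain ⟨u', hu', he⟩ := hW'inv r hr _ (⟨u, hu, rfl⟩ : g u ∈ W')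
        rw [MulAut.mul_apply, ← he]
        exact hgg u' hu'
    have hinf : W ⊓ W' = ⊥ := by
      refine (hirr _ fun x hx u hu => ?_).resolve_right fun h => hW1 (eq_top_iff.2 (h ▸ inf_le_left))
      obtain ⟨u', hu', rfl⟩ := hu.2
      rcases hPinv x hx with h | h
      · exact ⟨(h _ hu.1).1, (h u' hu').2⟩
      · exact ⟨(h u' hu').2, (h _ hu.1).1⟩
    have hsup : W ⊔ W' = ⊤ := by
      refine (hirr _ fun x hx => ?_).resolve_left fun h => hW0 (eq_bot_iff.2 (h ▸ le_sup_left))
      suffices h : (W ⊔ W').map x.toMonoidHom ≤ W ⊔ W' from fun u hu => h ⟨u, hu, rfl⟩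
      rw [Subgroup.map_sup, sup_le_iff]
      rcases hPinv x hx with h | h
      · exact ⟨fun _ ⟨u, hu, e⟩ => e ▸ mem_sup_left (h u hu).1,
          fun _ ⟨_, ⟨u, hu, e'⟩, e⟩ => e ▸ e' ▸ mem_sup_right (h u hu).2⟩
      · exact ⟨fun _ ⟨u, hu, e⟩ => e ▸ mem_sup_right (h u hu).1,
          fun _ ⟨_, ⟨u, hu, e'⟩, e⟩ => e ▸ e' ▸ mem_sup_left (h u hu).2⟩
    have hsq : n = Nat.card W * Nat.card W := by
      rw [← hn]
      have hcW : Nat.card W' = Nat.card W := card_map_of_injective g.injective
      have := card_mul_index W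
      have h2 : W.index = W.relIndex W' := by
        rw [← relIndex_top_right, ← hsup, sup_comm, relIndex_sup_right]
      rw [h2, ← inf_relIndex_right, hinf, relIndex_bot_left, hcW] at this
      exact this.symm
    obtain ⟨a, c, bA, bC, ha', hac, ha, hc, hA, hC, hle, h4⟩ :=
      key R (hP.of_injective (inclusion hRP) (inclusion_injective hRP)) W hW0 hW1 hWinv
    have heq : a = c := by
      have : a * c = a * a := by rw [← hac, hsq, ha']
      exact (Nat.eq_of_mul_eq_mul_left (by omega) this).symm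
    subst heq
    have hb : (sq P).index ≤ 2 * (sq R).index := by
      refine (index_sq_le_two_mul (R.subgroupOf P)).trans ?_
      rw [hR2]
      exact Nat.mul_le_mul_left _ (index_sq_equiv (Subgroup.subgroupOfEquivOfLe hRP))
    refine ⟨fun h => by nlinarith, fun _ => ?_⟩
    rcases eq_or_lt_of_le ha with h3 | h3
    · subst h3
      have hR4 := h4 rfl rfl
      have hP8 : Nat.card P ≤ 8 := by
        rw [← card_mul_index (R.subgroupOf P), hR2,
          Nat.card_congr (Subgroup.subgroupOfEquivOfLe hRP).toEquiv]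
        omega
      by_cases hex : ∃ x : P, x ^ 2 ≠ 1
      · have := small_case hP8 hex; omega
      push Not at hex
      have hcomm : ∀ x y : P, x * y = y * x := fun x y => by
        have hx : x⁻¹ = x := inv_eq_of_mul_eq_one_right (by rw [← pow_two, hex])
        have hy : y⁻¹ = y := inv_eq_of_mul_eq_one_right (by rw [← pow_two, hex])
        have hxy : (x * y)⁻¹ = x * y := inv_eq_of_mul_eq_one_right (by rw [← pow_two, hex])
        rw [← hxy, mul_inv_rev, hx, hy]
      have h2 : Nat.card P ≤ 2 := by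
        classical
        rw [show 2 = Nat.card Bool by simp]
        refine Nat.card_le_card_of_injective (fun x : P => decide (x = 1)) fun x y hxy => ?_
        have hiff : x = 1 ↔ y = 1 := decide_eq_decide.1 hxy
        by_cases hx : x = 1
        · rw [hx, hiff.1 hx]
        · exact huniq x y (fun g => hcomm g x) (hex x) hx (fun g => hcomm g y) (hex y)
            (fun h => hx (hiff.2 h))
      have := Nat.le_of_dvd Nat.card_pos (index_dvd_card (sq P))
      omega
    · rcases hA with hA | ⟨rfl, -⟩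
      · rcases hC with hC | ⟨rfl, -⟩
        · nlinarith
        · omega
      · omega
  push Not at hidx
  -- no noncyclic normal elementary abelian subgroup
  have hnoE : ∀ E : Subgroup P, E.Normal → (∀ x ∈ E, x ^ 2 = 1) → (∀ x ∈ E, ∀ y ∈ E, x * y = y * x) →
      Nat.card E ≤ 2 := by
    intro E hEn hEsq hEc
    by_contra! hE
    obtain ⟨Z, hZE, hZc, hZn, hZcard⟩ := Fusion.exists_central_card_prime (p := 2) hP E
      (fun h => by rw [h, card_bot] at hE; omega)
    obtain ⟨z, hzZ, hz1⟩ := Z.bot_or_exists_ne_one.resolve_left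
      (fun h => by rw [h, card_bot] at hZcard; omega)
    have hZmem : ∀ y ∈ Z, y = 1 ∨ y = z := by
      intro y hy
      obtain ⟨v, hv, hv'⟩ := (Nat.card_eq_two_iff' (1 : Z)).1 hZcard
      by_cases h : y = 1
      · exact Or.inl h
      · exact Or.inr (congrArg Subtype.val
          ((hv' ⟨y, hy⟩ fun e => h (congrArg Subtype.val e)).trans
            (hv' ⟨z, hzZ⟩ fun e => hz1 (congrArg Subtype.val e)).symm))
    have hne : E.map (QuotientGroup.mk' Z) ≠ ⊥ := by
      rw [Ne, Subgroup.map_eq_bot_iff, QuotientGroup.ker_mk']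
      intro h
      have := Nat.le_of_dvd Nat.card_pos (card_dvd_of_le h)
      omega
    have hEn' : (E.map (QuotientGroup.mk' Z)).Normal := hEn.map _ (QuotientGroup.mk'_surjective Z)
    obtain ⟨q, hq, hq1⟩ := (E.map (QuotientGroup.mk' Z) ⊓ center (P ⧸ Z)).bot_or_exists_ne_one.resolve_left
      (Fusion.pGroup_inf_center_ne_bot (hP.to_quotient Z) _ hne)
    obtain ⟨a, haE, rfl⟩ := hq.1
    have haZ : a ∉ Z := fun h => hq1 ((QuotientGroup.eq_one_iff a).2 h)
    have hconj : ∀ x : P, x * a * x⁻¹ = a ∨ x * a * x⁻¹ = a * z := by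
      intro x
      have h1 : a⁻¹ * (x * a * x⁻¹) ∈ Z := by
        rw [← QuotientGroup.eq_one_iff, QuotientGroup.mk_mul, QuotientGroup.mk_inv,
          QuotientGroup.mk_mul, QuotientGroup.mk_mul, QuotientGroup.mk_inv]
        have := Subgroup.mem_center_iff.1 hq.2 (x : P ⧸ Z)
        simp only [QuotientGroup.mk'_apply] at this
        rw [this, mul_inv_cancel_right, inv_mul_cancel]
      rcases hZmem _ h1 with h | h
      · exact Or.inl (inv_mul_eq_one.1 h).symm
      · exact Or.inr (by rw [← h, mul_inv_cancel_left])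
    let C : Subgroup P := centralizer {a}
    have hCidx : C.index ≤ 2 := by
      rw [index_eq_card]
      let f : P ⧸ C → P := Quotient.lift (fun x => x * a * x⁻¹) (by
        intro x y hxy
        have h : x⁻¹ * y ∈ C := QuotientGroup.leftRel_apply.1 hxy
        have h' : a * (x⁻¹ * y) = x⁻¹ * y * a := mem_centralizer_singleton_iff.1 h |>.symm
        calc x * a * x⁻¹ = x * (a * (x⁻¹ * y)) * y⁻¹ := by group
          _ = y * a * y⁻¹ := by rw [h']; group)
      have hfi : Function.Injective f := by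
        intro x y
        induction x using QuotientGroup.induction_on with | _ x =>
        induction y using QuotientGroup.induction_on with | _ y =>
        intro h
        refine QuotientGroup.eq.2 (mem_centralizer_singleton_iff.2 ?_)
        calc x⁻¹ * y * a = x⁻¹ * (y * a * y⁻¹) * y := by group
          _ = x⁻¹ * (x * a * x⁻¹) * y := by rw [show x * a * x⁻¹ = y * a * y⁻¹ from h]
          _ = a * (x⁻¹ * y) := by group
      refine (Nat.card_le_card_of_injective (fun q => (⟨f q, ?_⟩ : ({a, a * z} : Set P)))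
        fun q r h => hfi (congrArg Subtype.val h)).trans ?_
      · induction q using QuotientGroup.induction_on with | _ x => exact hconj x
      · rw [Nat.card_coe_set_eq]
        exact (Set.ncard_insert_le _ _).trans (by rw [Set.ncard_singleton])
    let F : Subgroup V := (a : MulAut V).toMonoidHom.eqLocus (MonoidHom.id V)
    have hFtop : F ≠ ⊤ := fun hF => haZ (by
      have : a = 1 := Subtype.ext (MulEquiv.ext fun v => (hF ▸ mem_top v : v ∈ F))
      rw [this]; exact one_mem Z)
    have hFbot : F ≠ ⊥ := fun hF => haZ (by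
      suffices a = z by rw [this]; exact hzZ
      refine Subtype.ext (MulEquiv.ext fun v => ?_)
      have h2 : (a : MulAut V) ((a : MulAut V) v) = v := by
        rw [← MulAut.mul_apply, ← Subgroup.coe_mul, ← pow_two a, hEsq a haE]; rfl
      have hv : v * (a : MulAut V) v ∈ F := by
        change (a : MulAut V) (v * (a : MulAut V) v) = v * (a : MulAut V) v
        rw [map_mul, h2, mul_comm]
      rw [hF, mem_bot] at hv
      rw [eq_inv_of_mul_eq_one_right hv,
        hinv z (fun g => Subgroup.mem_center_iff.1 (hZc hzZ) g) (hEsq z (hZE hzZ)) hz1 v])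
    have hFinv : ∀ x ∈ C.map P.subtype, ∀ w ∈ F, x w ∈ F := by
      rintro _ ⟨x, hx, rfl⟩ w hw
      have hx' : a * x = x * a := (mem_centralizer_singleton_iff.1 hx).symm
      change (a : MulAut V) ((x : MulAut V) w) = (x : MulAut V) w
      rw [← MulAut.mul_apply, ← Subgroup.coe_mul, hx', Subgroup.coe_mul, MulAut.mul_apply,
        show (a : MulAut V) w = w from hw]
    have h2' : C.index = 1 ∨ C.index = 2 := by
      have := Nat.pos_of_ne_zero (index_ne_zero_of_finite (H := C))
      omega
    rcases h2' with h | h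
    · have hC := index_eq_one.1 h
      rcases hirr F fun g hg => hFinv g ⟨⟨g, hg⟩, by simp [hC], rfl⟩ with e | e
      · exact hFbot e
      · exact hFtop e
    · obtain ⟨g, hg, w, hw, hgw⟩ := hidx (C.map P.subtype) (map_subtype_le C)
        (by rwa [show (C.map P.subtype).subgroupOf P = C from
          comap_map_eq_self_of_injective P.subtype_injective C]) F hFbot hFtop
      exact hgw (hFinv g hg w hw)
  have hb4 : (sq P).index ≤ 4 := by
    by_cases hcyc : IsCyclic P
    · exact (index_sq_le_two_of_cyclic hcyc).trans (by omega)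
    obtain ⟨U, -, hUn, hUc, hmax⟩ := Fusion.exists_maximal_normal_abelian (⊥ : Subgroup P) inferInstance
    have hC := Fusion.centralizer_eq_of_maximal_normal_abelian hP U hUc hmax
    have hUcyc : IsCyclic U := by
      by_contra hnc
      have hcm : ∀ x ∈ U, ∀ y ∈ U, x * y = y * x := fun x hx y hy =>
        congrArg Subtype.val (hUc.is_comm.comm ⟨x, hx⟩ ⟨y, hy⟩)
      let E : Subgroup P :=
        { carrier := {x | x ∈ U ∧ x ^ 2 = 1}
          one_mem' := ⟨one_mem U, one_pow 2⟩
          mul_mem' := fun {x y} hx hy => ⟨mul_mem hx.1 hy.1, by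
            rw [(show Commute x y from hcm x hx.1 y hy.1).mul_pow, hx.2, hy.2, one_mul]⟩
          inv_mem' := fun {x} hx => ⟨inv_mem hx.1, by rw [inv_pow, hx.2, inv_one]⟩ }
      have hEn : E.Normal := ⟨fun x hx g => ⟨hUn.conj_mem x hx.1 g, by rw [conj_pow, hx.2]; group⟩⟩
      have hE := hnoE E hEn (fun x hx => hx.2) (fun x hx y hy => hcm x hx.1 y hy.1)
      refine hnc (Invol.isCyclic_of_unique_involution (hP.to_subgroup U) fun x y hx hy => ?_)
      by_contra hxy
      have hmem : ∀ w : U, orderOf w = 2 → (w : P) ∈ E := fun w hw => ⟨w.2, by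
        rw [← SubgroupClass.coe_pow, ← hw, pow_orderOf_eq_one]; rfl⟩
      have hne1 : ∀ w : U, orderOf w = 2 → (w : P) ≠ 1 := fun w hw h => by
        rw [← Subgroup.orderOf_coe, h, orderOf_one] at hw; omega
      have : 3 ≤ Nat.card E := by
        classical
        have hs : ({⟨1, one_mem E⟩, ⟨x, hmem x hx⟩, ⟨y, hmem y hy⟩} : Set E).ncard = 3 := by
          rw [Set.ncard_eq_three]
          exact ⟨_, _, _, fun h => hne1 x hx (congrArg Subtype.val h).symm,
            fun h => hne1 y hy (congrArg Subtype.val h).symm,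
            fun h => hxy (Subtype.ext (congrArg Subtype.val h :)), rfl⟩
        rw [← hs]; exact Set.ncard_le_card _
      omega
    by_cases hna : IsMulCommutative P
    · exfalso
      have hT := hmax ⊤ inferInstance ⟨⟨fun x y => Subtype.ext (hna.is_comm.comm x.1 y.1)⟩⟩ le_top
      rw [← hT] at hUcyc
      exact hcyc ((Subgroup.topEquiv (G := P)).isCyclic.1 hUcyc)
    obtain ⟨k, hk⟩ := IsPGroup.iff_card.1 (hP.to_subgroup U)
    rcases MaxClass.cyclic_normal_cases hP hna U hUcyc hk hC with ⟨-, hcard, -⟩ | ⟨-, hel, hcard, hchar⟩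
    · refine (index_sq_le_two_mul U).trans ?_
      have hU2 : U.index = 2 := by
        have := U.card_mul_index
        rw [hk, hcard, pow_succ] at this
        exact Nat.eq_of_mul_eq_mul_left (by positivity) this
      rw [hU2]
      have := index_sq_le_two_of_cyclic hUcyc
      omega
    · exfalso
      have hΩn : (Cfsg.omegaOne 2 (centralizer (Cfsg.powerClosure 2 1 U : Set P))).Normal := inferInstance
      have := hnoE _ hΩn (fun x hx => ?_) (fun x hx y hy => ?_)
      · rw [hcard] at this; omega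
      · exact hel.2 x hx
      · exact congrArg Subtype.val (hel.1.is_comm.comm ⟨x, hx⟩ ⟨y, hy⟩)
  have hsmall : ∀ p : ℕ, [Fact p.Prime] → n = p → IsCyclic P ∧ Nat.card P ∣ p - 1 := by
    intro p hp hnp
    have hVc : IsCyclic V := isCyclic_of_prime_card (hn.trans hnp)
    let e := IsCyclic.mulAutMulEquiv V
    rw [hn, hnp] at e
    refine ⟨isCyclic_of_injective (e.toMonoidHom.comp P.subtype) (e.injective.comp P.subtype_injective), ?_⟩
    have := card_dvd_of_injective (e.toMonoidHom.comp P.subtype) (e.injective.comp P.subtype_injective)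
    rwa [Nat.card_eq_fintype_card (α := (ZMod p)ˣ), ZMod.card_units] at this
  refine ⟨fun h3 => ?_, fun h3 => ?_⟩
  · have : Fact (Nat.Prime 3) := ⟨Nat.prime_three⟩
    exact Nat.le_of_dvd two_pos (hsmall 3 h3).2
  · by_cases h9 : 9 ≤ n
    · omega
    have h57 : n = 5 ∨ n = 7 := by omega
    have h2 : (sq P).index ≤ 2 := by
      rcases h57 with h | h
      · have : Fact (Nat.Prime 5) := ⟨by norm_num⟩
        exact index_sq_le_two_of_cyclic (hsmall 5 h).1
      · have : Fact (Nat.Prime 7) := ⟨by norm_num⟩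
        exact index_sq_le_two_of_cyclic (hsmall 7 h).1
    omega

theorem result {G : Type*} [Group G] [Finite G] (N P : Subgroup G) (hN : N.Normal) (hNab : IsMulCommutative ↥N) (hNodd : Odd (Nat.card ↥N)) (hP : IsPGroup 2 ↥P) (hdisj : N ⊓ P = ⊥) (hprod : N ⊔ P = ⊤) (hmin : N ≠ ⊥ ∧ ∀ M : Subgroup G, M.Normal → M ≠ ⊥ → N ≤ M) : (frattini ↥P).index ≤ Nat.card ↥N - 1 := by
  obtain ⟨hN0, hmin⟩ := hmin
  let _ : CommGroup N :=
    { (inferInstance : Group N) with mul_comm := fun a b => hNab.is_comm.comm a b }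
  let φ : P →* MulAut N := (MulAut.conjNormal : G →* MulAut N).comp P.subtype
  have hφ : Function.Injective φ := by
    rw [injective_iff_map_eq_one]
    intro x hx
    by_contra hx1
    let K : Subgroup G := φ.ker.map P.subtype
    have hKN : ∀ k ∈ K, ∀ v ∈ N, k * v = v * k := by
      rintro _ ⟨k, hk, rfl⟩ v hv
      have h := congrArg Subtype.val (DFunLike.congr_fun (MonoidHom.mem_ker.1 hk) ⟨v, hv⟩)
      exact mul_inv_eq_iff_eq_mul.1 h
    have hKn : K.Normal := by
      rw [← normalizer_eq_top_iff, eq_top_iff, ← hprod, sup_le_iff]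
      refine ⟨fun v hv => mem_normalizer_iff.2 fun k => ?_, fun g hg => mem_normalizer_iff.2 fun k => ?_⟩
      · refine ⟨fun hk => by rwa [← hKN k hk v hv, mul_inv_cancel_right], fun hk => ?_⟩
        have := hKN _ hk v hv
        have h2 : v * k * v⁻¹ = k := by
          have : v * k = v * (v * k * v⁻¹) := by rw [← this]; group
          exact (mul_left_cancel this).symm
        rwa [h2] at hk
      · have hcj : ∀ (y : P) (m : G), m ∈ K → (y : G) * m * (y : G)⁻¹ ∈ K := by
          intro y m hm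
          obtain ⟨k, hk, hkm⟩ := Subgroup.mem_map.1 hm
          refine Subgroup.mem_map.2 ⟨y * k * y⁻¹, φ.normal_ker.conj_mem k hk y, ?_⟩
          rw [map_mul, map_mul, map_inv, hkm]; rfl
        refine ⟨fun hk => hcj ⟨g, hg⟩ k hk, fun hk => ?_⟩
        have h := hcj ⟨g⁻¹, inv_mem hg⟩ _ hk
        simpa [mul_assoc] using h
    have hK0 : K ≠ ⊥ := fun h => hx1 (Subtype.ext (by
      have : (x : G) ∈ K := ⟨x, hx, rfl⟩
      rwa [h, mem_bot] at this))
    exact hN0 (le_bot_iff.1 (hdisj ▸ le_inf le_rfl ((hmin K hKn hK0).trans (map_subtype_le _))))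
  have hP' : IsPGroup 2 φ.range := hP.of_surjective _ φ.rangeRestrict_surjective
  have h1 : 1 < Nat.card N := (one_lt_card_iff_ne_bot N).2 hN0
  have hb := (bd_main (Nat.card N) N hNodd rfl h1 φ.range hP').index_sq
  have hle : (frattini P).index ≤ (sq φ.range).index :=
    (index_le (sq_le_of_coatom hP)).trans (index_sq_equiv (MonoidHom.ofInjective hφ))
  omega

end Cfsg.Agent.S4188
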