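import Cfsg.Statements.S4189
import Cfsg.Agent.Core.Frattini
import Cfsg.Agent.Fusion.UniqueInvolution
import Cfsg.Agent.Regular.Basic
-- import your own Cfsg.Agent.* helpers here

set_option autoImplicit false
open Cfsg
open Cfsg.Agent
open scoped commutatorElement Pointwise

namespace Cfsg.Agent.S4189
open Cfsg.Agent in
theorem CN.commutative_of_eq {P : Type*} [Group P] [Finite P] (hP : IsPGroup 2 P)
    (h : commutator P ≤ ⁅commutator P, (⊤ : Subgroup P)⁆) : IsMulCommutative P := by
  have := hP.isNilpotent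
  obtain ⟨m, hm⟩ := Subgroup.nilpotent_iff_lowerCentralSeries.mp (inferInstance : Group.IsNilpotent P)
  have hle : ∀ j, commutator P ≤ (⊤ : Subgroup P).lowerCentralSeries j := fun j => by
    induction j with
    | zero => exact le_top
    | succ j ih => exact h.trans (Subgroup.commutator_mono ih le_rfl)
  exact Std.Commutative.mk (fun x y => commutatorElement_eq_one_iff_commute.mp (Subgroup.mem_bot.mp (hm ▸ hle m
    ((_root_.commutator_def P).symm ▸ Subgroup.commutator_mem_commutator (Subgroup.mem_top x) (Subgroup.mem_top y))))) |> fun h => ⟨h⟩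



/-- Let P be a finite non-abelian 2-group whose commutator subgroup has index 4 and whose automorphism group is not a 2-group (some automorphism has order that is not a power of 2). Then P is isomorphic to the quaternion group of order 8. -/
theorem result {P : Type*} [Group P] [Finite P] (hP : IsPGroup 2 P) (hna : ¬ IsMulCommutative P) (h4 : (commutator P).index = 4) (haut : ¬ IsPGroup 2 (MulAut P)) : Nonempty (P ≃* QuaternionGroup 2) := by
  classical
  set S := commutator P with hS
  have hSφ : ∀ (φ : MulAut P) (s : P), s ∈ S → φ s ∈ S := fun φ s hs => by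
    have h := Subgroup.mem_map_of_mem φ.toMonoidHom hs
    rwa [Subgroup.characteristic_iff_map_eq.mp (inferInstance : S.Characteristic) φ] at h
  have := hP.isNilpotent
  have hfr : S ≤ frattini P := Core.commutator_le_frattini
  -- the abelianisation is a four-group
  have hsq : ∀ x : P, x ^ 2 ∈ S := fun x => by
    rw [← QuotientGroup.eq_one_iff, QuotientGroup.mk_pow]
    have h1 := orderOf_dvd_natCard (x : P ⧸ S)
    rw [← Subgroup.index_eq_card, h4] at h1
    obtain ⟨j, hj, hj'⟩ := (Nat.dvd_prime_pow Nat.prime_two).mp (show orderOf (x : P ⧸ S) ∣ 2 ^ 2 by simpa using h1)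
    by_contra hne
    have hj2 : j = 2 := by
      by_contra hj2
      exact hne (orderOf_dvd_iff_pow_eq_one.mp (hj' ▸ (pow_dvd_pow 2 (show j ≤ 1 by omega))))
    subst hj2
    have hgen : Subgroup.zpowers (x : P ⧸ S) = ⊤ :=
      Subgroup.eq_top_of_card_eq _ (by rw [Nat.card_zpowers, hj', ← Subgroup.index_eq_card, h4]; norm_num)
    have h2 : Subgroup.zpowers x ⊔ S = ⊤ := by
      refine eq_top_iff.mpr fun y _ => ?_
      obtain ⟨i, hi⟩ := Subgroup.mem_zpowers_iff.mp (hgen ▸ Subgroup.mem_top (y : P ⧸ S))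
      rw [← QuotientGroup.mk_zpow, QuotientGroup.eq] at hi
      rw [← mul_inv_cancel_left (x ^ i) y]
      exact mul_mem (Subgroup.mem_sup_left (Subgroup.zpow_mem_zpowers x i)) (Subgroup.mem_sup_right hi)
    have h3 := frattini_nongenerating (K := Subgroup.zpowers x) (top_le_iff.mp (h2 ▸ sup_le_sup_left hfr _))
    refine hna ⟨⟨fun u v => ?_⟩⟩
    obtain ⟨i, rfl⟩ := Subgroup.mem_zpowers_iff.mp (h3 ▸ Subgroup.mem_top u)
    obtain ⟨l, rfl⟩ := Subgroup.mem_zpowers_iff.mp (h3 ▸ Subgroup.mem_top v)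
    exact ((Commute.refl x).zpow_zpow i l).eq
  have hcov : ∀ a b : P, a ∉ S → b ∉ S → a⁻¹ * b ∉ S → ∀ x : P,
      x ∈ S ∨ a⁻¹ * x ∈ S ∨ b⁻¹ * x ∈ S ∨ (a * b)⁻¹ * x ∈ S := fun a b ha hb hab => by
    have := Fintype.ofFinite (P ⧸ S)
    have hne : ∀ u v : P, u⁻¹ * v ∉ S → (u : P ⧸ S) ≠ v := fun u v h e => h (QuotientGroup.eq.mp e)
    have hcard : ({(1 : P ⧸ S), (a : P ⧸ S), (b : P ⧸ S), ((a * b : P) : P ⧸ S)} : Finset (P ⧸ S)).card = 4 := by
      have h1 : (1 : P ⧸ S) ≠ a := fun e => ha ((QuotientGroup.eq_one_iff a).mp e.symm)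
      have h2 : (1 : P ⧸ S) ≠ b := fun e => hb ((QuotientGroup.eq_one_iff b).mp e.symm)
      have h3 : (1 : P ⧸ S) ≠ (a * b : P) := fun e => hab (by
        have h := mul_mem (inv_mem (hsq a)) ((QuotientGroup.eq_one_iff (a * b)).mp e.symm)
        rwa [show (a ^ 2)⁻¹ * (a * b) = a⁻¹ * b by group] at h)
      have h4' : (a : P ⧸ S) ≠ (a * b : P) := hne _ _ (by rwa [inv_mul_cancel_left])
      have h5 : (b : P ⧸ S) ≠ (a * b : P) := fun e => ha (by
        rw [← QuotientGroup.eq_one_iff]; rw [QuotientGroup.mk_mul, right_eq_mul] at e; exact e)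
      rw [Finset.card_insert_of_notMem (by simp only [Finset.mem_insert, Finset.mem_singleton, not_or]; exact ⟨h1, h2, h3⟩),
        Finset.card_insert_of_notMem (by simp only [Finset.mem_insert, Finset.mem_singleton, not_or]; exact ⟨hne _ _ hab, h4'⟩),
        Finset.card_insert_of_notMem (by simp only [Finset.mem_singleton]; exact h5), Finset.card_singleton]
    have huniv := Finset.eq_univ_of_card _ (hcard.trans (by rw [← Nat.card_eq_fintype_card, ← Subgroup.index_eq_card, h4]))
    intro x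
    have hx := huniv ▸ Finset.mem_univ (x : P ⧸ S)
    simp only [Finset.mem_insert, Finset.mem_singleton] at hx
    rcases hx with h | h | h | h
    · exact Or.inl ((QuotientGroup.eq_one_iff x).mp h)
    · exact Or.inr (Or.inl (QuotientGroup.eq.mp h.symm))
    · exact Or.inr (Or.inr (Or.inl (QuotientGroup.eq.mp h.symm)))
    · exact Or.inr (Or.inr (Or.inr (QuotientGroup.eq.mp h.symm)))
  -- an automorphism of odd prime order moves a coset
  obtain ⟨r, hr, hr2, φ, hφ⟩ : ∃ r : ℕ, r.Prime ∧ r ≠ 2 ∧ ∃ φ : MulAut P, orderOf φ = r := by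
    by_contra hcon
    push Not at hcon
    refine haut (IsPGroup.of_card (p := 2) (Nat.eq_prime_pow_of_unique_prime_dvd (Nat.card_pos (α := MulAut P)).ne' fun {d} hd hdvd => ?_))
    by_contra hd2
    have : Fact d.Prime := ⟨hd⟩
    obtain ⟨φ, hφ⟩ := exists_prime_orderOf_dvd_card' (G := MulAut P) d hdvd
    exact hcon d hd hd2 φ hφ
  have : Fact r.Prime := ⟨hr⟩
  have hgenAB : ∀ a b : P, a ∉ S → b ∉ S → a⁻¹ * b ∉ S → Subgroup.closure ({a, b} : Set P) = ⊤ := fun a b ha hb hab => by
    refine frattini_nongenerating (top_le_iff.mp (le_trans ?_ (sup_le_sup_left hfr _)))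
    intro x _
    have hmem : ∀ w ∈ Subgroup.closure ({a, b} : Set P), w⁻¹ * x ∈ S → x ∈ Subgroup.closure ({a, b} : Set P) ⊔ S :=
      fun w hw h => by rw [← mul_inv_cancel_left w x]; exact mul_mem (Subgroup.mem_sup_left hw) (Subgroup.mem_sup_right h)
    have ha' : a ∈ Subgroup.closure ({a, b} : Set P) := Subgroup.subset_closure (Set.mem_insert _ _)
    have hb' : b ∈ Subgroup.closure ({a, b} : Set P) := Subgroup.subset_closure (Set.mem_insert_of_mem _ rfl)
    rcases hcov a b ha hb hab x with h | h | h | h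
    · exact Subgroup.mem_sup_right h
    · exact hmem a ha' h
    · exact hmem b hb' h
    · exact hmem _ (mul_mem ha' hb') h
  have hmove : ∃ a, a ∉ S ∧ a⁻¹ * φ a ∉ S := by
    by_contra hcon
    push Not at hcon
    have hall : ∀ x : P, x⁻¹ * φ x ∈ S := fun x => by
      by_cases hx : x ∈ S
      · exact mul_mem (inv_mem hx) (hSφ φ x hx)
      · exact hcon x hx
    obtain ⟨a, ha⟩ : ∃ a, a ∉ S := by
      by_contra h
      push Not at h
      rw [Subgroup.eq_top_iff' S |>.mpr h, Subgroup.index_top] at h4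
      omega
    obtain ⟨b, hb, hab⟩ : ∃ b, b ∉ S ∧ a⁻¹ * b ∉ S := by
      by_contra h
      push Not at h
      have htop : Subgroup.zpowers a ⊔ S = ⊤ := (Subgroup.eq_top_iff' _).mpr fun x => by
        by_cases hx : x ∈ S
        · exact Subgroup.mem_sup_right hx
        · rw [← mul_inv_cancel_left a x]
          exact mul_mem (Subgroup.mem_sup_left (Subgroup.mem_zpowers a)) (Subgroup.mem_sup_right (h x hx))
      have h3 := frattini_nongenerating (K := Subgroup.zpowers a) (top_le_iff.mp (htop ▸ sup_le_sup_left hfr _))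
      refine hna ⟨⟨fun u v => ?_⟩⟩
      obtain ⟨i, rfl⟩ := Subgroup.mem_zpowers_iff.mp (h3 ▸ Subgroup.mem_top u)
      obtain ⟨l, rfl⟩ := Subgroup.mem_zpowers_iff.mp (h3 ▸ Subgroup.mem_top v)
      exact ((Commute.refl a).zpow_zpow i l).eq
    -- `φ` fixes a pair of generators
    have hfix : ∀ c : P, ∃ x, c⁻¹ * x ∈ S ∧ φ x = x := fun c => by
      have := Fintype.ofFinite {x : P // c⁻¹ * x ∈ S}
      have hmapc : ∀ x : P, c⁻¹ * x ∈ S → c⁻¹ * φ x ∈ S := fun x hx => by
        rw [show c⁻¹ * φ x = (c⁻¹ * φ c) * φ (c⁻¹ * x) by rw [map_mul, map_inv]; group]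
        exact mul_mem (hall c) (hSφ φ _ hx)
      let σ : Equiv.Perm {x : P // c⁻¹ * x ∈ S} := Equiv.ofBijective (fun x => ⟨φ x.1, hmapc x.1 x.2⟩)
        (Finite.injective_iff_bijective.mp fun u v huv => Subtype.ext (φ.injective (congrArg Subtype.val huv)))
      have hσk : ∀ (k : ℕ) (x : {x : P // c⁻¹ * x ∈ S}), ((σ ^ k) x).1 = (φ ^ k : MulAut P) x.1 := fun k => by
        induction k with
        | zero => intro x; rfl
        | succ k ih =>
          intro x
          rw [pow_succ', pow_succ', Equiv.Perm.mul_apply, MulAut.mul_apply, ← ih x]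
          rfl
      obtain ⟨x, hx⟩ := Equiv.Perm.exists_fixed_point_of_prime (p := r) (n := 1) (σ := σ) (by
        rw [← Nat.card_eq_fintype_card]
        have hcard : Nat.card {x : P // c⁻¹ * x ∈ S} = Nat.card S :=
          Nat.card_congr ((Equiv.mulLeft c⁻¹).subtypeEquiv fun x => Iff.rfl)
        obtain ⟨k, hk⟩ := (hP.to_subgroup S).exists_card_eq
        rw [hcard, hk]
        exact fun h => hr2 ((Nat.prime_dvd_prime_iff_eq hr Nat.prime_two).mp (hr.dvd_of_dvd_pow h))) (by
        refine Equiv.ext fun x => Subtype.ext ?_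
        rw [hσk, pow_one, ← hφ, pow_orderOf_eq_one]
        rfl)
      exact ⟨x.1, x.2, congrArg Subtype.val hx⟩
    obtain ⟨a', ha'S, ha'φ⟩ := hfix a
    obtain ⟨b', hb'S, hb'φ⟩ := hfix b
    have ha'n : a' ∉ S := fun h => ha (by simpa using mul_mem h (inv_mem ha'S))
    have hb'n : b' ∉ S := fun h => hb (by simpa using mul_mem h (inv_mem hb'S))
    have hab'n : a'⁻¹ * b' ∉ S := fun h => hab (by
      rw [show a⁻¹ * b = a⁻¹ * a' * (a'⁻¹ * b') * (b⁻¹ * b')⁻¹ by group]
      exact mul_mem (mul_mem ha'S h) (inv_mem hb'S))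
    have hφ1 : φ.toMonoidHom = MonoidHom.id P := MonoidHom.eq_of_eqOn_dense (hgenAB a' b' ha'n hb'n hab'n) (by
      rintro z (rfl | rfl)
      · exact ha'φ
      · exact hb'φ)
    have hone : φ = 1 := MulEquiv.ext fun x => DFunLike.congr_fun hφ1 x
    rw [hone, orderOf_one] at hφ
    exact hr.ne_one hφ.symm
  obtain ⟨a, ha, hab⟩ := hmove
  set b := φ a with hbdef
  have hb : b ∉ S := fun h => ha (by
    have h1 := hSφ φ⁻¹ b h
    rwa [hbdef, MulAut.inv_apply_self] at h1)
  have hψ : ∀ x y : P, x⁻¹ * y ∈ S → ∀ ψ : MulAut P, (ψ x)⁻¹ * ψ y ∈ S := fun x y h ψ => by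
    rw [← map_inv, ← map_mul]; exact hSφ ψ _ h
  -- `φ b` lies in the third coset
  have hb3 : (a * b)⁻¹ * φ b ∈ S := by
    rcases hcov a b ha hb hab (φ b) with h | h | h | h
    · exact absurd h fun h => hb (by
        have h1 := hSφ φ⁻¹ _ h
        rwa [MulAut.inv_apply_self] at h1)
    · exfalso
      -- then `φ ^ 2` fixes the coset, so `φ` does
      have h2 : ∀ k : ℕ, a⁻¹ * (φ ^ (2 * k) : MulAut P) a ∈ S := fun k => by
        induction k with
        | zero => simp
        | succ k ih =>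
          have e : (φ ^ (2 * (k + 1)) : MulAut P) a = φ (φ ((φ ^ (2 * k) : MulAut P) a)) := by
            rw [show 2 * (k + 1) = 2 * k + 1 + 1 by ring, pow_succ', pow_succ', MulAut.mul_apply, MulAut.mul_apply]
          rw [e, show a⁻¹ * φ (φ ((φ ^ (2 * k) : MulAut P) a))
            = (a⁻¹ * φ b) * ((φ b)⁻¹ * φ (φ ((φ ^ (2 * k) : MulAut P) a))) by group]
          exact mul_mem h (hψ _ _ (hψ _ _ ih φ) φ)
      obtain ⟨k, hk⟩ := hr.odd_of_ne_two hr2
      apply hab
      have h3 := h2 (k + 1)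
      rwa [show 2 * (k + 1) = r + 1 by omega, pow_succ, ← hφ, pow_orderOf_eq_one, one_mul] at h3
    · exfalso
      apply hab
      have h1 := hψ _ _ (show (φ a)⁻¹ * φ b ∈ S from h) φ⁻¹
      rwa [MulAut.inv_apply_self, MulAut.inv_apply_self] at h1
    · exact h
  -- the commutator of `P'` with `P`
  set K := ⁅S, (⊤ : Subgroup P)⁆ with hKdef
  have hKS : K ≤ S := Subgroup.commutator_le_left S ⊤
  have hKn : K.Normal := Subgroup.commutator_normal S ⊤
  let π := QuotientGroup.mk' K
  have hcent : ∀ s ∈ S, ∀ x : P, Commute (π s) (π x) := fun s hs x => by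
    rw [← commutatorElement_eq_one_iff_commute, ← map_commutatorElement, QuotientGroup.mk'_apply, QuotientGroup.eq_one_iff]
    exact Subgroup.commutator_mem_commutator hs (Subgroup.mem_top x)
  have hgen := hgenAB a b ha hb hab
  set c := ⁅b, a⁆ with hc
  have hcS : c ∈ S := by
    rw [hS, _root_.commutator_def]; exact Subgroup.commutator_mem_commutator (Subgroup.mem_top _) (Subgroup.mem_top _)
  have hSc : ∀ s ∈ S, ∃ i : ℤ, π s = π c ^ i := by
    intro s hs
    have hle : S ≤ Subgroup.comap π (Subgroup.zpowers (π c)) := by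
      rw [hS, _root_.commutator_def, ← hgen]
      refine Regular.commutator_closure_le ?_ ?_
      · intro g _
        rw [Subgroup.mem_normalizer_iff]
        intro n
        simp only [Subgroup.mem_comap, map_mul, map_inv]
        constructor
        · intro hn
          obtain ⟨i, hi⟩ := Subgroup.mem_zpowers_iff.mp hn
          rw [← hi, ← ((hcent c hcS g).zpow_left i).eq, mul_inv_cancel_right]
          exact Subgroup.zpow_mem_zpowers _ _
        · intro hn
          obtain ⟨i, hi⟩ := Subgroup.mem_zpowers_iff.mp hn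
          rw [show π n = (π g)⁻¹ * (π g * π n * (π g)⁻¹) * π g by group, ← hi, mul_assoc,
            ((hcent c hcS g).zpow_left i).eq, inv_mul_cancel_left]
          exact Subgroup.zpow_mem_zpowers _ _
      · rintro x (rfl | rfl) y (rfl | rfl)
        · simp
        · rw [← commutatorElement_inv]
          exact inv_mem (Subgroup.mem_zpowers _)
        · exact Subgroup.mem_zpowers _
        · simp
    obtain ⟨i, hi⟩ := Subgroup.mem_zpowers_iff.mp (hle hs)
    exact ⟨i, hi.symm⟩
  have hKφ : K.Characteristic := Subgroup.commutator_characteristic S ⊤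
  have hπφ : ∀ x y : P, π x = π y → π (φ x) = π (φ y) := fun x y h => by
    rw [QuotientGroup.mk'_eq_mk'] at h ⊢
    obtain ⟨z, hz, rfl⟩ := h
    exact ⟨φ z, by
      have h := Subgroup.mem_map_of_mem φ.toMonoidHom hz
      rwa [Subgroup.characteristic_iff_map_eq.mp hKφ φ] at h, (map_mul φ x z).symm⟩
  -- squares of the generators
  have hc2 : π c ^ 2 = 1 := by
    have h1 : Commute (π b) (π a ^ 2) := by rw [← map_pow]; exact (hcent _ (hsq a) b).symm
    have h2 : π b * π a * (π b)⁻¹ = π c * π a := by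
      rw [← map_inv, ← map_mul, ← map_mul, ← map_mul]; congr 1; rw [hc, commutatorElement_def]; group
    have h3 : (π c * π a) ^ 2 = π a ^ 2 := by
      rw [← h2, conj_pow, h1.eq, mul_inv_cancel_right]
    rw [(hcent c hcS a).mul_pow, mul_eq_right] at h3
    exact h3
  have hsame : ∀ x y : P, x⁻¹ * y ∈ S → π y ^ 2 = π x ^ 2 := fun x y h => by
    obtain ⟨i, hi⟩ := hSc _ h
    rw [show y = x * (x⁻¹ * y) by group, map_mul, (hcent _ h x).symm.mul_pow, hi, ← zpow_natCast (π c ^ i),
      ← zpow_mul, mul_comm i, zpow_mul, zpow_natCast, hc2, one_zpow, mul_one]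
  obtain ⟨i, hi⟩ := hSc _ (hsq a)
  rw [map_pow] at hi
  have hfixc : π (φ c) = π c := by
    obtain ⟨j, hj⟩ := hSc _ (hSφ φ c hcS)
    rcases Int.even_or_odd j with ⟨m, rfl⟩ | ⟨m, rfl⟩
    · exfalso
      rw [← two_mul, zpow_mul, show π c ^ (2 : ℤ) = 1 by rw [zpow_two, ← pow_two, hc2], one_zpow] at hj
      -- then `c ∈ K`, so `S = K`
      have h1 : π c = 1 := by
        have h2 : φ c ∈ K := (QuotientGroup.eq_one_iff _).mp hj
        have h3 := Subgroup.mem_map_of_mem (φ⁻¹ : MulAut P).toMonoidHom h2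
        rw [Subgroup.characteristic_iff_map_eq.mp hKφ, MulEquiv.coe_toMonoidHom, MulAut.inv_apply_self] at h3
        exact (QuotientGroup.eq_one_iff _).mpr h3
      have hSK : S ≤ K := fun s hs => by
        obtain ⟨l, hl⟩ := hSc s hs
        rw [h1, one_zpow] at hl
        exact (QuotientGroup.eq_one_iff _).mp hl
      exact hna (CN.commutative_of_eq hP hSK)
    · rw [hj, zpow_add, zpow_mul, show π c ^ (2 : ℤ) = 1 by rw [zpow_two, ← pow_two, hc2], one_zpow, one_mul, zpow_one]
  have hv : π b ^ 2 = π a ^ 2 := by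
    have h1 : π (φ (a ^ 2)) = π (φ (c ^ i)) := hπφ _ _ (by rw [map_pow, map_zpow, hi])
    rw [map_pow φ, map_pow π, ← hbdef, map_zpow φ, map_zpow π, hfixc] at h1
    rw [h1, hi]
  have ha2 : π a ^ 2 = π c := by
    have h1 : π (φ b) ^ 2 = π b ^ 2 := by
      have h1 : π (φ (b ^ 2)) = π (φ (c ^ i)) := hπφ _ _ (by rw [map_pow, map_zpow, hv, hi])
      rw [map_pow φ, map_pow π, map_zpow φ, map_zpow π, hfixc] at h1
      rw [h1, hv, hi]
    have h2 := hsame _ _ hb3
    rw [h1, hv, map_mul, pow_two (π a * π b)] at h2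
    have h3 : π b * π a = π c * π a * π b := by
      rw [← map_mul, ← map_mul, ← map_mul]; congr 1; rw [hc, commutatorElement_def]; group
    rw [show π a * π b * (π a * π b) = π a * (π b * π a) * π b by group, h3,
      show π a * (π c * π a * π b) * π b = (π a * π c) * π a * (π b * π b) by group, (hcent c hcS a).symm.eq,
      ← pow_two, hv, mul_assoc (π c), ← pow_two] at h2
    -- `v = c v v`
    have h4 : π c * π a ^ 2 = 1 := mul_right_cancel (b := π a ^ 2) (by rw [one_mul, ← h2])
    rw [eq_comm, ← mul_left_cancel_iff (a := π c), h4, ← pow_two, hc2]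
  -- so `K = 1`
  set L := ⁅K, (⊤ : Subgroup P)⁆
  have hLn : L.Normal := Subgroup.commutator_normal K ⊤
  have hKL : K ≤ L := by
    let σ := QuotientGroup.mk' L
    have hKc : ∀ k ∈ K, ∀ x : P, Commute (σ k) (σ x) := fun k hk x => by
      rw [← commutatorElement_eq_one_iff_commute, ← map_commutatorElement, QuotientGroup.mk'_apply, QuotientGroup.eq_one_iff]
      exact Subgroup.commutator_mem_commutator hk (Subgroup.mem_top x)
    have hcx : ∀ x : P, π x ^ 2 = π c → Commute (σ c) (σ x) := fun x hx => by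
      rw [← map_pow, QuotientGroup.mk'_eq_mk'] at hx
      obtain ⟨k, hk, hkc⟩ := hx
      rw [← hkc, map_mul, map_pow]
      exact ((Commute.refl (σ x)).pow_left 2).mul_left (hKc k hk x)
    have hcall : ∀ x : P, Commute (σ c) (σ x) := fun x => by
      have hle : Subgroup.closure ({a, b} : Set P) ≤ (Subgroup.centralizer {σ c}).comap σ := by
        rw [Subgroup.closure_le]
        rintro z (rfl | rfl)
        · exact Subgroup.mem_centralizer_singleton_iff.mpr (hcx _ ha2).symm.eq
        · exact Subgroup.mem_centralizer_singleton_iff.mpr (hcx _ (hv.trans ha2)).symm.eq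
      exact (Subgroup.mem_centralizer_singleton_iff.mp (hle (hgen ▸ Subgroup.mem_top x))).symm
    rw [hKdef, Subgroup.commutator_le]
    intro s hs x _
    obtain ⟨l, hl⟩ := hSc s hs
    rw [← map_zpow, QuotientGroup.mk'_eq_mk'] at hl
    obtain ⟨k, hk, hkc⟩ := hl
    rw [← QuotientGroup.eq_one_iff, ← QuotientGroup.mk'_apply, map_commutatorElement, commutatorElement_eq_one_iff_commute,
      show s = c ^ l * k⁻¹ by rw [← hkc, mul_inv_cancel_right], map_mul, map_zpow]
    exact ((hcall x).zpow_left l).mul_left (hKc _ (inv_mem hk) x)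
  have hK1 : K = ⊥ := by
    obtain ⟨m, hm⟩ := Subgroup.nilpotent_iff_lowerCentralSeries.mp (inferInstance : Group.IsNilpotent P)
    have hle : ∀ j, K ≤ (⊤ : Subgroup P).lowerCentralSeries j := fun j => by
      induction j with
      | zero => exact le_top
      | succ j ih => exact hKL.trans (Subgroup.commutator_mono ih le_rfl)
    exact le_bot_iff.mp (hm ▸ hle m)
  -- the order is eight
  have hinj : Function.Injective π := (MonoidHom.ker_eq_bot_iff π).mp (by rw [QuotientGroup.ker_mk', hK1])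
  have hc1 : c ≠ 1 := fun h => by
    refine hna (CN.commutative_of_eq hP fun s hs => ?_)
    obtain ⟨l, hl⟩ := hSc s hs
    rw [h, map_one, one_zpow, ← map_one π] at hl
    rw [hinj hl]; exact one_mem _
  have ha2' : a ^ 2 = c := hinj (by rw [map_pow, ha2])
  have hc2' : c ^ 2 = 1 := hinj (by rw [map_pow, hc2, map_one])
  have hSz : S = Subgroup.zpowers c := le_antisymm (fun s hs => by
    obtain ⟨l, hl⟩ := hSc s hs
    rw [← map_zpow] at hl
    exact hinj hl ▸ Subgroup.zpow_mem_zpowers c l) (Subgroup.zpowers_le.mpr hcS)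
  have hordc : orderOf c = 2 := orderOf_eq_prime hc2' hc1
  have horda : orderOf a = 2 * 2 := orderOf_eq_prime_pow (p := 2) (n := 1) (by rw [pow_one, ha2']; exact hc1)
    (by rw [show (2 : ℕ) ^ (1 + 1) = 2 * 2 by norm_num, pow_mul, ha2', hc2'])
  have hb2 : b * b = a ^ 2 := by rw [← pow_two]; exact hinj (by rw [map_pow, map_pow, hv])
  have hcC : ∀ x : P, Commute c x := fun x => hinj.eq_iff.mp (by rw [map_mul, map_mul]; exact (hcent c hcS x).eq)
  have hconj : b⁻¹ * a * b = a⁻¹ := by
    have h1 : b * a * b⁻¹ = a⁻¹ := by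
      rw [show b * a * b⁻¹ = ⁅b, a⁆ * a by rw [commutatorElement_def]; group, ← hc, eq_inv_iff_mul_eq_one, mul_assoc,
        ← pow_two, ha2', ← pow_two, hc2']
    calc b⁻¹ * a * b = (b * b)⁻¹ * (b * a * b⁻¹) * (b * b) := by group
      _ = (a ^ 2)⁻¹ * a⁻¹ * a ^ 2 := by rw [h1, hb2]
      _ = a⁻¹ := by group
  have hbA : b ∉ Subgroup.zpowers a := fun h => by
    obtain ⟨l, hl⟩ := Subgroup.mem_zpowers_iff.mp h
    rcases Int.even_or_odd l with ⟨m, rfl⟩ | ⟨m, rfl⟩
    · exact hb (hl ▸ (by rw [← two_mul, zpow_mul, show a ^ (2 : ℤ) = c by rw [zpow_two, ← pow_two, ha2']]; exact zpow_mem hcS m))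
    · refine hab ?_
      rw [← hl, zpow_add, zpow_mul, zpow_one, show a ^ (2 : ℤ) = c by rw [zpow_two, ← pow_two, ha2'], ((hcC a).zpow_left m).eq, inv_mul_cancel_left]
      exact zpow_mem hcS m
  refine Fusion.nonempty_mulEquiv_quaternion 2 horda hb2 hconj hbA fun x => ?_
  have hSA : S ≤ Subgroup.zpowers a := hSz.le.trans (Subgroup.zpowers_le.mpr (ha2' ▸ Subgroup.npow_mem_zpowers a 2))
  rcases hcov a b ha hb hab x with h | h | h | h
  · exact Or.inl (hSA h)
  · exact Or.inl (by rw [← mul_inv_cancel_left a x]; exact mul_mem (Subgroup.mem_zpowers a) (hSA h))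
  · exact Or.inr (hSA h)
  · refine Or.inr ?_
    rw [show b⁻¹ * x = (b⁻¹ * a * b) * ((a * b)⁻¹ * x) by group, hconj]
    exact mul_mem (inv_mem (Subgroup.mem_zpowers a)) (hSA h)

end Cfsg.Agent.S4189
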