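import Cfsg.Statements.S4190
import Cfsg.Agent.ClassBoundSq.FittingIndex

set_option autoImplicit false
open Cfsg

namespace Cfsg.Agent.S4190

/-- Let G be a finite solvable group and p a prime dividing the index of the Fitting subgroup of G. Then the number of conjugacy classes of G is at least p/(3·log₂ p). -/
theorem result {G : Type*} [Group G] [Finite G] (hG : Group.IsSolvable G) (p : ℕ) [Fact p.Prime] (hp : p ∣ (Cfsg.fittingSubgroup G).index) : (p : ℝ) / (3 * Real.logb 2 p) ≤ Nat.card (ConjClasses G) := by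
  have h := ClassBoundSq.fitting_index_bound hG p hp
  have hp2 : 2 ≤ p := (Fact.out : p.Prime).two_le
  have hl : (0 : ℝ) < Real.logb 2 p := Real.logb_pos one_lt_two (by exact_mod_cast hp2)
  have h2 : (Nat.log 2 p : ℝ) ≤ Real.logb 2 p := by exact_mod_cast Real.natLog_le_logb p 2
  rw [div_le_iff₀ (mul_pos three_pos hl)]
  calc (p : ℝ) ≤ ((3 * Nat.log 2 p * ClassBoundSq.cls G : ℕ) : ℝ) := by exact_mod_cast h
    _ = (3 * (Nat.log 2 p : ℝ)) * (Nat.card (ConjClasses G) : ℝ) := by push_cast; rfl
    _ ≤ (3 * Real.logb 2 p) * (Nat.card (ConjClasses G) : ℝ) :=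
        mul_le_mul_of_nonneg_right (mul_le_mul_of_nonneg_left h2 three_pos.le) (Nat.cast_nonneg _)
    _ = _ := mul_comm _ _

end Cfsg.Agent.S4190
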