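import Cfsg.Statements.S4192
import Cfsg.Agent.RealGraph.Structure

set_option autoImplicit false
open Cfsg

namespace Cfsg.Agent.S4192

open Subgroup in
theorem main {G : Type*} [Group G] [Finite G] (A B : Set ℕ)
    (hP : ¬ ∀ P : Sylow 2 G, (P : Subgroup G).Normal) (h2A : 2 ∈ A) {q₀ : ℕ} (hq₀B : q₀ ∈ B)
    (hq₀ : q₀.Prime) {t : G} (htr : IsConj t t⁻¹)
    (hqt : q₀ ∣ (centralizer ({t} : Set G)).index)
    (hcov : ∀ (q : ℕ) (x : G), q.Prime → IsConj x x⁻¹ →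
      q ∣ (centralizer ({x} : Set G)).index → q ∈ A ∨ q ∈ B)
    (hedge : ∀ (a b : ℕ) (x : G), a ∈ A → b ∈ B → IsConj x x⁻¹ →
      ¬ (a ∣ (centralizer ({x} : Set G)).index ∧ b ∣ (centralizer ({x} : Set G)).index)) :
    (∃ π₁ π₂ : Set ℕ, π₁.Nonempty ∧ π₂.Nonempty ∧ Disjoint π₁ π₂ ∧ (∀ q ∈ π₁ ∪ π₂, q.Prime ∧ ∃ n ∈ {n : ℕ | ∃ x : ↥(Subgroup.closure {g : G | ∃ k : ℕ, orderOf g = 2 ^ k}), IsConj x x⁻¹ ∧ (Subgroup.centralizer ({x} : Set ↥(Subgroup.closure {g : G | ∃ k : ℕ, orderOf g = 2 ^ k}))).index = n}, q ∣ n) ∧ (∀ q : ℕ, q.Prime → (∃ n ∈ {n : ℕ | ∃ x : ↥(Subgroup.closure {g : G | ∃ k : ℕ, orderOf g = 2 ^ k}), IsConj x x⁻¹ ∧ (Subgroup.centralizer ({x} : Set ↥(Subgroup.closure {g : G | ∃ k : ℕ, orderOf g = 2 ^ k}))).index = n}, q ∣ n) → q ∈ π₁ ∨ q ∈ π₂) ∧ ∀ a ∈ π₁, ∀ b ∈ π₂, ∀ n ∈ {n : ℕ | ∃ x : ↥(Subgroup.closure {g : G | ∃ k : ℕ, orderOf g = 2 ^ k}), IsConj x x⁻¹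 ∧ (Subgroup.centralizer ({x} : Set ↥(Subgroup.closure {g : G | ∃ k : ℕ, orderOf g = 2 ^ k}))).index = n}, ¬ (a ∣ n ∧ b ∣ n)) ∧ ∀ n ∈ {n : ℕ | ∃ x : ↥(Subgroup.closure {g : G | ∃ k : ℕ, orderOf g = 2 ^ k}), IsConj x x⁻¹ ∧ (Subgroup.centralizer ({x} : Set ↥(Subgroup.closure {g : G | ∃ k : ℕ, orderOf g = 2 ^ k}))).index = n}, Odd n ∨ ∃ j : ℕ, n = 2 ^ j := by
  classical
  have := Fact.mk Nat.prime_two
  have hodd : Odd (centralizer ({t} : Set G)).index := by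
    rw [Nat.odd_iff, ← Nat.two_dvd_ne_zero]
    exact fun h => hedge 2 q₀ t h2A hq₀B htr ⟨h, hqt⟩
  have ht2 : t * t = 1 := by
    by_contra h
    exact (Nat.not_even_iff_odd.mpr hodd) (even_iff_two_dvd.mpr (RealGraph.two_dvd_index htr h))
  have hne1 : (centralizer ({t} : Set G)).index ≠ 1 := fun h =>
    hq₀.ne_one (Nat.dvd_one.mp (h ▸ hqt))
  have hcop : ∀ x : G, IsConj x x⁻¹ → x * x ≠ 1 →
      ((centralizer ({t} : Set G)).index).Coprime (centralizer ({x} : Set G)).index := by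
    intro x hx hx2
    refine Nat.coprime_of_dvd fun p hp hpt hpx => ?_
    rcases hcov p t hp htr hpt with h | h
    · exact hedge p q₀ t h hq₀B htr ⟨hpt, hqt⟩
    · exact hedge 2 p x h2A h hx ⟨RealGraph.two_dvd_index hx hx2, hpx⟩
  have hreal : RealGraph.RealHyp t := ⟨ht2, fun hc => hne1 (index_eq_one.mpr (top_le_iff.mp
    fun a _ => mem_centralizer_singleton_iff.mpr (mem_center_iff.mp hc a))), hodd, hcop⟩
  have hsol : Group.IsSolvable G := hreal.isSolvable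
  obtain ⟨-, S, hSA, hAS⟩ := hreal.exists_sylow
  change (∃ π₁ π₂ : Set ℕ, _) ∧ _
  have hKn : (RealGraph.twoClosure G).Normal := RealGraph.twoClosure_normal
  have hKprimes : ∀ q : ℕ, q.Prime → q ∣ Nat.card (RealGraph.twoClosure G) → q = 2 ∨ q ∈ B := by
    intro q hq hqK
    by_contra hcon
    push Not at hcon
    refine RealGraph.not_dvd_card_twoClosure hsol hq hcon.1 S (fun hd => ?_) hqK
    have hle : centralizer ({t} : Set G) ≤ normalizer (S : Set G) := fun a ha =>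
      Sylow.smul_eq_iff_mem_normalizer.mp (hAS a ha)
    have hdt := hd.trans (index_dvd_of_le hle)
    rcases hcov q t hq htr hdt with h | h
    · exact hedge q q₀ t h hq₀B htr ⟨hdt, hqt⟩
    · exact hcon.2 h
  have hsizes : ∀ x : RealGraph.twoClosure G, IsConj x x⁻¹ →
      Odd (centralizer ({x} : Set (RealGraph.twoClosure G))).index ∨
        ∃ j : ℕ, (centralizer ({x} : Set (RealGraph.twoClosure G))).index = 2 ^ j := by
    intro x hx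
    have hxG : IsConj (x : G) (x : G)⁻¹ :=
      MonoidHom.map_isConj (RealGraph.twoClosure G).subtype hx
    have hdvd := RealGraph.index_centralizer_dvd_of_normal (RealGraph.twoClosure G) x
    by_cases h2 : 2 ∣ (centralizer ({x} : Set (RealGraph.twoClosure G))).index
    · refine Or.inr ⟨_, Nat.eq_prime_pow_of_unique_prime_dvd index_ne_zero_of_finite
        fun {p} hp hpd => ?_⟩
      rcases hKprimes p hp (hpd.trans (index_dvd_card _)) with h | h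
      · exact h
      · exact absurd ⟨h2.trans hdvd, hpd.trans hdvd⟩ (hedge 2 p _ h2A h hxG)
    · exact Or.inl (Nat.not_even_iff_odd.mp fun h => h2 (even_iff_two_dvd.mp h))
  refine ⟨?_, fun n ⟨x, hx, hxn⟩ => hxn ▸ hsizes x hx⟩
  -- a nontrivial real element of odd order
  obtain ⟨y, hy1, hyo, hy⟩ : ∃ y : G, y ≠ 1 ∧ Odd (orderOf y) ∧ IsConj y y⁻¹ := by
    by_contra hcon
    push Not at hcon
    exact hP fun P => (Cfsg.Agent.S3861.result P).mp hcon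
  obtain ⟨hyK, g, hgK, hgy⟩ := RealGraph.real_odd_mem hy hyo
  have hyKr : IsConj (⟨y, hyK⟩ : RealGraph.twoClosure G) (⟨y, hyK⟩ : RealGraph.twoClosure G)⁻¹ :=
    isConj_iff.mpr ⟨⟨g, hgK⟩, Subtype.ext hgy⟩
  have htK : t ∈ RealGraph.twoClosure G :=
    RealGraph.mem_twoClosure (k := 1) (by rw [pow_one, pow_two, ht2])
  have hti : (⟨t, htK⟩ : RealGraph.twoClosure G)⁻¹ = ⟨t, htK⟩ :=
    Subtype.ext (inv_eq_of_mul_eq_one_right ht2)
  have htKr : IsConj (⟨t, htK⟩ : RealGraph.twoClosure G) (⟨t, htK⟩ : RealGraph.twoClosure G)⁻¹ := by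
    rw [hti]
  have htne : (centralizer ({⟨t, htK⟩} : Set (RealGraph.twoClosure G))).index ≠ 1 := by
    intro h1
    have hall : ∀ a ∈ RealGraph.twoClosure G, a ∈ centralizer ({t} : Set G) := fun a ha =>
      mem_centralizer_singleton_iff.mpr (congrArg Subtype.val (mem_centralizer_singleton_iff.mp
        (show (⟨a, ha⟩ : RealGraph.twoClosure G) ∈ centralizer {(⟨t, htK⟩ : RealGraph.twoClosure G)}
          from (index_eq_one.mp h1).symm ▸ mem_top _)))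
    refine hreal.not_real_centralizer ⟨y, hall y hyK⟩ (fun h => hy1 (congrArg Subtype.val h))
      (by rwa [Subgroup.orderOf_mk]) (isConj_iff.mpr ⟨⟨g, hall g hgK⟩, Subtype.ext hgy⟩)
  obtain ⟨p, hp, hpd⟩ := Nat.exists_prime_and_dvd htne
  have hp2 : p ≠ 2 := by
    rintro rfl
    exact (Nat.not_even_iff_odd.mpr hodd) (even_iff_two_dvd.mpr
      (hpd.trans (RealGraph.index_centralizer_dvd_of_normal _ ⟨t, htK⟩)))
  refine ⟨{2}, {q | q.Prime ∧ q ≠ 2 ∧ ∃ x : RealGraph.twoClosure G, IsConj x x⁻¹ ∧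
    q ∣ (centralizer ({x} : Set (RealGraph.twoClosure G))).index}, ⟨2, rfl⟩,
    ⟨p, hp, hp2, _, htKr, hpd⟩, ?_, ?_, ?_, ?_⟩
  · exact Set.disjoint_singleton_left.mpr fun h => h.2.1 rfl
  · rintro q (rfl | ⟨hq, -, x, hx, hqx⟩)
    · refine ⟨Nat.prime_two, _, ⟨_, hyKr, rfl⟩, RealGraph.two_dvd_index hyKr fun h => ?_⟩
      exact RealGraph.sq_ne_one_of_odd hyo hy1 (congrArg Subtype.val h)
    · exact ⟨hq, _, ⟨x, hx, rfl⟩, hqx⟩
  · rintro q hq ⟨n, ⟨x, hx, rfl⟩, hqn⟩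
    rcases eq_or_ne q 2 with h | h
    · exact Or.inl h
    · exact Or.inr ⟨hq, h, x, hx, hqn⟩
  · rintro a rfl b ⟨hb, hb2, -⟩ n ⟨x, hx, rfl⟩ ⟨h2, hbn⟩
    rcases hsizes x hx with h | ⟨j, hj⟩
    · exact (Nat.not_even_iff_odd.mpr h) (even_iff_two_dvd.mpr h2)
    · exact hb2 ((Nat.prime_dvd_prime_iff_eq hb Nat.prime_two).mp (hb.dvd_of_dvd_pow (hj ▸ hbn)))

/-- Let G be a finite group; call an element real when it is conjugate to its inverse, and say that the real-class-size graph of a group is disconnected when the primes dividing its real class sizes split into two non-empty disjoint parts with no real class size divisible by a prime from each part. If the real-class-size graph of G is disconnected, then some real class size of G is even, and either the Sylow 2-subgroups of G are normal, or the subgroup K generated by the 2-elements of G (the smallest normal subgroup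 of odd index) again has a disconnected real-class-size graph and every real class size of K is odd or a power of 2. -/
theorem result {G : Type*} [Group G] [Finite G] (h : (∃ π₁ π₂ : Set ℕ, π₁.Nonempty ∧ π₂.Nonempty ∧ Disjoint π₁ π₂ ∧ (∀ q ∈ π₁ ∪ π₂, q.Prime ∧ ∃ n ∈ {n : ℕ | ∃ x : G, IsConj x x⁻¹ ∧ (Subgroup.centralizer ({x} : Set G)).index = n}, q ∣ n) ∧ (∀ q : ℕ, q.Prime → (∃ n ∈ {n : ℕ | ∃ x : G, IsConj x x⁻¹ ∧ (Subgroup.centralizer ({x} : Set G)).index = n}, q ∣ n) → q ∈ π₁ ∨ q ∈ π₂) ∧ ∀ a ∈ π₁, ∀ b ∈ π₂, ∀ n ∈ {n : ℕ | ∃ x : G, IsConj x x⁻¹ ∧ (Subgroup.centralizer ({x} : Set G)).index = n}, ¬ (a ∣ n ∧ b ∣ n))) : (∃ n ∈ {n : ℕ | ∃ x : G, IsConj x x⁻¹ ∧ (Subgroup.centralizer ({x} : Set G)).index = n}, 2 ∣ n) ∧ ((∀ P : Sylow 2 G, (P : Subgroup G).Normal) ∨ ((∃ π₁ π₂ : Set ℕ, π₁.Nonempty ∧ π₂.Nonempty ∧ Disjoint π₁ π₂ ∧ (∀ q ∈ π₁ ∪ π₂, q.Prime ∧ ∃ n ∈ {n : ℕ | ∃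 x : ↥(Subgroup.closure {g : G | ∃ k : ℕ, orderOf g = 2 ^ k}), IsConj x x⁻¹ ∧ (Subgroup.centralizer ({x} : Set ↥(Subgroup.closure {g : G | ∃ k : ℕ, orderOf g = 2 ^ k}))).index = n}, q ∣ n) ∧ (∀ q : ℕ, q.Prime → (∃ n ∈ {n : ℕ | ∃ x : ↥(Subgroup.closure {g : G | ∃ k : ℕ, orderOf g = 2 ^ k}), IsConj x x⁻¹ ∧ (Subgroup.centralizer ({x} : Set ↥(Subgroup.closure {g : G | ∃ k : ℕ, orderOf g = 2 ^ k}))).index = n}, q ∣ n) → q ∈ π₁ ∨ q ∈ π₂) ∧ ∀ a ∈ π₁, ∀ b ∈ π₂, ∀ n ∈ {n : ℕ | ∃ x : ↥(Subgroup.closure {g : G | ∃ k : ℕ, orderOf g = 2 ^ k}), IsConj x x⁻¹ ∧ (Subgroup.centralizer ({x} : Set ↥(Subgroup.closure {g : G | ∃ k : ℕ, orderOf g = 2 ^ k}))).index = n}, ¬ (a ∣ n ∧ b ∣ n)) ∧ ∀ n ∈ {n : ℕ | ∃ x : ↥(Subgroup.closure {g : G | ∃ k : ℕ, orderOf g = 2 ^ k}), IsConj x x⁻¹ ∧ (Subgroup.centralizer ({x} : Set ↥(Subgroup.closure {g : G | ∃ k : ℕ, orderOf g = 2 ^ k}))).index = n}, Odd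 n ∨ ∃ j : ℕ, n = 2 ^ j)) := by
  obtain ⟨π₁, π₂, h₁, h₂, hdisj, hsub, hcover, hnoedge⟩ := h
  have := Fact.mk Nat.prime_two
  have hcov : ∀ (q : ℕ) (x : G), q.Prime → IsConj x x⁻¹ →
      q ∣ (Subgroup.centralizer ({x} : Set G)).index → q ∈ π₁ ∨ q ∈ π₂ :=
    fun q x hq hx hqx => hcover q hq ⟨_, ⟨x, hx, rfl⟩, hqx⟩
  have hedge : ∀ (a b : ℕ) (x : G), a ∈ π₁ → b ∈ π₂ → IsConj x x⁻¹ →
      ¬ (a ∣ (Subgroup.centralizer ({x} : Set G)).index ∧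
        b ∣ (Subgroup.centralizer ({x} : Set G)).index) :=
    fun a b x ha hb hx => hnoedge a ha b hb _ ⟨x, hx, rfl⟩
  have hsub' : ∀ q ∈ π₁ ∪ π₂, q.Prime ∧ ∃ x : G, IsConj x x⁻¹ ∧
      q ∣ (Subgroup.centralizer ({x} : Set G)).index := fun q hq => by
    obtain ⟨hp, n, ⟨x, hx, rfl⟩, hn⟩ := hsub q hq
    exact ⟨hp, x, hx, hn⟩
  obtain ⟨a₀, ha₀⟩ := h₁
  obtain ⟨b₀, hb₀⟩ := h₂
  obtain ⟨ha, v, hv, hav⟩ := hsub' a₀ (Or.inl ha₀)
  obtain ⟨hb, w, hw, hbw⟩ := hsub' b₀ (Or.inr hb₀)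
  obtain ⟨x₂, hx₂, h2x⟩ := RealGraph.exists_even_index (P₁ := (· ∈ π₁)) (P₂ := (· ∈ π₂))
    hcov hedge ha hb ha₀ hb₀ hv hw hav hbw
  refine ⟨⟨_, ⟨x₂, hx₂, rfl⟩, h2x⟩, ?_⟩
  by_cases hP : ∀ P : Sylow 2 G, (P : Subgroup G).Normal
  · exact Or.inl hP
  refine Or.inr ?_
  rcases hcov 2 x₂ Nat.prime_two hx₂ h2x with h2 | h2
  · exact main π₁ π₂ hP h2 hb₀ hb hw hbw hcov hedge
  · exact main π₂ π₁ hP h2 ha₀ ha hv hav (fun q x hq hx hd => (hcov q x hq hx hd).symm)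
      fun a b x ha hb hx hd => hedge b a x hb ha hx hd.symm

end Cfsg.Agent.S4192
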