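import Cfsg.Statements.S4193
import Cfsg.Agent.S0205
import Cfsg.Agent.S3861
import Cfsg.Agent.Fusion.Frobenius
import Cfsg.Agent.Fusion.Residual

set_option autoImplicit false
open Cfsg

namespace Cfsg.Agent.S4193

open Subgroup

variable {G : Type*} [Group G] [Finite G]

/-- An element inverting `x` can be chosen of 2-power order. -/
theorem exists_two_inverter {x : G} (hx : IsConj x x⁻¹) :
    ∃ w : G, (∃ j : ℕ, orderOf w = 2 ^ j) ∧ w * x * w⁻¹ = x⁻¹ := by
  obtain ⟨g, hg⟩ := isConj_iff.mp hx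
  obtain ⟨e, m, hm, hgm⟩ := Nat.exists_eq_two_pow_mul_odd (orderOf_pos g).ne'
  refine ⟨g ^ m, ⟨e, ?_⟩, ?_⟩
  · rw [orderOf_pow_of_dvd hm.pos.ne' (hgm ▸ dvd_mul_left m _), hgm,
      Nat.mul_div_cancel _ hm.pos]
  · obtain ⟨k, rfl⟩ := hm
    have h2 : ∀ l : ℕ, g ^ (2 * l) * x * (g ^ (2 * l))⁻¹ = x := by
      intro l
      induction l with
      | zero => simp
      | succ l ih =>
        have h1 : g * x⁻¹ * g⁻¹ = x := by
          have := congrArg (·⁻¹) hg
          simpa [mul_assoc] using this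
        calc g ^ (2 * (l + 1)) * x * (g ^ (2 * (l + 1)))⁻¹
            = g ^ (2 * l) * (g * (g * x * g⁻¹) * g⁻¹) * (g ^ (2 * l))⁻¹ := by
              rw [show 2 * (l + 1) = 2 * l + 1 + 1 by ring, pow_succ, pow_succ]; group
          _ = x := by rw [hg, h1, ih]
    calc g ^ (2 * k + 1) * x * (g ^ (2 * k + 1))⁻¹
        = g * (g ^ (2 * k) * x * (g ^ (2 * k))⁻¹) * g⁻¹ := by rw [pow_succ']; group
      _ = x⁻¹ := by rw [h2, hg]

/-- A real 2-element has odd class size. -/
theorem two_not_dvd_index (S : Sylow 2 G)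
    (hS : ∀ s : ↥(S : Subgroup G), IsConj s s⁻¹ → s ∈ Subgroup.center ↥(S : Subgroup G))
    {x : G} (hx : ∃ j : ℕ, orderOf x = 2 ^ j) (hr : IsConj x x⁻¹) :
    ¬ 2 ∣ (centralizer ({x} : Set G)).index := by
  haveI : Fact (Nat.Prime 2) := ⟨Nat.prime_two⟩
  obtain ⟨w, hw, hwx⟩ := exists_two_inverter hr
  have hp : ∀ {y : G}, (∃ j : ℕ, orderOf y = 2 ^ j) → IsPGroup 2 (zpowers y) := fun {y} ⟨j, hj⟩ =>
    IsPGroup.of_card (n := j) (by rw [Nat.card_zpowers, hj])
  have hn : zpowers w ≤ normalizer ((zpowers x : Subgroup G) : Set G) := by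
    rw [zpowers_le, mem_normalizer_iff_map_conj_eq, MonoidHom.map_zpowers]
    simp [hwx]
  obtain ⟨T, hT⟩ := ((hp hx).to_sup_of_normal_left' (hp hw) hn).exists_le_sylow
  obtain ⟨k, hk⟩ := MulAction.exists_smul_eq G T S
  have hmem : ∀ y ∈ (T : Subgroup G), k * y * k⁻¹ ∈ (S : Subgroup G) := fun y hy => by
    rw [← hk, Sylow.coe_subgroup_smul]
    exact ⟨y, hy, rfl⟩
  have hxT : x ∈ (T : Subgroup G) := hT (mem_sup_left (mem_zpowers x))
  have hwT : w ∈ (T : Subgroup G) := hT (mem_sup_right (mem_zpowers w))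
  have hc := hS ⟨k * x * k⁻¹, hmem x hxT⟩ (isConj_iff.mpr ⟨⟨k * w * k⁻¹, hmem w hwT⟩,
    Subtype.ext (by
      show k * w * k⁻¹ * (k * x * k⁻¹) * (k * w * k⁻¹)⁻¹ = (k * x * k⁻¹)⁻¹
      rw [show (k * x * k⁻¹)⁻¹ = k * x⁻¹ * k⁻¹ by group, ← hwx]
      group)⟩)
  have hle : (T : Subgroup G) ≤ centralizer ({x} : Set G) := by
    intro y hy
    rw [mem_centralizer_singleton_iff]
    have h1 := congrArg Subtype.val (mem_center_iff.mp hc ⟨k * y * k⁻¹, hmem y hy⟩)
    simp only [Subgroup.coe_mul] at h1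
    have h2 : k * (y * x) * k⁻¹ = k * (x * y) * k⁻¹ := by
      calc k * (y * x) * k⁻¹ = k * y * k⁻¹ * (k * x * k⁻¹) := by group
        _ = k * x * k⁻¹ * (k * y * k⁻¹) := h1
        _ = k * (x * y) * k⁻¹ := by group
    simpa using h2
  exact fun h => T.not_dvd_index (h.trans (index_dvd_of_le hle))

/-- A nontrivial real element of odd order has even class size. -/
theorem two_dvd_index {x : G} (hx : x ≠ 1) (hodd : Odd (orderOf x)) (hr : IsConj x x⁻¹) :
    2 ∣ (centralizer ({x} : Set G)).index := by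
  obtain ⟨w, ⟨j, hj⟩, hwx⟩ := exists_two_inverter hr
  by_contra h2
  set C := centralizer ({x} : Set G) with hC
  have hwN : w ∈ normalizer (C : Set G) := by
    have hconj : ∀ y : G, Commute y x → Commute (w * y * w⁻¹) x⁻¹ := fun y hy => by
      rw [← hwx]
      show _ = _
      calc w * y * w⁻¹ * (w * x * w⁻¹) = w * (y * x) * w⁻¹ := by group
        _ = w * (x * y) * w⁻¹ := by rw [hy.eq]
        _ = _ := by group
    refine mem_normalizer_iff.mpr fun y => ?_
    rw [hC, mem_centralizer_singleton_iff, mem_centralizer_singleton_iff]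
    refine ⟨fun h => (by simpa using (hconj y h).inv_right : Commute (w * y * w⁻¹) x).eq, fun h => ?_⟩
    have h' : w * (y * x⁻¹) * w⁻¹ = w * (x⁻¹ * y) * w⁻¹ := by
      have hwxi : w * x⁻¹ * w⁻¹ = x := by
        have := congrArg (·⁻¹) hwx
        simpa [mul_assoc] using this
      calc w * (y * x⁻¹) * w⁻¹ = w * y * w⁻¹ * (w * x⁻¹ * w⁻¹) := by group
        _ = w * y * w⁻¹ * x := by rw [hwxi]
        _ = x * (w * y * w⁻¹) := h
        _ = w * x⁻¹ * w⁻¹ * (w * y * w⁻¹) := by rw [hwxi]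
        _ = _ := by group
    have h'' : Commute y x⁻¹ := show _ = _ by simpa using h'
    exact (Commute.inv_right_iff.mp h'').eq
  have hdvd : C.relIndex (normalizer (C : Set G)) ∣ C.index :=
    Dvd.intro _ (relIndex_mul_index le_normalizer)
  have hq : (⟨w, hwN⟩ : normalizer (C : Set G)) ∈ C.subgroupOf (normalizer (C : Set G)) := by
    haveI : (C.subgroupOf (normalizer (C : Set G))).Normal := normal_in_normalizer
    rw [← QuotientGroup.eq_one_iff]
    refine orderOf_eq_one_iff.mp (Nat.eq_one_of_dvd_coprimes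
      (a := 2 ^ j) (b := C.relIndex (normalizer (C : Set G))) ?_ ?_ (orderOf_dvd_natCard _))
    · refine Nat.Coprime.pow_left _ ((Nat.prime_two.coprime_iff_not_dvd).mpr fun h => h2 (h.trans hdvd))
    · refine (orderOf_map_dvd (QuotientGroup.mk' (C.subgroupOf (normalizer (C : Set G)))) ⟨w, hwN⟩).trans ?_
      exact (Subgroup.orderOf_mk w hwN).trans hj ▸ dvd_rfl
  replace hq : w * x = x * w := mem_centralizer_singleton_iff.mp (mem_subgroupOf.mp hq)
  have hxx : x = x⁻¹ := by rw [← hwx, hq, mul_inv_cancel_right]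
  obtain ⟨k, hk⟩ := hodd
  refine hx ?_
  have h' : x ^ 2 = 1 := by rw [pow_two]; nth_rewrite 2 [hxx]; rw [mul_inv_cancel]
  have := pow_orderOf_eq_one x
  rwa [hk, pow_add, pow_mul, h', one_pow, one_mul, pow_one] at this

/-- Frobenius' condition when the real 2-elements are central. -/
theorem frobenius_condition
    (hc : ∀ x : G, (∃ j : ℕ, orderOf x = 2 ^ j) → IsConj x x⁻¹ → x ∈ center G)
    {Q : Subgroup G} (hQ : IsPGroup 2 Q) {g : G} (hg : g ∈ normalizer (Q : Set G))
    (hgo : Nat.Coprime (orderOf g) 2) : g ∈ centralizer (Q : Set G) := by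
  haveI : Fact (Nat.Prime 2) := ⟨Nat.prime_two⟩
  have h2 : ∀ {z : G}, z ∈ Q → ∃ j : ℕ, orderOf z = 2 ^ j := fun {z} hz => by
    obtain ⟨j, hj⟩ := IsPGroup.iff_orderOf.mp hQ ⟨z, hz⟩
    exact ⟨j, by rwa [Subgroup.orderOf_mk] at hj⟩
  have main : ∀ n, ∀ x ∈ Q, orderOf x = n → g * x * g⁻¹ = x := by
    intro n
    induction n using Nat.strong_induction_on with
    | _ n IH =>
    intro x hx hxn
    obtain ⟨j, hj⟩ := h2 hx
    have hsq : g * (x * x) * g⁻¹ = x * x := by
      rcases Nat.eq_zero_or_pos j with rfl | hj0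
      · have : x = 1 := orderOf_eq_one_iff.mp (by simpa using hj)
        simp [this]
      · refine IH (orderOf (x * x)) ?_ _ (mul_mem hx hx) rfl
        rw [← hxn, ← pow_two, orderOf_pow_of_dvd two_ne_zero (hj ▸ dvd_pow_self 2 hj0.ne'), hj]
        exact Nat.div_lt_self (Nat.pow_pos (by norm_num)) (by norm_num)
    obtain ⟨y, hy⟩ : ∃ y, y = g * x * g⁻¹ := ⟨_, rfl⟩
    rw [← hy]
    have hyy : y * y = x * x := by rw [hy, ← hsq]; group
    have hw : x * (y * x⁻¹) * x⁻¹ = (y * x⁻¹)⁻¹ := by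
      calc x * (y * x⁻¹) * x⁻¹ = x * y * (x * x)⁻¹ := by group
        _ = x * y * (y * y)⁻¹ := by rw [hyy]
        _ = _ := by group
    have hyQ : y ∈ Q := hy ▸ (mem_normalizer_iff.mp hg x).mp hx
    have hwc := hc (y * x⁻¹) (h2 (mul_mem hyQ (Q.inv_mem hx))) (isConj_iff.mpr ⟨x, hw⟩)
    obtain ⟨w, hwdef⟩ : ∃ w, w = y * x⁻¹ := ⟨_, rfl⟩
    rw [← hwdef] at hwc hw
    have hwg := (mem_center_iff.mp hwc g)
    have hw2 : w ^ 2 = 1 := by
      have h := (mem_center_iff.mp hwc x)
      rw [h, mul_inv_cancel_right] at hw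
      rw [pow_two]
      nth_rewrite 2 [hw]
      rw [mul_inv_cancel]
    have hpow : ∀ m : ℕ, g ^ m * x * (g ^ m)⁻¹ = w ^ m * x := by
      intro m
      induction m with
      | zero => simp
      | succ m ih =>
        have hgx : g * x * g⁻¹ = w * x := by rw [← hy, hwdef, inv_mul_cancel_right]
        have hgw : g * w ^ m * g⁻¹ = w ^ m := by
          rw [(Commute.pow_right hwg m).eq, mul_inv_cancel_right]
        calc g ^ (m + 1) * x * (g ^ (m + 1))⁻¹ = g * (g ^ m * x * (g ^ m)⁻¹) * g⁻¹ := by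
              rw [pow_succ']; group
          _ = g * (w ^ m * x) * g⁻¹ := by rw [ih]
          _ = (g * w ^ m * g⁻¹) * (g * x * g⁻¹) := by group
          _ = w ^ (m + 1) * x := by rw [hgw, hgx, pow_succ, mul_assoc]
    have h1 := hpow (orderOf g)
    rw [pow_orderOf_eq_one, one_mul, inv_one, mul_one, eq_comm, mul_eq_right] at h1
    have hw1 : w = 1 := orderOf_eq_one_iff.mp
      (Nat.eq_one_of_dvd_coprimes hgo (orderOf_dvd_of_pow_eq_one h1) (orderOf_dvd_of_pow_eq_one hw2))
    exact mul_inv_eq_one.mp (hwdef ▸ hw1)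
  rw [mem_centralizer_iff]
  intro x hx
  have := main _ x hx rfl
  calc x * g = g * x * g⁻¹ * g := by rw [this]
    _ = g * x := by group

/-- Let G be a finite group in which the conjugacy classes of all non-central real elements (elements conjugate to their inverses) have sizes with the same 2-part, and suppose G has a Sylow 2-subgroup S such that every element of S that is conjugate in S to its inverse lies in the centre of S. Then G is solvable and the subgroup generated by the 2-elements of G (the smallest normal subgroup of odd index) has a normal 2-complement. -/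
theorem result {G : Type*} [Group G] [Finite G] (a : ℕ) (h : ∀ x : G, IsConj x x⁻¹ → x ∉ Subgroup.center G → ((Subgroup.centralizer ({x} : Set G)).index).factorization 2 = a) (S : Sylow 2 G) (hS : ∀ s : ↥(S : Subgroup G), IsConj s s⁻¹ → s ∈ Subgroup.center ↥(S : Subgroup G)) : Group.IsSolvable G ∧ Cfsg.HasNormalPComplement 2 ↥(Subgroup.closure {g : G | ∃ k : ℕ, orderOf g = 2 ^ k}) := by
  haveI : Fact (Nat.Prime 2) := ⟨Nat.prime_two⟩
  by_cases hc : ∀ x : G, (∃ j : ℕ, orderOf x = 2 ^ j) → IsConj x x⁻¹ → x ∈ center G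
  · refine ⟨?_, ?_⟩
    · have hG : Cfsg.HasNormalPComplement 2 G :=
        Fusion.hasNormalPComplement_of_frobenius fun Q hQ g hg hgo => frobenius_condition hc hQ hg hgo
      have hK := (Fusion.hasNormalPComplement_iff (p := 2)).mp hG
      haveI : Group.IsSolvable (pResidual 2 G) := Cfsg.Agent.S0205.result (by
        rw [Nat.odd_iff, ← Nat.two_dvd_ne_zero]
        exact (Nat.prime_two.coprime_iff_not_dvd).mp hK.symm)
      haveI : Group.IsNilpotent (G ⧸ pResidual 2 G) := Fusion.isPGroup_quotient_pResidual.isNilpotent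
      exact solvable_of_ker_le_range (pResidual 2 G).subtype (QuotientGroup.mk' (pResidual 2 G))
        (by simp)
    · refine Fusion.hasNormalPComplement_of_frobenius fun Q hQ g hg hgo => ?_
      refine frobenius_condition (G := ↥(Subgroup.closure {g : G | ∃ k : ℕ, orderOf g = 2 ^ k}))
        (fun x hx hr => ?_) hQ hg hgo
      have hx' := hc (x : G) (by simpa [Subgroup.orderOf_coe] using hx) (by
        obtain ⟨y, hy⟩ := isConj_iff.mp hr
        exact isConj_iff.mpr ⟨y, congrArg Subtype.val hy⟩)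
      exact mem_center_iff.mpr fun y => Subtype.ext (mem_center_iff.mp hx' y)
  push Not at hc
  obtain ⟨x₀, hx₀, hr₀, hn₀⟩ := hc
  have ha : a = 0 := by
    rw [← h x₀ hr₀ hn₀]
    exact Nat.factorization_eq_zero_of_not_dvd (two_not_dvd_index S hS hx₀ hr₀)
  have hno : ∀ x : G, x ≠ 1 → Odd (orderOf x) → ¬ IsConj x x⁻¹ := by
    intro x hx hodd hr
    have hdvd := two_dvd_index hx hodd hr
    have hnc : x ∉ center G := fun hxc => by
      have : centralizer ({x} : Set G) = ⊤ := eq_top_iff.mpr fun y _ =>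
        mem_centralizer_singleton_iff.mpr (mem_center_iff.mp hxc y)
      rw [this, index_top] at hdvd
      exact absurd (Nat.le_of_dvd one_pos hdvd) (by norm_num)
    have h0 := h x hr hnc
    rw [ha] at h0
    exact (Nat.prime_two.factorization_pos_of_dvd Subgroup.index_ne_zero_of_finite hdvd).ne' h0
  haveI hn : (S : Subgroup G).Normal := (Cfsg.Agent.S3861.result S).mp hno
  refine ⟨?_, ?_⟩
  · haveI : Group.IsNilpotent ↥(S : Subgroup G) := S.2.isNilpotent
    haveI : Group.IsSolvable (G ⧸ (S : Subgroup G)) := Cfsg.Agent.S0205.result (by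
      rw [Nat.odd_iff, ← Nat.two_dvd_ne_zero, ← index_eq_card]
      exact S.not_dvd_index)
    exact solvable_of_ker_le_range (S : Subgroup G).subtype (QuotientGroup.mk' (S : Subgroup G))
      (by simp)
  · have hK : Subgroup.closure {g : G | ∃ k : ℕ, orderOf g = 2 ^ k} ≤ (S : Subgroup G) := by
      rw [closure_le]
      rintro g ⟨k, hk⟩
      obtain ⟨T, hT⟩ := (IsPGroup.of_card (p := 2) (n := k) (G := zpowers g)
        (by rw [Nat.card_zpowers, hk])).exists_le_sylow
      haveI := Sylow.unique_of_normal S hn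
      rw [SetLike.mem_coe, Subsingleton.elim S T]
      exact hT (mem_zpowers g)
    refine Fusion.hasNormalPComplement_iff_exists.mpr ⟨⊥, inferInstance, by simp, ?_⟩
    rw [index_bot]
    exact IsPGroup.iff_card.mp (S.2.to_le hK)

end Cfsg.Agent.S4193
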