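import Cfsg.Statements.S4194
import Cfsg.Agent.FusSys.CaminaHerzogGroup

set_option autoImplicit false
open Cfsg

namespace Cfsg.Agent.S4194

/-- A finite group G has commutative Sylow 2-subgroups if and only if every 2-element of G (element of order a power of 2) is 2-central, that is, its centralizer contains a Sylow 2-subgroup of G. -/
theorem result {G : Type*} [Group G] [Finite G] (P : Sylow 2 G) :
    IsMulCommutative (P : Subgroup G) ↔ ∀ x : G, (∃ k : ℕ, orderOf x = 2 ^ k) → (∃ Q : Sylow 2 G, (Q : Subgroup G) ≤ Subgroup.centralizer ({x} : Set G)) := by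
  haveI : Fact (Nat.Prime 2) := ⟨Nat.prime_two⟩
  constructor
  · intro hP x hx
    obtain ⟨k, hk⟩ := hx
    obtain ⟨Q, hQ⟩ := (Cfsg.Agent.FusSys.isPGroup_zpowers_of_pow_eq_one (p := 2)
      (hk ▸ pow_orderOf_eq_one x)).exists_le_sylow
    refine ⟨Q, fun q hq => Subgroup.mem_centralizer_singleton_iff.2 ?_⟩
    let e := Sylow.equiv Q P
    have h1 : e ⟨q, hq⟩ * e ⟨x, hQ (Subgroup.mem_zpowers x)⟩ =
        e ⟨x, hQ (Subgroup.mem_zpowers x)⟩ * e ⟨q, hq⟩ := hP.is_comm.comm _ _
    rw [← map_mul, ← map_mul] at h1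
    exact congrArg Subtype.val (e.injective h1)
  · intro h
    exact ⟨⟨fun a b => Subtype.ext
      (Cfsg.Agent.FusSys.CamHerz.sylow_two_abelian h P a a.2 b b.2)⟩⟩

end Cfsg.Agent.S4194
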