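import Cfsg.Statements.S4195

set_option autoImplicit false
open Cfsg

namespace Cfsg.Agent.S4195

/-- Let x be a non-identity element of a finite group G whose centralizer contains a Sylow 2-subgroup of G. If x is conjugate to its inverse, then x has order 2. -/
theorem result {G : Type*} [Group G] [Finite G] (x : G) (hx : x ≠ 1) (P : Sylow 2 G) (hP : (P : Subgroup G) ≤ Subgroup.centralizer ({x} : Set G)) (hreal : IsConj x x⁻¹) : orderOf x = 2 := by
  obtain ⟨g, hg⟩ := isConj_iff.1 hreal
  set C := Subgroup.centralizer ({x} : Set G) with hC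
  have hconjC : ∀ h : G, h * x * h⁻¹ = x⁻¹ → ∀ y ∈ C, h * y * h⁻¹ ∈ C := by
    intro h hh y hy
    rw [hC, Subgroup.mem_centralizer_singleton_iff] at hy ⊢
    have h1 : x = (h * x * h⁻¹)⁻¹ := by rw [hh, inv_inv]
    rw [h1]
    have h2 : Commute (h * y * h⁻¹) (h * x * h⁻¹) := by
      have h3 : Commute y x := hy
      exact h3.map (MulAut.conj h)
    exact h2.inv_right.eq
  -- move the conjugating element into the normalizer of `P`
  have hgP : (P : Subgroup G).map (MulAut.conj g).toMonoidHom ≤ C := by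
    rintro _ ⟨y, hy, rfl⟩
    exact hconjC g hg y (hP hy)
  have hp : IsPGroup 2 ((P : Subgroup G).map (MulAut.conj g).toMonoidHom) := P.2.map _
  obtain ⟨PC, hPC⟩ : ∃ PC : Sylow 2 C, (PC : Subgroup C) = (P : Subgroup G).subgroupOf C := by
    refine ⟨(P.2.comap_subtype : IsPGroup 2 ((P : Subgroup G).subgroupOf C)).toSylow ?_, rfl⟩
    intro hd
    have h1 : (P : Subgroup G).relIndex C ∣ (P : Subgroup G).index := Subgroup.relIndex_dvd_index_of_le hP
    exact P.not_dvd_index (hd.trans h1)
  obtain ⟨c, hc⟩ := (hp.comap_subtype : IsPGroup 2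
    (((P : Subgroup G).map (MulAut.conj g).toMonoidHom).subgroupOf C)).exists_le_sylow
  obtain ⟨d, hd⟩ := MulAction.exists_smul_eq C c PC
  set h := (d : G) * g with hh
  have hhN : h ∈ Subgroup.normalizer ((P : Subgroup G) : Set G) := by
    have hle : (P : Subgroup G).map (MulAut.conj h).toMonoidHom ≤ P := by
      rintro _ ⟨y, hy, rfl⟩
      have h1 : (⟨g * y * g⁻¹, hgP ⟨y, hy, rfl⟩⟩ : C) ∈ (c : Subgroup C) :=
        hc (Subgroup.mem_subgroupOf.2 ⟨y, hy, rfl⟩)
      have h2 : d * (⟨g * y * g⁻¹, hgP ⟨y, hy, rfl⟩⟩ : C) * d⁻¹ ∈ (PC : Subgroup C) := by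
        rw [← hd]
        exact ⟨_, h1, rfl⟩
      rw [hPC, Subgroup.mem_subgroupOf] at h2
      show h * y * h⁻¹ ∈ (P : Subgroup G)
      simpa [hh, mul_assoc] using h2
    have heq : (P : Subgroup G).map (MulAut.conj h).toMonoidHom = P :=
      Subgroup.eq_of_le_of_card_ge hle
        (Subgroup.card_map_of_injective (MulAut.conj h).injective).ge
    rw [Subgroup.mem_normalizer_iff]
    intro y
    constructor
    · exact fun hy => heq.le ⟨y, hy, rfl⟩
    · intro hy
      obtain ⟨z, hz, hzy⟩ := heq.ge hy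
      have : z = y := mul_left_cancel (mul_right_cancel hzy)
      exact this ▸ hz
  have hinv : h * x * h⁻¹ = x⁻¹ := by
    have h1 : Commute (d : G) x⁻¹ := by
      have h2 : Commute (d : G) x := Subgroup.mem_centralizer_singleton_iff.1 d.2
      exact h2.inv_right
    calc h * x * h⁻¹ = (d : G) * (g * x * g⁻¹) * (d : G)⁻¹ := by simp [hh, mul_assoc]
      _ = x⁻¹ := by rw [hg, h1.eq, mul_inv_cancel_right]
  obtain ⟨a, m, hm, hord⟩ := Nat.exists_eq_pow_mul_and_not_dvd (orderOf_pos h).ne' 2 (by norm_num)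
  have hodd : Odd m := Nat.not_even_iff_odd.mp fun e => hm e.two_dvd
  set t := h ^ m
  have hpow : ∀ k : ℕ, h ^ k * x * (h ^ k)⁻¹ = if Even k then x else x⁻¹ := by
    intro k
    induction k with
    | zero => simp
    | succ k ih =>
      have h3 : h ^ (k + 1) * x * (h ^ (k + 1))⁻¹ = h * (h ^ k * x * (h ^ k)⁻¹) * h⁻¹ := by
        simp [pow_succ', mul_assoc]
      rw [h3, ih]
      simp only [Nat.even_add_one]
      by_cases he : Even k
      · simp [he, hinv]
      · rw [if_neg he, if_pos he]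
        have h4 := congrArg (·⁻¹) hinv
        simpa [mul_assoc] using h4
  have htx : t * x * t⁻¹ = x⁻¹ := by
    rw [hpow m, if_neg (Nat.not_even_iff_odd.mpr hodd)]
  have htP : t ∈ (P : Subgroup G) := by
    have ht2 : IsPGroup 2 (Subgroup.zpowers t) := by
      obtain ⟨i, -, hi⟩ := (Nat.dvd_prime_pow Nat.prime_two).mp
        (orderOf_dvd_of_pow_eq_one (show t ^ 2 ^ a = 1 by
          rw [← pow_mul, mul_comm, ← hord, pow_orderOf_eq_one]))
      exact IsPGroup.of_card (n := i) (by rw [Nat.card_zpowers, hi])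
    have hsup := ht2.to_sup_of_normal_right' P.2
      (Subgroup.zpowers_le.2 (pow_mem hhN m))
    rw [← P.3 hsup le_sup_right]
    exact Subgroup.mem_sup_left (Subgroup.mem_zpowers t)
  have hxx : x⁻¹ = x := by
    rw [← htx, Subgroup.mem_centralizer_singleton_iff.1 (hP htP), mul_inv_cancel_right]
  have hx2 : x ^ 2 = 1 := by
    rw [pow_two]
    nth_rewrite 1 [← hxx]
    exact inv_mul_cancel x
  exact orderOf_eq_prime hx2 hx

end Cfsg.Agent.S4195
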