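import Cfsg.Statements.S4196
import Cfsg.Agent.S4195

set_option autoImplicit false
open Cfsg

namespace Cfsg.Agent.S4196

/-- A finite group G has elementary abelian Sylow 2-subgroups (commutative with every element squaring to the identity) if and only if every 2-element of G has a Sylow 2-subgroup in its centralizer and is conjugate to its inverse. -/
theorem result {G : Type*} [Group G] [Finite G] (P : Sylow 2 G) :
    (IsMulCommutative (P : Subgroup G) ∧ ∀ x ∈ (P : Subgroup G), x ^ 2 = 1) ↔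
      ∀ x : G, (∃ k : ℕ, orderOf x = 2 ^ k) → (∃ Q : Sylow 2 G, (Q : Subgroup G) ≤ Subgroup.centralizer ({x} : Set G)) ∧ IsConj x x⁻¹ := by
  constructor
  · rintro ⟨hab, h2⟩ x ⟨k, hk⟩
    obtain ⟨Q, hQ⟩ := (IsPGroup.of_card (n := k) (by rw [Nat.card_zpowers, hk]) :
      IsPGroup 2 (Subgroup.zpowers x)).exists_le_sylow
    obtain ⟨g, hg⟩ := MulAction.exists_smul_eq G P Q
    have hmem : ∀ z ∈ (Q : Subgroup G), g⁻¹ * z * g ∈ (P : Subgroup G) := by
      intro z hz
      rw [← hg, Sylow.smul_def, Sylow.pointwise_smul_def] at hz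
      obtain ⟨w, hw, rfl⟩ := hz
      have hw' : w ∈ (P : Subgroup G) := hw
      simpa [mul_assoc] using hw'
    refine ⟨⟨Q, fun z hz => Subgroup.mem_centralizer_singleton_iff.2 ?_⟩, ?_⟩
    · have := hab.is_comm.comm ⟨_, hmem z hz⟩ ⟨_, hmem x (hQ (Subgroup.mem_zpowers x))⟩
      have h1 := congrArg (fun w : (P : Subgroup G) => g * (w : G) * g⁻¹) this
      simpa [mul_assoc] using h1
    · have h1 := h2 _ (hmem x (hQ (Subgroup.mem_zpowers x)))
      have h3 := congrArg (fun w : G => g * w * g⁻¹) h1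
      have hx2 : x * x = 1 := by simpa [pow_two, mul_assoc] using h3
      rw [show x⁻¹ = x from inv_eq_of_mul_eq_one_right hx2]
  · intro h
    have h2 : ∀ x ∈ (P : Subgroup G), x ^ 2 = 1 := by
      intro x hx
      obtain ⟨k, hk⟩ := P.2 ⟨x, hx⟩
      obtain ⟨i, -, hi⟩ := (Nat.dvd_prime_pow Nat.prime_two).mp (orderOf_dvd_of_pow_eq_one
        (show x ^ 2 ^ k = 1 from congrArg Subtype.val hk))
      obtain ⟨⟨Q, hQ⟩, hc⟩ := h x ⟨i, hi⟩
      rcases eq_or_ne x 1 with rfl | hne
      · simp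
      · rw [← Cfsg.Agent.S4195.result x hne Q hQ hc]
        exact pow_orderOf_eq_one x
    refine ⟨⟨⟨fun a b => Subtype.ext ?_⟩⟩, h2⟩
    have ha := h2 _ a.2
    have hb := h2 _ b.2
    have hab := h2 _ (mul_mem a.2 b.2)
    rw [pow_two] at ha hb hab
    calc (a : G) * b = ((a : G) * b)⁻¹ := (inv_eq_of_mul_eq_one_right hab).symm
      _ = (b : G)⁻¹ * (a : G)⁻¹ := mul_inv_rev _ _
      _ = b * a := by rw [inv_eq_of_mul_eq_one_right ha, inv_eq_of_mul_eq_one_right hb]

end Cfsg.Agent.S4196
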