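import Cfsg.Statements.S4198
import Mathlib

set_option autoImplicit false
open Cfsg

namespace Cfsg.Agent.S4198

/-- At most `2 ^ (n - 2)` partitions of `n ≥ 5`. -/
theorem card_partition_le (N : ℕ) (hN : 5 ≤ N) : Fintype.card (Nat.Partition N) ≤ 2 ^ (N - 2) := by
  classical
  have hcc : Fintype.card (Composition (N - 1)) = 2 ^ (N - 2) := by
    rw [composition_card]; congr 1
  let L : Nat.Partition N → List ℕ := fun μ => μ.parts.sort (· ≥ ·)
  have hsum : ∀ μ, (L μ).sum = N := fun μ => by
    rw [← Multiset.sum_coe, Multiset.sort_eq, μ.parts_sum]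
  have hpos : ∀ μ, ∀ x ∈ L μ, 0 < x := fun μ x hx => μ.parts_pos ((Multiset.mem_sort _).1 hx)
  have hsorted : ∀ μ, (L μ).Pairwise (· ≥ ·) := fun μ => Multiset.pairwise_sort μ.parts _
  let g : List ℕ → List ℕ := fun l => match l with
    | [] => []
    | a :: t => if 2 ≤ a then (a - 1) :: t else List.replicate (N - 3) 1 ++ [2]
  have hg : ∀ μ, (∀ {i}, i ∈ g (L μ) → 0 < i) ∧ (g (L μ)).sum = N - 1 := by
    intro μ
    have h1 := hsum μ
    have h2 := hpos μ
    cases hl : L μ with
    | nil => rw [hl] at h1; simp at h1; omega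
    | cons a t =>
      rw [hl] at h1 h2
      simp only [List.sum_cons, List.mem_cons, forall_eq_or_imp] at h1 h2
      by_cases ha : 2 ≤ a
      · simp only [g, if_pos ha, List.mem_cons, List.sum_cons]
        refine ⟨fun {i} hi => ?_, by omega⟩
        rcases hi with rfl | hi
        · omega
        · exact h2.2 i hi
      · simp only [g, if_neg ha, List.mem_append, List.mem_replicate, List.mem_singleton,
          List.sum_append, List.sum_replicate, List.sum_cons, List.sum_nil, smul_eq_mul, mul_one]
        exact ⟨fun {i} hi => by omega, by omega⟩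
  let f : Nat.Partition N → Composition (N - 1) := fun μ => ⟨g (L μ), (hg μ).1, (hg μ).2⟩
  rw [← hcc]
  refine Fintype.card_le_of_injective f fun μ ν h => ?_
  have hgl : g (L μ) = g (L ν) := congrArg Composition.blocks h
  suffices hL : L μ = L ν by
    apply Nat.Partition.ext
    rw [← Multiset.sort_eq μ.parts (· ≥ ·), ← Multiset.sort_eq ν.parts (· ≥ ·)]
    exact congrArg _ hL
  have hone : ∀ μ a t, L μ = a :: t → ¬ 2 ≤ a → L μ = List.replicate N 1 := by
    intro μ a t hl ha
    have hall : ∀ x ∈ L μ, x = 1 := by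
      intro x hx
      have hx0 := hpos μ x hx
      have hs := hsorted μ
      rw [hl] at hs hx
      rcases List.mem_cons.1 hx with rfl | hx'
      · omega
      · have := (List.pairwise_cons.1 hs).1 x hx'; omega
    have hrep := List.eq_replicate_of_mem hall
    have := hsum μ
    rw [hrep, List.sum_replicate, smul_eq_mul, mul_one] at this
    rw [hrep, this]
  have hne : ∀ μ a t, L μ = a :: t → 2 ≤ a → (a - 1) :: t ≠ List.replicate (N - 3) 1 ++ [2] := by
    intro μ a t hl ha hcon
    obtain ⟨j, hj⟩ : ∃ j, N - 3 = j + 2 := ⟨N - 5, by omega⟩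
    rw [hj, List.replicate_succ, List.cons_append] at hcon
    have hs := hsorted μ
    rw [hl, (List.cons.inj hcon).2, List.pairwise_cons, List.replicate_succ, List.cons_append,
      List.pairwise_cons] at hs
    have := hs.2.1 2 (by simp)
    omega
  cases hl : L μ with
  | nil => have := hsum μ; rw [hl] at this; simp at this; omega
  | cons a t =>
    cases hl' : L ν with
    | nil => have := hsum ν; rw [hl'] at this; simp at this; omega
    | cons b s =>
      rw [hl, hl'] at hgl
      by_cases ha : 2 ≤ a <;> by_cases hb : 2 ≤ b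
      · simp only [g, if_pos ha, if_pos hb, List.cons.injEq] at hgl
        obtain rfl : a = b := by omega
        rw [hgl.2]
      · simp only [g, if_pos ha, if_neg hb] at hgl
        exact absurd hgl (hne μ a t hl ha)
      · simp only [g, if_neg ha, if_pos hb] at hgl
        exact absurd hgl.symm (hne ν b s hl' hb)
      · rw [← hl, ← hl', hone μ a t hl ha, hone ν b s hl' hb]

/-- For n ≥ 5 the alternating group of degree n has strictly fewer conjugacy classes than the symmetric group of degree n, and the symmetric group of degree n (whose classes correspond to the partitions of n) has at most 2^(n−2) conjugacy classes. -/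
theorem result (n : ℕ) (hn : 5 ≤ n) : Nat.card (ConjClasses (alternatingGroup (Fin n))) < Nat.card (ConjClasses (Equiv.Perm (Fin n))) ∧ Nat.card (ConjClasses (Equiv.Perm (Fin n))) ≤ 2 ^ (n - 2) := by
  classical
  constructor
  · set A := alternatingGroup (Fin n)
    let f : ConjClasses A → ConjClasses (Equiv.Perm (Fin n)) := ConjClasses.map A.subtype
    let split : Set (ConjClasses (Equiv.Perm (Fin n))) :=
      {c | ∃ σ : A, f (ConjClasses.mk σ) = c ∧ Subgroup.centralizer ({(σ : Equiv.Perm (Fin n))} : Set _) ≤ A}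
    let O : Set (ConjClasses (Equiv.Perm (Fin n))) :=
      {c | ∃ σ : Equiv.Perm (Fin n), ConjClasses.mk σ = c ∧ Equiv.Perm.sign σ = -1}
    have hdisj : Disjoint (Set.range f) O := by
      rw [Set.disjoint_left]
      rintro _ ⟨C, rfl⟩ ⟨σ, hσ, hs⟩
      obtain ⟨a, rfl⟩ := ConjClasses.mk_surjective C
      obtain ⟨c, hc⟩ := isConj_iff.1 (ConjClasses.mk_eq_mk_iff_isConj.1
        (hσ : ConjClasses.mk σ = ConjClasses.mk (a : Equiv.Perm (Fin n))))
      have h1 := congrArg Equiv.Perm.sign (hc : c * σ * c⁻¹ = (a : Equiv.Perm (Fin n)))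
      rw [Subgroup.subtype_apply, map_mul, map_mul, map_inv, hs, Equiv.Perm.mem_alternatingGroup.1 a.2] at h1
      simp at h1
    -- classes fusing in the symmetric group
    have hfib : ∀ a b : A, f (ConjClasses.mk a) = f (ConjClasses.mk b) → ConjClasses.mk a ≠ ConjClasses.mk b →
        Subgroup.centralizer ({(a : Equiv.Perm (Fin n))} : Set _) ≤ A ∧
        ∃ c : Equiv.Perm (Fin n), c ∉ A ∧ c * a * c⁻¹ = b := by
      intro a b hab hne
      obtain ⟨c, hc'⟩ := isConj_iff.1 (ConjClasses.mk_eq_mk_iff_isConj.1
        (hab : ConjClasses.mk (a : Equiv.Perm (Fin n)) = ConjClasses.mk (b : Equiv.Perm (Fin n))))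
      have hc : c * (a : Equiv.Perm (Fin n)) * c⁻¹ = b := hc'
      have hcA : c ∉ A := fun h => hne (ConjClasses.mk_eq_mk_iff_isConj.2
        (isConj_iff.2 ⟨⟨c, h⟩, Subtype.ext hc⟩))
      refine ⟨fun d hd => ?_, c, hcA, hc⟩
      by_contra hdA
      rw [Subgroup.mem_centralizer_singleton_iff] at hd
      have hcd : c * d ∈ A := by
        rw [Equiv.Perm.mem_alternatingGroup] at hcA hdA ⊢
        rw [map_mul, (Int.units_eq_one_or _).resolve_left hcA, (Int.units_eq_one_or _).resolve_left hdA]
        norm_num
      refine hne (ConjClasses.mk_eq_mk_iff_isConj.2 (isConj_iff.2 ⟨⟨c * d, hcd⟩, Subtype.ext ?_⟩))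
      show c * d * a * (c * d)⁻¹ = (b : Equiv.Perm (Fin n))
      rw [← hc, mul_assoc c d, hd]; group
    have hA : Nat.card (ConjClasses A) ≤ (Set.range f).ncard + split.ncard := by
      -- one chosen preimage of each class, and at most one other over a split class
      choose g hg using fun c : Set.range f => c.2
      let R : Set (ConjClasses A) := Set.range g
      have hR : R.ncard ≤ (Set.range f).ncard := by
        rw [← Nat.card_coe_set_eq, ← Nat.card_coe_set_eq]
        exact Finite.card_range_le g
      have hRc : Rᶜ.ncard ≤ split.ncard := by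
        have hrep : ∀ C : ConjClasses A, C ∈ Rᶜ →
            f C ∈ split ∧ g ⟨f C, C, rfl⟩ ≠ C := by
          intro C hC
          have hne : g ⟨f C, C, rfl⟩ ≠ C := fun e => hC ⟨_, e⟩
          obtain ⟨a, rfl⟩ := ConjClasses.mk_surjective C
          obtain ⟨b, hb⟩ := ConjClasses.mk_surjective (g ⟨f (ConjClasses.mk a), _, rfl⟩)
          have hfb : f (ConjClasses.mk b) = f (ConjClasses.mk a) := by rw [hb]; exact hg _
          refine ⟨⟨a, rfl, (hfib a b hfb.symm ?_).1⟩, hne⟩
          rw [hb]; exact hne.symm
        refine Set.ncard_le_ncard_of_injOn f (fun C hC => (hrep C hC).1) ?_ (Set.toFinite _)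
        intro C hC D hD he
        by_contra hCD
        obtain ⟨hCs, hC'⟩ := hrep C hC
        obtain ⟨hDs, hD'⟩ := hrep D hD
        have hk : g ⟨f D, D, rfl⟩ = g ⟨f C, C, rfl⟩ := congrArg g (Subtype.ext he.symm)
        obtain ⟨a, rfl⟩ := ConjClasses.mk_surjective C
        obtain ⟨d, rfl⟩ := ConjClasses.mk_surjective D
        obtain ⟨b, hb⟩ := ConjClasses.mk_surjective (g ⟨f (ConjClasses.mk a), _, rfl⟩)
        have hfb : f (ConjClasses.mk b) = f (ConjClasses.mk a) := by rw [hb]; exact hg _
        obtain ⟨-, c, hc, hce⟩ := hfib b a hfb (hb ▸ hC')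
        obtain ⟨-, c', hc', hce'⟩ := hfib b d (hfb.trans he) (by rw [hb, ← hk]; exact hD')
        refine hCD (ConjClasses.mk_eq_mk_iff_isConj.2 (isConj_iff.2 ⟨⟨c' * c⁻¹, ?_⟩, Subtype.ext ?_⟩))
        · rw [Equiv.Perm.mem_alternatingGroup] at hc hc' ⊢
          rw [map_mul, map_inv, (Int.units_eq_one_or _).resolve_left hc,
            (Int.units_eq_one_or _).resolve_left hc']
          norm_num
        · show c' * c⁻¹ * a * (c' * c⁻¹)⁻¹ = (d : Equiv.Perm (Fin n))
          rw [← hce', ← hce]; group
      have := Set.ncard_add_ncard_compl R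
      omega
    have hsplit : split.ncard < O.ncard := by
      have hS : ∀ c ∈ split, ∃ σ τ : Equiv.Perm (Fin n), ∃ m : ℕ, ConjClasses.mk σ = c ∧
          Equiv.Perm.sign σ = 1 ∧ (∀ x ∈ σ.cycleType, Odd x) ∧ n ≤ σ.cycleType.sum + 1 ∧
          σ.cycleType.Nodup ∧ m ∈ σ.cycleType ∧ τ.cycleType = (m - 1) ::ₘ σ.cycleType.erase m := by
        rintro _ ⟨σ, rfl, hσ⟩
        obtain ⟨h1, h2, h3⟩ := Equiv.Perm.centralizer_le_alternating_iff.1 hσ
        rw [Fintype.card_fin] at h2
        obtain ⟨m, hm⟩ : ∃ m, m ∈ (σ : Equiv.Perm (Fin n)).cycleType := by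
          by_contra hno
          push Not at hno
          rw [Multiset.eq_zero_of_forall_notMem hno, Multiset.sum_zero] at h2
          omega
        have hm2 := Equiv.Perm.two_le_of_mem_cycleType hm
        have hm3 : 3 ≤ m := by obtain ⟨j, hj⟩ := h1 m hm; omega
        obtain ⟨τ, hτ⟩ := (Equiv.Perm.exists_with_cycleType_iff (Fin n)
            (m := (m - 1) ::ₘ (σ : Equiv.Perm (Fin n)).cycleType.erase m)).2 ⟨by
          have e := congrArg Multiset.sum (Multiset.cons_erase hm)
          have e2 := (σ : Equiv.Perm (Fin n)).sum_cycleType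
          have e3 := (σ : Equiv.Perm (Fin n)).support.card_le_univ
          rw [Multiset.sum_cons] at e ⊢
          omega, fun x hx => by
          rcases Multiset.mem_cons.1 hx with rfl | hx
          · omega
          · exact Equiv.Perm.two_le_of_mem_cycleType (Multiset.mem_of_mem_erase hx)⟩
        exact ⟨σ, τ, m, rfl, Equiv.Perm.mem_alternatingGroup.1 σ.2, h1, h2,
          Multiset.nodup_iff_count_le_one.2 h3, hm, hτ⟩
      choose! σ τ m hσ hsgn hodd hsum hnd hm hτ using hS
      have hodd' : ∀ c ∈ split, Equiv.Perm.sign (τ c) = -1 := by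
        intro c hc
        have e := congrArg Multiset.sum (Multiset.cons_erase (hm c hc))
        have e' := congrArg Multiset.card (Multiset.cons_erase (hm c hc))
        have h3 : 3 ≤ m c := by
          obtain ⟨j, hj⟩ := hodd c hc _ (hm c hc)
          have := Equiv.Perm.two_le_of_mem_cycleType (hm c hc); omega
        have hs := hsgn c hc
        rw [Equiv.Perm.sign_of_cycleType] at hs ⊢
        rw [hτ c hc, Multiset.sum_cons, Multiset.card_cons]
        rw [← e, ← e', Multiset.sum_cons, Multiset.card_cons] at hs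
        obtain ⟨r, hr⟩ : ∃ r, m c - 1 + ((σ c).cycleType.erase (m c)).sum +
            (Multiset.card ((σ c).cycleType.erase (m c)) + 1) = r := ⟨_, rfl⟩
        rw [hr]
        rw [show m c + ((σ c).cycleType.erase (m c)).sum +
            (Multiset.card ((σ c).cycleType.erase (m c)) + 1) = r + 1 by omega, pow_succ,
          mul_neg, mul_one, neg_eq_iff_eq_neg] at hs
        exact hs
      have htwo : ConjClasses.mk (Equiv.swap (⟨0, by omega⟩ : Fin n) ⟨1, by omega⟩) ∈ O :=
        ⟨_, rfl, Equiv.Perm.sign_swap (by simp)⟩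
      refine lt_of_le_of_lt (Set.ncard_le_ncard_of_injOn (fun c => ConjClasses.mk (τ c))
        (t := O \ {ConjClasses.mk (Equiv.swap (⟨0, by omega⟩ : Fin n) ⟨1, by omega⟩)}) ?_ ?_
        (Set.toFinite _)) (Set.ncard_diff_singleton_lt_of_mem htwo (Set.toFinite _))
      · intro c hc
        refine ⟨⟨_, rfl, hodd' c hc⟩, fun h => ?_⟩
        have h2 := Equiv.Perm.isConj_iff_cycleType_eq.1 (ConjClasses.mk_eq_mk_iff_isConj.1 h)
        rw [hτ c hc, Equiv.Perm.isSwap_iff_cycleType.1 ⟨_, _, by simp, rfl⟩] at h2
        have e1 := congrArg Multiset.sum h2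
        have e := congrArg Multiset.sum (Multiset.cons_erase (hm c hc))
        rw [Multiset.sum_cons, Multiset.sum_singleton] at e1
        rw [Multiset.sum_cons] at e
        have h5 := hsum c hc
        obtain ⟨j, hj⟩ := hodd c hc _ (hm c hc)
        omega
      · intro c hc d hd h
        have h2 := Equiv.Perm.isConj_iff_cycleType_eq.1 (ConjClasses.mk_eq_mk_iff_isConj.1 h)
        rw [hτ c hc, hτ d hd] at h2
        have hne : ∀ x ∈ (σ d).cycleType.erase (m d), m c - 1 ≠ x := fun x hx hxe => by
          obtain ⟨j, hj⟩ := hodd c hc _ (hm c hc)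
          obtain ⟨i, hi⟩ := hodd d hd x (Multiset.mem_of_mem_erase hx)
          omega
        have hmem : m c - 1 ∈ (m d - 1) ::ₘ (σ d).cycleType.erase (m d) :=
          h2 ▸ Multiset.mem_cons_self _ _
        have hmm : m c = m d := by
          rcases Multiset.mem_cons.1 hmem with h3 | h3
          · obtain ⟨j, hj⟩ := hodd c hc _ (hm c hc)
            obtain ⟨i, hi⟩ := hodd d hd _ (hm d hd)
            omega
          · exact absurd rfl (hne _ h3)
        rw [hmm, Multiset.cons_inj_right] at h2
        rw [← hσ c hc, ← hσ d hd]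
        refine ConjClasses.mk_eq_mk_iff_isConj.2 (Equiv.Perm.isConj_iff_cycleType_eq.2 ?_)
        rw [← Multiset.cons_erase (hm c hc), ← Multiset.cons_erase (hm d hd), hmm, h2]
    have hU : (Set.range f).ncard + O.ncard ≤ Nat.card (ConjClasses (Equiv.Perm (Fin n))) := by
      rw [← Set.ncard_union_eq hdisj (Set.toFinite _) (Set.toFinite _)]
      exact Set.ncard_le_card _
    omega
  · let f : ConjClasses (Equiv.Perm (Fin n)) → Nat.Partition (Fintype.card (Fin n)) :=
      Quotient.lift (fun σ : Equiv.Perm (Fin n) => σ.partition)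
        (fun a b h => Equiv.Perm.partition_eq_of_isConj.1 h)
    have hinj : Function.Injective f := by
      intro a b h
      obtain ⟨x, rfl⟩ := ConjClasses.mk_surjective a
      obtain ⟨y, rfl⟩ := ConjClasses.mk_surjective b
      exact ConjClasses.mk_eq_mk_iff_isConj.2 (Equiv.Perm.partition_eq_of_isConj.2 h)
    refine (Nat.card_le_card_of_injective f hinj).trans ?_
    rw [Nat.card_eq_fintype_card]
    simpa using card_partition_le (Fintype.card (Fin n)) (by simpa using hn)

end Cfsg.Agent.S4198
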