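import Cfsg.Statements.S4203
import Cfsg.Agent.Char.Integral
import Cfsg.Agent.Core.Basics


set_option autoImplicit false
open Cfsg

namespace Cfsg.Agent.S4203

/-- A finite group in which every maximal subgroup has index a prime or the square of a prime is solvable. -/
theorem result {G : Type*} [Group G] [Finite G] (h : ∀ M : Subgroup G, IsCoatom M → ∃ p : ℕ, p.Prime ∧ (M.index = p ∨ M.index = p ^ 2)) : Group.IsSolvable G := by
  induction hN : Nat.card G using Nat.strong_induction_on generalizing G with
  | _ N ih =>
  subst hN
  rcases subsingleton_or_nontrivial G with hs | hnt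
  · infer_instance
  have hne : (Nat.card G).primeFactors.Nonempty := Nat.nonempty_primeFactors.mpr Finite.one_lt_card
  set p := (Nat.card G).primeFactors.max' hne with hpdef
  have hpmem := Finset.max'_mem _ hne
  rw [← hpdef] at hpmem
  have hp : p.Prime := Nat.prime_of_mem_primeFactors hpmem
  have hpd : p ∣ Nat.card G := Nat.dvd_of_mem_primeFactors hpmem
  have hmax : ∀ q : ℕ, q.Prime → q ∣ Nat.card G → q ≤ p := fun q hq hqd =>
    Finset.le_max' _ _ (Nat.mem_primeFactors.mpr ⟨hq, hqd, Nat.card_pos.ne'⟩)
  have := Fact.mk hp
  obtain ⟨P⟩ : Nonempty (Sylow p G) := inferInstance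
  rcases eq_top_or_exists_le_coatom (Subgroup.normalizer ((P : Subgroup G) : Set G)) with htop | ⟨M, hM, hPM⟩
  · have := Subgroup.normalizer_eq_top_iff.mp htop
    have hPs : Group.IsSolvable (P : Subgroup G) :=
      IsNilpotent.to_isSolvable (h := P.isPGroup'.isNilpotent)
    refine Group.isSolvable_iff_subgroup_quotient (P : Subgroup G) |>.mpr ⟨hPs, ?_⟩
    refine ih _ (Cfsg.Agent.Core.card_quotient_lt (P.ne_bot_of_dvd_card hpd)) (fun M hM => ?_) rfl
    let f := QuotientGroup.mk' (P : Subgroup G)
    have hs : Function.Surjective f := QuotientGroup.mk'_surjective _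
    have hM' : IsCoatom (M.comap f) := by
      refine ⟨fun e => hM.1 ?_, fun K hK => ?_⟩
      · rw [← Subgroup.map_comap_eq_self_of_surjective hs M, e, Subgroup.map_top_of_surjective f hs]
      · have hker : f.ker ≤ K := (Subgroup.ker_le_comap f M).trans hK.le
        have h1 : M < K.map f := by
          rw [← Subgroup.comap_lt_comap_of_surjective hs, Subgroup.comap_map_eq_self hker]
          exact hK
        rw [← Subgroup.comap_map_eq_self hker, hM.2 _ h1, Subgroup.comap_top]
    obtain ⟨q, hq, hqM⟩ := h _ hM'
    rw [Subgroup.index_comap_of_surjective _ hs] at hqM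
    exact ⟨q, hq, hqM⟩
  · -- the index of a maximal subgroup containing the normalizer is 1 modulo `p`
    have hPleM : (P : Subgroup G) ≤ M := Subgroup.le_normalizer.trans hPM
    have h1 : Nat.card (Sylow p G) ≡ 1 [MOD p] := card_sylow_modEq_one p G
    have h2 : Nat.card (Sylow p M) ≡ 1 [MOD p] := card_sylow_modEq_one p M
    have h3 : M.index ≡ 1 [MOD p] := by
      have hNeq : Nat.card (Sylow p M) =
          (Subgroup.normalizer ((P : Subgroup G) : Set G)).relIndex M := by
        rw [Sylow.card_eq_index_normalizer (P.subtype hPleM), ← Sylow.coe_coe, P.coe_subtype,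
          ← Subgroup.subgroupOf_normalizer_eq hPleM]
        rfl
      have h4 := Subgroup.relIndex_mul_index hPM
      rw [← hNeq, show (Subgroup.normalizer ((P : Subgroup G) : Set G)).index = Nat.card (Sylow p G) from
        (P.card_eq_index_normalizer).symm] at h4
      have h5 : Nat.card (Sylow p M) * M.index ≡ 1 * M.index [MOD p] := h2.mul_right _
      rw [one_mul, h4] at h5
      exact h5.symm.trans h1
    obtain ⟨q, hq, hqM⟩ := h M hM
    have hqd : q ∣ M.index := by rcases hqM with e | e <;> rw [e]; exact dvd_pow_self q two_ne_zero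
    have hqp : q ≤ p := hmax q hq (hqd.trans M.index_dvd_card)
    have hne : q ≠ p := fun e => by
      rw [e] at hqd
      have h4 : p ∣ 1 := (Nat.ModEq.dvd_iff h3 dvd_rfl).mp hqd
      exact hp.one_lt.ne' (Nat.dvd_one.mp h4)
    have hdvd : p ∣ M.index - 1 :=
      (Nat.modEq_iff_dvd' (Nat.one_le_iff_ne_zero.mpr Subgroup.index_ne_zero_of_finite)).mp h3.symm
    have hlt : q < p := lt_of_le_of_ne hqp hne
    rcases hqM with e | e
    · rw [e] at hdvd
      have := Nat.le_of_dvd (by have := hq.two_le; omega) hdvd
      omega
    · rw [e] at hdvd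
      have hfac : q ^ 2 - 1 = (q + 1) * (q - 1) := by
        rw [← Nat.sq_sub_sq, one_pow]
      rw [hfac] at hdvd
      rcases hp.dvd_mul.mp hdvd with hd | hd
      · have h6 := Nat.le_of_dvd (by omega) hd
        have hpq : p = q + 1 := by omega
        have hq2 : q = 2 := by
          rcases hq.eq_two_or_odd with e2 | e2
          · exact e2
          · exfalso
            have := hq.two_le
            rcases hp.eq_two_or_odd with e3 | e3 <;> omega
        subst hq2
        have hp3 : p = 3 := hpq
        refine Cfsg.Agent.Char.isSolvable_of_card_eq 2 3 Nat.prime_two Nat.prime_three _ G rfl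
          ⟨(Nat.card G).factorization 2, (Nat.card G).factorization 3, ?_⟩
        have hsub : (Nat.card G).primeFactors ⊆ {2, 3} := fun r hr => by
          have h8 := hmax r (Nat.prime_of_mem_primeFactors hr) (Nat.dvd_of_mem_primeFactors hr)
          have h9 := (Nat.prime_of_mem_primeFactors hr).two_le
          simp only [Finset.mem_insert, Finset.mem_singleton]
          omega
        conv_lhs => rw [← Nat.prod_factorization_pow_eq_self Nat.card_pos.ne']
        show ∏ r ∈ (Nat.card G).factorization.support, r ^ (Nat.card G).factorization r = _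
        rw [Finset.prod_subset (show (Nat.card G).factorization.support ⊆ {2, 3} from hsub)
          (fun r _ hr => by rw [Finsupp.notMem_support_iff.mp hr, pow_zero]),
          Finset.prod_pair (by norm_num)]
      · have := Nat.le_of_dvd (by have := hq.two_le; omega) hd
        omega

end Cfsg.Agent.S4203
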