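import Cfsg.Statements.S4204
import Cfsg.Agent.Core.Basics


set_option autoImplicit false
open Cfsg

namespace Cfsg.Agent.S4204

/-- If `H` and `K` are normal subgroups of a finite group with `H` nilpotent of class at most `c` and `K` nilpotent of class at most `d` (the terms with index `c`, respectively `d`, of their lower central series are trivial, indices starting at `0`), then `HK` is nilpotent of class at most `c + d`. -/
theorem result {G : Type*} [Group G] [Finite G] (H K : Subgroup G) [H.Normal] [K.Normal] (c d : ℕ) (hH : H.lowerCentralSeries c = ⊥) (hK : K.lowerCentralSeries d = ⊥) : (H ⊔ K).lowerCentralSeries (c + d) = ⊥ := by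
  let Hs : ℕ → Subgroup G := fun i => if i = 0 then ⊤ else H.lowerCentralSeries (i - 1)
  let Ks : ℕ → Subgroup G := fun i => if i = 0 then ⊤ else K.lowerCentralSeries (i - 1)
  have hstep : ∀ (U : Subgroup G) [U.Normal], ∀ i : ℕ,
      ⁅(if i = 0 then ⊤ else U.lowerCentralSeries (i - 1) : Subgroup G), U⁆ ≤
        (if i + 1 = 0 then ⊤ else U.lowerCentralSeries (i + 1 - 1) : Subgroup G) := by
    intro U _ i
    rw [if_neg (Nat.succ_ne_zero i), Nat.add_sub_cancel]
    rcases Nat.eq_zero_or_pos i with rfl | hi
    · rw [if_pos rfl]; exact Subgroup.commutator_le_right ⊤ U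
    · rw [if_neg hi.ne']
      conv_rhs => rw [show i = i - 1 + 1 by omega, Subgroup.lowerCentralSeries_succ]
  have hn : ∀ (U : Subgroup G) [U.Normal], ∀ i : ℕ,
      (if i = 0 then ⊤ else U.lowerCentralSeries (i - 1) : Subgroup G).Normal := by
    intro U _ i
    split_ifs
    · infer_instance
    · exact inferInstance
  let T : ℕ → Subgroup G := fun m => ⨆ i ∈ Finset.range (m + 1), Hs i ⊓ Ks (m - i)
  have hTn : ∀ m, (T m).Normal := fun m => by
    refine Subgroup.normalizer_eq_top_iff.mp (eq_top_iff.mpr fun g _ => ?_)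
    rw [Subgroup.mem_normalizer_iff_map_conj_eq]
    simp only [T, Subgroup.map_iSup]
    refine iSup_congr fun i => iSup_congr fun _ => ?_
    have := hn H i
    have := hn K (m - i)
    have h : ∀ N : Subgroup G, N.Normal → N.map (MulAut.conj g) = N := fun N hN =>
      Subgroup.mem_normalizer_iff_map_conj_eq.mp (by rw [Subgroup.normalizer_eq_top]; trivial)
    exact h _ inferInstance
  have key : ∀ m, (H ⊔ K).lowerCentralSeries m ≤ T (m + 1) := by
    intro m
    induction m with
    | zero =>
      rw [Subgroup.lowerCentralSeries_zero]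
      refine sup_le ?_ ?_
      · refine le_trans ?_ (le_iSup₂ (f := fun i _ => Hs i ⊓ Ks (0 + 1 - i)) 1 (by simp))
        simp [Hs, Ks]
      · refine le_trans ?_ (le_iSup₂ (f := fun i _ => Hs i ⊓ Ks (0 + 1 - i)) 0 (by simp))
        simp [Hs, Ks]
    | succ m ih =>
      rw [Subgroup.lowerCentralSeries_succ]
      refine (Subgroup.commutator_mono ih le_rfl).trans ?_
      have := hTn (m + 1 + 1)
      let f := QuotientGroup.mk' (T (m + 1 + 1))
      have hbot : ∀ A B : Subgroup G, ⁅A, B⁆ ≤ T (m + 1 + 1) ↔
          A.map f ≤ Subgroup.centralizer ((B.map f : Subgroup _) : Set _) := fun A B => by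
        rw [← Subgroup.commutator_eq_bot_iff_le_centralizer, ← Subgroup.map_commutator,
          Subgroup.map_eq_bot_iff, QuotientGroup.ker_mk']
      rw [hbot]
      simp only [T, Subgroup.map_iSup]
      refine iSup₂_le fun i hi => ?_
      rw [Finset.mem_range] at hi
      have h1 : ⁅Hs i ⊓ Ks (m + 1 - i), H⁆ ≤ T (m + 1 + 1) := by
        refine le_trans ?_ (le_iSup₂ (f := fun i _ => Hs i ⊓ Ks (m + 1 + 1 - i)) (i + 1)
          (Finset.mem_range.mpr (by omega)))
        refine le_inf ((Subgroup.commutator_mono inf_le_left le_rfl).trans (hstep H i)) ?_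
        rw [show m + 1 + 1 - (i + 1) = m + 1 - i by omega]
        have := hn K (m + 1 - i)
        exact (Subgroup.commutator_mono inf_le_right le_rfl).trans (Subgroup.commutator_le_left _ _)
      have h2 : ⁅Hs i ⊓ Ks (m + 1 - i), K⁆ ≤ T (m + 1 + 1) := by
        refine le_trans ?_ (le_iSup₂ (f := fun i _ => Hs i ⊓ Ks (m + 1 + 1 - i)) i
          (Finset.mem_range.mpr (by omega)))
        refine le_inf ?_ ((Subgroup.commutator_mono inf_le_right le_rfl).trans ?_)
        · have := hn H i
          exact (Subgroup.commutator_mono inf_le_left le_rfl).trans (Subgroup.commutator_le_left _ _)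
        · rw [show m + 1 + 1 - i = m + 1 - i + 1 by omega]
          exact hstep K (m + 1 - i)
      rw [hbot] at h1 h2
      rw [Subgroup.le_centralizer_iff, Subgroup.map_sup, sup_le_iff]
      exact ⟨Subgroup.le_centralizer_iff.mp h1, Subgroup.le_centralizer_iff.mp h2⟩
  refine le_bot_iff.mp ((key (c + d)).trans (iSup₂_le fun i hi => ?_))
  rcases Nat.lt_or_ge c i with h | h
  · refine inf_le_left.trans ?_
    simp only [Hs, if_neg (show i ≠ 0 by omega)]
    exact (H.lowerCentralSeries_antitone (show c ≤ i - 1 by omega)).trans hH.le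
  · refine inf_le_right.trans ?_
    simp only [Ks, if_neg (show c + d + 1 - i ≠ 0 by omega)]
    exact (K.lowerCentralSeries_antitone (show d ≤ c + d + 1 - i - 1 by omega)).trans hK.le

end Cfsg.Agent.S4204
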