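import Cfsg.Statements.S4205
import Mathlib


set_option autoImplicit false
open Cfsg
open scoped commutatorElement

namespace Cfsg.Agent.S4205

/-- In a finite group whose upper central series reaches the whole group at step `c` (nilpotent of class at most `c`), starting from any subgroup and taking normalizers `c` times reaches the whole group. -/
theorem result {G : Type*} [Group G] [Finite G] (c : ℕ) (hG : Subgroup.upperCentralSeries G c = ⊤) (H : Subgroup G) : (fun K : Subgroup G => Subgroup.normalizer (K : Set G))^[c] H = ⊤ := by
  rw [eq_top_iff, ← hG]
  suffices key : ∀ j : ℕ, Subgroup.upperCentralSeries G j ≤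
      (fun K : Subgroup G => Subgroup.normalizer (K : Set G))^[j] H from key c
  intro j
  induction j with
  | zero => simp
  | succ j ih =>
    intro z hz
    rw [Function.iterate_succ', Function.comp_apply]
    set K := (fun K : Subgroup G => Subgroup.normalizer (K : Set G))^[j] H
    refine Subgroup.mem_normalizer_fintype fun y hy => ?_
    have h1 : ⁅z, y⁆ ∈ K := ih (Subgroup.mem_upperCentralSeries_succ_iff.mp hz y)
    have h2 : z * y * z⁻¹ = ⁅z, y⁆ * y := by rw [commutatorElement_def]; group
    rw [h2]
    exact K.mul_mem h1 hy

end Cfsg.Agent.S4205
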