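import Cfsg.Statements.S4211
import Cfsg.Agent.Fg24.Dedekind
import Mathlib

/-!
S4211: Dedekind's theorem on Hamiltonian groups.
-/

set_option autoImplicit false

namespace Cfsg.Agent.S4211

/-- A finite non-abelian group in which every subgroup is normal is the internal direct product of a subgroup isomorphic to the quaternion group of order `8`, an elementary abelian `2`-subgroup and an abelian subgroup of odd order. -/
theorem result {G : Type*} [Group G] [Finite G] (hna : ¬ IsMulCommutative G) (hn : ∀ H : Subgroup G, H.Normal) : ∃ Q E A : Subgroup G, Nonempty (Q ≃* QuaternionGroup 2) ∧ Cfsg.IsElementaryAbelian 2 E ∧ IsMulCommutative A ∧ Odd (Nat.card A) ∧ E ⊓ A = ⊥ ∧ Q ⊓ (E ⊔ A) = ⊥ ∧ Q ⊔ (E ⊔ A) = ⊤ := by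
  classical
  -- decomposition of an element into its 2-part and its odd part
  have hsplit : ∀ g : G, ∃ s o : G, g = s * o ∧ Commute s o ∧ (∃ k, s ^ 2 ^ k = 1) ∧
      Odd (orderOf o) ∧ s ∈ Subgroup.zpowers g ∧ o ∈ Subgroup.zpowers g := by
    intro g
    set k := (orderOf g).factorization 2
    set m := orderOf g / 2 ^ k
    have hmul : 2 ^ k * m = orderOf g := Nat.ordProj_mul_ordCompl_eq_self _ _
    have hm : ¬ 2 ∣ m := Nat.not_dvd_ordCompl Nat.prime_two (orderOf_pos g).ne'
    have hco : IsCoprime ((2 ^ k : ℕ) : ℤ) (m : ℤ) :=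
      Nat.isCoprime_iff_coprime.2 (Nat.Coprime.pow_left k (Nat.prime_two.coprime_iff_not_dvd.2 hm))
    obtain ⟨r, t, hrt⟩ := hco
    refine ⟨g ^ (t * m), g ^ (r * (2 ^ k : ℕ)), ?_, Commute.zpow_zpow_self g _ _, ⟨k, ?_⟩, ?_,
      ⟨_, rfl⟩, ⟨_, rfl⟩⟩
    · rw [← zpow_add, add_comm, hrt, zpow_one]
    · rw [← zpow_natCast, ← zpow_mul, ← orderOf_dvd_iff_zpow_eq_one, ← hmul, mul_assoc]
      push_cast
      exact Dvd.intro_left t (by ring)
    · refine Odd.of_dvd_nat (Nat.odd_iff.2 (Nat.two_dvd_ne_zero.1 hm)) ?_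
      rw [orderOf_dvd_iff_pow_eq_one, ← zpow_natCast, ← zpow_mul, ← orderOf_dvd_iff_zpow_eq_one,
        ← hmul, mul_assoc]
      push_cast
      exact Dvd.intro_left r (by ring)
  -- elements of odd prime power order are central against everything of prime power order
  have hpp : ∀ x y : G, ∀ p q a b : ℕ, p.Prime → q.Prime → p ≠ 2 → orderOf x ∣ p ^ a →
      orderOf y ∣ q ^ b → Commute x y := by
    intro x y p q a b hp hq hp2 hx hy
    by_cases hpq : p = q
    · subst hpq
      by_contra h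
      exact hp2 (Fg24.Dedekind.exists_quaternion_pair hn hp (a + b) a b x y rfl hx hy h).1
    · exact Fg24.Dedekind.commute_of_coprime hn
        (Nat.Coprime.coprime_dvd_left hx (Nat.Coprime.coprime_dvd_right hy
          ((Nat.coprime_primes hp hq).2 hpq |>.pow a b)))
  -- an element commuting with all elements of prime power order is central
  have hcentral : ∀ x : G, (∀ (y : G) (q b : ℕ), q.Prime → orderOf y ∣ q ^ b → Commute x y) →
      ∀ g : G, Commute x g := by
    intro x hx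
    suffices H : ∀ n : ℕ, ∀ g : G, orderOf g ∣ n → n ≠ 0 → Commute x g from
      fun g => H _ g dvd_rfl (orderOf_pos g).ne'
    intro n
    induction n using Nat.recOnPrimeCoprime with
    | zero => exact fun g _ h => absurd rfl h
    | prime_pow p k hp => exact fun g hg _ => hx g p k hp hg
    | coprime a b ha hb hab iha ihb =>
      intro g hg _
      obtain ⟨r, t, hrt⟩ := Nat.isCoprime_iff_coprime.2 hab
      have h : g = g ^ (t * b) * g ^ (r * a) := by rw [← zpow_add, add_comm, hrt, zpow_one]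
      rw [h]
      refine (iha _ ?_ (by omega)).mul_right (ihb _ ?_ (by omega))
      · rw [orderOf_dvd_iff_pow_eq_one, ← zpow_natCast, ← zpow_mul, ← orderOf_dvd_iff_zpow_eq_one]
        exact (Int.natCast_dvd_natCast.2 hg).trans (by push_cast; exact Dvd.intro_left t (by ring))
      · rw [orderOf_dvd_iff_pow_eq_one, ← zpow_natCast, ← zpow_mul, ← orderOf_dvd_iff_zpow_eq_one]
        exact (Int.natCast_dvd_natCast.2 hg).trans (by push_cast; exact Dvd.intro_left r (by ring))
  have hodd : ∀ x : G, Odd (orderOf x) → ∀ g : G, Commute x g := by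
    suffices H : ∀ n : ℕ, ∀ x : G, orderOf x ∣ n → Odd n → ∀ g : G, Commute x g from
      fun x hx => H _ x dvd_rfl hx
    intro n
    induction n using Nat.recOnPrimeCoprime with
    | zero => exact fun g _ h => absurd h (by decide)
    | prime_pow p k hp =>
      intro x hx hodd
      rcases Nat.eq_zero_or_pos k with rfl | hk
      · rw [pow_zero, Nat.dvd_one, orderOf_eq_one_iff] at hx
        subst hx
        exact Commute.one_left
      have hp2 : p ≠ 2 := by
        rintro rfl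
        rw [Nat.odd_pow_iff (by omega)] at hodd
        exact absurd hodd (by decide)
      exact hcentral x fun y q b hq hy => hpp x y p q k b hp hq hp2 hx hy
    | coprime a b ha hb hab iha ihb =>
      intro x hx hodd g
      obtain ⟨r, t, hrt⟩ := Nat.isCoprime_iff_coprime.2 hab
      have h : x = x ^ (t * b) * x ^ (r * a) := by rw [← zpow_add, add_comm, hrt, zpow_one]
      obtain ⟨hoa, hob⟩ := Nat.odd_mul.1 hodd
      rw [h]
      refine (iha _ ?_ hoa g).mul_left (ihb _ ?_ hob g)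
      · rw [orderOf_dvd_iff_pow_eq_one, ← zpow_natCast, ← zpow_mul, ← orderOf_dvd_iff_zpow_eq_one]
        exact (Int.natCast_dvd_natCast.2 hx).trans (by push_cast; exact Dvd.intro_left t (by ring))
      · rw [orderOf_dvd_iff_pow_eq_one, ← zpow_natCast, ← zpow_mul, ← orderOf_dvd_iff_zpow_eq_one]
        exact (Int.natCast_dvd_natCast.2 hx).trans (by push_cast; exact Dvd.intro_left r (by ring))
  -- the quaternion subgroup
  obtain ⟨x, y, hxy⟩ : ∃ x y : G, ¬ Commute x y := by
    by_contra h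
    push Not at h
    exact hna ⟨⟨fun a b => h a b⟩⟩
  obtain ⟨u, v, hu, huv, hconj⟩ : ∃ u v : G, orderOf u = 4 ∧ u ^ 2 = v ^ 2 ∧ v⁻¹ * u * v = u⁻¹ := by
    obtain ⟨s, o, rfl, -, ⟨k, hk⟩, ho, -⟩ := hsplit x
    obtain ⟨s', o', rfl, -, ⟨k', hk'⟩, ho', -⟩ := hsplit y
    have hss : ¬ Commute s s' := fun h => hxy <|
      (h.mul_right (hodd o' ho' s).symm).mul_left (hodd o ho _)
    exact (Fg24.Dedekind.exists_quaternion_pair hn Nat.prime_two (k + k') k k' s s' rfl
      (orderOf_dvd_of_pow_eq_one hk) (orderOf_dvd_of_pow_eq_one hk') hss).2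
  obtain ⟨Q, hQiso, huQ, hvQ, hcover, hvn⟩ := Fg24.Dedekind.exists_quaternion hn hu huv hconj
  set C := Subgroup.centralizer (Q : Set G) with hC
  have hu4 : u ^ 4 = 1 := hu ▸ pow_orderOf_eq_one u
  have hv4 : v ^ 4 = 1 := by rw [show 4 = 2 * 2 from rfl, pow_mul, ← huv, ← pow_mul, hu4]
  have hu2 : u ^ 2 ≠ 1 := pow_ne_one_of_lt_orderOf two_ne_zero (by omega)
  have hzu : ∀ g ∈ Subgroup.zpowers u, g = 1 ∨ g = u ∨ g = u ^ 2 ∨ g = u⁻¹ := by
    rintro g ⟨i, rfl⟩
    simp only
    rw [← zpow_mod_orderOf, hu]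
    have h1 := Int.emod_nonneg i (show ((4 : ℕ) : ℤ) ≠ 0 by norm_num)
    have h2 := Int.emod_lt_of_pos i (show (0 : ℤ) < ((4 : ℕ) : ℤ) by norm_num)
    have h3 : u ^ (3 : ℤ) = u⁻¹ := by
      rw [eq_inv_iff_mul_eq_one, ← zpow_add_one]
      exact_mod_cast hu4
    push_cast at h1 h2 ⊢
    interval_cases (i % 4)
    · exact Or.inl (zpow_zero u)
    · exact Or.inr (Or.inl (zpow_one u))
    · exact Or.inr (Or.inr (Or.inl (zpow_natCast u 2)))
    · exact Or.inr (Or.inr (Or.inr h3))
  have hC' : ∀ g : G, Commute g u → Commute g v → g ∈ C := by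
    intro g hgu hgv
    rw [hC, Subgroup.mem_centralizer_iff]
    intro q hq
    have hzp : ∀ w ∈ Subgroup.zpowers u, Commute g w := by
      rintro w ⟨i, rfl⟩; exact hgu.zpow_right i
    rcases hcover q hq with h | h
    · exact (hzp q h).eq.symm
    · have := hgv.mul_right (hzp _ h)
      rw [mul_inv_cancel_left] at this
      exact this.eq.symm
  have hCu : ∀ g ∈ C, Commute g u := fun g hg => (Subgroup.mem_centralizer_iff.1 hg u huQ).symm
  have hCv : ∀ g ∈ C, Commute g v := fun g hg => (Subgroup.mem_centralizer_iff.1 hg v hvQ).symm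
  have huvne : ¬ Commute u v := by
    intro h
    rw [mul_assoc, h.eq, inv_mul_cancel_left] at hconj
    exact hu2 (by rw [sq]; nth_rw 1 [hconj]; exact inv_mul_cancel u)
  have hQC : ∀ q ∈ Q, q ∈ C → q = 1 ∨ q = u ^ 2 := by
    intro q hq hqC
    rcases hcover q hq with h | h
    · rcases hzu q h with h1 | h1 | h1 | h1
      · exact Or.inl h1
      · exact absurd (h1 ▸ hCv q hqC) huvne
      · exact Or.inr h1
      · exact absurd (by simpa using (h1 ▸ hCv q hqC : Commute u⁻¹ v).inv_left) huvne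
    · exfalso
      obtain ⟨i, hi⟩ := h
      have h1 : Commute (u ^ i) u := (Commute.refl u).zpow_left i
      have h2 := (hCu q hqC).mul_left h1.inv_left
      simp only at hi
      rw [show q * (u ^ i)⁻¹ = v by rw [hi]; group] at h2
      exact huvne h2.symm
  have hu2C : u ^ 2 ∈ C := hC' _ ((Commute.refl u).pow_left 2) (huv ▸ (Commute.refl v).pow_left 2)
  -- products of 2-elements are 2-elements
  have h2mul : ∀ g h : G, (∃ k, g ^ 2 ^ k = 1) → (∃ k, h ^ 2 ^ k = 1) → ∃ k, (g * h) ^ 2 ^ k = 1 := by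
    intro g h hg hh
    haveI := hn (Subgroup.zpowers h)
    have hP : ∀ z : G, (∃ k, z ^ 2 ^ k = 1) → IsPGroup 2 (Subgroup.zpowers z) := by
      rintro z ⟨k, hk⟩ ⟨w, i, rfl⟩
      refine ⟨k, Subtype.ext ?_⟩
      push_cast
      rw [← zpow_natCast, ← zpow_mul, mul_comm, zpow_mul, zpow_natCast, hk, one_zpow]
    obtain ⟨k, hk⟩ := ((hP g hg).to_sup_of_normal_right (hP h hh))
      ⟨g * h, mul_mem (Subgroup.mem_sup_left (Subgroup.mem_zpowers g))
        (Subgroup.mem_sup_right (Subgroup.mem_zpowers h))⟩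
    exact ⟨k, by simpa using congrArg Subtype.val hk⟩
  -- every element acts on `Q` as an inner automorphism
  have hinner : ∀ g : G, ∃ q ∈ Q, q⁻¹ * g ∈ C := by
    intro g
    have hact : ∀ w : G, w ^ 4 = 1 → w ^ 2 ≠ 1 → g * w * g⁻¹ = w ∨ g * w * g⁻¹ = w⁻¹ := by
      intro w hw hw2
      obtain ⟨i, hi⟩ := (hn (Subgroup.zpowers w)).conj_mem w (Subgroup.mem_zpowers w) g
      simp only at hi
      have ho : orderOf w = 4 := orderOf_eq_prime_pow (p := 2) (n := 1) (by simpa using hw2) hw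
      have hne : (g * w * g⁻¹) ^ 2 ≠ 1 := fun h => hw2 <| by
        rw [conj_pow] at h
        exact conj_eq_one_iff.1 h
      rw [← hi] at hne ⊢
      rw [← zpow_mod_orderOf, ho] at hne ⊢
      have h1 := Int.emod_nonneg i (show ((4 : ℕ) : ℤ) ≠ 0 by norm_num)
      have h2 := Int.emod_lt_of_pos i (show (0 : ℤ) < ((4 : ℕ) : ℤ) by norm_num)
      push_cast at h1 h2 hne ⊢
      interval_cases (i % 4)
      · simp at hne
      · exact Or.inl (zpow_one w)
      · exfalso; apply hne
        rw [← zpow_natCast, ← zpow_mul]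
        exact_mod_cast hw
      · refine Or.inr ?_
        rw [eq_inv_iff_mul_eq_one, ← zpow_add_one]
        exact_mod_cast hw
    have hv2 : v ^ 2 ≠ 1 := huv ▸ hu2
    have hvuv : v * u * v⁻¹ = u⁻¹ := by
      calc v * u * v⁻¹ = v * (v⁻¹ * u * v)⁻¹ * v⁻¹ := by rw [hconj, inv_inv]
        _ = u⁻¹ := by group
    have huvu : u * v * u⁻¹ = v⁻¹ := by
      have h1 : v⁻¹ * u * v * u = 1 := by rw [hconj]; exact inv_mul_cancel u
      calc u * v * u⁻¹ = v * (v⁻¹ * u * v * u) * (u ^ 2)⁻¹ := by group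
        _ = v⁻¹ := by rw [h1, huv]; group
    have fin : ∀ q : G, q * u * q⁻¹ = g * u * g⁻¹ → q * v * q⁻¹ = g * v * g⁻¹ → q⁻¹ * g ∈ C := by
      intro q h1 h2
      refine hC' _ ?_ ?_
      · show q⁻¹ * g * u = u * (q⁻¹ * g)
        calc q⁻¹ * g * u = q⁻¹ * (g * u * g⁻¹) * g := by group
          _ = _ := by rw [← h1]; group
      · show q⁻¹ * g * v = v * (q⁻¹ * g)
        calc q⁻¹ * g * v = q⁻¹ * (g * v * g⁻¹) * g := by group
          _ = _ := by rw [← h2]; group
    rcases hact u hu4 hu2 with hgu | hgu <;> rcases hact v hv4 hv2 with hgv | hgv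
    · exact ⟨1, one_mem _, fin 1 (by rw [hgu]; group) (by rw [hgv]; group)⟩
    · exact ⟨u, huQ, fin u (by rw [hgu]; group) (by rw [hgv, huvu])⟩
    · exact ⟨v, hvQ, fin v (by rw [hgu, hvuv]) (by rw [hgv]; group)⟩
    · refine ⟨u * v, mul_mem huQ hvQ, fin _ ?_ ?_⟩
      · rw [hgu, show u * v * u * (u * v)⁻¹ = u * (v * u * v⁻¹) * u⁻¹ by group, hvuv]; group
      · rw [hgv, show u * v * v * (u * v)⁻¹ = u * v * u⁻¹ by group, huvu]
  -- 2-elements of the centralizer square to one
  have hsq : ∀ c ∈ C, (∃ k, c ^ 2 ^ k = 1) → c ^ 2 = 1 := by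
    have h4 : ∀ c ∈ C, c ^ 4 = 1 → c ^ 2 = 1 := by
      intro c hc hc4
      by_contra hc2
      have hcu : Commute u c := (hCu c hc).symm
      have hw : (u * c) ^ 4 = 1 := by rw [hcu.mul_pow, hu4, hc4, one_mul]
      have hvuc : v⁻¹ * (u * c) * v = u⁻¹ * c := by
        rw [show v⁻¹ * (u * c) * v = v⁻¹ * u * (c * v) by group, (hCv c hc).eq,
          show v⁻¹ * u * (v * c) = v⁻¹ * u * v * c by group, hconj]
      obtain ⟨i, hi⟩ := (hn (Subgroup.zpowers (u * c))).conj_mem _ (Subgroup.mem_zpowers (u * c)) v⁻¹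
      rw [inv_inv, hvuc] at hi
      simp only at hi
      rw [hcu.mul_zpow] at hi
      -- compare the components
      have hsplit2 : ∃ w : G, w = u ^ (i + 1) ∧ w = c ^ (1 - i) := by
        refine ⟨_, rfl, ?_⟩
        calc u ^ (i + 1) = u * (u ^ i * c ^ i) * c ^ (-i) := by rw [zpow_add_one, zpow_neg]; group
          _ = u * (u⁻¹ * c) * c ^ (-i) := by rw [hi]
          _ = c ^ (1 - i) := by group
      obtain ⟨w, hwu, hwc⟩ := hsplit2
      have hwC : w ∈ C := hwc ▸ zpow_mem hc _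
      rcases Int.even_or_odd' i with ⟨j, rfl | rfl⟩
      · rcases hQC w (hwu ▸ zpow_mem huQ _) hwC with h | h
        · rw [hwu, ← orderOf_dvd_iff_zpow_eq_one, hu] at h
          omega
        · rw [hwu, eq_comm, ← zpow_natCast, zpow_eq_zpow_iff_modEq, hu, Int.modEq_iff_dvd] at h
          omega
      · have h1 : w ^ 2 = 1 := by
          rw [hwu, ← zpow_natCast, ← zpow_mul, ← orderOf_dvd_iff_zpow_eq_one, hu]
          push_cast
          exact ⟨j + 1, by ring⟩
        rcases hQC w (hwu ▸ zpow_mem huQ _) hwC with h | h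
        · -- `c ^ (-2j) = 1`
          have hj : u ^ (2 * (j + 1)) = 1 := by rw [← h, hwu]; ring_nf
          rw [← orderOf_dvd_iff_zpow_eq_one, hu] at hj
          have hj2 : c ^ (1 - (2 * j + 1)) = 1 := hwc ▸ h
          rw [show (1 - (2 * j + 1)) = -(2 : ℤ) * j by ring] at hj2
          obtain ⟨l, rfl⟩ : ∃ l, j = 2 * l + 1 := ⟨(j - 1) / 2, by omega⟩
          apply hc2
          have h4z : c ^ (4 : ℤ) = 1 := by exact_mod_cast hc4
          rw [show -(2 : ℤ) * (2 * l + 1) = 4 * (-l - 1) + 2 by ring, zpow_add, zpow_mul, h4z,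
            one_zpow, one_mul] at hj2
          exact_mod_cast hj2
        · have hj : u ^ (2 * (j + 1)) = u ^ (2 : ℤ) := by
            rw [show (2 * (j + 1) : ℤ) = 2 * j + 1 + 1 by ring, ← hwu, h]
            exact_mod_cast rfl
          rw [zpow_eq_zpow_iff_modEq, hu, Int.modEq_iff_dvd] at hj
          obtain ⟨l, rfl⟩ : ∃ l, j = 2 * l := ⟨j / 2, by omega⟩
          apply hu2
          have h4z : c ^ (4 : ℤ) = 1 := by exact_mod_cast hc4
          rw [← h, hwc, show (1 - (2 * (2 * l) + 1)) = (4 : ℤ) * (-l) by ring, zpow_mul, h4z, one_zpow]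
    rintro c hc ⟨k, hk⟩
    induction k generalizing c with
    | zero => rw [pow_zero, pow_one] at hk; rw [hk, one_pow]
    | succ k ih =>
      apply h4 c hc
      have := ih (c ^ 2) (pow_mem hc 2) (by rw [← pow_mul, ← pow_succ']; exact hk)
      rwa [← pow_mul] at this
  -- the elementary abelian part
  let T : Subgroup G :=
    { carrier := {c | c ∈ C ∧ c ^ 2 = 1}
      one_mem' := ⟨one_mem C, one_pow 2⟩
      mul_mem' := fun {a b} ha hb => ⟨mul_mem ha.1 hb.1,
        hsq _ (mul_mem ha.1 hb.1) (h2mul a b ⟨1, ha.2⟩ ⟨1, hb.2⟩)⟩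
      inv_mem' := fun {a} ha => ⟨inv_mem ha.1, by rw [inv_pow, ha.2, inv_one]⟩ }
  have hTc : ∀ a ∈ T, ∀ b ∈ T, Commute a b := by
    intro a ha b hb
    have h := (mul_mem ha hb).2
    have h1 : ∀ z : G, z ^ 2 = 1 → z⁻¹ = z := fun z hz =>
      inv_eq_of_mul_eq_one_left (by rwa [← sq])
    show a * b = b * a
    calc a * b = (a * b)⁻¹ := (h1 _ h).symm
      _ = b * a := by rw [mul_inv_rev, h1 a ha.2, h1 b hb.2]
  have hu2T : u ^ 2 ∈ T := ⟨hu2C, by rw [← pow_mul]; exact hu4⟩
  obtain ⟨E, ⟨hET, huE⟩, hmax⟩ := (Set.toFinite {E : Subgroup G | E ≤ T ∧ u ^ 2 ∉ E}).exists_maximal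
    ⟨⊥, bot_le, by simpa using hu2⟩
  have hTE : ∀ t ∈ T, t ∈ E ∨ u ^ 2 * t ∈ E := by
    intro t ht
    by_cases htE : t ∈ E
    · exact Or.inl htE
    have hlt : E < E ⊔ Subgroup.zpowers t :=
      SetLike.lt_iff_le_and_exists.2 ⟨le_sup_left, t, Subgroup.mem_sup_right (Subgroup.mem_zpowers t), htE⟩
    have hmem : u ^ 2 ∈ E ⊔ Subgroup.zpowers t := by
      by_contra h
      exact hlt.not_ge (hmax ⟨sup_le hET (Subgroup.zpowers_le.2 ht), h⟩ hlt.le)
    haveI := hn E
    obtain ⟨e, he, w, ⟨i, rfl⟩, hew⟩ := Subgroup.mem_sup_of_normal_left.1 hmem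
    simp only at hew
    rcases Int.even_or_odd' i with ⟨j, rfl | rfl⟩
    · exfalso
      apply huE
      rw [zpow_mul, show t ^ (2 : ℤ) = 1 by exact_mod_cast ht.2, one_zpow, mul_one] at hew
      exact hew ▸ he
    · refine Or.inr ?_
      rw [zpow_add, zpow_mul, show t ^ (2 : ℤ) = 1 by exact_mod_cast ht.2, one_zpow, one_mul,
        zpow_one] at hew
      rw [← hew, mul_assoc, show t * t = 1 by rw [← sq]; exact ht.2, mul_one]
      exact he
  -- the odd part
  let A : Subgroup G :=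
    { carrier := {a | Odd (orderOf a)}
      one_mem' := by simp
      mul_mem' := fun {a b} ha hb => Odd.of_dvd_nat (ha.mul hb)
        ((hodd a ha b).orderOf_mul_dvd_mul_orderOf)
      inv_mem' := fun {a} ha => by simpa using ha }
  have hAodd : Odd (Nat.card A) := by
    rw [← Nat.not_even_iff_odd, even_iff_two_dvd]
    intro h
    haveI : Fact (Nat.Prime 2) := ⟨Nat.prime_two⟩
    obtain ⟨⟨a, ha⟩, ha2⟩ := exists_prime_orderOf_dvd_card' (G := A) 2 h
    rw [Subgroup.orderOf_mk] at ha2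
    have : Odd (orderOf a) := ha
    rw [ha2] at this
    exact absurd this (by decide)
  have hEA : ∀ z ∈ E, z ∈ A → z = 1 := by
    intro z hzE hzA
    have h1 : orderOf z ∣ 2 := orderOf_dvd_of_pow_eq_one (hET hzE).2
    rcases (Nat.dvd_prime Nat.prime_two).1 h1 with h | h
    · exact orderOf_eq_one_iff.1 h
    · have : Odd (orderOf z) := hzA
      rw [h] at this
      exact absurd this (by decide)
  refine ⟨Q, E, A, hQiso, ⟨⟨⟨fun a b => Subtype.ext (hTc a (hET a.2) b (hET b.2))⟩⟩,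
    fun a ha => (hET ha).2⟩, ⟨⟨fun a b => Subtype.ext (hodd a a.2 b)⟩⟩, hAodd, ?_, ?_, ?_⟩
  · rw [eq_bot_iff]
    exact fun z hz => Subgroup.mem_bot.2 (hEA z hz.1 hz.2)
  · rw [eq_bot_iff]
    rintro q ⟨hq, hqEA⟩
    haveI := hn E
    obtain ⟨e, he, a, ha, rfl⟩ := Subgroup.mem_sup_of_normal_left.1 hqEA
    have hq4 : (e * a) ^ 4 = 1 := by
      obtain ⟨φ⟩ := hQiso
      have h := congrArg φ.symm (show (φ ⟨_, hq⟩) ^ 4 = 1 by
        generalize φ ⟨_, hq⟩ = z
        cases z with
        | a i => revert i; decide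
        | xa i => exact QuaternionGroup.xa_pow_four i)
      simpa using congrArg Subtype.val h
    have hea : Commute e a := (hodd a ha e).symm
    rw [hea.mul_pow, show e ^ 4 = 1 by rw [show 4 = 2 * 2 from rfl, pow_mul, (hET he).2, one_pow],
      one_mul] at hq4
    have ha1 : a = 1 := by
      rw [← orderOf_eq_one_iff]
      have h1 : Nat.Coprime (2 ^ 2) (orderOf a) :=
        Nat.Coprime.pow_left 2 (Nat.coprime_two_left.2 ha)
      exact Nat.eq_one_of_dvd_coprimes h1 (orderOf_dvd_of_pow_eq_one hq4) dvd_rfl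
    subst ha1
    rw [mul_one] at hq ⊢
    rcases hQC e hq (hET he).1 with h | h
    · exact Subgroup.mem_bot.2 h
    · exact absurd (h ▸ he) huE
  · rw [eq_top_iff]
    intro g _
    obtain ⟨s, o, rfl, -, hs, ho, -⟩ := hsplit g
    obtain ⟨q, hq, hc⟩ := hinner s
    have hq2 : ∃ k, q⁻¹ ^ 2 ^ k = 1 := by
      refine ⟨2, ?_⟩
      obtain ⟨φ⟩ := hQiso
      have h := congrArg φ.symm (show (φ ⟨q⁻¹, inv_mem hq⟩) ^ 4 = 1 by
        generalize φ ⟨q⁻¹, inv_mem hq⟩ = z
        cases z with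
        | a i => revert i; decide
        | xa i => exact QuaternionGroup.xa_pow_four i)
      simpa using congrArg Subtype.val h
    have hcT : q⁻¹ * s ∈ T := ⟨hc, hsq _ hc (h2mul _ _ hq2 hs)⟩
    have ho' : o ∈ Q ⊔ (E ⊔ A) := Subgroup.mem_sup_right (Subgroup.mem_sup_right ho)
    refine mul_mem ?_ ho'
    rcases hTE _ hcT with h | h
    · have := mul_mem (Subgroup.mem_sup_left (T := E ⊔ A) hq)
        (Subgroup.mem_sup_right (S := Q) (Subgroup.mem_sup_left (T := A) h))
      rwa [mul_inv_cancel_left] at this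
    · have := mul_mem (Subgroup.mem_sup_left (T := E ⊔ A) (mul_mem hq (inv_mem (pow_mem huQ 2))))
        (Subgroup.mem_sup_right (S := Q) (Subgroup.mem_sup_left (T := A) h))
      rwa [show q * (u ^ 2)⁻¹ * (u ^ 2 * (q⁻¹ * s)) = s by group] at this

end Cfsg.Agent.S4211
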