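import Cfsg.Statements.S4212
import Cfsg.Agent.FrobeniusCount
import Cfsg.Agent.Invol.Count

set_option autoImplicit false
open Cfsg

namespace Cfsg.Agent.S4212

open Subgroup Cfsg.Agent.FrobeniusCount

section aux
variable {G : Type*} [Group G] [Finite G]

/-- The `p`-part, when `p` divides the order of `c`. -/
theorem dvd_of_dvd_orderOf {p a n : ℕ} [hp : Fact p.Prime] (han : p ^ a ∣ n) (hn : n ≠ 0)
    (ha : ¬ p ^ (a + 1) ∣ n) {c : G} (hc : p ∣ orderOf c) :
    p ^ a ∣ Nat.card {x : G // x ^ n = c} := by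
  classical
  have := Fintype.ofFinite G
  rw [Nat.card_eq_fintype_card, Fintype.card_subtype]
  set f : G → Set G := fun x => {y | x⁻¹ * y ∈ zpowers x ∧ (x⁻¹ * y) ^ p ^ a = 1}
  have := Fintype.ofFinite (Set G)
  rw [Finset.card_eq_sum_card_fiberwise (f := f) (t := Finset.univ) (fun _ _ => Finset.mem_univ _)]
  refine Finset.dvd_sum fun S _ => ?_
  by_cases hne : ((Finset.univ.filter fun x : G => x ^ n = c).filter fun x => f x = S).Nonempty
  swap
  · rw [Finset.not_nonempty_iff_eq_empty.1 hne, Finset.card_empty]; exact dvd_zero _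
  obtain ⟨x, hx⟩ := hne
  simp only [Finset.mem_filter, Finset.mem_univ, true_and] at hx
  obtain ⟨hxc, rfl⟩ := hx
  -- the order of `x`
  obtain ⟨i, o, ho, hio⟩ := Nat.exists_eq_pow_mul_and_not_dvd (orderOf_pos x).ne' p hp.out.ne_one
  have hi : a + 1 ≤ i := by
    by_contra hlt
    push Not at hlt
    have h1 : orderOf c ∣ o := by
      rw [← hxc, orderOf_dvd_iff_pow_eq_one, ← pow_mul, ← orderOf_dvd_iff_pow_eq_one, hio]
      exact Nat.mul_dvd_mul_right ((pow_dvd_pow p (by omega : i ≤ a)).trans han) o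
    exact ho (hc.trans h1)
  have hpa : p ^ a ∣ orderOf x := hio ▸ (pow_dvd_pow p (by omega)).mul_right o
  obtain ⟨m, hm⟩ := hpa
  have hpm : p ∣ m := by
    have h1 : p ^ (a + 1) ∣ p ^ a * m := by
      rw [← hm, hio]; exact (pow_dvd_pow p hi).mul_right o
    rw [pow_succ] at h1
    exact Nat.dvd_of_mul_dvd_mul_left (pow_pos hp.out.pos a) h1
  have hsame : ∀ y ∈ f x, zpowers y = zpowers x ∧ y ^ n = c := by
    rintro y ⟨hy, hy1⟩
    set w := x⁻¹ * y with hw
    have hyw : y = x * w := (mul_inv_cancel_left x y).symm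
    obtain ⟨j, hj⟩ := hy
    have hcomm : Commute x w := hj ▸ (Commute.refl x).zpow_right j
    have hyn : y ^ n = c := by
      obtain ⟨n', rfl⟩ := han
      rw [hyw, hcomm.mul_pow, hxc, pow_mul, hy1, one_pow, mul_one]
    refine ⟨?_, hyn⟩
    have hle : zpowers y ≤ zpowers x := zpowers_le.2 (hyw ▸ mul_mem (mem_zpowers x) ⟨j, hj⟩)
    refine eq_of_le_of_card_ge hle ?_
    rw [Nat.card_zpowers, Nat.card_zpowers]
    refine Nat.le_of_dvd (orderOf_pos y) ?_
    have hpw : x ^ p ^ a = y ^ p ^ a := by rw [hyw, hcomm.mul_pow, hy1, mul_one]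
    have h1 : orderOf (x ^ p ^ a) = m := by
      rw [orderOf_pow_of_dvd (pow_ne_zero _ hp.out.pos.ne') ⟨m, hm⟩, hm,
        Nat.mul_div_cancel_left _ (pow_pos hp.out.pos a)]
    have h2 := orderOf_pow (n := p ^ a) y
    rw [← hpw, h1] at h2
    have h3 : (orderOf y).gcd (p ^ a) ∣ p ^ a := Nat.gcd_dvd_right _ _
    obtain ⟨b, hb, hbe⟩ := (Nat.dvd_prime_pow hp.out).1 h3
    rcases lt_or_eq_of_le hb with hlt | heq
    · exfalso
      have h4 : m ∣ orderOf y := by rw [h2]; exact Nat.div_dvd_of_dvd (Nat.gcd_dvd_left _ _)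
      have h5 : orderOf y = p ^ b * m := by
        rw [h2, hbe, Nat.mul_div_cancel' (hbe ▸ Nat.gcd_dvd_left _ _)]
      have h6 : p ^ (b + 1) ∣ (orderOf y).gcd (p ^ a) :=
        Nat.dvd_gcd (by rw [h5, pow_succ]; exact Nat.mul_dvd_mul_left _ hpm) (pow_dvd_pow p (by omega))
      rw [hbe] at h6
      exact absurd (Nat.le_of_dvd (pow_pos hp.out.pos b) h6) (not_le.2 (Nat.pow_lt_pow_right hp.out.one_lt (by omega)))
    · subst heq
      rw [hm, h2, hbe, Nat.mul_div_cancel' (hbe ▸ Nat.gcd_dvd_left _ _)]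
  have hset : ((Finset.univ.filter fun z : G => z ^ n = c).filter fun z => f z = f x) =
      Finset.univ.filter fun y => y ∈ f x := by
    ext y
    simp only [Finset.mem_filter, Finset.mem_univ, true_and]
    refine ⟨fun h => h.2 ▸ ⟨by simp, by simp⟩, fun h => ?_⟩
    obtain ⟨hz, hyn⟩ := hsame y h
    refine ⟨hyn, ?_⟩
    obtain ⟨hy, hy1⟩ := h
    ext z
    have hc1 : Commute (y⁻¹ * x) (x⁻¹ * z) → True := fun _ => trivial
    have hyx : y⁻¹ * x = (x⁻¹ * y)⁻¹ := by group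
    constructor
    · rintro ⟨h1, h2⟩
      have h1' : y⁻¹ * z ∈ zpowers x := hz ▸ h1
      refine ⟨by rw [show x⁻¹ * z = (x⁻¹ * y) * (y⁻¹ * z) by group]; exact mul_mem hy h1', ?_⟩
      obtain ⟨i1, e1⟩ := hy
      obtain ⟨i2, e2⟩ := h1'
      rw [show x⁻¹ * z = (x⁻¹ * y) * (y⁻¹ * z) by group,
        (show Commute (x⁻¹ * y) (y⁻¹ * z) from e1 ▸ e2 ▸ ((Commute.refl x).zpow_zpow i1 i2)).mul_pow, hy1, h2, mul_one]
    · rintro ⟨h1, h2⟩
      have h1' : y⁻¹ * z ∈ zpowers x := by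
        rw [show y⁻¹ * z = (x⁻¹ * y)⁻¹ * (x⁻¹ * z) by group]; exact mul_mem (inv_mem hy) h1
      refine ⟨by rw [hz]; exact h1', ?_⟩
      obtain ⟨i1, e1⟩ := hy
      obtain ⟨i2, e2⟩ := h1
      rw [show y⁻¹ * z = (x⁻¹ * y)⁻¹ * (x⁻¹ * z) by group,
        (show Commute (x⁻¹ * y) (x⁻¹ * z) from e1 ▸ e2 ▸ ((Commute.refl x).zpow_zpow i1 i2)).inv_left.mul_pow,
        inv_pow, hy1, h2, inv_one, one_mul]
  rw [hset]
  -- the coset has `p ^ a` elements
  have hcard : (Finset.univ.filter fun y => y ∈ f x).card = Nat.card {w : zpowers x // w ^ p ^ a = 1} := by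
    rw [← Nat.card_eq_finsetCard]
    refine Nat.card_congr
      { toFun := fun y => ⟨⟨x⁻¹ * y.1, ((Finset.mem_filter.1 y.2).2).1⟩,
          Subtype.ext (by rw [SubgroupClass.coe_pow]; exact ((Finset.mem_filter.1 y.2).2).2)⟩
        invFun := fun w => ⟨x * (w.1 : G), Finset.mem_filter.2 ⟨Finset.mem_univ _,
          show x⁻¹ * (x * (w.1 : G)) ∈ zpowers x ∧ _ from ⟨by simp, by
            rw [inv_mul_cancel_left, ← SubgroupClass.coe_pow, w.2, OneMemClass.coe_one]⟩⟩⟩
        left_inv := fun y => Subtype.ext (by simp)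
        right_inv := fun w => Subtype.ext (Subtype.ext (by simp)) }
  rw [hcard]
  have hg := gcd_dvd_card_pow_eq_one (G := zpowers x) (p ^ a)
  rwa [Nat.card_zpowers, Nat.gcd_eq_left (⟨m, hm⟩ : p ^ a ∣ orderOf x)] at hg

/-- The `p`-part, when `p` does not divide the order of the central element `c`. -/
theorem dvd_of_coprime_orderOf {p a n : ℕ} [hp : Fact p.Prime] (han : p ^ a ∣ n)
    (ha : ¬ p ^ (a + 1) ∣ n) {c : G} (hcen : c ∈ center G) (hc : ¬ p ∣ orderOf c) :
    (p ^ a).gcd (Nat.card G) ∣ Nat.card {x : G // x ^ n = c} := by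
  obtain ⟨i, A, hA, hiA⟩ := Nat.exists_eq_pow_mul_and_not_dvd (Nat.card_pos (α := G)).ne' p hp.out.ne_one
  set d := (p ^ a).gcd (Nat.card G) with hd
  obtain ⟨b, hb, hdb⟩ := (Nat.dvd_prime_pow hp.out).1 (Nat.gcd_dvd_left (p ^ a) (Nat.card G))
  have hcop : A.Coprime d := by
    rw [hd, hdb]; exact ((hp.out.coprime_iff_not_dvd.2 hA).pow_left b).symm
  obtain ⟨e, he1, he0⟩ := Nat.chineseRemainder hcop 1 0
  have he0' := Nat.modEq_zero_iff_dvd.1 he0
  have hcA : orderOf c ∣ A := by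
    have h1 : orderOf c ∣ p ^ i * A := hiA ▸ _root_.orderOf_dvd_natCard c
    exact ((hp.out.coprime_iff_not_dvd.2 hc).symm.pow_right i).dvd_of_dvd_mul_left h1
  have hdn : d ∣ n := (Nat.gcd_dvd_left _ _).trans han
  have hce : c ^ e = c := by
    conv_rhs => rw [← pow_one c]
    exact pow_eq_pow_iff_modEq.2 (he1.of_dvd hcA)
  have hcg : Nat.card {x : G // x ^ n = c} = Nat.card {x : G // x ^ (A * d) = 1 ∧ (x ^ e) ^ n = c} := by
    refine Nat.card_congr (Equiv.subtypeEquivRight fun x => ?_)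
    constructor
    · intro h
      refine ⟨orderOf_dvd_iff_pow_eq_one.1 ?_, by rw [← pow_mul, mul_comm, pow_mul, h, hce]⟩
      have h1 : orderOf x ∣ n * A := by
        rw [orderOf_dvd_iff_pow_eq_one, pow_mul, h, ← orderOf_dvd_iff_pow_eq_one]; exact hcA
      obtain ⟨j, o, ho, hjo⟩ := Nat.exists_eq_pow_mul_and_not_dvd (orderOf_pos x).ne' p hp.out.ne_one
      rw [hjo, mul_comm A]
      refine Nat.mul_dvd_mul ?_ ?_
      · refine Nat.dvd_gcd ?_ (((dvd_mul_right _ o).trans hjo.symm.dvd).trans (_root_.orderOf_dvd_natCard x))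
        have h2 : p ^ j ∣ n := ((hp.out.coprime_iff_not_dvd.2 hA).pow_left j).dvd_of_dvd_mul_right
          (((dvd_mul_right _ o).trans hjo.symm.dvd).trans h1)
        refine pow_dvd_pow p (by_contra fun hj => ha ((pow_dvd_pow p (by omega)).trans h2))
      · exact ((hp.out.coprime_iff_not_dvd.2 ho).symm.pow_right i).dvd_of_dvd_mul_left
          (((dvd_mul_left o _).trans hjo.symm.dvd).trans ((_root_.orderOf_dvd_natCard x).trans hiA.dvd))
    · rintro ⟨h1, h2⟩
      rw [← h2, ← pow_mul]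
      refine pow_eq_pow_iff_modEq.2 (Nat.ModEq.of_dvd ((orderOf_dvd_of_pow_eq_one h1).trans ?_)
        (by simpa using (Nat.ModEq.mul_right' n he1).symm))
      exact Nat.mul_dvd_mul_left A hdn
  rw [hcg, card_split hcop he1 he0' fun u => u ^ n = c]
  refine dvd_card_sigma (Nat.gcd_dvd_right _ _) (fun u => u ^ A = 1 ∧ u ^ n = c) ?_
    fun u _ => gcd_dvd_card_pow_eq_one _
  rintro u k ⟨h1, h2⟩
  rw [conj_pow, conj_pow, h1, h2, mul_one, mul_inv_cancel, mem_center_iff.1 hcen k, mul_inv_cancel_right]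
  exact ⟨rfl, rfl⟩

theorem central_case {n : ℕ} (hn : n ≠ 0) {c : G} (hcen : c ∈ center G) :
    n.gcd (Nat.card G) ∣ Nat.card {x : G // x ^ n = c} := by
  rw [Nat.dvd_iff_prime_pow_dvd_dvd]
  intro p k hp hk
  haveI := Fact.mk hp
  obtain ⟨a, o, ho, hao⟩ := Nat.exists_eq_pow_mul_and_not_dvd hn p hp.ne_one
  have han : p ^ a ∣ n := hao ▸ dvd_mul_right _ _
  have ha : ¬ p ^ (a + 1) ∣ n := fun h => ho (Nat.dvd_of_mul_dvd_mul_left (pow_pos hp.pos a)
    (by rwa [← pow_succ, ← hao]))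
  have hka : p ^ k ∣ p ^ a :=
    pow_dvd_pow p (by_contra fun h => ha ((pow_dvd_pow p (by omega)).trans (hk.trans (Nat.gcd_dvd_left _ _))))
  by_cases hc : p ∣ orderOf c
  · exact hka.trans (dvd_of_dvd_orderOf han hn ha hc)
  · exact (Nat.dvd_gcd hka (hk.trans (Nat.gcd_dvd_right _ _))).trans (dvd_of_coprime_orderOf han ha hcen hc)

theorem main {n : ℕ} (hn : n ≠ 0) (c : G) :
    Nat.gcd (Nat.card {y : G // IsConj c y} * n) (Nat.card G) ∣ Nat.card {x : G // IsConj c (x ^ n)} := by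
  classical
  have := Fintype.ofFinite G
  set C := centralizer ({c} : Set G) with hC
  have hcC : c ∈ C := mem_centralizer_singleton_iff.2 rfl
  have h1 := Invol.card_isConj_mul_card_centralizer c
  have hsig : Nat.card {x : G // IsConj c (x ^ n)} =
      Nat.card {y : G // IsConj c y} * Nat.card {x : C // x ^ n = ⟨c, hcC⟩} := by
    rw [← Nat.card_prod]
    have hy : ∀ y : {y : G // IsConj c y}, ∃ g : G, g * c * g⁻¹ = y.1 := fun y => isConj_iff.1 y.2
    choose g hg using hy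
    refine Nat.card_congr
      { toFun := fun x => ⟨⟨x.1 ^ n, x.2⟩, ⟨⟨(g ⟨x.1 ^ n, x.2⟩)⁻¹ * x.1 * g ⟨x.1 ^ n, x.2⟩, ?_⟩, ?_⟩⟩
        invFun := fun z => ⟨g z.1 * (z.2.1 : G) * (g z.1)⁻¹, ?_⟩
        left_inv := fun x => Subtype.ext (by simp [mul_assoc])
        right_inv := fun z => ?_ }
    · rw [mem_centralizer_singleton_iff]
      have e := hg ⟨x.1 ^ n, x.2⟩
      set k := g ⟨x.1 ^ n, x.2⟩
      have e' : k * c * k⁻¹ = x.1 ^ n := e
      calc k⁻¹ * x.1 * k * c = k⁻¹ * (x.1 * (k * c * k⁻¹)) * k := by group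
        _ = k⁻¹ * (k * c * k⁻¹ * x.1) * k := by rw [e', ((Commute.refl x.1).pow_right n).eq]
        _ = c * (k⁻¹ * x.1 * k) := by group
    · refine Subtype.ext ?_
      have e := hg ⟨x.1 ^ n, x.2⟩
      set k := g ⟨x.1 ^ n, x.2⟩
      rw [SubgroupClass.coe_pow]
      have h := conj_pow (a := k⁻¹) (b := x.1) (i := n)
      rw [inv_inv] at h
      show (k⁻¹ * x.1 * k) ^ n = c
      rw [h, show x.1 ^ n = k * c * k⁻¹ from e.symm]; group
    · rw [conj_pow, ← SubgroupClass.coe_pow, z.2.2]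
      exact isConj_iff.2 ⟨g z.1, rfl⟩
    · have e : (g z.1 * (z.2.1 : G) * (g z.1)⁻¹) ^ n = z.1.1 := by
        rw [conj_pow, ← SubgroupClass.coe_pow, z.2.2]; exact hg z.1
      refine Prod.ext (Subtype.ext e) (Subtype.ext (Subtype.ext ?_))
      show (g ⟨_, _⟩)⁻¹ * (g z.1 * (z.2.1 : G) * (g z.1)⁻¹) * g ⟨_, _⟩ = z.2.1
      rw [show (⟨(g z.1 * (z.2.1 : G) * (g z.1)⁻¹) ^ n, _⟩ : {y : G // IsConj c y}) = z.1 from Subtype.ext e]
      group
  rw [hsig, ← h1, Nat.gcd_mul_left]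
  exact Nat.mul_dvd_mul_left _ (central_case hn (mem_center_iff.2 fun v =>
    Subtype.ext (mem_centralizer_singleton_iff.1 v.2)))

end aux

/-- Let `G` be a finite group of order `g`, `c` an element whose conjugacy class has `h` elements, and `n` a natural number. Then the number of elements `x` of `G` with `x^n` conjugate to `c` is a multiple of `gcd(hn, g)`. -/
theorem result {G : Type*} [Group G] [Finite G] (c : G) (n : ℕ) : Nat.gcd (Nat.card {y : G // IsConj c y} * n) (Nat.card G) ∣ Nat.card {x : G // IsConj c (x ^ n)} := by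
  rcases eq_or_ne n 0 with rfl | hn
  · have h := main (n := Nat.card G) Nat.card_pos.ne' c
    simp only [pow_card_eq_one', pow_zero, mul_zero, Nat.gcd_zero_left] at h ⊢
    rwa [Nat.gcd_mul_left_left] at h
  · exact main hn c

end Cfsg.Agent.S4212
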