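import Cfsg.Statements.S4213
import Cfsg.Agent.FrobeniusCount
import Cfsg.Agent.Core.Hall
import Cfsg.Agent.Core.MinimalNormal
-- import your own Cfsg.Agent.* helpers here

set_option autoImplicit false
open Cfsg

namespace Cfsg.Agent.S4213

open Subgroup
open Cfsg.Agent.Core

universe u

theorem aux : ∀ (k : ℕ) (G : Type u) [Group G] [Finite G] [Group.IsSolvable G] (n : ℕ),
    Nat.card G = k → n ∣ Nat.card G → Nat.card {x : G // x ^ n = 1} = n →
      ∃ H : Subgroup G, H.Normal ∧ (H : Set G) = {x : G | x ^ n = 1} := by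
  intro k
  induction k using Nat.strong_induction_on with
  | _ k ih =>
  intro G _ _ _ n hk hn hcount
  have hn0 : 0 < n := Nat.pos_of_dvd_of_pos hn Nat.card_pos
  suffices ∃ H : Subgroup G, (H : Set G) = {x : G | x ^ n = 1} by
    obtain ⟨H, hH⟩ := this
    refine ⟨H, ⟨fun x hx g => ?_⟩, hH⟩
    have hx' : x ^ n = 1 := (Set.ext_iff.1 hH x).1 hx
    refine (Set.ext_iff.1 hH _).2 ?_
    show (g * x * g⁻¹) ^ n = 1
    rw [conj_pow, hx', mul_one, mul_inv_cancel]
  -- a subgroup of order `n` consisting of solutions is the solution set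
  have key : ∀ H : Subgroup G, Nat.card H = n → (H : Set G) = {x : G | x ^ n = 1} := by
    intro H hH
    have h1 : ∀ x ∈ H, x ^ n = 1 := fun x hx => by
      have := congrArg Subtype.val (pow_card_eq_one' (x := (⟨x, hx⟩ : H)))
      simpa [hH] using this
    refine Set.eq_of_subset_of_ncard_le h1 ?_ (Set.toFinite _)
    rw [← Nat.card_coe_set_eq, ← Nat.card_coe_set_eq]
    exact le_of_eq (hcount.trans hH.symm)
  rcases subsingleton_or_nontrivial G with hs | hs
  · exact ⟨⊤, Set.ext fun x => by simp [Subsingleton.elim x 1]⟩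
  obtain ⟨N, hN⟩ := exists_isMinNormal (G := G)
  have := hN.normal
  obtain ⟨p, hp, hNp, hexp⟩ := hN.exists_isPGroup
  have := Fact.mk hp
  obtain ⟨a, ha⟩ := IsPGroup.iff_card.1 hNp
  have ha0 : a ≠ 0 := fun e => hN.ne_bot (card_eq_one.1 (by rw [ha, e, pow_zero]))
  have hGN : Nat.card G = Nat.card (G ⧸ N) * Nat.card N := N.card_eq_card_quotient_mul_card_subgroup
  have hlt : Nat.card (G ⧸ N) < k := by
    have h1 : 2 ≤ Nat.card N := by rw [ha]; exact le_trans hp.two_le (Nat.le_self_pow ha0 p)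
    have h2 : 0 < Nat.card (G ⧸ N) := Nat.card_pos
    nlinarith
  set π := QuotientGroup.mk' N
  -- lifts of solutions of `q ^ m = 1`
  by_cases hpn : p ∣ n
  · -- every lift of a solution of `q ^ m = 1` solves `x ^ n = 1`
    have main : ∀ m, m ∣ Nat.card (G ⧸ N) → m * p ∣ n →
        ∃ c, Nat.card {q : G ⧸ N // q ^ m = 1} = c * m ∧ c * m * Nat.card N ≤ n := by
      intro m hm hmp
      obtain ⟨c, hc⟩ := Cfsg.Agent.FrobeniusCount.dvd_card_pow_eq_one hm
      refine ⟨c, by rw [hc, mul_comm], ?_⟩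
      rw [mul_comm c, ← hc, ← Nat.card_prod, ← hcount]
      refine Nat.card_le_card_of_injective (fun qz => ⟨qz.1.1.out * qz.2, ?_⟩) ?_
      · obtain ⟨e, he⟩ := hmp
        have hz : (qz.1.1.out * (qz.2 : G)) ^ m ∈ N := by
          rw [← QuotientGroup.eq_one_iff, QuotientGroup.mk_pow, QuotientGroup.mk_mul,
            QuotientGroup.out_eq', (QuotientGroup.eq_one_iff _).2 qz.2.2, mul_one]
          exact qz.1.2
        rw [he, pow_mul, pow_mul, hexp _ hz, one_pow]
      · rintro ⟨⟨q, hq⟩, ⟨z, hz⟩⟩ ⟨⟨q', hq'⟩, ⟨z', hz'⟩⟩ h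
        have h1 : q.out * z = q'.out * z' := congrArg Subtype.val h
        have h2 : q = q' := by
          have := congrArg (fun w : G => (w : G ⧸ N)) h1
          simpa [(QuotientGroup.eq_one_iff _).2 hz, (QuotientGroup.eq_one_iff _).2 hz'] using this
        subst h2
        simp [mul_left_cancel h1]
    obtain ⟨j, n', hn', hnj⟩ := Nat.exists_eq_pow_mul_and_not_dvd hn0.ne' p hp.ne_one
    have hj : j ≠ 0 := fun e => hn' (by simpa [e, hnj] using hpn)
    have hco : ∀ i, n'.Coprime (p ^ i) := fun i => ((hp.coprime_iff_not_dvd).2 hn').symm.pow_right i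
    have hn'G : n' ∣ Nat.card (G ⧸ N) := by
      refine (hco a).dvd_of_dvd_mul_right ?_
      rw [← ha, ← hGN]
      exact (Dvd.intro_left _ hnj.symm).trans hn
    by_cases hja : a ≤ j
    · -- `|N|` divides `n`
      have hNn : Nat.card N ∣ n := by rw [ha, hnj]; exact (pow_dvd_pow p hja).mul_right n'
      set m := n / Nat.card N with hm
      have hmN : m * Nat.card N = n := Nat.div_mul_cancel hNn
      have hmG : m ∣ Nat.card (G ⧸ N) :=
        Nat.dvd_of_mul_dvd_mul_right Nat.card_pos (hmN ▸ hGN ▸ hn)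
      obtain ⟨c, hc, hle⟩ := main m hmG
        ((Nat.mul_dvd_mul_left m (ha ▸ dvd_pow_self p ha0)).trans (dvd_of_eq hmN))
      have hm0 : 0 < m := Nat.pos_of_ne_zero fun e => by rw [e, zero_mul] at hmN; omega
      have hc1 : c = 1 := by
        have h1 : c ≠ 0 := fun e => by
          rw [e, zero_mul, Nat.card_eq_zero] at hc
          rcases hc with hc | hc
          · exact hc.elim ⟨1, one_pow m⟩
          · exact not_finite {q : G ⧸ N // q ^ m = 1}
        rw [mul_assoc, hmN] at hle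
        have := Nat.le_of_mul_le_mul_right (hle.trans (one_mul n).ge) hn0
        omega
      rw [hc1, one_mul] at hc
      obtain ⟨H, -, hH⟩ := ih _ hlt (G ⧸ N) m rfl hmG hc
      refine ⟨H.comap π, key _ ?_⟩
      rw [card_comap_mk, ← hmN, mul_comm]
      congr 1
      rw [← hc]
      exact Nat.card_congr (Equiv.setCongr hH)
    · exfalso
      obtain ⟨c, hc, hle⟩ := main n' hn'G
        (by rw [hnj, mul_comm]; exact Nat.mul_dvd_mul_right (dvd_pow_self p hj) n')
      have h1 : 0 < c * n' := hc ▸ Nat.card_pos_iff.2 ⟨⟨⟨1, one_pow n'⟩⟩, inferInstance⟩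
      have hc0 : 0 < c := Nat.pos_of_mul_pos_right h1
      have hn'0 : 0 < n' := Nat.pos_of_mul_pos_left h1
      have h2 : p ^ j < p ^ a := Nat.pow_lt_pow_right hp.one_lt (by omega)
      rw [ha, hnj] at hle
      have h3 : n' * p ^ a ≤ c * n' * p ^ a :=
        Nat.mul_le_mul_right _ (Nat.le_mul_of_pos_left n' hc0)
      nlinarith
  · -- `n` prime to `|N|`
    have hcop : n.Coprime (Nat.card N) := by
      rw [ha]; exact ((hp.coprime_iff_not_dvd).2 hpn).symm.pow_right a
    have hnG : n ∣ Nat.card (G ⧸ N) := hcop.dvd_of_dvd_mul_right (hGN ▸ hn)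
    obtain ⟨e, he0, he1⟩ := Nat.chineseRemainder hcop.symm 0 1
    obtain ⟨d, hd⟩ := Nat.modEq_zero_iff_dvd.1 he0
    have hsurj : Nat.card {q : G ⧸ N // q ^ n = 1} ≤ n := by
      conv_rhs => rw [← hcount]
      refine Nat.card_le_card_of_surjective (fun x => ⟨(x.1 : G ⧸ N), by
        rw [← QuotientGroup.mk_pow, x.2, QuotientGroup.mk_one]⟩) ?_
      rintro ⟨q, hq⟩
      obtain ⟨v, rfl⟩ := QuotientGroup.mk_surjective q
      have hv : v ^ n ∈ N := by rwa [← QuotientGroup.eq_one_iff, QuotientGroup.mk_pow]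
      refine ⟨⟨v ^ e, ?_⟩, Subtype.ext ?_⟩
      · rw [← pow_mul, mul_comm, pow_mul, hd, pow_mul]
        have h1 : (v ^ n) ^ Nat.card N = 1 :=
          congrArg Subtype.val (pow_card_eq_one' (x := (⟨v ^ n, hv⟩ : N)))
        rw [h1, one_pow]
      · show ((v ^ e : G) : G ⧸ N) = (v : G ⧸ N)
        rw [QuotientGroup.mk_pow]
        conv_rhs => rw [← pow_one (v : G ⧸ N)]
        exact pow_eq_pow_iff_modEq.2 (he1.of_dvd (orderOf_dvd_of_pow_eq_one hq))
    have hc : Nat.card {q : G ⧸ N // q ^ n = 1} = n :=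
      le_antisymm hsurj (Nat.le_of_dvd (Nat.card_pos_iff.2 ⟨⟨⟨1, one_pow n⟩⟩, inferInstance⟩)
        (Cfsg.Agent.FrobeniusCount.dvd_card_pow_eq_one hnG))
    obtain ⟨H, -, hH⟩ := ih _ hlt (G ⧸ N) n rfl hnG hc
    have hHc : Nat.card H = n := (Nat.card_congr (Equiv.setCongr hH)).trans hc
    obtain ⟨C, hC⟩ := exists_hall (G := H.comap π) (m := n) (n := Nat.card N)
      (by rw [card_comap_mk, hHc, mul_comm]) hcop
    refine ⟨C.map (H.comap π).subtype, key _ ?_⟩
    rw [card_map_of_injective (H.comap π).subtype_injective, hC]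


/-- If `G` is a finite solvable group and `n` divides the order of `G` and exactly `n` elements `x` of `G` satisfy `x^n = 1`, then these elements form a normal subgroup. -/
theorem result {G : Type*} [Group G] [Finite G] [Group.IsSolvable G] (n : ℕ) (hn : n ∣ Nat.card G) (hcount : Nat.card {x : G // x ^ n = 1} = n) : ∃ H : Subgroup G, H.Normal ∧ (H : Set G) = {x : G | x ^ n = 1} := by
  exact aux _ G n rfl hn hcount

end Cfsg.Agent.S4213
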