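import Cfsg.Statements.S4214
import Cfsg.Agent.Core.Hall
import Cfsg.Agent.Core.MinimalNormal
import Cfsg.Agent.Core.Frattini
import Cfsg.Agent.Coprime.Tools

set_option autoImplicit false
open Cfsg

namespace Cfsg.Agent.S4214

open Subgroup
open scoped Pointwise commutatorElement
open Cfsg.Agent.Core
open Cfsg.Agent.Coprime (card_conj_smul conj_smul_eq_self_of_mem_normalizer
  mem_normalizer_of_conj_smul_eq conj_smul_le_self conj_mul_smul conj_mem_conj_smul mem_conj_smul)

universe u

/-- `r` is a prime power congruent to `1` modulo a prime divisor of `m` and dividing `d`. -/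
def Good (m d r : ℕ) : Prop :=
  (∃ q e : ℕ, q.Prime ∧ r = q ^ e) ∧ r ∣ d ∧ ∃ q : ℕ, q.Prime ∧ q ∣ m ∧ r ≡ 1 [MOD q]

theorem relIndex_centralizer_good {G : Type u} [Group G] [Finite G] [Group.IsSolvable G]
    {p a : ℕ} (hp : p.Prime) {N : Subgroup G} [N.Normal] (hN : Nat.card N = p ^ a) :
    ∀ (c : ℕ) (H : Subgroup G), Nat.card H = c → ¬ p ∣ c → ∃ l : List ℕ,
      (N ⊓ centralizer (H : Set G)).relIndex N = l.prod ∧ ∀ r ∈ l, Good c (Nat.card N) r := by
  intro c
  induction c using Nat.strong_induction_on with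
  | _ c ih =>
  intro H hH hpc
  by_cases hbot : H = ⊥
  · refine ⟨[], ?_, by simp⟩
    rw [List.prod_nil, relIndex_eq_one, hbot]
    refine le_inf le_rfl fun x _ => ?_
    rw [mem_centralizer_iff]
    rintro h hh
    rw [SetLike.mem_coe, mem_bot] at hh
    simp [hh]
  have : Nontrivial H := (nontrivial_iff_ne_bot H).2 hbot
  obtain ⟨D₀, hD₀, hle⟩ := (eq_top_or_exists_le_coatom (commutator H)).resolve_left
    (Group.IsSolvable.commutator_lt_top_of_nontrivial H).ne
  have hD₀n : D₀.Normal := ⟨fun d hd g => by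
    have h1 := mul_mem (hle (commutator_mem_commutator (mem_top g) (mem_top d))) hd
    simpa [commutatorElement_def, mul_assoc] using h1⟩
  have hq := prime_index_of_isCoatom_normal hD₀
  set q := D₀.index with hqdef
  have := Fact.mk hq
  set D := D₀.map H.subtype
  have hDc : Nat.card D * q = c := by
    rw [← hH, card_map_of_injective H.subtype_injective, hqdef, D₀.card_mul_index]
  have hDlt : Nat.card D < c := by
    have := hq.two_le
    have : 0 < Nat.card D := Nat.card_pos
    nlinarith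
  obtain ⟨l, hl, hgood⟩ := ih _ hDlt D rfl fun hd => hpc (hd.trans (Dvd.intro _ hDc))
  have hqp : q ≠ p := fun e => hpc (e ▸ Dvd.intro_left _ hDc)
  obtain ⟨Q⟩ : Nonempty (Sylow q H) := inferInstance
  have hgen : D₀ ⊔ Q = ⊤ := by
    refine (hD₀.le_iff.1 le_sup_left).resolve_right fun e => ?_
    have h1 : (Q : Subgroup H) ≤ D₀ := e ▸ le_sup_right
    exact Q.not_dvd_index (index_dvd_of_le h1)
  set Q' := (Q : Subgroup H).map H.subtype
  have hQH : Q' ≤ H := map_subtype_le _
  set C := N ⊓ centralizer (D : Set G)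
  set C' := N ⊓ centralizer (H : Set G)
  have hC'C : C' ≤ C := inf_le_inf_left _ (centralizer_le (map_subtype_le D₀))
  have hinv : ∀ h ∈ H, ∀ z ∈ C, h * z * h⁻¹ ∈ C := by
    rintro h hh z ⟨hz1, hz2⟩
    refine mem_inf.2 ⟨Normal.conj_mem inferInstance _ hz1 h, ?_⟩
    rw [mem_centralizer_iff]
    rintro - ⟨d, hd, rfl⟩
    have h1 := (mem_centralizer_iff.1 hz2) _
      (mem_map_of_mem H.subtype (hD₀n.conj_mem' d hd ⟨h, hh⟩))
    simp only [H.coe_subtype, coe_mul, coe_inv] at h1 ⊢
    calc (d : G) * (h * z * h⁻¹) = h * (h⁻¹ * d * h * z) * h⁻¹ := by group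
      _ = h * (z * (h⁻¹ * d * h)) * h⁻¹ := by rw [h1]
      _ = _ := by group
  let act : MulAction Q' C :=
    { smul := fun g z => ⟨g * z * (g : G)⁻¹, hinv _ (hQH g.2) z z.2⟩
      one_smul := fun z => Subtype.ext (show (1 : G) * z * (1 : G)⁻¹ = z by simp)
      mul_smul := fun g k z => Subtype.ext (show (g * k : G) * z * (g * k : G)⁻¹ =
        g * (k * z * (k : G)⁻¹) * (g : G)⁻¹ by group) }
  have hfix : ∀ z : C, z ∈ MulAction.fixedPoints Q' C ↔ (z : G) ∈ C' := by
    intro z
    constructor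
    · intro hz
      refine mem_inf.2 ⟨z.2.1, ?_⟩
      rw [mem_centralizer_iff]
      intro h hh
      have h1 : D₀ ⊔ (Q : Subgroup H) ≤ (centralizer ({(z : G)} : Set G)).comap H.subtype := by
        refine sup_le (fun d hd => ?_) (fun g hg => ?_)
        · exact mem_centralizer_singleton_iff.2
            (mem_centralizer_iff.1 z.2.2 _ (mem_map_of_mem H.subtype hd))
        · refine mem_centralizer_singleton_iff.2 ?_
          exact mul_inv_eq_iff_eq_mul.1 (congrArg Subtype.val
            (hz ⟨g, mem_map_of_mem H.subtype hg⟩))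
      rw [hgen] at h1
      exact mem_centralizer_singleton_iff.1 (h1 (mem_top ⟨h, hh⟩))
    · intro hz g
      exact Subtype.ext (show (g : G) * z * (g : G)⁻¹ = z by
        rw [mem_centralizer_iff.1 hz.2 _ (hQH g.2), mul_inv_cancel_right])
  have hcong := (Q.2.map H.subtype).card_modEq_card_fixedPoints C
  have hfc : Nat.card (MulAction.fixedPoints Q' C) = Nat.card C' := Nat.card_congr
    { toFun := fun z => ⟨z.1.1, (hfix z.1).1 z.2⟩
      invFun := fun z => ⟨⟨z.1, hC'C z.2⟩, (hfix _).2 z.2⟩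
      left_inv := fun z => rfl
      right_inv := fun z => rfl }
  rw [hfc] at hcong
  set r := C'.relIndex C with hr
  have hCr : Nat.card C = r * Nat.card C' := by
    rw [hr, ← relIndex_bot_left (H := C), ← relIndex_mul_relIndex ⊥ C' C bot_le hC'C,
      relIndex_bot_left, mul_comm]
  have hCN : Nat.card C ∣ Nat.card N := card_dvd_of_le inf_le_left
  have hC'N : Nat.card C' ∣ Nat.card N := card_dvd_of_le inf_le_left
  have hrN : r ∣ Nat.card N := (Dvd.intro _ hCr.symm).trans hCN
  have hrmod : r ≡ 1 [MOD q] := by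
    refine Nat.ModEq.cancel_right_of_coprime (c := Nat.card C') ?_ ?_
    · show Nat.gcd q (Nat.card C') = 1
      refine Nat.Coprime.coprime_dvd_right (hN ▸ hC'N) ?_
      exact ((Nat.coprime_primes hq hp).2 hqp).pow_right a
    · rw [one_mul, ← hCr]
      exact hcong
  refine ⟨r :: l, ?_, fun s hs => ?_⟩
  · rw [List.prod_cons, ← hl, hr, relIndex_mul_relIndex C' C N hC'C inf_le_left]
  · rcases List.mem_cons.1 hs with rfl | hs
    · obtain ⟨e, -, he⟩ := (Nat.dvd_prime_pow hp).1 (hN ▸ hrN)
      exact ⟨⟨p, e, hp, he⟩, hrN, q, hq, Dvd.intro_left _ hDc, hrmod⟩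
    · obtain ⟨h1, h2, q', h3, h4, h5⟩ := hgood s hs
      exact ⟨h1, h2, q', h3, h4.trans (Dvd.intro _ hDc), h5⟩

theorem card_hall_eq_index {G : Type u} [Group G] [Finite G] [Group.IsSolvable G] {m n : ℕ}
    (hG : Nat.card G = m * n) (hmn : m.Coprime n) {H : Subgroup G} (hH : Nat.card H = m) :
    Nat.card {K : Subgroup G // Nat.card K = m} = (normalizer (H : Set G)).index := by
  rw [index_eq_card]
  refine (Nat.card_eq_of_bijective (fun x => ⟨MulAut.conj x.out • H,
    (card_conj_smul _ H).trans hH⟩) ⟨?_, ?_⟩).symm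
  · intro x y hxy
    have h1 : MulAut.conj x.out • H = MulAut.conj y.out • H := congrArg Subtype.val hxy
    rw [← x.out_eq', ← y.out_eq', QuotientGroup.eq]
    refine mem_normalizer_of_conj_smul_eq ?_
    rw [conj_mul_smul, ← h1, ← conj_mul_smul, inv_mul_cancel, map_one, one_smul]
  · rintro ⟨K, hK⟩
    obtain ⟨g, hg⟩ := exists_conj_hall hG hmn hH hK
    obtain ⟨x, hx⟩ := QuotientGroup.mk_out_eq_mul (normalizer (H : Set G)) g
    refine ⟨QuotientGroup.mk g, Subtype.ext ?_⟩
    show MulAut.conj (QuotientGroup.mk g : G ⧸ _).out • H = K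
    rw [hx, conj_mul_smul, conj_smul_eq_self_of_mem_normalizer x.2, hg]

/-- `d` divides the order of a chief factor of `G`. -/
def DvdChief (G : Type u) [Group G] (d : ℕ) : Prop :=
  ∃ K L : Subgroup G, K.Normal ∧ L.Normal ∧ K < L ∧
    (∀ M : Subgroup G, M.Normal → K ≤ M → M ≤ L → M = K ∨ M = L) ∧ d ∣ K.relIndex L

theorem dvdChief_of_quotient {G : Type u} [Group G] {N : Subgroup G} [N.Normal] {d : ℕ}
    (h : DvdChief (G ⧸ N) d) : DvdChief G d := by
  obtain ⟨K, L, hK, hL, hKL, hmin, hd⟩ := h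
  have hπ := QuotientGroup.mk'_surjective N
  set π := QuotientGroup.mk' N
  refine ⟨K.comap π, L.comap π, hK.comap π, hL.comap π, ?_, fun M hM h1 h2 => ?_, ?_⟩
  · exact lt_of_le_of_ne (comap_mono hKL.le) fun e => hKL.ne (comap_injective hπ e)
  · have hk : π.ker ≤ M := le_trans (MonoidHom.comap_bot π ▸ comap_mono bot_le) h1
    rcases hmin (M.map π) (hM.map π hπ)
      (by rw [← map_comap_eq_self_of_surjective hπ K]; exact map_mono h1)
      (by rw [← map_comap_eq_self_of_surjective hπ L]; exact map_mono h2) with e | e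
    · exact Or.inl (by rw [← comap_map_eq_self hk, e])
    · exact Or.inr (by rw [← comap_map_eq_self hk, e])
  · rwa [relIndex_comap, map_comap_eq_self_of_surjective hπ]

theorem card_hall_factor : ∀ (k : ℕ) (G : Type u) [Group G] [Finite G] [Group.IsSolvable G]
    (m n : ℕ), Nat.card G = k → Nat.card G = m * n → m.Coprime n → ∃ l : List ℕ,
      Nat.card {H : Subgroup G // Nat.card H = m} = l.prod ∧ ∀ r ∈ l,
        (∃ q e : ℕ, q.Prime ∧ r = q ^ e) ∧ DvdChief G r ∧
          ∃ q : ℕ, q.Prime ∧ q ∣ m ∧ r ≡ 1 [MOD q] := by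
  intro k
  induction k using Nat.strong_induction_on with
  | _ k ih =>
  intro G _ _ _ m n hk hG hmn
  obtain ⟨H, hH⟩ := exists_hall hG hmn
  rw [card_hall_eq_index hG hmn hH]
  rcases subsingleton_or_nontrivial G with hs | hs
  · refine ⟨[], ?_, by simp⟩
    rw [List.prod_nil, index_eq_one]
    exact Subsingleton.elim _ _
  obtain ⟨N, hN⟩ := exists_isMinNormal (G := G)
  have := hN.normal
  obtain ⟨p, hp, hNp, -⟩ := hN.exists_isPGroup
  have := Fact.mk hp
  obtain ⟨a, ha⟩ := IsPGroup.iff_card.1 hNp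
  have ha0 : a ≠ 0 := fun e => hN.ne_bot (card_eq_one.1 (by rw [ha, e, pow_zero]))
  have hchief : DvdChief G (Nat.card N) := ⟨⊥, N, inferInstance, inferInstance,
    bot_lt_iff_ne_bot.2 hN.ne_bot, fun M hM _ hle => hN.eq_of_le M hM hle,
    by rw [relIndex_bot_left]⟩
  set π := QuotientGroup.mk' N
  set Hb := H.map π
  set L := Hb.comap π with hLdef
  have hHL : H ≤ L := le_comap_map π H
  have hNL : N ≤ L := fun x hx => by
    rw [hLdef, mem_comap, show π x = 1 from (QuotientGroup.eq_one_iff x).2 hx]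
    exact one_mem _
  -- the normalizer of the image
  have hnorm : (normalizer (Hb : Set (G ⧸ N))).comap π = N ⊔ normalizer (H : Set G) := by
    refine le_antisymm (fun g hg => ?_) (sup_le (fun x hx => ?_) fun g hg => ?_)
    · have hgL : g ∈ normalizer (L : Set G) := by
        rw [mem_comap, mem_normalizer_iff] at hg
        rw [mem_normalizer_iff]
        intro h
        simp only [hLdef, mem_comap, map_mul, map_inv]
        exact hg (π h)
      have hle : MulAut.conj g • H ≤ L := conj_smul_le_self hgL hHL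
      have hdvd : m ∣ Nat.card L := hH ▸ card_dvd_of_le hHL
      have hLc : Nat.card L = m * (Nat.card L / m) := (Nat.mul_div_cancel' hdvd).symm
      have hco : m.Coprime (Nat.card L / m) := by
        have hm0 : 0 < m := hH ▸ Nat.card_pos
        refine Nat.Coprime.coprime_dvd_right (Nat.dvd_of_mul_dvd_mul_left hm0 ?_) hmn
        rw [Nat.mul_div_cancel' hdvd, ← hG]
        exact L.card_subgroup_dvd_card
      have h1 : ∀ K : Subgroup G, K ≤ L → Nat.card (K.subgroupOf L) = Nat.card K :=
        fun K hK => Nat.card_congr (subgroupOfEquivOfLe hK).toEquiv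
      obtain ⟨l, hl⟩ := exists_conj_hall (G := L) hLc hco
        (H := (MulAut.conj g • H : Subgroup G).subgroupOf L) (K := H.subgroupOf L)
        (by rw [h1 _ hle, card_conj_smul, hH]) (by rw [h1 _ hHL, hH])
      have h := congrArg (Subgroup.map L.subtype) hl
      rw [Coprime.map_conj_smul, map_subgroupOf_eq_of_le hle, map_subgroupOf_eq_of_le hHL,
        ← mul_smul, ← map_mul] at h
      have h2 : L ≤ N ⊔ normalizer (H : Set G) := by
        rw [hLdef, comap_map_eq, QuotientGroup.ker_mk', sup_comm]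
        exact sup_le_sup_left le_normalizer _
      rw [← inv_mul_cancel_left (l : G) g]
      exact mul_mem (inv_mem (h2 l.2)) (mem_sup_right (mem_normalizer_of_conj_smul_eq h))
    · rw [mem_comap, show π x = 1 from (QuotientGroup.eq_one_iff x).2 hx]
      exact one_mem _
    · rw [mem_comap]
      refine mem_normalizer_of_conj_smul_eq (eq_of_le_of_card_ge ?_ (card_conj_smul _ _).ge)
      intro y hy
      rw [mem_conj_smul] at hy
      obtain ⟨h, hh, he⟩ := hy
      refine ⟨g * h * g⁻¹, (mem_normalizer_iff.1 hg h).1 hh, ?_⟩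
      rw [map_mul, map_mul, map_inv, he]
      group
  set T := normalizer (H : Set G)
  have hrel : T.relIndex (N ⊔ T) = T.relIndex N := by
    have h1 : Nat.card T * T.relIndex (N ⊔ T) = Nat.card (N ⊔ T : Subgroup G) := by
      rw [← relIndex_bot_left (H := T), relIndex_mul_relIndex ⊥ T _ bot_le le_sup_right,
        relIndex_bot_left]
    have h2 : Nat.card N * N.relIndex T = Nat.card (N ⊔ T : Subgroup G) := by
      rw [← relIndex_sup_left (K := N) (H := T), ← relIndex_bot_left (H := N),
        relIndex_mul_relIndex ⊥ N _ bot_le le_sup_left, relIndex_bot_left]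
    have h3 : Nat.card (N ⊓ T : Subgroup G) * N.relIndex T = Nat.card T := by
      rw [← inf_relIndex_right (H := N) (K := T), ← relIndex_bot_left (H := N ⊓ T),
        relIndex_mul_relIndex ⊥ _ _ bot_le inf_le_right, relIndex_bot_left]
    have h4 : Nat.card (N ⊓ T : Subgroup G) * T.relIndex N = Nat.card N := by
      rw [← inf_relIndex_left (H := N) (K := T), ← relIndex_bot_left (H := N ⊓ T),
        relIndex_mul_relIndex ⊥ _ _ bot_le inf_le_left, relIndex_bot_left]
    refine Nat.eq_of_mul_eq_mul_left (Nat.card_pos (α := T)) ?_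
    rw [h1, ← h2, ← h4, ← h3]
    ring
  have hcount : T.index = (normalizer (Hb : Set (G ⧸ N))).index * T.relIndex N := by
    rw [← index_comap_of_surjective (f := π) _ (QuotientGroup.mk'_surjective N), hnorm,
      ← relIndex_mul_index (le_sup_right : T ≤ N ⊔ T), hrel, mul_comm]
  have hGN : Nat.card G = Nat.card (G ⧸ N) * Nat.card N := N.card_eq_card_quotient_mul_card_subgroup
  have hlt : Nat.card (G ⧸ N) < k := by
    have h1 : 2 ≤ Nat.card N := by
      rw [ha]; exact le_trans hp.two_le (Nat.le_self_pow ha0 p)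
    have h2 : 0 < Nat.card (G ⧸ N) := Nat.card_pos
    nlinarith
  have hHb := card_map_mk_mul N H
  by_cases hpm : p ∣ m
  · -- `N ≤ H`
    have hpn : p.Coprime n := (hp.coprime_iff_not_dvd).2 fun hd =>
      hp.one_lt.ne' (Nat.eq_one_of_dvd_coprimes hmn hpm hd)
    obtain ⟨g, hg⟩ := exists_le_conj_hall hG hmn hH (K := N) (ha ▸ hpn.pow_left a)
    have hNH : N ≤ H := fun x hx => by
      have h1 := mem_conj_smul.1 (hg (Normal.conj_mem inferInstance x hx g))
      simpa [mul_assoc] using h1
    rw [inf_eq_right.2 hNH, hH] at hHb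
    have hG' : Nat.card (G ⧸ N) = Nat.card Hb * n :=
      Nat.eq_of_mul_eq_mul_right (Nat.card_pos (α := N))
        (by rw [← hGN, hG, ← hHb]; ring)
    have hmn' : (Nat.card Hb).Coprime n := hmn.coprime_dvd_left (Dvd.intro _ hHb)
    obtain ⟨l, hl, hgood⟩ := ih _ hlt (G ⧸ N) _ n rfl hG' hmn'
    rw [card_hall_eq_index hG' hmn' rfl] at hl
    refine ⟨l, ?_, fun r hr => ?_⟩
    · rw [hcount, relIndex_eq_one.2 (hNH.trans le_normalizer), mul_one, hl]
    · obtain ⟨h1, h2, q, h3, h4, h5⟩ := hgood r hr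
      exact ⟨h1, dvdChief_of_quotient h2, q, h3, h4.trans (Dvd.intro _ hHb), h5⟩
  · have hcop : (Nat.card H).Coprime (Nat.card N) := by
      rw [hH, ha]
      exact ((hp.coprime_iff_not_dvd).2 hpm).symm.pow_right a
    have hbot := Coprime.inf_eq_bot_of_coprime hcop
    rw [hbot, card_bot, mul_one, hH] at hHb
    have hNn : Nat.card N ∣ n := by
      refine Nat.Coprime.dvd_of_dvd_mul_left (hH ▸ hcop.symm) (?_ : Nat.card N ∣ m * n)
      exact hG ▸ N.card_subgroup_dvd_card
    have hG' : Nat.card (G ⧸ N) = m * (n / Nat.card N) :=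
      Nat.eq_of_mul_eq_mul_right (Nat.card_pos (α := N))
        (by rw [← hGN, hG, mul_assoc, Nat.div_mul_cancel hNn])
    have hmn' : m.Coprime (n / Nat.card N) :=
      hmn.coprime_dvd_right (Nat.div_dvd_of_dvd hNn)
    obtain ⟨l, hl, hgood⟩ := ih _ hlt (G ⧸ N) _ _ rfl hG' hmn'
    rw [card_hall_eq_index hG' hmn' hHb] at hl
    obtain ⟨l', hl', hgood'⟩ := relIndex_centralizer_good hp ha m H hH hpm
    have hNT : N ⊓ T = N ⊓ centralizer (H : Set G) := by
      refine le_antisymm (fun x hx => mem_inf.2 ⟨hx.1, ?_⟩) fun x hx => mem_inf.2 ⟨hx.1, ?_⟩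
      · rw [mem_centralizer_iff]
        intro h hh
        have h1 : ⁅x, h⁆ ∈ H ⊓ N := mem_inf.2 ⟨mul_mem ((mem_normalizer_iff.1 hx.2 h).1 hh) (inv_mem hh), by
          rw [show ⁅x, h⁆ = x * (h * x⁻¹ * h⁻¹) by
            rw [commutatorElement_def]; group]
          exact mul_mem hx.1 (Normal.conj_mem inferInstance _ (inv_mem hx.1) h)⟩
        rw [hbot, mem_bot, commutatorElement_eq_one_iff_mul_comm] at h1
        exact h1.symm
      · refine mem_normalizer_of_conj_smul_eq (eq_of_le_of_card_ge ?_ (card_conj_smul _ _).ge)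
        intro y hy
        rw [mem_conj_smul] at hy
        have h1 := mem_centralizer_iff.1 hx.2 _ hy
        have h2 : y = x⁻¹ * y * x := mul_right_cancel (b := x) (by rw [h1]; group)
        exact h2 ▸ hy
    refine ⟨l ++ l', ?_, fun r hr => ?_⟩
    · rw [hcount, List.prod_append, ← hl, ← hl', ← hNT, inf_comm, inf_relIndex_right]
    · rcases List.mem_append.1 hr with hr | hr
      · obtain ⟨h1, h2, h3⟩ := hgood r hr
        exact ⟨h1, dvdChief_of_quotient h2, h3⟩
      · obtain ⟨h1, h2, h3⟩ := hgood' r hr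
        obtain ⟨K, L', hK, hL', hlt', hmin, hd⟩ := hchief
        exact ⟨h1, ⟨K, L', hK, hL', hlt', hmin, h2.trans hd⟩, h3⟩

/-- Let `G` be a finite solvable group of order `mn` with `gcd(m, n) = 1`. Then the number of subgroups of order `m` is a product of natural numbers each of which is a power of a prime, divides the order of some chief factor of `G` (a quotient `L/K` of normal subgroups `K < L` of `G` with no normal subgroup of `G` strictly between them), and is congruent to `1` modulo some prime divisor of `m`. -/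
theorem result {G : Type*} [Group G] [Finite G] [Group.IsSolvable G] (m n : ℕ) (hG : Nat.card G = m * n) (hmn : Nat.Coprime m n) : ∃ (k : ℕ) (f : Fin k → ℕ), Nat.card {H : Subgroup G // Nat.card H = m} = ∏ i, f i ∧ ∀ i, (∃ q e : ℕ, q.Prime ∧ f i = q ^ e) ∧ (∃ K L : Subgroup G, K.Normal ∧ L.Normal ∧ K < L ∧ (∀ M : Subgroup G, M.Normal → K ≤ M → M ≤ L → M = K ∨ M = L) ∧ f i ∣ K.relIndex L) ∧ (∃ q : ℕ, q.Prime ∧ q ∣ m ∧ f i ≡ 1 [MOD q]) := by
  obtain ⟨l, hl, hgood⟩ := card_hall_factor _ G m n rfl hG hmn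
  refine ⟨l.length, fun i => l[i.1], ?_, fun i => hgood _ (List.getElem_mem i.2)⟩
  rw [hl, Fin.prod_univ_getElem]

end Cfsg.Agent.S4214
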