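import Cfsg.Statements.S4216
-- import your own Cfsg.Agent.* helpers here

set_option autoImplicit false
open Cfsg
open scoped commutatorElement IsMulCommutative

namespace Cfsg.Agent.S4216

/-- Grün's first Theorem: if `P` is a Sylow `p`-subgroup of the finite group `G`, then `P ∩ G'` is the subgroup generated by `P ∩ N_G(P)'` together with the subgroups `P ∩ z P' z⁻¹` for all `z ∈ G`, where `'` denotes the derived subgroup and `N_G(P)` the normalizer of `P`. -/
theorem result {G : Type*} [Group G] [Finite G] {p : ℕ} [Fact p.Prime] (P : Sylow p G) : (P : Subgroup G) ⊓ commutator G = ((P : Subgroup G) ⊓ ⁅Subgroup.normalizer ((P : Subgroup G) : Set G), Subgroup.normalizer ((P : Subgroup G) : Set G)⁆) ⊔ ⨆ z : G, (P : Subgroup G) ⊓ (⁅(P : Subgroup G), (P : Subgroup G)⁆).map (MulAut.conj z).toMonoidHom := by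
  classical
  set N : Subgroup G := Subgroup.normalizer ((P : Subgroup G) : Set G) with hN
  set T : Subgroup G := ((P : Subgroup G) ⊓ ⁅N, N⁆) ⊔
    ⨆ z : G, (P : Subgroup G) ⊓ (⁅(P : Subgroup G), (P : Subgroup G)⁆).map (MulAut.conj z).toMonoidHom with hT
  have hz : ∀ z : G, ∀ c ∈ ⁅(P : Subgroup G), (P : Subgroup G)⁆, z * c * z⁻¹ ∈ (P : Subgroup G) → z * c * z⁻¹ ∈ T :=
    fun z c hc hP => Subgroup.mem_sup_right (Subgroup.mem_iSup_of_mem z ⟨hP, c, hc, rfl⟩)
  have hPP : ⁅(P : Subgroup G), (P : Subgroup G)⁆ ≤ (P : Subgroup G) := Subgroup.commutator_le_self _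
  have hTP : T ≤ (P : Subgroup G) := sup_le inf_le_left (iSup_le fun _ => inf_le_left)
  refine le_antisymm ?_ (le_inf hTP (sup_le (inf_le_right.trans (Subgroup.commutator_mono le_top le_top))
    (iSup_le fun z => inf_le_right.trans ?_)))
  swap
  · refine (Subgroup.map_mono (Subgroup.commutator_mono le_top le_top)).trans (le_of_eq ?_)
    exact Subgroup.mem_normalizer_iff_map_conj_eq.mp
      (Subgroup.le_normalizer_of_normal (K := ⊤) (H := commutator G) (Subgroup.mem_top z))
  set T' : Subgroup (P : Subgroup G) := T.subgroupOf (P : Subgroup G) with hT'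
  have hcomm : commutator (P : Subgroup G) ≤ T' := by
    intro x hx
    have h1 : (x : G) ∈ ⁅(P : Subgroup G), (P : Subgroup G)⁆ := by
      rw [← Subgroup.map_subtype_commutator]; exact ⟨x, hx, rfl⟩
    refine Subgroup.mem_subgroupOf.mpr ?_
    have := hz 1 _ h1 (by simpa using x.2)
    simpa using this
  have : T'.Normal := Subgroup.Normal.of_commutator_le (G := (P : Subgroup G)) hcomm
  have : IsMulCommutative ((P : Subgroup G) ⧸ T') := Subgroup.Normal.quotient_commutative_iff_commutator_le.mpr hcomm
  set φ : (P : Subgroup G) →* (P : Subgroup G) ⧸ T' := QuotientGroup.mk' T' with hφdef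
  have hφ1 : ∀ y : (P : Subgroup G), φ y = 1 ↔ (y : G) ∈ T := fun y => by
    rw [hφdef, QuotientGroup.mk'_apply, QuotientGroup.eq_one_iff]; exact Subgroup.mem_subgroupOf
  intro u hu
  obtain ⟨huP, huC⟩ := hu
  induction hm : orderOf u using Nat.strong_induction_on generalizing u with
  | _ m ih =>
    subst hm
    rcases eq_or_ne u 1 with rfl | hu1
    · exact T.one_mem
    obtain ⟨e, he⟩ := P.2.exists_orderOf_eq_pow ⟨u, huP⟩
    rw [Subgroup.orderOf_mk] at he
    -- conjugates of proper powers are killed
    have hsmall : ∀ (g : G) (k : ℕ), 1 < k → k ∣ orderOf u → ∀ h : g⁻¹ * u ^ k * g ∈ (P : Subgroup G),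
        φ ⟨_, h⟩ = 1 := by
      intro g k hk hkd h
      rw [hφ1]
      refine ih _ ?_ h ?_ rfl
      · have : orderOf (g⁻¹ * u ^ k * g) = orderOf (u ^ k) := by
          simpa using (MulEquiv.orderOf_eq (MulAut.conj g⁻¹) (u ^ k))
        rw [this, orderOf_pow' u (by omega), Nat.gcd_eq_right hkd]
        exact Nat.div_lt_self (orderOf_pos u) hk
      · have : (commutator G).Normal := inferInstance
        simpa using this.conj_mem _ (Subgroup.pow_mem _ huC k) g⁻¹
    have := Fintype.ofFinite (G ⧸ (P : Subgroup G))
    have := Fintype.ofFinite (Quotient (MulAction.orbitRel (Subgroup.zpowers u) (G ⧸ (P : Subgroup G))))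
    let F : Finset (G ⧸ (P : Subgroup G)) := Finset.univ.filter fun q => u • q = q
    have hmem : ∀ q ∈ F, q.out⁻¹ * u * q.out ∈ (P : Subgroup G) := by
      intro q hq
      have h := (Finset.mem_filter.mp hq).2
      rw [← QuotientGroup.out_eq' q, MulAction.Quotient.smul_coe, QuotientGroup.eq, smul_eq_mul] at h
      have := Subgroup.inv_mem _ h
      simpa [mul_assoc] using this
    let w : G ⧸ (P : Subgroup G) → (P : Subgroup G) ⧸ T' := fun q =>
      if hq : q ∈ F then φ ⟨_, hmem q hq⟩ else 1
    have hV : MonoidHom.transfer φ u = ∏ q ∈ F, w q := by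
      rw [MonoidHom.transfer_eq_prod_quotient_orbitRel_zpowers_quot]
      refine Finset.prod_bij_ne_one (fun o _ _ => o.out) ?_ ?_ ?_ ?_
      · intro o _ ho
        refine Finset.mem_filter.mpr ⟨Finset.mem_univ _, ?_⟩
        by_contra hne
        have h1 : Function.minimalPeriod (u • ·) o.out ≠ 1 :=
          fun h1 => hne (Function.minimalPeriod_eq_one_iff_isFixedPt.mp h1)
        have h2 : Function.minimalPeriod (u • ·) o.out ∣ orderOf u := by
          rw [← Function.isPeriodicPt_iff_minimalPeriod_dvd]
          show (fun x => u • x)^[orderOf u] o.out = o.out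
          rw [smul_iterate_apply, pow_orderOf_eq_one, one_smul]
        have h3 : Function.minimalPeriod (u • ·) o.out ≠ 0 := fun h0 => by
          rw [h0, zero_dvd_iff] at h2; exact (orderOf_pos u).ne' h2
        exact ho (hsmall _ _ (by omega) h2 _)
      · intro o₁ _ _ o₂ _ _ h
        exact Quotient.out_injective h
      · intro q hq hne
        refine ⟨Quotient.mk'' q, Finset.mem_univ _, ?_, ?_⟩
        · have hfix : ∀ x : Subgroup.zpowers u, x • q = q := by
            rintro ⟨x, hx⟩
            obtain ⟨i, rfl⟩ := Subgroup.mem_zpowers_iff.mp hx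
            exact (Subgroup.zpowers_le.mpr (show u ∈ MulAction.stabilizer G q from (Finset.mem_filter.mp hq).2))
              (Subgroup.zpow_mem _ (Subgroup.mem_zpowers u) i)
          have hout : (Quotient.mk'' q : Quotient (MulAction.orbitRel (Subgroup.zpowers u) (G ⧸ (P : Subgroup G)))).out = q := by
            obtain ⟨x, hx⟩ := Quotient.mk_out (s := MulAction.orbitRel (Subgroup.zpowers u) (G ⧸ (P : Subgroup G))) q
            exact hx.symm.trans (hfix x)
          have hper : Function.minimalPeriod (u • ·) q = 1 :=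
            Function.minimalPeriod_eq_one_iff_isFixedPt.mpr (Finset.mem_filter.mp hq).2
          intro h1
          apply hne
          simp only [w, dif_pos hq]
          refine Eq.trans ?_ h1
          congr 1
          exact Subtype.ext (by simp only [hout, hper, pow_one])
        · obtain ⟨x, hx⟩ := Quotient.mk_out (s := MulAction.orbitRel (Subgroup.zpowers u) (G ⧸ (P : Subgroup G))) q
          refine hx.symm.trans ?_
          obtain ⟨i, hi⟩ := Subgroup.mem_zpowers_iff.mp x.2
          exact (Subgroup.zpowers_le.mpr (show u ∈ MulAction.stabilizer G q from (Finset.mem_filter.mp hq).2)) x.2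
      · intro o _ ho
        have hmemF : o.out ∈ F := by
          refine Finset.mem_filter.mpr ⟨Finset.mem_univ _, ?_⟩
          by_contra hne
          have h1 : Function.minimalPeriod (u • ·) o.out ≠ 1 :=
            fun h1 => hne (Function.minimalPeriod_eq_one_iff_isFixedPt.mp h1)
          have h2 : Function.minimalPeriod (u • ·) o.out ∣ orderOf u := by
            rw [← Function.isPeriodicPt_iff_minimalPeriod_dvd]
            show (fun x => u • x)^[orderOf u] o.out = o.out
            rw [smul_iterate_apply, pow_orderOf_eq_one, one_smul]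
          have h3 : Function.minimalPeriod (u • ·) o.out ≠ 0 := fun h0 => by
            rw [h0, zero_dvd_iff] at h2; exact (orderOf_pos u).ne' h2
          exact ho (hsmall _ _ (by omega) h2 _)
        simp only [w, dif_pos hmemF]
        congr 1
        refine Subtype.ext ?_
        simp only [Function.minimalPeriod_eq_one_iff_isFixedPt.mpr (Finset.mem_filter.mp hmemF).2, pow_one]
    -- group the fixed points by the orbits of `P`
    let c : G ⧸ (P : Subgroup G) → MulAction.orbitRel.Quotient (P : Subgroup G) (G ⧸ (P : Subgroup G)) :=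
      fun q => Quotient.mk'' q
    have := Fintype.ofFinite (MulAction.orbitRel.Quotient (P : Subgroup G) (G ⧸ (P : Subgroup G)))
    let Fix : Finset (G ⧸ (P : Subgroup G)) := Finset.univ.filter fun q => ∀ x : (P : Subgroup G), x • q = q
    have hFix : Fix ⊆ F := fun q hq => Finset.mem_filter.mpr
      ⟨Finset.mem_univ _, (Finset.mem_filter.mp hq).2 ⟨u, huP⟩⟩
    have hnorm : ∀ q ∈ Fix, w q = φ ⟨u, huP⟩ := by
      intro q hq
      simp only [w, dif_pos (hFix hq)]
      have hg : q.out⁻¹ ∈ N := by
        rw [hN]
        refine Subgroup.mem_normalizer_fintype fun x hx => ?_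
        have h := (Finset.mem_filter.mp hq).2 ⟨x, hx⟩
        rw [← QuotientGroup.out_eq' q] at h
        change (((⟨x, hx⟩ : (P : Subgroup G)) : G) • (q.out : G ⧸ (P : Subgroup G))) = _ at h
        rw [MulAction.Quotient.smul_coe, QuotientGroup.eq, smul_eq_mul] at h
        have := Subgroup.inv_mem _ h
        simp only [inv_inv, mul_inv_rev, mul_assoc] at this ⊢
        exact this
      refine (div_eq_one.mp ?_)
      rw [← map_div, hφ1]
      refine Subgroup.mem_sup_left ⟨Subtype.coe_prop _, ?_⟩
      have huN : u ∈ N := Subgroup.le_normalizer huP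
      have := Subgroup.commutator_mem_commutator hg huN
      simpa [commutatorElement_def, div_eq_mul_inv, mul_assoc] using this
    have hother : ∏ q ∈ F \ Fix, w q = 1 := by
      rw [← Finset.prod_fiberwise (F \ Fix) c w]
      refine Finset.prod_eq_one fun o _ => ?_
      rcases Finset.eq_empty_or_nonempty ((F \ Fix).filter fun q => c q = o) with h0 | ⟨q0, hq00⟩
      · rw [h0, Finset.prod_empty]
      obtain ⟨hq01, rfl⟩ := Finset.mem_filter.mp hq00
      obtain ⟨hq0F, hq0Fix⟩ := Finset.mem_sdiff.mp hq01
      have heq : ∀ q ∈ (F \ Fix).filter (fun q => c q = c q0), w q = w q0 := by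
        intro q hq
        obtain ⟨hq', hcq⟩ := Finset.mem_filter.mp hq
        have hqF := (Finset.mem_sdiff.mp hq').1
        obtain ⟨⟨a, ha⟩, haq⟩ := MulAction.orbitRel_apply.mp (Quotient.exact' hcq)
        change a • q0 = q at haq
        simp only [w, dif_pos hqF, dif_pos hq0F]
        have hb : (a * q0.out)⁻¹ * q.out ∈ (P : Subgroup G) := by
          rw [← QuotientGroup.eq]
          refine Eq.trans ?_ (QuotientGroup.out_eq' q).symm
          conv_rhs => rw [← haq, ← QuotientGroup.out_eq' q0, MulAction.Quotient.smul_coe, smul_eq_mul]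
        have hy : q0.out⁻¹ * (a⁻¹ * u * a) * q0.out ∈ (P : Subgroup G) := by
          have := Subgroup.mul_mem _ (Subgroup.mul_mem _ hb (hmem q hqF)) (Subgroup.inv_mem _ hb)
          simpa [mul_assoc] using this
        have e1 : φ ⟨_, hmem q hqF⟩ = φ ⟨_, hy⟩ := by
          have : (⟨_, hmem q hqF⟩ : (P : Subgroup G)) = ⟨_, hb⟩⁻¹ * ⟨_, hy⟩ * ⟨_, hb⟩ :=
            Subtype.ext (by simp [mul_assoc])
          rw [this, map_mul, map_mul, map_inv, mul_comm (φ _)⁻¹, inv_mul_cancel_right]
        rw [e1]
        refine div_eq_one.mp ?_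
        rw [← map_div, hφ1]
        have hc : a⁻¹ * u * a * u⁻¹ ∈ ⁅(P : Subgroup G), (P : Subgroup G)⁆ := by
          have := Subgroup.commutator_mem_commutator (Subgroup.inv_mem _ ha) huP
          simpa [commutatorElement_def, mul_assoc] using this
        have h := hz q0.out⁻¹ _ hc (by
          have := Subgroup.mul_mem _ hy (Subgroup.inv_mem _ (hmem q0 hq0F))
          simpa [mul_assoc] using this)
        simpa [div_eq_mul_inv, mul_assoc] using h
      rw [Finset.prod_congr rfl heq, Finset.prod_const]
      -- the number of these is divisible by `p`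
      have hdvd : p ∣ ((F \ Fix).filter fun q => c q = c q0).card := by
        let U : Subgroup (P : Subgroup G) := Subgroup.zpowers ⟨u, huP⟩
        have hU : IsPGroup p U := P.2.to_subgroup U
        have h1 := hU.card_modEq_card_fixedPoints (MulAction.orbit (P : Subgroup G) q0)
        have h2 : Nat.card (MulAction.fixedPoints U (MulAction.orbit (P : Subgroup G) q0)) =
            ((F \ Fix).filter fun q => c q = c q0).card := by
          rw [← Nat.card_eq_finsetCard]
          refine Nat.card_congr
            { toFun := fun x => ⟨x.1.1, ?_⟩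
              invFun := fun q => ⟨⟨q.1, ?_⟩, ?_⟩
              left_inv := fun x => rfl
              right_inv := fun q => rfl }
          · have hxF : x.1.1 ∈ F := Finset.mem_filter.mpr ⟨Finset.mem_univ _,
              congrArg Subtype.val (x.2 ⟨⟨u, huP⟩, Subgroup.mem_zpowers _⟩)⟩
            obtain ⟨a, ha⟩ := x.1.2
            refine Finset.mem_filter.mpr ⟨Finset.mem_sdiff.mpr ⟨hxF, fun hx => hq0Fix ?_⟩,
              Quotient.sound' (MulAction.orbitRel_apply.mpr ⟨a, ha⟩)⟩
            refine Finset.mem_filter.mpr ⟨Finset.mem_univ _, fun y => ?_⟩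
            have hxfix := (Finset.mem_filter.mp hx).2
            have e : q0 = x.1.1 := by
              rw [← hxfix a⁻¹, ← ha, inv_smul_smul]
            rw [e]; exact hxfix y
          · exact MulAction.orbitRel_apply.mp (Quotient.exact' (Finset.mem_filter.mp q.2).2)
          · rintro ⟨y, hy⟩
            refine Subtype.ext ?_
            have hst : (⟨u, huP⟩ : (P : Subgroup G)) ∈ MulAction.stabilizer (P : Subgroup G) q.1 :=
              (Finset.mem_filter.mp (Finset.mem_sdiff.mp (Finset.mem_filter.mp q.2).1).1).2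
            exact (Subgroup.zpowers_le.mpr hst) hy
        have := P.2.card_orbit q0
        obtain ⟨j, hj⟩ := this
        have hj0 : j ≠ 0 := by
          rintro rfl
          rw [pow_zero, Nat.card_eq_one_iff_unique] at hj
          refine hq0Fix (Finset.mem_filter.mpr ⟨Finset.mem_univ _, fun x => ?_⟩)
          exact congrArg Subtype.val (hj.1.elim ⟨x • q0, MulAction.mem_orbit _ _⟩ ⟨q0, MulAction.mem_orbit_self _⟩)
        rw [hj, h2] at h1
        exact Nat.modEq_zero_iff_dvd.mp (h1.symm.trans (Nat.modEq_zero_iff_dvd.mpr (dvd_pow_self p hj0)))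
      obtain ⟨d, hd⟩ := hdvd
      rw [hd, pow_mul]
      have hwp : w q0 ^ p = 1 := by
        simp only [w, dif_pos hq0F]
        rw [← map_pow]
        have e0 : (q0.out⁻¹ * u * q0.out) ^ p = q0.out⁻¹ * u ^ p * q0.out := by
          have h := conj_pow (a := q0.out⁻¹) (b := u) (i := p)
          rwa [inv_inv] at h
        have hmem' : q0.out⁻¹ * u ^ p * q0.out ∈ (P : Subgroup G) := e0 ▸ Subgroup.pow_mem _ (hmem q0 hq0F) p
        have e : (⟨_, hmem q0 hq0F⟩ : (P : Subgroup G)) ^ p = ⟨_, hmem'⟩ := Subtype.ext e0
        rw [e]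
        refine hsmall _ _ (Fact.out : p.Prime).one_lt ?_ hmem'
        rw [he]
        refine dvd_pow_self p ?_
        rintro rfl
        exact hu1 (orderOf_eq_one_iff.mp he)
      rw [hwp, one_pow]
    have hV1 : MonoidHom.transfer φ u = 1 := Abelianization.commutator_subset_ker _ huC
    rw [hV, ← Finset.prod_sdiff hFix, hother, one_mul, Finset.prod_congr rfl hnorm, Finset.prod_const] at hV1
    have hcount : Fix.card ≡ (P : Subgroup G).index [MOD p] := by
      have h := (P.2.card_modEq_card_fixedPoints (G ⧸ (P : Subgroup G))).symm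
      rw [← Subgroup.index_eq_card] at h
      refine Nat.ModEq.trans (congrArg (· % p) ?_) h
      rw [← Nat.card_eq_finsetCard]
      exact Nat.card_congr (Equiv.subtypeEquivRight fun q => by simp [Fix, MulAction.mem_fixedPoints])
    have hnd : ¬ p ∣ Fix.card := fun h => P.not_dvd_index ((hcount.dvd_iff dvd_rfl).mp h)
    obtain ⟨j, hj⟩ := P.2.to_quotient T' (φ ⟨u, huP⟩)
    refine (hφ1 ⟨u, huP⟩).mp ?_
    rw [← orderOf_eq_one_iff]
    exact Nat.eq_one_of_dvd_coprimes (Nat.Coprime.pow_left j ((Fact.out : p.Prime).coprime_iff_not_dvd.mpr hnd))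
      (orderOf_dvd_of_pow_eq_one hj) (orderOf_dvd_of_pow_eq_one hV1)

end Cfsg.Agent.S4216
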