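import Cfsg.Statements.S4217
import Cfsg.Agent.Core.Gaschutz
import Cfsg.Agent.SylowNumber.Formula
-- import your own Cfsg.Agent.* helpers here

set_option autoImplicit false
open Cfsg
open scoped IsMulCommutative

namespace Cfsg.Agent.S4217

/-- The elements of an abelian subgroup killed by `m`. -/
def torsionPart {G : Type*} [Group G] (A : Subgroup G) [IsMulCommutative A] (m : ℕ) : Subgroup G :=
  ((powMonoidHom m : A →* A).ker).map A.subtype

theorem mem_torsionPart {G : Type*} [Group G] {A : Subgroup G} [IsMulCommutative A] {m : ℕ} {x : G} :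
    x ∈ torsionPart A m ↔ x ∈ A ∧ x ^ m = 1 := by
  constructor
  · rintro ⟨a, ha, rfl⟩
    exact ⟨a.2, congrArg Subtype.val (MonoidHom.mem_ker.mp ha)⟩
  · rintro ⟨hx, hm⟩
    exact ⟨⟨x, hx⟩, MonoidHom.mem_ker.mpr (Subtype.ext hm), rfl⟩


/-- Let `A` be an abelian normal subgroup of the finite group `G`. Then `A` has a complement in `G` if and only if, for every prime `p` dividing the index of `A`, there are a Sylow `p`-subgroup `S` of `G/A` and a subgroup `K` of `G` with `K ∩ A = 1` and `KA` equal to the preimage of `S` (that is, `A` has a complement in the preimage of a Sylow `p`-subgroup of `G/A`). -/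
theorem result {G : Type*} [Group G] [Finite G] (A : Subgroup G) [A.Normal] (hA : IsMulCommutative A) : (∃ K : Subgroup G, K.IsComplement' A) ↔ ∀ p : ℕ, p.Prime → p ∣ A.index → ∃ (S : Sylow p (G ⧸ A)) (K : Subgroup G), K ⊓ A = ⊥ ∧ K ⊔ A = (S : Subgroup (G ⧸ A)).comap (QuotientGroup.mk' A) := by
  classical
  have := hA
  constructor
  · rintro ⟨K, hK⟩ p hp -
    have := Fact.mk hp
    refine ⟨default, K ⊓ ((default : Sylow p (G ⧸ A)) : Subgroup (G ⧸ A)).comap (QuotientGroup.mk' A), ?_, ?_⟩
    · exact le_bot_iff.mp ((inf_le_inf_right A inf_le_left).trans hK.disjoint.le_bot)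
    · set U := ((default : Sylow p (G ⧸ A)) : Subgroup (G ⧸ A)).comap (QuotientGroup.mk' A)
      have hAU : A ≤ U := (QuotientGroup.ker_mk' A).ge.trans (Subgroup.ker_le_comap _ _)
      refine le_antisymm (sup_le inf_le_right hAU) fun u hu => ?_
      obtain ⟨⟨k, a⟩, rfl⟩ := hK.2 u
      refine Subgroup.mul_mem_sup ⟨k.2, ?_⟩ a.2
      have := U.mul_mem hu (U.inv_mem (hAU a.2))
      simpa using this
  intro h
  have hcardA : (Nat.card A) ≠ 0 := Nat.card_pos.ne'
  -- one complement for each prime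
  have key : ∀ p : ℕ, p.Prime → ∃ H : Subgroup G, H.index ≠ 0 ∧ H.index ≤ p ^ (Nat.card A).factorization p ∧
      ∀ x ∈ H, x ∈ A → x ^ (Nat.card A / p ^ (Nat.card A).factorization p) = 1 := by
    intro p hp
    have := Fact.mk hp
    set v := (Nat.card A).factorization p
    set m := Nat.card A / p ^ v with hm
    have hvm : p ^ v * m = Nat.card A := Nat.ordProj_mul_ordCompl_eq_self _ _
    set A' := torsionPart A m with hA'
    have hA'A : A' ≤ A := fun x hx => (mem_torsionPart.mp hx).1
    have hnormA' : A'.Normal := ⟨fun x hx g => by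
      rw [mem_torsionPart] at hx ⊢
      exact ⟨‹A.Normal›.conj_mem x hx.1 g, by rw [conj_pow, hx.2, mul_one, mul_inv_cancel]⟩⟩
    set f := QuotientGroup.mk' A'
    have hf : Function.Surjective f := QuotientGroup.mk'_surjective A'
    have hker : f.ker = A' := QuotientGroup.ker_mk' A'
    set V := A.map f with hV
    have hVn : V.Normal := Subgroup.Normal.map ‹_› f hf
    have hVc : IsMulCommutative V := ⟨⟨by
      rintro ⟨_, a, ha, rfl⟩ ⟨_, b, hb, rfl⟩
      refine Subtype.ext ?_
      show f a * f b = f b * f a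
      rw [← map_mul, ← map_mul]
      exact congrArg f (congrArg Subtype.val (mul_comm (⟨a, ha⟩ : A) ⟨b, hb⟩))⟩⟩
    have hVp : IsPGroup p V := by
      rintro ⟨_, a, ha, rfl⟩
      refine ⟨v, Subtype.ext ?_⟩
      show f a ^ p ^ v = 1
      rw [← map_pow, ← MonoidHom.mem_ker, hker, mem_torsionPart]
      refine ⟨A.pow_mem ha _, ?_⟩
      rw [← pow_mul, hvm]
      exact congrArg Subtype.val (pow_card_eq_one' (x := (⟨a, ha⟩ : A)))
    obtain ⟨j, hj⟩ := hVp.exists_card_eq
    obtain ⟨U, K, hAU, hKA, hKU, hUp⟩ : ∃ U K : Subgroup G, A ≤ U ∧ K ⊓ A = ⊥ ∧ K ⊔ A = U ∧ ¬ p ∣ U.index := by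
      by_cases hpA : p ∣ A.index
      · obtain ⟨S, K, h1, h2⟩ := h p hp hpA
        refine ⟨_, K, ?_, h1, h2, ?_⟩
        · exact (QuotientGroup.ker_mk' A).ge.trans (Subgroup.ker_le_comap _ _)
        · rw [Subgroup.index_comap_of_surjective _ (QuotientGroup.mk'_surjective A)]
          exact S.not_dvd_index
      · exact ⟨A, ⊥, le_rfl, bot_inf_eq A, bot_sup_eq A, hpA⟩
    obtain ⟨H, hH⟩ := Cfsg.Agent.Core.gaschutz_exists (K := V) (U := U.map f) (Subgroup.map_mono hAU)
      (by
        rw [hj, Subgroup.index_map_eq _ hf (hker.trans_le (hA'A.trans hAU))]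
        exact (hp.coprime_iff_not_dvd.mpr hUp).pow_left j)
      (A := K.map f) (Subgroup.map_mono (hKU ▸ le_sup_left)) (by
        rw [eq_bot_iff]
        rintro _ ⟨⟨k, hk, rfl⟩, a, ha, hak⟩
        have h1 : k * a⁻¹ ∈ A' := by rw [← hker, MonoidHom.mem_ker, map_mul, map_inv, hak, mul_inv_cancel]
        have h2 : k ∈ A := by simpa using A.mul_mem (hA'A h1) ha
        rw [Subgroup.mem_bot, show k = 1 from Subgroup.mem_bot.mp (hKA ▸ ⟨hk, h2⟩), map_one])
      (by rw [← Subgroup.map_sup, sup_comm, hKU])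
    refine ⟨H.comap f, Subgroup.index_ne_zero_of_finite, ?_, fun x hxH hxA => ?_⟩
    · rw [Subgroup.index_comap_of_surjective _ hf]
      have e := hH.index_eq_card
      rw [e, hj]
      refine Nat.pow_le_pow_right hp.pos ((hp.pow_dvd_iff_le_factorization hcardA).mp ?_)
      exact hj ▸ Subgroup.card_map_dvd A f
    · have h1 : f x ∈ V ⊓ H := ⟨⟨x, hxA, rfl⟩, hxH⟩
      rw [disjoint_iff.mp hH.disjoint, Subgroup.mem_bot, ← MonoidHom.mem_ker, hker] at h1
      exact (mem_torsionPart.mp h1).2
  choose! H hHne hHidx hHA using key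
  set s := (Nat.card A).primeFactors
  refine ⟨⨅ p : s, H p, ?_⟩
  have hdisj : Disjoint (⨅ p : s, H p) A := by
    rw [disjoint_iff, eq_bot_iff]
    rintro x ⟨hx, hxA⟩
    rw [Subgroup.mem_bot, ← orderOf_eq_one_iff]
    by_contra hne
    obtain ⟨q, hq, hqd⟩ := Nat.exists_prime_and_dvd hne
    have hA' : orderOf x ∣ Nat.card A := by
      rw [← Subgroup.orderOf_mk x hxA]
      exact orderOf_dvd_natCard _
    have hqs : q ∈ s := Nat.mem_primeFactors.mpr ⟨hq, hqd.trans hA', hcardA⟩
    have h2 := orderOf_dvd_of_pow_eq_one (hHA q hq x ((Subgroup.mem_iInf.mp hx) ⟨q, hqs⟩) hxA)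
    exact Nat.not_dvd_ordCompl hq hcardA (hqd.trans h2)
  refine Subgroup.isComplement'_of_card_mul_and_disjoint (le_antisymm ?_ ?_) hdisj
  · rw [← Nat.card_prod]
    exact Nat.card_le_card_of_injective _ (Subgroup.mul_injective_of_disjoint hdisj)
  · have h1 : (⨅ p : s, H p).index ≤ Nat.card A := by
      refine (Subgroup.index_iInf_le _).trans ?_
      have e : ∏ p : s, (p : ℕ) ^ (Nat.card A).factorization (p : ℕ) = Nat.card A := by
        rw [Finset.prod_coe_sort s (fun q => q ^ (Nat.card A).factorization q)]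
        exact Nat.prod_factorization_pow_eq_self hcardA
      rw [← e]
      exact Finset.prod_le_prod (fun _ _ => Nat.zero_le _) fun p _ => hHidx p (Nat.prime_of_mem_primeFactors p.2)
    calc Nat.card G = Nat.card (⨅ p : s, H p : Subgroup G) * (⨅ p : s, H p).index :=
          (Subgroup.card_mul_index _).symm
      _ ≤ _ := Nat.mul_le_mul_left _ h1

end Cfsg.Agent.S4217
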