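import Cfsg.Statements.S4219
import Cfsg.Agent.Coprime.Tools


set_option autoImplicit false
open Cfsg
open scoped Pointwise

namespace Cfsg.Agent.S4219

/-- Let a finite group `G` act `t`-fold transitively on a finite set, let `H` be the stabilizer of `t` distinct points and `P` a Sylow `p`-subgroup of `H`. Then the normalizer of `P` in `G` is `t`-fold transitive on the fixed points of `P`: any `t` distinct fixed points of `P` can be carried to any other `t` distinct fixed points of `P` by an element normalizing `P`. -/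
theorem result {G : Type*} [Group G] [Finite G] {α : Type*} [Fintype α] [MulAction G α] {t : ℕ} (hG : MulAction.IsMultiplyPretransitive G α t) (x : Fin t ↪ α) {p : ℕ} [Fact p.Prime] (P : Sylow p (MulAction.stabilizer G x)) (a b : Fin t ↪ α) (ha : ∀ i, a i ∈ MulAction.fixedPoints ((P : Subgroup (MulAction.stabilizer G x)).map (MulAction.stabilizer G x).subtype) α) (hb : ∀ i, b i ∈ MulAction.fixedPoints ((P : Subgroup (MulAction.stabilizer G x)).map (MulAction.stabilizer G x).subtype) α) : ∃ g ∈ Subgroup.normalizer ((((P : Subgroup (MulAction.stabilizer G x)).map (MulAction.stabilizer G x).subtype) : Subgroup G) : Set G), g • a = b := by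
  haveI := hG
  set P' : Subgroup G := (P : Subgroup (MulAction.stabilizer G x)).map (MulAction.stabilizer G x).subtype
    with hP'
  obtain ⟨g, hg⟩ := MulAction.exists_smul_eq G a b
  obtain ⟨c, hc⟩ := MulAction.exists_smul_eq G x b
  set U := MulAction.stabilizer G b with hU
  have hcardU : Nat.card U = Nat.card (MulAction.stabilizer G x) := by
    rw [hU, ← hc, MulAction.stabilizer_smul_eq_stabilizer_map_conj]
    exact Subgroup.card_map_of_injective (MulAut.conj c).injective
  have hfixb : P' ≤ U := fun z hz => MulAction.mem_stabilizer_iff.mpr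
    (Function.Embedding.ext fun i => hb i ⟨z, hz⟩)
  have hfixa : P' ≤ MulAction.stabilizer G a := fun z hz => MulAction.mem_stabilizer_iff.mpr
    (Function.Embedding.ext fun i => ha i ⟨z, hz⟩)
  have hgP : P'.map (MulAut.conj g).toMonoidHom ≤ U := by
    rw [hU, ← hg, MulAction.stabilizer_smul_eq_stabilizer_map_conj]
    exact Subgroup.map_mono hfixa
  have hcard : ∀ Q : Subgroup G, Nat.card Q = Nat.card P' → Q ≤ U →
      ∃ S : Sylow p U, (S : Subgroup U).map U.subtype = Q := by
    intro Q hQ hQU
    refine ⟨Sylow.ofCard (Q.subgroupOf U) ?_, ?_⟩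
    · rw [Nat.card_congr (Subgroup.subgroupOfEquivOfLe hQU).toEquiv, hQ, hP',
        Subgroup.card_map_of_injective (Subgroup.subtype_injective _), P.card_eq_multiplicity, hcardU]
    · rw [Sylow.coe_ofCard, Subgroup.subgroupOf_map_subtype, inf_eq_left.mpr hQU]
  obtain ⟨S1, hS1⟩ := hcard P' rfl hfixb
  obtain ⟨S2, hS2⟩ := hcard _ (Subgroup.card_map_of_injective (MulAut.conj g).injective) hgP
  obtain ⟨u, hu⟩ := MulAction.exists_smul_eq U S2 S1
  refine ⟨(u : G) * g, ?_, by rw [mul_smul, hg]; exact u.2⟩
  apply Cfsg.Agent.Coprime.mem_normalizer_of_conj_smul_eq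
  rw [map_mul, mul_smul, Cfsg.Agent.Coprime.conj_smul_eq_map g, ← hS2,
    Cfsg.Agent.Coprime.conj_smul_eq_map]
  rw [← hS1, ← hu, Sylow.coe_subgroup_smul, Cfsg.Agent.Coprime.conj_smul_eq_map, Subgroup.map_map,
    Subgroup.map_map]
  rfl

end Cfsg.Agent.S4219
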