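import Cfsg.Statements.S4221
import Cfsg.Agent.PermGroups.HallFour.Main
-- import your own Cfsg.Agent.* helpers here

set_option autoImplicit false
set_option maxHeartbeats 1000000
open Cfsg

namespace Cfsg.Agent.S4221

/-- Let `G` be a `4`-fold transitive permutation group on a finite set of `n` points in which the pointwise stabilizer of some four distinct points has odd order. Then `n = 4` or `n = 5` with `G` the full symmetric group, or `n = 6` or `n = 7` with `G` the alternating group, or `n = 11` and `G` has order `7920`. -/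
theorem result {α : Type*} [Fintype α] [DecidableEq α] (G : Subgroup (Equiv.Perm α)) (hG : MulAction.IsMultiplyPretransitive G α 4) (x : Fin 4 ↪ α) (hodd : Odd (Nat.card (MulAction.stabilizer G x))) : ((Fintype.card α = 4 ∨ Fintype.card α = 5) ∧ G = ⊤) ∨ ((Fintype.card α = 6 ∨ Fintype.card α = 7) ∧ G = alternatingGroup α) ∨ (Fintype.card α = 11 ∧ Nat.card G = 7920) := by
  classical
  open Cfsg.Agent.PermGroups Cfsg.Agent.PermGroups.HallFour MulAction in
  have h : OddFour G α := ⟨hG, fun a b c d hn => by
    rw [fix4_eq_stabilizer hn, LW.card_stabilizer_eq hG (by simpa using hn.length_le_card) _ x]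
    exact hodd⟩
  have hcard : 4 ≤ Fintype.card α := by simpa using Fintype.card_le_of_embedding x
  have hG' := Cfsg.Agent.PermGroups.LW.card_eq hG x
  have hdvd : Nat.card G ∣ (Fintype.card α).factorial := by
    have := G.card_subgroup_dvd_card
    rwa [Nat.card_eq_fintype_card (α := Equiv.Perm α), Fintype.card_perm] at this
  have htop : Nat.card G = (Fintype.card α).factorial → G = ⊤ := fun e =>
    Subgroup.eq_top_of_card_eq G (by rw [e, Nat.card_eq_fintype_card, Fintype.card_perm])
  have halt : 2 * Nat.card G = (Fintype.card α).factorial → G = alternatingGroup α := fun e => by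
    refine Equiv.Perm.eq_alternatingGroup_of_index_eq_two ?_
    have := G.card_mul_index
    rw [Nat.card_eq_fintype_card (α := Equiv.Perm α), Fintype.card_perm, ← e, mul_comm 2] at this
    exact Nat.eq_of_mul_eq_mul_left Nat.card_pos this
  have h1 : (∀ y : Fin 4 ↪ α, MulAction.stabilizer G y = ⊥) → 7 ≤ Fintype.card α →
      Fintype.card α = 11 := fun hs h7 => Cfsg.Agent.SharplyTransitive.jordan4 hG hs h7
  have hbot : Nat.card (MulAction.stabilizer G x) = 1 → ∀ y : Fin 4 ↪ α,
      MulAction.stabilizer G y = ⊥ := fun e y => Subgroup.card_eq_one.mp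
    ((Cfsg.Agent.PermGroups.LW.card_stabilizer_eq hG hcard y x).trans e)
  rcases Nat.lt_or_ge (Fintype.card α) 8 with hlt | hge
  · obtain ⟨j, hj⟩ := hodd
    obtain ⟨m, hm⟩ : ∃ m, Nat.card (MulAction.stabilizer G x) = m := ⟨_, rfl⟩
    replace hG' : Nat.card G = (Fintype.card α).descFactorial 4 * m := hG'.trans (congrArg _ hm)
    replace hj : m = 2 * j + 1 := hm.symm.trans hj
    replace hbot : m = 1 → ∀ y : Fin 4 ↪ α, MulAction.stabilizer G y = ⊥ := fun e => hbot (hm.trans e)
    rcases (show Fintype.card α = 4 ∨ Fintype.card α = 5 ∨ Fintype.card α = 6 ∨ Fintype.card α = 7 by omega)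
      with e | e | e | e <;> rw [e] at hG' hdvd htop halt <;>
      norm_num [Nat.descFactorial, Nat.factorial, -Nat.card_eq_fintype_card] at hG' hdvd htop halt
    · have hle := Nat.le_of_dvd (by norm_num) hdvd
      exact Or.inl ⟨Or.inl e, htop (by omega)⟩
    · have hle := Nat.le_of_dvd (by norm_num) hdvd
      exact Or.inl ⟨Or.inr e, htop (by omega)⟩
    · have hle := Nat.le_of_dvd (by norm_num) hdvd
      exact Or.inr (Or.inl ⟨Or.inl e, halt (by omega)⟩)
    · have hle := Nat.le_of_dvd (by norm_num) hdvd
      rcases (show j = 0 ∨ j = 1 ∨ j = 2 by omega) with hj0 | hj0 | hj0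
      · have := h1 (hbot (by omega)) (by omega)
        omega
      · exact Or.inr (Or.inl ⟨Or.inr e, halt (by omega)⟩)
      · have h5 : Nat.card G = 4200 := by omega
        rw [h5] at hdvd
        norm_num at hdvd
  · have hn : [x 0, x 1, x 2, x 3].Nodup := by simp [List.nodup_cons]
    have hb := h.bot_of_large hge hn
    rw [Cfsg.Agent.PermGroups.HallFour.fix4_eq_stabilizer hn] at hb
    have hx1 : Nat.card (MulAction.stabilizer G x) = 1 :=
      (Cfsg.Agent.PermGroups.LW.card_stabilizer_eq hG hcard x
        (Cfsg.Agent.SharplyTransitive.q4 _ _ _ _ hn)).trans (Subgroup.card_eq_one.mpr hb)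
    have h11 := h1 (hbot hx1) (by omega)
    refine Or.inr (Or.inr ⟨h11, ?_⟩)
    refine hG'.trans ((congrArg _ hx1).trans ?_)
    rw [h11]
    rfl

end Cfsg.Agent.S4221
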