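import Cfsg.Statements.S4222
import Mathlib


set_option autoImplicit false
open Cfsg

namespace Cfsg.Agent.S4222

/-- If a normal subgroup `N` of a finite group is complete (its centre is trivial and every automorphism of `N` is inner), then the group is the internal direct product of `N` and the centralizer of `N`: the centralizer is a complement to `N`. -/
theorem result {T : Type*} [Group T] [Finite T] (N : Subgroup T) [N.Normal] (hz : Subgroup.center ↥N = ⊥) (ha : Function.Surjective (MulAut.conj : ↥N →* MulAut ↥N)) : (Subgroup.centralizer (N : Set T)).IsComplement' N := by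
  refine Subgroup.isComplement'_of_disjoint_and_mul_eq_univ ?_ ?_
  · rw [disjoint_iff, eq_bot_iff]
    rintro z ⟨hz1, hz2⟩
    have h1 : (⟨z, hz2⟩ : N) ∈ Subgroup.center N := Subgroup.mem_center_iff.mpr fun n =>
      Subtype.ext (Subgroup.mem_centralizer_iff.mp hz1 n n.2)
    rw [hz, Subgroup.mem_bot] at h1
    exact Subgroup.mem_bot.mpr (congrArg Subtype.val h1)
  · rw [Set.eq_univ_iff_forall]
    intro t
    obtain ⟨n, hn⟩ := ha (MulAut.conjNormal t)
    refine Set.mem_mul.mpr ⟨t * (n : T)⁻¹, ?_, n, n.2, by group⟩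
    rw [SetLike.mem_coe, Subgroup.mem_centralizer_iff]
    intro w hw
    have hn' : (n⁻¹ * ⟨w, hw⟩ * n : N) ∈ (⊤ : Subgroup N) := trivial
    have h2 : MulAut.conj n (n⁻¹ * ⟨w, hw⟩ * n) = MulAut.conjNormal t (n⁻¹ * ⟨w, hw⟩ * n) := by
      rw [hn]
    have h3 := congrArg Subtype.val h2
    rw [MulAut.conjNormal_apply] at h3
    simp only [MulAut.conj_apply, Subgroup.coe_mul, Subgroup.coe_inv] at h3
    have h4 : t * ((n : T)⁻¹ * w * n) * t⁻¹ = w := by rw [← h3]; group
    calc w * (t * (n : T)⁻¹) = t * ((n : T)⁻¹ * w * n) * t⁻¹ * (t * (n : T)⁻¹) := by rw [h4]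
      _ = t * (n : T)⁻¹ * w := by group

end Cfsg.Agent.S4222
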