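import Cfsg.Statements.S4227
import Cfsg.Agent.ExponentSix.Basic
import Cfsg.Agent.S0144
-- import your own Cfsg.Agent.* helpers here

set_option autoImplicit false
open Cfsg

namespace Cfsg.Agent.S4227

/-- A finite group in which every element has order dividing `6` has `2`-length at most `1` and `3`-length at most `1`. -/
theorem result {G : Type*} [Group G] [Finite G] (h : ∀ x : G, x ^ 6 = 1) : Cfsg.PLengthLE 2 1 G ∧ Cfsg.PLengthLE 3 1 G := by
  have hsol : Group.IsSolvable G := by
    refine Cfsg.Agent.S0144.result 2 3 ((Nat.card G).factorization 2) ((Nat.card G).factorization 3)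
      Nat.prime_two Nat.prime_three ?_
    have h0 : Nat.card G ≠ 0 := Nat.card_pos.ne'
    refine Nat.eq_of_factorization_eq h0 (by positivity) fun q => ?_
    rw [Nat.factorization_mul (by positivity) (by positivity), Nat.Prime.factorization_pow Nat.prime_two,
      Nat.Prime.factorization_pow Nat.prime_three, Finsupp.add_apply]
    by_cases hq : q = 2 ∨ q = 3
    · rcases hq with rfl | rfl <;> simp
    · push Not at hq
      rw [Finsupp.single_eq_of_ne hq.1, Finsupp.single_eq_of_ne hq.2]
      by_contra hne
      have hm : q ∈ (Nat.card G).primeFactors := by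
        rw [← Nat.support_factorization, Finsupp.mem_support_iff]; simpa using hne
      have hqp : q.Prime := Nat.prime_of_mem_primeFactors hm
      have := Fact.mk hqp
      obtain ⟨x, hx⟩ := exists_prime_orderOf_dvd_card' (G := G) q (Nat.dvd_of_mem_primeFactors hm)
      have h6 : q ∣ 2 * 3 := hx ▸ orderOf_dvd_of_pow_eq_one (h x)
      rcases hqp.dvd_mul.mp h6 with e | e
      · exact hq.1 ((Nat.prime_dvd_prime_iff_eq hqp Nat.prime_two).mp e)
      · exact hq.2 ((Nat.prime_dvd_prime_iff_eq hqp Nat.prime_three).mp e)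
  have h' : ∀ p, ∀ y : G ⧸ Cfsg.pPrimeCore p G, y ^ 6 = 1 := fun p y => by
    induction y using QuotientGroup.induction_on with
    | _ g => rw [← QuotientGroup.mk_pow, h g, QuotientGroup.mk_one]
  have : Fact (Nat.Prime 2) := ⟨Nat.prime_two⟩
  have : Fact (Nat.Prime 3) := ⟨Nat.prime_three⟩
  exact ⟨Cfsg.Agent.ExponentSix.plengthLE_one (Cfsg.Agent.ExponentSix.two_case (h' 2) Cfsg.Agent.Core.pPrimeCore_quotient_eq_bot),
    Cfsg.Agent.ExponentSix.plengthLE_one (Cfsg.Agent.ExponentSix.three_case (h' 3) Cfsg.Agent.Core.pPrimeCore_quotient_eq_bot)⟩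

end Cfsg.Agent.S4227
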