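import Cfsg.Statements.S4230
import Mathlib.RingTheory.Polynomial.Cyclotomic.Expand


set_option autoImplicit false
open Cfsg

namespace Cfsg.Agent.S4230

/-- Let p be an odd prime, q a natural number not divisible by p, and e the multiplicative order of q modulo p. For a natural number f, p divides the value at q of the f-th cyclotomic polynomial if and only if f = e·p^j for some j ≥ 0. -/
theorem result (p q f : ℕ) (hp : p.Prime) (hp2 : p ≠ 2) (hpq : ¬ p ∣ q) :
    ((p : ℤ) ∣ (Polynomial.cyclotomic f ℤ).eval (q : ℤ)) ↔ ∃ j : ℕ, f = orderOf (q : ZMod p) * p ^ j := by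
  have : Fact p.Prime := ⟨hp⟩
  have hq0 : (q : ZMod p) ≠ 0 := fun h => hpq ((ZMod.natCast_eq_zero_iff q p).mp h)
  have hopos : 0 < orderOf (q : ZMod p) :=
    IsOfFinOrder.orderOf_pos (isOfFinOrder_iff_pow_eq_one.mpr
      ⟨p - 1, Nat.sub_pos_of_lt hp.one_lt, ZMod.pow_card_sub_one_eq_one hq0⟩)
  have hroot : ((p : ℤ) ∣ (Polynomial.cyclotomic f ℤ).eval (q : ℤ)) ↔
      (Polynomial.cyclotomic f (ZMod p)).IsRoot (q : ZMod p) := by
    rw [← ZMod.intCast_zmod_eq_zero_iff_dvd, Polynomial.IsRoot.def,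
      ← Polynomial.map_cyclotomic f (Int.castRingHom (ZMod p))]
    rw [show (q : ZMod p) = (Int.castRingHom (ZMod p)) (q : ℤ) by simp,
      Polynomial.eval_map, Polynomial.eval₂_hom]
    rfl
  rw [hroot]
  rcases Nat.eq_zero_or_pos f with rfl | hf
  · refine iff_of_false ?_ ?_
    · rw [Polynomial.cyclotomic_zero, Polynomial.IsRoot.def, Polynomial.eval_one]
      exact one_ne_zero
    · rintro ⟨j, hj⟩
      exact absurd hj.symm (Nat.mul_ne_zero hopos.ne' (pow_ne_zero _ hp.ne_zero))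
  obtain ⟨j, m, hm, rfl⟩ := Nat.exists_eq_pow_mul_and_not_dvd hf.ne' p hp.ne_one
  have : NeZero (m : ZMod p) := ⟨fun h => hm ((ZMod.natCast_eq_zero_iff m p).mp h)⟩
  rw [Polynomial.isRoot_cyclotomic_prime_pow_mul_iff_of_charP, IsPrimitiveRoot.iff_orderOf]
  constructor
  · exact fun h => ⟨j, by rw [h, mul_comm]⟩
  · rintro ⟨i, hi⟩
    have hnd : ¬ p ∣ orderOf (q : ZMod p) := fun h => by
      have h1 := h.trans (ZMod.orderOf_dvd_card_sub_one hq0)
      have := Nat.le_of_dvd (Nat.sub_pos_of_lt hp.one_lt) h1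
      have := hp.one_lt
      omega
    have e1 := congrArg (fun x => ordCompl[p] x) hi
    have hself : ∀ x : ℕ, ¬ p ∣ x → ordCompl[p] x = x := fun x hx => by
      rw [Nat.factorization_eq_zero_of_not_dvd hx, pow_zero, Nat.div_one]
    simp only [Nat.ordCompl_mul, Nat.ordCompl_self_pow hp, one_mul, mul_one, hself _ hm,
      hself _ hnd] at e1
    exact e1.symm

end Cfsg.Agent.S4230
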