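import Mathlib
import Cfsg.Statements.S4236
import Cfsg.Agent.S0713

set_option autoImplicit false
open Cfsg

namespace Cfsg.Agent.S4236
theorem pow_gcd_mem {K : Type*} [Group K] (C : Subgroup K) (g : K) (a b : ℕ) (ha : g ^ a ∈ C)
    (hb : g ^ b ∈ C) : g ^ Nat.gcd a b ∈ C := by
  have h : g ^ ((Nat.gcd a b : ℕ) : ℤ) ∈ C := by
    rw [Nat.gcd_eq_gcd_ab, zpow_add, zpow_mul, zpow_mul, zpow_natCast, zpow_natCast]
    exact C.mul_mem (C.zpow_mem ha _) (C.zpow_mem hb _)
  rwa [zpow_natCast] at h

/-- A prime-order element of size at least five normalising an abelian `2`-group with at most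
four square roots of one centralises it. -/
theorem commute_of_small {K : Type*} [Group K] [Finite K] (T : Subgroup K) (hT : IsPGroup 2 T)
    (hc : ∀ x ∈ T, ∀ y ∈ T, x * y = y * x)
    (h4 : Nat.card {w : T // (w : K) ^ 2 = 1} ≤ 4)
    (g : K) (q : ℕ) (hq : q.Prime) (hq5 : 5 ≤ q) (hg : g ^ q = 1)
    (hgT : ∀ t ∈ T, g * t * g⁻¹ ∈ T) : ∀ t ∈ T, g * t * g⁻¹ = t := by
  classical
  set S := {w : T // (w : K) ^ 2 = 1}
  have hfixS : ∀ w ∈ T, w ^ 2 = 1 → g * w * g⁻¹ = w := by
    intro w hw hw2
    let f : S → S := fun s => ⟨⟨g * (s.1 : K) * g⁻¹, hgT _ s.1.2⟩, by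
      show (g * (s.1 : K) * g⁻¹) ^ 2 = 1
      rw [conj_pow, s.2, mul_one, mul_inv_cancel]⟩
    have hfinj : Function.Injective f := fun s t h => by
      have h' : g * (s.1 : K) * g⁻¹ = g * (t.1 : K) * g⁻¹ := congrArg (fun z : S => (z.1 : K)) h
      exact Subtype.ext (Subtype.ext (mul_left_cancel (mul_right_cancel h')))
    let σ : Equiv.Perm S := Equiv.ofBijective f (Finite.injective_iff_bijective.1 hfinj)
    have hpow : ∀ (i : ℕ) (s : S), ((σ ^ i) s).1.1 = g ^ i * (s.1 : K) * (g ^ i)⁻¹ := by
      intro i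
      induction i with
      | zero => intro s; simp
      | succ i ih =>
        intro s
        rw [pow_succ', Equiv.Perm.mul_apply]
        show g * ((σ ^ i) s).1.1 * g⁻¹ = _
        rw [ih, pow_succ']
        group
    have hσq : σ ^ q = 1 := Equiv.ext fun s => Subtype.ext (Subtype.ext (by
      rw [hpow, hg, Equiv.Perm.one_apply]; group))
    have hσ1 : σ = 1 := by
      by_contra hne
      have hord : orderOf σ = q := (Nat.Prime.eq_one_or_self_of_dvd hq _
        (orderOf_dvd_of_pow_eq_one hσq)).resolve_left fun h => hne (orderOf_eq_one_iff.1 h)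
      have h1 : q ∣ (Nat.card S).factorial := by
        rw [← Nat.card_perm, ← hord]
        exact orderOf_dvd_natCard σ
      have := (Nat.Prime.dvd_factorial hq).1 h1
      omega
    have := congrArg (fun z : Equiv.Perm S => (z ⟨⟨w, hw⟩, hw2⟩).1.1) hσ1
    simpa [σ, f] using this
  intro t ht
  obtain ⟨j, hj⟩ := hT ⟨t, ht⟩
  have hj' : t ^ 2 ^ j = 1 := congrArg Subtype.val hj
  clear hj
  induction j generalizing t with
  | zero =>
    rw [pow_zero, pow_one] at hj'
    simp [hj']
  | succ j ih =>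
    have h2 : g * t ^ 2 * g⁻¹ = t ^ 2 := ih (t ^ 2) (T.pow_mem ht 2)
      (by rw [← pow_mul, ← pow_succ']; exact hj')
    set w := t⁻¹ * (g * t * g⁻¹) with hw
    have hwT : w ∈ T := T.mul_mem (T.inv_mem ht) (hgT t ht)
    have hw2 : w ^ 2 = 1 := by
      rw [hw, Commute.mul_pow (hc _ (T.inv_mem ht) _ (hgT t ht)), conj_pow, h2, inv_pow,
        inv_mul_cancel]
    have hwfix := hfixS w hwT hw2
    have hiter : ∀ i : ℕ, g ^ i * t * (g ^ i)⁻¹ = t * w ^ i := by
      intro i
      induction i with
      | zero => simp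
      | succ i ih' =>
        have hwi : g * w ^ i * g⁻¹ = w ^ i := by rw [← conj_pow, hwfix]
        calc g ^ (i + 1) * t * (g ^ (i + 1))⁻¹ = g * (g ^ i * t * (g ^ i)⁻¹) * g⁻¹ := by
              rw [pow_succ']; group
          _ = (g * t * g⁻¹) * (g * w ^ i * g⁻¹) := by rw [ih']; group
          _ = t * w ^ (i + 1) := by
            rw [show g * t * g⁻¹ = t * w by rw [hw, mul_inv_cancel_left], hwi, pow_succ', mul_assoc]
    have hwq : w ^ q = 1 := by
      have := hiter q
      rw [hg, inv_one, mul_one, one_mul] at this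
      exact (mul_eq_left.1 this.symm)
    have hw1 : w = 1 := by
      have hodd : Nat.Coprime q 2 := by
        rw [Nat.coprime_primes hq Nat.prime_two]; omega
      have h1 : w ^ Nat.gcd q 2 = 1 := pow_gcd_eq_one.2 ⟨hwq, hw2⟩
      rwa [hodd.gcd_eq_one, pow_one] at h1
    rw [hw] at hw1
    exact (inv_mul_eq_one.1 hw1).symm

variable {Ω : Type*} [Fintype Ω] [DecidableEq Ω]

/-- No permutation group of degree 35 has this configuration. -/
theorem no_perm35 (hΩ : Fintype.card Ω = 35) (H : Subgroup (Equiv.Perm Ω))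
    [MulAction.IsPretransitive H Ω] (a : Ω) (P : Sylow 17 H)
    (hfix : ∀ b : Ω, (∀ p ∈ (P : Subgroup H), p • b = b) ↔ b = a)
    (hnorm : ∀ h : H, h • a = a → ∀ p ∈ (P : Subgroup H), h * p * h⁻¹ ∈ (P : Subgroup H)) :
    False := by
  classical
  have : Fact (Nat.Prime 17) := ⟨by norm_num⟩
  have hsmul : ∀ (h : H) (z : Ω), h • z = (h : Equiv.Perm Ω) z := fun _ _ => rfl
  have hPa : ∀ p ∈ (P : Subgroup H), p • a = a := (hfix a).2 rfl
  let O : Ω → Set Ω := fun b => MulAction.orbit (P : Subgroup H) b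
  have hO17 : ∀ b, b ≠ a → Nat.card (O b) = 17 := by
    intro b hb
    obtain ⟨n, hn⟩ := P.2.card_orbit b
    have hle : Nat.card (O b) ≤ 35 := by
      rw [← hΩ, ← Nat.card_eq_fintype_card]
      exact Nat.card_le_card_of_injective _ Subtype.val_injective
    change Nat.card (O b) = 17 ^ n at hn
    rcases n with - | - | n
    · exfalso
      obtain ⟨hss, -⟩ := Nat.card_eq_one_iff_unique.1 hn
      refine hb ((hfix b).1 fun p hp => ?_)
      exact congrArg Subtype.val (Subsingleton.elim (⟨p • b, ⟨⟨p, hp⟩, rfl⟩⟩ : O b)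
        ⟨b, MulAction.mem_orbit_self b⟩)
    · simpa using hn
    · have : 17 ^ 2 ≤ 17 ^ (n + 1 + 1) := Nat.pow_le_pow_right (by norm_num) (by omega)
      omega
  have : Nontrivial Ω := Fintype.one_lt_card_iff_nontrivial.1 (by omega)
  -- the point stabiliser is maximal
  have hcoat : IsCoatom (MulAction.stabilizer H a) := by
    refine ⟨fun htop => ?_, fun M hM => ?_⟩
    · obtain ⟨y, hy⟩ := exists_ne a
      obtain ⟨h, rfl⟩ := MulAction.exists_smul_eq H a y
      exact hy (show h ∈ MulAction.stabilizer H a by rw [htop]; trivial)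
    · set B := MulAction.orbit M a with hB
      obtain ⟨m, hmM, hma⟩ := SetLike.exists_of_lt hM
      have hmB : m • a ∈ B := ⟨⟨m, hmM⟩, rfl⟩
      have hmne : m • a ≠ a := hma
      have hsub : O (m • a) ⊆ B := by
        rintro _ ⟨⟨p, hp⟩, rfl⟩
        exact ⟨⟨p * m, M.mul_mem (hM.le (hPa p hp)) hmM⟩, mul_smul p m a⟩
      have hB18 : 18 ≤ Nat.card B := by
        have h1 : ({a} : Set Ω) ∪ O (m • a) ⊆ B :=
          Set.union_subset (Set.singleton_subset_iff.2 (MulAction.mem_orbit_self a)) hsub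
        have hna : a ∉ O (m • a) := by
          rintro ⟨⟨p, hp⟩, hpa⟩
          exact hmne (smul_left_cancel p (hpa.trans (hPa p hp).symm))
        have h2 := Set.ncard_le_ncard h1
        rw [Set.singleton_union, Set.ncard_insert_of_notMem hna, ← Nat.card_coe_set_eq,
          ← Nat.card_coe_set_eq, hO17 _ hmne] at h2
        exact h2
      have hidx : Nat.card B = (MulAction.stabilizer H a).relIndex M := by
        rw [Nat.card_coe_set_eq, ← MulAction.index_stabilizer]
        rfl
      have hmul := Subgroup.relIndex_mul_index hM.le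
      rw [MulAction.index_stabilizer_of_transitive, Nat.card_eq_fintype_card, hΩ, ← hidx] at hmul
      have hidx1 : M.index = 1 := by
        have hpos : M.index ≠ 0 := Subgroup.index_ne_zero_of_finite
        by_contra hne
        have : Nat.card B * 2 ≤ Nat.card B * M.index := Nat.mul_le_mul_left _ (by omega)
        omega
      exact Subgroup.index_eq_one.1 hidx1
  have hprim : MulAction.IsPreprimitive H Ω :=
    (MulAction.isCoatom_stabilizer_iff_preprimitive H a).1 hcoat
  -- P is abelian of exponent 17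
  have hP1 : Nat.card (P : Subgroup H) = 17 ∨ Nat.card (P : Subgroup H) = 17 ^ 2 := by
    obtain ⟨n, hn⟩ := IsPGroup.iff_card.1 P.2
    have hdvd : Nat.card (P : Subgroup H) ∣ (35).factorial := by
      have h1 : Nat.card (P : Subgroup H) ∣ Nat.card (Equiv.Perm Ω) :=
        (Subgroup.card_subgroup_dvd_card _).trans (Subgroup.card_subgroup_dvd_card H)
      rwa [Nat.card_eq_fintype_card (α := Equiv.Perm Ω), Fintype.card_perm, hΩ] at h1
    rw [hn] at hdvd ⊢
    rcases n with - | - | - | n
    · exfalso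
      obtain ⟨y, hy⟩ := exists_ne a
      refine hy ((hfix y).1 fun p hp => ?_)
      obtain ⟨hss, -⟩ := Nat.card_eq_one_iff_unique.1 hn
      have : (⟨p, hp⟩ : (P : Subgroup H)) = 1 := Subsingleton.elim _ _
      rw [show p = 1 from congrArg Subtype.val this, one_smul]
    · left; rfl
    · right; rfl
    · exfalso
      have : 17 ^ 3 ∣ (35).factorial := (pow_dvd_pow 17 (by omega)).trans hdvd
      revert this
      decide
  have hPc : ∀ p ∈ (P : Subgroup H), ∀ p' ∈ (P : Subgroup H), p * p' = p' * p := by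
    intro p hp p' hp'
    refine congrArg Subtype.val (?_ : (⟨p, hp⟩ * ⟨p', hp'⟩ : (P : Subgroup H)) = ⟨p', hp'⟩ * ⟨p, hp⟩)
    rcases hP1 with h | h
    · have := isCyclic_of_prime_card h
      let := IsCyclic.commGroup (α := (P : Subgroup H))
      exact mul_comm _ _
    · exact IsPGroup.commutative_of_card_eq_prime_sq h _ _
  rcases hP1 with hP | hP
  swap
  · -- a 17-cycle
    obtain ⟨b, hb⟩ := exists_ne a
    set D := MulAction.stabilizer (P : Subgroup H) b
    have hDcard : Nat.card D = 17 := by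
      have h := MulAction.index_stabilizer (G := (P : Subgroup H)) b
      rw [← Nat.card_coe_set_eq] at h
      have h2 := D.card_mul_index
      rw [h, hO17 b hb, hP] at h2
      omega
    obtain ⟨⟨x, hxD⟩, hx⟩ : ∃ x : D, x ≠ 1 := by
      have : Nontrivial D := Finite.one_lt_card_iff_nontrivial.1 (by rw [hDcard]; norm_num)
      exact exists_ne 1
    set c : Equiv.Perm Ω := ((x : H) : Equiv.Perm Ω) with hc
    have hxord : orderOf c = 17 := by
      have h1 : orderOf (⟨x, hxD⟩ : D) = 17 :=
        ((Nat.dvd_prime (by norm_num)).1 ((orderOf_dvd_natCard _).trans hDcard.dvd)).resolve_left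
          fun h => hx (orderOf_eq_one_iff.1 h)
      have := orderOf_injective (H.subtype.comp ((P : Subgroup H).subtype.comp D.subtype))
        (Subtype.val_injective.comp (Subtype.val_injective.comp Subtype.val_injective)) ⟨x, hxD⟩
      rw [h1] at this
      exact this
    have hfixO : ∀ z ∈ O b, c z = z := by
      rintro _ ⟨⟨p, hp⟩, rfl⟩
      show (x : H) • p • b = p • b
      rw [smul_smul, hPc _ x.2 _ hp, mul_smul]
      exact congrArg (p • ·) hxD
    have hca : c a = a := hPa _ x.2
    have hbO : a ∉ O b := by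
      rintro ⟨⟨p, hp⟩, hpa⟩
      exact hb (smul_left_cancel p (hpa.trans (hPa p hp).symm))
    have hsupp : c.support.card ≤ 17 := by
      have hdis : Disjoint c.support (insert a (O b).toFinset) := by
        rw [Finset.disjoint_left]
        intro z hz hz'
        rw [Equiv.Perm.mem_support] at hz
        rcases Finset.mem_insert.1 hz' with h | h
        · exact hz (h ▸ hca)
        · exact hz (hfixO z (Set.mem_toFinset.1 h))
      have h := Finset.card_union_of_disjoint hdis
      rw [Finset.card_insert_of_notMem (by simpa using hbO), Set.toFinset_card,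
        ← Nat.card_eq_fintype_card, hO17 b hb] at h
      have := Finset.card_le_univ (c.support ∪ insert a (O b).toFinset)
      omega
    have hcyc : c.IsCycle := Equiv.Perm.isCycle_of_prime_order (by rw [hxord]; norm_num)
      (by omega)
    have hsupp' : c.support.card = 17 := by rw [← hcyc.orderOf, hxord]
    have hA : alternatingGroup Ω ≤ H := Cfsg.Agent.S0713.result H hprim (p := 17) (by norm_num)
      (by omega) (by omega) hcyc hsupp' (x : H).2
    obtain ⟨s, hs⟩ := hcyc.nonempty_support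
    have hrest : ((c.supportᶜ).erase a).card = 17 := by
      rw [Finset.card_erase_of_mem (by simpa [Equiv.Perm.mem_support] using hca), Finset.card_compl]
      omega
    obtain ⟨t, u, ht, hu, htu⟩ := Finset.one_lt_card_iff.1 (show 1 < ((c.supportᶜ).erase a).card by omega)
    simp only [Finset.mem_erase, Finset.mem_compl] at ht hu
    have hst : s ≠ t := fun h => ht.2 (h ▸ hs)
    have hsu : s ≠ u := fun h => hu.2 (h ▸ hs)
    have hsa : s ≠ a := fun h => by
      rw [Equiv.Perm.mem_support, h] at hs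
      exact hs hca
    set σ : Equiv.Perm Ω := Equiv.swap s t * Equiv.swap t u with hσ
    have hσA : σ ∈ alternatingGroup Ω := by
      rw [Equiv.Perm.mem_alternatingGroup, hσ, map_mul, Equiv.Perm.sign_swap hst,
        Equiv.Perm.sign_swap htu]
      rfl
    have hσa : σ a = a := by
      rw [hσ, Equiv.Perm.mul_apply, Equiv.swap_apply_of_ne_of_ne ht.1.symm hu.1.symm,
        Equiv.swap_apply_of_ne_of_ne hsa.symm ht.1.symm]
    have hy := hnorm ⟨σ, hA hσA⟩ hσa _ x.2
    have hcomm : c * (σ * c * σ⁻¹) = (σ * c * σ⁻¹) * c :=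
      congrArg Subtype.val (hPc _ x.2 _ hy)
    have hmem : ∀ z, z ∈ (σ * c * σ⁻¹).support ↔ σ⁻¹ z ∈ c.support := fun z => by
      simp only [Equiv.Perm.mem_support, Equiv.Perm.mul_apply]
      rw [not_iff_not]
      exact ⟨fun h => σ.injective (by simpa using h), fun h => by rw [h]; simp⟩
    have hinv : ∀ (i : ℕ) z, z ∈ (σ * c * σ⁻¹).support → (c ^ i) z ∈ (σ * c * σ⁻¹).support := by
      intro i z hz
      rw [Equiv.Perm.mem_support] at hz ⊢
      intro h
      have hc2 : Commute (c ^ i) (σ * c * σ⁻¹) := (show Commute c (σ * c * σ⁻¹) from hcomm).pow_left i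
      rw [← Equiv.Perm.mul_apply, ← hc2.eq, Equiv.Perm.mul_apply] at h
      exact hz ((c ^ i).injective h)
    obtain ⟨z, hz, hzs⟩ := Finset.exists_mem_ne (show 1 < c.support.card by omega) s
    have hσz : σ⁻¹ z = z := by
      rw [Equiv.Perm.inv_eq_iff_eq, hσ, Equiv.Perm.mul_apply,
        Equiv.swap_apply_of_ne_of_ne (fun h : z = t => ht.2 (h ▸ hz)) (fun h : z = u => hu.2 (h ▸ hz)),
        Equiv.swap_apply_of_ne_of_ne hzs (fun h : z = t => ht.2 (h ▸ hz))]
    obtain ⟨i, hi⟩ := hcyc.exists_pow_eq (Equiv.Perm.mem_support.1 hz) (Equiv.Perm.mem_support.1 hs)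
    have hs' := hinv i z ((hmem z).2 (hσz.symm ▸ hz))
    rw [hi, hmem] at hs'
    have hσs : σ⁻¹ s = u := by
      rw [Equiv.Perm.inv_eq_iff_eq, hσ, Equiv.Perm.mul_apply, Equiv.swap_apply_right,
        Equiv.swap_apply_right]
    rw [hσs] at hs'
    exact hu.2 hs'
  -- P of order 17
  set S := MulAction.stabilizer H a with hS
  have hPcyc : IsCyclic (P : Subgroup H) := isCyclic_of_prime_card hP
  have hPS : (P : Subgroup H) ≤ S := fun p hp => hPa p hp
  set PS : Subgroup S := (P : Subgroup H).subgroupOf S with hPSdef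
  have hPSn : PS.Normal := ⟨fun p hp h => hnorm (h : H) h.2 _ hp⟩
  have hPScard : Nat.card PS = 17 := by
    rw [Nat.card_congr (Subgroup.subgroupOfEquivOfLe hPS).toEquiv, hP]
  have hPScyc : IsCyclic PS := isCyclic_of_prime_card hPScard
  have hAcyc : IsCyclic (MulAut PS) := by
    have : IsCyclic (ZMod (Nat.card PS))ˣ := by rw [hPScard]; infer_instance
    exact (IsCyclic.mulAutMulEquiv PS).isCyclic.2 this
  have hAcard : Nat.card (MulAut PS) = 16 := by
    rw [Nat.card_congr (IsCyclic.mulAutMulEquiv PS).toEquiv, hPScard, Nat.card_eq_fintype_card]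
    rfl
  let φ : S →* MulAut PS := MulAut.conjNormal
  have hker : ∀ k : S, k ∈ φ.ker → ∀ p ∈ (P : Subgroup H), (k : H) * p = p * (k : H) := by
    intro k hk p hp
    have h := congrArg (fun z : MulAut PS => ((z ⟨⟨p, hPS hp⟩, hp⟩ : PS) : S)) (MonoidHom.mem_ker.1 hk)
    simp only [φ, MulAut.conjNormal_apply, MulAut.one_apply] at h
    have h' : (k : H) * p * (k : H)⁻¹ = p := congrArg Subtype.val h
    exact mul_inv_eq_iff_eq_mul.1 h'
  obtain ⟨b, hb⟩ := exists_ne a
  have hobP : ∀ z, a ∈ O z → z = a := by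
    rintro z ⟨⟨p, hp⟩, hpa⟩
    exact smul_left_cancel p (hpa.trans (hPa p hp).symm)
  have htwo : ∀ z w, z ∉ O b → z ≠ a → w ∉ O b → w ≠ a → w ∈ O z := by
    intro z w hz hza hw hwa
    by_contra hwz
    have hd1 : Disjoint (O b).toFinset (O z).toFinset := by
      rw [Set.disjoint_toFinset]
      refine Set.disjoint_left.2 fun y hy hy' => hz ?_
      change z ∈ MulAction.orbit (P : Subgroup H) b
      rw [← MulAction.orbit_eq_iff.2 hy, MulAction.orbit_eq_iff.2 hy']
      exact MulAction.mem_orbit_self z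
    have hw' : w ∉ (O b).toFinset ∪ (O z).toFinset := by simp [hw, hwz]
    have ha' : a ∉ insert w ((O b).toFinset ∪ (O z).toFinset) := by
      simp only [Finset.mem_insert, Finset.mem_union, Set.mem_toFinset]
      rintro (h | h | h)
      · exact hwa h.symm
      · exact hb (hobP b h)
      · exact hza (hobP z h)
    have h := Finset.card_le_univ (insert a (insert w ((O b).toFinset ∪ (O z).toFinset)))
    rw [Finset.card_insert_of_notMem ha', Finset.card_insert_of_notMem hw',
      Finset.card_union_of_disjoint hd1, Set.toFinset_card, Set.toFinset_card,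
      ← Nat.card_eq_fintype_card, ← Nat.card_eq_fintype_card, hO17 b hb, hO17 z hza, hΩ] at h
    omega
  have hPk : ∀ k : S, k ∈ φ.ker → (k : H) • b ∈ O b → (k : H) ∈ (P : Subgroup H) := by
    intro k hk hkb
    have hne : ∀ z, z ≠ a → (k : H) • z ≠ a := fun z hz h =>
      hz (smul_left_cancel (k : H) (h.trans k.2.symm))
    have hmapO : ∀ z, (k : H) • z ∈ O z := by
      intro z
      by_cases hza : z = a
      · subst hza
        rw [show (k : H) • z = z from k.2]
        exact MulAction.mem_orbit_self z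
      by_cases hz : z ∈ O b
      · obtain ⟨⟨p, hp⟩, rfl⟩ := hz
        obtain ⟨⟨q, hq⟩, hqb⟩ := hkb
        have hqb' : q • b = (k : H) • b := hqb
        refine ⟨⟨q, hq⟩, ?_⟩
        show q • p • b = (k : H) • p • b
        rw [smul_smul, hPc q hq p hp, mul_smul, hqb', smul_smul, smul_smul, hker k hk p hp]
      · refine htwo z _ hz hza (fun h => hz ?_) (hne z hza)
        obtain ⟨⟨p, hp⟩, hpb⟩ := h
        obtain ⟨⟨q, hq⟩, hqb⟩ := hkb
        have hpb' : p • b = (k : H) • z := hpb
        have hqb' : q • b = (k : H) • b := hqb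
        refine ⟨⟨p * q⁻¹, (P : Subgroup H).mul_mem hp ((P : Subgroup H).inv_mem hq)⟩, ?_⟩
        apply smul_left_cancel (k : H)
        show (k : H) • (p * q⁻¹) • b = (k : H) • z
        rw [smul_smul, hker k hk _ ((P : Subgroup H).mul_mem hp ((P : Subgroup H).inv_mem hq)),
          mul_smul, ← hqb', ← mul_smul, inv_mul_cancel_right, hpb']
    have h17 : (k : H) ^ 17 = 1 := by
      refine Subtype.ext (Equiv.ext fun z => ?_)
      show ((k : H) ^ 17) • z = z
      obtain ⟨⟨q, hq⟩, hqz⟩ := hmapO z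
      have hqz' : q • z = (k : H) • z := hqz
      have hi : ∀ i : ℕ, ((k : H) ^ i) • z = q ^ i • z := by
        intro i
        induction i with
        | zero => simp
        | succ i ih =>
          rw [pow_succ', mul_smul, ih, smul_smul, hker k hk _ (pow_mem hq i), mul_smul, ← hqz',
            smul_smul, ← pow_succ]
      rw [hi, show q ^ 17 = 1 by
        have := pow_card_eq_one' (x := (⟨q, hq⟩ : (P : Subgroup H)))
        rw [hP] at this
        exact congrArg Subtype.val this, one_smul]
    have hz : IsPGroup 17 (Subgroup.zpowers (k : H)) := by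
      rintro ⟨_, i, rfl⟩
      refine ⟨1, Subtype.ext ?_⟩
      show ((k : H) ^ i) ^ (17 ^ 1) = 1
      rw [pow_one, ← zpow_natCast, ← zpow_mul, mul_comm, zpow_mul, zpow_natCast, h17, one_zpow]
    have hn : Subgroup.zpowers (k : H) ≤ Subgroup.normalizer ((P : Subgroup H) : Set H) := by
      rw [Subgroup.zpowers_le, Subgroup.mem_normalizer_iff]
      intro p
      refine ⟨fun hp => hnorm _ k.2 _ hp, fun hp => ?_⟩
      have := hnorm _ (S.inv_mem k.2) _ hp
      simpa [mul_assoc] using this
    have hsup := IsPGroup.to_sup_of_normal_right' hz P.2 hn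
    have := P.3 hsup le_sup_right
    rw [← this]
    exact Subgroup.mem_sup_left (Subgroup.mem_zpowers _)
  have hC0le : Nat.card φ.ker ≤ 34 := by
    by_cases hex : ∃ k : φ.ker, ((k : S) : H) • b ∉ O b
    · obtain ⟨k0, hk0⟩ := hex
      let f : φ.ker → Bool × (P : Subgroup H) := fun k =>
        if h : ((k : S) : H) • b ∈ O b then (true, ⟨_, hPk _ k.2 h⟩)
        else (false, ⟨(((k0⁻¹ * k : φ.ker) : S) : H), hPk _ (k0⁻¹ * k).2 (by
          have hne : ∀ k : φ.ker, ((k : S) : H) • b ≠ a := fun k h' =>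
            hb (smul_left_cancel ((k : S) : H) (h'.trans (k : S).2.symm))
          obtain ⟨⟨p, hp⟩, hpk⟩ := htwo _ _ hk0 (hne k0) h (hne k)
          have hpk' : p • ((k0 : S) : H) • b = ((k : S) : H) • b := hpk
          show ((((k0 : S) : H))⁻¹ * ((k : S) : H)) • b ∈ O b
          rw [mul_smul, ← hpk', smul_smul p, ← hker _ k0.2 p hp, mul_smul, inv_smul_smul]
          exact ⟨⟨p, hp⟩, rfl⟩)⟩)
      have hf : Function.Injective f := by
        intro k k' h
        simp only [f] at h
        split_ifs at h with h1 h2 h2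
        · exact Subtype.ext (Subtype.ext (by simpa using h))
        · simp at h
        · simp at h
        · simpa using h
      refine (Nat.card_le_card_of_injective f hf).trans ?_
      rw [Nat.card_prod, hP, Nat.card_eq_fintype_card, Fintype.card_bool]
    · push Not at hex
      refine (Nat.card_le_card_of_injective (fun k : φ.ker => (⟨_, hPk _ k.2 (hex k)⟩ : (P : Subgroup H)))
        fun k k' h => ?_).trans (by omega)
      exact Subtype.ext (Subtype.ext (by simpa using h))
  have hPker : PS ≤ φ.ker := by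
    intro p hp
    refine MonoidHom.mem_ker.2 (MulEquiv.ext fun q => Subtype.ext (Subtype.ext ?_))
    simp only [φ, MulAut.conjNormal_apply, MulAut.one_apply]
    show (p : H) * ((q : S) : H) * (p : H)⁻¹ = ((q : S) : H)
    exact mul_inv_eq_iff_eq_mul.2 (hPc _ hp _ q.2)
  have hC0dvd : 17 ∣ Nat.card φ.ker := hPScard ▸ Subgroup.card_dvd_of_le hPker
  have hC0 : Nat.card φ.ker ∣ 34 := by
    obtain ⟨m, hm⟩ := hC0dvd
    have : 0 < Nat.card φ.ker := Nat.card_pos
    rw [hm] at hC0le this ⊢
    obtain rfl | rfl : m = 1 ∨ m = 2 := by omega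
    · norm_num
    · norm_num
  have hScard : Nat.card S ∣ 544 := by
    have h1 := φ.ker.card_mul_index
    rw [Subgroup.index_ker] at h1
    rw [← h1, show 544 = 34 * 16 by rfl]
    exact mul_dvd_mul hC0 (hAcard ▸ Subgroup.card_subgroup_dvd_card _)
  have h17S : 17 ∣ Nat.card S := hP ▸ Subgroup.card_dvd_of_le hPS
  obtain ⟨m, hm⟩ := h17S
  rw [hm, show 544 = 17 * 2 ^ 5 by rfl] at hScard
  obtain ⟨e, -, rfl⟩ := (Nat.dvd_prime_pow Nat.prime_two).1 (Nat.dvd_of_mul_dvd_mul_left (by norm_num) hScard)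
  have hHcard : Nat.card H = 35 * (17 * 2 ^ e) := by
    rw [← hm, ← S.card_mul_index, hS, MulAction.index_stabilizer_of_transitive,
      Nat.card_eq_fintype_card (α := Ω), hΩ, mul_comm]
  -- a Sylow 2-subgroup
  have : Fact (Nat.Prime 2) := ⟨Nat.prime_two⟩
  have : Fact (Nat.Prime 5) := ⟨by norm_num⟩
  let T0 : Sylow 2 S := default
  have hfac : ∀ c : ℕ, Odd c → (c * 2 ^ e).factorization 2 = e := by
    intro c hc
    rw [Nat.factorization_mul (by rcases hc with ⟨r, hr⟩; omega) (by positivity),
      Nat.Prime.factorization_pow Nat.prime_two]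
    simp [Nat.factorization_eq_zero_of_not_dvd (show ¬ 2 ∣ c from fun h => by
      rcases hc with ⟨r, hr⟩; omega)]
  have hT0 : Nat.card (T0 : Subgroup S) = 2 ^ e := by
    rw [T0.card_eq_multiplicity, hm, hfac 17 (by decide)]
  let ψ : (T0 : Subgroup S) →* MulAut PS := φ.comp (T0 : Subgroup S).subtype
  have hψker : Nat.card ψ.ker ≤ 2 := by
    let f : ψ.ker →* φ.ker := ((T0 : Subgroup S).subtype.comp ψ.ker.subtype).codRestrict φ.ker fun k => k.2
    have hf : Function.Injective f := fun k k' h => by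
      exact Subtype.ext (Subtype.ext (congrArg (fun z : φ.ker => (z : S)) h))
    have h1 : Nat.card ψ.ker ∣ 34 := (Subgroup.card_dvd_of_injective f hf).trans hC0
    have h2 : Nat.card ψ.ker ∣ 2 ^ e := hT0 ▸ Subgroup.card_subgroup_dvd_card _
    obtain ⟨i, -, hi⟩ := (Nat.dvd_prime_pow Nat.prime_two).1 h2
    rw [hi] at h1 ⊢
    rcases i with - | - | i
    · simp
    · simp
    · exfalso
      have : 4 ∣ 34 := (Dvd.intro_left (2 ^ i) (by rw [pow_add, pow_add]; ring)).trans h1
      omega
  have hψc : ψ.ker ≤ Subgroup.center (T0 : Subgroup S) := by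
    intro k hk
    rw [Subgroup.mem_center_iff]
    intro t
    by_cases hk1 : k = 1
    · simp [hk1]
    have ht : t * k * t⁻¹ ∈ ψ.ker := ψ.normal_ker.conj_mem k hk t
    have htne : t * k * t⁻¹ ≠ 1 := fun h => hk1 (conj_eq_one_iff.1 h)
    have : Fintype ψ.ker := Fintype.ofFinite _
    rw [Nat.card_eq_fintype_card] at hψker
    by_contra hne
    have h3 : ({(⟨k, hk⟩ : ψ.ker), (⟨t * k * t⁻¹, ht⟩ : ψ.ker), 1} : Finset ψ.ker).card = 3 := by
      rw [Finset.card_insert_of_notMem, Finset.card_pair]
      · exact fun h => htne (congrArg Subtype.val h)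
      · simp only [Finset.mem_insert, Finset.mem_singleton]
        rintro (h | h)
        · exact hne (eq_mul_inv_iff_mul_eq.1 (congrArg Subtype.val h)).symm
        · exact hk1 (congrArg Subtype.val h)
    have h5 := Finset.card_le_univ ({(⟨k, hk⟩ : ψ.ker), (⟨t * k * t⁻¹, ht⟩ : ψ.ker), 1} : Finset ψ.ker)
    rw [h3] at h5
    omega
  have hTc := commutative_of_cyclic_center_quotient ψ hψc
  let W : Subgroup (T0 : Subgroup S) :=
    { carrier := {w | w ^ 2 = 1}
      one_mem' := one_pow 2
      mul_mem' := fun {x y} hx hy => by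
        show (x * y) ^ 2 = 1
        rw [(show Commute x y from hTc x y).mul_pow, hx, hy, one_mul]
      inv_mem' := fun {x} hx => by show x⁻¹ ^ 2 = 1; rw [inv_pow, hx, inv_one] }
  have hW : Nat.card W ≤ 4 := by
    let θ : W →* MulAut PS := ψ.comp W.subtype
    have h1 := θ.ker.card_mul_index
    rw [Subgroup.index_ker] at h1
    have h2 : Nat.card θ.ker ≤ 2 := by
      refine le_trans (Nat.card_le_card_of_injective
        (fun k : θ.ker => (⟨(k : W), k.2⟩ : ψ.ker)) fun k k' h => ?_) hψker
      exact Subtype.ext (Subtype.ext (congrArg (fun z : ψ.ker => (z : (T0 : Subgroup S))) h))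
    have h3 : Nat.card θ.range ≤ 2 := by
      have hle := IsCyclic.card_pow_eq_one_le (α := MulAut PS) (n := 2) (by norm_num)
      rw [Nat.card_eq_fintype_card, Fintype.card_subtype]
      refine le_trans (Finset.card_le_card fun y hy => ?_) hle
      obtain ⟨w, rfl⟩ := MonoidHom.mem_range.1 (Finset.mem_filter.1 hy).2
      simp only [Finset.mem_filter, Finset.mem_univ, true_and]
      rw [← map_pow, show w ^ 2 = 1 from Subtype.ext w.2, map_one]
    rw [← h1]
    exact le_trans (Nat.mul_le_mul h2 h3) le_rfl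
  let T : Sylow 2 H := Sylow.ofCard ((T0 : Subgroup S).map S.subtype) (by
    rw [Subgroup.card_map_of_injective S.subtype_injective, hT0, hHcard, ← mul_assoc,
      hfac (35 * 17) (by decide)])
  have hTmem : ∀ x, x ∈ (T : Subgroup H) ↔ ∃ y ∈ (T0 : Subgroup S), (y : H) = x := fun x =>
    Subgroup.mem_map
  have hTcomm : ∀ x ∈ (T : Subgroup H), ∀ y ∈ (T : Subgroup H), x * y = y * x := by
    intro x hx y hy
    obtain ⟨x', hx', rfl⟩ := (hTmem x).1 hx
    obtain ⟨y', hy', rfl⟩ := (hTmem y).1 hy
    exact congrArg Subtype.val (congrArg Subtype.val (hTc ⟨x', hx'⟩ ⟨y', hy'⟩) :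
      x' * y' = y' * x')
  have hT4 : Nat.card {w : (T : Subgroup H) // (w : H) ^ 2 = 1} ≤ 4 := by
    refine le_trans (Nat.card_le_card_of_surjective (fun w : W =>
      (⟨⟨((w : (T0 : Subgroup S)) : S), (hTmem _).2 ⟨_, (w : (T0 : Subgroup S)).2, rfl⟩⟩,
        congrArg (fun z : (T0 : Subgroup S) => ((z : S) : H)) w.2⟩ :
          {w : (T : Subgroup H) // (w : H) ^ 2 = 1})) ?_) hW
    rintro ⟨⟨x, hx⟩, hx2⟩
    obtain ⟨y, hy, rfl⟩ := (hTmem x).1 hx
    exact ⟨⟨⟨y, hy⟩, Subtype.ext (Subtype.ext hx2)⟩, rfl⟩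
  have hTP := T.2
  have hNC : Subgroup.normalizer ((T : Subgroup H) : Set H) ≤
      Subgroup.centralizer ((T : Subgroup H) : Set H) := by
    intro g hg
    set C := Subgroup.centralizer ((T : Subgroup H) : Set H) with hC
    have hgN : ∀ n : ℕ, ∀ t ∈ (T : Subgroup H), g ^ n * t * (g ^ n)⁻¹ ∈ (T : Subgroup H) :=
      fun n t ht => (Subgroup.mem_normalizer_iff.1 (pow_mem hg n) t).1 ht
    have hgen : ∀ q n : ℕ, q.Prime → 5 ≤ q → n * q = Nat.card H → g ^ n ∈ C := by
      intro q n hq hq5 hnq
      rw [hC, Subgroup.mem_centralizer_iff]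
      intro t ht
      have := commute_of_small (T : Subgroup H) hTP hTcomm hT4 (g ^ n) q hq hq5
        (by rw [← pow_mul, hnq]; exact pow_card_eq_one') (hgN n) t ht
      exact (mul_inv_eq_iff_eq_mul.1 this).symm
    have h2 : g ^ 595 ∈ C := by
      have hh : g ^ 595 ∈ (T : Subgroup H) := by
        have hz : IsPGroup 2 (Subgroup.zpowers (g ^ 595)) := by
          rintro ⟨_, i, rfl⟩
          refine ⟨e, Subtype.ext ?_⟩
          show ((g ^ 595) ^ i) ^ (2 ^ e) = 1
          rw [← zpow_natCast, ← zpow_mul, mul_comm, zpow_mul, zpow_natCast, ← pow_mul,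
            show 595 * 2 ^ e = Nat.card H by rw [hHcard]; ring, pow_card_eq_one', one_zpow]
        have hsup := IsPGroup.to_sup_of_normal_right' hz T.2 (by
          rw [Subgroup.zpowers_le]; exact pow_mem hg _)
        rw [← T.3 hsup le_sup_right]
        exact Subgroup.mem_sup_left (Subgroup.mem_zpowers _)
      rw [hC, Subgroup.mem_centralizer_iff]
      intro t ht
      exact hTcomm t ht _ hh
    have h5 := hgen 5 (119 * 2 ^ e) (by norm_num) le_rfl (by rw [hHcard]; ring)
    have h7 := hgen 7 (85 * 2 ^ e) (by norm_num) (by norm_num) (by rw [hHcard]; ring)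
    have h17 := hgen 17 (35 * 2 ^ e) (by norm_num) (by norm_num) (by rw [hHcard]; ring)
    have h := pow_gcd_mem C g _ _ (pow_gcd_mem C g _ _ (pow_gcd_mem C g _ _ h5 h7) h17) h2
    have hgcd : Nat.gcd (Nat.gcd (Nat.gcd (119 * 2 ^ e) (85 * 2 ^ e)) (35 * 2 ^ e)) 595 = 1 := by
      rw [Nat.gcd_mul_right, Nat.gcd_mul_right]
      rw [show Nat.gcd (Nat.gcd 119 85) 35 = 1 by decide, one_mul]
      exact (Nat.Coprime.pow_left e (by decide : Nat.Coprime 2 595)).gcd_eq_one
    rwa [hgcd, pow_one] at h
  have hcompl := MonoidHom.ker_transferSylow_isComplement' T hNC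
  set K := (MonoidHom.transferSylow T hNC).ker with hK
  have hKcard : Nat.card K = 595 := by
    have h1 := hcompl.card_mul
    rw [show Nat.card (T : Subgroup H) = 2 ^ e by
      show Nat.card ((T0 : Subgroup S).map S.subtype) = _
      rw [Subgroup.card_map_of_injective S.subtype_injective, hT0], hHcard] at h1
    exact Nat.eq_of_mul_eq_mul_right (by positivity : 0 < 2 ^ e) (h1.trans (by ring))
  let Q : Sylow 5 K := default
  have hQ : Nat.card (Q : Subgroup K) = 5 := by
    rw [Q.card_eq_multiplicity, hKcard, show 595 = 5 * 119 by rfl,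
      Nat.factorization_mul (by norm_num) (by norm_num),
      Finsupp.add_apply, Nat.Prime.factorization_self (by norm_num),
      Nat.factorization_eq_zero_of_not_dvd (by norm_num)]
    norm_num
  have hn5 : Nat.card (Sylow 5 K) = 1 := by
    have h1 := Sylow.card_dvd_index Q
    have h2 : (Q : Subgroup K).index = 119 := by
      have h := (Q : Subgroup K).card_mul_index
      rw [hQ, hKcard] at h
      omega
    rw [h2] at h1
    have h3 : Nat.card (Sylow 5 K) % 5 = 1 := card_sylow_modEq_one 5 K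
    have h4 := Nat.le_of_dvd (by norm_num) h1
    revert h1 h3 h4
    generalize Nat.card (Sylow 5 K) = n
    intro h1 h3 h4
    have : ∀ n : ℕ, n < 120 → n ∣ 119 → n % 5 = 1 → n = 1 := by decide +kernel
    exact this n (by omega) h1 h3
  have hQn : (Q : Subgroup K).Normal := by
    have : Subsingleton (Sylow 5 K) := (Nat.card_eq_one_iff_unique.1 hn5).1
    refine Subgroup.normalizer_eq_top_iff.1 (eq_top_iff.2 fun g _ => ?_)
    exact Sylow.smul_eq_iff_mem_normalizer.1 (Subsingleton.elim (g • Q) Q)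
  have hQc := Sylow.characteristic_of_normal Q hQn
  set N := (Q : Subgroup K).map K.subtype with hN
  have hNn : N.Normal := ConjAct.normal_of_characteristic_of_normal
  have hNcard : Nat.card N = 5 := by
    rw [hN, Subgroup.card_map_of_injective K.subtype_injective, hQ]
  have hNfix : MulAction.fixedPoints N Ω ≠ Set.univ := by
    intro h
    have : N = ⊥ := by
      rw [Subgroup.eq_bot_iff_forall]
      intro n hn
      refine Subtype.ext (Equiv.ext fun z => ?_)
      exact (Set.eq_univ_iff_forall.1 h z) ⟨n, hn⟩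
    rw [this] at hNcard
    simp at hNcard
  have htrans : MulAction.IsPretransitive N Ω :=
    hprim.isQuasiPreprimitive.isPretransitive_of_normal hNfix
  have h35 := MulAction.index_stabilizer_of_transitive N (x := a)
  have hdvd := (MulAction.stabilizer N a).index_dvd_card
  rw [h35, Nat.card_eq_fintype_card (α := Ω), hΩ, hNcard] at hdvd
  norm_num at hdvd

/-- No finite group has exactly 35 Sylow 17-subgroups. -/
theorem result {G : Type*} [Group G] [Finite G] : Nat.card (Sylow 17 G) ≠ 35 := by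
  classical
  intro hcard
  have : Fact (Nat.Prime 17) := ⟨by norm_num⟩
  have : Finite (Sylow 17 G) := Nat.finite_of_card_ne_zero (by omega)
  let : Fintype (Sylow 17 G) := Fintype.ofFinite _
  let ρ : G →* Equiv.Perm (Sylow 17 G) := MulAction.toPermHom G (Sylow 17 G)
  let H := ρ.range
  have hsmul : ∀ (g : G) (Q : Sylow 17 G), (⟨ρ g, ⟨g, rfl⟩⟩ : H) • Q = g • Q := fun _ _ => rfl
  have : MulAction.IsPretransitive H (Sylow 17 G) := ⟨fun x y => by
    obtain ⟨g, hg⟩ := MulAction.exists_smul_eq G x y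
    exact ⟨⟨ρ g, ⟨g, rfl⟩⟩, hg⟩⟩
  let P0 : Sylow 17 G := default
  let P : Sylow 17 H := P0.mapSurjective ρ.rangeRestrict_surjective
  have hPmem : ∀ h : H, h ∈ (P : Subgroup H) ↔ ∃ p ∈ (P0 : Subgroup G), ρ.rangeRestrict p = h :=
    fun h => Subgroup.mem_map
  refine no_perm35 (by rw [← Nat.card_eq_fintype_card, hcard]) H P0 P (fun Q => ⟨fun hQ => ?_,
    fun hQ p hp => ?_⟩) (fun h hh p hp => ?_)
  · have hle : (P0 : Subgroup G) ≤ Subgroup.normalizer ((Q : Subgroup G) : Set G) := fun p hp =>
      Sylow.smul_eq_iff_mem_normalizer.1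
        (hQ (ρ.rangeRestrict p) ((hPmem _).2 ⟨p, hp, rfl⟩))
    have hsup := IsPGroup.to_sup_of_normal_right' P0.2 Q.2 hle
    have h1 := P0.3 hsup le_sup_left
    have h2 := Q.3 hsup le_sup_right
    exact Sylow.ext (h2.symm.trans h1)
  · subst hQ
    obtain ⟨q, hq, rfl⟩ := (hPmem p).1 hp
    exact Sylow.smul_eq_iff_mem_normalizer.2 (Subgroup.le_normalizer hq)
  · obtain ⟨_, g, rfl⟩ := h
    obtain ⟨q, hq, rfl⟩ := (hPmem p).1 hp
    refine (hPmem _).2 ⟨g * q * g⁻¹, ?_, Subtype.ext (by simp)⟩
    exact (Subgroup.mem_normalizer_iff.1 (Sylow.smul_eq_iff_mem_normalizer.1 hh) q).1 hq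

end Cfsg.Agent.S4236
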