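import Cfsg.Statements.S4237
import Cfsg.Agent.SubgroupCount.Reduction

set_option autoImplicit false
open Cfsg

namespace Cfsg.Agent.S4237

/-- Let G be a finite group, p a prime and a a natural number such that p^(a+1) divides the order of G. Then the number of subgroups of G of order p^a is congruent to 1 or to 1 + p modulo p². -/
theorem result {G : Type*} [Group G] [Finite G] (p a : ℕ) (hp : p.Prime) (hdvd : p ^ (a + 1) ∣ Nat.card G) :
    Nat.card {H : Subgroup G // Nat.card H = p ^ a} ≡ 1 [MOD p ^ 2] ∨
      Nat.card {H : Subgroup G // Nat.card H = p ^ a} ≡ 1 + p [MOD p ^ 2] := by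
  have := Fact.mk hp
  obtain ⟨P⟩ := (inferInstance : Nonempty (Sylow p G))
  obtain ⟨n, hn⟩ := IsPGroup.iff_card.1 P.2
  have han : a < n := by
    have h := (P : Subgroup G).card_mul_index
    rw [hn] at h
    have hcop : Nat.Coprime (p ^ (a + 1)) (P : Subgroup G).index :=
      Nat.Coprime.pow_left _ (hp.coprime_iff_not_dvd.2 P.not_dvd_index)
    have hd : p ^ (a + 1) ∣ p ^ n := hcop.dvd_of_dvd_mul_right (h ▸ hdvd)
    have := (Nat.pow_dvd_pow_iff_le_right hp.one_lt).1 hd
    omega
  rw [← SubgroupCount.subs_eq_card, ← ZMod.natCast_eq_natCast_iff, ← ZMod.natCast_eq_natCast_iff,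
    SubgroupCount.subs_congr_sylow P hn han]
  simpa using SubgroupCount.one_or_one_add hn han.le

end Cfsg.Agent.S4237
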