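import Cfsg.Statements.S4238
import Cfsg.Agent.Fusion.Frobenius
import Cfsg.Agent.Fusion.Residual
import Cfsg.Agent.Core.Frattini
import Cfsg.Agent.Core.PCore
import Cfsg.Agent.Coprime.Basic
import Cfsg.Agent.Coprime.PCoreTools

set_option autoImplicit false
open Cfsg

namespace Cfsg.Agent.S4238

open Subgroup
open scoped Pointwise commutatorElement

theorem generic {X : Type*} [Group X] [Finite X] {p : ℕ} [Fact p.Prime] (W : Subgroup X) [W.Normal]
    (hWp : IsPGroup p W) (hW1 : W ≠ ⊥) (hWc : ∀ a ∈ W, ∀ b ∈ W, a * b = b * a) (u : X)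
    (htop : W ⊔ zpowers u = ⊤) (hu : (orderOf u).Coprime p) (hu1 : u ≠ 1)
    (hfaith : ∀ i : ℤ, (∀ w ∈ W, w * u ^ i = u ^ i * w) → u ^ i = 1)
    (hfix : ∀ w ∈ W, u * w = w * u → w = 1) :
    Cfsg.pPrimeCore p X = ⊥ ∧ ¬ ∃ k : X, orderOf k = Monoid.exponent X := by
  classical
  have hpp : p.Prime := Fact.out
  have hdec : ∀ x : X, ∃ w ∈ W, ∃ i : ℤ, x = w * u ^ i := by
    intro x
    have hx : x ∈ ((W ⊔ zpowers u : Subgroup X) : Set X) := by rw [htop]; trivial
    rw [Subgroup.normal_mul] at hx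
    obtain ⟨w, hw, _, ⟨i, rfl⟩, rfl⟩ := hx
    exact ⟨w, hw, i, rfl⟩
  refine ⟨?_, ?_⟩
  · set K := Cfsg.pPrimeCore p X
    have hdisj : Disjoint K W := by
      rw [disjoint_iff]
      obtain ⟨j, hj⟩ := IsPGroup.iff_card.mp hWp
      exact inf_eq_bot_of_coprime (hj ▸ (Core.coprime_card_pPrimeCore.pow_right j))
    refine eq_bot_iff.mpr fun z hz => ?_
    obtain ⟨w, hw, i, rfl⟩ := hdec z
    have hi : u ^ i = 1 := hfaith i fun v hv => by
      have h := Subgroup.commute_of_normal_of_disjoint K W inferInstance inferInstance hdisj _ _ hz hv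
      apply mul_left_cancel (a := w)
      calc w * (v * u ^ i) = (w * v) * u ^ i := (mul_assoc _ _ _).symm
        _ = (v * w) * u ^ i := by rw [hWc w hw v hv]
        _ = v * (w * u ^ i) := mul_assoc _ _ _
        _ = w * u ^ i * v := h.eq.symm
        _ = w * (u ^ i * v) := mul_assoc _ _ _
    rw [hi, mul_one] at hz ⊢
    exact (disjoint_iff.mp hdisj).le ⟨hz, hw⟩
  · rintro ⟨k, hk⟩
    set m := orderOf u with hm
    have hpm : p * m ∣ orderOf k := by
      rw [hk]
      refine hu.symm.mul_dvd_of_dvd_of_dvd ?_ (Monoid.order_dvd_exponent u)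
      obtain ⟨w, hw, hw1⟩ := (bot_or_exists_ne_one W).resolve_left hW1
      obtain ⟨j, hj⟩ := IsPGroup.iff_orderOf.mp hWp ⟨w, hw⟩
      rw [Subgroup.orderOf_mk] at hj
      have hj0 : j ≠ 0 := fun e => hw1 (orderOf_eq_one_iff.mp (by rw [hj, e, pow_zero]))
      exact ((dvd_pow_self p hj0).trans hj.symm.dvd).trans (Monoid.order_dvd_exponent w)
    obtain ⟨w, hw, i, rfl⟩ := hdec k
    have hpow : ∀ d : ℕ, (w * u ^ i) ^ d * ((u ^ i) ^ d)⁻¹ ∈ W := by
      intro d
      rw [← QuotientGroup.eq_one_iff, QuotientGroup.mk_mul, QuotientGroup.mk_inv, QuotientGroup.mk_pow,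
        QuotientGroup.mk_pow, QuotientGroup.mk_mul, (QuotientGroup.eq_one_iff w).mpr hw, one_mul,
        mul_inv_cancel]
    set d := orderOf (u ^ i) with hd
    have hkd : (w * u ^ i) ^ d ∈ W := by simpa [hd, pow_orderOf_eq_one] using hpow d
    have hdm : d ∣ m := orderOf_dvd_of_pow_eq_one (by
      rw [← zpow_natCast, ← zpow_mul, mul_comm, zpow_mul, zpow_natCast, hm, pow_orderOf_eq_one, one_zpow])
    have hmd : m ∣ d := by
      obtain ⟨j, hj⟩ := IsPGroup.iff_orderOf.mp hWp ⟨_, hkd⟩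
      rw [Subgroup.orderOf_mk] at hj
      have h1 : orderOf (w * u ^ i) ∣ d * p ^ j := by
        apply orderOf_dvd_of_pow_eq_one
        rw [pow_mul, ← hj, pow_orderOf_eq_one]
      exact (hu.pow_right j).dvd_of_dvd_mul_right (((dvd_mul_left m p).trans hpm).trans h1)
    set a := (w * u ^ i) ^ m with ha
    have haW : a ∈ W := by
      obtain ⟨c, hc⟩ := hdm
      rw [ha, hc, pow_mul]
      exact W.pow_mem hkd c
    have hui : Commute (u ^ i) a := by
      have h1 : Commute (w * u ^ i) a := (Commute.refl _).pow_right m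
      have h2 : Commute w a := hWc w hw a haW
      have h3 := h2.inv_left.mul_left h1
      rwa [inv_mul_cancel_left] at h3
    have hu' : u ∈ zpowers (u ^ i) := by
      have hle : zpowers (u ^ i) ≤ zpowers u := zpowers_le.mpr (zpow_mem (mem_zpowers u) i)
      rw [eq_of_le_of_card_ge hle (by
        rw [Nat.card_zpowers, Nat.card_zpowers]
        exact Nat.le_of_dvd (orderOf_pos _) hmd)]
      exact mem_zpowers u
    obtain ⟨t, ht⟩ := hu'
    have ha1 : a = 1 := hfix a haW (ht ▸ (hui.zpow_left t).eq)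
    have hle := Nat.le_of_dvd (orderOf_pos u) (hpm.trans (orderOf_dvd_of_pow_eq_one ha1))
    have hmpos : 0 < m := orderOf_pos u
    have := hpp.one_lt
    nlinarith

theorem exists_bad_section {G : Type*} [Group G] [Finite G] {p : ℕ} [Fact p.Prime] (Q : Subgroup G)
    (hQ : IsPGroup p Q) (g : G) (hg : g ∈ normalizer (Q : Set G)) (hgo : (orderOf g).Coprime p)
    (hgc : g ∉ centralizer (Q : Set G)) :
    ∃ (H : Subgroup G) (N : Subgroup H) (_ : N.Normal), Cfsg.pPrimeCore p (H ⧸ N) = ⊥ ∧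
      ¬ ∃ k : H ⧸ N, orderOf k = Monoid.exponent (H ⧸ N) := by
  classical
  induction hn : Nat.card Q using Nat.strong_induction_on generalizing Q with
  | _ n IH =>
  subst hn
  by_cases hsub : ∃ Y : Subgroup G, Y < Q ∧ g ∈ normalizer (Y : Set G) ∧ g ∉ centralizer (Y : Set G)
  · obtain ⟨Y, hY, hYn, hYc⟩ := hsub
    exact IH _ (Set.Finite.card_lt_card (Set.toFinite _) (SetLike.coe_ssubset_coe.mpr hY)) Y
      (hQ.to_le hY.le) hYn hYc rfl
  push Not at hsub
  set H := Q ⊔ zpowers g with hH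
  have hQn : H ≤ normalizer (Q : Set G) := sup_le le_normalizer (zpowers_le.mpr hg)
  set F := (frattini Q).map Q.subtype with hF
  have hFQ : F ≤ Q := map_subtype_le _
  have hQ1 : Q ≠ ⊥ := fun e => hgc (mem_centralizer_iff.mpr fun x hx => by
    rw [e, SetLike.mem_coe, mem_bot] at hx; simp [hx])
  have hFn : normalizer (Q : Set G) ≤ normalizer (F : Set G) := Coprime.le_normalizer_map_of_characteristic le_rfl _ inferInstance
  set Cg := zpowers g ⊓ centralizer (Q : Set G) with hCg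
  set N' := F ⊔ Cg with hN'
  have hN'H : N' ≤ H := sup_le (hFQ.trans le_sup_left) (inf_le_left.trans le_sup_right)
  have hCn : H ≤ normalizer (Cg : Set G) := by
    refine sup_le ?_ ?_
    · exact (le_centralizer_iff.mp (inf_le_right : Cg ≤ centralizer (Q : Set G))).trans (centralizer_le_normalizer _)
    · refine (le_centralizer_iff.mp ?_).trans (centralizer_le_normalizer _)
      intro c hc
      exact mem_centralizer_iff.mpr fun x hx => by
        obtain ⟨a, rfl⟩ := mem_zpowers_iff.mp hx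
        obtain ⟨b, rfl⟩ := mem_zpowers_iff.mp hc.1
        exact ((Commute.refl g).zpow_zpow a b).eq
  haveI : (F.subgroupOf H).Normal := (normal_subgroupOf_iff_le_normalizer (hFQ.trans le_sup_left)).mpr (hQn.trans hFn)
  haveI : (Cg.subgroupOf H).Normal := (normal_subgroupOf_iff_le_normalizer (inf_le_left.trans le_sup_right)).mpr hCn
  set N := F.subgroupOf H ⊔ Cg.subgroupOf H with hN
  haveI hNn : N.Normal := inferInstance
  have hdisj : Q ⊓ zpowers g = ⊥ := by
    obtain ⟨j, hj⟩ := IsPGroup.iff_card.mp hQ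
    refine inf_eq_bot_of_coprime ?_
    rw [hj, Nat.card_zpowers]
    exact (hgo.pow_right j).symm
  have hmemF : ∀ q : H, (q : G) ∈ Q → q ∈ N → (q : G) ∈ F := by
    intro q hq hqN
    have hq' : q ∈ ((F.subgroupOf H ⊔ Cg.subgroupOf H : Subgroup H) : Set H) := hqN
    rw [normal_mul] at hq'
    obtain ⟨f, hf, c, hc, rfl⟩ := hq'
    have hcQ : (c : G) ∈ Q := by
      have := mul_mem (inv_mem (hFQ hf)) hq
      simpa using this
    have hc1 : (c : G) = 1 := by rw [← mem_bot, ← hdisj]; exact ⟨hcQ, (show (c : G) ∈ Cg from hc).1⟩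
    simpa [hc1, mem_subgroupOf] using hf
  set π := QuotientGroup.mk' N with hπ
  have hπs := QuotientGroup.mk'_surjective N
  haveI : (Q.subgroupOf H).Normal := (normal_subgroupOf_iff_le_normalizer le_sup_left).mpr hQn
  set W := (Q.subgroupOf H).map π with hW
  haveI : W.Normal := Subgroup.Normal.map inferInstance π hπs
  have hgH : g ∈ H := mem_sup_right (mem_zpowers g)
  set u := π ⟨g, hgH⟩ with hu
  have hQW : ∀ q (hq : q ∈ Q), π ⟨q, mem_sup_left hq⟩ ∈ W := fun q hq => mem_map_of_mem π hq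
  have hWp : IsPGroup p W := (hQ.comap_subtype (K := H)).map π
  have hWc : ∀ a ∈ W, ∀ b ∈ W, a * b = b * a := by
    rintro _ ⟨a, ha, rfl⟩ _ ⟨b, hb, rfl⟩
    rw [← commutatorElement_eq_one_iff_mul_comm, ← map_commutatorElement, hπ, QuotientGroup.mk'_apply,
      QuotientGroup.eq_one_iff]
    refine mem_sup_left (?_ : ((⁅a, b⁆ : H) : G) ∈ F)
    haveI := hQ.isNilpotent
    refine ⟨⁅(⟨a, ha⟩ : Q), ⟨b, hb⟩⁆, Core.commutator_le_frattini ?_, ?_⟩
    · exact commutator_mem_commutator (mem_top _) (mem_top _)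
    · simp [commutatorElement_def]
  have htop : W ⊔ zpowers u = ⊤ := by
    rw [hW, hu, ← MonoidHom.map_zpowers, ← Subgroup.map_sup, ← Subgroup.map_top_of_surjective π hπs]
    congr 1
    rw [eq_top_iff]
    have : H ≤ (Q.subgroupOf H ⊔ zpowers (⟨g, hgH⟩ : H)).map H.subtype := by
      rw [Subgroup.map_sup, subgroupOf_map_subtype, inf_eq_left.mpr le_sup_left, MonoidHom.map_zpowers]
      exact le_rfl
    intro x _
    obtain ⟨y, hy, he⟩ := this x.2
    rwa [← Subtype.ext he]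
  have hfaith : ∀ i : ℤ, (∀ w ∈ W, w * u ^ i = u ^ i * w) → u ^ i = 1 := by
    intro i h
    have hz : zpowers (g ^ i) ≤ normalizer (Q : Set G) := zpowers_le.mpr (zpow_mem hg i)
    have h1 : zpowers (g ^ i) ≤ centralizer (Q : Set G) := by
      refine Coprime.le_centralizer_of_trivial_mod_frattini hz ?_ ?_
      · obtain ⟨j, hj⟩ := IsPGroup.iff_card.mp (hQ.to_subgroup (frattini Q))
        rw [Nat.card_zpowers, hj]
        exact (Nat.Coprime.coprime_dvd_left (orderOf_dvd_of_mem_zpowers (zpow_mem (mem_zpowers g) i)) hgo).pow_right j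
      · intro a ha q hq
        obtain ⟨k, rfl⟩ := mem_zpowers_iff.mp ha
        have hmem : (g ^ i) ^ k * q * ((g ^ i) ^ k)⁻¹ * q⁻¹ ∈ Q :=
          mul_mem ((mem_normalizer_iff.mp (zpow_mem (zpow_mem hg i) k) q).mp hq) (inv_mem hq)
        refine hmemF ⟨_, mem_sup_left hmem⟩ hmem ?_
        rw [← QuotientGroup.eq_one_iff]
        have hc : Commute (π ⟨q, mem_sup_left hq⟩) ((u ^ i) ^ k) :=
          (show Commute _ (u ^ i) from h _ (hQW q hq)).zpow_right k
        have e : (⟨_, mem_sup_left hmem⟩ : H) = ((⟨g, hgH⟩ : H) ^ i) ^ k * ⟨q, mem_sup_left hq⟩ *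
            (((⟨g, hgH⟩ : H) ^ i) ^ k)⁻¹ * (⟨q, mem_sup_left hq⟩ : H)⁻¹ := by
          apply Subtype.ext; simp
        show π _ = 1
        rw [e, map_mul, map_mul, map_mul, map_inv, map_inv, map_zpow, map_zpow, ← hu, ← hc.eq]
        group
    rw [hu, ← map_zpow, hπ, QuotientGroup.mk'_apply, QuotientGroup.eq_one_iff]
    refine mem_sup_right (?_ : ((⟨g, hgH⟩ : H) ^ i : H).1 ∈ Cg)
    rw [SubgroupClass.coe_zpow]
    exact ⟨zpow_mem (mem_zpowers g) i, h1 (mem_zpowers _)⟩
  have hnontriv : ¬ ∀ w ∈ W, u * w = w * u := by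
    intro h
    have := hfaith 1 (fun w hw => by rw [zpow_one]; exact (h w hw).symm)
    rw [zpow_one, hu, hπ, QuotientGroup.mk'_apply, QuotientGroup.eq_one_iff] at this
    have hq' : (⟨g, hgH⟩ : H) ∈ ((F.subgroupOf H ⊔ Cg.subgroupOf H : Subgroup H) : Set H) := this
    rw [normal_mul] at hq'
    obtain ⟨f, hf, c, hc, hfc⟩ := hq'
    have hfc' : (f : G) * (c : G) = g := congrArg Subtype.val hfc
    have hf1 : (f : G) = 1 := by
      rw [← mem_bot, ← hdisj]
      refine ⟨hFQ hf, ?_⟩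
      rw [show (f : G) = g * (c : G)⁻¹ by rw [← hfc', mul_inv_cancel_right]]
      exact Subgroup.mul_mem _ (mem_zpowers g) (Subgroup.inv_mem _ (show (c : G) ∈ Cg from hc).1)
    rw [hf1, one_mul] at hfc'
    exact hgc (hfc' ▸ (show (c : G) ∈ Cg from hc).2)
  have hW1 : W ≠ ⊥ := fun e => hnontriv fun w hw => by
    rw [e, mem_bot] at hw
    simp [hw]
  have hu1 : u ≠ 1 := fun e => hnontriv fun w _ => by simp [e]
  have huo : (orderOf u).Coprime p := by
    refine Nat.Coprime.coprime_dvd_left ?_ hgo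
    rw [← Subgroup.orderOf_mk g hgH]
    exact orderOf_map_dvd π _
  have hfix : ∀ w ∈ W, u * w = w * u → w = 1 := by
    intro w0 hw0 hw0c
    by_contra hne
    have hcW : ∀ w ∈ W, u * w * u⁻¹ ∈ W := fun w hw => Subgroup.Normal.conj_mem inferInstance w hw u
    let θ : W →* W := MonoidHom.mk' (fun w => ⟨u * w * u⁻¹ * (w : H ⧸ N)⁻¹, mul_mem (hcW w w.2) (inv_mem w.2)⟩)
      (fun a b => Subtype.ext (by
        simp only [Subgroup.coe_mul, mul_inv_rev]
        have h1 := hWc _ (hcW b b.2) _ (inv_mem a.2)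
        calc u * ((a : H ⧸ N) * b) * u⁻¹ * ((b : H ⧸ N)⁻¹ * (a : H ⧸ N)⁻¹)
            = u * a * u⁻¹ * ((u * b * u⁻¹ * (b : H ⧸ N)⁻¹) * (a : H ⧸ N)⁻¹) := by group
          _ = u * a * u⁻¹ * ((a : H ⧸ N)⁻¹ * (u * b * u⁻¹ * (b : H ⧸ N)⁻¹)) := by
              rw [hWc _ (mul_mem (hcW b b.2) (inv_mem b.2)) _ (inv_mem a.2)]
          _ = _ := by group))
    have hθ : ∀ w : W, (θ w : H ⧸ N) = u * w * u⁻¹ * (w : H ⧸ N)⁻¹ := fun _ => rfl
    have hker : θ ⟨w0, hw0⟩ = 1 := Subtype.ext (by rw [hθ, hw0c]; simp)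
    have hrange : θ.range ≠ ⊤ := fun e => by
      have hinj : Function.Injective θ :=
        Finite.injective_iff_surjective.mpr (MonoidHom.range_eq_top.mp e)
      exact hne (congrArg Subtype.val (hinj (hker.trans θ.map_one.symm)))
    let Y : Subgroup G := ((θ.range.map W.subtype).comap π ⊓ Q.subgroupOf H).map H.subtype
    have hYQ : Y ≤ Q := by rintro _ ⟨x, hx, rfl⟩; exact hx.2
    have hYlt : Y < Q := by
      refine lt_of_le_of_ne hYQ fun e => hrange (eq_top_iff.mpr fun w _ => ?_)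
      obtain ⟨x, hx, hxw⟩ := w.2
      obtain ⟨y, hy, hyx⟩ := (e.symm ▸ (show (x : G) ∈ Q from hx) : (x : G) ∈ Y)
      obtain ⟨v, hv, hvy⟩ := hy.1
      rw [Subtype.ext hyx] at hvy
      have : v = w := Subtype.ext (hvy.trans hxw)
      exact this ▸ hv
    have hYn : g ∈ normalizer (Y : Set G) := by
      refine mem_normalizer_iff_map_conj_eq.mpr (eq_of_le_of_card_ge ?_
        (card_map_of_injective (MulAut.conj g).injective).ge)
      rintro _ ⟨_, ⟨y, ⟨⟨v, ⟨z, hz⟩, hvy⟩, hyQ⟩, rfl⟩, rfl⟩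
      refine ⟨⟨g, hgH⟩ * y * ⟨g, hgH⟩⁻¹, ⟨⟨θ ⟨u * z * u⁻¹, hcW z z.2⟩, ⟨_, rfl⟩, ?_⟩, ?_⟩, by simp⟩
      · rw [map_mul, map_mul, map_inv, ← hu, ← hvy, ← hz]
        show u * (u * z * u⁻¹) * u⁻¹ * (u * z * u⁻¹)⁻¹ = u * (u * z * u⁻¹ * (z : H ⧸ N)⁻¹) * u⁻¹
        group
      · show g * (y : G) * g⁻¹ ∈ Q
        exact (mem_normalizer_iff.mp hg _).mp hyQ
    have hYc := mem_centralizer_iff.mp (hsub Y hYlt hYn)
    have hθ2 : ∀ w : W, u * (θ w : H ⧸ N) = (θ w : H ⧸ N) * u := by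
      intro w
      obtain ⟨x, hx, hxw⟩ := (θ w).2
      have h1 : (x : G) ∈ Y := ⟨x, ⟨⟨θ w, ⟨w, rfl⟩, hxw.symm⟩, hx⟩, rfl⟩
      have h2 : x * (⟨g, hgH⟩ : H) = ⟨g, hgH⟩ * x := Subtype.ext (hYc _ h1)
      rw [← hxw, hu, ← map_mul, ← map_mul, h2]
    refine hnontriv fun w hw => ?_
    set c := (θ ⟨w, hw⟩ : H ⧸ N) with hc
    have hcom : Commute u c := hθ2 ⟨w, hw⟩
    have hpow : ∀ k : ℕ, u ^ k * w * (u ^ k)⁻¹ = c ^ k * w := by
      intro k
      induction k with
      | zero => simp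
      | succ k ih =>
        calc u ^ (k + 1) * w * (u ^ (k + 1))⁻¹ = u * (u ^ k * w * (u ^ k)⁻¹) * u⁻¹ := by
              rw [pow_succ']; group
          _ = u * (c ^ k * w) * u⁻¹ := by rw [ih]
          _ = (u * c ^ k * u⁻¹) * (u * w * u⁻¹) := by group
          _ = c ^ k * (c * w) := by
              rw [(hcom.pow_right k).eq, mul_inv_cancel_right]
              congr 1
              rw [hc, hθ]; group
          _ = _ := by rw [pow_succ]; exact (mul_assoc _ _ _).symm
    have h2 := hpow (orderOf u)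
    rw [pow_orderOf_eq_one, one_mul, inv_one, mul_one, right_eq_mul] at h2
    obtain ⟨e, he⟩ := IsPGroup.iff_orderOf.mp hWp (θ ⟨w, hw⟩)
    rw [← Subgroup.orderOf_coe, ← hc] at he
    have hc1 : c = 1 := orderOf_eq_one_iff.mp
      (Nat.eq_one_of_dvd_coprimes ((huo.pow_right e).symm) he.dvd (orderOf_dvd_of_pow_eq_one h2))
    rw [hc, hθ] at hc1
    exact (mul_inv_eq_iff_eq_mul.mp (mul_inv_eq_one.mp hc1))
  exact ⟨H, N, hNn, generic W hWp hW1 hWc u htop huo hu1 hfaith hfix⟩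

/-- Let G be a finite group and p a prime. Then G has a normal p-complement if and only if every section K = H/N of G (N a normal subgroup of a subgroup H) whose largest normal subgroup of order prime to p is trivial contains an element whose order equals the exponent of K. -/
theorem result {G : Type*} [Group G] [Finite G] (p : ℕ) [Fact p.Prime] :
    Cfsg.HasNormalPComplement p G ↔
      ∀ (H : Subgroup G) (N : Subgroup H) [N.Normal], Cfsg.pPrimeCore p (H ⧸ N) = ⊥ →
        ∃ k : H ⧸ N, orderOf k = Monoid.exponent (H ⧸ N) := by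
  refine ⟨fun hG H N hN hcore => ?_, fun h => ?_⟩
  · have h1 := Fusion.hasNormalPComplement_quotient (Fusion.hasNormalPComplement_subgroup hG H) N
    have h2 : Cfsg.pResidual p (H ⧸ N) = ⊥ := by
      refine eq_bot_iff.mpr (le_trans ?_ hcore.le)
      exact Core.le_pPrimeCore (Fusion.coprime_card_pResidual_of_hasNormalPComplement h1)
    have hX : IsPGroup p (H ⧸ N) := by
      intro x
      obtain ⟨k, hk⟩ := Fusion.isPGroup_quotient_pResidual (G := H ⧸ N) (p := p) (QuotientGroup.mk x)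
      rw [← QuotientGroup.mk_pow, QuotientGroup.eq_one_iff] at hk
      exact ⟨k, (Subgroup.eq_bot_iff_forall _).mp h2 _ hk⟩
    obtain ⟨k, hk⟩ := Finite.exists_max (fun x : H ⧸ N => orderOf x)
    refine ⟨k, Nat.dvd_antisymm (Monoid.order_dvd_exponent k) (Monoid.exponent_dvd.mpr fun x => ?_)⟩
    obtain ⟨a, ha⟩ := IsPGroup.iff_orderOf.mp hX x
    obtain ⟨b, hb⟩ := IsPGroup.iff_orderOf.mp hX k
    have h3 := hk x
    simp only [ha, hb] at h3 ⊢
    exact pow_dvd_pow p ((Nat.pow_le_pow_iff_right (Fact.out : p.Prime).one_lt).mp h3)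
  · refine Fusion.hasNormalPComplement_of_frobenius fun Q hQ g hg hgo => ?_
    by_contra hgc
    obtain ⟨H, N, hN, h1, h2⟩ := exists_bad_section Q hQ g hg hgo hgc
    exact h2 (@h H N hN h1)

end Cfsg.Agent.S4238
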