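import Cfsg.Statements.S4242
import Cfsg.Agent.Fusion.Frobenius
import Cfsg.Agent.Fusion.PGroup
import Cfsg.Agent.Core.MinimalNonNilpotent
import Cfsg.Agent.Core.Basics
import Cfsg.Agent.Core.PCore
import Cfsg.Agent.Coprime.Basic
import Cfsg.Agent.OddLocal.Basic

set_option autoImplicit false
open Cfsg

namespace Cfsg.Agent.S4242

open Subgroup

section aux
variable {G : Type*} [Group G] [Finite G] {p : ℕ}

theorem exists_coatom_nilpotent (h : ∀ M : Subgroup G, IsCoatom M → p ∣ Nat.card M → Group.IsNilpotent M)
    {H : Subgroup G} (hH : H ≠ ⊤) (hp : p ∣ Nat.card H) : Group.IsNilpotent H := by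
  obtain ⟨M, hM, hHM⟩ := (eq_top_or_exists_le_coatom H).resolve_left hH
  haveI := h M hM (hp.trans (card_dvd_of_le hHM))
  exact Group.isNilpotent_congr (subgroupOfEquivOfLe hHM) |>.mp inferInstance

theorem comm_of_proper (h : ∀ M : Subgroup G, IsCoatom M → p ∣ Nat.card M → Group.IsNilpotent M)
    [Fact p.Prime] {P L : Subgroup G} (hP : IsPGroup p P) (hP1 : P ≠ ⊥) (hL : ¬ p ∣ Nat.card L)
    (hne : P ⊔ L ≠ ⊤) : L ≤ centralizer (P : Set G) := by
  have hp : p ∣ Nat.card P := by
    obtain ⟨j, hj⟩ := IsPGroup.iff_card.mp hP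
    rcases j with _ | j
    · exact absurd (card_eq_one.mp (by simpa using hj)) hP1
    · exact hj ▸ dvd_pow_self p (Nat.succ_ne_zero j)
  have hn := exists_coatom_nilpotent h hne (hp.trans (card_dvd_of_le le_sup_left))
  intro l hl
  refine mem_centralizer_iff.mpr fun x hx => ?_
  have hc : (orderOf (⟨x, mem_sup_left hx⟩ : (P ⊔ L : Subgroup G))).Coprime
      (orderOf (⟨l, mem_sup_right hl⟩ : (P ⊔ L : Subgroup G))) := by
    rw [Subgroup.orderOf_mk, Subgroup.orderOf_mk]
    obtain ⟨j, hj⟩ := IsPGroup.iff_orderOf.mp hP ⟨x, hx⟩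
    rw [Subgroup.orderOf_mk] at hj
    rw [hj]
    refine (((Fact.out : p.Prime).coprime_iff_not_dvd.mpr fun hd => hL (hd.trans ?_))).pow_left j
    exact Subgroup.orderOf_dvd_natCard L hl
  exact congrArg Subtype.val (OddLocal.commute_of_coprime_orderOf hn hc).eq

end aux

/-- Let G be a finite group and p a prime dividing its order. Every maximal subgroup of G of order divisible by p is nilpotent if and only if G is nilpotent, or G is a minimal non-nilpotent group, or G is the internal direct product of a normal subgroup of order p and a normal minimal non-nilpotent subgroup of order prime to p. -/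
theorem result {G : Type*} [Group G] [Finite G] (p : ℕ) (hp : p.Prime) (hpG : p ∣ Nat.card G) :
    (∀ M : Subgroup G, IsCoatom M → p ∣ Nat.card M → Group.IsNilpotent M) ↔
      (Group.IsNilpotent G ∨ Cfsg.IsMinimalNonNilpotent G ∨
        ∃ Z K : Subgroup G, Z.Normal ∧ K.Normal ∧ Z ⊓ K = ⊥ ∧ Z ⊔ K = ⊤ ∧ Nat.card Z = p ∧
          Cfsg.IsMinimalNonNilpotent K ∧ ¬ p ∣ Nat.card K) := by
  classical
  haveI := Fact.mk hp
  constructor
  · intro h
    rcases Classical.em (Group.IsNilpotent G) with hnil | hnil
    · exact Or.inl hnil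
    rcases Classical.em (Cfsg.IsMinimalNonNilpotent G) with hmin | hmin
    · exact Or.inr (Or.inl hmin)
    refine Or.inr (Or.inr ?_)
    simp only [Cfsg.IsMinimalNonNilpotent, not_and, not_forall] at hmin
    obtain ⟨H₀, hH₀, hH₀n⟩ := hmin hnil
    obtain ⟨M, hM, hHM⟩ := (eq_top_or_exists_le_coatom H₀).resolve_left hH₀
    have hMn : ¬ Group.IsNilpotent M := fun hn => hH₀n (by
      haveI := hn
      exact Group.isNilpotent_congr (subgroupOfEquivOfLe hHM) |>.mp inferInstance)
    have hMp : ¬ p ∣ Nat.card M := fun hd => hMn (h M hM hd)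
    obtain ⟨P⟩ := (inferInstance : Nonempty (Sylow p G))
    have hP1 : (P : Subgroup G) ≠ ⊥ := P.ne_bot_of_dvd_card hpG
    have hPn : (P : Subgroup G).Normal := by
      by_contra hPn
      set R := Cfsg.pCore p G with hR
      haveI : R.Normal := inferInstance
      -- local subgroups are nilpotent
      have hloc : ∀ Q : Subgroup G, IsPGroup p Q → Q ≠ ⊥ → ¬ Q.Normal →
          ∀ g ∈ normalizer (Q : Set G), (orderOf g).Coprime p → g ∈ centralizer (Q : Set G) := by
        intro Q hQ hQ1 hQn g hg hgo
        refine comm_of_proper h hQ hQ1 (L := zpowers g) ?_ ?_ (mem_zpowers g)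
        · rw [Nat.card_zpowers]; exact hp.coprime_iff_not_dvd.mp hgo.symm
        · intro e
          exact hQn (normalizer_eq_top_iff.mp (top_le_iff.mp (e ▸ sup_le le_normalizer (zpowers_le.mpr hg))))
      have hfr : Cfsg.HasNormalPComplement p (G ⧸ R) := by
        refine Fusion.hasNormalPComplement_of_frobenius fun Q hQ g hg hgo => ?_
        set π := QuotientGroup.mk' R
        rcases eq_or_ne Q ⊥ with hQ1 | hQ1
        · refine mem_centralizer_iff.mpr fun x hx => ?_
          rw [hQ1, SetLike.mem_coe, mem_bot] at hx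
          simp [hx]
        set Q' := Q.comap π
        have hker : π.ker = R := QuotientGroup.ker_mk' R
        have hQ'p : IsPGroup p Q' := hQ.comap_of_ker_isPGroup π (by rw [hker]; exact Core.pCore_isPGroup)
        have hQ'1 : Q' ≠ ⊥ := fun e => hQ1 (by
          rw [← Subgroup.map_comap_eq_self_of_surjective (QuotientGroup.mk'_surjective R) Q, show Q.comap π = ⊥ from e, Subgroup.map_bot])
        have hQ'n : ¬ Q'.Normal := fun e => hQ1 (by
          haveI := e
          rw [← Subgroup.map_comap_eq_self_of_surjective (QuotientGroup.mk'_surjective R) Q]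
          refine (Subgroup.map_eq_bot_iff _).mpr ?_
          rw [QuotientGroup.ker_mk']
          exact Core.le_pCore hQ'p)
        obtain ⟨x, rfl⟩ := QuotientGroup.mk'_surjective R g
        -- replace `x` by its `p'`-part
        obtain ⟨j, hj⟩ : ∃ j, (orderOf (x ^ p ^ j)).Coprime p := by
          refine ⟨(orderOf x).factorization p, ?_⟩
          rw [orderOf_pow_of_dvd (pow_ne_zero _ hp.pos.ne') (Nat.ordProj_dvd _ p)]
          exact (Nat.coprime_ordCompl hp (orderOf_pos x).ne').symm
        have hx' : x ∈ normalizer (Q' : Set G) := by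
          refine mem_normalizer_iff.mpr fun y => ?_
          simp only [Q', Subgroup.mem_comap, map_mul, map_inv]
          exact mem_normalizer_iff.mp hg (π y)
        have hc := hloc Q' hQ'p hQ'1 hQ'n _ (pow_mem hx' _) hj
        have hπx : π (x ^ p ^ j) ∈ centralizer (Q : Set (G ⧸ R)) := by
          refine mem_centralizer_iff.mpr fun y hy => ?_
          obtain ⟨y, rfl⟩ := QuotientGroup.mk'_surjective R y
          rw [← map_mul, ← map_mul, mem_centralizer_iff.mp hc y hy]
        obtain ⟨u, hu⟩ := exists_pow_eq_self_of_coprime ((hgo.pow_right j).symm)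
        rw [← hu, ← map_pow]
        exact pow_mem hπx u
      obtain ⟨T, K, hKn, hKc⟩ := hfr
      haveI := hKn
      set K' := K.comap (QuotientGroup.mk' R) with hK'
      have hMK : M ≤ K' := by
        intro m hm
        show (QuotientGroup.mk' R m) ∈ K
        have hd : (orderOf (QuotientGroup.mk' R m)).Coprime p := by
          refine Nat.Coprime.coprime_dvd_left (orderOf_map_dvd _ m) ?_
          exact (hp.coprime_iff_not_dvd.mpr fun hd => hMp (hd.trans (Subgroup.orderOf_dvd_natCard M hm))).symm
        obtain ⟨i, hi⟩ := IsPGroup.iff_card.mp T.2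
        obtain ⟨u, hu⟩ := exists_pow_eq_self_of_coprime ((hd.pow_right i).symm)
        rw [← hu]
        refine pow_mem ?_ u
        have := pow_index_mem K (QuotientGroup.mk' R m)
        rwa [hKc.symm.index_eq_card, hi] at this
      have hK'ne : K' ≠ ⊤ := fun e => by
        have hK : K = ⊤ := by
          rw [← Subgroup.map_comap_eq_self_of_surjective (QuotientGroup.mk'_surjective R) K, ← hK', e,
            Subgroup.map_top_of_surjective _ (QuotientGroup.mk'_surjective R)]
        have hT : (T : Subgroup (G ⧸ R)) = ⊥ := by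
          have h1 := hKc.disjoint
          rw [hK] at h1
          exact top_disjoint.mp h1
        have hPR : (P : Subgroup G) ≤ R := by
          obtain ⟨S', hS'⟩ := (P.2.map (QuotientGroup.mk' R)).exists_le_sylow
          have hS'1 : (S' : Subgroup (G ⧸ R)) = ⊥ := by
            rw [← card_eq_one, Sylow.card_eq_multiplicity, ← T.card_eq_multiplicity, hT, card_bot]
          rw [hS'1, le_bot_iff, Subgroup.map_eq_bot_iff, QuotientGroup.ker_mk'] at hS'
          exact hS'
        exact hPn ((le_antisymm (Core.pCore_le_sylow P) hPR) ▸ (inferInstance : R.Normal))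
      have hMK' : M = K' := (hM.le_iff.mp hMK).resolve_left hK'ne |>.symm
      have hR1 : R = ⊥ := by
        have hRM : R ≤ M := hMK' ▸ (by
          intro r hr
          show QuotientGroup.mk' R r ∈ K
          rw [QuotientGroup.mk'_apply, (QuotientGroup.eq_one_iff r).mpr hr]
          exact one_mem K)
        obtain ⟨i, hi⟩ := IsPGroup.iff_card.mp (Core.pCore_isPGroup (G := G) (p := p))
        rcases i with _ | i
        · exact card_eq_one.mp (by simpa using hi)
        · exact absurd ((dvd_pow_self p (Nat.succ_ne_zero i)).trans (hi ▸ card_dvd_of_le hRM)) hMp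
      haveI hMnorm : M.Normal := hMK' ▸ inferInstance
      have hcop : (Nat.card (P : Subgroup G)).Coprime (Nat.card M) := by
        obtain ⟨i, hi⟩ := IsPGroup.iff_card.mp P.2
        rw [hi]
        exact (hp.coprime_iff_not_dvd.mpr hMp).pow_left i
      haveI := P.2.isNilpotent
      have hPM : (P : Subgroup G) ⊔ M = ⊤ := by
        by_contra hne
        have := (hM.le_iff.mp (le_sup_right : M ≤ (P : Subgroup G) ⊔ M)).resolve_left hne
        exact hMp ((P.dvd_card_of_dvd_card hpG).trans (this ▸ card_dvd_of_le le_sup_left))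
      have hcent : M ≤ centralizer ((P : Subgroup G) : Set G) := by
        have hH : (centralizer ((P : Subgroup G) : Set G)).subgroupOf M = ⊤ := by
          refine Core.eq_top_of_forall_sylow fun r hr hrd => ?_
          haveI := Fact.mk hr
          obtain ⟨S, hS⟩ := Coprime.exists_invariant_sylow (A := (P : Subgroup G)) (K := M)
            (by rw [normalizer_eq_top]; exact le_top) hcop (Or.inl inferInstance) r
          refine ⟨S, fun s hs => ?_⟩
          refine mem_subgroupOf.mpr (comm_of_proper h P.2 hP1 (L := (S : Subgroup M).map M.subtype) ?_ ?_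
            ⟨s, hs, rfl⟩)
          · exact fun hd => hMp (hd.trans (card_dvd_of_le (map_subtype_le _)))
          · intro e
            haveI hLn : ((S : Subgroup M).map M.subtype).Normal := normalizer_eq_top_iff.mp
              (top_le_iff.mp (e ▸ sup_le hS le_normalizer))
            have h1 := Core.card_sup_mul_card_inf (P : Subgroup G) ((S : Subgroup M).map M.subtype)
            have h2 := Core.card_sup_mul_card_inf (P : Subgroup G) M
            have i1 : (P : Subgroup G) ⊓ M = ⊥ := inf_eq_bot_of_coprime hcop
            have i2 : (P : Subgroup G) ⊓ (S : Subgroup M).map M.subtype = ⊥ :=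
              eq_bot_iff.mpr ((inf_le_inf_left _ (map_subtype_le _)).trans i1.le)
            rw [e, i2, card_bot, mul_one, card_top, card_map_of_injective (subtype_injective _)] at h1
            rw [hPM, i1, card_bot, mul_one, card_top, h1] at h2
            have h3 : (S : Subgroup M) = ⊤ := eq_top_of_card_eq _ (Nat.eq_of_mul_eq_mul_left Nat.card_pos h2)
            exact hMn (by
              haveI := S.2.isNilpotent
              exact Group.isNilpotent_congr ((MulEquiv.subgroupCongr h3).trans Subgroup.topEquiv) |>.mp inferInstance)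
        intro m hm
        exact mem_subgroupOf.mp ((eq_top_iff' _).mp hH ⟨m, hm⟩)
      refine hPn (normalizer_eq_top_iff.mp (top_le_iff.mp ?_))
      rw [← hPM]
      exact sup_le le_normalizer (hcent.trans (centralizer_le_normalizer _))
    haveI := hPn
    have hPM : (P : Subgroup G) ⊔ M = ⊤ := by
      by_contra hne
      have := (hM.le_iff.mp (le_sup_right : M ≤ (P : Subgroup G) ⊔ M)).resolve_left hne
      exact hMp ((P.dvd_card_of_dvd_card hpG).trans (this ▸ card_dvd_of_le le_sup_left))
    have hcop : (Nat.card (P : Subgroup G)).Coprime (Nat.card M) := by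
      obtain ⟨i, hi⟩ := IsPGroup.iff_card.mp P.2
      rw [hi]
      exact (hp.coprime_iff_not_dvd.mpr hMp).pow_left i
    have hdisj : (P : Subgroup G) ⊓ M = ⊥ := inf_eq_bot_of_coprime hcop
    have hG : Nat.card G = Nat.card (P : Subgroup G) * Nat.card M := by
      have h1 := Core.card_sup_mul_card_inf M (P : Subgroup G)
      rw [sup_comm, hPM, inf_comm, hdisj, card_bot, mul_one, card_top, mul_comm] at h1
      exact h1
    have hproper : ∀ L : Subgroup G, L < M → (P : Subgroup G) ⊔ L ≠ ⊤ := by
      intro L hL e
      have h1 := Core.card_sup_mul_card_inf L (P : Subgroup G)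
      rw [sup_comm, e, inf_comm, eq_bot_iff.mpr ((inf_le_inf_left _ hL.le).trans hdisj.le), card_bot,
        mul_one, card_top, hG, mul_comm] at h1
      have := Nat.eq_of_mul_eq_mul_right Nat.card_pos h1
      exact hL.ne (eq_of_le_of_card_ge hL.le this.le)
    have hMc : M ≤ centralizer ((P : Subgroup G) : Set G) := by
      intro m hm
      refine comm_of_proper h P.2 hP1 (L := zpowers m) ?_ (hproper _ ?_) (mem_zpowers m)
      · exact fun hd => hMp (hd.trans (card_dvd_of_le (zpowers_le.mpr hm)))
      · refine lt_of_le_of_ne (zpowers_le.mpr hm) fun e => hMn ?_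
        have hc : IsMulCommutative (zpowers m) := inferInstance
        rw [e] at hc
        letI : CommGroup M := { (inferInstance : Group M) with mul_comm := hc.is_comm.comm }
        exact CommGroup.isNilpotent
    have hMnorm : M.Normal := normalizer_eq_top_iff.mp (top_le_iff.mp (by
      rw [← hPM]
      exact sup_le ((le_centralizer_iff.mp hMc).trans (centralizer_le_normalizer _)) le_normalizer))
    obtain ⟨z, hz, hz1⟩ : ∃ z ∈ ((center (P : Subgroup G)).map (P : Subgroup G).subtype), orderOf z = p := by
      haveI : Nontrivial (P : Subgroup G) := (nontrivial_iff_ne_bot _).mpr hP1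
      haveI := P.2.center_nontrivial
      obtain ⟨i, hi⟩ := IsPGroup.iff_card.mp (P.2.to_subgroup (center (P : Subgroup G)))
      have hd : p ∣ Nat.card (center (P : Subgroup G)) := by
        rcases i with _ | i
        · have := Finite.one_lt_card (α := center (P : Subgroup G))
          rw [hi, pow_zero] at this; omega
        · exact hi ▸ dvd_pow_self p (Nat.succ_ne_zero i)
      obtain ⟨z, hz⟩ := exists_prime_orderOf_dvd_card' p hd
      exact ⟨((z : (P : Subgroup G)) : G), ⟨z, z.2, rfl⟩, by rw [Subgroup.orderOf_coe, Subgroup.orderOf_coe, hz]⟩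
    have hzc : z ∈ center G := by
      obtain ⟨z', hz', rfl⟩ := hz
      refine mem_center_iff.mpr fun g => ?_
      have hle : (P : Subgroup G) ⊔ M ≤ centralizer ({(z' : G)} : Set G) := by
        refine sup_le (fun x hx => mem_centralizer_singleton_iff.mpr ?_) fun x hx => ?_
        · exact congrArg Subtype.val (mem_center_iff.mp hz' ⟨x, hx⟩)
        · exact mem_centralizer_singleton_iff.mpr (mem_centralizer_iff.mp (hMc hx) z' z'.2).symm
      rw [hPM] at hle
      exact mem_centralizer_singleton_iff.mp (hle (mem_top g))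
    set Z := zpowers z with hZ
    have hZn : Z.Normal := ⟨fun x hx g => by
      obtain ⟨i, rfl⟩ := hx
      rw [show g * z ^ i * g⁻¹ = z ^ i by
        rw [((show Commute g z from mem_center_iff.mp hzc g).zpow_right i).eq, mul_inv_cancel_right]]
      exact zpow_mem (mem_zpowers z) i⟩
    have hZP : (P : Subgroup G) = Z := by
      have hzP : z ∈ (P : Subgroup G) := map_subtype_le _ hz
      refine le_antisymm (fun x hx => ?_) (zpowers_le.mpr hzP)
      have hne : Z ⊔ M = ⊤ := by
        by_contra hne
        have hdz : p ∣ Nat.card (Z ⊔ M : Subgroup G) := by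
          refine dvd_trans ?_ (card_dvd_of_le le_sup_left)
          rw [hZ, Nat.card_zpowers, hz1]
        have hn := exists_coatom_nilpotent h hne hdz
        haveI := hn
        exact hMn (Group.isNilpotent_congr (subgroupOfEquivOfLe (le_sup_right : M ≤ Z ⊔ M)) |>.mp inferInstance)
      haveI := hZn
      have hx' : x ∈ ((Z ⊔ M : Subgroup G) : Set G) := by rw [hne]; trivial
      rw [Subgroup.normal_mul] at hx'
      obtain ⟨a, ha, b, hb, rfl⟩ := hx'
      have hbP : b ∈ (P : Subgroup G) := by
        have h2 := mul_mem (inv_mem (zpowers_le.mpr hzP ha : a ∈ (P : Subgroup G))) hx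
        simpa using h2
      have hb1 : b = 1 := by rw [← mem_bot, ← hdisj]; exact ⟨hbP, hb⟩
      simpa [hb1] using ha
    refine ⟨Z, M, hZn, hMnorm, hZP ▸ hdisj, hZP ▸ hPM, by rw [hZ, Nat.card_zpowers, hz1], ⟨hMn, ?_⟩, hMp⟩
    intro L hL
    set L' := L.map M.subtype with hL'
    have hlt : L' < M := lt_of_le_of_ne (map_subtype_le _) fun e => hL (map_injective M.subtype_injective
      (e.trans (by rw [← MonoidHom.range_eq_map, M.range_subtype])))
    have hn := exists_coatom_nilpotent h (hproper L' hlt)
      ((P.dvd_card_of_dvd_card hpG).trans (card_dvd_of_le le_sup_left))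
    haveI := hn
    haveI : Group.IsNilpotent L' :=
      Group.isNilpotent_congr (subgroupOfEquivOfLe (le_sup_right : L' ≤ (P : Subgroup G) ⊔ L')) |>.mp inferInstance
    exact Group.isNilpotent_congr (L.equivMapOfInjective M.subtype M.subtype_injective).symm |>.mp inferInstance
  · rintro (hn | hmin | ⟨Z, K, hZn, hKn, hdisj, htop, hZc, hKmin, hKp⟩) M hM hd
    · infer_instance
    · exact hmin.2 M hM.1
    · haveI := hZn
      haveI := hKn
      have hZK : ∀ a ∈ Z, ∀ b ∈ K, a * b = b * a := fun a ha b hb =>
        (Subgroup.commute_of_normal_of_disjoint Z K hZn hKn (disjoint_iff.mpr hdisj) a b ha hb).eq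
      haveI : Fact p.Prime := ⟨hp⟩
      obtain ⟨⟨m, hm⟩, hmo⟩ := exists_prime_orderOf_dvd_card' p hd
      rw [Subgroup.orderOf_mk] at hmo
      have hdec : ∀ x : G, ∃ a ∈ Z, ∃ b ∈ K, x = a * b := fun x => by
        have hx : x ∈ ((Z ⊔ K : Subgroup G) : Set G) := by rw [htop]; trivial
        rw [Subgroup.normal_mul] at hx
        obtain ⟨a, ha, b, hb, rfl⟩ := hx
        exact ⟨a, ha, b, hb, rfl⟩
      have hZM : Z ≤ M := by
        obtain ⟨a, ha, b, hb, rfl⟩ := hdec m
        have h1 : (a * b) ^ p = 1 := by rw [← hmo, pow_orderOf_eq_one]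
        rw [(show Commute a b from hZK a ha b hb).mul_pow] at h1
        have ha' : a ^ p = 1 := by
          rw [← hZc]; exact congrArg Subtype.val (pow_card_eq_one' (x := (⟨a, ha⟩ : Z)))
        rw [ha', one_mul] at h1
        have hb1 : b = 1 := by
          have hd1 : orderOf b ∣ Nat.gcd p (Nat.card K) :=
            Nat.dvd_gcd (orderOf_dvd_of_pow_eq_one h1) (Subgroup.orderOf_dvd_natCard K hb)
          rw [(hp.coprime_iff_not_dvd.mpr hKp).gcd_eq_one, Nat.dvd_one, orderOf_eq_one_iff] at hd1
          exact hd1
        subst hb1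
        rw [mul_one] at hmo hm
        have he : zpowers a = Z := eq_of_le_of_card_ge (zpowers_le.mpr ha) (by rw [Nat.card_zpowers, hmo, hZc])
        rw [← he]
        exact zpowers_le.mpr hm
      have hMK : (M ⊓ K).subgroupOf K ≠ ⊤ := fun e => by
        have hKM : K ≤ M := fun k hk => ((eq_top_iff' _).mp e ⟨k, hk⟩).1
        exact hM.1 (top_le_iff.mp (htop ▸ sup_le hZM hKM))
      haveI := hKmin.2 _ hMK
      haveI hMKn : Group.IsNilpotent (M ⊓ K : Subgroup G) :=
        Group.isNilpotent_congr (subgroupOfEquivOfLe inf_le_right) |>.mp inferInstance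
      -- the projection `M → M/Z` is onto from `M ⊓ K` and has central kernel
      let f : M →* G ⧸ Z := (QuotientGroup.mk' Z).comp M.subtype
      have hker : f.ker ≤ center M := by
        intro x hx
        have hxZ : (x : G) ∈ Z := (QuotientGroup.eq_one_iff _).mp hx
        refine mem_center_iff.mpr fun y => Subtype.ext ?_
        obtain ⟨a, ha, b, hb, hab⟩ := hdec (y : G)
        show (y : G) * x = x * y
        rw [hab]
        haveI : IsCyclic Z := isCyclic_of_prime_card hZc
        have h2 : a * (x : G) = x * a := congrArg Subtype.val (mul_comm' (⟨a, ha⟩ : Z) ⟨x, hxZ⟩)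
        rw [mul_assoc, ← hZK _ hxZ b hb, ← mul_assoc, h2, mul_assoc]
      have hrange : Group.IsNilpotent f.range := by
        let g : (M ⊓ K : Subgroup G) →* f.range :=
          (f.comp (Subgroup.inclusion inf_le_left)).codRestrict _ fun x => ⟨_, rfl⟩
        refine Group.nilpotent_of_surjective g ?_
        rintro ⟨_, x, rfl⟩
        obtain ⟨a, ha, b, hb, hab⟩ := hdec (x : G)
        have hbM : b ∈ M := by
          have := mul_mem (inv_mem (hZM ha)) x.2
          rwa [hab, inv_mul_cancel_left] at this
        refine ⟨⟨b, hbM, hb⟩, Subtype.ext ?_⟩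
        show QuotientGroup.mk' Z b = QuotientGroup.mk' Z (x : G)
        rw [hab, map_mul, show QuotientGroup.mk' Z a = 1 from (QuotientGroup.eq_one_iff a).mpr ha, one_mul]
      exact Subgroup.isNilpotent_of_ker_le_center f.rangeRestrict (by rwa [MonoidHom.ker_rangeRestrict])

end Cfsg.Agent.S4242
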