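import Cfsg.Statements.S4244
import Cfsg.Agent.Core.Basics


set_option autoImplicit false
open Cfsg

namespace Cfsg.Agent.S4244

/-- Let H be a subnormal subgroup of a finite group G. Then for every subgroup K of G the index of H ∩ K in H divides the index of K in G. -/
theorem result {G : Type*} [Group G] [Finite G] (H : Subgroup G) (hH : H.IsSubnormal) (K : Subgroup G) :
    (H ⊓ K).relIndex H ∣ K.index := by
  have step : ∀ (N : Subgroup G) (U : Subgroup G), N ≤ U → (N.subgroupOf U).Normal →
      K.relIndex N ∣ K.relIndex U := by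
    intro N U hNU hn
    let N' := N.subgroupOf U
    let K' := K.subgroupOf U
    have e : K.relIndex N = K'.relIndex N' := (Subgroup.relIndex_subgroupOf hNU).symm
    rw [e]
    show K'.relIndex N' ∣ K'.index
    have hc := Cfsg.Agent.Core.card_sup_mul_card_inf K' N'
    have e1 : K'.relIndex N' * Nat.card (K' ⊓ N' : Subgroup U) = Nat.card N' := by
      rw [← Subgroup.inf_relIndex_right, mul_comm, ← Subgroup.relIndex_bot_left,
        ← Subgroup.relIndex_bot_left]
      exact Subgroup.relIndex_mul_relIndex ⊥ _ _ bot_le inf_le_right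
    have e2 := K'.index_mul_card
    have e3 := (K' ⊔ N').index_mul_card
    refine ⟨(K' ⊔ N').index, Nat.eq_of_mul_eq_mul_right
      (m := Nat.card K' * Nat.card (K' ⊓ N' : Subgroup U)) (Nat.mul_pos Nat.card_pos Nat.card_pos) ?_⟩
    calc K'.index * (Nat.card K' * Nat.card (K' ⊓ N' : Subgroup U))
        = K'.index * Nat.card K' * Nat.card (K' ⊓ N' : Subgroup U) := by ring
      _ = (K' ⊔ N').index * (Nat.card (K' ⊔ N' : Subgroup U) * Nat.card (K' ⊓ N' : Subgroup U)) := by
          rw [e2, ← e3]; ring
      _ = (K' ⊔ N').index * (Nat.card K' * (K'.relIndex N' * Nat.card (K' ⊓ N' : Subgroup U))) := by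
          rw [hc, e1]
      _ = _ := by ring
  rw [inf_comm, Subgroup.inf_relIndex_right]
  induction hH with
  | top => rw [Subgroup.relIndex_top_right]
  | step N U hNU _ hn ih => exact (step N U hNU hn).trans ih

end Cfsg.Agent.S4244
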