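import Cfsg.Statements.S4245
import Cfsg.Agent.Char.Integral
import Cfsg.Agent.Core.Basics
import Mathlib

/-!
S4245: a group with a subgroup of prime power index that is cyclic-by-(cyclic 2-group) is solvable.
A simple minimal counterexample would have a class of prime power size (of the involution of the
cyclic part, or of a generator) or a cyclic Sylow 2-subgroup.
-/

set_option autoImplicit false

namespace Cfsg.Agent.S4245

universe u

theorem prime_of_centralizer {G : Type u} [Group G] [Finite G] [IsSimpleGroup G] {p s : ℕ} (hp : p.Prime)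
    {A : Subgroup G} {g : G} (hg : g ≠ 1) (hidx : A.index ∣ p ^ s) (hA : ∀ a ∈ A, a * g = g * a) :
    (Nat.card G).Prime := by
  have hle : A ≤ Subgroup.centralizer ({g} : Set G) := fun a ha =>
    Subgroup.mem_centralizer_singleton_iff.2 (hA a ha)
  obtain ⟨j, -, hj⟩ := (Nat.dvd_prime_pow hp).1 ((Subgroup.index_dvd_of_le hle).trans hidx)
  exact Cfsg.Agent.Char.prime_card_of_class_prime_pow p j hp g hg hj

theorem isSolvable_of_prime_card {G : Type u} [Group G] [Finite G] (h : (Nat.card G).Prime) :
    Group.IsSolvable G :=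
  Cfsg.Agent.Char.isSolvable_of_card_eq (Nat.card G) (Nat.card G) h h _ G rfl ⟨1, 0, by simp⟩

theorem aux : ∀ (n : ℕ) (G : Type u) [Group G] [Finite G], Nat.card G = n → ∀ (A : Subgroup G) (p s : ℕ),
    p.Prime → A.index ∣ p ^ s → ∀ (B : Subgroup A) [B.Normal], IsCyclic B → IsCyclic (A ⧸ B) →
    ∀ r : ℕ, Nat.card (A ⧸ B) ∣ 2 ^ r → Group.IsSolvable G := by
  intro n
  induction n using Nat.strong_induction_on with
  | _ n ih =>
  intro G _ _ hn A p s hp hA B _ hB hAB r hr
  subst hn
  rcases subsingleton_or_nontrivial G with hsub | hnt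
  · exact Cfsg.Agent.Char.isSolvable_of_card_eq 2 2 Nat.prime_two Nat.prime_two _ G rfl
      ⟨0, 0, by simpa using Nat.card_of_subsingleton (1 : G)⟩
  by_cases hsimp : IsSimpleGroup G
  swap
  · obtain ⟨N, hN, hN1, hN2⟩ : ∃ N : Subgroup G, N.Normal ∧ N ≠ ⊥ ∧ N ≠ ⊤ := by
      by_contra hne
      push Not at hne
      exact hsimp ⟨fun N hN => or_iff_not_imp_left.2 (hne N hN)⟩
    -- the normal subgroup
    have hcardN : Nat.card N < Nat.card G :=
      lt_of_le_of_ne (Subgroup.card_le_card_group N) fun e => hN2 (Subgroup.eq_top_of_card_eq N e)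
    have hsN : Group.IsSolvable N := by
      let ι : ↥(A.subgroupOf N) →* A :=
        { toFun := fun x => ⟨((x : N) : G), x.2⟩
          map_one' := rfl
          map_mul' := fun _ _ => rfl }
      have hι : Function.Injective ι := fun x y h =>
        Subtype.ext (Subtype.ext (congrArg (fun a : A => (a : G)) h))
      have hind : (A.subgroupOf N).index ∣ p ^ s := by
        refine dvd_trans ?_ hA
        show A.relIndex N ∣ A.index
        have hle : A ≤ A ⊔ N := le_sup_left
        have h1 : A.relIndex (A ⊔ N) = A.relIndex N := by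
          have hm := Core.card_sup_mul_card_inf A N
          have hmA : Nat.card A * A.relIndex (A ⊔ N) = Nat.card (A ⊔ N : Subgroup G) := by
            rw [← Subgroup.relIndex_bot_left, ← Subgroup.relIndex_bot_left,
              Subgroup.relIndex_mul_relIndex _ _ _ bot_le hle]
          have hmN : Nat.card (A ⊓ N : Subgroup G) * A.relIndex N = Nat.card N := by
            rw [← Subgroup.inf_relIndex_right A N, ← Subgroup.relIndex_bot_left,
              ← Subgroup.relIndex_bot_left, Subgroup.relIndex_mul_relIndex _ _ _ bot_le inf_le_right]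
          refine Nat.eq_of_mul_eq_mul_left (Nat.mul_pos (Nat.card_pos (α := A)) (Nat.card_pos (α := (A ⊓ N : Subgroup G)))) ?_
          calc Nat.card A * Nat.card (A ⊓ N : Subgroup G) * A.relIndex (A ⊔ N)
              = Nat.card A * A.relIndex (A ⊔ N) * Nat.card (A ⊓ N : Subgroup G) := by ring
            _ = Nat.card A * Nat.card N := by rw [hmA, hm]
            _ = _ := by rw [← hmN]; ring
        rw [← h1]
        exact Subgroup.relIndex_dvd_index_of_le hle
      have hcyc : IsCyclic (B.comap ι) := by
        refine isCyclic_of_injective ((ι.comp (B.comap ι).subtype).codRestrict B fun x => x.2) ?_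
        intro x y h
        exact Subtype.ext (hι (congrArg (fun b : B => (b : A)) h))
      let q : ↥(A.subgroupOf N) ⧸ B.comap ι →* A ⧸ B := QuotientGroup.map _ _ ι le_rfl
      have hq : Function.Injective q := by
        refine (injective_iff_map_eq_one q).2 fun x => ?_
        obtain ⟨x, rfl⟩ := QuotientGroup.mk_surjective x
        intro hx
        rw [QuotientGroup.map_mk, QuotientGroup.eq_one_iff] at hx
        exact (QuotientGroup.eq_one_iff x).2 hx
      exact ih _ hcardN N rfl (A.subgroupOf N) p s hp hind (B.comap ι) hcyc (isCyclic_of_injective q hq) r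
        ((Subgroup.card_dvd_of_injective q hq).trans hr)
    -- the quotient
    have hcardQ : Nat.card (G ⧸ N) < Nat.card G := by
      rw [← Subgroup.index_eq_card, ← Subgroup.card_mul_index N]
      haveI := (Subgroup.nontrivial_iff_ne_bot N).2 hN1
      exact lt_mul_of_one_lt_left (Nat.pos_of_ne_zero Subgroup.index_ne_zero_of_finite) Finite.one_lt_card
    have hsQ : Group.IsSolvable (G ⧸ N) := by
      set A' := A.map (QuotientGroup.mk' N)
      let f : A →* A' := (QuotientGroup.mk' N).subgroupMap A
      have hf : Function.Surjective f := (QuotientGroup.mk' N).subgroupMap_surjective A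
      haveI hBn : (B.map f).Normal := Subgroup.Normal.map inferInstance f hf
      have hcyc : IsCyclic (B.map f) :=
        isCyclic_of_surjective (f.subgroupMap B) (f.subgroupMap_surjective B)
      let q : A ⧸ B →* A' ⧸ B.map f := QuotientGroup.map _ _ f (Subgroup.le_comap_map f B)
      have hq : Function.Surjective q := by
        intro y
        obtain ⟨y, rfl⟩ := QuotientGroup.mk_surjective y
        obtain ⟨x, rfl⟩ := hf y
        exact ⟨QuotientGroup.mk x, QuotientGroup.map_mk _ _ _ _ x⟩
      exact ih _ hcardQ (G ⧸ N) rfl A' p s hp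
        ((Subgroup.index_map_dvd _ (QuotientGroup.mk'_surjective N)).trans hA)
        (B.map f) hcyc (isCyclic_of_surjective q hq) r ((Subgroup.card_dvd_of_surjective q hq).trans hr)
    exact Group.isSolvable_of_ker_le_range N.subtype (QuotientGroup.mk' N) (by simp)
  -- the simple case
  haveI := hsimp
  obtain ⟨r', hr', hr''⟩ := (Nat.dvd_prime_pow Nat.prime_two).1 hr
  have hcardA : Nat.card A = Nat.card B * 2 ^ r' := by
    rw [← hr'', ← Subgroup.index_eq_card, Subgroup.card_mul_index]
  obtain ⟨s', -, hs'⟩ := (Nat.dvd_prime_pow hp).1 hA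
  have hcardG : Nat.card G = Nat.card B * 2 ^ r' * p ^ s' := by
    rw [← hcardA, ← hs', Subgroup.card_mul_index]
  haveI := hB
  obtain ⟨g₀, hg₀⟩ := IsCyclic.exists_generator (α := B)
  have hBcomm : ∀ a b : B, a * b = b * a := by
    intro a b
    obtain ⟨i, rfl⟩ := hg₀ a
    obtain ⟨j, rfl⟩ := hg₀ b
    exact (Commute.zpow_zpow_self g₀ i j).eq
  by_cases hB1 : Nat.card B = 1
  · rw [hB1, one_mul] at hcardG
    exact Cfsg.Agent.Char.isSolvable_of_card_eq 2 p Nat.prime_two hp _ G rfl ⟨r', s', hcardG⟩
  haveI hBnt : Nontrivial B := Finite.one_lt_card_iff_nontrivial.1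
    (lt_of_le_of_ne Nat.card_pos (Ne.symm hB1))
  have hg₀1 : g₀ ≠ 1 := by
    rintro rfl
    obtain ⟨b, hb⟩ := exists_ne (1 : B)
    obtain ⟨i, hi⟩ := hg₀ b
    exact hb (by simpa using hi.symm)
  set BG : Subgroup G := B.map A.subtype
  by_cases hp2 : p = 2
  · subst hp2
    refine isSolvable_of_prime_card (prime_of_centralizer (s := r' + s') Nat.prime_two
      (g := ((g₀ : A) : G)) (fun h => hg₀1 (Subtype.ext (Subtype.ext h))) (A := BG) ?_ ?_)
    · have hBG : Nat.card BG = Nat.card B := (Nat.card_congr (B.equivMapOfInjective A.subtype A.subtype_injective).toEquiv).symm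
      refine dvd_of_eq (Nat.eq_of_mul_eq_mul_left (Nat.card_pos (α := BG)) ?_)
      rw [Subgroup.card_mul_index, hcardG, hBG, pow_add, mul_assoc]
    · rintro _ ⟨a, ha, rfl⟩
      exact congrArg (fun b : B => ((b : A) : G)) (hBcomm ⟨a, ha⟩ g₀)
  by_cases hB2 : 2 ∣ Nat.card B
  · -- the involution of the cyclic part is central in `A`
    haveI : Fact (Nat.Prime 2) := ⟨Nat.prime_two⟩
    obtain ⟨z, hz⟩ := exists_prime_orderOf_dvd_card' (G := B) 2 hB2
    have huniq : ∀ w : B, orderOf w = 2 → w = z := by
      intro w hw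
      have hzw : Subgroup.zpowers w = Subgroup.zpowers z := by
        classical
        have := Fintype.ofFinite B
        have h1 : (Finset.univ.filter fun x : B => x ^ 2 = 1).card ≤ 2 := IsCyclic.card_pow_eq_one_le two_pos
        by_contra hne
        have hwz : w ≠ z := fun e => hne (by rw [e])
        have hw1 : w ≠ 1 := fun e => by rw [e, orderOf_one] at hw; norm_num at hw
        have hz1 : z ≠ 1 := fun e => by rw [e, orderOf_one] at hz; norm_num at hz
        have hsub : ({1, w, z} : Finset B) ⊆ Finset.univ.filter fun x : B => x ^ 2 = 1 := by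
          intro x hx
          simp only [Finset.mem_insert, Finset.mem_singleton] at hx
          refine Finset.mem_filter.2 ⟨Finset.mem_univ _, ?_⟩
          rcases hx with rfl | rfl | rfl
          · exact one_pow 2
          · exact hw ▸ pow_orderOf_eq_one x
          · exact hz ▸ pow_orderOf_eq_one x
        have h3 := Finset.card_le_card hsub
        rw [Finset.card_insert_of_notMem (by simp [Ne.symm hw1, Ne.symm hz1]),
          Finset.card_pair hwz] at h3
        omega
      have hmem : w ∈ Subgroup.zpowers z := hzw ▸ Subgroup.mem_zpowers w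
      obtain ⟨i, rfl⟩ := hmem
      simp only at hw ⊢
      rw [← zpow_mod_orderOf, hz] at hw ⊢
      rcases Int.emod_two_eq_zero_or_one i with e | e
      · rw [Nat.cast_ofNat, e, zpow_zero, orderOf_one] at hw; norm_num at hw
      · rw [Nat.cast_ofNat, e, zpow_one]
    have hzG : ((z : A) : G) ≠ 1 := fun h => by
      have : z = 1 := Subtype.ext (Subtype.ext h)
      rw [this, orderOf_one] at hz
      norm_num at hz
    refine isSolvable_of_prime_card (prime_of_centralizer hp hzG hA ?_)
    intro a ha
    have hc : (⟨a, ha⟩ : A) * z * (⟨a, ha⟩ : A)⁻¹ ∈ B := (inferInstance : B.Normal).conj_mem _ z.2 _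
    have heq := huniq ⟨_, hc⟩ (by
      rw [Subgroup.orderOf_mk, ← MulAut.conj_apply, MulEquiv.orderOf_eq, Subgroup.orderOf_coe, hz])
    have : a * ((z : A) : G) * a⁻¹ = ((z : A) : G) := congrArg (fun b : B => ((b : A) : G)) heq
    exact mul_inv_eq_iff_eq_mul.1 this
  by_cases hr0 : r' = 0
  · subst hr0
    rw [pow_zero, mul_one] at hcardA
    have hBtop : B = ⊤ := Subgroup.eq_top_of_card_eq _ hcardA.symm
    refine isSolvable_of_prime_card (prime_of_centralizer hp (g := ((g₀ : A) : G))
      (fun h => hg₀1 (Subtype.ext (Subtype.ext h))) hA fun a ha => ?_)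
    have hb : (⟨a, ha⟩ : A) ∈ B := hBtop ▸ Subgroup.mem_top _
    exact congrArg (fun b : B => ((b : A) : G)) (hBcomm ⟨_, hb⟩ g₀)
  -- a cyclic Sylow 2-subgroup
  haveI : Fact (Nat.Prime 2) := ⟨Nat.prime_two⟩
  exfalso
  have hodd : ¬ 2 ∣ Nat.card B * p ^ s' := by
    intro h
    rcases (Nat.Prime.dvd_mul Nat.prime_two).1 h with h | h
    · exact hB2 h
    · exact hp2 ((Nat.prime_dvd_prime_iff_eq Nat.prime_two hp).1 (Nat.prime_two.dvd_of_dvd_pow h)).symm
  obtain ⟨T⟩ := (inferInstance : Nonempty (Sylow 2 A))
  obtain ⟨S, hS⟩ := (T.isPGroup'.map A.subtype).exists_le_sylow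
  have hfac : ∀ {m : ℕ}, ¬ 2 ∣ m → m ≠ 0 → (m * 2 ^ r').factorization 2 = r' := fun {m} hm hm0 => by
    rw [Nat.factorization_mul hm0 (pow_ne_zero _ two_ne_zero), Finsupp.coe_add, Pi.add_apply,
      Nat.factorization_eq_zero_of_not_dvd hm, zero_add, Nat.Prime.factorization_pow Nat.prime_two,
      Finsupp.single_eq_same]
  have hT : Nat.card (T : Subgroup A) = 2 ^ r' := by
    rw [Sylow.card_eq_multiplicity, hcardA, hfac hB2 Nat.card_pos.ne']
  have hScard : Nat.card (S : Subgroup G) = 2 ^ r' := by
    rw [Sylow.card_eq_multiplicity, hcardG, mul_right_comm,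
      hfac hodd (Nat.mul_ne_zero Nat.card_pos.ne' (pow_ne_zero _ hp.ne_zero))]
  have hTcyc : IsCyclic (T : Subgroup A) := by
    haveI := hAB
    refine isCyclic_of_injective ((QuotientGroup.mk' B).comp (T : Subgroup A).subtype)
      ((injective_iff_map_eq_one _).2 fun x hx => ?_)
    have hxB : (x : A) ∈ B := (QuotientGroup.eq_one_iff _).1 hx
    obtain ⟨k, hk⟩ := T.isPGroup' x
    rw [← orderOf_eq_one_iff]
    refine Nat.eq_one_of_dvd_coprimes (show Nat.Coprime (2 ^ k) (Nat.card B) from
      ((Nat.prime_two.coprime_iff_not_dvd).2 hB2).pow_left k) (orderOf_dvd_of_pow_eq_one hk) ?_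
    rw [← Subgroup.orderOf_coe, ← Subgroup.orderOf_mk (x : A) hxB]
    exact orderOf_dvd_natCard _
  have hScyc : IsCyclic (S : Subgroup G) := by
    haveI := hTcyc
    have heq : (T : Subgroup A).map A.subtype = S :=
      Subgroup.eq_of_le_of_card_ge hS (by
        rw [hScard, ← hT, Nat.card_congr ((T : Subgroup A).equivMapOfInjective A.subtype A.subtype_injective).toEquiv])
    rw [← heq]
    exact isCyclic_of_surjective _ ((T : Subgroup A).equivMapOfInjective A.subtype A.subtype_injective).surjective
  have hmin : (Nat.card G).minFac = 2 := by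
    rw [Nat.minFac_eq_two_iff, hcardG]
    exact Dvd.dvd.mul_right (Dvd.dvd.mul_left (dvd_pow_self 2 hr0) _) _
  have hcompl := IsCyclic.isComplement' hmin hScyc
  have hcm := hcompl.card_mul
  rw [hScard] at hcm
  rcases (inferInstance : (MonoidHom.transferSylow S (hScyc.normalizer_le_centralizer hmin)).ker.Normal).eq_bot_or_eq_top with e | e
  · rw [e, Subgroup.card_bot, one_mul] at hcm
    have h1 : Nat.card B * p ^ s' = 1 := by
      refine Nat.eq_of_mul_eq_mul_right (show 0 < 2 ^ r' by positivity) ?_
      rw [one_mul, mul_right_comm, ← hcardG, ← hcm]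
    exact hB1 (Nat.eq_one_of_mul_eq_one_right h1)
  · rw [e, Subgroup.card_top] at hcm
    have : 2 ^ r' = 1 := Nat.eq_of_mul_eq_mul_left (Nat.card_pos (α := G)) (by rw [mul_one]; exact hcm)
    simp [hr0] at this

/-- Let G be a finite group with a subgroup A of prime-power index. Suppose A has a normal cyclic subgroup B such that A/B is cyclic of order a power of 2. Then G is solvable. -/
theorem result {G : Type*} [Group G] [Finite G] (A : Subgroup G) (p s : ℕ) (hp : p.Prime) (hA : A.index = p ^ s)
    (B : Subgroup A) [B.Normal] (hB : IsCyclic B) (hAB : IsCyclic (A ⧸ B)) (r : ℕ) (hr : Nat.card (A ⧸ B) = 2 ^ r) :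
    Group.IsSolvable G :=
  aux _ G rfl A p s hp (dvd_of_eq hA) B hB hAB r (dvd_of_eq hr)

end Cfsg.Agent.S4245
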