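import Cfsg.Statements.S4249
import Cfsg.Agent.Fusion.Splitting

set_option autoImplicit false
open Cfsg

namespace Cfsg.Agent.S4249

/-- Let G be a finite group and p a prime such that G is not a p-group, and suppose the Hughes subgroup H_p(G), generated by all elements g with g^p ≠ 1, is a proper subgroup. Then H_p(G) is nilpotent and has index p in G. -/
theorem result {G : Type*} [Group G] [Finite G] (p : ℕ) (hp : p.Prime) (hG : ¬ IsPGroup p G)
    (hH : Subgroup.closure {g : G | g ^ p ≠ 1} ≠ ⊤) :
    Group.IsNilpotent (Subgroup.closure {g : G | g ^ p ≠ 1}) ∧ (Subgroup.closure {g : G | g ^ p ≠ 1}).index = p := by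
  set H := Subgroup.closure {g : G | g ^ p ≠ 1} with hHdef
  have hn : H.Normal := by
    refine Subgroup.normalizer_eq_top_iff.mp (eq_top_iff.mpr ?_)
    rw [hHdef, Subgroup.le_normalizer_closure_iff]
    intro g _ x hx
    refine Subgroup.subset_closure (show (g * x * g⁻¹) ^ p ≠ 1 from ?_)
    rw [conj_pow]
    intro h
    exact hx (by simpa [mul_inv_eq_one] using h)
  have hpow : ∀ x : G, x ∉ H → x ^ p = 1 := fun x hx => by
    by_contra h
    exact hx (Subgroup.subset_closure h)
  obtain ⟨c, hc⟩ := not_forall.mp fun h => hH (eq_top_iff.mpr fun g _ => h g)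
  refine ⟨Fusion.isNilpotent_of_splitting hp ((Subgroup.normalizer_eq_top (H := H)).ge (Subgroup.mem_top c))
    fun l hl => hpow _ fun h => hc ?_, Fusion.index_eq_of_forall_pow_eq_one hp hG hH hpow⟩
  simpa using mul_mem (Subgroup.inv_mem _ hl) h

end Cfsg.Agent.S4249
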