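import Cfsg.Statements.S4250
import Cfsg.Agent.Fusion.AlperinP
import Cfsg.Agent.Fusion.Transfer

set_option autoImplicit false
open Cfsg

namespace Cfsg.Agent.S4250

open Subgroup Cfsg.Agent.Fusion
open scoped commutatorElement

/-- Let P be a Sylow p-subgroup of a finite group G. Call an intersection H = P ∩ Q with a Sylow p-subgroup Q tame when N_P(H) and N_Q(H) are Sylow p-subgroups of N_G(H). Then P ∩ G′ is generated by [P, N_G(P)] together with the commutator subgroups [P ∩ Q, ⟨x⟩] for all tame intersections P ∩ Q and all p-elements x of N_G(P ∩ Q). -/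
theorem result {G : Type*} [Group G] [Finite G] (p : ℕ) [Fact p.Prime] (P : Sylow p G) :
    (P : Subgroup G) ⊓ commutator G =
      ⁅(P : Subgroup G), Subgroup.normalizer ((P : Subgroup G) : Set G)⁆ ⊔
        ⨆ (Q : Sylow p G) (_ : (¬ p ∣ ((P : Subgroup G) ⊓ Subgroup.normalizer (((P : Subgroup G) ⊓ (Q : Subgroup G) : Subgroup G) : Set G)).relIndex (Subgroup.normalizer (((P : Subgroup G) ⊓ (Q : Subgroup G) : Subgroup G) : Set G)) ∧ ¬ p ∣ ((Q : Subgroup G) ⊓ Subgroup.normalizer (((P : Subgroup G) ⊓ (Q : Subgroup G) : Subgroup G) : Set G)).relIndex (Subgroup.normalizer (((P : Subgroup G) ⊓ (Q : Subgroup G) : Subgroup G) : Set G))))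
          (x : G) (_ : x ∈ Subgroup.normalizer (((P : Subgroup G) ⊓ (Q : Subgroup G) : Subgroup G) : Set G) ∧ ∃ k : ℕ, orderOf x = p ^ k),
          ⁅(P : Subgroup G) ⊓ (Q : Subgroup G), Subgroup.zpowers x⁆ := by
  set K := ⁅(P : Subgroup G), Subgroup.normalizer ((P : Subgroup G) : Set G)⁆ ⊔ _ with hK
  apply le_antisymm
  · rw [inf_comm, commutator_inf_eq_focalSubgroup P, focalSubgroup_def, closure_le]
    rintro _ ⟨hgP, x, hx, u, rfl⟩
    have key : ∀ (A : Set G) (k : G), PChain P A k → ∀ a ∈ A, a⁻¹ * (k⁻¹ * a * k) ∈ K := by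
      intro A k h
      induction h with
      | nil A => intro a _; simp
      | @cons A k y Q hA hy hQ hord _ ih =>
        intro a ha
        have h1 := ih (y⁻¹ * a * y) ⟨a, ha, rfl⟩
        rw [show a⁻¹ * ((y * k)⁻¹ * a * (y * k)) =
          ⁅a⁻¹, y⁻¹⁆ * ((y⁻¹ * a * y)⁻¹ * (k⁻¹ * (y⁻¹ * a * y) * k)) by
            simp only [commutatorElement_def]; group]
        refine K.mul_mem ?_ h1
        rcases hord with hQP | hord
        · refine mem_sup_left (commutator_mem_commutator (inv_mem (hA ha).1) (inv_mem ?_))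
          rwa [hQP, inf_idem] at hy
        · refine mem_sup_right (mem_iSup_of_mem Q (mem_iSup_of_mem hQ (mem_iSup_of_mem y
            (mem_iSup_of_mem ⟨hy, hord⟩ ?_))))
          exact commutator_mem_commutator (inv_mem (hA ha)) (inv_mem (mem_zpowers y))
    have hxu : u * x⁻¹ * u⁻¹ ∈ (P : Subgroup G) := by
      rw [show u * x⁻¹ * u⁻¹ = x⁻¹ * ⁅x, u⁆ by rw [commutatorElement_def]; group]
      exact mul_mem (inv_mem hx) hgP
    have h := key {x⁻¹} u⁻¹ (pChain_of_subset P (Set.singleton_subset_iff.mpr (inv_mem hx)) (by rintro _ ⟨_, rfl, rfl⟩; rw [inv_inv]; exact hxu))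
      x⁻¹ rfl
    rw [SetLike.mem_coe, show ⁅x, u⁆ = x⁻¹⁻¹ * (u⁻¹⁻¹ * x⁻¹ * u⁻¹) by
      rw [commutatorElement_def]; group]
    exact h
  · refine sup_le (le_inf ?_ (commutator_mono le_top le_top)) (iSup_le fun Q => iSup_le fun _ =>
      iSup_le fun y => iSup_le fun hy => le_inf ?_ (commutator_mono le_top le_top))
    · refine commutator_le.mpr fun a ha n hn => ?_
      rw [commutatorElement_def, show a * n * a⁻¹ * n⁻¹ = a * (n * a⁻¹ * n⁻¹) by group]
      exact mul_mem ha ((mem_normalizer_iff.mp hn _).mp (inv_mem ha))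
    · refine (commutator_le.mpr fun a ha n hn => ?_).trans inf_le_left (b := (P : Subgroup G) ⊓ (Q : Subgroup G))
      rw [commutatorElement_def, show a * n * a⁻¹ * n⁻¹ = a * (n * a⁻¹ * n⁻¹) by group]
      exact mul_mem ha ((mem_normalizer_iff.mp (zpowers_le.mpr hy.1 hn) _).mp (inv_mem ha))

end Cfsg.Agent.S4250
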