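import Cfsg.Statements.S4251
import Cfsg.Agent.Fusion.Control

set_option autoImplicit false
open Cfsg

namespace Cfsg.Agent.S4251

open Subgroup Cfsg.Agent.Fusion

/-- Let P be a Sylow p-subgroup of a finite group G. Call an intersection H = P ∩ Q with a Sylow p-subgroup Q tame when N_P(H) and N_Q(H) are Sylow p-subgroups of N_G(H). If N_G(H)/C_G(H) is a p-group for every nontrivial tame intersection H = P ∩ Q, then G has a normal p-complement. -/
theorem result {G : Type*} [Group G] [Finite G] (p : ℕ) [Fact p.Prime] (P : Sylow p G)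
    (h : ∀ Q : Sylow p G, (P : Subgroup G) ⊓ (Q : Subgroup G) ≠ ⊥ → (¬ p ∣ ((P : Subgroup G) ⊓ Subgroup.normalizer (((P : Subgroup G) ⊓ (Q : Subgroup G) : Subgroup G) : Set G)).relIndex (Subgroup.normalizer (((P : Subgroup G) ⊓ (Q : Subgroup G) : Subgroup G) : Set G)) ∧ ¬ p ∣ ((Q : Subgroup G) ⊓ Subgroup.normalizer (((P : Subgroup G) ⊓ (Q : Subgroup G) : Subgroup G) : Set G)).relIndex (Subgroup.normalizer (((P : Subgroup G) ⊓ (Q : Subgroup G) : Subgroup G) : Set G))) →
      IsPGroup p (Subgroup.normalizer (((P : Subgroup G) ⊓ (Q : Subgroup G) : Subgroup G) : Set G) ⧸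
        (Subgroup.centralizer (((P : Subgroup G) ⊓ (Q : Subgroup G) : Subgroup G) : Set G)).subgroupOf
          (Subgroup.normalizer (((P : Subgroup G) ⊓ (Q : Subgroup G) : Subgroup G) : Set G)))) :
    Cfsg.HasNormalPComplement p G := by
  refine hasNormalPComplement_of_conj_controls P fun x hx g hgx => ?_
  have key : ∀ (A : Set G) (k : G), AlperinChain P A k →
      ∃ s ∈ P, ∀ a ∈ A, k⁻¹ * a * k = s⁻¹ * a * s := by
    intro A k hA
    induction hA with
    | nil A => exact ⟨1, one_mem _, fun a _ => rfl⟩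
    | @cons A k y Q hA hy hQ _ ih =>
      obtain ⟨t, ht, hteq⟩ := ih
      have hstep : ∃ s ∈ P, ∀ a ∈ A, y⁻¹ * a * y = s⁻¹ * a * s := by
        by_cases hbot : (P : Subgroup G) ⊓ (Q : Subgroup G) = ⊥
        · refine ⟨1, one_mem _, fun a ha => ?_⟩
          have h1 : a ∈ (P : Subgroup G) ⊓ (Q : Subgroup G) := hA ha
          rw [hbot, mem_bot] at h1
          subst h1
          group
        · have hpg := h Q hbot hQ
          obtain ⟨c, hc, s, hs, rfl⟩ := exists_mem_centralizer_mul (p := p) (le_refl _) inf_le_right hQ.1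
            (fun z hz hz' => by
              set N := normalizer (((P : Subgroup G) ⊓ (Q : Subgroup G) : Subgroup G) : Set G)
              set C := centralizer (((P : Subgroup G) ⊓ (Q : Subgroup G) : Subgroup G) : Set G)
              obtain ⟨m, hm⟩ := hpg (QuotientGroup.mk (⟨z, hz⟩ : N))
              rw [← QuotientGroup.mk_pow, QuotientGroup.eq_one_iff, mem_subgroupOf] at hm
              have hcop : (orderOf z).Coprime (p ^ m) := hz'.pow_right m
              obtain ⟨u, hu⟩ := exists_pow_eq_self_of_coprime hcop.symm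
              rw [← hu]
              exact pow_mem hm u) hy
          refine ⟨s, hs.1, fun a ha => ?_⟩
          have h2 : a * c = c * a := mem_centralizer_iff.mp hc a (hA ha)
          calc (c * s)⁻¹ * a * (c * s) = s⁻¹ * c⁻¹ * (a * c) * s := by group
            _ = s⁻¹ * a * s := by rw [h2]; group
      obtain ⟨s, hs, hseq⟩ := hstep
      refine ⟨s * t, mul_mem hs ht, fun a ha => ?_⟩
      calc (y * k)⁻¹ * a * (y * k) = k⁻¹ * (y⁻¹ * a * y) * k := by group
        _ = t⁻¹ * (y⁻¹ * a * y) * t := hteq _ ⟨a, ha, rfl⟩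
        _ = (s * t)⁻¹ * a * (s * t) := by rw [hseq a ha]; group
  obtain ⟨s, hs, hseq⟩ := key {x} g⁻¹
    (alperinChain_of_subset P (by simpa using hx) (by simpa [conjSet] using hgx))
  exact ⟨s⁻¹, inv_mem hs, by simpa using (hseq x rfl).symm⟩

end Cfsg.Agent.S4251
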