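import Cfsg.Statements.S4252
import Mathlib


set_option autoImplicit false
open Cfsg
open scoped Pointwise

namespace Cfsg.Agent.S4252

/-- Let a finite group G act on a finite set Ω with more than one point, transitively but not regularly, so that no non-identity element of G fixes two distinct points. Then the stabilizer H of any point is a Frobenius complement in G (nontrivial, proper, meeting its other conjugates trivially), and the Frobenius kernel of G with respect to H (the identity together with the elements lying in no conjugate of H) is exactly the set consisting of the identity and the elements fixing no point. -/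
theorem result {G Ω : Type*} [Group G] [Finite G] [Fintype Ω] [MulAction G Ω] (hΩ : 1 < Fintype.card Ω)
    (htrans : ∀ α β : Ω, ∃ g : G, g • α = β) (hnreg : ∃ g : G, g ≠ 1 ∧ ∃ α : Ω, g • α = α)
    (hfix : ∀ g : G, g ≠ 1 → ∀ α β : Ω, g • α = α → g • β = β → α = β) (α : Ω) :
    Cfsg.IsFrobeniusComplement (MulAction.stabilizer G α) ∧
      Cfsg.frobeniusKernel (MulAction.stabilizer G α) = {g : G | g = 1 ∨ ∀ ω : Ω, g • ω ≠ ω} := by
  have hmem : ∀ (g : G) (β : Ω) (z : G), z ∈ MulAut.conj g • MulAction.stabilizer G β ↔ z • g • β = g • β := by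
    intro g β z
    rw [Subgroup.mem_pointwise_smul_iff_inv_smul_mem, MulAction.mem_stabilizer_iff]
    simp [MulAut.smul_def, mul_smul, inv_smul_eq_iff]
  obtain ⟨g0, hg0, α0, hα0⟩ := hnreg
  obtain ⟨t, ht⟩ := htrans α0 α
  refine ⟨⟨fun hb => ?_, fun htop => ?_, fun g hg => ?_⟩, ?_⟩
  · have h1 : t * g0 * t⁻¹ ∈ MulAction.stabilizer G α := by
      rw [MulAction.mem_stabilizer_iff, mul_smul, mul_smul, ← ht, inv_smul_smul, hα0]
    rw [hb, Subgroup.mem_bot, conj_eq_one_iff] at h1
    exact hg0 h1
  · obtain ⟨β, hβ⟩ := Fintype.exists_ne_of_one_lt_card hΩ α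
    obtain ⟨g, hg⟩ := htrans α β
    have h1 : g ∈ MulAction.stabilizer G α := htop ▸ Subgroup.mem_top g
    exact hβ (hg ▸ MulAction.mem_stabilizer_iff.mp h1)
  · rw [eq_bot_iff]
    rintro z ⟨hz1, hz2⟩
    rw [Subgroup.mem_bot]
    by_contra hz
    exact hg (MulAction.mem_stabilizer_iff.mpr (hfix z hz α (g • α) hz1 ((hmem g α z).mp hz2)).symm)
  · ext z
    refine or_congr_right ⟨fun h ω hω => ?_, fun h g hg => h _ ((hmem g α z).mp hg)⟩
    obtain ⟨g, rfl⟩ := htrans α ω
    exact h g ((hmem g α z).mpr hω)

end Cfsg.Agent.S4252
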