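import Cfsg.Statements.S4253
import Mathlib


set_option autoImplicit false
open Cfsg
open scoped Pointwise

namespace Cfsg.Agent.S4253

/-- Let H be a Frobenius complement in a finite group G (a nontrivial proper subgroup meeting each conjugate gHg⁻¹ with g outside H trivially). Then in the action of G on the left cosets of H by left multiplication, no non-identity element of G fixes two distinct cosets. -/
theorem result {G : Type*} [Group G] [Finite G] (H : Subgroup G) (hH : Cfsg.IsFrobeniusComplement H)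
    (g : G) (hg : g ≠ 1) (a b : G ⧸ H) (ha : g • a = a) (hb : g • b = b) : a = b := by
  obtain ⟨u, rfl⟩ := QuotientGroup.mk_surjective a
  obtain ⟨v, rfl⟩ := QuotientGroup.mk_surjective b
  have hu : u⁻¹ * g⁻¹ * u ∈ H := by
    have := QuotientGroup.eq.mp (show ((g * u : G) : G ⧸ H) = (u : G ⧸ H) from ha)
    simpa [mul_assoc] using this
  have hv : v⁻¹ * g⁻¹ * v ∈ H := by
    have := QuotientGroup.eq.mp (show ((g * v : G) : G ⧸ H) = (v : G ⧸ H) from hb)
    simpa [mul_assoc] using this
  rw [QuotientGroup.eq]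
  by_contra hne
  have h2 : u⁻¹ * g⁻¹ * u ∈ H ⊓ MulAut.conj (u⁻¹ * v) • H := by
    refine ⟨hu, ?_⟩
    refine Subgroup.mem_pointwise_smul_iff_inv_smul_mem.mpr ?_
    have : (MulAut.conj (u⁻¹ * v))⁻¹ • (u⁻¹ * g⁻¹ * u) = v⁻¹ * g⁻¹ * v := by
      simp [MulAut.smul_def, mul_assoc]
    rw [this]; exact hv
  rw [hH.2.2 _ hne, Subgroup.mem_bot] at h2
  apply hg
  have : g⁻¹ = 1 := by
    have := congrArg (fun w => u * w * u⁻¹) h2
    simpa [mul_assoc] using this
  exact inv_eq_one.mp this

end Cfsg.Agent.S4253
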