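import Cfsg.Statements.S4255
import Cfsg.Agent.ClassGraph.Split
-- import your own Cfsg.Agent.* helpers here

set_option autoImplicit false
open Cfsg

namespace Cfsg.Agent.S4255

/-- Let G be a finite group. Call a prime a vertex if it divides some conjugacy class size of G, and two distinct vertices adjacent if their product divides some class size. Suppose this graph is disconnected: the vertices split into two nonempty parts with no vertex of one part adjacent to a vertex of the other. Then G/Z(G) is a Frobenius group with abelian Frobenius complement and with a Frobenius kernel all of whose elements commute. -/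
theorem result {G : Type*} [Group G] [Finite G] (S : Set ℕ) (hS : ∃ p ∈ S, (p.Prime ∧ ∃ g : G, p ∣ (Subgroup.centralizer ({g} : Set G)).index)) (hS' : ∃ q ∉ S, (q.Prime ∧ ∃ g : G, q ∣ (Subgroup.centralizer ({g} : Set G)).index))
    (hdisc : ∀ p q : ℕ, (p.Prime ∧ ∃ g : G, p ∣ (Subgroup.centralizer ({g} : Set G)).index) → (q.Prime ∧ ∃ g : G, q ∣ (Subgroup.centralizer ({g} : Set G)).index) → p ∈ S → q ∉ S → ¬ (∃ g : G, p * q ∣ (Subgroup.centralizer ({g} : Set G)).index)) :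
    ∃ H : Subgroup (G ⧸ Subgroup.center G), Cfsg.IsFrobeniusComplement H ∧ IsMulCommutative H ∧
      ∀ x ∈ Cfsg.frobeniusKernel H, ∀ y ∈ Cfsg.frobeniusKernel H, x * y = y * x := by
  classical
  let V : Set ℕ := {p | p.Prime ∧ ∃ g : G, p ∣ (Subgroup.centralizer ({g} : Set G)).index}
  have hno : ∀ (g : G) (p q : ℕ), p ∈ V → q ∈ V → p ∈ S → q ∉ S →
      p ∣ (Subgroup.centralizer ({g} : Set G)).index → q ∣ (Subgroup.centralizer ({g} : Set G)).index →
      False := fun g p q hp hq hpS hqS h1 h2 => hdisc p q hp hq hpS hqS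
    ⟨g, ((Nat.coprime_primes hp.1 hq.1).mpr fun e => hqS (e ▸ hpS)).mul_dvd_of_dvd_of_dvd h1 h2⟩
  obtain ⟨p₁, hp₁S, hp₁⟩ := hS
  obtain ⟨q₁, hq₁S, hq₁⟩ := hS'
  by_cases hNC : ∀ p ∈ V ∩ S, ∃ P : Sylow p G, Subgroup.normalizer ((P : Subgroup G) : Set G) ≤
      Subgroup.centralizer ((P : Subgroup G) : Set G)
  · exact ClassGraph.split (V ∩ S) (fun p hp => hp.1.1) (fun p hp => hp.1.2) ⟨p₁, hp₁, hp₁S⟩
      ⟨q₁, hq₁.1, fun h => hq₁S h.2, hq₁.2⟩
      (fun g p q hp hq hqn h1 h2 => hno g p q hp.1 ⟨hq, g, h2⟩ hp.2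
        (fun h => hqn ⟨⟨hq, g, h2⟩, h⟩) h1 h2) hNC
  · push Not at hNC
    obtain ⟨p, hp, hnp⟩ := hNC
    refine ClassGraph.split (V \ S) (fun q hq => hq.1.1) (fun q hq => hq.1.2) ⟨q₁, hq₁, hq₁S⟩
      ⟨p₁, hp₁.1, fun h => h.2 hp₁S, hp₁.2⟩
      (fun g q r hq hr hrn h1 h2 => hno g r q ⟨hr, g, h2⟩ hq.1
        (not_not.mp fun h => hrn ⟨⟨hr, g, h2⟩, h⟩) hq.2 h2 h1) fun q hq => ?_
    have := Fact.mk hp.1.1
    have := Fact.mk hq.1.1
    obtain ⟨P⟩ : Nonempty (Sylow p G) := inferInstance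
    obtain ⟨Q⟩ : Nonempty (Sylow q G) := inferInstance
    refine ⟨Q, (ClassGraph.ito (fun x => ?_) P Q).resolve_left (hnp P)⟩
    exact not_and_or.mp fun hc => hno x p q hp.1 hq.1 hp.2 hq.2 hc.1 hc.2

end Cfsg.Agent.S4255
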