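import Cfsg.Statements.S4257
import Cfsg.Agent.ClassGraph.Coprime
-- import your own Cfsg.Agent.* helpers here

set_option autoImplicit false
open Cfsg Cfsg.Agent.ClassGraph

namespace Cfsg.Agent.S4257

/-- A vertex not joined to the primes of the largest class size is joined to every vertex outside them. -/
theorem far_joined {G : Type*} [Group G] [Finite G] (y : G) (hmax : ∀ g : G, idx g ≤ idx y) {r s : ℕ}
    (hrp : r.Prime) (hr : ∃ g : G, r ∣ idx g) (hsp : s.Prime) (hs : ∃ g : G, s ∣ idx g) (hrs : r ≠ s)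
    (hsb : ¬ s ∣ idx y) (hfar : ∀ g : G, r ∣ idx g → ∀ t : ℕ, t.Prime → t ∣ idx y → ¬ t ∣ idx g) :
    ∃ g : G, r * s ∣ idx g := by
  classical
  haveI := Fact.mk hsp
  obtain ⟨x, hx⟩ := hr
  refine ⟨x, ((Nat.coprime_primes hrp hsp).2 hrs).mul_dvd_of_dvd_of_dvd hx ?_⟩
  by_contra hsx
  set C := Subgroup.centralizer ({x} : Set G) with hC
  have hcop : ∀ g : G, r ∣ idx g → (idx g).Coprime (idx y) := fun g hg =>
    Nat.coprime_of_dvd fun t ht h1 h2 => hfar g hg t ht h2 h1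
  have hxb := pow_mem_center y hmax (hcop x hx)
  let P : Sylow s ↥C := default
  set P₀ := (P : Subgroup ↥C).map C.subtype with hP₀
  have hcard : Nat.card P₀ = s ^ (Nat.card G).factorization s := by
    rw [Subgroup.card_map_of_injective C.subtype_injective, Sylow.card_eq_multiplicity,
      ← C.index_mul_card, Nat.factorization_mul Subgroup.index_ne_zero_of_finite Nat.card_pos.ne',
      Finsupp.add_apply, Nat.factorization_eq_zero_of_not_dvd (show ¬ s ∣ C.index from hsx), zero_add]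
  obtain ⟨z, hzP, hzc⟩ : ∃ z ∈ P₀, z ∉ Subgroup.center G := by
    by_contra hno
    push Not at hno
    obtain ⟨g, hg⟩ := hs
    have hle : P₀ ≤ Subgroup.centralizer ({g} : Set G) := fun z hz =>
      Subgroup.mem_centralizer_singleton_iff.2 (Subgroup.mem_center_iff.1 (hno z hz) g).symm
    have h1 := (hcard ▸ Subgroup.card_dvd_of_le hle : s ^ (Nat.card G).factorization s ∣ _)
    have h2 : s * s ^ (Nat.card G).factorization s ∣ Nat.card G := by
      exact (Nat.mul_dvd_mul hg h1).trans (dvd_of_eq (Subgroup.centralizer ({g} : Set G)).index_mul_card)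
    rw [← pow_succ', hsp.pow_dvd_iff_le_factorization Nat.card_pos.ne'] at h2
    omega
  obtain ⟨j, hj⟩ := P.isPGroup'.map C.subtype ⟨z, hzP⟩
  have hzj : z ^ s ^ j = 1 := congrArg Subtype.val hj
  have hzx : Commute x z := by
    obtain ⟨u, -, rfl⟩ := Subgroup.mem_map.1 hzP
    exact (Subgroup.mem_centralizer_singleton_iff.1 u.2).symm
  have hco : (idx y).Coprime (s ^ j) := ((hsp.coprime_iff_not_dvd.2 hsb).symm).pow_right j
  obtain ⟨m, hm⟩ := exists_pow_eq_self_of_coprime (hco.coprime_dvd_right (orderOf_dvd_of_pow_eq_one hzj))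
  have hle : Subgroup.centralizer ({x * z} : Set G) ≤ C ⊓ Subgroup.centralizer ({z} : Set G) := by
    intro w hw
    have hw1 : Commute w (x * z) := Subgroup.mem_centralizer_singleton_iff.1 hw
    have hw2 : Commute w (x ^ idx y * z ^ idx y) := hzx.mul_pow _ ▸ hw1.pow_right _
    have hw3 : Commute w (x ^ idx y) := Subgroup.mem_center_iff.1 hxb w
    have hw4 : Commute w (z ^ idx y) := by
      have := hw3.inv_right.mul_right hw2
      rwa [inv_mul_cancel_left] at this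
    have hwz : Commute w z := hm ▸ hw4.pow_right m
    have hwx : Commute w x := by
      have := hw1.mul_right hwz.inv_right
      rwa [mul_inv_cancel_right] at this
    exact ⟨Subgroup.mem_centralizer_singleton_iff.2 hwx.eq, Subgroup.mem_centralizer_singleton_iff.2 hwz.eq⟩
  have hrxz : r ∣ idx (x * z) := hx.trans (Subgroup.index_dvd_of_le (hle.trans inf_le_left))
  have hdz : idx z ∣ idx (x * z) := Subgroup.index_dvd_of_le (hle.trans inf_le_right)
  have hzb := pow_mem_center y hmax ((hcop _ hrxz).coprime_dvd_left hdz)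
  exact hzc (hm ▸ pow_mem hzb m)

/-- Let G be a finite group. Call a prime a vertex if it divides some conjugacy class size of G, and two distinct vertices adjacent if their product divides some class size. If this graph is connected, then its diameter is at most 3: any two distinct vertices p and q are adjacent, or joined through one or two intermediate vertices. -/
theorem result {G : Type*} [Group G] [Finite G]
    (hconn : ∀ S : Set ℕ, (∃ p ∈ S, (p.Prime ∧ ∃ g : G, p ∣ (Subgroup.centralizer ({g} : Set G)).index)) → (∃ q ∉ S, (q.Prime ∧ ∃ g : G, q ∣ (Subgroup.centralizer ({g} : Set G)).index)) →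
      ∃ p q : ℕ, (p.Prime ∧ ∃ g : G, p ∣ (Subgroup.centralizer ({g} : Set G)).index) ∧ (q.Prime ∧ ∃ g : G, q ∣ (Subgroup.centralizer ({g} : Set G)).index) ∧ p ∈ S ∧ q ∉ S ∧ (∃ g : G, p * q ∣ (Subgroup.centralizer ({g} : Set G)).index))
    (p q : ℕ) (hp : (p.Prime ∧ ∃ g : G, p ∣ (Subgroup.centralizer ({g} : Set G)).index)) (hq : (q.Prime ∧ ∃ g : G, q ∣ (Subgroup.centralizer ({g} : Set G)).index)) (hpq : p ≠ q) :
    (∃ g : G, p * q ∣ (Subgroup.centralizer ({g} : Set G)).index) ∨ (∃ r : ℕ, (r.Prime ∧ ∃ g : G, r ∣ (Subgroup.centralizer ({g} : Set G)).index) ∧ r ≠ p ∧ r ≠ q ∧ (∃ g : G, p * r ∣ (Subgroup.centralizer ({g} : Set G)).index) ∧ (∃ g : G, r * q ∣ (Subgroup.centralizer ({g} : Set G)).index)) ∨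
      (∃ r s : ℕ, (r.Prime ∧ ∃ g : G, r ∣ (Subgroup.centralizer ({g} : Set G)).index) ∧ (s.Prime ∧ ∃ g : G, s ∣ (Subgroup.centralizer ({g} : Set G)).index) ∧ r ≠ p ∧ s ≠ q ∧ r ≠ s ∧ r ≠ q ∧ s ≠ p ∧
        (∃ g : G, p * r ∣ (Subgroup.centralizer ({g} : Set G)).index) ∧ (∃ g : G, r * s ∣ (Subgroup.centralizer ({g} : Set G)).index) ∧ (∃ g : G, s * q ∣ (Subgroup.centralizer ({g} : Set G)).index)) := by
  classical
  obtain ⟨y, hmax⟩ : ∃ y : G, ∀ g : G, idx g ≤ idx y := by
    haveI := Fintype.ofFinite G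
    obtain ⟨y, -, hy⟩ := Finset.exists_max_image (Finset.univ : Finset G) idx Finset.univ_nonempty
    exact ⟨y, fun g => hy g (Finset.mem_univ _)⟩
  have adj : ∀ r s : ℕ, r.Prime → s.Prime → r ≠ s → ∀ g : G, r ∣ (Subgroup.centralizer ({g} : Set G)).index →
      s ∣ (Subgroup.centralizer ({g} : Set G)).index →
      r * s ∣ (Subgroup.centralizer ({g} : Set G)).index := fun r s hr hs hne g h1 h2 =>
    ((Nat.coprime_primes hr hs).2 hne).mul_dvd_of_dvd_of_dvd h1 h2
  set b := (Subgroup.centralizer ({y} : Set G)).index with hb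
  -- r is near: some class size is divisible by r and a prime of b
  have hnear : ∀ r s : ℕ, (r.Prime ∧ ∃ g : G, r ∣ (Subgroup.centralizer ({g} : Set G)).index) →
      (s.Prime ∧ ∃ g : G, s ∣ (Subgroup.centralizer ({g} : Set G)).index) → r ≠ s → ¬ r ∣ b → ¬ s ∣ b →
      (∃ g : G, r * s ∣ (Subgroup.centralizer ({g} : Set G)).index) ∨
      (∃ t : ℕ, t.Prime ∧ t ∣ b ∧ t ≠ r ∧ ∃ g : G, r * t ∣ (Subgroup.centralizer ({g} : Set G)).index) := by
    intro r s hr hs hrs hrb hsb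
    by_cases h : ∃ (g : G) (t : ℕ), t.Prime ∧ t ∣ b ∧ r ∣ (Subgroup.centralizer ({g} : Set G)).index ∧
        t ∣ (Subgroup.centralizer ({g} : Set G)).index
    · obtain ⟨g, t, ht, htb, h1, h2⟩ := h
      have htr : t ≠ r := fun e => hrb (e ▸ htb)
      exact Or.inr ⟨t, ht, htb, htr, g, adj r t hr.1 ht htr.symm g h1 h2⟩
    · push Not at h
      exact Or.inl (far_joined y hmax hr.1 hr.2 hs.1 hs.2 hrs hsb fun g hg t ht htb => h g t ht htb hg)
  have vert : ∀ t : ℕ, t.Prime → t ∣ b → (t.Prime ∧ ∃ g : G, t ∣ (Subgroup.centralizer ({g} : Set G)).index) :=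
    fun t ht htb => ⟨ht, y, htb⟩
  -- exactly one of the two primes divides b
  have main : ∀ u v : ℕ, (u.Prime ∧ ∃ g : G, u ∣ (Subgroup.centralizer ({g} : Set G)).index) →
      (v.Prime ∧ ∃ g : G, v ∣ (Subgroup.centralizer ({g} : Set G)).index) → ¬ u ∣ b → v ∣ b →
      (∃ g : G, u * v ∣ (Subgroup.centralizer ({g} : Set G)).index) ∨
      (∃ w : ℕ, (w.Prime ∧ ∃ g : G, w ∣ (Subgroup.centralizer ({g} : Set G)).index) ∧ w ≠ u ∧ w ≠ v ∧
        (∃ g : G, u * w ∣ (Subgroup.centralizer ({g} : Set G)).index) ∧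
        (∃ g : G, w * v ∣ (Subgroup.centralizer ({g} : Set G)).index)) ∨
      (∃ w z : ℕ, (w.Prime ∧ ∃ g : G, w ∣ (Subgroup.centralizer ({g} : Set G)).index) ∧
        (z.Prime ∧ ∃ g : G, z ∣ (Subgroup.centralizer ({g} : Set G)).index) ∧ w ≠ u ∧ z ≠ v ∧ w ≠ z ∧ w ≠ v ∧ z ≠ u ∧
        (∃ g : G, u * w ∣ (Subgroup.centralizer ({g} : Set G)).index) ∧
        (∃ g : G, w * z ∣ (Subgroup.centralizer ({g} : Set G)).index) ∧
        (∃ g : G, z * v ∣ (Subgroup.centralizer ({g} : Set G)).index)) := by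
    intro u v hu hv hub hvb
    by_cases h : ∃ (g : G) (t : ℕ), t.Prime ∧ t ∣ b ∧ u ∣ (Subgroup.centralizer ({g} : Set G)).index ∧
        t ∣ (Subgroup.centralizer ({g} : Set G)).index
    · obtain ⟨g, t, ht, htb, h1, h2⟩ := h
      have htu : t ≠ u := fun e => hub (e ▸ htb)
      by_cases htv : t = v
      · subst htv; exact Or.inl ⟨g, adj u t hu.1 ht htu.symm g h1 h2⟩
      · exact Or.inr (Or.inl ⟨t, vert t ht htb, htu, htv, ⟨g, adj u t hu.1 ht htu.symm g h1 h2⟩,
          y, adj t v ht hv.1 htv y htb hvb⟩)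
    push Not at h
    obtain ⟨z, w, hz, hw, hzS, hwS, g, hg⟩ := hconn {t | t ∣ b} ⟨v, hvb, hv⟩ ⟨u, hub, hu⟩
    have hzb : z ∣ b := hzS
    have hwb : ¬ w ∣ b := hwS
    have hwu : w ≠ u := by
      rintro rfl
      exact h g z hz.1 hzb (dvd_of_mul_left_dvd hg) (dvd_of_mul_right_dvd hg)
    have hju : ∃ g : G, u * w ∣ (Subgroup.centralizer ({g} : Set G)).index :=
      far_joined y hmax hu.1 hu.2 hw.1 hw.2 hwu.symm hwb fun g hg t ht htb => h g t ht htb hg
    have hzw : w ≠ z := fun e => hwb (e ▸ hzb)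
    have hwv : w ≠ v := fun e => hwb (e ▸ hvb)
    have hwz : ∃ g : G, w * z ∣ (Subgroup.centralizer ({g} : Set G)).index := ⟨g, mul_comm z w ▸ hg⟩
    by_cases hzv : z = v
    · subst hzv; exact Or.inr (Or.inl ⟨w, hw, hwu, hwv, hju, hwz⟩)
    · exact Or.inr (Or.inr ⟨w, z, hw, hz, hwu, hzv, hzw, hwv, fun e => hub (e ▸ hzb), hju, hwz,
        y, adj z v hz.1 hv.1 hzv y hzb hvb⟩)
  have sym : ∀ a c : ℕ, (∃ g : G, a * c ∣ (Subgroup.centralizer ({g} : Set G)).index) →
      ∃ g : G, c * a ∣ (Subgroup.centralizer ({g} : Set G)).index := fun a c ⟨g, hg⟩ => ⟨g, mul_comm a c ▸ hg⟩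
  by_cases hpb : p ∣ b <;> by_cases hqb : q ∣ b
  · exact Or.inl ⟨y, adj p q hp.1 hq.1 hpq y hpb hqb⟩
  · rcases main q p hq hp hqb hpb with h | ⟨w, hw, h1, h2, h3, h4⟩ | ⟨w, z, hw, hz, h1, h2, h3, h4, h5, h6, h7, h8⟩
    · exact Or.inl (sym _ _ h)
    · exact Or.inr (Or.inl ⟨w, hw, h2, h1, sym _ _ h4, sym _ _ h3⟩)
    · exact Or.inr (Or.inr ⟨z, w, hz, hw, h2, h1, h3.symm, h5, h4, sym _ _ h8, sym _ _ h7, sym _ _ h6⟩)
  · exact main p q hp hq hpb hqb
  · rcases hnear p q hp hq hpq hpb hqb with h | ⟨t, ht, htb, htp, hpt⟩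
    · exact Or.inl h
    rcases hnear q p hq hp hpq.symm hqb hpb with h | ⟨t', ht', htb', htq', hqt⟩
    · exact Or.inl (sym _ _ h)
    have htq : t ≠ q := fun e => hqb (e ▸ htb)
    by_cases htt : t = t'
    · subst htt; exact Or.inr (Or.inl ⟨t, vert t ht htb, htp, htq, hpt, sym _ _ hqt⟩)
    · exact Or.inr (Or.inr ⟨t, t', vert t ht htb, vert t' ht' htb', htp, htq', htt, htq,
        fun e => hpb (e ▸ htb'), hpt, ⟨y, adj t t' ht ht' htt y htb htb'⟩, sym _ _ hqt⟩)

end Cfsg.Agent.S4257
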