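import Cfsg.Statements.S4261
import Cfsg.Agent.Core.Solvable
import Cfsg.Agent.Fusion.Residual


set_option autoImplicit false
open Cfsg

namespace Cfsg.Agent.S4261

/-- Let M be a maximal subgroup of a finite solvable group G such that x^[G : M] lies in M for every x in G. Then M is normal in G. -/
theorem result {G : Type*} [Group G] [Finite G] (hG : Group.IsSolvable G) (M : Subgroup G) (hM : IsCoatom M)
    (hexp : ∀ x : G, x ^ M.index ∈ M) : M.Normal := by
  obtain ⟨q, k, hq, hk, hidx⟩ := Cfsg.Agent.Core.isPrimePow_index_of_isCoatom hM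
  rw [← Nat.prime_iff] at hq
  have := Fact.mk hq
  have hR : Cfsg.pResidual q G ≤ M := by
    rw [Cfsg.pResidual, Subgroup.closure_le]
    intro g hg
    have hcop : M.index.Coprime (orderOf g) := by
      rw [← hidx]; exact (Nat.Coprime.pow_right k hg).symm
    obtain ⟨m, hm⟩ := exists_pow_eq_self_of_coprime hcop
    rw [SetLike.mem_coe, ← hm]
    exact M.pow_mem (hexp g) m
  have := Cfsg.Agent.Fusion.pResidual_characteristic (p := q) (G := G)
  let f := QuotientGroup.mk' (Cfsg.pResidual q G)
  have hnil : Group.IsNilpotent (G ⧸ Cfsg.pResidual q G) :=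
    (Cfsg.Agent.Fusion.isPGroup_quotient_pResidual (p := q) (G := G)).isNilpotent
  have hker : f.ker ≤ M := by rw [QuotientGroup.ker_mk']; exact hR
  have hs : Function.Surjective f := QuotientGroup.mk'_surjective _
  have hMf : IsCoatom (M.map f) := by
    refine ⟨fun e => hM.1 ?_, fun K hK => ?_⟩
    · rw [← Subgroup.comap_map_eq_self hker, e, Subgroup.comap_top]
    · have h := (Subgroup.comap_lt_comap_of_surjective hs).mpr hK
      rw [Subgroup.comap_map_eq_self hker] at h
      rw [← Subgroup.map_comap_eq_self_of_surjective hs K, hM.2 _ h,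
        Subgroup.map_top_of_surjective f hs]
  have hn : (M.map f).Normal :=
    ((Group.isNilpotent_of_finite_tfae (G := G ⧸ Cfsg.pResidual q G)).out 0 2 rfl rfl).mp hnil _ hMf
  rw [← Subgroup.comap_map_eq_self hker]
  exact hn.comap f

end Cfsg.Agent.S4261
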