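import Cfsg.Statements.S4263
import Cfsg.Agent.Core.Fitting

set_option autoImplicit false

namespace Cfsg.Agent.S4263

open Subgroup

universe u

theorem pow_index_mem_of_nilpotent (n : ℕ) :
    ∀ {N : Type u} [Group N] [Finite N] [Group.IsNilpotent N] (K : Subgroup N), K.index = n →
      ∀ x : N, x ^ K.index ∈ K := by
  induction n using Nat.strong_induction_on with
  | _ n ih =>
    intro N _ _ _ K hK x
    rcases eq_or_ne K ⊤ with rfl | hne
    · exact mem_top _
    have hlt : K < normalizer (K : Set N) := Group.normalizerCondition_of_isNilpotent (G := N) K hne.lt_top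
    set L := normalizer (K : Set N) with hL
    have hmul := relIndex_mul_index hlt.le
    have h1 : 1 < K.relIndex L := by
      have h0 : K.relIndex L ≠ 0 := FiniteIndex.index_ne_zero
      have : K.relIndex L ≠ 1 := fun h => hlt.not_ge (relIndex_eq_one.mp h)
      omega
    have hLpos : 0 < L.index := Nat.pos_of_ne_zero FiniteIndex.index_ne_zero
    have hxL : x ^ L.index ∈ L := ih L.index (by rw [← hK, ← hmul]; nlinarith) L rfl x
    have hn : (K.subgroupOf L).Normal := normal_in_normalizer
    have := (K.subgroupOf L).pow_index_mem ⟨_, hxL⟩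
    rw [mem_subgroupOf] at this
    rw [← hmul, mul_comm, pow_mul]
    simpa [relIndex] using this

/-- An element lies in the Fitting subgroup iff `x ^ [G : H] ∈ H` for all `H`. -/
theorem result {G : Type*} [Group G] [Finite G] (x : G) :
    x ∈ Cfsg.fittingSubgroup G ↔ ∀ H : Subgroup G, x ^ H.index ∈ H := by
  constructor
  · intro hx H
    set F := Cfsg.fittingSubgroup G
    have : Group.IsNilpotent F := Cfsg.Agent.Core.fittingSubgroup_isNilpotent
    have h := pow_index_mem_of_nilpotent _ (H.subgroupOf F) rfl ⟨x, hx⟩
    rw [mem_subgroupOf] at h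
    have hd : (H.subgroupOf F).index ∣ H.index := by
      change H.relIndex F ∣ H.index
      have key : H.relIndex F = H.relIndex (H ⊔ F) := by
        have h1 := Cfsg.Agent.Core.card_sup_mul_card_inf H F
        have h2 := relIndex_mul_relIndex (⊥ : Subgroup G) H (H ⊔ F) bot_le le_sup_left
        have h3 := relIndex_mul_relIndex (⊥ : Subgroup G) (H ⊓ F) F bot_le inf_le_right
        simp only [relIndex_bot_left, inf_relIndex_right] at h2 h3
        have hc : 0 < Nat.card H * Nat.card (H ⊓ F : Subgroup G) :=
          Nat.mul_pos Nat.card_pos Nat.card_pos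
        rw [← h2, ← h3] at h1
        apply Nat.eq_of_mul_eq_mul_left hc
        linarith
      rw [key]
      exact relIndex_dvd_index_of_le le_sup_left
    obtain ⟨k, hk⟩ := hd
    rw [hk, pow_mul]
    exact pow_mem (by simpa using h) k
  · intro h
    set F := Cfsg.fittingSubgroup G
    by_contra hx
    have hk : orderOf (QuotientGroup.mk' F x) ≠ 1 := by
      rw [ne_eq, orderOf_eq_one_iff]
      exact fun h1 => hx ((QuotientGroup.eq_one_iff x).mp h1)
    obtain ⟨p, hp, hpd⟩ := Nat.exists_prime_and_dvd hk
    have := Fact.mk hp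
    obtain ⟨P⟩ := (inferInstance : Nonempty (Sylow p G))
    have hy : ∀ Q : Sylow p G, x ^ (P : Subgroup G).index ∈ Q := by
      intro Q
      have hc : Nat.card (Q : Subgroup G) = Nat.card (P : Subgroup G) := by
        rw [Sylow.card_eq_multiplicity, Sylow.card_eq_multiplicity]
      have hi : (Q : Subgroup G).index = (P : Subgroup G).index :=
        Nat.eq_of_mul_eq_mul_left Nat.card_pos
          (by rw [card_mul_index, hc, card_mul_index])
      rw [← hi]; exact h _
    have hcore : x ^ (P : Subgroup G).index ∈ F := by
      have hle : (P : Subgroup G).normalCore ≤ Cfsg.pCore p G :=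
        Cfsg.Agent.Core.le_pCore (P.isPGroup'.to_le (normalCore_le _))
      apply (hle.trans (Cfsg.Agent.Core.pCore_le_fittingSubgroup p))
      intro g
      have := hy (g⁻¹ • P)
      rw [Sylow.smul_def] at this
      rw [← SetLike.mem_coe] at this ⊢
      obtain ⟨z, hz, hzx⟩ := this
      rw [← hzx]
      simpa [mul_assoc] using hz
    refine P.not_dvd_index (hpd.trans (orderOf_dvd_of_pow_eq_one ?_))
    rw [← map_pow]
    exact (QuotientGroup.eq_one_iff _).mpr hcore

end Cfsg.Agent.S4263
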