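import Cfsg.Statements.S4265
import Cfsg.Agent.SolvLinQuot.Main

set_option autoImplicit false
open Cfsg

namespace Cfsg.Agent.S4265

/-- Let G be a finite solvable subgroup of GL_r(ℂ), r ≥ 1, with Fitting subgroup F(G) normal in G. Then for every subgroup H of G the quotient H/(H ∩ F(G)) has at most 3^{r−1} conjugacy classes. -/
theorem result (r : ℕ) (hr : 1 ≤ r) (G : Subgroup (GL (Fin r) ℂ)) [Finite ↥G] (hsolv : Group.IsSolvable ↥G) [hF : (Cfsg.fittingSubgroup ↥G).Normal] (H : Subgroup ↥G) : Nat.card (ConjClasses (↥H ⧸ (Cfsg.fittingSubgroup ↥G).subgroupOf H)) ≤ 3 ^ (r - 1) := by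
  let ρ : Representation ℂ G (Fin r → ℂ) :=
    ((Matrix.toLinAlgEquiv' : Matrix (Fin r) (Fin r) ℂ ≃ₐ[ℂ] Module.End ℂ (Fin r → ℂ)) :
      Matrix (Fin r) (Fin r) ℂ →* Module.End ℂ (Fin r → ℂ)).comp
      ((Units.coeHom (Matrix (Fin r) (Fin r) ℂ)).comp G.subtype)
  have hρ : Function.Injective ρ := fun x y h =>
    Subtype.ext (Units.ext (Matrix.toLinAlgEquiv'.injective h))
  haveI := hsolv
  have h := SolvLinQuot.bound_all.{0, 0, 0} ℂ r (Fin r → ℂ) G ρ hρ (Module.finrank_fin_fun ℂ)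
  let f : H →* G ⧸ Cfsg.fittingSubgroup G := (QuotientGroup.mk' _).comp H.subtype
  have hker : f.ker = (Cfsg.fittingSubgroup G).subgroupOf H := by
    ext x
    exact QuotientGroup.eq_one_iff x.1
  exact (ClassBoundSq.cls_congr
    ((QuotientGroup.quotientMulEquivOfEq hker.symm).trans (QuotientGroup.quotientKerEquivRange f))).trans_le (h _)

end Cfsg.Agent.S4265
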