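import Cfsg.Statements.S4269
-- import your own Cfsg.Agent.* helpers here

set_option autoImplicit false
open Cfsg
open scoped commutatorElement Pointwise

namespace Cfsg.Agent.S4269

/-- Let G be a finite group, V an abelian normal subgroup and H a subgroup with HV = G. Then H is pronormal in G (H and gHg⁻¹ are conjugate inside the subgroup they generate, for every g) if and only if every H-invariant subgroup U of V satisfies U = N_U(H)·[H, U], that is, U is the join of U ∩ N_G(H) and the commutator subgroup [H, U]. -/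
theorem result {G : Type*} [Group G] [Finite G]
    (V : Subgroup G) [V.Normal] (hV : IsMulCommutative ↥V) (H : Subgroup G) (hHV : H ⊔ V = ⊤) :
    Cfsg.IsPronormal H ↔
      ∀ U : Subgroup G, U ≤ V → (∀ h ∈ H, U.map (MulAut.conj h).toMonoidHom = U) →
        U = (U ⊓ Subgroup.normalizer (H : Set G)) ⊔ ⁅H, U⁆ := by
  constructor
  · intro hpro U hU hinv
    have hHU : H ≤ Subgroup.normalizer (U : Set G) := fun h hh => Subgroup.mem_normalizer_iff_map_conj_eq.mpr (hinv h hh)
    have hD : ⁅H, U⁆ ≤ U := Subgroup.le_normalizer_iff_commutator_le_right.mp hHU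
    refine le_antisymm (fun u hu => ?_) (sup_le inf_le_left hD)
    obtain ⟨x, hx, hxeq⟩ := hpro u
    have hHn : H ≤ Subgroup.normalizer ((⁅H, U⁆ : Subgroup G) : Set G) := Subgroup.normalizer_commutator_ge_left H U
    have hle : H ⊔ H.map (MulAut.conj u).toMonoidHom ≤ ⁅H, U⁆ ⊔ H := by
      refine sup_le le_sup_right ?_
      rintro _ ⟨h, hh, rfl⟩
      rw [MulEquiv.coe_toMonoidHom, MulAut.conj_apply, ← inv_mul_cancel_right (u * h * u⁻¹) h]
      refine mul_mem (Subgroup.mem_sup_left ?_) (Subgroup.mem_sup_right hh)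
      rw [← commutatorElement_def, ← commutatorElement_inv]
      exact Subgroup.inv_mem _ (Subgroup.commutator_mem_commutator hh hu)
    have hxm := hle hx
    rw [← SetLike.mem_coe, Subgroup.coe_mul_of_right_le_normalizer_left _ _ hHn] at hxm
    obtain ⟨d, hd, h, hh, rfl⟩ := hxm
    have hh' : H.map (MulAut.conj h).toMonoidHom = H :=
      Subgroup.mem_normalizer_iff_map_conj_eq.mp (Subgroup.le_normalizer hh)
    have hn : d⁻¹ * u ∈ U ⊓ Subgroup.normalizer (H : Set G) := by
      refine ⟨U.mul_mem (U.inv_mem (hD hd)) hu, Subgroup.mem_normalizer_iff_map_conj_eq.mpr ?_⟩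
      have e : ∀ a b : G, (MulAut.conj (a * b)).toMonoidHom = (MulAut.conj a).toMonoidHom.comp (MulAut.conj b).toMonoidHom :=
        fun a b => by ext; simp [mul_assoc]
      show H.map (MulAut.conj (d⁻¹ * u)).toMonoidHom = H
      rw [e, ← Subgroup.map_map, hxeq, show (MulAut.conj (d * h)).toMonoidHom = _ from e d h, ← Subgroup.map_map, hh',
        Subgroup.map_map, ← e, inv_mul_cancel]
      ext; simp
    rw [← mul_inv_cancel_left d u]
    exact mul_mem (Subgroup.mem_sup_right hd) (Subgroup.mem_sup_left hn)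
  · intro hcrit g
    have hg : g ∈ ((V ⊔ H : Subgroup G) : Set G) := by rw [sup_comm, hHV]; trivial
    rw [Subgroup.normal_mul] at hg
    obtain ⟨v, hv, h₀, hh₀, rfl⟩ := hg
    have e : ∀ a b : G, (MulAut.conj (a * b)).toMonoidHom = (MulAut.conj a).toMonoidHom.comp (MulAut.conj b).toMonoidHom :=
      fun a b => by ext; simp [mul_assoc]
    have hgv : H.map (MulAut.conj (v * h₀)).toMonoidHom = H.map (MulAut.conj v).toMonoidHom := by
      rw [e, ← Subgroup.map_map]
      exact congrArg _ (Subgroup.mem_normalizer_iff_map_conj_eq.mp (Subgroup.le_normalizer hh₀))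
    rw [hgv]
    set K := H ⊔ H.map (MulAut.conj v).toMonoidHom
    set U := Subgroup.closure {x : G | ∃ h ∈ H, x = h * v * h⁻¹} with hUdef
    have hUV : U ≤ V := (Subgroup.closure_le V).mpr fun x ⟨h, hh, hx⟩ => hx ▸ (inferInstance : V.Normal).conj_mem v hv h
    have hinv : ∀ h ∈ H, U.map (MulAut.conj h).toMonoidHom = U := fun h hh => by
      rw [hUdef, MonoidHom.map_closure]
      congr 1
      ext x
      constructor
      · rintro ⟨_, ⟨k, hk, rfl⟩, rfl⟩
        exact ⟨h * k, mul_mem hh hk, by simp [mul_assoc]⟩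
      · rintro ⟨k, hk, rfl⟩
        exact ⟨h⁻¹ * k * v * (h⁻¹ * k)⁻¹, ⟨h⁻¹ * k, mul_mem (inv_mem hh) hk, rfl⟩, by simp [mul_assoc]⟩
    have hvK : ∀ h ∈ H, v * h * v⁻¹ * h⁻¹ ∈ K := fun h hh =>
      mul_mem (Subgroup.mem_sup_right ⟨h, hh, rfl⟩) (Subgroup.mem_sup_left (inv_mem hh))
    have hcom : ⁅H, U⁆ ≤ K := by
      rw [Subgroup.commutator_le]
      intro h hh u hu
      induction hu using Subgroup.closure_induction with
      | mem x hx =>
        obtain ⟨k, hk, rfl⟩ := hx
        rw [commutatorElement_def, show h * (k * v * k⁻¹) * h⁻¹ * (k * v * k⁻¹)⁻¹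
          = (v * (h * k) * v⁻¹ * (h * k)⁻¹)⁻¹ * (v * k * v⁻¹ * k⁻¹) by group]
        exact mul_mem (inv_mem (hvK _ (mul_mem hh hk))) (hvK k hk)
      | one => simp
      | mul a b ha hb iha ihb =>
        have hc : a * ⁅h, b⁆ * a⁻¹ = ⁅h, b⁆ := by
          have : ⁅h, b⁆ ∈ V := by
            rw [commutatorElement_def]
            exact mul_mem ((inferInstance : V.Normal).conj_mem b (hUV hb) h) (inv_mem (hUV hb))
          rw [setLike_mul_comm (s := V) (hUV ha) this, mul_inv_cancel_right]
        rw [show ⁅h, a * b⁆ = ⁅h, a⁆ * (a * ⁅h, b⁆ * a⁻¹) by simp only [commutatorElement_def]; group, hc]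
        exact mul_mem iha ihb
      | inv a ha iha =>
        have hc : a⁻¹ * ⁅h, a⁆ * a = ⁅h, a⁆ := by
          have : ⁅h, a⁆ ∈ V := by
            rw [commutatorElement_def]
            exact mul_mem ((inferInstance : V.Normal).conj_mem a (hUV ha) h) (inv_mem (hUV ha))
          rw [setLike_mul_comm (s := V) (inv_mem (hUV ha)) this, inv_mul_cancel_right]
        rw [show ⁅h, a⁻¹⁆ = (a⁻¹ * ⁅h, a⁆ * a)⁻¹ by simp only [commutatorElement_def]; group, hc]
        exact inv_mem iha
    have hvU : v ∈ U := Subgroup.subset_closure ⟨1, one_mem _, by simp⟩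
    have hvU' : v ∈ ((U ⊓ Subgroup.normalizer (H : Set G)) ⊔ ⁅H, U⁆ : Subgroup G) := hcrit U hUV hinv ▸ hvU
    rw [← SetLike.mem_coe, Subgroup.coe_mul_of_right_le_normalizer_left] at hvU'
    · obtain ⟨n, hn, d, hd, hnd⟩ := hvU'
      refine ⟨d, hcom hd, ?_⟩
      rw [← hnd]
      show H.map (MulAut.conj (n * d)).toMonoidHom = _
      rw [setLike_mul_comm (s := V) (hUV hn.1) (hUV (Subgroup.le_normalizer_iff_commutator_le_right.mp
        (fun k hk => Subgroup.mem_normalizer_iff_map_conj_eq.mpr (hinv k hk)) hd)), e, ← Subgroup.map_map]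
      exact congrArg _ (Subgroup.mem_normalizer_iff_map_conj_eq.mp hn.2)
    · intro d hd
      have hdV := hUV (Subgroup.le_normalizer_iff_commutator_le_right.mp
        (fun k hk => Subgroup.mem_normalizer_iff_map_conj_eq.mpr (hinv k hk)) hd)
      refine Subgroup.mem_normalizer_iff.mpr fun n => ⟨fun hn => ?_, fun hn => ?_⟩
      · rwa [setLike_mul_comm (s := V) hdV (hUV hn.1), mul_inv_cancel_right]
      · have hnV : n ∈ V := by simpa [mul_assoc] using (inferInstance : V.Normal).conj_mem _ (hUV hn.1) d⁻¹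
        rwa [setLike_mul_comm (s := V) hdV hnV, mul_inv_cancel_right] at hn

end Cfsg.Agent.S4269
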