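import Cfsg.Statements.S4271
import Cfsg.Agent.Structure.OvergroupPronormal

set_option autoImplicit false
open Cfsg

namespace Cfsg.Agent.S4271

/-- Let p be a prime and G a finite group with a normal subgroup A such that every subgroup of A containing a Sylow p-subgroup of A is pronormal in A, and the Sylow p-subgroups of G/A are self-normalizing. Let T be a Sylow p-subgroup of A. Then every subgroup of G containing a Sylow p-subgroup of G is pronormal in G if and only if every subgroup of N_G(T)/T containing a Sylow p-subgroup of N_G(T)/T is pronormal in N_G(T)/T. (Pronormal: H and gHg⁻¹ are conjugate inside the subgroup they generate, for every g.) -/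
theorem result {G : Type*} [Group G] [Finite G] {p : ℕ} [Fact p.Prime]
    (A : Subgroup G) [A.Normal] (hA : (∀ K : Subgroup ↥A, (∃ P : Sylow p ↥A, (P : Subgroup ↥A) ≤ K) → Cfsg.IsPronormal K))
    (hQ : ∀ P : Sylow p (G ⧸ A), Subgroup.normalizer ((P : Subgroup (G ⧸ A)) : Set (G ⧸ A)) = P)
    (T : Subgroup G) (hT : ∃ P : Sylow p ↥A, (P : Subgroup ↥A).map A.subtype = T) [(T.subgroupOf (Subgroup.normalizer (T : Set G))).Normal] :
    (∀ K : Subgroup G, (∃ P : Sylow p G, (P : Subgroup G) ≤ K) → Cfsg.IsPronormal K) ↔ (∀ K : Subgroup (↥(Subgroup.normalizer (T : Set G)) ⧸ T.subgroupOf (Subgroup.normalizer (T : Set G))), (∃ P : Sylow p (↥(Subgroup.normalizer (T : Set G)) ⧸ T.subgroupOf (Subgroup.normalizer (T : Set G))), (P : Subgroup (↥(Subgroup.normalizer (T : Set G)) ⧸ T.subgroupOf (Subgroup.normalizer (T : Set G)))) ≤ K) → Cfsg.IsPronormal K) := by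
  have key : ∀ K : Subgroup (G ⧸ A), (∃ P : Sylow p (G ⧸ A), (P : Subgroup (G ⧸ A)) ≤ K) →
      Subgroup.normalizer (K : Set (G ⧸ A)) ≤ K := by
    rintro K ⟨P, hP⟩ z hz
    obtain ⟨x, hx, hn⟩ := OddIndex.exists_conj_sylow K P hP z
    rw [Structure.OvergroupPronormal.map_eq_of_mem_normalizer hz, sup_idem] at hx
    rw [hQ P] at hn
    simpa using mul_mem hx (hP hn)
  have hQ' : Structure.OvergroupPronormal.AllPronormal p (G ⧸ A) := by
    rintro K ⟨P, hP⟩
    refine OddIndex.pronormal_of_normalizer K P hP fun z hz => ?_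
    rw [hQ P] at hz
    exact ⟨1, one_mem _, by
      rw [Structure.OvergroupPronormal.map_eq_of_mem_normalizer (Subgroup.le_normalizer (hP hz)),
        Structure.OvergroupPronormal.map_conj_one]⟩
  obtain ⟨P, hP⟩ := hT
  refine ⟨fun h => Structure.OvergroupPronormal.normalizer_quotient_all A T P hP h, fun h =>
    Structure.OvergroupPronormal.allPronormal_of A T hA hQ' ⟨P, hP⟩ h fun K hK => le_antisymm ?_ ?_⟩
  · exact Subgroup.le_normalizer_map _
  · obtain ⟨S, hS⟩ := hK
    exact (key _ ⟨S.mapSurjective (QuotientGroup.mk'_surjective A), Subgroup.map_mono hS⟩).trans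
      (Subgroup.map_mono Subgroup.le_normalizer)

end Cfsg.Agent.S4271
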