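import Cfsg.Statements.S4275
import Mathlib


set_option autoImplicit false
open Cfsg

namespace Cfsg.Agent.S4275

/-- Let G be a transitive group of permutations of a finite set Ω, let o ∈ Ω, and let α be an automorphism of G. Then α is induced by conjugation by a permutation of Ω normalizing G if and only if the image under α of the stabilizer of o fixes some point of Ω. -/
theorem result {Ω : Type*} [Fintype Ω] (G : Subgroup (Equiv.Perm Ω)) (htr : MulAction.IsPretransitive G Ω) (o : Ω) (α : G ≃* G) : (∃ σ : Equiv.Perm Ω, σ ∈ Subgroup.normalizer (G : Set (Equiv.Perm Ω)) ∧ ∀ g : G, ((α g : G) : Equiv.Perm Ω) = σ * (g : Equiv.Perm Ω) * σ⁻¹) ↔ ∃ ω : Ω, ∀ g ∈ (MulAction.stabilizer G o).map α.toMonoidHom, g • ω = ω := by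
  classical
  have := htr
  constructor
  · rintro ⟨σ, -, hσ⟩
    refine ⟨σ o, ?_⟩
    rintro _ ⟨g, hg, rfl⟩
    show ((α g : G) : Equiv.Perm Ω) (σ o) = σ o
    rw [hσ, Equiv.Perm.mul_apply, Equiv.Perm.mul_apply,
      show σ⁻¹ (σ o) = o from Equiv.symm_apply_apply σ o]
    exact congrArg σ (MulAction.mem_stabilizer_iff.mp hg)
  · rintro ⟨ω, hω⟩
    choose c hc using fun z : Ω => MulAction.exists_smul_eq G o z
    let s : Ω → Ω := fun z => α (c z) • ω
    have hs : ∀ (g : G) (z : Ω), s (g • z) = α g • s z := by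
      intro g z
      show α (c (g • z)) • ω = α g • α (c z) • ω
      have hmem : (c (g • z))⁻¹ * (g * c z) ∈ MulAction.stabilizer G o := by
        rw [MulAction.mem_stabilizer_iff, mul_smul, mul_smul, hc, inv_smul_eq_iff, hc]
      have h1 := hω _ ⟨_, hmem, rfl⟩
      rw [MulEquiv.coe_toMonoidHom, map_mul, map_inv, map_mul, mul_smul, mul_smul, inv_smul_eq_iff] at h1
      exact h1.symm
    have hsurj : Function.Surjective s := by
      intro w
      obtain ⟨g, hg⟩ := MulAction.exists_smul_eq G (s o) w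
      exact ⟨α.symm g • o, by rw [hs, MulEquiv.apply_symm_apply, hg]⟩
    let σ : Equiv.Perm Ω := Equiv.ofBijective s (Finite.surjective_iff_bijective.mp hsurj)
    have hα : ∀ g : G, ((α g : G) : Equiv.Perm Ω) = σ * (g : Equiv.Perm Ω) * σ⁻¹ := by
      intro g
      refine eq_mul_inv_of_mul_eq (Equiv.Perm.ext fun z => ?_)
      exact (hs g z).symm
    refine ⟨σ, Subgroup.mem_normalizer_fintype fun g hg => ?_, hα⟩
    rw [SetLike.mem_coe, ← hα ⟨g, hg⟩]
    exact (α ⟨g, hg⟩).2

end Cfsg.Agent.S4275
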