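import Cfsg.Statements.S4277


set_option autoImplicit false
open Cfsg

namespace Cfsg.Agent.S4277

open MulAction Pointwise

section

variable {G : Type*} [Group G] [Finite G] {X : Type*} [Fintype X] [DecidableEq X] [MulAction G X]
  {p : ℕ}

variable (X) in
/-- The permutation matrix of a group element. -/
def permMat (p : ℕ) (g : G) : Matrix X X (ZMod p) := Matrix.of fun a b => if a = g • b then 1 else 0

theorem permMat_mul (g : G) (M : Matrix X X (ZMod p)) (a c : X) :
    (permMat X p g * M) a c = M (g⁻¹ • a) c := by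
  rw [Matrix.mul_apply, Finset.sum_eq_single (g⁻¹ • a)]
  · simp [permMat]
  · intro b _ hb
    have : a ≠ g • b := fun h => hb (by rw [h, inv_smul_smul])
    simp [permMat, this]
  · simp

theorem mul_permMat (g : G) (M : Matrix X X (ZMod p)) (a c : X) :
    (M * permMat X p g) a c = M a (g • c) := by
  rw [Matrix.mul_apply, Finset.sum_eq_single (g • c)]
  · simp [permMat]
  · intro b _ hb
    simp [permMat, hb]
  · simp

theorem permMat_hom (g h : G) :
    (permMat X p g * permMat X p h : Matrix X X (ZMod p)) = permMat X p (g * h) := by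
  ext a c
  rw [mul_permMat]
  simp [permMat, mul_smul]

theorem permMat_one : (permMat X p (1 : G) : Matrix X X (ZMod p)) = 1 := by
  ext a c
  simp [permMat, Matrix.one_apply]

theorem permMat_pow (g : G) : ∀ i : ℕ,
    (permMat X p g : Matrix X X (ZMod p)) ^ i = permMat X p (g ^ i)
  | 0 => by rw [pow_zero, pow_zero, permMat_one]
  | i + 1 => by rw [pow_succ, pow_succ, permMat_pow g i, permMat_hom]

variable (p) in
open Classical in
/-- The intertwiner between the action and its twist by `φ`. -/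
noncomputable def twist (x₀ : X) (φ : MulAut G) : Matrix X X (ZMod p) :=
  Matrix.of fun a b => if ∃ g : G, φ g • x₀ = a ∧ g • x₀ = b then 1 else 0

theorem twist_inv (x₀ : X) (φ : MulAut G) (h : G) (a b : X) :
    twist p x₀ φ (φ h • a) (h • b) = twist p x₀ φ a b := by
  classical
  unfold twist
  simp only [Matrix.of_apply]
  congr 1
  refine propext ⟨?_, ?_⟩
  · rintro ⟨g, h1, h2⟩
    exact ⟨h⁻¹ * g, by rw [map_mul, map_inv, mul_smul, h1, inv_smul_smul],
      by rw [mul_smul, h2, inv_smul_smul]⟩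
  · rintro ⟨g, h1, h2⟩
    exact ⟨h * g, by rw [map_mul, mul_smul, h1], by rw [mul_smul, h2]⟩

theorem twist_intertwines (x₀ : X) (φ : MulAut G) (h : G) :
    permMat X p (φ h) * twist p x₀ φ = twist p x₀ φ * permMat X p h := by
  ext a c
  rw [permMat_mul, mul_permMat, ← twist_inv x₀ φ h ((φ h)⁻¹ • a) c, smul_inv_smul]

/-- Automorphisms centralising a regular element of prime order commute. -/
theorem centraliser_comm [hp : Fact p.Prime] [FaithfulSMul G X] (x₀ : X) (x : G)
    (hord : x ^ p = 1) (hbij : ∀ a : X, ∃! i : ℕ, i < p ∧ x ^ i • x₀ = a)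
    (hstab : ¬ p ∣ Nat.card (stabilizer G x₀))
    (φ ψ : MulAut G) (hφ : φ x = x) (hψ : ψ x = x) : φ * ψ = ψ * φ := by
  classical
  have hcomm : ∀ χ : MulAut G, χ x = x → ∀ i : ℕ,
      Commute (twist p x₀ χ) (permMat X p (x ^ i)) := by
    intro χ hχ i
    have h : χ (x ^ i) = x ^ i := by rw [map_pow, hχ]
    have := twist_intertwines (p := p) x₀ χ (x ^ i)
    rw [h] at this
    exact this.symm
  have hexp : ∀ χ : MulAut G, χ x = x →
      twist p x₀ χ = ∑ i ∈ Finset.range p, twist p x₀ χ (x ^ i • x₀) x₀ • permMat X p (x ^ i) := by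
    intro χ hχ
    set M := ∑ i ∈ Finset.range p, twist p x₀ χ (x ^ i • x₀) x₀ • permMat X p (x ^ i) with hM
    have hcol : ∀ a : X, twist p x₀ χ a x₀ = M a x₀ := by
      intro a
      obtain ⟨i, ⟨hi, rfl⟩, huniq⟩ := hbij a
      rw [hM, Matrix.sum_apply, Finset.sum_eq_single i]
      · simp [permMat]
      · intro j hj hji
        have : x ^ i • x₀ ≠ x ^ j • x₀ := fun he =>
          hji (huniq j ⟨Finset.mem_range.1 hj, he.symm⟩)
        simp [permMat, this]
      · simp [hi]
    ext a b
    obtain ⟨j, ⟨-, rfl⟩, -⟩ := hbij b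
    have hMc : Commute M (permMat X p (x ^ j)) := by
      refine Commute.sum_left _ _ _ fun i _ => Commute.smul_left ?_ _
      show permMat X p (x ^ i) * permMat X p (x ^ j) = permMat X p (x ^ j) * permMat X p (x ^ i)
      rw [permMat_hom, permMat_hom, ← pow_add, ← pow_add, add_comm]
    rw [← mul_permMat (x ^ j) (twist p x₀ χ) a x₀, ← mul_permMat (x ^ j) M a x₀,
      (hcomm χ hχ j).eq, hMc.eq, permMat_mul, permMat_mul, hcol]
  have hTT : twist p x₀ φ * twist p x₀ ψ = twist p x₀ ψ * twist p x₀ φ := by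
    conv_lhs => rw [hexp ψ hψ]
    conv_rhs => rw [hexp ψ hψ]
    exact (Commute.sum_right _ _ _ fun i _ => (hcomm φ hφ i).smul_right _).eq
  have hunit : ∀ χ : MulAut G, χ x = x → IsUnit (twist p x₀ χ) := by
    intro χ hχ
    set t : ℕ → ZMod p := fun i => twist p x₀ χ (x ^ i • x₀) x₀ with ht
    let S : Finset ℕ := (Finset.range p).filter fun i => ∃ g : G, χ g • x₀ = x ^ i • x₀ ∧ g • x₀ = x₀
    have hsum : ∑ i ∈ Finset.range p, t i = (S.card : ZMod p) := by
      rw [Finset.natCast_card_filter]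
      exact Finset.sum_congr rfl fun i _ => rfl
    let K : Subgroup G := (stabilizer G x₀).map χ.toMonoidHom
    have hS : S.card = (orbit K x₀).ncard := by
      rw [← Set.ncard_coe_finset]
      refine Set.ncard_congr (fun i _ => x ^ i • x₀) ?_ ?_ ?_
      · intro i hi
        obtain ⟨g, hg, hg'⟩ := (Finset.mem_filter.1 hi).2
        exact ⟨⟨χ g, g, hg', rfl⟩, hg⟩
      · intro i j hi hj he
        obtain ⟨k, -, hk⟩ := hbij (x ^ j • x₀)
        rw [hk i ⟨Finset.mem_range.1 (Finset.mem_filter.1 hi).1, he⟩,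
          hk j ⟨Finset.mem_range.1 (Finset.mem_filter.1 hj).1, rfl⟩]
      · rintro _ ⟨⟨_, g, hg, rfl⟩, rfl⟩
        obtain ⟨i, ⟨hi, hi'⟩, -⟩ := hbij (χ g • x₀)
        exact ⟨i, Finset.mem_filter.2 ⟨Finset.mem_range.2 hi, g, hi'.symm, hg⟩, hi'⟩
    have hs0 : (∑ i ∈ Finset.range p, t i) ≠ 0 := by
      rw [hsum, Ne, ZMod.natCast_eq_zero_iff, hS, ← index_stabilizer]
      intro h
      apply hstab
      have h2 := h.trans (Subgroup.index_dvd_card (stabilizer K x₀))
      rwa [Subgroup.card_map_of_injective χ.injective] at h2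
    have hnil : IsNilpotent (∑ i ∈ Finset.range p,
        t i • ((permMat X p (x ^ i) : Matrix X X (ZMod p)) - 1)) := by
      refine Commute.isNilpotent_sum (fun i _ => ?_) (fun i j _ _ => ?_)
      · refine ⟨p, ?_⟩
        haveI : Nonempty X := ⟨x₀⟩
        rw [smul_pow, sub_pow_char_of_commute _ (Commute.one_right _), one_pow, permMat_pow,
          ← pow_mul, mul_comm, pow_mul, hord, one_pow, permMat_one, sub_self, smul_zero]
      · refine ((Commute.sub_left ?_ (Commute.one_left _)).smul_left _).smul_right _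
        refine Commute.sub_right ?_ (Commute.one_right _)
        show permMat X p (x ^ i) * permMat X p (x ^ j) = permMat X p (x ^ j) * permMat X p (x ^ i)
        rw [permMat_hom, permMat_hom, ← pow_add, ← pow_add, add_comm]
    have heq : twist p x₀ χ = (∑ i ∈ Finset.range p, t i) • (1 : Matrix X X (ZMod p)) +
        ∑ i ∈ Finset.range p, t i • ((permMat X p (x ^ i) : Matrix X X (ZMod p)) - 1) := by
      rw [Finset.sum_smul, ← Finset.sum_add_distrib]
      refine (hexp χ hχ).trans (Finset.sum_congr rfl fun i _ => ?_)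
      rw [smul_sub, add_sub_cancel]
    rw [heq]
    refine hnil.isUnit_add_left_of_commute ?_ ?_
    · rw [← Algebra.algebraMap_eq_smul_one]
      exact (IsUnit.mk0 _ hs0).map _
    · exact (Commute.one_right _).smul_right _
  have hM := (hunit φ hφ).mul (hunit ψ hψ)
  refine MulEquiv.ext fun g => FaithfulSMul.eq_of_smul_eq_smul fun b : X => ?_
  have e1 : permMat X p (φ (ψ g)) * (twist p x₀ φ * twist p x₀ ψ)
      = twist p x₀ φ * twist p x₀ ψ * permMat X p g := by
    rw [← mul_assoc, twist_intertwines, mul_assoc, twist_intertwines, mul_assoc]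
  have e2 : permMat X p (ψ (φ g)) * (twist p x₀ φ * twist p x₀ ψ)
      = twist p x₀ φ * twist p x₀ ψ * permMat X p g := by
    rw [hTT, ← mul_assoc, twist_intertwines, mul_assoc, twist_intertwines, mul_assoc]
  have e3 : (permMat X p (φ (ψ g)) : Matrix X X (ZMod p)) = permMat X p (ψ (φ g)) :=
    hM.mul_right_cancel (e1.trans e2.symm)
  have e4 := congrFun (congrFun e3 (φ (ψ g) • b)) b
  simp only [permMat, Matrix.of_apply, if_true] at e4
  show φ (ψ g) • b = ψ (φ g) • b
  by_contra hne
  rw [if_neg hne] at e4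
  exact one_ne_zero e4

end

/-- A case of the Schreier conjecture: if a finite simple group G has a subgroup of prime index, then the outer automorphism group of G is solvable. -/
theorem result {G : Type*} [Group G] [Finite G] [IsSimpleGroup G] (H : Subgroup G) (hH : H.index.Prime) : Group.IsSolvable (Cfsg.Out G) := by
  classical
  set p := H.index with hpdef
  haveI := Fact.mk hH
  haveI : Fintype (G ⧸ H) := Fintype.ofFinite _
  have hcore : H.normalCore = ⊥ := by
    refine (H.normalCore_normal.eq_bot_or_eq_top).resolve_right fun h => ?_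
    have hH' : H = ⊤ := top_le_iff.1 (h ▸ H.normalCore_le)
    exact hH.ne_one (by rw [hpdef, hH', Subgroup.index_top])
  have hinj : Function.Injective (MulAction.toPermHom G (G ⧸ H)) := by
    rw [← MonoidHom.ker_eq_bot_iff, ← Subgroup.normalCore_eq_ker, hcore]
  haveI : FaithfulSMul G (G ⧸ H) :=
    ⟨fun {a b} h => hinj (Equiv.ext fun q => h q)⟩
  have hpH : ¬ p ∣ Nat.card H := by
    intro h
    have h1 := Subgroup.card_dvd_of_injective _ hinj
    rw [Nat.card_perm, ← Subgroup.index, ← hpdef, ← Subgroup.card_mul_index H, ← hpdef,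
      ← Nat.mul_factorial_pred hH.ne_zero, mul_comm p] at h1
    have h2 := h.trans (Nat.dvd_of_mul_dvd_mul_right hH.pos h1)
    have := (hH.dvd_factorial).1 h2
    have := hH.two_le
    omega
  obtain ⟨x, hx⟩ := exists_prime_orderOf_dvd_card' (G := G) p (hpdef ▸ Subgroup.index_dvd_card H)
  have hxp : x ^ p = 1 := hx ▸ pow_orderOf_eq_one x
  set x₀ : G ⧸ H := ((1 : G) : G ⧸ H) with hx₀
  have hstab : MulAction.stabilizer G x₀ = H := MulAction.stabilizer_quotient H
  have hinjp : Function.Injective fun i : Fin p => x ^ (i : ℕ) • x₀ := by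
    intro i j he
    have hmem : (x ^ (j : ℕ))⁻¹ * x ^ (i : ℕ) ∈ H := by
      rw [← hstab, MulAction.mem_stabilizer_iff, mul_smul]
      simp only at he
      rw [he, inv_smul_smul]
    have hone : (x ^ (j : ℕ))⁻¹ * x ^ (i : ℕ) = 1 := by
      by_contra hne
      set y := (x ^ (j : ℕ))⁻¹ * x ^ (i : ℕ)
      have hy : y ^ p = 1 := by
        have hc : Commute (x ^ (j : ℕ))⁻¹ (x ^ (i : ℕ)) :=
          ((Commute.refl x).pow_pow _ _).inv_left
        rw [hc.mul_pow, inv_pow, ← pow_mul, ← pow_mul, mul_comm _ p, mul_comm _ p, pow_mul,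
          pow_mul, hxp, one_pow, one_pow, inv_one, one_mul]
      apply hpH
      rw [← orderOf_eq_prime hy hne]
      exact Subgroup.orderOf_dvd_natCard H hmem
    rw [inv_mul_eq_one] at hone
    exact Fin.ext (pow_injOn_Iio_orderOf (by simpa [hx] using i.2) (by simpa [hx] using j.2)
      hone.symm)
  have hbij : ∀ a : G ⧸ H, ∃! i : ℕ, i < p ∧ x ^ i • x₀ = a := by
    intro a
    have hb := (Fintype.bijective_iff_injective_and_card _).2 ⟨hinjp, by
      rw [Fintype.card_fin, ← Nat.card_eq_fintype_card, ← Subgroup.index, hpdef]⟩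
    obtain ⟨i, hi⟩ := hb.2 a
    refine ⟨i, ⟨i.2, hi⟩, fun j hj => ?_⟩
    have := hinjp (a₁ := ⟨j, hj.1⟩) (a₂ := i) (hj.2.trans hi.symm)
    rw [← this]
  let N : Subgroup (MulAut G) := MulAction.stabilizer (MulAut G) (Subgroup.zpowers x)
  let C : Subgroup (MulAut G) := MulAction.stabilizer (MulAut G) x
  have hNmem : ∀ φ ∈ N, ∀ y ∈ Subgroup.zpowers x, φ y ∈ Subgroup.zpowers x := by
    intro φ hφ y hy
    conv => rw [← (MulAction.mem_stabilizer_iff.1 hφ)]
    exact Subgroup.smul_mem_pointwise_smul y φ _ hy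
  have hNC : ⁅N, N⁆ ≤ C := by
    rw [Subgroup.commutator_le]
    intro φ hφ ψ hψ
    rw [MulAction.mem_stabilizer_iff, MulAut.smul_def, commutatorElement_def]
    obtain ⟨a, ha⟩ := mem_powers_iff_mem_zpowers.2 (hNmem φ hφ x (Subgroup.mem_zpowers x))
    obtain ⟨b, hb⟩ := mem_powers_iff_mem_zpowers.2 (hNmem ψ hψ x (Subgroup.mem_zpowers x))
    simp only at ha hb
    have hy : φ⁻¹ (ψ⁻¹ x) ∈ Subgroup.zpowers x :=
      hNmem _ (N.inv_mem hφ) _ (hNmem _ (N.inv_mem hψ) _ (Subgroup.mem_zpowers x))
    obtain ⟨k, hk⟩ := mem_powers_iff_mem_zpowers.2 hy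
    simp only at hk
    have h1 : ψ (φ (φ⁻¹ (ψ⁻¹ x))) = x := by
      rw [MulAut.apply_inv_self, MulAut.apply_inv_self]
    show φ (ψ (φ⁻¹ (ψ⁻¹ x))) = x
    refine Eq.trans ?_ h1
    rw [← hk, map_pow, map_pow, map_pow, map_pow, ← hb, map_pow, ← ha, map_pow, ← hb,
      ← pow_mul, ← pow_mul, ← pow_mul, ← pow_mul]
    ring_nf
  have hCC : ⁅C, C⁆ = ⊥ := by
    rw [← le_bot_iff, Subgroup.commutator_le]
    intro φ hφ ψ hψ
    rw [Subgroup.mem_bot, commutatorElement_eq_one_iff_mul_comm]
    exact centraliser_comm x₀ x hxp hbij (by rwa [hstab]) φ ψ hφ hψ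
  haveI hNsol : Group.IsSolvable N := by
    refine (Group.isSolvable_def N).2 ⟨2, ?_⟩
    apply Subgroup.map_injective N.subtype_injective
    rw [Subgroup.map_bot, derivedSeries_succ, derivedSeries_succ, derivedSeries_zero,
      Subgroup.map_commutator, Subgroup.map_commutator, ← MonoidHom.range_eq_map,
      Subgroup.range_subtype, ← le_bot_iff, ← hCC]
    exact Subgroup.commutator_mono hNC hNC
  have hsurj : Function.Surjective ((QuotientGroup.mk' (Cfsg.Inn G)).comp N.subtype) := by
    intro q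
    obtain ⟨φ, rfl⟩ := QuotientGroup.mk'_surjective _ q
    have hcard : ∀ Q : Subgroup G, Nat.card Q = p → Nat.card Q = p ^ (Nat.card G).factorization p := by
      intro Q hQ
      have hfac : (Nat.card G).factorization p = 1 := by
        rw [← Subgroup.card_mul_index H, ← hpdef, Nat.factorization_mul Nat.card_pos.ne' hH.ne_zero]
        simp [Nat.factorization_eq_zero_of_not_dvd hpH, hH.factorization_self]
      rw [hQ, hfac, pow_one]
    have h1 : Nat.card (Subgroup.zpowers x) = p := by rw [Nat.card_zpowers, hx]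
    have h2 : Nat.card ((Subgroup.zpowers x).map φ.toMonoidHom) = p := by
      rw [Subgroup.card_map_of_injective φ.injective, h1]
    obtain ⟨g, hg⟩ := MulAction.exists_smul_eq G (Sylow.ofCard _ (hcard _ h2))
      (Sylow.ofCard _ (hcard _ h1))
    have hg' := congrArg (fun S : Sylow p G => (S : Subgroup G)) hg
    simp only [Sylow.coe_subgroup_smul] at hg'
    refine ⟨⟨MulAut.conj g * φ, ?_⟩, ?_⟩
    · rw [MulAction.mem_stabilizer_iff, mul_smul]
      exact hg'
    · simp only [MonoidHom.comp_apply, Subgroup.coe_subtype, map_mul]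
      rw [show (QuotientGroup.mk' (Cfsg.Inn G)) (MulAut.conj g) = 1 from
        (QuotientGroup.eq_one_iff _).2 ⟨g, rfl⟩, one_mul]
  exact Group.isSolvable_of_surjective hsurj

end Cfsg.Agent.S4277
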