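import Cfsg.Statements.S4280
import Cfsg.Agent.Chev.InvolTwoF4

set_option autoImplicit false
open Cfsg

namespace Cfsg.Agent.S4280

/-- In the Chevalley group of type F₄ over a finite field of odd order q there are exactly two conjugacy classes of involutions; the centralizer of an involution in one class has order q¹⁶(q² − 1)(q⁴ − 1)(q⁶ − 1)(q⁸ − 1), and in the other class q¹⁰(q² − 1)²(q⁴ − 1)(q⁶ − 1). -/
theorem result {F : Type*} [Field F] [Fintype F] (hF : Odd (Fintype.card F)) : ∃ s t : ↥(Cfsg.Lie.chevF4.group F), orderOf s = 2 ∧ orderOf t = 2 ∧ ¬ IsConj s t ∧ (∀ u : ↥(Cfsg.Lie.chevF4.group F), orderOf u = 2 → IsConj u s ∨ IsConj u t) ∧ Nat.card (Subgroup.centralizer ({s} : Set ↥(Cfsg.Lie.chevF4.group F))) = Fintype.card F ^ 16 * (Fintype.card F ^ 2 - 1) * (Fintype.card F ^ 4 - 1) * (Fintype.card F ^ 6 - 1) * (Fintype.card F ^ 8 - 1) ∧ Nat.card (Subgroup.centralizer ({t} : Set ↥(Cfsg.Lie.chevF4.group F))) = Fintype.card F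 ^ 10 * (Fintype.card F ^ 2 - 1) ^ 2 * (Fintype.card F ^ 4 - 1) * (Fintype.card F ^ 6 - 1) := by
  have h := Chev.f4_checks
  have hf := Chev.facts_chevF4
  have hi := Chev.InvolTwo.f4_inj (F := F)
  have cs := Chev.InvolTwo.card_cent h hf hi hF Chev.f4_rows Chev.InvolTwo.f4Stab2_ok
    Chev.InvolTwo.f4Stab2_chain Chev.InvolTwo.f4Stab2_keys Chev.InvolTwo.f4Stab2_factor
  have ct := Chev.InvolTwo.card_cent h hf hi hF Chev.f4_rows Chev.InvolTwo.f4Stab5_ok
    Chev.InvolTwo.f4Stab5_chain Chev.InvolTwo.f4Stab5_keys Chev.InvolTwo.f4Stab5_factor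
  rw [Chev.InvolTwo.f4Stab2_count] at cs
  rw [Chev.InvolTwo.f4Stab5_count] at ct
  refine ⟨_, _, Chev.InvolTwo.orderOf_zN h hf hi hF (m := Chev.InvolTwo.f4Stab2.m) (by decide),
    Chev.InvolTwo.orderOf_zN h hf hi hF (m := Chev.InvolTwo.f4Stab5.m) (by decide), fun hst => ?_,
    Chev.InvolTwo.conj_cases h hf hi hF Chev.InvolTwo.f4_adjacent Chev.InvolTwo.f4_orbit,
    ?_, ?_⟩
  · have e := Chev.InvolTwo.card_centralizer_conj hst
    rw [cs, ct] at e
    exact Chev.InvolTwo.f4_card_ne (Fintype.one_lt_card) e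
  · simpa [Finset.prod_Icc_succ_top, mul_assoc, pow_two] using cs
  · simpa [pow_two, mul_assoc] using ct

end Cfsg.Agent.S4280
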