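import Cfsg.Statements.S4281
import Cfsg.Agent.Chev.InvolTwoE8

set_option autoImplicit false
open scoped BigOperators
open Cfsg

namespace Cfsg.Agent.S4281

/-- In the Chevalley group of type E₈ over a finite field of odd order q there are exactly two conjugacy classes of involutions; the centralizer of an involution in one class has order q⁵⁶(q⁸ − 1)·∏_{i=1}^{7}(q^{2i} − 1), and in the other class q⁶⁴(q² − 1)²(q⁶ − 1)(q⁸ − 1)(q¹⁰ − 1)(q¹² − 1)(q¹⁴ − 1)(q¹⁸ − 1). -/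
theorem result {F : Type*} [Field F] [Fintype F] (hF : Odd (Fintype.card F)) : ∃ s t : ↥(Cfsg.Lie.chevE8.group F), orderOf s = 2 ∧ orderOf t = 2 ∧ ¬ IsConj s t ∧ (∀ u : ↥(Cfsg.Lie.chevE8.group F), orderOf u = 2 → IsConj u s ∨ IsConj u t) ∧ Nat.card (Subgroup.centralizer ({s} : Set ↥(Cfsg.Lie.chevE8.group F))) = Fintype.card F ^ 56 * (Fintype.card F ^ 8 - 1) * ∏ i ∈ Finset.Icc 1 7, (Fintype.card F ^ (2 * i) - 1) ∧ Nat.card (Subgroup.centralizer ({t} : Set ↥(Cfsg.Lie.chevE8.group F))) = Fintype.card F ^ 64 * (Fintype.card F ^ 2 - 1) ^ 2 * (Fintype.card F ^ 6 - 1) * (Fintype.card F ^ 8 - 1) * (Fintype.card F ^ 10 - 1) * (Fintype.card F ^ 12 - 1) * (Fintype.card F ^ 14 - 1) * (Fintype.card F ^ 18 - 1) := by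
  have h := Chev.e8_checks
  have hf := Chev.facts_chevE8
  have hi := Chev.InvolTwo.e8_inj (F := F)
  have cs := Chev.InvolTwo.card_cent h hf hi hF Chev.e8_rows Chev.InvolTwo.e8Stab6_ok
    Chev.InvolTwo.e8Stab6_chain Chev.InvolTwo.e8Stab6_keys Chev.InvolTwo.e8Stab6_factor
  have ct := Chev.InvolTwo.card_cent h hf hi hF Chev.e8_rows Chev.InvolTwo.e8Stab82_ok
    Chev.InvolTwo.e8Stab82_chain Chev.InvolTwo.e8Stab82_keys Chev.InvolTwo.e8Stab82_factor
  rw [Chev.InvolTwo.e8Stab6_count] at cs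
  rw [Chev.InvolTwo.e8Stab82_count] at ct
  refine ⟨_, _, Chev.InvolTwo.orderOf_zN h hf hi hF (m := Chev.InvolTwo.e8Stab6.m) (by decide),
    Chev.InvolTwo.orderOf_zN h hf hi hF (m := Chev.InvolTwo.e8Stab82.m) (by decide), fun hst => ?_,
    Chev.InvolTwo.conj_cases h hf hi hF Chev.InvolTwo.e8_adjacent Chev.InvolTwo.e8_orbit,
    ?_, ?_⟩
  · have e := Chev.InvolTwo.card_centralizer_conj hst
    rw [cs, ct] at e
    exact Chev.InvolTwo.e8_card_ne (Fintype.one_lt_card) e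
  · simpa [Finset.prod_Icc_succ_top, mul_assoc, mul_left_comm, pow_two] using cs
  · simpa [pow_two, mul_assoc] using ct

end Cfsg.Agent.S4281
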