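import Cfsg.Statements.S4283
import Cfsg.Agent.Core.FrobeniusGroup


set_option autoImplicit false
open Cfsg

namespace Cfsg.Agent.S4283

/-- Let G be a finite group with centre Z and let K, H be abelian subgroups of G containing Z such that G/Z is a Frobenius group with complement H/Z and kernel K/Z. Then the conjugacy class sizes of G are exactly 1, [G : K] and [G : H], and these two indices are coprime. (This is the converse half of the characterization of finite groups whose conjugacy class sizes are exactly 1, m and n with m and n coprime.) -/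
theorem result {G : Type*} [Group G] [Finite G] (K H : Subgroup G) (hZK : Subgroup.center G ≤ K) (hZH : Subgroup.center G ≤ H) (hK : IsMulCommutative K) (hH : IsMulCommutative H) (hFrob : Cfsg.IsFrobeniusComplement (H.map (QuotientGroup.mk' (Subgroup.center G)))) (hker : Cfsg.frobeniusKernel (H.map (QuotientGroup.mk' (Subgroup.center G))) = (K.map (QuotientGroup.mk' (Subgroup.center G)) : Set (G ⧸ Subgroup.center G))) : Set.range (fun x : G => (Subgroup.centralizer ({x} : Set G)).index) = ({1, K.index, H.index} : Set ℕ) ∧ K.index.Coprime H.index := by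
  have hker' := hker
  clear hker
  let f := QuotientGroup.mk' (Subgroup.center G)
  have hs : Function.Surjective f := QuotientGroup.mk'_surjective _
  have hker : ∀ U : Subgroup G, Subgroup.center G ≤ U → (U.map f).comap f = U := fun U hU =>
    Subgroup.comap_map_eq_self ((QuotientGroup.ker_mk' _).le.trans hU)
  have hmem : ∀ U : Subgroup G, Subgroup.center G ≤ U → ∀ g, (f g ∈ U.map f ↔ g ∈ U) := fun U hU g => by
    rw [← Subgroup.mem_comap, hker U hU]
  obtain ⟨N, hNset, hNn, hNc⟩ := Cfsg.Agent.Core.exists_frobeniusKernel hFrob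
  have hNK : N = K.map f := SetLike.coe_injective (hNset.trans hker')
  subst hNK
  have hmal := Cfsg.Agent.Core.malnormal_of_isFrobeniusComplement hFrob
  have hidxH : H.index = Nat.card (K.map f) := by
    exact (Subgroup.index_map_eq (f := f) H hs (by rw [QuotientGroup.ker_mk']; exact hZH)).symm.trans
      hNc.index_eq_card
  have hidxK : K.index = Nat.card (H.map f) := by
    exact (Subgroup.index_map_eq (f := f) K hs (by rw [QuotientGroup.ker_mk']; exact hZK)).symm.trans
      hNc.symm.index_eq_card
  have hcop : K.index.Coprime H.index := by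
    have h1 := Cfsg.Agent.Core.card_frobenius_modEq hFrob
    rw [hidxK, ← Subgroup.index_map_eq (f := f) H hs (by rw [QuotientGroup.ker_mk']; exact hZH)]
    rw [Nat.coprime_iff_gcd_eq_one, Nat.gcd_comm, h1.gcd_eq, Nat.gcd_one_left]
  refine ⟨?_, hcop⟩
  have hone : ∀ x : G, x ∈ Subgroup.center G → Subgroup.centralizer ({x} : Set G) = ⊤ := fun x hx =>
    (Subgroup.eq_top_iff' _).mpr fun a =>
      Subgroup.mem_centralizer_singleton_iff.mpr (Subgroup.mem_center_iff.mp hx a)
  have hfne : ∀ x : G, x ∉ Subgroup.center G → f x ≠ 1 := fun x hx h =>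
    hx ((QuotientGroup.eq_one_iff x).mp h)
  have hKc : ∀ x ∈ K, x ∉ Subgroup.center G → Subgroup.centralizer ({x} : Set G) = K := by
    intro x hxK hxZ
    refine le_antisymm (fun y hy => ?_) fun y hy =>
      Subgroup.mem_centralizer_singleton_iff.mpr (setLike_mul_comm hy hxK)
    rw [← hmem K hZK]
    by_contra hyK
    have hyk : f y ∉ Cfsg.frobeniusKernel (H.map f) := by rw [← hNset]; exact hyK
    rw [Cfsg.Agent.Core.mem_frobeniusKernel_iff, not_or] at hyk
    obtain ⟨hy1, hy2⟩ := hyk
    push Not at hy2
    obtain ⟨z, hz⟩ := hy2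
    have hc : f y * f x = f x * f y := by
      rw [← map_mul, ← map_mul, Subgroup.mem_centralizer_singleton_iff.mp hy]
    have hwN : z⁻¹ * f x * z ∈ K.map f := hNn.conj_mem' _ (Subgroup.mem_map_of_mem f hxK) z
    by_cases hwH : z⁻¹ * f x * z ∈ H.map f
    · apply hfne x hxZ
      have h0 : z⁻¹ * f x * z = 1 := Subgroup.disjoint_def.mp hNc.disjoint hwN hwH
      have := congrArg (fun t => z * t * z⁻¹) h0
      simpa [mul_assoc] using this
    · apply hy1
      have h0 := hmal _ hwH _ hz (by
        rw [show z⁻¹ * f x * z * (z⁻¹ * f y * z) * (z⁻¹ * f x * z)⁻¹ = z⁻¹ * (f x * f y * (f x)⁻¹) * z by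
          group, ← hc, mul_inv_cancel_right]
        exact hz)
      have := congrArg (fun t => z * t * z⁻¹) h0
      simpa [mul_assoc] using this
  have hHc : ∀ x ∈ H, x ∉ Subgroup.center G → Subgroup.centralizer ({x} : Set G) = H := by
    intro x hxH hxZ
    refine le_antisymm (fun y hy => ?_) fun y hy =>
      Subgroup.mem_centralizer_singleton_iff.mpr (setLike_mul_comm hy hxH)
    rw [← hmem H hZH]
    by_contra hyH
    refine hfne x hxZ (hmal _ hyH _ (Subgroup.mem_map_of_mem f hxH) ?_)
    rw [← map_mul, Subgroup.mem_centralizer_singleton_iff.mp hy, map_mul, mul_inv_cancel_right]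
    exact Subgroup.mem_map_of_mem f hxH
  ext n
  simp only [Set.mem_range, Set.mem_insert_iff, Set.mem_singleton_iff]
  constructor
  · rintro ⟨x, rfl⟩
    by_cases hxZ : x ∈ Subgroup.center G
    · left; rw [hone x hxZ, Subgroup.index_top]
    by_cases hxK : x ∈ K
    · right; left; rw [hKc x hxK hxZ]
    · right; right
      have hxk : f x ∉ Cfsg.frobeniusKernel (H.map f) := by
        rw [← hNset]; exact fun h => hxK ((hmem K hZK x).mp h)
      rw [Cfsg.Agent.Core.mem_frobeniusKernel_iff, not_or] at hxk
      have h2 := hxk.2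
      push Not at h2
      obtain ⟨z, hz⟩ := h2
      obtain ⟨z, rfl⟩ := hs z
      rw [← map_inv, ← map_mul, ← map_mul, hmem H hZH] at hz
      have hzZ : z⁻¹ * x * z ∉ Subgroup.center G := fun h => hxZ (by
        simpa [mul_assoc] using (inferInstance : (Subgroup.center G).Normal).conj_mem _ h z)
      rw [← hHc _ hz hzZ]
      have hmap : Subgroup.centralizer ({x} : Set G) =
          (Subgroup.centralizer ({z⁻¹ * x * z} : Set G)).map (MulAut.conj z).toMonoidHom := by
        ext a
        rw [Subgroup.mem_centralizer_singleton_iff, Subgroup.mem_map]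
        constructor
        · intro ha
          refine ⟨z⁻¹ * a * z, Subgroup.mem_centralizer_singleton_iff.mpr ?_, by simp [mul_assoc]⟩
          calc z⁻¹ * a * z * (z⁻¹ * x * z) = z⁻¹ * (a * x) * z := by group
            _ = z⁻¹ * (x * a) * z := by rw [ha]
            _ = z⁻¹ * x * z * (z⁻¹ * a * z) := by group
        · rintro ⟨b, hb, rfl⟩
          rw [Subgroup.mem_centralizer_singleton_iff] at hb
          simp only [MulEquiv.coe_toMonoidHom, MulAut.conj_apply]
          calc z * b * z⁻¹ * x = z * (b * (z⁻¹ * x * z)) * z⁻¹ := by group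
            _ = z * (z⁻¹ * x * z * b) * z⁻¹ := by rw [hb]
            _ = x * (z * b * z⁻¹) := by group
      rw [hmap, Subgroup.index_map_of_bijective (MulAut.conj z).bijective]
  · have hex : ∀ U : Subgroup G, Subgroup.center G ≤ U → U.map f ≠ ⊥ →
        ∃ x ∈ U, x ∉ Subgroup.center G := by
      intro U _ hU
      by_contra hc
      push Not at hc
      exact hU ((Subgroup.map_eq_bot_iff _).mpr ((QuotientGroup.ker_mk' (Subgroup.center G)).symm ▸ hc))
    rintro (rfl | rfl | rfl)
    · exact ⟨1, by rw [hone 1 (one_mem _), Subgroup.index_top]⟩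
    · obtain ⟨x, hx, hxZ⟩ := hex K hZK fun h => hFrob.2.1 (by
        rw [h] at hNc
        exact Subgroup.isComplement'_bot_left.mp hNc)
      exact ⟨x, by rw [hKc x hx hxZ]⟩
    · obtain ⟨x, hx, hxZ⟩ := hex H hZH hFrob.1
      exact ⟨x, by rw [hHc x hx hxZ]⟩

end Cfsg.Agent.S4283
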