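import Cfsg.Statements.S4291
import Cfsg.Agent.FPF25.ComplementQuotient
-- import your own Cfsg.Agent.* helpers here

set_option autoImplicit false
open Cfsg

namespace Cfsg.Agent.S4291

open Subgroup

theorem image_four_le {G : Type*} [Group G] [Finite G] (h : FPF25.HasFPF G)
    (f : G →* DihedralGroup 2 × DihedralGroup 2) : Nat.card f.range ≤ 4 := by
  have : Fact (Nat.Prime 2) := ⟨Nat.prime_two⟩
  obtain ⟨P⟩ := (inferInstance : Nonempty (Sylow 2 G))
  have hE : IsPGroup 2 f.range := (IsPGroup.of_card (p := 2) (n := 4)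
    (G := DihedralGroup 2 × DihedralGroup 2)
    (by rw [Nat.card_prod, DihedralGroup.nat_card]; rfl)).to_subgroup _
  have hP : (P : Subgroup G).map f = f.range := by
    have h1 : ((P : Subgroup G).map f.rangeRestrict) = ⊤ := by
      have h2 := (P.mapSurjective f.rangeRestrict_surjective).is_maximal' (hE.to_subgroup ⊤) le_top
      exact h2.symm
    have h2 := congrArg (Subgroup.map f.range.subtype) h1
    rw [Subgroup.map_map, MonoidHom.subtype_comp_rangeRestrict, ← MonoidHom.range_eq_map, range_subtype] at h2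
    exact h2
  obtain ⟨a, b, hab⟩ := h.exists_two_generators P.isPGroup'
  have hcomm : ∀ x y : DihedralGroup 2 × DihedralGroup 2, x * y = y * x := by
    have : ∀ x y : DihedralGroup 2, x * y = y * x := by decide
    exact fun x y => Prod.ext (this _ _) (this _ _)
  have hexp : ∀ x : DihedralGroup 2 × DihedralGroup 2, x ^ 2 = 1 := by
    have : ∀ x : DihedralGroup 2, x * x = 1 := by decide
    exact fun x => by rw [pow_two]; exact Prod.ext (this _) (this _)
  have hle := FGS.card_closure_le hcomm hexp 2 ![f a, f b]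
  have he : closure (Set.range ![f a, f b]) = f.range := by
    have h3 : (⊤ : Subgroup (P : Subgroup G)).map (f.comp (P : Subgroup G).subtype) = f.range := by
      rw [← Subgroup.map_map, ← MonoidHom.range_eq_map, range_subtype, hP]
    rw [← h3, ← hab, MonoidHom.map_closure, Matrix.range_cons_cons_empty, Set.image_pair]
    rfl
  rw [he] at hle
  exact hle

theorem four_le_four {G : Type*} [Group G] [Finite G] (h : FPF25.HasFPF G)
    (f₁ f₂ : G →* DihedralGroup 2) (h₁ : Function.Surjective f₁) : f₁.ker ≤ f₂.ker := by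
  set f := f₁.prod f₂ with hf
  have hle : f.ker ≤ f₁.ker := fun x hx => congrArg Prod.fst (MonoidHom.mem_ker.mp hx)
  have h4 : f₁.ker.index = 4 := by
    rw [index_ker, MonoidHom.range_eq_top.mpr h₁, card_top, DihedralGroup.nat_card]
  have h5 := image_four_le h f
  rw [← index_ker] at h5
  have h6 := relIndex_mul_index hle
  have h7 : f.ker.relIndex f₁.ker = 1 := by
    have hpos : f.ker.relIndex f₁.ker ≠ 0 := fun e => by rw [e, zero_mul] at h6; exact index_ne_zero_of_finite h6.symm
    rw [h4] at h6
    omega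
  intro x hx
  exact congrArg Prod.snd (MonoidHom.mem_ker.mp (relIndex_eq_one.mp h7 hx))

theorem zGroup_le_ker {G Q : Type*} [Group G] [Finite G] [Group Q] [Finite Q] (hQ : FPF25.ManyInvolutions Q)
    (f : G →* Q) (hf : Function.Surjective f) (N : Subgroup G) [N.Normal] [IsZGroup N] : N ≤ f.ker := by
  have : IsZGroup (N.map f) := IsZGroup.of_surjective (f := f.subgroupMap N) (f.subgroupMap_surjective N)
  have : (N.map f).Normal := (inferInstance : N.Normal).map f hf
  intro x hx
  have h1 := hQ.eq_bot (N.map f) ▸ mem_map_of_mem f hx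
  exact mem_bot.mp h1

/-- A surjection onto a group with enough involutions, or onto the four-group, or none. -/
theorem cases_smallKer {G : Type*} [Group G] [Finite G] {N : Subgroup G} (h : FPF25.IsSmallKer N) :
    (∀ M : Subgroup G, M.Normal → IsZGroup M → M ≤ N) ∨
      ∃ f : G →* DihedralGroup 2, Function.Surjective f ∧ f.ker = N := by
  rcases h with rfl | h | ⟨f, hf, rfl⟩ | ⟨f, hf, rfl⟩ | ⟨f, hf, rfl⟩ | ⟨f, hf, rfl⟩
  · exact Or.inl fun M _ _ => le_top
  · exact Or.inr h
  · exact Or.inl fun M _ _ => zGroup_le_ker FPF25.manyInvolutions_a4 f hf M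
  · exact Or.inl fun M _ _ => zGroup_le_ker FPF25.manyInvolutions_s4 f hf M
  · exact Or.inl fun M _ _ => zGroup_le_ker FPF25.manyInvolutions_a5 f hf M
  · exact Or.inl fun M _ _ => zGroup_le_ker FPF25.manyInvolutions_s5 f hf M

theorem four_not_above {G : Type*} [Group G] [Finite G] {N M : Subgroup G} (hN : FPF25.IsSmallKer N)
    (hNz : IsZGroup N) (f : G →* DihedralGroup 2) (hf : Function.Surjective f) (hfk : f.ker = M)
    (hMN : M ≤ N) : N ≤ M := by
  have h4 : M.index = 4 := by rw [← hfk, index_ker, MonoidHom.range_eq_top.mpr hf, card_top, DihedralGroup.nat_card]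
  have hd : N.index ∣ 4 := h4 ▸ index_dvd_of_le hMN
  have heq : N.index = 4 → N ≤ M := fun e => by
    have h6 := relIndex_mul_index hMN
    rw [h4, e] at h6
    exact relIndex_eq_one.mp (by omega)
  have hbig : ∀ {Q : Type} [Group Q] (g : G →* Q), Function.Surjective g → g.ker = N → 4 < Nat.card Q → N ≤ M := by
    intro Q _ g hg hgk hQ
    rw [← hgk, index_ker, MonoidHom.range_eq_top.mpr hg, card_top] at hd
    exact absurd (Nat.le_of_dvd (by norm_num) hd) (by omega)
  rcases hN with rfl | ⟨g, hg, hgk⟩ | ⟨g, hg, hgk⟩ | ⟨g, hg, hgk⟩ | ⟨g, hg, hgk⟩ | ⟨g, hg, hgk⟩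
  · exfalso
    have : IsZGroup (DihedralGroup 2) := IsZGroup.of_surjective (f := f.comp (⊤ : Subgroup G).subtype)
      (fun y => by obtain ⟨x, rfl⟩ := hf y; exact ⟨⟨x, mem_top x⟩, rfl⟩)
    have : Fact (Nat.Prime 2) := ⟨Nat.prime_two⟩
    have : Group.IsNilpotent (DihedralGroup 2) :=
      (IsPGroup.of_card (p := 2) (n := 2) (by rw [DihedralGroup.nat_card]; rfl)).isNilpotent
    exact DihedralGroup.not_isCyclic (n := 2) (by norm_num) inferInstance
  · exact heq (by rw [← hgk, index_ker, MonoidHom.range_eq_top.mpr hg, card_top, DihedralGroup.nat_card])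
  · exact hbig g hg hgk (by rw [nat_card_alternatingGroup, Nat.card_fin]; decide)
  · exact hbig g hg hgk (by rw [Nat.card_perm]; simp; decide)
  · exact hbig g hg hgk (by rw [nat_card_alternatingGroup, Nat.card_fin]; decide)
  · exact hbig g hg hgk (by rw [Nat.card_perm]; simp; decide)



/-- Let G be a finite group that occurs as a Frobenius complement. Then G has exactly one normal subgroup N such that every Sylow subgroup of N is cyclic and the quotient of G by N is trivial or isomorphic to one of the following five groups: the Klein four-group, the alternating group of degree 4, the symmetric group of degree 4, the alternating group of degree 5, the symmetric group of degree 5. (The quotient is described by a surjective homomorphism with kernel N; the Klein four-group is written as the dihedral group of order 4.) -/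
theorem result {G : Type*} [Group G] [Finite G]
    (hFC : (∃ (L : Type) (_ : Group L) (_ : Finite L) (H : Subgroup L), Cfsg.IsFrobeniusComplement H ∧ Nonempty (G ≃* H))) :
    ∃! N : Subgroup G, N.Normal ∧ (∀ (p : ℕ) [Fact p.Prime] (P : Sylow p N), IsCyclic P) ∧
      (N = ⊤ ∨
        (∃ f : G →* DihedralGroup 2, Function.Surjective f ∧ f.ker = N) ∨
        (∃ f : G →* alternatingGroup (Fin 4), Function.Surjective f ∧ f.ker = N) ∨
        (∃ f : G →* Equiv.Perm (Fin 4), Function.Surjective f ∧ f.ker = N) ∨
        (∃ f : G →* alternatingGroup (Fin 5), Function.Surjective f ∧ f.ker = N) ∨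
        (∃ f : G →* Equiv.Perm (Fin 5), Function.Surjective f ∧ f.ker = N)) := by
  classical
  obtain ⟨L, _, _, H, hH, ⟨e⟩⟩ := hFC
  have h : FPF25.HasFPF G := (FPF25.hasFPF_of_isFrobeniusComplement hH).of_mulEquiv e
  have : Fact (Nat.Prime 2) := ⟨Nat.prime_two⟩
  obtain ⟨N, hNn, hNz, hN⟩ : ∃ N : Subgroup G, N.Normal ∧ IsZGroup N ∧ FPF25.IsSmallKer N := by
    obtain ⟨P⟩ := (inferInstance : Nonempty (Sylow 2 G))
    rcases h.cyclic_or_quaternion P.isPGroup' with hc | ⟨-, k, hk, ⟨eP⟩⟩
    · refine ⟨⊤, inferInstance, h.isZGroup_of_two _ fun Q hQ => ?_, Or.inl rfl⟩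
      obtain ⟨P', hP'⟩ := (hQ.map (⊤ : Subgroup G).subtype).exists_le_sylow
      have : IsCyclic P' := isCyclic_of_surjective (Sylow.equiv P P').toMonoidHom (Sylow.equiv P P').surjective
      have : IsCyclic (Q.map (⊤ : Subgroup G).subtype) := Subgroup.isCyclic_of_le hP'
      let ι := Q.equivMapOfInjective _ (⊤ : Subgroup G).subtype_injective
      exact isCyclic_of_surjective ι.symm.toMonoidHom ι.symm.surjective
    · by_cases hc : Cfsg.HasNormalPComplement 2 G
      · exact h.smallKer_of_normalPComplement hc P hk eP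
      · by_cases hs : Group.IsSolvable G
        · exact h.smallKer_of_solvable hc
        · exact h.smallKer_of_not_solvable hs
  refine ⟨N, ⟨hNn, fun p _ P => inferInstance, hN⟩, ?_⟩
  rintro M ⟨hMn, hMc, hM⟩
  have hMz : IsZGroup M := ⟨fun p hp P => have := Fact.mk hp; hMc p P⟩
  rcases cases_smallKer hN with h1 | ⟨f, hf, hfk⟩ <;> rcases cases_smallKer hM with h2 | ⟨g, hg, hgk⟩
  · exact le_antisymm (h1 M hMn hMz) (h2 N hNn hNz)
  · exact le_antisymm (h1 M hMn hMz) (four_not_above hN hNz g hg hgk (h1 M hMn hMz))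
  · exact le_antisymm (four_not_above hM hMz f hf hfk (h2 N hNn hNz)) (h2 N hNn hNz)
  · rw [← hfk, ← hgk]
    exact le_antisymm (four_le_four h g f hg) (four_le_four h f g hf)

end Cfsg.Agent.S4291
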