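import Cfsg.Statements.S4294
import Cfsg.Agent.DivRingSubgroup.Icosahedral
import Cfsg.Agent.DivRingSubgroup.Embedding
import Cfsg.Agent.FPF25.Zassenhaus
import Mathlib.Algebra.CharP.Basic

set_option autoImplicit false
open Cfsg
open Cfsg.Agent

namespace Cfsg.Agent.S4294

/-- A finite non-solvable subgroup of the multiplicative group of a division ring is isomorphic to the binary icosahedral group SL(2,5). -/
theorem result {D : Type*} [DivisionRing D] (H : Subgroup Dˣ) [Finite H] (hH : ¬ Group.IsSolvable H) :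
    Nonempty (H ≃* Matrix.SpecialLinearGroup (Fin 2) (ZMod 5)) := by
  classical
  let χ : H →* D := (Units.coeHom D).comp H.subtype
  have hχ : Function.Injective χ := fun a b h => Subtype.ext (Units.ext h)
  obtain ⟨p, hp⟩ := CharP.exists D
  rcases CharP.char_is_prime_or_zero D p with hpp | hp0
  · haveI : Fact p.Prime := ⟨hpp⟩
    exact absurd (Group.isSolvable_of_comm fun a b => hχ (by
      rw [map_mul, map_mul]; exact DivRingSubgroup.commute_of_charP p χ a b)) hH
  subst hp0
  haveI : CharZero D := CharP.charP_to_charZero D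
  obtain ⟨G₀, hG₀n, hidx, S, M, hSn, hsup, hinf, hcomm, ⟨e⟩, -, hcop⟩ :=
    (DivRingSubgroup.hasFPF χ hχ).structure_of_not_isSolvable hH
  let ι : Matrix.SpecialLinearGroup (Fin 2) (ZMod 5) →* H := S.subtype.comp e.symm.toMonoidHom
  have hι : Function.Injective ι := S.subtype_injective.comp e.symm.injective
  have hrange : ι.range = S := by
    ext x
    refine ⟨?_, fun hx => ⟨e ⟨x, hx⟩, ?_⟩⟩
    · rintro ⟨t, rfl⟩
      exact (e.symm t).2
    · show ((e.symm (e ⟨x, hx⟩) : S) : H) = x
      rw [MulEquiv.symm_apply_apply]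
  have hψ : Function.Injective (χ.comp ι) := hχ.comp hι
  by_cases hM : M = ⊥
  · rw [hM, sup_bot_eq] at hsup
    subst hsup
    rcases hidx with h1 | h2
    · rw [Subgroup.index_eq_one] at h1
      exact ⟨(Subgroup.topEquiv.symm.trans (MulEquiv.subgroupCongr h1.symm)).trans e⟩
    · exact (DivRingSubgroup.no_index_two χ hχ ι hι (hrange.symm ▸ hSn) (hrange.symm ▸ h2)).elim
  · exfalso
    haveI : Nontrivial M := (Subgroup.nontrivial_iff_ne_bot M).mpr hM
    obtain ⟨l, hl, hlM⟩ := Nat.exists_prime_and_dvd (Finite.one_lt_card (α := M)).ne'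
    haveI : Fact l.Prime := ⟨hl⟩
    obtain ⟨z, hz⟩ := exists_prime_orderOf_dvd_card' (G := M) l hlM
    have h7 : 7 ≤ l := by
      by_contra hlt
      have h30 : l ∣ 30 := by
        have := hl.two_le
        interval_cases l <;> first | omega | exact absurd hl (by norm_num)
      exact hl.one_lt.ne' (Nat.eq_one_of_dvd_coprimes hcop hlM h30)
    refine DivRingSubgroup.no_commuting_root hψ (z := χ (z : H)) hl h7 ?_ ?_ fun t => ?_
    · rw [← map_pow, ← SubmonoidClass.coe_pow, ← hz, pow_orderOf_eq_one, OneMemClass.coe_one, map_one]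
    · intro h
      have : z = 1 := Subtype.ext (hχ (h.trans (map_one χ).symm))
      rw [this, orderOf_one] at hz
      exact hl.one_lt.ne hz
    · show χ (z : H) * χ (ι t) = χ (ι t) * χ (z : H)
      rw [← map_mul, ← map_mul]
      exact congrArg χ (hcomm _ (hrange ▸ ⟨t, rfl⟩) _ z.2).symm

end Cfsg.Agent.S4294
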