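import Cfsg.Statements.S4295
import Cfsg.Agent.Fg24.QuatKernel
-- import your own Cfsg.Agent.* helpers here

set_option autoImplicit false
open Cfsg

namespace Cfsg.Agent.S4295

/-- For a natural number m the following are equivalent: (a) some finite group has a Frobenius complement isomorphic to the quaternion group of order 8 whose Frobenius kernel (the identity together with the elements lying in no conjugate of the complement) has exactly m elements; (b) m is an odd perfect square greater than 1. -/
theorem result (m : ℕ) :
    (∃ (L : Type) (_ : Group L) (_ : Finite L) (H : Subgroup L), Cfsg.IsFrobeniusComplement H ∧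
        Nonempty (H ≃* QuaternionGroup 2) ∧ Nat.card (Cfsg.frobeniusKernel H) = m) ↔
    (Odd m ∧ IsSquare m ∧ 1 < m) := by
  constructor
  · rintro ⟨L, _, _, H, hH, ⟨e⟩, rfl⟩
    exact Cfsg.Agent.Fg24.kernel_card_of_quaternion hH e
  · rintro ⟨hodd, ⟨k, rfl⟩, h1⟩
    refine Cfsg.Agent.Fg24.exists_quaternion_frobenius (Nat.odd_mul.1 hodd).1 ?_
    rcases k with _ | _ | k <;> simp_all

end Cfsg.Agent.S4295
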