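import Cfsg.Statements.S4297
import Cfsg.Agent.FrobExamples.Basic


set_option autoImplicit false
open Cfsg

namespace Cfsg.Agent.S4297

/-- For every n ≥ 2 the dicyclic group of order 4n (generated by an element a of order 2n and an element x with x² = aⁿ and x a x⁻¹ = a⁻¹) occurs as a Frobenius complement of some finite Frobenius group. -/
theorem result (n : ℕ) (hn : 2 ≤ n) :
    ∃ (L : Type) (_ : Group L) (_ : Finite L) (H : Subgroup L), Cfsg.IsFrobeniusComplement H ∧ Nonempty (H ≃* QuaternionGroup n) := by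
  have : NeZero n := ⟨by omega⟩
  obtain ⟨q, hq, -, hmod⟩ := Nat.exists_prime_gt_modEq_one (k := 2 * n) 3 (by omega)
  have := Fact.mk hq
  have hdvd : 2 * n ∣ q - 1 := (Nat.modEq_iff_dvd' hq.one_le).mp hmod.symm
  obtain ⟨g, hg⟩ := IsCyclic.exists_generator (α := (ZMod q)ˣ)
  have hgo : orderOf g = q - 1 := by
    rw [orderOf_eq_card_of_forall_mem_zpowers hg, Nat.card_units, Nat.card_zmod]
  set z : (ZMod q)ˣ := g ^ ((q - 1) / (2 * n)) with hz
  have hzo : orderOf z = 2 * n := by
    rw [hz, ← hgo]; exact orderOf_pow_orderOf_div (orderOf_pos g).ne' (hgo ▸ hdvd)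
  let P : ZMod (2 * n) → (ZMod q)ˣ := fun i => z ^ i.val
  have hP : ∀ i j, P (i + j) = P i * P j := fun i j => by
    show z ^ (i + j).val = z ^ i.val * z ^ j.val
    rw [← pow_add, ← pow_mod_orderOf z (i.val + j.val), hzo, ← ZMod.val_add]
  have hP0 : P 0 = 1 := by simp [P]
  have hPinj : ∀ i, P i = 1 → i = 0 := fun i hi => by
    have h1 := orderOf_dvd_of_pow_eq_one hi
    rw [hzo] at h1
    exact (ZMod.val_eq_zero i).mp (Nat.eq_zero_of_dvd_of_lt h1 (ZMod.val_lt i))
  have hPn : ((P (n : ZMod (2 * n))) : ZMod q) = -1 := by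
    have h1 : (P (n : ZMod (2 * n)) : ZMod q) * (P (n : ZMod (2 * n))) = 1 := by
      rw [← Units.val_mul, ← hP, ← Nat.cast_add, ← two_mul, ZMod.natCast_self, hP0, Units.val_one]
    rcases mul_self_eq_one_iff.mp h1 with h | h
    · have h2 := hPinj _ (Units.ext h)
      rw [ZMod.natCast_eq_zero_iff] at h2
      have := Nat.le_of_dvd (by omega) h2
      omega
    · exact h
  let A : ZMod (2 * n) → ZMod q × ZMod q → ZMod q × ZMod q := fun i v => (P i * v.1, P (-i) * v.2)
  let X : ZMod q × ZMod q → ZMod q × ZMod q := fun v => (-v.2, v.1)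
  have hAA : ∀ i j v, A (i + j) v = A i (A j v) := fun i j v => by
    simp only [A, hP, neg_add, Units.val_mul, mul_assoc]
  have hAX : ∀ i v, A i (X v) = X (A (-i) v) := fun i v => by simp [A, X, mul_comm]
  have hXX : ∀ v, X (X v) = A n v := fun v => by
    have hneg : P (-(n : ZMod (2 * n))) = P n := by
      congr 1
      rw [neg_eq_iff_add_eq_zero, ← Nat.cast_add, ← two_mul, ZMod.natCast_self]
    simp [A, X, hPn, hneg]
  let T : QuaternionGroup n → ZMod q × ZMod q → ZMod q × ZMod q := fun w =>
    match w with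
    | .a i => A i
    | .xa i => fun v => X (A i v)
  have hone : ∀ v, T 1 v = v := fun v => by
    show A 0 v = v
    simp [A, hP0]
  have hmul : ∀ u w v, T (u * w) v = T u (T w v) := by
    rintro (i | i) (j | j) v
    · rw [QuaternionGroup.a_mul_a]; exact hAA i j v
    · rw [QuaternionGroup.a_mul_xa]
      show X (A (j - i) v) = A i (X (A j v))
      rw [hAX, ← hAA, neg_add_eq_sub]
    · rw [QuaternionGroup.xa_mul_a]
      show X (A (i + j) v) = X (A i (A j v))
      rw [hAA]
    · rw [QuaternionGroup.xa_mul_xa]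
      show A (n + j - i) v = X (A i (X (A j v)))
      rw [hAX, hXX, ← hAA, ← hAA]
      congr 1
      ring
  have hfix : ∀ w, w ≠ 1 → ∀ v, T w v = v → v = 0 := by
    rintro (i | i) hw v hv
    · have hi : i ≠ 0 := fun h => hw (by rw [h]; rfl)
      have h1 : (P i : ZMod q) * v.1 = v.1 := congrArg Prod.fst hv
      have h2 : (P (-i) : ZMod q) * v.2 = v.2 := congrArg Prod.snd hv
      have key : ∀ k : ZMod (2 * n), k ≠ 0 → ∀ c : ZMod q, (P k : ZMod q) * c = c → c = 0 := fun k hk c hc => by
        have h3 : ((P k : ZMod q) - 1) * c = 0 := by rw [sub_mul, one_mul, hc, sub_self]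
        exact (mul_eq_zero.mp h3).resolve_left fun h => hk (hPinj k (Units.ext (sub_eq_zero.mp h)))
      exact Prod.ext (key i hi _ h1) (key (-i) (neg_ne_zero.mpr hi) _ h2)
    · have h1 := congrArg (T (.xa i)) hv
      replace h1 := ((hmul (.xa i) (.xa i) v).trans h1).trans hv
      rw [QuaternionGroup.xa_mul_xa, add_sub_cancel_right] at h1
      have h2 : (P (n : ZMod (2 * n)) : ZMod q) * v.1 = v.1 := congrArg Prod.fst h1
      have h3 : (P (-(n : ZMod (2 * n))) : ZMod q) * v.2 = v.2 := congrArg Prod.snd h1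
      have hneg : P (-(n : ZMod (2 * n))) = P n := by
        congr 1
        rw [neg_eq_iff_add_eq_zero, ← Nat.cast_add, ← two_mul, ZMod.natCast_self]
      rw [hneg, hPn] at h3
      rw [hPn] at h2
      have two : (2 : ZMod q) ≠ 0 := fun h => by
        have := Nat.le_of_dvd (by norm_num) ((ZMod.natCast_eq_zero_iff 2 q).mp h)
        have := Nat.le_of_dvd (Nat.sub_pos_of_lt hq.one_lt) hdvd
        omega
      have key : ∀ c : ZMod q, -1 * c = c → c = 0 := fun c hc => by
        have h4 : 2 * c = 0 := by linear_combination -hc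
        exact (mul_eq_zero.mp h4).resolve_left two
      exact Prod.ext (key _ h2) (key _ h3)
  have hadd : ∀ w v u, T w (v + u) = T w v + T w u := by
    rintro (i | i) v u <;> simp [T, A, X, mul_add, add_comm]
  let φ : QuaternionGroup n →* MulAut (Multiplicative (ZMod q × ZMod q)) :=
    { toFun := fun w => AddEquiv.toMultiplicative
        { toFun := T w
          invFun := T w⁻¹
          left_inv := fun v => by rw [← hmul, inv_mul_cancel, hone]
          right_inv := fun v => by rw [← hmul, mul_inv_cancel, hone]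
          map_add' := hadd w }
      map_one' := MulEquiv.ext fun v => congrArg Multiplicative.ofAdd (hone _)
      map_mul' := fun u w => MulEquiv.ext fun v => congrArg Multiplicative.ofAdd (hmul u w _) }
  have : Nontrivial (Multiplicative (ZMod q × ZMod q)) := inferInstanceAs (Nontrivial (ZMod q × ZMod q))
  obtain ⟨L, i1, i2, H, hH, ⟨e⟩⟩ := Cfsg.Agent.FrobExamples.exists_frobenius_of_action φ
    fun w hw v hv => congrArg Multiplicative.ofAdd (hfix w hw v.toAdd (congrArg Multiplicative.toAdd hv))
  exact ⟨L, i1, i2, H, hH, ⟨e.symm⟩⟩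

end Cfsg.Agent.S4297
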