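import Cfsg.Statements.S4298
import Cfsg.Agent.FrobExamples.Basic


set_option autoImplicit false
open Cfsg

namespace Cfsg.Agent.S4298

/-- The group SL(2,3) of order 24 (the binary tetrahedral group) occurs as a Frobenius complement of some finite Frobenius group. -/
theorem result :
    ∃ (L : Type) (_ : Group L) (_ : Finite L) (H : Subgroup L), Cfsg.IsFrobeniusComplement H ∧ Nonempty (H ≃* Matrix.SpecialLinearGroup (Fin 2) (ZMod 3)) := by
  let code : Matrix.SpecialLinearGroup (Fin 2) (ZMod 3) → ℕ := fun M =>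
    ([0, 0, 0, 0, 0, 0, 0, 0, 0, 0, 0, 0, 0, 0, 0, 382, 309, 94, 0, 0, 0, 273, 61, 471, 0, 0, 0, 0, 126, 0, 0, 292, 0, 0, 362, 0, 0, 49, 0, 0, 0, 541, 215, 0, 0, 0, 605, 0, 597, 0, 0, 0, 0, 328, 0, 0, 504, 0, 0, 418, 0, 0, 488, 0, 0, 170, 0, 427, 0, 183, 0, 0, 0, 0, 106, 560, 0, 0, 0, 239, 0] : List ℕ).getD
      (27 * (M.1 0 0).val + 9 * (M.1 0 1).val + 3 * (M.1 1 0).val + (M.1 1 1).val) 0
  let T : Matrix.SpecialLinearGroup (Fin 2) (ZMod 3) → ZMod 5 × ZMod 5 → ZMod 5 × ZMod 5 := fun M v =>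
    ((code M / 125 : ℕ) * v.1 + (code M / 25 % 5 : ℕ) * v.2,
      (code M / 5 % 5 : ℕ) * v.1 + (code M % 5 : ℕ) * v.2)
  have hmul : ∀ M N : Matrix.SpecialLinearGroup (Fin 2) (ZMod 3), ∀ v, T (M * N) v = T M (T N v) := by
    decide +kernel
  have hone : ∀ v, T 1 v = v := by decide +kernel
  have hfix : ∀ M : Matrix.SpecialLinearGroup (Fin 2) (ZMod 3), M ≠ 1 → ∀ v, T M v = v → v = 0 := by
    decide +kernel
  have hadd : ∀ M v w, T M (v + w) = T M v + T M w := fun M v w =>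
    Prod.ext (by simp only [T, Prod.fst_add, Prod.snd_add]; ring) (by simp only [T, Prod.fst_add, Prod.snd_add]; ring)
  let φ : Matrix.SpecialLinearGroup (Fin 2) (ZMod 3) →* MulAut (Multiplicative (ZMod 5 × ZMod 5)) :=
    { toFun := fun M => AddEquiv.toMultiplicative
        { toFun := T M
          invFun := T M⁻¹
          left_inv := fun v => by rw [← hmul, inv_mul_cancel, hone]
          right_inv := fun v => by rw [← hmul, mul_inv_cancel, hone]
          map_add' := hadd M }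
      map_one' := MulEquiv.ext fun v => congrArg Multiplicative.ofAdd (hone _)
      map_mul' := fun M N => MulEquiv.ext fun v => congrArg Multiplicative.ofAdd (hmul M N _) }
  have : Nontrivial (Multiplicative (ZMod 5 × ZMod 5)) := 
    (⟨⟨(0, 0), (1, 0), by decide⟩⟩ : Nontrivial (ZMod 5 × ZMod 5))
  have : Nontrivial (Matrix.SpecialLinearGroup (Fin 2) (ZMod 3)) := ⟨⟨1, ⟨!![1, 1; 0, 1], by decide⟩, fun h => absurd (congrArg (fun M : Matrix.SpecialLinearGroup (Fin 2) (ZMod 3) => M.1 0 1) h) (by decide)⟩⟩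
  obtain ⟨L, i1, i2, H, hH, ⟨e⟩⟩ := Cfsg.Agent.FrobExamples.exists_frobenius_of_action φ
    fun M hM v hv => congrArg Multiplicative.ofAdd (hfix M hM v.toAdd (congrArg Multiplicative.toAdd hv))
  exact ⟨L, i1, i2, H, hH, ⟨e.symm⟩⟩

end Cfsg.Agent.S4298
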