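import Cfsg.Statements.S4300
import Mathlib


set_option autoImplicit false
open Cfsg

namespace Cfsg.Agent.S4300

/-- Let G act faithfully and primitively on a set X, and suppose the stabilizer of some point is a simple group. Then either G is simple, or G has a normal subgroup, neither trivial nor the whole group, that acts regularly on X (transitively with trivial point stabilizers). -/
theorem result {G : Type*} [Group G] {X : Type*} [MulAction G X] [FaithfulSMul G X]
    (hprim : MulAction.IsPreprimitive G X) (x : X) (hsimple : IsSimpleGroup (MulAction.stabilizer G x)) :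
    IsSimpleGroup G ∨ ∃ N : Subgroup G, N.Normal ∧ N ≠ ⊥ ∧ N ≠ ⊤ ∧
      MulAction.IsPretransitive N X ∧ ∀ y : X, MulAction.stabilizer N y = ⊥ := by
  set H := MulAction.stabilizer G x
  have := hsimple.toNontrivial
  have : Nontrivial G := (Subgroup.subtype_injective H).nontrivial
  by_cases hs : IsSimpleGroup G
  · exact Or.inl hs
  right
  obtain ⟨N, hN, hNb, hNt⟩ : ∃ N : Subgroup G, N.Normal ∧ N ≠ ⊥ ∧ N ≠ ⊤ := by
    by_contra hc
    push Not at hc
    exact hs ⟨fun N hN => or_iff_not_imp_left.mpr (hc N hN)⟩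
  have := hN
  have hne : MulAction.fixedPoints N X ≠ .univ := by
    intro h
    apply hNb
    rw [eq_bot_iff]
    intro n hn
    rw [Subgroup.mem_bot]
    refine eq_of_smul_eq_smul (α := X) fun y => ?_
    have hy : y ∈ MulAction.fixedPoints N X := h ▸ Set.mem_univ y
    rw [one_smul]
    exact hy ⟨n, hn⟩
  have : MulAction.IsPreprimitive G X := hprim
  have htr : MulAction.IsPretransitive N X :=
    MulAction.IsQuasiPreprimitive.isPretransitive_of_normal hne
  refine ⟨N, hN, hNb, hNt, htr, ?_⟩
  rcases (inferInstance : (N.subgroupOf H).Normal).eq_bot_or_eq_top with h | h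
  · intro y
    rw [eq_bot_iff]
    intro n hn
    obtain ⟨m, hm⟩ := htr.exists_smul_eq x y
    have h1 : (m : G)⁻¹ * n * m ∈ H := by
      rw [MulAction.mem_stabilizer_iff, mul_smul, mul_smul, inv_smul_eq_iff]
      show (n : G) • (m : G) • x = (m : G) • x
      rw [show (m : G) • x = y from hm]
      exact hn
    have h2 : (m : G)⁻¹ * n * m ∈ N := N.mul_mem (N.mul_mem (N.inv_mem m.2) n.2) m.2
    have h3 : (⟨_, h1⟩ : H) ∈ N.subgroupOf H := h2
    rw [h, Subgroup.mem_bot] at h3
    have h4 : (m : G)⁻¹ * n * m = 1 := congrArg Subtype.val h3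
    rw [Subgroup.mem_bot]
    refine Subtype.ext ?_
    calc (n : G) = m * ((m : G)⁻¹ * n * m) * (m : G)⁻¹ := by group
      _ = 1 := by rw [h4]; group
  · exfalso
    apply hNt
    rw [eq_top_iff]
    intro g _
    obtain ⟨m, hm⟩ := htr.exists_smul_eq x (g • x)
    have h1 : (m : G)⁻¹ * g ∈ H := by
      rw [MulAction.mem_stabilizer_iff, mul_smul, inv_smul_eq_iff]
      exact hm.symm
    have h2 : (m : G)⁻¹ * g ∈ N := Subgroup.subgroupOf_eq_top.mp h h1
    have := N.mul_mem m.2 h2
    rwa [mul_inv_cancel_left] at this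

end Cfsg.Agent.S4300
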