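import Cfsg.Statements.S4301
import Mathlib


set_option autoImplicit false
open Cfsg

namespace Cfsg.Agent.S4301

/-- One-point extension of a multiply transitive group. Let X be a set and G a group of permutations of Option X (the set X with one extra point ∗ = none) all of whose elements fix ∗, such that G is k-transitive on the points of X for some k ≥ 2, X having at least k points. Suppose a permutation h of Option X and an element g of G satisfy: h interchanges ∗ with a point x of X and fixes a point y of X; g interchanges x and y; (g h)³ and h² lie in G; and for every f in G fixing x, the product h f h lies in G and fixes x. Then an element of the group generated by G and h fixes ∗ exactly when it lies in G, and that group acts (k+1)-transitively on Option X. -/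
theorem result {X : Type*} (G : Subgroup (Equiv.Perm (Option X))) (hfix : ∀ f ∈ G, f none = none)
    (k : ℕ) (hk : 2 ≤ k) (hkX : Nonempty (Fin k ↪ X))
    (htrans : ∀ a b : Fin k ↪ X, ∃ f ∈ G, ∀ i, f (some (a i)) = some (b i))
    (h g : Equiv.Perm (Option X)) (hg : g ∈ G) (x y : X)
    (h1 : h none = some x) (h2 : h (some x) = none) (h3 : h (some y) = some y)
    (h4 : g (some x) = some y) (h5 : g (some y) = some x)
    (h6 : (g * h) ^ 3 ∈ G) (h7 : h ^ 2 ∈ G)
    (h8 : ∀ f ∈ G, f (some x) = some x → h * f * h ∈ G ∧ (h * f * h) (some x) = some x) :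
    (∀ f ∈ Subgroup.closure ((G : Set (Equiv.Perm (Option X))) ∪ {h}), f none = none ↔ f ∈ G) ∧
      MulAction.IsMultiplyPretransitive (Subgroup.closure ((G : Set (Equiv.Perm (Option X))) ∪ {h})) (Option X) (k + 1) := by
  classical
  set K := Subgroup.closure ((G : Set (Equiv.Perm (Option X))) ∪ {h}) with hK
  have hGK : ∀ f ∈ G, f ∈ K := fun f hf => Subgroup.subset_closure (Or.inl hf)
  have hhK : h ∈ K := Subgroup.subset_closure (Or.inr rfl)
  have hsome : ∀ f ∈ G, ∀ z : X, ∃ w : X, f (some z) = some w := by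
    intro f hf z
    cases hw : f (some z) with
    | none => exact absurd (f.injective (hw.trans (hfix f hf).symm)) (Option.some_ne_none z)
    | some w => exact ⟨w, rfl⟩
  obtain ⟨j₀⟩ := hkX
  have htr1 : ∀ u v : X, ∃ f ∈ G, f (some u) = some v := by
    intro u v
    let i₀ : Fin k := ⟨0, by omega⟩
    obtain ⟨f, hf, hfe⟩ := htrans (j₀.trans (Equiv.swap (j₀ i₀) u).toEmbedding)
      (j₀.trans (Equiv.swap (j₀ i₀) v).toEmbedding)
    refine ⟨f, hf, ?_⟩
    simpa [Equiv.swap_apply_left] using hfe i₀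
  have hh2x : h (h (some x)) = some x := by rw [h2, h1]
  have hxy : y ≠ x := by
    rintro rfl
    rw [h2] at h3
    exact (Option.some_ne_none _) h3.symm
  -- transitivity of the stabilizer of `x` on the other points
  have htr2 : ∀ u v : X, u ≠ x → v ≠ x → ∃ f ∈ G, f (some x) = some x ∧ f (some u) = some v := by
    intro u v hu hv
    let i₀ : Fin k := ⟨0, by omega⟩
    let i₁ : Fin k := ⟨1, by omega⟩
    have hi : i₀ ≠ i₁ := by simp [i₀, i₁, Fin.ext_iff]
    have emb : ∀ w : X, w ≠ x → ∃ e : Fin k ↪ X, e i₀ = x ∧ e i₁ = w := by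
      intro w hw
      let e := j₀.trans (Equiv.swap (j₀ i₀) x).toEmbedding
      refine ⟨e.trans (Equiv.swap (e i₁) w).toEmbedding, ?_, ?_⟩
      · have he0 : e i₀ = x := by simp [e]
        show Equiv.swap (e i₁) w (e i₀) = x
        rw [Equiv.swap_apply_of_ne_of_ne (e.injective.ne hi) (he0.trans_ne hw.symm), he0]
      · exact Equiv.swap_apply_left _ _
    obtain ⟨e, he0, he1⟩ := emb u hu
    obtain ⟨e', he0', he1'⟩ := emb v hv
    obtain ⟨f, hf, hfe⟩ := htrans e e'
    exact ⟨f, hf, by rw [← he0, hfe, he0', he0], by rw [← he1, hfe, he1']⟩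
  let U : Set (Equiv.Perm (Option X)) := {f | f ∈ G ∨ ∃ a ∈ G, ∃ b ∈ G, f = a * h * b}
  have hhsq : h * h ∈ G := by rwa [sq] at h7
  have hkey : ∀ f ∈ G, h * f * h ∈ U := by
    intro f hf
    by_cases hfx : f (some x) = some x
    · exact Or.inl (h8 f hf hfx).1
    obtain ⟨w, hw⟩ := hsome f hf x
    have hwx : w ≠ x := fun e => hfx (e ▸ hw)
    obtain ⟨a, ha, hax, hay⟩ := htr2 y w hxy hwx
    -- `f = a * g * b` with `b` fixing `x`
    set b := g⁻¹ * a⁻¹ * f with hb
    have hbG : b ∈ G := mul_mem (mul_mem (inv_mem hg) (inv_mem ha)) hf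
    have hbx : b (some x) = some x := by
      rw [hb, Equiv.Perm.mul_apply, Equiv.Perm.mul_apply, hw, ← hay,
        show a⁻¹ (a (some y)) = some y from Equiv.symm_apply_apply a _, ← h4,
        show g⁻¹ (g (some x)) = some x from Equiv.symm_apply_apply g _]
    have hfab : f = a * g * b := by rw [hb]; group
    have haa := (h8 a ha hax).1
    have hbb := (h8 b hbG hbx).1
    refine Or.inr ⟨h * a * h * (h * h)⁻¹ * g⁻¹ * (g * h) ^ 3, ?_, (h * h)⁻¹ * g⁻¹ * (h * h)⁻¹ * (h * b * h),
      ?_, ?_⟩
    · exact mul_mem (mul_mem (mul_mem haa (inv_mem hhsq)) (inv_mem hg)) h6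
    · exact mul_mem (mul_mem (mul_mem (inv_mem hhsq) (inv_mem hg)) (inv_mem hhsq)) hbb
    · rw [hfab, pow_succ, pow_succ, pow_one]
      group
  have hU : ∀ f ∈ K, f ∈ U := by
    have hhU : h ∈ U := Or.inr ⟨1, one_mem _, 1, one_mem _, by rw [one_mul, mul_one]⟩
    have hlr : ∀ a ∈ G, ∀ f ∈ U, ∀ b ∈ G, a * f * b ∈ U := by
      rintro a ha f (hf | ⟨c, hc, d, hd, rfl⟩) b hb
      · exact Or.inl (mul_mem (mul_mem ha hf) hb)
      · exact Or.inr ⟨a * c, mul_mem ha hc, d * b, mul_mem hd hb, by group⟩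
    intro f hf
    induction hf using Subgroup.closure_induction with
    | mem z hz =>
      rcases hz with hz | hz
      · exact Or.inl hz
      · rw [Set.mem_singleton_iff] at hz; rw [hz]; exact hhU
    | one => exact Or.inl (one_mem G)
    | mul u v _ _ hu hv =>
      rcases hu with hu | ⟨a, ha, b, hb, rfl⟩
      · simpa using hlr u hu v hv 1 (one_mem _)
      rcases hv with hv | ⟨c, hc, d, hd, rfl⟩
      · exact Or.inr ⟨a, ha, b * v, mul_mem hb hv, by group⟩
      · have := hlr a ha _ (hkey (b * c) (mul_mem hb hc)) d hd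
        rwa [show a * h * b * (c * h * d) = a * (h * (b * c) * h) * d by group]
    | inv u _ hu =>
      rcases hu with hu | ⟨a, ha, b, hb, rfl⟩
      · exact Or.inl (inv_mem hu)
      · exact Or.inr ⟨b⁻¹, inv_mem hb, (h * h)⁻¹ * a⁻¹, mul_mem (inv_mem hhsq) (inv_mem ha), by group⟩
  have hstab : ∀ f ∈ K, (f none = none ↔ f ∈ G) := by
    intro f hf
    refine ⟨fun hn => ?_, hfix f⟩
    rcases hU f hf with hf | ⟨a, ha, b, hb, rfl⟩
    · exact hf
    · exfalso
      rw [Equiv.Perm.mul_apply, Equiv.Perm.mul_apply, hfix b hb, h1] at hn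
      obtain ⟨w, hw⟩ := hsome a ha x
      rw [hw] at hn
      exact Option.some_ne_none w hn
  refine ⟨hstab, ?_⟩
  rw [MulAction.isMultiplyPretransitive_iff]
  have key : ∀ e : Fin (k + 1) ↪ Option X,
      ∃ f ∈ K, f (e 0) = none ∧ ∀ i : Fin k, f (e i.succ) = some (j₀ i) := by
    intro e
    obtain ⟨a, haK, ha⟩ : ∃ a ∈ K, a (e 0) = none := by
      cases he : e 0 with
      | none => exact ⟨1, one_mem K, rfl⟩
      | some u =>
        obtain ⟨f, hf, hfu⟩ := htr1 u x
        exact ⟨h * f, mul_mem hhK (hGK f hf), by rw [Equiv.Perm.mul_apply, hfu, h2]⟩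
    have hns : ∀ i : Fin k, ∃ w : X, a (e i.succ) = some w := fun i => by
      cases hw : a (e i.succ) with
      | none => exact absurd (e.injective (a.injective (hw.trans ha.symm))) (Fin.succ_ne_zero i)
      | some w => exact ⟨w, rfl⟩
    choose w hw using hns
    obtain ⟨f, hf, hfe⟩ := htrans ⟨w, fun i j hij => Fin.succ_injective _ (e.injective (a.injective
      (by rw [hw, hw, hij])))⟩ j₀
    refine ⟨f * a, mul_mem (hGK f hf) haK, ?_, fun i => ?_⟩
    · rw [Equiv.Perm.mul_apply, ha, hfix f hf]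
    · rw [Equiv.Perm.mul_apply, hw]; exact hfe i
  intro u v
  obtain ⟨f, hf, hf0, hfs⟩ := key u
  obtain ⟨f', hf', hf0', hfs'⟩ := key v
  refine ⟨⟨f'⁻¹ * f, mul_mem (inv_mem hf') hf⟩, Function.Embedding.ext fun i => ?_⟩
  show (f'⁻¹ * f) (u i) = v i
  rw [Equiv.Perm.mul_apply]
  refine f'.injective ?_
  rw [show f' (f'⁻¹ (f (u i))) = f (u i) from Equiv.apply_symm_apply f' _]
  induction i using Fin.cases with
  | zero => rw [hf0, hf0']
  | succ i => rw [hfs, hfs']

end Cfsg.Agent.S4301
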