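import Cfsg.Statements.S4302
import Cfsg.Agent.Thompson.AbelianFactor
import Cfsg.Agent.FusSys.GT

set_option autoImplicit false
open Cfsg

namespace Cfsg.Agent.S4302

open Subgroup
open Cfsg.Agent.Offender

/-- Frattini argument with `T ⊓ K` for a normal `K`. -/
theorem frattini {X : Type*} [Group X] [Finite X] {p : ℕ} [Fact p.Prime] (T : Sylow p X)
    (K : Subgroup X) [K.Normal] :
    normalizer (((T : Subgroup X) ⊓ K : Subgroup X) : Set X) ⊔ K = ⊤ := by
  have hTp : IsPGroup p (((T : Subgroup X) ⊓ K).subgroupOf K) :=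
    (T.isPGroup'.to_le inf_le_left).comap_of_injective _ K.subtype_injective
  have hTidx : ¬ p ∣ (((T : Subgroup X) ⊓ K).subgroupOf K).index := by
    show ¬ p ∣ ((T : Subgroup X) ⊓ K).relIndex K
    rw [inf_relIndex_right]
    exact Thompson.not_dvd_relIndex_sylow T K
  have h := Sylow.normalizer_sup_eq_top (hTp.toSylow hTidx)
  rwa [IsPGroup.toSylow_coe, map_subgroupOf_eq_of_le inf_le_right] at h

/-- An element of `n K` conjugates `z` as `n` does, if `K` centralises `z`. -/
theorem exists_normalizer_conj {X : Type*} [Group X] {M K : Subgroup X} [K.Normal]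
    (htop : M ⊔ K = ⊤) {z : X} (hz : ∀ c ∈ K, c * z = z * c) (g : X) :
    ∃ n ∈ M, g * z * g⁻¹ = n * z * n⁻¹ := by
  have hg : g ∈ ((M ⊔ K : Subgroup X) : Set X) := htop ▸ mem_top g
  rw [mul_normal] at hg
  obtain ⟨n, hn, c, hc, rfl⟩ := hg
  exact ⟨n, hn, by
    calc n * c * z * (n * c)⁻¹ = n * (c * z * c⁻¹) * n⁻¹ := by group
      _ = n * z * n⁻¹ := by rw [hz c hc, mul_inv_cancel_right]⟩

/-- Let `X` be a finite solvable group whose Fitting subgroup is a 2-group (equivalently `F(X) = O₂(X)`), `T` a Sylow 2-subgroup of `X`, `J(T)` the subgroup generated by the abelian subgroups of `T` of largest order, `C` the largest normal subgroup of `X` centralizing the centre `Z(T)`, and `Y` the normal closure of `J(T)` in `X`. Then `X = C · Y · N_X(J(T))`, and either `Y ≤ C`, or `CY/C` is isomorphic to a direct product of at least one copy of the symmetric group of degree 3. -/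
theorem result {X : Type*} [Group X] [Finite X]
    [Group.IsSolvable X] (hF : Cfsg.fittingSubgroup X = Cfsg.pCore 2 X) (T : Sylow 2 X) :
    ((Subgroup.centralizer (((T : Subgroup X) ⊓ Subgroup.centralizer ((T : Subgroup X) : Set X) : Subgroup X) : Set X)).normalCore
        ⊔ Subgroup.normalClosure (Cfsg.thompsonSubgroupAOf (T : Subgroup X) : Set X)
        ⊔ Subgroup.normalizer (Cfsg.thompsonSubgroupAOf (T : Subgroup X) : Set X) = ⊤) ∧
    (Subgroup.normalClosure (Cfsg.thompsonSubgroupAOf (T : Subgroup X) : Set X)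
        ≤ (Subgroup.centralizer (((T : Subgroup X) ⊓ Subgroup.centralizer ((T : Subgroup X) : Set X) : Subgroup X) : Set X)).normalCore
      ∨ ∃ n : ℕ, 1 ≤ n ∧
        Nonempty (↥(Subgroup.normalClosure (Cfsg.thompsonSubgroupAOf (T : Subgroup X) : Set X)) ⧸
            ((Subgroup.centralizer (((T : Subgroup X) ⊓ Subgroup.centralizer ((T : Subgroup X) : Set X) : Subgroup X) : Set X)).normalCore).subgroupOf
              (Subgroup.normalClosure (Cfsg.thompsonSubgroupAOf (T : Subgroup X) : Set X))
          ≃* (Fin n → Equiv.Perm (Fin 3)))) := by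
  classical
  set J := Cfsg.thompsonSubgroupAOf (T : Subgroup X) with hJ
  set Y := Subgroup.normalClosure (J : Set X) with hY
  set Z : Subgroup X := (T : Subgroup X) ⊓ Subgroup.centralizer ((T : Subgroup X) : Set X) with hZ
  set C := (Subgroup.centralizer (Z : Set X)).normalCore with hC
  set Q := Cfsg.pCore 2 X with hQ
  have hQn : Q.Normal := Core.pCore_normal
  set V := Subgroup.normalClosure (Z : Set X) with hV
  have hCV : C = Subgroup.centralizer (V : Set X) := by
    refine le_antisymm ?_ ?_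
    · rw [le_centralizer_iff, hV]
      exact normalClosure_le_normal (le_centralizer_iff.1 (normalCore_le _))
    · exact normal_le_normalCore.2 (centralizer_le (fun x hx => subset_normalClosure hx))
  have hCQ : Subgroup.centralizer (Q : Set X) ≤ Q := by
    have := Core.centralizer_fittingSubgroup_le (G := X)
    rwa [hF] at this
  have hQT : ∀ S : Sylow 2 X, Q ≤ (S : Subgroup X) := fun S => Core.pCore_le_sylow S
  have hZCQ : Z ≤ Subgroup.centralizer (Q : Set X) := inf_le_right.trans (centralizer_le (hQT T))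
  have hVCQ : V ≤ Subgroup.centralizer (Q : Set X) := normalClosure_le_normal hZCQ
  have hVQ : V ≤ Q := normalClosure_le_normal (hZCQ.trans hCQ)
  have hVc : V ≤ Subgroup.centralizer (V : Set X) := hVCQ.trans (centralizer_le hVQ)
  -- the action on `V` has no normal 2-subgroup
  have hquot : ∀ D : Subgroup X, D.Normal → C ≤ D → (∃ k : ℕ, C.relIndex D = 2 ^ k) → D = C := by
    intro D hDn hCD hk
    obtain ⟨k, hk⟩ := hk
    have hCn : C.Normal := normalCore_normal _
    set M := Subgroup.normalizer (((T : Subgroup X) ⊓ D : Subgroup X) : Set X) with hM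
    have htop : M ⊔ C = ⊤ := by
      rw [eq_top_iff, ← frattini T D, ← hM]
      refine sup_le le_sup_left fun d hd => ?_
      obtain ⟨c, hc, s, hs, rfl⟩ := Thompson.exists_mul_of_relIndex T hCD hk hd
      exact mul_mem (mem_sup_right hc) (mem_sup_left (le_normalizer ⟨hs.2, hs.1⟩))
    refine le_antisymm (fun d hd => ?_) hCD
    obtain ⟨c, hc, s, hs, rfl⟩ := Thompson.exists_mul_of_relIndex T hCD hk hd
    refine mul_mem hc ?_
    rw [hCV, hV]
    suffices h : Subgroup.normalClosure (Z : Set X) ≤ Subgroup.centralizer ({s} : Set X) by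
      exact mem_centralizer_iff.2 fun v hv => mem_centralizer_singleton_iff.1 (h hv)
    rw [normalClosure, closure_le]
    intro y hy
    obtain ⟨z, hz, hzy⟩ := Group.mem_conjugatesOfSet_iff.1 hy
    obtain ⟨g, rfl⟩ := isConj_iff.1 hzy
    obtain ⟨n, hn, he⟩ := exists_normalizer_conj htop (z := z) (fun c hc =>
      (mem_centralizer_iff.1 (normalCore_le _ hc) z hz).symm) g
    rw [SetLike.mem_coe, mem_centralizer_singleton_iff, he]
    have hs' : n⁻¹ * s * n ∈ (T : Subgroup X) :=
      ((mem_normalizer_iff''.1 hn s).1 ⟨hs.2, hs.1⟩).1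
    have hc' := mem_centralizer_iff.1 hz.2 _ hs'
    calc n * z * n⁻¹ * s = n * (z * (n⁻¹ * s * n)) * n⁻¹ := by group
      _ = n * (n⁻¹ * s * n * z) * n⁻¹ := by rw [hc']
      _ = s * (n * z * n⁻¹) := by group
  -- the socle of `V`
  set W := Cfsg.omegaOne 2 V with hW
  have hWV : W ≤ V := Thompson.omegaOne_le 2 V
  have hWn : W.Normal := by
    refine ⟨fun x hx g => ?_⟩
    have h1 := mem_map_of_mem (MulAut.conj g).toMonoidHom hx
    rw [hW, Thompson.omegaOne_map_of_injective (MulAut.conj g).injective,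
      Thompson.map_conj_eq_self g] at h1
    exact h1
  have hWea : Cfsg.IsElementaryAbelian 2 W := Thompson.omegaOne_ea hVc
  have hWC : Subgroup.centralizer (W : Set X) = C := by
    have hCW : C ≤ Subgroup.centralizer (W : Set X) := hCV.le.trans (centralizer_le hWV)
    refine hquot _ inferInstance hCW ?_
    have hCn : C.Normal := normalCore_normal _
    have hp : IsPGroup 2
        (↥(Subgroup.centralizer (W : Set X)) ⧸ C.subgroupOf (Subgroup.centralizer (W : Set X))) := by
      intro q
      obtain ⟨⟨x, hx⟩, rfl⟩ := QuotientGroup.mk_surjective q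
      refine ⟨(orderOf x).factorization 2, ?_⟩
      rw [← QuotientGroup.mk_pow, QuotientGroup.eq_one_iff, Subgroup.mem_subgroupOf]
      show x ^ _ ∈ C
      rw [hCV]
      set y := x ^ 2 ^ (orderOf x).factorization 2 with hy
      have hodd : ¬ 2 ∣ orderOf y := by
        rw [hy, orderOf_pow_of_dvd (by positivity) (Nat.ordProj_dvd _ _)]
        exact Nat.not_dvd_ordCompl Nat.prime_two (orderOf_pos x).ne'
      have hVp : IsPGroup 2 V := Core.pCore_isPGroup.to_le hVQ
      have hVcomm : IsMulCommutative V :=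
        Fusion.isMulCommutative_of_forall fun a ha b hb => mem_centralizer_iff.1 (hVc hb) a ha
      refine Coprime.le_centralizer_of_fixes_prime_order (V := V)
        (le_normalizer_of_normal (K := Subgroup.zpowers y)) ?_ ?_ (mem_zpowers y)
      · obtain ⟨n, hn⟩ := IsPGroup.iff_card.1 hVp
        rw [Nat.card_zpowers, hn]
        exact ((Nat.prime_two.coprime_iff_not_dvd.2 hodd).symm).pow_right n
      · intro v hv hvo a ha
        obtain ⟨n, hn⟩ := IsPGroup.iff_orderOf.1 hVp ⟨v, hv⟩
        rw [Subgroup.orderOf_mk] at hn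
        have hv2 : v ^ 2 = 1 := by
          have h2 : orderOf v = 2 := by
            rw [hn] at hvo ⊢
            exact (hvo.pow_eq_iff.1 rfl).1.symm ▸ by simp [(hvo.pow_eq_iff.1 rfl).2]
          exact h2 ▸ pow_orderOf_eq_one v
        have hyW : y ∈ Subgroup.centralizer (W : Set X) := pow_mem hx _
        exact (mem_centralizer_iff.1 (zpowers_le.2 hyW ha) v (Thompson.mem_omegaOne hv hv2)).symm
    obtain ⟨k, hk⟩ := IsPGroup.iff_card.1 hp
    exact ⟨k, hk⟩
  set σ := act W with hσ
  have hker : σ.ker = C := act_ker.trans hWC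
  have hO : Cfsg.pCore 2 σ.range = ⊥ := by
    refine pCore_range_eq_bot σ (pCore_quotient_eq_bot ?_)
    rw [hker]
    exact hquot
  -- the abelian subgroups of largest order
  have hJle : J ≤ (T : Subgroup X) := by
    rw [hJ, Fusion.thompsonSubgroupAOf_eq]
    exact sSup_le fun B hB => hB.le
  have hJY : J ≤ Y := le_normalClosure
  have hAY : ∀ A, Fusion.AbMax 0 (T : Subgroup X) A → A ≤ Y := fun A hA => by
    refine le_trans ?_ hJY
    rw [hJ, Fusion.thompsonSubgroupAOf_eq]
    exact le_sSup hA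
  have hJU : Cfsg.thompsonSubgroupAOf ((T : Subgroup X) ⊓ Y) = J := by
    rw [hJ, Fusion.thompsonSubgroupAOf_eq, Fusion.thompsonSubgroupAOf_eq]
    obtain ⟨A₁, hA₁⟩ := Fusion.exists_abMax 0 (T : Subgroup X)
    congr 1
    ext A
    constructor
    · intro (hA : Fusion.AbMax 0 ((T : Subgroup X) ⊓ Y) A)
      exact ⟨⟨hA.le.trans inf_le_left, hA.comm, hA.exp⟩, fun B hB => (hA₁.max B hB).trans
        (hA.max A₁ ⟨le_inf hA₁.le (hAY A₁ hA₁), hA₁.comm, hA₁.exp⟩)⟩
    · intro (hA : Fusion.AbMax 0 (T : Subgroup X) A)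
      exact ⟨⟨le_inf hA.le (hAY A hA), hA.comm, hA.exp⟩, fun B hB =>
        hA.max B ⟨hB.le.trans inf_le_left, hB.comm, hB.exp⟩⟩
  have hNJ : Subgroup.normalizer (((T : Subgroup X) ⊓ Y : Subgroup X) : Set X) ≤
      Subgroup.normalizer (J : Set X) := by
    intro g hg
    rw [mem_normalizer_iff_map_conj_eq] at hg ⊢
    rw [← hJU]
    exact (FusSys.thompsonSubgroupAOf_map (MulAut.conj g).injective _).trans
      (congrArg Cfsg.thompsonSubgroupAOf hg)
  refine ⟨?_, ?_⟩
  · rw [eq_top_iff, ← frattini T Y, sup_comm _ Y]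
    exact sup_le (le_sup_of_le_left le_sup_right) (hNJ.trans le_sup_right)
  by_cases hYC : Y ≤ C
  · exact Or.inl hYC
  refine Or.inr ?_
  -- the image of `Y`
  set H := Y.map σ with hH
  have hgen : H = ⨆ A : {A : Subgroup (Hol W) // A ≤ H ∧
      Cfsg.IsBestOffenderOn 2 (emb W W) A}, (A : Subgroup (Hol W)) := by
    refine le_antisymm ?_ (iSup_le fun A => A.2.1)
    set S₀ := ⨆ A : {A : Subgroup (Hol W) // A ≤ H ∧
      Cfsg.IsBestOffenderOn 2 (emb W W) A}, (A : Subgroup (Hol W)) with hS₀
    rw [hH, map_le_iff_le_comap, hY, normalClosure, closure_le]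
    intro y hy
    obtain ⟨j, hj, hjy⟩ := Group.mem_conjugatesOfSet_iff.1 hy
    obtain ⟨g, rfl⟩ := isConj_iff.1 hjy
    have hle : J ≤ (S₀.comap σ).comap (MulAut.conj g).toMonoidHom := by
      rw [hJ, Fusion.thompsonSubgroupAOf_eq]
      refine sSup_le fun A hA => ?_
      rw [← map_le_iff_le_comap, ← map_le_iff_le_comap]
      have hA' := (Fusion.abMax_map_iff (f := (MulAut.conj g).toMonoidHom)
        (MulAut.conj g).injective).2 hA
      have hWS : W ≤ (T : Subgroup X).map (MulAut.conj g).toMonoidHom := by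
        rw [← Thompson.map_conj_eq_self (M := W) g]
        exact map_mono ((hWV.trans hVQ).trans (hQT T))
      refine le_iSup_of_le (⟨(A.map (MulAut.conj g).toMonoidHom).map σ, map_mono ?_,
        AbelianFactor.offender_of_abMax hWea hO (T.isPGroup'.map _) hWS hA'⟩ :
        {A : Subgroup (Hol W) // A ≤ H ∧ Cfsg.IsBestOffenderOn 2 (emb W W) A}) le_rfl
      rintro _ ⟨a, ha, rfl⟩
      exact (normalClosure_normal : Y.Normal).conj_mem a (hAY A hA ha) g
    exact hle hj
  have hn : σ.range ≤ Subgroup.normalizer (H : Set (Hol W)) := by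
    rintro _ ⟨x, rfl⟩
    refine le_normalizer_map σ ⟨x, ?_, rfl⟩
    rw [normalizer_eq_top]
    exact mem_top x
  have hne : H ≠ ⊥ := fun h0 => hYC (hker ▸ (Subgroup.map_eq_bot_iff _).1 h0)
  obtain ⟨n, hn1, ⟨e⟩⟩ := AbelianFactor.ff_two_structure
    (AbelianFactor.ff_of_generated hWea hO (map_le_range σ Y) hn hgen) hne
  have hk : C.subgroupOf Y = (σ.comp Y.subtype).ker := by
    rw [← MonoidHom.comap_ker, hker]; rfl
  have hr : (σ.comp Y.subtype).range = H := by
    rw [MonoidHom.range_comp, range_subtype]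
  exact ⟨n, hn1, ⟨((QuotientGroup.quotientMulEquivOfEq hk).trans
    (QuotientGroup.quotientKerEquivRange _)).trans ((MulEquiv.subgroupCongr hr).trans e)⟩⟩

end Cfsg.Agent.S4302
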