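import Cfsg.Statements.S4303
import Cfsg.Agent.SylowNumber.Induction
-- import your own Cfsg.Agent.* helpers here

set_option autoImplicit false
universe u
open Cfsg

namespace Cfsg.Agent.S4303

/-- For a finite group `G` and a prime `p`, the number of Sylow `p`-subgroups of `G` is a product of natural numbers each of which is either a prime power congruent to 1 modulo `p` or the number of Sylow `p`-subgroups of some finite simple group. -/
theorem result {G : Type u} [Group G] [Finite G]
    (p : ℕ) [Fact p.Prime] :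
    ∃ l : List ℕ, l.prod = Nat.card (Sylow p G) ∧
      ∀ m ∈ l, (IsPrimePow m ∧ m % p = 1) ∨
        ∃ (S : Type u) (_ : Group S) (_ : Finite S), IsSimpleGroup S ∧ m = Nat.card (Sylow p S) := by
  refine Cfsg.Agent.SylowNumber.sylow_number_induction (p := p)
    (fun n => ∃ l : List ℕ, l.prod = n ∧ ∀ m ∈ l, (IsPrimePow m ∧ m % p = 1) ∨
      ∃ (S : Type u) (_ : Group S) (_ : Finite S), IsSimpleGroup S ∧ m = Nat.card (Sylow p S))
    (fun _ _ => True) ⟨[], rfl, by simp⟩ ?_ ?_ (fun _ _ _ _ => trivial) (fun _ _ _ _ _ => trivial) ?_ G trivial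
  · rintro a b ⟨l, hl, h1⟩ ⟨l', hl', h2⟩
    refine ⟨l ++ l', by rw [List.prod_append, hl, hl'], fun m hm => ?_⟩
    rcases List.mem_append.mp hm with h | h
    · exact h1 m h
    · exact h2 m h
  · intro r k hr hk hmod
    refine ⟨[r ^ k], List.prod_singleton, fun m hm => Or.inl ?_⟩
    rw [List.mem_singleton] at hm
    subst hm
    exact ⟨hr.isPrimePow.pow hk.ne', Eq.trans hmod (Nat.one_mod_eq_one.mpr (Fact.out : p.Prime).ne_one)⟩
  · intro H _ _ hsi _
    refine ⟨[Nat.card (Sylow p H)], List.prod_singleton, fun m hm => Or.inr ?_⟩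
    exact ⟨H, inferInstance, inferInstance, hsi, List.mem_singleton.mp hm⟩

end Cfsg.Agent.S4303
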