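import Cfsg.Statements.S4305
import Cfsg.Agent.S3Fpf.Theorem

set_option autoImplicit false
open Cfsg

namespace Cfsg.Agent.S4305

open Subgroup SemidirectProduct Cfsg.Agent.S3Fpf

theorem perm_three : ∃ u t : Equiv.Perm (Fin 3), u ^ 3 = 1 ∧ t * t = 1 ∧ t * u * t⁻¹ = u⁻¹ ∧
    (∀ a : Equiv.Perm (Fin 3), ∃ i : Fin 3, ∃ j : Fin 2, a = u ^ (i : ℕ) * t ^ (j : ℕ)) ∧
    (∀ a b : Equiv.Perm (Fin 3), ∃ i : Fin 3, a * b * a⁻¹ * b⁻¹ = u ^ (i : ℕ)) :=
  ⟨Equiv.swap 0 1 * Equiv.swap 1 2, Equiv.swap 0 1, by decide, by decide, by decide, by decide, by decide⟩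

/-- Let the symmetric group of degree 3 act by automorphisms on a finite solvable group `G` of order prime to 6, so that only the identity of `G` is fixed by all of it. Then the derived subgroup of `G` is nilpotent. -/
theorem result {G : Type*} [Group G] [Finite G] [Group.IsSolvable G]
    [MulDistribMulAction (Equiv.Perm (Fin 3)) G] (hcop : (Nat.card G).Coprime 6)
    (hfpf : ∀ g : G, (∀ a : Equiv.Perm (Fin 3), a • g = g) → g = 1) :
    Group.IsNilpotent ↥(commutator G) := by
  let φ : Equiv.Perm (Fin 3) →* MulAut G := MulDistribMulAction.toMulAut (Equiv.Perm (Fin 3)) G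
  let D := G ⋊[φ] Equiv.Perm (Fin 3)
  have : Finite D := Finite.of_equiv (G × Equiv.Perm (Fin 3)) (SemidirectProduct.equivProd (φ := φ)).symm
  set G' : Subgroup D := (inl : G →* D).range
  set A' : Subgroup D := (inr : Equiv.Perm (Fin 3) →* D).range
  have hGn : G'.Normal := by
    change (inl : G →* D).range.Normal
    rw [range_inl_eq_ker_rightHom]
    infer_instance
  obtain ⟨u₀, t₀, hu3, ht2, htut, hgen, hder⟩ := perm_three
  have hcard : Nat.card G' = Nat.card G :=
    (Nat.card_congr (MonoidHom.ofInjective inl_injective).toEquiv).symm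
  have hcardA : Nat.card A' = 6 := by
    rw [← Nat.card_congr (MonoidHom.ofInjective (f := (inr : Equiv.Perm (Fin 3) →* D)) inr_injective).toEquiv,
      Nat.card_perm, Nat.card_fin]
    rfl
  have hsolvA : Group.IsSolvable (Equiv.Perm (Fin 3)) := by
    refine ⟨⟨2, ?_⟩⟩
    rw [eq_bot_iff]
    have h1 : derivedSeries (Equiv.Perm (Fin 3)) 1 ≤ zpowers u₀ := by
      rw [derivedSeries_one, _root_.commutator_def, commutator_le]
      intro a _ b _
      obtain ⟨i, hi⟩ := hder a b
      rw [commutatorElement_def, hi]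
      exact pow_mem (mem_zpowers _) _
    rw [derivedSeries_succ]
    refine (commutator_mono h1 h1).trans (commutator_le.mpr ?_)
    rintro a ⟨i, rfl⟩ b ⟨j, rfl⟩
    rw [mem_bot, commutatorElement_eq_one_iff_commute]
    exact (Commute.refl _).zpow_zpow i j
  have hw : Hyp A' G' (inr u₀) (inr t₀) := by
    refine ⟨⟨u₀, rfl⟩, ⟨t₀, rfl⟩, hcardA.dvd, ?_, ?_, ?_, ?_, ?_, ?_, hcard ▸ hcop, ?_⟩
    · exact Group.isSolvable_of_surjective (MonoidHom.rangeRestrict_surjective (inr : Equiv.Perm (Fin 3) →* D))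
    · rintro _ ⟨a, rfl⟩
      obtain ⟨i, j, rfl⟩ := hgen a
      have hu : (inr u₀ : D) ∈ closure ({inr u₀, inr t₀} : Set D) :=
        subset_closure (Set.mem_insert (inr u₀ : D) {inr t₀})
      have ht : (inr t₀ : D) ∈ closure ({inr u₀, inr t₀} : Set D) :=
        subset_closure (Set.mem_insert_of_mem (inr u₀ : D) (Set.mem_singleton (inr t₀ : D)))
      have hall : ⊤ ≤ (closure ({inr u₀, inr t₀} : Set D)).comap (inr : Equiv.Perm (Fin 3) →* D) := by
        intro a _
        obtain ⟨i, j, rfl⟩ := hgen a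
        exact mul_mem (pow_mem (mem_comap.mpr hu) _) (pow_mem (mem_comap.mpr ht) _)
      exact hall (mem_top (u₀ ^ (i : ℕ) * t₀ ^ (j : ℕ)))
    · exact ((map_pow (inr : Equiv.Perm (Fin 3) →* D) u₀ 3).symm.trans
        (congrArg (inr : Equiv.Perm (Fin 3) →* D) hu3)).trans (map_one _)
    · exact ((map_mul (inr : Equiv.Perm (Fin 3) →* D) t₀ t₀).symm.trans
        (congrArg (inr : Equiv.Perm (Fin 3) →* D) ht2)).trans (map_one _)
    · have h := congrArg (inr : Equiv.Perm (Fin 3) →* D) htut
      simp only [map_mul, map_inv] at h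
      exact h
    · rw [eq_bot_iff]
      rintro _ ⟨⟨g, rfl⟩, hg⟩
      rw [mem_bot, hfpf g fun a => ?_, map_one]
      refine inl_injective (φ := φ) ?_
      calc (inl (a • g) : D) = inr a * inl g * inr a⁻¹ := inl_aut (φ := φ) a g
        _ = inl g := by
          rw [mem_centralizer_iff.mp hg (inr a) ⟨a, rfl⟩, map_inv, mul_inv_cancel_right]
    · exact Group.isSolvable_of_surjective (MonoidHom.rangeRestrict_surjective (inl : G →* D))
  have hnil := s3_aux (Nat.card G') A' G' _ _ hw le_rfl
  have hmap : (commutator G).map (inl : G →* D) = ⁅G', G'⁆ := by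
    rw [_root_.commutator_def, map_commutator, ← MonoidHom.range_eq_map]
  rw [← hmap] at hnil
  exact Group.nilpotent_of_mulEquiv ((commutator G).equivMapOfInjective (inl : G →* D) inl_injective).symm

end Cfsg.Agent.S4305
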