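import Cfsg.Statements.S4306
import Cfsg.Agent.FittingPQ.Main

set_option autoImplicit false
open Cfsg

namespace Cfsg.Agent.S4306

open Subgroup SemidirectProduct

/-- The theorem for a pair of generators. -/
theorem core {G A : Type*} [Group G] [Finite G] [Group.IsSolvable G] [Group A] [Finite A]
    [MulDistribMulAction A G] {c b : A} {q p k : ℕ} (hA : FittingPQ.Pair c b q p k)
    (hgen : FittingPQ.grp c b = ⊤) (hq : q.Coprime (Nat.card G)) (hp : p.Coprime (Nat.card G))
    (hfpf : ∀ g : G, (∀ a : A, a • g = g) → g = 1) :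
    Group.IsNilpotent (G ⧸ fittingSubgroup G) := by
  let φ := MulDistribMulAction.toMulAut A G
  have := Coprime.finite_semidirect φ
  have := Coprime.inG_normal φ
  have hinj : Function.Injective (inr : A →* G ⋊[φ] A) := inr_injective
  have hsolv : Group.IsSolvable (Coprime.inG φ) :=
    Group.isSolvable_of_surjective (f := (inl : G →* G ⋊[φ] A).rangeRestrict)
      (MonoidHom.rangeRestrict_surjective _)
  have hpair : FittingPQ.Pair (inr c : G ⋊[φ] A) (inr b) q p k :=
    ⟨hA.hq, hA.hp, hA.ne, by rw [← map_pow, hA.cq, map_one], by rw [← map_pow, hA.bp, map_one],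
      by rw [← map_inv, ← map_mul, ← map_mul, hA.rel, map_pow],
      fun h => hA.nc (hinj (by rw [map_mul, map_mul]; exact h))⟩
  have hfix : FittingPQ.Fpf (inr c : G ⋊[φ] A) (inr b) (Coprime.inG φ) := by
    rw [FittingPQ.Fpf, eq_bot_iff]
    rintro _ ⟨⟨⟨g, rfl⟩, hgc⟩, hgb⟩
    let St : Subgroup A := (centralizer {(inl g : G ⋊[φ] A)}).comap inr
    have hle : FittingPQ.grp c b ≤ St := sup_le
      (zpowers_le.mpr (mem_centralizer_singleton_iff.mpr (mem_centralizer_singleton_iff.mp hgc).symm))
      (zpowers_le.mpr (mem_centralizer_singleton_iff.mpr (mem_centralizer_singleton_iff.mp hgb).symm))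
    have hg : g = 1 := hfpf g fun a => by
      have h1 : (inr a : G ⋊[φ] A) * inl g = inl g * inr a :=
        mem_centralizer_singleton_iff.mp (hle (hgen ▸ mem_top a))
      have h2 := Coprime.inr_conj_inl φ a g
      rw [h1, mul_inv_cancel_right] at h2
      exact (inl_injective h2).symm
    rw [hg, map_one]
    exact one_mem _
  have h := FittingPQ.fitting_two (Coprime.inG φ) hsolv hpair
    (by rwa [Coprime.card_inG]) (by rwa [Coprime.card_inG]) hfix
  let e : G ≃* Coprime.inG φ := MonoidHom.ofInjective inl_injective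
  exact (Group.isNilpotent_congr (QuotientGroup.congr (fittingSubgroup G)
    (fittingSubgroup (Coprime.inG φ)) e (Core.map_fittingSubgroup e))).mpr h

theorem exists_pair {A : Type*} [Group A] [Finite A] {p q : ℕ} (hp : p.Prime) (hq : q.Prime)
    (hlt : p < q) (hA : Nat.card A = p * q) (hAna : ¬ IsMulCommutative A) :
    ∃ c b : A, ∃ k : ℕ, FittingPQ.Pair c b q p k ∧ FittingPQ.grp c b = ⊤ := by
  have := Fact.mk hp
  have := Fact.mk hq
  obtain ⟨c, hc⟩ := exists_prime_orderOf_dvd_card' (G := A) q (hA ▸ dvd_mul_left q p)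
  obtain ⟨b, hb⟩ := exists_prime_orderOf_dvd_card' (G := A) p (hA ▸ dvd_mul_right p q)
  have hcard : Nat.card (zpowers c) = q := by rw [Nat.card_zpowers, hc]
  have hidx : (zpowers c).index = (Nat.card A).minFac := by
    have h1 := card_mul_index (zpowers c)
    rw [hcard, hA, mul_comm p q] at h1
    rw [Nat.eq_of_mul_eq_mul_left hq.pos h1, hA]
    refine le_antisymm ?_ (Nat.minFac_le_of_dvd hp.two_le (dvd_mul_right p q))
    have hne : p * q ≠ 1 := fun h => hp.ne_one (Nat.eq_one_of_mul_eq_one_right h)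
    rcases (Nat.minFac_prime hne).dvd_mul.mp (Nat.minFac_dvd _) with h | h
    · exact ((Nat.prime_dvd_prime_iff_eq (Nat.minFac_prime hne) hp).mp h).ge
    · rw [(Nat.prime_dvd_prime_iff_eq (Nat.minFac_prime hne) hq).mp h]; exact hlt.le
  have hn : (zpowers c).Normal := Subgroup.normal_of_index_eq_minFac_card hidx
  have hdisj : zpowers c ⊓ zpowers b = ⊥ := Coprime.inf_eq_bot_of_coprime (by
    rw [hcard, Nat.card_zpowers, hb]; exact (Nat.coprime_primes hq hp).mpr hlt.ne')
  have hgen : FittingPQ.grp c b = ⊤ := by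
    refine eq_top_of_card_eq _ ?_
    rw [Coprime.card_sup_eq_mul le_normalizer_of_normal hdisj, hcard, Nat.card_zpowers, hb, hA, mul_comm]
  obtain ⟨k, hk⟩ := mem_powers_iff_mem_zpowers.mpr (hn.conj_mem c (mem_zpowers c) b)
  refine ⟨c, b, k, ⟨hq, hp, hlt.ne, hc ▸ pow_orderOf_eq_one c, hb ▸ pow_orderOf_eq_one b, hk.symm,
    fun hcomm => hAna ?_⟩, hgen⟩
  have hclo : closure ({c, b} : Set A) = ⊤ := by
    rw [← hgen, Set.insert_eq, Subgroup.closure_union, ← zpowers_eq_closure, ← zpowers_eq_closure]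
  have := Subgroup.isMulCommutative_closure (k := ({c, b} : Set A)) (by
    rintro x (rfl | rfl) y (rfl | rfl) <;> first | exact rfl | exact hcomm.eq | exact hcomm.eq.symm)
  exact ⟨⟨fun x y => congrArg Subtype.val
    (mul_comm' (⟨x, hclo ▸ mem_top x⟩ : closure ({c, b} : Set A)) ⟨y, hclo ▸ mem_top y⟩)⟩⟩

/-- Let `A` be a non-abelian group of order `pq` with `p, q` distinct primes, acting by automorphisms on a finite solvable group `G` of order prime to `pq`, so that only the identity of `G` is fixed by all of `A`. Then `G` has Fitting height at most 2: there is a normal nilpotent subgroup `F` of `G` with `G/F` nilpotent. -/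
theorem result {G A : Type*} [Group G] [Finite G]
    [Group.IsSolvable G] [Group A] [Finite A] [MulDistribMulAction A G] (p q : ℕ) (hp : p.Prime) (hq : q.Prime) (hpq : p ≠ q)
    (hA : Nat.card A = p * q) (hAna : ¬ IsMulCommutative A) (hcop : (Nat.card G).Coprime (p * q))
    (hfpf : ∀ g : G, (∀ a : A, a • g = g) → g = 1) :
    ∃ F : Subgroup G, ∃ hF : F.Normal, Group.IsNilpotent ↥F ∧ Group.IsNilpotent (G ⧸ F) := by
  refine ⟨fittingSubgroup G, inferInstance, Core.fittingSubgroup_isNilpotent, ?_⟩
  have hp' : p.Coprime (Nat.card G) := (hcop.coprime_dvd_right (dvd_mul_right p q)).symm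
  have hq' : q.Coprime (Nat.card G) := (hcop.coprime_dvd_right (dvd_mul_left q p)).symm
  rcases lt_or_gt_of_ne hpq with hlt | hlt
  · obtain ⟨c, b, k, hpair, hgen⟩ := exists_pair hp hq hlt hA hAna
    exact core hpair hgen hq' hp' hfpf
  · obtain ⟨c, b, k, hpair, hgen⟩ := exists_pair hq hp hlt (by rw [hA, mul_comm]) hAna
    exact core hpair hgen hp' hq' hfpf

end Cfsg.Agent.S4306
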