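import Cfsg.Statements.S4309
import Cfsg.Agent.Core.Basics


set_option autoImplicit false
open Cfsg

namespace Cfsg.Agent.S4309

/-- Let `π` be a set of primes, `G` a finite group with a Hall `π`-subgroup `H` (every prime divisor of the order of `H` lies in `π` and no prime of `π` divides its index), and `A` a normal subgroup of `G`. Then `H ∩ A` is a Hall `π`-subgroup of `A` and the image of `H` in `G/A` is a Hall `π`-subgroup of `G/A`. -/
theorem result {G : Type*} [Group G] [Finite G] (π : Set ℕ)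
    (H A : Subgroup G) [A.Normal] (hH : Cfsg.IsPiHall π H) :
    Cfsg.IsPiHall π ((H ⊓ A).subgroupOf A) ∧ Cfsg.IsPiHall π (H.map (QuotientGroup.mk' A)) := by
  obtain ⟨h1, h2⟩ := hH
  refine ⟨⟨fun p hp hd => h1 p hp ?_, fun p hp hpi hd => ?_⟩,
    fun p hp hd => h1 p hp (hd.trans (Subgroup.card_map_dvd _ _)),
    fun p hp hpi hd => h2 p hp hpi (hd.trans ?_)⟩
  · rw [Nat.card_congr (Subgroup.subgroupOfEquivOfLe (inf_le_right : H ⊓ A ≤ A)).toEquiv] at hd
    exact hd.trans (Subgroup.card_dvd_of_le inf_le_left)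
  · apply h2 p hp hpi
    refine hd.trans ?_
    have hc := Cfsg.Agent.Core.card_sup_mul_card_inf H A
    have e1 : ((H ⊓ A).subgroupOf A).index * Nat.card (H ⊓ A : Subgroup G) = Nat.card A :=
      (mul_comm _ _).trans (Subgroup.relIndex_bot_left (H ⊓ A) ▸ Subgroup.relIndex_bot_left A ▸
        Subgroup.relIndex_mul_relIndex ⊥ (H ⊓ A) A bot_le inf_le_right)
    have e2 := H.index_mul_card
    have e3 := (H ⊔ A).index_mul_card
    refine ⟨(H ⊔ A).index, Nat.eq_of_mul_eq_mul_right (m := Nat.card H * Nat.card (H ⊓ A : Subgroup G))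
      (Nat.mul_pos Nat.card_pos Nat.card_pos) ?_⟩
    calc H.index * (Nat.card H * Nat.card (H ⊓ A : Subgroup G))
        = H.index * Nat.card H * Nat.card (H ⊓ A : Subgroup G) := by ring
      _ = (H ⊔ A).index * (Nat.card (H ⊔ A : Subgroup G) * Nat.card (H ⊓ A : Subgroup G)) := by
          rw [e2, ← e3]; ring
      _ = (H ⊔ A).index * (Nat.card H * (((H ⊓ A).subgroupOf A).index * Nat.card (H ⊓ A : Subgroup G))) := by
          rw [hc, e1]
      _ = _ := by ring
  · exact Subgroup.index_map_dvd _ (QuotientGroup.mk'_surjective A)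

end Cfsg.Agent.S4309
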