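import Cfsg.Statements.S4314
-- import your own Cfsg.Agent.* helpers here

set_option autoImplicit false
open Cfsg
open scoped commutatorElement

namespace Cfsg.Agent.S4314
theorem eq_of_index_eq {G : Type*} [Group G] [Finite G] {A B : Subgroup G} (hle : A ≤ B) (h : B.index = A.index) : A = B := by
  refine Subgroup.eq_of_le_of_card_ge hle (le_of_eq ?_)
  have h1 := A.card_mul_index
  rw [← B.card_mul_index, h] at h1
  exact (Nat.eq_of_mul_eq_mul_right (Nat.pos_of_ne_zero Subgroup.index_ne_zero_of_finite) h1).symm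

theorem hfaith_aux {H : Type*} [Group H] {p : ℕ} [hp : Fact p.Prime] (t : H) (ht : orderOf t = p) {i : ℤ}
    (hne : t ^ i ≠ 1) (hz : ∀ w : H, Commute (t ^ i) w) : ∀ w : H, Commute t w := fun w => by
  have hndvd : ¬ (p : ℤ) ∣ i := fun hd => hne (orderOf_dvd_iff_zpow_eq_one.mp (ht ▸ hd))
  obtain ⟨a, b, hab⟩ := ((Nat.prime_iff_prime_int.mp hp.out).coprime_iff_not_dvd).mpr hndvd
  have h1 : t = (t ^ i) ^ b := by
    rw [← zpow_mul, show i * b = 1 - a * (p : ℤ) by linear_combination hab, zpow_sub, zpow_one, mul_comm a, zpow_mul,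
      zpow_natCast, ← ht, pow_orderOf_eq_one, one_zpow, inv_one, mul_one]
  rw [h1]; exact (hz w).zpow_left b

theorem index_sup_eq {G : Type*} [Group G] [Finite G] (K : Subgroup G) [K.Normal] {C : Subgroup G}
    (h : C.index = (C.map (QuotientGroup.mk' K)).index) : K ≤ C := by
  rw [Subgroup.index_map, QuotientGroup.ker_mk', MonoidHom.range_eq_top.mpr (QuotientGroup.mk'_surjective K),
    Subgroup.index_top, mul_one] at h
  exact le_sup_right.trans (eq_of_index_eq le_sup_left h.symm).ge



/-- Let `G` be a finite group every conjugacy class of which has size 1 or a prime. Then either `G` is nilpotent of class at most 2, or `G/Z(G)` is a non-abelian group of order `pq` for distinct primes `p, q` (a Frobenius group of order `pq`). -/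
theorem result {G : Type*} [Group G] [Finite G]
    (h : ∀ x : G, (Subgroup.centralizer ({x} : Set G)).index = 1 ∨ ((Subgroup.centralizer ({x} : Set G)).index).Prime) :
    Subgroup.upperCentralSeries G 2 = ⊤ ∨
      ∃ p q : ℕ, p.Prime ∧ q.Prime ∧ p ≠ q ∧ Nat.card (G ⧸ Subgroup.center G) = p * q ∧ ¬ IsMulCommutative (G ⧸ Subgroup.center G) := by
  classical
  by_cases hall : ∀ x : G, (Subgroup.centralizer ({x} : Set G)).Normal
  · left
    have hc : commutator G ≤ Subgroup.center G := by
      intro c hc
      rw [Subgroup.mem_center_iff]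
      intro x
      have := hall x
      set C := Subgroup.centralizer ({x} : Set G)
      have hle : commutator G ≤ C := by
        rcases h x with h1 | h1
        · exact le_top.trans (Subgroup.index_eq_one.mp h1).ge
        · have : Fact C.index.Prime := ⟨h1⟩
          have : IsCyclic (G ⧸ C) := isCyclic_of_prime_card (p := C.index) (Subgroup.index_eq_card C).symm
          let : CommGroup (G ⧸ C) := IsCyclic.commGroup
          exact (Abelianization.commutator_subset_ker (QuotientGroup.mk' C)).trans (QuotientGroup.ker_mk' C).le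
      exact (Subgroup.mem_centralizer_singleton_iff.mp (hle hc)).symm
    refine (Subgroup.eq_top_iff' _).mpr fun x => ?_
    rw [Subgroup.mem_upperCentralSeries_succ_iff]
    intro y
    rw [Subgroup.upperCentralSeries_one]
    exact hc (by rw [_root_.commutator_def]; exact Subgroup.commutator_mem_commutator (Subgroup.mem_top x) (Subgroup.mem_top y))
  right
  push Not at hall
  obtain ⟨x, hMn⟩ := hall
  set M := Subgroup.centralizer ({x} : Set G) with hMdef
  have hMp : M.index.Prime := (h x).resolve_left fun e => hMn (by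
    exact (show M = ⊤ from Subgroup.index_eq_one.mp e).symm ▸ Subgroup.normal_top)
  set p := M.index
  have : Fact p.Prime := ⟨hMp⟩
  set K := M.normalCore
  have hKn : K.Normal := Subgroup.normalCore_normal M
  let f := QuotientGroup.mk' K
  have hf : Function.Surjective f := QuotientGroup.mk'_surjective K
  set H := G ⧸ K
  set Mb := M.map f
  have hKM : K ≤ M := Subgroup.normalCore_le M
  have hMb : Mb.index = p := by
    rw [Subgroup.index_map_eq _ hf (by rw [QuotientGroup.ker_mk']; exact hKM)]
  -- the action on the cosets of the point stabiliser is faithful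
  have hfaith : ∀ z : H, (∀ a : H, a⁻¹ * z * a ∈ Mb) → z = 1 := by
    intro z hz
    obtain ⟨g, rfl⟩ := hf z
    refine (QuotientGroup.eq_one_iff g).mpr fun b => ?_
    obtain ⟨m, hm, hmb⟩ := hz (f b⁻¹)
    rw [map_inv, inv_inv] at hmb
    have h1 : m⁻¹ * (b * g * b⁻¹) ∈ M := hKM ((QuotientGroup.eq_one_iff _).mp (by
      show f (m⁻¹ * (b * g * b⁻¹)) = 1
      rw [map_mul, map_mul, map_mul, map_inv, map_inv, hmb, inv_mul_cancel]))
    rw [show b * g * b⁻¹ = m * (m⁻¹ * (b * g * b⁻¹)) by group]
    exact M.mul_mem hm h1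
  obtain ⟨t, ht⟩ := exists_prime_orderOf_dvd_card' (G := H) p (hMb ▸ Mb.index_dvd_card)
  have htM : t ∉ Mb := by
    intro htM
    -- a conjugate of `t` lies outside
    have hnt : t ≠ 1 := fun e => hMp.ne_one (by rw [← ht, e, orderOf_one])
    obtain ⟨a, ha⟩ : ∃ a : H, a⁻¹ * t * a ∉ Mb := by
      by_contra hcon
      push Not at hcon
      exact hnt (hfaith t hcon)
    -- orders: `p * p` cannot divide the order
    have hp2 : ¬ p * p ∣ Nat.card H := by
      intro hdd
      have hle : Nat.card H ∣ p.factorial := by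
        let φ : H →* Equiv.Perm (H ⧸ Mb) := MulAction.toPermHom H (H ⧸ Mb)
        have hφ : Function.Injective φ := (injective_iff_map_eq_one φ).mpr fun z hz => hfaith z fun a => by
          have h1 : z • (a : H ⧸ Mb) = a := Equiv.congr_fun hz (a : H ⧸ Mb)
          change ((z * a : H) : H ⧸ Mb) = a at h1
          rw [eq_comm, QuotientGroup.eq, ← mul_assoc] at h1
          exact h1
        have h1 := Subgroup.card_dvd_of_injective φ hφ
        have : Fintype (H ⧸ Mb) := Fintype.ofFinite _
        rw [Nat.card_perm, ← Subgroup.index_eq_card Mb, hMb] at h1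
        exact h1
      have h1 := hdd.trans hle
      have h2 : p.factorial = p * (p - 1).factorial := (Nat.mul_factorial_pred hMp.ne_zero).symm
      rw [h2, Nat.mul_dvd_mul_iff_left hMp.pos, hMp.dvd_factorial] at h1
      have := hMp.two_le
      omega
    apply hp2
    rw [← Mb.card_mul_index, hMb]
    refine Nat.mul_dvd_mul ?_ dvd_rfl
    rw [← ht, ← Subgroup.orderOf_mk t htM]
    exact orderOf_dvd_natCard _
  have hcover : ∀ a : H, ∃ i : ℤ, (t ^ i)⁻¹ * a ∈ Mb := by
    intro a
    have hinj : Function.Injective (fun s : Subgroup.zpowers t => ((s : H) : H ⧸ Mb)) := by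
      intro u v huv
      have h1 : (u : H)⁻¹ * v ∈ Mb := QuotientGroup.eq.mp huv
      have h2 : (u : H)⁻¹ * v ∈ Subgroup.zpowers t := mul_mem (inv_mem u.2) v.2
      have hcard : Nat.card ↥(Subgroup.zpowers t) = p := by rw [Nat.card_zpowers, ht]
      rcases (Nat.dvd_prime hMp).mp (hcard ▸ Subgroup.card_dvd_of_le (inf_le_left : Subgroup.zpowers t ⊓ Mb ≤ _)) with hc | hc
      · exact Subtype.ext (inv_mul_eq_one.mp (Subgroup.mem_bot.mp (Subgroup.eq_bot_of_card_eq _ hc ▸ Subgroup.mem_inf.mpr ⟨h2, h1⟩)))
      · exact absurd ((Subgroup.eq_of_le_of_card_ge inf_le_left (by rw [hc, hcard])).ge (Subgroup.mem_zpowers t)).2 htM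
    obtain ⟨⟨s, hs⟩, hsa⟩ := (hinj.bijective_of_nat_card_le (le_of_eq (by
      rw [← Subgroup.index_eq_card, hMb, Nat.card_zpowers, ht]))).2 (a : H ⧸ Mb)
    obtain ⟨i, rfl⟩ := Subgroup.mem_zpowers_iff.mp hs
    exact ⟨i, QuotientGroup.eq.mp hsa⟩
  have hCt : Subgroup.centralizer ({t} : Set H) = Subgroup.zpowers t := by
    refine le_antisymm (fun c hc => ?_) (Subgroup.zpowers_le.mpr (Subgroup.mem_centralizer_singleton_iff.mpr rfl))
    have hct : Commute c t := Subgroup.mem_centralizer_singleton_iff.mp hc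
    obtain ⟨i, hi⟩ := hcover c
    have h1 : (t ^ i)⁻¹ * c = 1 := by
      refine hfaith _ fun a => ?_
      obtain ⟨j, hj⟩ := hcover a
      have hcj : Commute ((t ^ i)⁻¹ * c) (t ^ j) :=
        ((Commute.refl t).zpow_zpow i j).inv_left.mul_left (hct.zpow_right j)
      rw [show a⁻¹ * ((t ^ i)⁻¹ * c) * a = ((t ^ j)⁻¹ * a)⁻¹ * ((t ^ j)⁻¹ * (((t ^ i)⁻¹ * c) * t ^ j)) * ((t ^ j)⁻¹ * a) by group,
        hcj.eq, inv_mul_cancel_left]
      exact Mb.mul_mem (Mb.mul_mem (Mb.inv_mem hj) hi) hj
    rw [inv_mul_eq_one] at h1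
    exact h1 ▸ Subgroup.zpow_mem_zpowers t i
  have himg : ∀ g : G, ((Subgroup.centralizer ({g} : Set G)).map f) ≤ Subgroup.centralizer ({f g} : Set H) := by
    rintro g _ ⟨z, hz, rfl⟩
    rw [Subgroup.mem_centralizer_singleton_iff, ← map_mul, ← map_mul, Subgroup.mem_centralizer_singleton_iff.mp hz]
  have hMbn : ¬ Mb.Normal := fun hn => hMn (by
    have h1 : Mb.comap f = M := Subgroup.comap_map_eq_self (by rw [QuotientGroup.ker_mk']; exact hKM)
    rw [← h1]; exact hn.comap f)
  -- the order of the quotient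
  obtain ⟨g, hg⟩ := hf t
  have hidx : (Subgroup.zpowers t).index ∣ (Subgroup.centralizer ({g} : Set G)).index := by
    refine dvd_trans ?_ (Subgroup.index_map_dvd _ hf)
    exact Subgroup.index_dvd_of_le ((himg g).trans (by rw [hg, hCt]))
  have hzi : p * (Subgroup.zpowers t).index = Nat.card H := by
    rw [← ht, ← Nat.card_zpowers, Subgroup.card_mul_index]
  have hMbc : Nat.card Mb * p = Nat.card H := by rw [← hMb, Subgroup.card_mul_index]
  have hr : (Subgroup.zpowers t).index.Prime := by
    have hne : (Subgroup.zpowers t).index ≠ 1 := fun e => hMbn (by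
      rw [e, mul_one] at hzi
      have : Mb = ⊥ := Subgroup.eq_bot_of_card_eq _ (Nat.eq_of_mul_eq_mul_right hMp.pos (by rw [hMbc, one_mul, hzi]))
      rw [this]; exact Subgroup.normal_bot)
    rcases h g with h1 | h1
    · exact absurd (Nat.dvd_one.mp (h1 ▸ hidx)) hne
    · rcases (Nat.dvd_prime h1).mp hidx with h2 | h2
      · exact absurd h2 hne
      · exact h2 ▸ h1
  set r := (Subgroup.zpowers t).index
  have hnab : ¬ IsMulCommutative H := fun hab => hr.ne_one (by
    show (Subgroup.zpowers t).index = 1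
    rw [← hCt, Subgroup.index_eq_one, Subgroup.eq_top_iff']
    exact fun z => Subgroup.mem_centralizer_singleton_iff.mpr (hab.is_comm.comm z t))
  have hrp : p ≠ r := fun e => hnab (IsPGroup.isMulCommutative_of_card_eq_prime_sq (p := p) (by rw [sq, ← hzi, ← e]))
  -- the centre of the quotient is trivial
  have hZ : ∀ z : H, (∀ w : H, Commute z w) → z = 1 := fun z hz => by
    obtain ⟨i, rfl⟩ := Subgroup.mem_zpowers_iff.mp (hCt ▸ Subgroup.mem_centralizer_singleton_iff.mpr (hz t).eq)
    by_contra hne
    refine hfaith_aux t ht hne hz |> fun hcen => hr.ne_one ?_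
    show (Subgroup.zpowers t).index = 1
    rw [← hCt, Subgroup.index_eq_one, Subgroup.eq_top_iff']
    exact fun w => Subgroup.mem_centralizer_singleton_iff.mpr (hcen w).symm.eq
  have hMbr : Nat.card Mb = r := Nat.eq_of_mul_eq_mul_right hMp.pos (by rw [hMbc, ← hzi, mul_comm])
  -- `K` is central
  have hKy : ∀ y ∈ M, y ∉ K → K ≤ Subgroup.centralizer ({y} : Set G) := by
    intro y hyM hyK
    set z := f y
    have hz1 : z ≠ 1 := fun e => hyK ((QuotientGroup.eq_one_iff y).mp e)
    set C := Subgroup.centralizer ({z} : Set H)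
    have hCne : C ≠ ⊤ := fun e => hz1 (hZ z fun w =>
      (Subgroup.mem_centralizer_singleton_iff.mp (show w ∈ C from e.ge (Subgroup.mem_top w)) : Commute w z).symm)
    have hzo : orderOf z = r := by
      refine ((Nat.dvd_prime hr).mp ?_).resolve_left fun e => hz1 (orderOf_eq_one_iff.mp e)
      rw [← hMbr, ← Subgroup.orderOf_mk z (Subgroup.mem_map_of_mem f hyM)]
      exact orderOf_dvd_natCard _
    have hpdvd : p ∣ C.index := by
      have h1 : r ∣ Nat.card C := by
        rw [← hzo, ← Subgroup.orderOf_mk z (show z ∈ C from Subgroup.mem_centralizer_singleton_iff.mpr rfl)]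
        exact orderOf_dvd_natCard _
      obtain ⟨c, hc⟩ := h1
      have h2 : r * (c * C.index) = r * p := by
        rw [← mul_assoc, ← hc, Subgroup.card_mul_index, ← hzi, mul_comm]
      have h3 := Nat.eq_of_mul_eq_mul_left hr.pos h2
      rcases (Nat.dvd_prime hMp).mp (Dvd.intro c (by rw [mul_comm]; exact h3) : C.index ∣ p) with h4 | h4
      · exact absurd (Subgroup.index_eq_one.mp h4) hCne
      · rw [h4]
    set Cy := Subgroup.centralizer ({y} : Set G)
    have h5 : p ∣ (Cy.map f).index := hpdvd.trans (Subgroup.index_dvd_of_le (himg y))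
    have h6 : Cy.index = (Cy.map f).index := by
      have h7 := Subgroup.index_map_dvd Cy hf
      rcases h y with h8 | h8
      · exact absurd (Nat.dvd_one.mp (h8 ▸ h5.trans h7)) hMp.ne_one
      · rcases (Nat.dvd_prime h8).mp h7 with h9 | h9
        · exact absurd (Nat.dvd_one.mp (h9 ▸ h5)) hMp.ne_one
        · exact h9.symm
    exact index_sup_eq K h6
  have hMC : M ≤ Subgroup.centralizer (K : Set G) := by
    obtain ⟨m₀, hm₀M, hm₀K⟩ : ∃ m ∈ M, m ∉ K := SetLike.exists_of_lt (lt_of_le_of_ne hKM fun e => hMn (e ▸ hKn))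
    intro m hm
    rw [Subgroup.mem_centralizer_iff]
    intro k hk
    by_cases hmK : m ∈ K
    · have h1 := Subgroup.mem_centralizer_singleton_iff.mp (hKy _ (M.mul_mem hm₀M hm) (fun e => hm₀K (by simpa using K.mul_mem e (K.inv_mem hmK))) hk)
      have h2 : Commute k m₀ := Subgroup.mem_centralizer_singleton_iff.mp (hKy _ hm₀M hm₀K hk)
      have h3 : Commute k m := by simpa using h2.inv_right.mul_right (h1 : Commute k (m₀ * m))
      exact h3.eq
    · exact Subgroup.mem_centralizer_singleton_iff.mp (hKy m hm hmK hk)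
  have hKc : Subgroup.centralizer (K : Set G) = ⊤ := by
    have hCn : (Subgroup.centralizer (K : Set G)).Normal := inferInstance
    have hd := Subgroup.index_dvd_of_le hMC
    rcases (Nat.dvd_prime hMp).mp hd with h1 | h1
    · exact Subgroup.index_eq_one.mp h1
    · exact absurd (eq_of_index_eq hMC h1 ▸ hCn) hMn
  have hKZ : K = Subgroup.center G := le_antisymm (fun k hk => Subgroup.mem_center_iff.mpr fun w =>
    ((Subgroup.mem_centralizer_iff.mp (hKc ▸ Subgroup.mem_top w) k hk).symm)) fun z hz =>
      (QuotientGroup.eq_one_iff z).mp (hZ (f z) fun w => by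
        obtain ⟨w, rfl⟩ := hf w
        show f z * f w = f w * f z
        rw [← map_mul, ← map_mul, Subgroup.mem_center_iff.mp hz w])
  refine ⟨p, r, hMp, hr, hrp, ?_, ?_⟩
  · rw [hzi, ← hKZ]
  · exact fun hab => hnab ⟨⟨fun a b => (QuotientGroup.quotientMulEquivOfEq hKZ).injective (by rw [map_mul, map_mul]; exact hab.is_comm.comm _ _)⟩⟩

end Cfsg.Agent.S4314
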