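import Cfsg.Statements.S4321
import Mathlib
import Cfsg.Agent.ClassGraph.Coprime
import Cfsg.Agent.ClassGraph.Ito
import Cfsg.Agent.ClassGraph.Split
import Cfsg.Agent.Coprime.Basic
import Cfsg.Agent.Fusion.Residual
import Cfsg.Agent.Core.Frattini

set_option autoImplicit false
open Cfsg

namespace Cfsg.Agent.S4321

open Cfsg.Agent.ClassGraph

variable {G : Type*} [Group G] {p : ℕ}

/-- An element of order a power of p. -/
def PEl (p : ℕ) (a : G) : Prop := ∃ k, orderOf a ∣ p ^ k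

theorem PEl.inv {a : G} (h : PEl p a) : PEl p a⁻¹ := by rwa [PEl, orderOf_inv]

theorem PEl.mul {a b : G} (ha : PEl p a) (hb : PEl p b) (h : Commute a b) : PEl p (a * b) := by
  obtain ⟨k, hk⟩ := ha
  obtain ⟨l, hl⟩ := hb
  exact ⟨k + l, h.orderOf_mul_dvd_lcm.trans (Nat.lcm_dvd
    (hk.trans (pow_dvd_pow p (Nat.le_add_right k l))) (hl.trans (pow_dvd_pow p (Nat.le_add_left l k))))⟩

theorem PEl.conj {a : G} (h : PEl p a) (g : G) : PEl p (g * a * g⁻¹) := by
  obtain ⟨k, hk⟩ := h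
  refine ⟨k, orderOf_dvd_of_pow_eq_one ?_⟩
  rw [conj_pow, orderOf_dvd_iff_pow_eq_one.mp hk, mul_one, mul_inv_cancel]

theorem PEl.dvd [Fact p.Prime] {a : G} (h : PEl p a) (h1 : a ≠ 1) : p ∣ orderOf a := by
  obtain ⟨k, hk⟩ := h
  obtain ⟨j, -, hj⟩ := (Nat.dvd_prime_pow Fact.out).mp hk
  rcases j with _ | j
  · exact absurd (orderOf_eq_one_iff.mp (by rw [hj, pow_zero])) h1
  · exact ⟨p ^ j, by rw [hj, pow_succ']⟩

theorem mem_C {x g : G} : g ∈ Subgroup.centralizer ({x} : Set G) ↔ g * x = x * g :=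
  Subgroup.mem_centralizer_singleton_iff

theorem conj_of_commute {x g : G} (h : g * x = x * g) : g * x * g⁻¹ = x := by
  rw [h, mul_inv_cancel_right]

theorem commute_conj {x y : G} (h : Commute x y) (g : G) :
    Commute (g * x * g⁻¹) (g * y * g⁻¹) := by
  show g * x * g⁻¹ * (g * y * g⁻¹) = g * y * g⁻¹ * (g * x * g⁻¹)
  calc g * x * g⁻¹ * (g * y * g⁻¹) = g * (x * y) * g⁻¹ := by group
    _ = g * (y * x) * g⁻¹ := by rw [h.eq]
    _ = g * y * g⁻¹ * (g * x * g⁻¹) := by group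

variable [Finite G]

theorem idx_dvd_of_mem_zpowers {a g : G} (h : a ∈ Subgroup.zpowers g) : idx a ∣ idx g := by
  refine Subgroup.index_dvd_of_le fun c hc => ?_
  obtain ⟨i, rfl⟩ := Subgroup.mem_zpowers_iff.mp h
  exact mem_C.mpr (Commute.zpow_right (mem_C.mp hc) i)

theorem idx_conj (a g : G) : idx (g * a * g⁻¹) = idx a := by
  have h : IsConj a (g * a * g⁻¹) := isConj_iff.mpr ⟨g, rfl⟩
  rw [← card_conjugatesOf, ← card_conjugatesOf, h.conjugatesOf_eq]

theorem idx_eq_one_iff {a : G} : idx a = 1 ↔ ∀ g : G, g * a = a * g := by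
  rw [idx, Subgroup.index_eq_one, Subgroup.eq_top_iff']
  exact forall_congr' fun g => mem_C

theorem idx_ne_one [Fact p.Prime] (hZ : ¬ p ∣ Nat.card (Subgroup.center G)) {a : G} (ha : PEl p a)
    (h1 : a ≠ 1) : idx a ≠ 1 := by
  intro h
  have hc : a ∈ Subgroup.center G := Subgroup.mem_center_iff.mpr (idx_eq_one_iff.mp h)
  apply hZ
  have hd : orderOf (⟨a, hc⟩ : Subgroup.center G) ∣ Nat.card (Subgroup.center G) :=
    orderOf_dvd_natCard _
  rw [← Subgroup.orderOf_coe] at hd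
  exact (ha.dvd h1).trans hd

theorem conj_eq {a b : G} (h : (idx a).Coprime (idx b)) (g : G) :
    ∃ c ∈ Subgroup.centralizer ({a} : Set G), g * b * g⁻¹ = c * b * c⁻¹ := by
  obtain ⟨u, hu, v, hv, rfl⟩ := exists_mul_of_coprime h g
  refine ⟨u, hu, ?_⟩
  calc u * v * b * (u * v)⁻¹ = u * (v * b * v⁻¹) * u⁻¹ := by group
    _ = u * b * u⁻¹ := by rw [conj_of_commute (mem_C.mp hv)]

theorem conj_commute {a b : G} (hab : Commute a b) (h : (idx a).Coprime (idx b)) (g : G) :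
    Commute a (g * b * g⁻¹) := by
  obtain ⟨c, hc, e⟩ := conj_eq h g
  rw [e]
  have := commute_conj hab c
  rwa [conj_of_commute (mem_C.mp hc)] at this

/-- The product of two commuting elements with coprime class sizes. -/
theorem one_class [Fact p.Prime] {a b : G} (hab : Commute a b) (hmn : (idx a).Coprime (idx b))
    (hk : (idx (a * b)).Coprime (idx b)) :
    idx (a * b) = idx a ∧ (∀ g : G, Commute b (g * b * g⁻¹)) ∧
      (PEl p b → idx b ≠ 1 → p ∣ idx a) := by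
  classical
  set D := Subgroup.centralizer ({a} : Set G) ⊓ Subgroup.centralizer ({b} : Set G) with hD
  have hDmn : D.index = idx a * idx b := by
    refine le_antisymm Subgroup.index_inf_le ?_
    exact Nat.le_of_dvd (Nat.pos_of_ne_zero Subgroup.index_ne_zero_of_finite)
      (hmn.mul_dvd_of_dvd_of_dvd (Subgroup.index_dvd_of_le inf_le_left)
        (Subgroup.index_dvd_of_le inf_le_right))
  have hDk : D ≤ Subgroup.centralizer ({a * b} : Set G) := fun g hg =>
    mem_C.mpr (Commute.mul_right (mem_C.mp hg.1) (mem_C.mp hg.2))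
  have hka : idx (a * b) ∣ idx a :=
    hk.dvd_of_dvd_mul_right (hDmn ▸ Subgroup.index_dvd_of_le hDk)
  have hle : Subgroup.centralizer ({a * b} : Set G) ⊓ Subgroup.centralizer ({b} : Set G) ≤ D := by
    intro g hg
    refine ⟨mem_C.mpr ?_, hg.2⟩
    have h1 : Commute g (a * b * b⁻¹) :=
      Commute.mul_right (mem_C.mp hg.1) (Commute.inv_right (mem_C.mp hg.2))
    rwa [mul_inv_cancel_right] at h1
  have hna : 0 < idx a := Nat.pos_of_ne_zero Subgroup.index_ne_zero_of_finite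
  have hnb : 0 < idx b := Nat.pos_of_ne_zero Subgroup.index_ne_zero_of_finite
  have hkm : idx (a * b) = idx a := by
    refine le_antisymm (Nat.le_of_dvd hna hka) (Nat.le_of_mul_le_mul_right ?_ hnb)
    calc idx a * idx b = D.index := hDmn.symm
      _ ≤ (Subgroup.centralizer ({a * b} : Set G) ⊓ Subgroup.centralizer ({b} : Set G)).index :=
        Nat.le_of_dvd (Nat.pos_of_ne_zero Subgroup.index_ne_zero_of_finite)
          (Subgroup.index_dvd_of_le hle)
      _ ≤ idx (a * b) * idx b := Subgroup.index_inf_le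
  have hcop : (idx (a * b)).Coprime (idx b) := hk
  have hba : ∀ g, Commute b (g * a * g⁻¹) := conj_commute hab.symm hmn.symm
  have hshift : ∀ g : G, ∀ w ∈ conjugatesOf a, w * (b * (g * b * g⁻¹)⁻¹) ∈ conjugatesOf a := by
    intro g w hw
    obtain ⟨h, rfl⟩ := isConj_iff.mp hw
    obtain ⟨d, hd, e⟩ := conj_eq hmn.symm h
    obtain ⟨c, hc, e'⟩ := conj_eq hcop (d⁻¹ * g)
    refine isConj_iff.mpr ⟨d * c, ?_⟩
    have hd' : d * b * d⁻¹ = b := conj_of_commute (mem_C.mp hd)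
    have hc' : c * a * c⁻¹ * (c * b * c⁻¹) = a * b :=
      calc c * a * c⁻¹ * (c * b * c⁻¹) = c * (a * b) * c⁻¹ := by group
        _ = a * b := conj_of_commute (mem_C.mp hc)
    have hg' : g * b * g⁻¹ = d * (c * b * c⁻¹) * d⁻¹ := by rw [← e']; group
    rw [e, hg']
    calc d * c * a * (d * c)⁻¹
        = d * (c * a * c⁻¹ * (c * b * c⁻¹)) * d⁻¹ * (d * (c * b * c⁻¹) * d⁻¹)⁻¹ := by group
      _ = d * (a * b) * d⁻¹ * (d * (c * b * c⁻¹) * d⁻¹)⁻¹ := by rw [hc']
      _ = d * a * d⁻¹ * (d * b * d⁻¹) * (d * (c * b * c⁻¹) * d⁻¹)⁻¹ := by group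
      _ = d * a * d⁻¹ * (b * (d * (c * b * c⁻¹) * d⁻¹)⁻¹) := by rw [hd', mul_assoc]
  have hbb : ∀ g : G, Commute b (g * b * g⁻¹) := by
    intro g
    obtain ⟨c, hc⟩ := isConj_iff.mp (hshift g a (mem_conjugatesOf_self))
    have h1 : Commute b (a * (b * (g * b * g⁻¹)⁻¹)) := hc ▸ hba c
    have h2 : Commute b ((a * b)⁻¹ * (a * (b * (g * b * g⁻¹)⁻¹))) :=
      Commute.mul_right (Commute.inv_right (Commute.mul_right hab.symm (Commute.refl b))) h1
    rw [← mul_assoc a b, inv_mul_cancel_left] at h2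
    exact Commute.inv_right_iff.mp h2
  refine ⟨hkm, hbb, fun hb hb1 => ?_⟩
  obtain ⟨g, hg⟩ : ∃ g : G, g * b * g⁻¹ ≠ b := by
    by_contra hcon
    push Not at hcon
    exact hb1 (idx_eq_one_iff.mpr fun g => mul_inv_eq_iff_eq_mul.mp (hcon g))
  obtain ⟨z, hz⟩ : ∃ z, z = b * (g * b * g⁻¹)⁻¹ := ⟨_, rfl⟩
  have hz1 : z ≠ 1 := fun h => hg (mul_inv_eq_one.mp (hz.symm.trans h)).symm
  have hzp : PEl p z := hz ▸ hb.mul ((hb.conj g).inv) (hbb g).inv_right
  have hS : ∀ w ∈ conjugatesOf a, ∀ y ∈ Subgroup.zpowers z, w * y ∈ conjugatesOf a := by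
    intro w hw y hy
    obtain ⟨n, rfl⟩ := Submonoid.mem_powers_iff _ _ |>.mp (mem_powers_iff_mem_zpowers.mpr hy)
    clear hy
    induction n with
    | zero => simpa using hw
    | succ n ih =>
      rw [pow_succ, ← mul_assoc]
      rw [hz] at ih ⊢
      exact hshift g _ ih
  refine (hzp.dvd hz1).trans ?_
  rw [← card_conjugatesOf, ← Nat.card_coe_set_eq, ← Nat.card_zpowers]
  have hpre : (QuotientGroup.mk : G → G ⧸ Subgroup.zpowers z) ⁻¹'
      ((QuotientGroup.mk : G → G ⧸ Subgroup.zpowers z) '' conjugatesOf a) = conjugatesOf a := by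
    refine Set.Subset.antisymm ?_ (Set.subset_preimage_image _ _)
    rintro v ⟨w, hw, e⟩
    have := hS w hw _ (QuotientGroup.eq.mp e)
    rwa [mul_inv_cancel_left] at this
  rw [← hpre, Nat.card_congr (QuotientGroup.preimageMkEquivSubgroupProdSet _ _), Nat.card_prod]
  exact dvd_mul_right _ _

theorem mem_of_normalizes [Fact p.Prime] (P : Sylow p G) {y : G} (hy : PEl p y)
    (hn : y ∈ Subgroup.normalizer ((P : Subgroup G) : Set G)) : y ∈ (P : Subgroup G) := by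
  obtain ⟨k, hk⟩ := hy
  obtain ⟨j, -, hj⟩ := (Nat.dvd_prime_pow Fact.out).mp hk
  have hz : IsPGroup p (Subgroup.zpowers y) :=
    IsPGroup.of_card (n := j) (by rw [Nat.card_zpowers, hj])
  have h : y ∈ Subgroup.zpowers y ⊓ Subgroup.normalizer ((P : Subgroup G) : Set G) :=
    ⟨Subgroup.mem_zpowers y, hn⟩
  have h' : Subgroup.zpowers y ⊓ Subgroup.normalizer ((P : Subgroup G) : Set G) =
      Subgroup.zpowers y ⊓ P := hz.inf_normalizer_sylow P
  exact (h'.le h).2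

theorem conj_into [Fact p.Prime] (P : Sylow p G) {L : Subgroup G} (hPL : (P : Subgroup G) ≤ L)
    {s : G} (hsL : s ∈ L) (hs : PEl p s) : ∃ k ∈ L, k * s * k⁻¹ ∈ (P : Subgroup G) := by
  obtain ⟨k, hk⟩ := hs
  obtain ⟨j, -, hj⟩ := (Nat.dvd_prime_pow Fact.out).mp hk
  have hz : IsPGroup p (Subgroup.zpowers (⟨s, hsL⟩ : L)) :=
    IsPGroup.of_card (n := j) (by rw [Nat.card_zpowers, Subgroup.orderOf_mk, hj])
  obtain ⟨Q, hQ⟩ := hz.exists_le_sylow
  obtain ⟨m, hm⟩ := MulAction.exists_smul_eq L Q (P.subtype hPL)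
  refine ⟨m, m.2, ?_⟩
  have h1 : m * ⟨s, hsL⟩ * m⁻¹ ∈ (m • Q : Sylow p L) :=
    Set.mem_smul_set.mpr ⟨⟨s, hsL⟩, hQ (Subgroup.mem_zpowers _), rfl⟩
  rw [hm] at h1
  exact h1

/-- An element of order a power of p times one of order prime to p generates both. -/
theorem centralizer_mul_le_left {b y : G} (hby : Commute b y) (h : (orderOf b).Coprime (orderOf y)) :
    Subgroup.centralizer ({b * y} : Set G) ≤
      Subgroup.centralizer ({b} : Set G) ⊓ Subgroup.centralizer ({y} : Set G) := by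
  intro g hg
  have hb : g * b = b * g := by
    have h1 : Commute g ((b * y) ^ orderOf y) := Commute.pow_right (mem_C.mp hg) _
    rw [hby.mul_pow, pow_orderOf_eq_one, mul_one] at h1
    obtain ⟨m, hm⟩ := exists_pow_eq_self_of_coprime h.symm
    exact hm ▸ h1.pow_right m
  refine ⟨mem_C.mpr hb, mem_C.mpr ?_⟩
  have h2 : Commute g (b⁻¹ * (b * y)) :=
    Commute.mul_right (Commute.inv_right hb) (mem_C.mp hg)
  rwa [inv_mul_cancel_left] at h2

theorem mul_dvd_idx {b y : G} (hby : Commute b y) (h : (orderOf b).Coprime (orderOf y)) :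
    (Subgroup.centralizer ({b * y} : Set G)).relIndex (Subgroup.centralizer ({b} : Set G)) * idx b =
      idx (b * y) :=
  Subgroup.relIndex_mul_index ((centralizer_mul_le_left hby h).trans inf_le_left)

theorem not_unlinked [Fact p.Prime] (hZ : ¬ p ∣ Nat.card (Subgroup.center G)) (P : Sylow p G)
    {a b : G} (ha : PEl p a) (ha1 : a ≠ 1) (hb : PEl p b) (hb1 : b ≠ 1) (haP : a ∈ (P : Subgroup G))
    (hbP : b ∈ Subgroup.centralizer ((P : Subgroup G) : Set G)) (hpn : ¬ p ∣ idx b)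
    (hno : ∀ x : G, p ∣ orderOf x → ∀ t u : ℕ, t.Prime → u.Prime → t ∣ idx a → u ∣ idx b →
      t ∣ idx x → u ∣ idx x → False) : False := by
  classical
  have hp : p.Prime := Fact.out
  have hab : Commute a b := Subgroup.mem_centralizer_iff.mp hbP a haP
  have hn1 : idx b ≠ 1 := idx_ne_one hZ hb hb1
  have hm1 : idx a ≠ 1 := idx_ne_one hZ ha ha1
  obtain ⟨u, hu, hun⟩ := Nat.exists_prime_and_dvd hn1
  have hmn : (idx a).Coprime (idx b) := Nat.coprime_of_dvd fun t ht h1 h2 =>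
    hno a (ha.dvd ha1) t t ht ht h1 h2 h1 h1
  have hab1 : a * b ≠ 1 := by
    intro h
    have : b = a⁻¹ := eq_inv_of_mul_eq_one_right h
    have h1 : idx a ∣ idx b := idx_dvd_of_mem_zpowers ⟨-1, by simp [this]⟩
    exact hm1 (Nat.eq_one_of_dvd_coprimes hmn (dvd_refl _) h1)
  have hk : (idx (a * b)).Coprime (idx b) := by
    by_contra hc
    obtain ⟨u', hu', hu1, hu2⟩ := Nat.Prime.not_coprime_iff_dvd.mp hc
    by_cases hc' : (idx (a * b)).Coprime (idx a)
    · exact hpn ((one_class (p := p) hab.symm hmn.symm (by rwa [← hab.eq])).2.2 ha hm1)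
    · obtain ⟨t, ht, ht1, ht2⟩ := Nat.Prime.not_coprime_iff_dvd.mp hc'
      exact hno _ ((ha.mul hb hab).dvd hab1) t u' ht hu' ht2 hu2 ht1 hu1
  obtain ⟨hkm, hbb, hpm'⟩ := one_class (p := p) hab hmn hk
  have hpm : p ∣ idx a := hpm' hb hn1
  set H := Subgroup.centralizer ({b} : Set G) with hH
  have hPH : (P : Subgroup G) ≤ H := fun x hx =>
    mem_C.mpr (Subgroup.mem_centralizer_iff.mp hbP x hx)
  -- the centraliser of b
  have hy : ∀ y ∈ H, (orderOf y).Coprime p →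
      ∃ h ∈ H, h * y * h⁻¹ ∈ Subgroup.centralizer ((P : Subgroup G) : Set G) := by
    intro y hyH hyc
    have hco : (orderOf b).Coprime (orderOf y) := by
      obtain ⟨k, hk⟩ := hb
      exact Nat.Coprime.coprime_dvd_left hk ((hyc.symm).pow_left k)
    have hby : Commute b y := (mem_C.mp hyH).symm
    have hdvd : p ∣ orderOf (b * y) := by
      rw [hby.orderOf_mul_eq_mul_orderOf_of_coprime hco]
      exact dvd_mul_of_dvd_left (hb.dvd hb1) _
    have hpx : ¬ p ∣ idx (b * y) := fun h => hno _ hdvd p u hp hu hpm hun h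
      (hun.trans ⟨_, (mul_comm _ _).trans (mul_dvd_idx hby hco) |>.symm⟩)
    have hidx : ¬ p ∣ (Subgroup.centralizer ({(⟨y, hyH⟩ : H)} : Set H)).index := by
      intro h
      refine hpx (h.trans ?_)
      have hle : (Subgroup.centralizer ({b * y} : Set G)).subgroupOf H ≤
          Subgroup.centralizer ({(⟨y, hyH⟩ : H)} : Set H) := fun g hg =>
        Subgroup.mem_centralizer_singleton_iff.mpr
          (Subtype.ext (mem_C.mp ((centralizer_mul_le_left hby hco) hg).2))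
      exact (Subgroup.index_dvd_of_le hle).trans ⟨idx b, (mul_dvd_idx hby hco).symm⟩
    obtain ⟨g, hg⟩ := exists_conj_mem_centralizer (P.subtype hPH) (⟨y, hyH⟩ : H) hidx
    refine ⟨g, g.2, Subgroup.mem_centralizer_iff.mpr fun x hx => ?_⟩
    exact congrArg Subtype.val (Subgroup.mem_centralizer_iff.mp hg ⟨x, hPH hx⟩ hx)
  have hNP : H ≤ Subgroup.normalizer ((P : Subgroup G) : Set G) := by
    by_contra hc
    obtain ⟨c, hc'⟩ := exists_forall_conj_notMem
      ((Subgroup.normalizer ((P : Subgroup G) : Set G)).subgroupOf H)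
      (fun h => hc (Subgroup.subgroupOf_eq_top.mp h))
    obtain ⟨s, y, hsy, hcomm, hsz, hyz, hs, hyc⟩ :=
      Cfsg.Agent.Fusion.exists_pPart_mul (p := p) (c : G) (isOfFinOrder_of_finite _)
    have hsH : s ∈ H := (Subgroup.zpowers_le.mpr c.2) hsz
    have hyH : y ∈ H := (Subgroup.zpowers_le.mpr c.2) hyz
    obtain ⟨h, hh, hhy⟩ := hy y hyH hyc
    obtain ⟨k, hk', hks⟩ := conj_into P (L := H ⊓ Subgroup.centralizer ({h * y * h⁻¹} : Set G))
      (fun x hx => ⟨hPH hx, mem_C.mpr (Subgroup.mem_centralizer_iff.mp hhy x hx)⟩)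
      (s := h * s * h⁻¹) ⟨H.mul_mem (H.mul_mem hh hsH) (H.inv_mem hh),
        mem_C.mpr (commute_conj hcomm h).eq⟩ (PEl.conj hs h)
    have hky : k * (h * y * h⁻¹) * k⁻¹ = h * y * h⁻¹ := conj_of_commute (mem_C.mp hk'.2)
    refine hc' (⟨k, hk'.1⟩ * ⟨h, hh⟩) ?_
    have e : k * h * (c : G) * (k * h)⁻¹ = k * (h * s * h⁻¹) * k⁻¹ * (h * y * h⁻¹) :=
      calc k * h * (c : G) * (k * h)⁻¹ = k * (h * s * h⁻¹) * k⁻¹ * (k * (h * y * h⁻¹) * k⁻¹) := by
            rw [hsy]; group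
        _ = _ := by rw [hky]
    show k * h * (c : G) * (k * h)⁻¹ ∈ Subgroup.normalizer ((P : Subgroup G) : Set G)
    rw [e]
    refine mul_mem (Subgroup.le_normalizer hks) ?_
    rw [Subgroup.mem_normalizer_iff]
    intro x
    constructor
    · intro hx
      have := Subgroup.mem_centralizer_iff.mp hhy x hx
      rwa [conj_of_commute this.symm]
    · intro hx
      have h1 := Subgroup.mem_centralizer_iff.mp hhy _ hx
      rw [inv_mul_cancel_right] at h1
      rwa [← mul_left_cancel h1] at hx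
  have hHP : ∀ y ∈ H, PEl p y → y ∈ (P : Subgroup G) := fun y h h' =>
    mem_of_normalizes P h' (hNP h)
  have hHC : ∀ y ∈ H, (orderOf y).Coprime p →
      y ∈ Subgroup.centralizer ((P : Subgroup G) : Set G) := by
    intro y hyH hyc
    obtain ⟨h, hh, hhy⟩ := hy y hyH hyc
    refine Subgroup.mem_centralizer_iff.mpr fun x hx => ?_
    have hx' : h * x * h⁻¹ ∈ (P : Subgroup G) :=
      (Subgroup.mem_normalizer_iff.mp (hNP hh) x).mp hx
    have h1 : Commute (h * x * h⁻¹) (h * y * h⁻¹) := Subgroup.mem_centralizer_iff.mp hhy _ hx'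
    have h2 := commute_conj h1 h⁻¹
    simp only [mul_assoc, inv_inv, inv_mul_cancel_left, inv_mul_cancel, mul_one] at h2
    exact h2.eq
  -- elements with class size divisible by p
  have hA : ∀ w ∈ (P : Subgroup G), p ∣ idx w → ∀ g : G,
      Commute w (g * b * g⁻¹) ∧
        ∃ π ∈ (P : Subgroup G), g * w * g⁻¹ = π * w * π⁻¹ := by
    intro w hw hpw g
    have hwb : Commute w b := Subgroup.mem_centralizer_iff.mp hbP w hw
    have hw1 : w ≠ 1 := by
      rintro rfl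
      rw [idx_eq_one_iff.mpr fun g => by simp] at hpw
      exact hp.not_dvd_one hpw
    have hwp : PEl p w := by
      obtain ⟨k, hk⟩ := P.isPGroup' ⟨w, hw⟩
      exact ⟨k, orderOf_dvd_of_pow_eq_one (by simpa using congrArg Subtype.val hk)⟩
    have hc : (idx w).Coprime (idx b) := Nat.coprime_of_dvd fun t ht h1 h2 =>
      hno w (hwp.dvd hw1) p t hp ht hpm h2 hpw h1
    refine ⟨conj_commute hwb hc g, ?_⟩
    obtain ⟨h, hh, e⟩ := conj_eq hc.symm g
    obtain ⟨s, y, hsy, hcomm, hsz, hyz, hs, hyc⟩ :=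
      Cfsg.Agent.Fusion.exists_pPart_mul (p := p) h (isOfFinOrder_of_finite _)
    have hsP : s ∈ (P : Subgroup G) := hHP s ((Subgroup.zpowers_le.mpr hh) hsz) hs
    have hyC := hHC y ((Subgroup.zpowers_le.mpr hh) hyz) hyc
    refine ⟨s, hsP, ?_⟩
    rw [e, hsy]
    calc s * y * w * (s * y)⁻¹ = s * (y * w * y⁻¹) * s⁻¹ := by group
      _ = s * w * s⁻¹ := by
        rw [conj_of_commute (Subgroup.mem_centralizer_iff.mp hyC w hw).symm]
  have habP : a * b ∈ (P : Subgroup G) := mul_mem haP (hHP b (mem_C.mpr rfl) hb)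
  have hpab : p ∣ idx (a * b) := hkm ▸ hpm
  have hconjP : ∀ w ∈ (P : Subgroup G), p ∣ idx w → ∀ g : G, g * w * g⁻¹ ∈ (P : Subgroup G) := by
    intro w hw hpw g
    obtain ⟨π, hπ, e⟩ := (hA w hw hpw g).2
    rw [e]
    exact mul_mem (mul_mem hπ hw) (inv_mem hπ)
  have hall : ∀ x ∈ (P : Subgroup G), ∀ g₀ : G, Commute x (g₀ * b * g₀⁻¹) := by
    intro x hx g₀
    by_cases hpx : p ∣ idx x
    · exact (hA x hx hpx g₀).1
    obtain ⟨g, hg⟩ := exists_conj_mem_centralizer P x hpx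
    have key : ∀ w ∈ (P : Subgroup G), p ∣ idx w → Commute x (g₀ * w * g₀⁻¹) := by
      intro w hw hpw
      have h1 : Commute (g * g₀ * w * (g * g₀)⁻¹) (g * x * g⁻¹) :=
        Subgroup.mem_centralizer_iff.mp hg _ (hconjP w hw hpw (g * g₀))
      have h2 := commute_conj h1.symm g⁻¹
      simp only [mul_inv_rev, mul_assoc, inv_inv, inv_mul_cancel_left, inv_mul_cancel, mul_one] at h2
      simpa [mul_assoc] using h2
    have h3 := (key a haP hpm).inv_right.mul_right (key (a * b) habP hpab)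
    rwa [show (g₀ * a * g₀⁻¹)⁻¹ * (g₀ * (a * b) * g₀⁻¹) = g₀ * b * g₀⁻¹ by group] at h3
  have hnormal : ∀ g : G, ∀ x ∈ (P : Subgroup G), g * x * g⁻¹ ∈ (P : Subgroup G) := by
    intro g x hx
    refine hHP _ (mem_C.mpr ?_) ?_
    · have h1 := commute_conj (hall x hx g⁻¹) g
      simp only [mul_assoc, inv_inv, mul_inv_cancel_left, mul_inv_cancel, mul_one] at h1
      simpa [mul_assoc] using h1.eq
    · obtain ⟨k, hk⟩ := P.isPGroup' ⟨x, hx⟩
      exact PEl.conj ⟨k, orderOf_dvd_of_pow_eq_one (by simpa using congrArg Subtype.val hk)⟩ g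
  -- every p'-element centralises P
  set D : Subgroup G := ⁅(P : Subgroup G), (P : Subgroup G)⁆ with hDdef
  have hDF : D ≤ (frattini (P : Subgroup G)).map (P : Subgroup G).subtype := by
    haveI : Group.IsNilpotent (P : Subgroup G) := P.isPGroup'.isNilpotent
    rw [hDdef, ← Subgroup.map_subtype_commutator]
    exact Subgroup.map_mono Cfsg.Agent.Core.commutator_le_frattini
  have hDP : ∀ π ∈ (P : Subgroup G), ∀ d ∈ D, π * d * π⁻¹ ∈ D := by
    intro π hπ d hd
    rw [hDdef, ← Subgroup.map_subtype_commutator] at hd ⊢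
    obtain ⟨d', hd', rfl⟩ := hd
    exact ⟨⟨π, hπ⟩ * d' * (⟨π, hπ⟩ : (P : Subgroup G))⁻¹,
      Subgroup.Normal.conj_mem inferInstance d' hd' _, rfl⟩
  have htriv : ∀ g : G, ∀ x ∈ (P : Subgroup G), g * x * g⁻¹ * x⁻¹ ∈ D := by
    have hA' : ∀ g : G, ∀ w ∈ (P : Subgroup G), p ∣ idx w → g * w * g⁻¹ * w⁻¹ ∈ D := by
      intro g w hw hpw
      obtain ⟨π, hπ, e⟩ := (hA w hw hpw g).2
      rw [e]
      simpa [commutatorElement_def] using Subgroup.commutator_mem_commutator hπ hw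
    intro g x hx
    by_cases hpx : p ∣ idx x
    · exact hA' g x hx hpx
    obtain ⟨g1, hg1⟩ := exists_conj_mem_centralizer P x hpx
    have hxC : x ∈ Subgroup.centralizer ((P : Subgroup G) : Set G) := by
      refine Subgroup.mem_centralizer_iff.mpr fun y hy => ?_
      have h1 : Commute (g1 * y * g1⁻¹) (g1 * x * g1⁻¹) :=
        Subgroup.mem_centralizer_iff.mp hg1 _ (hnormal g1 y hy)
      have h2 := commute_conj h1 g1⁻¹
      simp only [mul_assoc, inv_inv, inv_mul_cancel_left, inv_mul_cancel, mul_one] at h2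
      exact h2.eq
    have hax : p ∣ idx (a * x) := by
      by_contra hpax
      obtain ⟨g2, hg2⟩ := exists_conj_mem_centralizer P (a * x) hpax
      have haC : (P : Subgroup G) ≤ Subgroup.centralizer ({a} : Set G) := by
        intro y hy
        have h1 : Commute (g2 * y * g2⁻¹) (g2 * (a * x) * g2⁻¹) :=
          Subgroup.mem_centralizer_iff.mp hg2 _ (hnormal g2 y hy)
        have h2 := commute_conj h1 g2⁻¹
        simp only [mul_assoc, inv_inv, inv_mul_cancel_left, inv_mul_cancel, mul_one] at h2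
        have h3 : Commute y (a * x * x⁻¹) :=
          h2.mul_right (Commute.inv_right (Subgroup.mem_centralizer_iff.mp hxC y hy))
        rw [mul_inv_cancel_right] at h3
        exact mem_C.mpr h3
      exact P.not_dvd_index (hpm.trans (Subgroup.index_dvd_of_le haC))
    have hd1 := hA' g (a * x) (mul_mem haP hx) hax
    have hd2 := hA' g a haP hpm
    have e : g * x * g⁻¹ * x⁻¹ =
        (g * a * g⁻¹ * a⁻¹ * a)⁻¹ * (g * (a * x) * g⁻¹ * (a * x)⁻¹) * a := by group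
    rw [e]
    have : (g * a * g⁻¹ * a⁻¹ * a)⁻¹ * (g * (a * x) * g⁻¹ * (a * x)⁻¹) * a =
        a⁻¹ * ((g * a * g⁻¹ * a⁻¹)⁻¹ * (g * (a * x) * g⁻¹ * (a * x)⁻¹)) * a⁻¹⁻¹ := by group
    rw [this]
    exact hDP _ (inv_mem haP) _ (mul_mem (inv_mem hd2) hd1)
  have hbP' : b ∈ (P : Subgroup G) := hHP b (mem_C.mpr rfl) hb
  refine hn1 (idx_eq_one_iff.mpr fun g => mem_C.mp (?_ : g ∈ H))
  obtain ⟨s, y, hsy, hcomm, -, -, hs, hyc⟩ :=
    Cfsg.Agent.Fusion.exists_pPart_mul (p := p) g (isOfFinOrder_of_finite _)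
  rw [hsy]
  refine mul_mem (hPH (mem_of_normalizes P hs ?_)) ?_
  · rw [Subgroup.mem_normalizer_iff]
    intro x
    refine ⟨hnormal s x, fun hx => ?_⟩
    have := hnormal s⁻¹ _ hx
    simpa [mul_assoc] using this
  · have hyn : Subgroup.zpowers y ≤ Subgroup.normalizer ((P : Subgroup G) : Set G) := by
      intro z _
      rw [Subgroup.mem_normalizer_iff]
      intro x
      refine ⟨hnormal z x, fun hx => ?_⟩
      have := hnormal z⁻¹ _ hx
      simpa [mul_assoc] using this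
    have hcop : (Nat.card (Subgroup.zpowers y)).Coprime (Nat.card (frattini (P : Subgroup G))) := by
      obtain ⟨k, hk⟩ := IsPGroup.iff_card.mp (P.isPGroup'.to_subgroup (frattini (P : Subgroup G)))
      rw [Nat.card_zpowers, hk]
      exact hyc.pow_right k
    have hle := Cfsg.Agent.Coprime.le_centralizer_of_trivial_mod_frattini hyn hcop
      (fun z _ k hk => hDF (htriv z k hk)) (Subgroup.mem_zpowers y)
    exact mem_C.mpr (Subgroup.mem_centralizer_iff.mp hle b hbP').symm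

/-- Class sizes of two non-trivial p-elements are linked by at most one edge. -/
theorem linked [Fact p.Prime] (hZ : ¬ p ∣ Nat.card (Subgroup.center G))
    {a b : G} (ha : PEl p a) (ha1 : a ≠ 1) (hb : PEl p b) (hb1 : b ≠ 1) :
    ∃ (x : G) (t u : ℕ), p ∣ orderOf x ∧ t.Prime ∧ u.Prime ∧ t ∣ idx a ∧ u ∣ idx b ∧ t ∣ idx x ∧ u ∣ idx x := by
  have hp : p.Prime := Fact.out
  have one : ∀ a b : G, PEl p a → a ≠ 1 → PEl p b → b ≠ 1 → ¬ p ∣ idx b →
      ∃ (x : G) (t u : ℕ), p ∣ orderOf x ∧ t.Prime ∧ u.Prime ∧ t ∣ idx a ∧ u ∣ idx b ∧ t ∣ idx x ∧ u ∣ idx x := by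
    intro a b ha ha1 hb hb1 hpn
    by_contra hcon
    push Not at hcon
    obtain ⟨k, hk⟩ := ha
    obtain ⟨j, -, hj⟩ := (Nat.dvd_prime_pow hp).mp hk
    obtain ⟨P, hP⟩ := (IsPGroup.of_card (p := p) (n := j) (G := Subgroup.zpowers a)
      (by rw [Nat.card_zpowers, hj])).exists_le_sylow
    obtain ⟨g, hg⟩ := exists_conj_mem_centralizer P b hpn
    refine not_unlinked hZ P ⟨k, hk⟩ ha1 (hb.conj g) ?_ (hP (Subgroup.mem_zpowers a)) hg
      (by rwa [idx_conj]) fun x hx t u ht hu h1 h2 h3 h4 =>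
        hcon x t u hx ht hu h1 (idx_conj b g ▸ h2) h3 h4
    simpa using hb1
  by_cases hpb : p ∣ idx b
  · by_cases hpa : p ∣ idx a
    · exact ⟨a, p, p, ha.dvd ha1, hp, hp, hpa, hpb, hpa, hpa⟩
    · obtain ⟨x, t, u, hx, ht, hu, h1, h2, h3, h4⟩ := one b a hb hb1 ha ha1 hpa
      exact ⟨x, u, t, hx, hu, ht, h2, h1, h4, h3⟩
  · exact one a b ha ha1 hb hb1 hpb

theorem exists_pPart [Fact p.Prime] {g : G} (hg : p ∣ orderOf g) :
    ∃ a : G, PEl p a ∧ a ≠ 1 ∧ idx a ∣ idx g := by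
  obtain ⟨a, b, hab, -, haz, -, ha, hb⟩ :=
    Cfsg.Agent.Fusion.exists_pPart_mul (p := p) g (isOfFinOrder_of_finite _)
  refine ⟨a, ha, fun h => ?_, idx_dvd_of_mem_zpowers haz⟩
  rw [h, one_mul] at hab
  rw [hab] at hg
  exact (Nat.Prime.coprime_iff_not_dvd Fact.out).mp hb.symm hg

/-- Let `G` be a finite group and `p` a prime not dividing the order of the centre of `G`. Consider the primes dividing the size of some conjugacy class of a `p`-singular element (an element of order divisible by `p`), two of them adjacent when their product divides such a class size. Then any two distinct such primes are joined by a path with at most 3 edges (the graph is connected of diameter at most 3). -/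
theorem result {G : Type*} [Group G] [Finite G] (p : ℕ) [Fact p.Prime]
    (hZ : ¬ p ∣ Nat.card ↥(Subgroup.center G)) (r s : ℕ) (hr : (r.Prime ∧ ∃ x : G, p ∣ orderOf x ∧ r ∣ (Subgroup.centralizer ({x} : Set G)).index)) (hs : (s.Prime ∧ ∃ x : G, p ∣ orderOf x ∧ s ∣ (Subgroup.centralizer ({x} : Set G)).index)) (hrs : r ≠ s) :
    (∃ x : G, p ∣ orderOf x ∧ r * s ∣ (Subgroup.centralizer ({x} : Set G)).index) ∨ (∃ t : ℕ, (t.Prime ∧ ∃ x : G, p ∣ orderOf x ∧ t ∣ (Subgroup.centralizer ({x} : Set G)).index) ∧ t ≠ r ∧ t ≠ s ∧ (∃ x : G, p ∣ orderOf x ∧ r * t ∣ (Subgroup.centralizer ({x} : Set G)).index) ∧ (∃ x : G, p ∣ orderOf x ∧ t * s ∣ (Subgroup.centralizer ({x} : Set G)).index)) ∨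
      (∃ t u : ℕ, (t.Prime ∧ ∃ x : G, p ∣ orderOf x ∧ t ∣ (Subgroup.centralizer ({x} : Set G)).index) ∧ (u.Prime ∧ ∃ x : G, p ∣ orderOf x ∧ u ∣ (Subgroup.centralizer ({x} : Set G)).index) ∧ t ≠ r ∧ u ≠ s ∧ t ≠ u ∧ (∃ x : G, p ∣ orderOf x ∧ r * t ∣ (Subgroup.centralizer ({x} : Set G)).index) ∧ (∃ x : G, p ∣ orderOf x ∧ t * u ∣ (Subgroup.centralizer ({x} : Set G)).index) ∧ (∃ x : G, p ∣ orderOf x ∧ u * s ∣ (Subgroup.centralizer ({x} : Set G)).index)) := by
  obtain ⟨hrp, x1, hx1, hr1⟩ := hr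
  obtain ⟨hsp, x2, hx2, hs2⟩ := hs
  obtain ⟨a, ha, ha1, hax⟩ := exists_pPart hx1
  obtain ⟨b, hb, hb1, hbx⟩ := exists_pPart hx2
  obtain ⟨x3, t, u, hx3, htp, hup, hta, hub, ht3, hu3⟩ := linked hZ ha ha1 hb hb1
  have ht1 : t ∣ idx x1 := hta.trans hax
  have hu2 : u ∣ idx x2 := hub.trans hbx
  have mk : ∀ {x : G} {v w : ℕ}, v.Prime → w.Prime → v ≠ w → p ∣ orderOf x → v ∣ idx x →
      w ∣ idx x → ∃ x : G, p ∣ orderOf x ∧ v * w ∣ (Subgroup.centralizer ({x} : Set G)).index :=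
    fun {x v w} hv hw hne hx h1 h2 =>
      ⟨x, hx, ((Nat.coprime_primes hv hw).mpr hne).mul_dvd_of_dvd_of_dvd h1 h2⟩
  by_cases c1 : s ∣ idx x1
  · exact Or.inl (mk hrp hsp hrs hx1 hr1 c1)
  by_cases c2 : r ∣ idx x2
  · exact Or.inl (mk hrp hsp hrs hx2 c2 hs2)
  by_cases c3 : r ∣ idx x3 ∧ s ∣ idx x3
  · exact Or.inl (mk hrp hsp hrs hx3 c3.1 c3.2)
  have hts : t ≠ s := fun h => c1 (h ▸ ht1)
  have hur : u ≠ r := fun h => c2 (h ▸ hu2)
  by_cases e1 : t = r
  · have hus : u ≠ s := fun h => c3 ⟨e1 ▸ ht3, h ▸ hu3⟩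
    exact Or.inr (Or.inl ⟨u, ⟨hup, x2, hx2, hu2⟩, hur, hus,
      mk hrp hup hur.symm hx3 (e1 ▸ ht3) hu3, mk hup hsp hus hx2 hu2 hs2⟩)
  by_cases e2 : u = s
  · exact Or.inr (Or.inl ⟨t, ⟨htp, x1, hx1, ht1⟩, e1, hts,
      mk hrp htp (Ne.symm e1) hx1 hr1 ht1, mk htp hsp hts hx3 ht3 (e2 ▸ hu3)⟩)
  by_cases e3 : t = u
  · exact Or.inr (Or.inl ⟨t, ⟨htp, x1, hx1, ht1⟩, e1, hts,
      mk hrp htp (Ne.symm e1) hx1 hr1 ht1, mk htp hsp hts hx2 (e3 ▸ hu2) hs2⟩)
  exact Or.inr (Or.inr ⟨t, u, ⟨htp, x1, hx1, ht1⟩, ⟨hup, x2, hx2, hu2⟩, e1, e2, e3,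
    mk hrp htp (Ne.symm e1) hx1 hr1 ht1, mk htp hup e3 hx3 ht3 hu3, mk hup hsp e2 hx2 hu2 hs2⟩)

end Cfsg.Agent.S4321
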