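import Cfsg.Statements.S4323
import Cfsg.Agent.AbCentFpf.Main
import Cfsg.Agent.Coprime.Action
-- import your own Cfsg.Agent.* helpers here

set_option autoImplicit false
open Cfsg

namespace Cfsg.Agent.S4323

/-- Let `q` be a prime and `A` a non-cyclic group of order `q²` acting by automorphisms on a finite group `G` of order prime to `q`, such that the fixed-point subgroup `C_G(a)` is abelian for every non-identity `a ∈ A`. Then `G` is solvable. -/
theorem result {A G : Type*} [Group A] [Finite A]
    [Group G] [Finite G] [MulDistribMulAction A G] (q : ℕ) (hq : q.Prime) (hA : Nat.card A = q ^ 2) (hnc : ¬ IsCyclic A)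
    (hcop : ¬ q ∣ Nat.card G) (h : ∀ a : A, a ≠ 1 → IsMulCommutative ↥(FixedPoints.subgroup (Subgroup.zpowers a) G)) :
    Group.IsSolvable G := by
  have hexp : ∀ a : A, a ^ q = 1 := by
    intro a
    obtain ⟨i, hi, ho⟩ := (Nat.dvd_prime_pow hq).mp (hA ▸ orderOf_dvd_natCard a)
    rcases Nat.lt_or_ge i 2 with hi2 | hi2
    · exact orderOf_dvd_iff_pow_eq_one.mp (ho ▸ (pow_dvd_pow q (Nat.le_of_lt_succ hi2)).trans (pow_one q).dvd)
    · refine absurd (isCyclic_of_orderOf_eq_card a ?_) hnc
      rw [ho, hA, le_antisymm hi hi2]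
  have := Fact.mk hq
  have hcomm : ∀ a b : A, a * b = b * a := IsPGroup.commutative_of_card_eq_prime_sq hA
  let φ : A →* MulAut G := MulDistribMulAction.toMulAut A G
  have := Coprime.finite_semidirect φ
  have hinl : Function.Injective (SemidirectProduct.inl : G →* G ⋊[φ] A) :=
    SemidirectProduct.inl_injective
  have hfix : ∀ (a : A) (g : G), Commute (SemidirectProduct.inl g : G ⋊[φ] A) (SemidirectProduct.inr a) →
      a • g = g := by
    intro a g hc
    apply hinl
    change SemidirectProduct.inl (φ a g) = _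
    rw [← Coprime.inr_conj_inl φ a g, ← hc.eq, mul_inv_cancel_right]
  have S : AbCentFpf.Base q (Coprime.inA φ) (Coprime.inG φ) := by
    refine ⟨hq, by rw [Coprime.card_inA, hA], ?_, ?_, Coprime.inA_le_normalizer_inG φ,
      by rw [Coprime.card_inG]; exact hcop, ?_⟩
    · rintro _ ⟨a, rfl⟩; rw [← map_pow, hexp, map_one]
    · rintro _ ⟨a, rfl⟩ _ ⟨b, rfl⟩; exact (show Commute a b from hcomm a b).map _
    · rintro _ ⟨a, rfl⟩ ha _ ⟨x, rfl⟩ _ ⟨y, rfl⟩ hxa hya
      have ha1 : a ≠ 1 := fun h0 => ha (by rw [h0, map_one])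
      have hm : ∀ g : G, a • g = g → g ∈ FixedPoints.subgroup (Subgroup.zpowers a) G := by
        intro g hg b
        have hle : Subgroup.zpowers a ≤ MulAction.stabilizer A g :=
          Subgroup.zpowers_le.mpr (MulAction.mem_stabilizer_iff.mpr hg)
        exact MulAction.mem_stabilizer_iff.mp (hle b.2)
      have := h a ha1
      have hxy := IsMulCommutative.is_comm.comm
        (⟨x, hm x (hfix a x hxa)⟩ : FixedPoints.subgroup (Subgroup.zpowers a) G)
        ⟨y, hm y (hfix a y hya)⟩
      exact (show Commute x y from congrArg Subtype.val hxy).map _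
  have := S.isSolvable
  exact Group.isSolvable_of_isSolvable_injective
    (f := (SemidirectProduct.inl : G →* G ⋊[φ] A).rangeRestrict)
    ((MonoidHom.rangeRestrict_injective_iff).mpr hinl)

end Cfsg.Agent.S4323
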