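import Cfsg.Statements.S4325
import Mathlib


set_option autoImplicit false
open Cfsg

namespace Cfsg.Agent.S4325

/-- Let r be a prime and m a natural number with m + 1 < r, and let π be a set of primes containing every prime below r but not r itself. Then in the symmetric group of degree r any m transpositions generate a π-subgroup, while O_π of the symmetric group is trivial. (So no bound on the number of conjugates that works for all π exists in the π-radical analogue of the Baer–Suzuki Theorem.) -/
theorem result (r m : ℕ) (hr : r.Prime)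
    (hm : m + 1 < r) (π : Set ℕ) (hπ : ∀ q : ℕ, q.Prime → q < r → q ∈ π) (hrπ : r ∉ π)
    (t : Fin m → Equiv.Perm (Fin r)) (ht : ∀ i, (t i).IsSwap) :
    Cfsg.IsPiSubgroup π (Subgroup.closure (Set.range t)) ∧ Cfsg.piCore π (Equiv.Perm (Fin r)) = ⊥ := by
  have hlab : ∀ l : List (Equiv.Perm (Fin r)), (∀ s ∈ l, s.IsSwap) →
      ∃ f : Fin r → Fin r, (∀ s ∈ l, ∀ z, f (s z) = f z) ∧
        r ≤ (Finset.univ.image f).card + l.length := by
    intro l
    induction l with
    | nil => intro _; exact ⟨id, by simp, by simp⟩
    | cons s l ih =>
      intro hl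
      obtain ⟨f, hf, hcard⟩ := ih fun u hu => hl u (List.mem_cons_of_mem _ hu)
      obtain ⟨a, b, hab, rfl⟩ := hl s (List.mem_cons_self ..)
      refine ⟨fun z => if f z = f a then f b else f z, ?_, ?_⟩
      · intro u hu z
        rcases List.mem_cons.mp hu with rfl | hu
        · show (if f (Equiv.swap a b z) = f a then f b else f (Equiv.swap a b z)) = _
          rcases eq_or_ne z a with rfl | hza
          · rw [Equiv.swap_apply_left]; simp
          rcases eq_or_ne z b with rfl | hzb
          · rw [Equiv.swap_apply_right]; simp
          rw [Equiv.swap_apply_of_ne_of_ne hza hzb]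
        · show (if f (u z) = f a then f b else f (u z)) = _
          rw [hf u hu z]
      · have hsub : (Finset.univ.image f).erase (f a) ⊆
            Finset.univ.image (fun z => if f z = f a then f b else f z) := by
          intro y hy
          obtain ⟨hne, hy⟩ := Finset.mem_erase.mp hy
          obtain ⟨z, -, rfl⟩ := Finset.mem_image.mp hy
          exact Finset.mem_image.mpr ⟨z, Finset.mem_univ z, if_neg hne⟩
        have := Finset.card_le_card hsub
        rw [Finset.card_erase_of_mem (Finset.mem_image_of_mem f (Finset.mem_univ a))] at this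
        simp only [List.length_cons]
        omega
  have := Fact.mk hr
  have hcardS : Nat.card (Equiv.Perm (Fin r)) = r.factorial := by
    rw [Nat.card_perm, Nat.card_fin]
  have hin : ∀ q : ℕ, q.Prime → q ∣ r.factorial → q ≠ r → q ∈ π := fun q hq hd hne =>
    hπ q hq (lt_of_le_of_ne (hq.dvd_factorial.mp hd) hne)
  constructor
  · intro q hq hd
    by_cases hqr : q = r
    · exfalso
      subst hqr
      obtain ⟨f, hf, hcard⟩ := hlab (List.ofFn t) (by simp [List.mem_ofFn, ht])
      rw [List.length_ofFn] at hcard
      obtain ⟨⟨c, hc⟩, hco⟩ := exists_prime_orderOf_dvd_card' q hd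
      have hinv : ∀ z, f (c z) = f z := by
        refine Subgroup.closure_induction (p := fun c _ => ∀ z, f (c z) = f z) ?_ ?_ ?_ ?_ hc
        · rintro _ ⟨i, rfl⟩
          exact hf _ (List.mem_ofFn.mpr ⟨i, rfl⟩)
        · exact fun z => rfl
        · exact fun a b _ _ ha hb z => by rw [Equiv.Perm.mul_apply, ha, hb]
        · exact fun a _ ha z => by
            have := ha (a⁻¹ z)
            rw [show a (a⁻¹ z) = z from Equiv.apply_symm_apply a z] at this
            exact this.symm
      rw [Subgroup.orderOf_mk] at hco
      have hcyc : c.IsCycle := Equiv.Perm.isCycle_of_prime_order'' (by rw [Fintype.card_fin]; exact hr)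
        (by rw [hco, Fintype.card_fin])
      have hsupp : c.support = Finset.univ := Finset.card_eq_iff_eq_univ _ |>.mp (by
        rw [← hcyc.orderOf, hco, Fintype.card_fin])
      have hone : (Finset.univ.image f).card ≤ 1 := by
        rw [Finset.card_le_one]
        intro y hy y' hy'
        obtain ⟨z, -, rfl⟩ := Finset.mem_image.mp hy
        obtain ⟨z', -, rfl⟩ := Finset.mem_image.mp hy'
        obtain ⟨i, hi⟩ := hcyc.exists_pow_eq (Equiv.Perm.mem_support.mp (hsupp ▸ Finset.mem_univ z))
          (Equiv.Perm.mem_support.mp (hsupp ▸ Finset.mem_univ z'))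
        rw [← hi]
        clear hi
        induction i with
        | zero => rfl
        | succ i ih => rw [pow_succ', Equiv.Perm.mul_apply, hinv, ← ih]
      omega
    · exact hin q hq (hcardS ▸ hd.trans (Subgroup.card_subgroup_dvd_card _)) hqr
  · rw [Cfsg.piCore, sSup_eq_bot]
    rintro N ⟨hN, hNπ⟩
    by_contra hNb
    have hprimr : MulAction.IsPreprimitive (Equiv.Perm (Fin r)) (Fin r) :=
      MulAction.IsPreprimitive.of_prime_card (by rw [Nat.card_fin]; exact hr)
    have hne : MulAction.fixedPoints N (Fin r) ≠ .univ := by
      intro h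
      apply hNb
      rw [eq_bot_iff]
      intro n hn
      rw [Subgroup.mem_bot]
      refine Equiv.Perm.ext fun y => ?_
      have hy : y ∈ MulAction.fixedPoints N (Fin r) := h ▸ Set.mem_univ y
      exact hy ⟨n, hn⟩
    have htr : MulAction.IsPretransitive N (Fin r) :=
      MulAction.IsQuasiPreprimitive.isPretransitive_of_normal hne
    refine hrπ (hNπ r hr ?_)
    have h1 := MulAction.index_stabilizer_of_transitive N (⟨0, hr.pos⟩ : Fin r)
    rw [Nat.card_fin] at h1
    exact (dvd_of_eq h1.symm).trans (Subgroup.index_dvd_card _)

end Cfsg.Agent.S4325
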