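import Cfsg.Statements.S4326
import Mathlib


set_option autoImplicit false
open Pointwise
open Cfsg

namespace Cfsg.Agent.S4326

/-- Let G be a finite group, p a prime, x an automorphism of G of p-power order and M the subgroup of fixed points of x. Suppose that p divides the index of M and that either M is self-normalizing or M has trivial center. Then some conjugate of M is mapped onto itself by x but is not fixed elementwise by x. -/
theorem result {G : Type*} [Group G] [Finite G]
    (p : ℕ) [Fact p.Prime] (x : MulAut G) (hx : ∃ k : ℕ, orderOf x = p ^ k) (M : Subgroup G)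
    (hM : ∀ g : G, g ∈ M ↔ x g = g) (hp : p ∣ M.index)
    (hself : Subgroup.normalizer (M : Set G) = M ∨ Subgroup.center M = ⊥) :
    ∃ g : G, (∀ y ∈ MulAut.conj g • M, x y ∈ MulAut.conj g • M) ∧ ∃ y ∈ MulAut.conj g • M, x y ≠ y := by
  obtain ⟨k, hk⟩ := hx
  set Z := Subgroup.zpowers x with hZ
  have hZp : IsPGroup p Z := IsPGroup.of_card (by rw [Nat.card_zpowers, hk])
  have hinv : ∀ z ∈ Z, ∀ m ∈ M, (z : MulAut G) m = m := by
    intro z hz m hm
    obtain ⟨i, rfl⟩ := Subgroup.mem_zpowers_iff.mp hz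
    have hs : x ∈ MulAction.stabilizer (MulAut G) m := MulAction.mem_stabilizer_iff.mpr ((hM m).mp hm)
    exact MulAction.mem_stabilizer_iff.mp (Subgroup.zpow_mem _ hs i)
  letI : MulAction Z (G ⧸ M) :=
    { smul := fun z q => Quotient.map' (fun g => (z : MulAut G) g) (fun a b h => by
        rw [QuotientGroup.leftRel_apply] at h ⊢
        have := hinv z z.2 _ h
        simp only [map_mul, map_inv] at this
        rw [this]; exact h) q
      one_smul := fun q => QuotientGroup.induction_on q fun g => rfl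
      mul_smul := fun a b q => QuotientGroup.induction_on q fun g => rfl }
  have hmod := hZp.card_modEq_card_fixedPoints (G ⧸ M)
  rw [← Subgroup.index_eq_card] at hmod
  have h1 : p ∣ Nat.card (MulAction.fixedPoints Z (G ⧸ M)) :=
    (Nat.modEq_zero_iff_dvd).mp ((hmod.symm).trans (Nat.modEq_zero_iff_dvd.mpr hp))
  have hbase : ((1 : G) : G ⧸ M) ∈ MulAction.fixedPoints Z (G ⧸ M) := fun z => by
    show (((z : MulAut G) 1 : G) : G ⧸ M) = _
    rw [map_one]
  have : Nontrivial (MulAction.fixedPoints Z (G ⧸ M)) := by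
    rw [← Finite.one_lt_card_iff_nontrivial]
    have hpos : 0 < Nat.card (MulAction.fixedPoints Z (G ⧸ M)) := by
      have : Nonempty (MulAction.fixedPoints Z (G ⧸ M)) := ⟨⟨_, hbase⟩⟩
      exact Nat.card_pos
    exact lt_of_lt_of_le (Fact.out : p.Prime).one_lt (Nat.le_of_dvd hpos h1)
  obtain ⟨⟨q, hq⟩, hne⟩ := exists_ne (⟨_, hbase⟩ : MulAction.fixedPoints Z (G ⧸ M))
  obtain ⟨g, rfl⟩ := QuotientGroup.mk_surjective q
  have hgM : g ∉ M := fun hg => hne (Subtype.ext (QuotientGroup.eq.mpr (by simpa using hg)))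
  have hm0 : g⁻¹ * x g ∈ M := QuotientGroup.eq.mp
    (show ((g : G) : G ⧸ M) = ((x g : G) : G ⧸ M) from (hq ⟨x, Subgroup.mem_zpowers x⟩).symm)
  set m₀ := g⁻¹ * x g with hm₀
  have key : ∀ y ∈ M, x (g * y * g⁻¹) = g * (m₀ * y * m₀⁻¹) * g⁻¹ := fun y hy => by
    rw [map_mul, map_mul, (hM y).mp hy, map_inv, hm₀]; group
  have hmem : ∀ y, y ∈ MulAut.conj g • M ↔ g⁻¹ * y * g ∈ M := fun y => by
    rw [Subgroup.mem_pointwise_smul_iff_inv_smul_mem]; simp
  refine ⟨g, fun y hy => ?_, ?_⟩
  · rw [hmem] at hy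
    have h2 := key _ hy
    rw [show g * (g⁻¹ * y * g) * g⁻¹ = y by group] at h2
    rw [hmem, h2]
    have : g⁻¹ * (g * (m₀ * (g⁻¹ * y * g) * m₀⁻¹) * g⁻¹) * g = m₀ * (g⁻¹ * y * g) * m₀⁻¹ := by group
    rw [this]
    exact M.mul_mem (M.mul_mem hm0 hy) (M.inv_mem hm0)
  by_contra hc
  push Not at hc
  have hfixed : ∀ y ∈ M, g * y * g⁻¹ ∈ M := fun y hy =>
    (hM _).mpr (hc _ ((hmem _).mpr (by simpa [mul_assoc] using hy)))
  rcases hself with h | h
  · apply hgM
    rw [← h]
    exact Subgroup.mem_normalizer_fintype hfixed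
  · apply hgM
    have hcen : (⟨m₀, hm0⟩ : M) ∈ Subgroup.center M := Subgroup.mem_center_iff.mpr fun y => by
      have h2 := key y y.2
      rw [(hM _).mp (hfixed y y.2)] at h2
      have h3 := mul_left_cancel (mul_right_cancel h2)
      refine Subtype.ext ?_
      show (y : G) * m₀ = m₀ * y
      calc (y : G) * m₀ = m₀ * y * m₀⁻¹ * m₀ := by rw [← h3]
        _ = m₀ * y := by group
    rw [h, Subgroup.mem_bot] at hcen
    have : m₀ = 1 := congrArg Subtype.val hcen
    rw [hm₀, inv_mul_eq_one] at this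
    exact (hM g).mpr this.symm

end Cfsg.Agent.S4326
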