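import Cfsg.Statements.S4330
import Cfsg.Agent.WielandtOdd.Main
import Cfsg.Agent.Core.PCore
import Cfsg.Agent.Core.MinimalNormal
import Cfsg.Agent.Layer.Subnormal

set_option autoImplicit false
open Pointwise
open Cfsg

namespace Cfsg.Agent.S4330

open Subgroup
open scoped Pointwise

universe u

/-- The induction over the order of the group. -/
theorem main (p : ℕ) [Fact p.Prime] (hp : p ≠ 2) : ∀ (n : ℕ) (G : Type u) [Group G] [Finite G],
    Nat.card G = n → Group.IsSolvable G → ∀ A : Subgroup G, IsPGroup p A →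
    (∀ c : G, ∃ g : G, IsConj c g ∧ (A.subgroupOf (A ⊔ MulAut.conj g • A)).IsSubnormal) →
    A ≤ Cfsg.pCore p G := by
  intro n
  induction n using Nat.strong_induction_on with
  | _ n ih =>
  intro G _ _ hn hG A hA h
  classical
  rcases subsingleton_or_nontrivial G with hsub | hnt
  · intro x _; rw [Subsingleton.elim x 1]; exact one_mem _
  obtain ⟨U, hU⟩ := Core.exists_isMinNormal (G := G)
  have := hU.normal
  have hUc : IsMulCommutative U := hU.isMulCommutative
  obtain ⟨q, hq, hUq, -⟩ := hU.exists_isPGroup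
  have hqf : Fact q.Prime := ⟨hq⟩
  set π := QuotientGroup.mk' U with hπ
  have hπs : Function.Surjective π := QuotientGroup.mk'_surjective U
  -- the quotient
  have hlt : Nat.card (G ⧸ U) < n := by
    rw [← hn, U.card_eq_card_quotient_mul_card_subgroup]
    exact lt_mul_of_one_lt_right Nat.card_pos (U.one_lt_card_iff_ne_bot.mpr hU.ne_bot)
  have hAπ : A.map π ≤ Cfsg.pCore p (G ⧸ U) := by
    refine ih _ hlt (G ⧸ U) rfl inferInstance _ (hA.map _) fun c => ?_
    obtain ⟨c, rfl⟩ := hπs c
    obtain ⟨g, hcg, hg⟩ := h c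
    refine ⟨π g, π.map_isConj hcg, ?_⟩
    have hmap : (A ⊔ MulAut.conj g • A).map π = A.map π ⊔ MulAut.conj (π g) • A.map π := by
      rw [Subgroup.map_sup]
      congr 1
      change (A.map (MulAut.conj g).toMonoidHom).map π = (A.map π).map (MulAut.conj (π g)).toMonoidHom
      rw [Subgroup.map_map, Subgroup.map_map]
      congr 1
    set J := A ⊔ MulAut.conj g • A with hJ
    rw [← hmap]
    have hm := Subgroup.IsSubnormal.map (f := π.subgroupMap J) (π.subgroupMap_surjective J) hg
    have e : (A.subgroupOf J).map (π.subgroupMap J) = (A.map π).subgroupOf (J.map π) := by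
      ext ⟨y, hy⟩
      simp only [mem_subgroupOf, mem_map]
      constructor
      · rintro ⟨x, hx, hxy⟩
        exact ⟨x, hx, congrArg Subtype.val hxy⟩
      · rintro ⟨x, hx, rfl⟩
        exact ⟨⟨x, le_sup_left (a := A) hx⟩, hx, rfl⟩
    rwa [e] at hm
  have hPn : ((Cfsg.pCore p (G ⧸ U)).comap π).Normal := inferInstance
  have hAP : A ≤ (Cfsg.pCore p (G ⧸ U)).comap π := map_le_iff_le_comap.mp hAπ
  by_cases hqp : q = p
  · subst hqp
    refine hAP.trans (Core.le_pCore ?_)
    exact Core.pCore_isPGroup.comap_of_ker_isPGroup π (by rw [hπ, QuotientGroup.ker_mk']; exact hUq)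
  set C := centralizer (U : Set G) with hC
  have hUC : U ≤ C := fun x hx => mem_centralizer_iff.mpr fun y hy =>
    congrArg Subtype.val (hUc.is_comm.comm ⟨y, hy⟩ ⟨x, hx⟩)
  have hCn : C.Normal := by rw [hC]; infer_instance
  by_cases hAC : A ≤ C
  · -- `A` centralises `U`
    set P1 := (Cfsg.pCore p (G ⧸ U)).comap π ⊓ C with hP1
    have hP1n : P1.Normal := Subgroup.normal_inf_normal _ _
    let f : ↥P1 →* ↥(Cfsg.pCore p (G ⧸ U)) :=
      (π.comp P1.subtype).codRestrict _ fun x => x.2.1
    have hker : f.ker ≤ center ↥P1 := by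
      intro x hx
      have hxU : (x : G) ∈ U := (QuotientGroup.eq_one_iff (x : G)).mp
        (congrArg Subtype.val (MonoidHom.mem_ker.mp hx))
      exact mem_center_iff.mpr fun y => Subtype.ext
        ((mem_centralizer_iff.mp y.2.2) (x : G) hxU).symm
    have : Group.IsNilpotent ↥(Cfsg.pCore p (G ⧸ U)) :=
      (Core.pCore_isPGroup (p := p) (G := G ⧸ U)).isNilpotent
    have : Group.IsNilpotent ↥P1 := Subgroup.isNilpotent_of_ker_le_center f hker
    have hAP1 : A ≤ P1 := le_inf hAP hAC
    obtain ⟨S, hS⟩ := (hA.comap_subtype (K := P1)).exists_le_sylow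
    have hSn : (S : Subgroup ↥P1).Normal := inferInstance
    have := Sylow.characteristic_of_normal S hSn
    refine le_trans ?_ (Core.le_pCore (N := (S : Subgroup ↥P1).map P1.subtype) (S.2.map _))
    intro x hx
    exact ⟨⟨x, hAP1 hx⟩, hS hx, rfl⟩
  exfalso
  obtain ⟨a0, ha0A, ha0C⟩ := SetLike.not_le_iff_exists.mp hAC
  obtain ⟨a, haA, haC, hapC⟩ : ∃ a ∈ A, a ∉ C ∧ a ^ p ∈ C := by
    obtain ⟨k, hk⟩ := hA ⟨a0, ha0A⟩
    have hk' : a0 ^ p ^ k ∈ C := by
      have : a0 ^ p ^ k = 1 := by simpa using congrArg Subtype.val hk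
      rw [this]; exact one_mem _
    clear hk
    induction k generalizing a0 with
    | zero => rw [pow_zero, pow_one] at hk'; exact absurd hk' ha0C
    | succ k ihk =>
      by_cases h1 : a0 ^ p ∈ C
      · exact ⟨a0, ha0A, ha0C, h1⟩
      · exact ihk (a0 ^ p) (A.pow_mem ha0A p) h1 (by rw [← pow_mul, ← pow_succ']; exact hk')
  -- the module
  let f0 : G →* MulAut ↥U := MulAut.conjNormal
  have hker : U ≤ f0.ker := fun x hx => MonoidHom.mem_ker.mpr (MulEquiv.ext fun y => Subtype.ext (by
    rw [show ((f0 x) y : G) = x * y * x⁻¹ from MulAut.conjNormal_apply x y, MulAut.one_apply,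
      ← mem_centralizer_iff.mp (hUC hx) y y.2, mul_inv_cancel_right]))
  let f : G ⧸ U →* MulAut ↥U := QuotientGroup.lift U f0 hker
  have hf : ∀ x : G, f (π x) = MulAut.conjNormal x := fun _ => rfl
  let _ : CommGroup ↥U := { (inferInstance : Group ↥U) with mul_comm := hUc.is_comm.comm }
  let act : DistribMulAction (G ⧸ U) (Additive ↥U) :=
    { smul := fun x v => Additive.ofMul (f x (Additive.toMul v))
      one_smul := fun v => by
        change Additive.ofMul (f 1 (Additive.toMul v)) = v
        rw [map_one]; rfl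
      mul_smul := fun x y v => by
        change Additive.ofMul (f (x * y) (Additive.toMul v)) = _
        rw [map_mul]; rfl
      smul_zero := fun x => by
        change Additive.ofMul (f x 1) = 0
        rw [map_one]; rfl
      smul_add := fun x u v => by
        change Additive.ofMul (f x (Additive.toMul u * Additive.toMul v)) = _
        rw [map_mul]; rfl }
  have hsmul : ∀ (x : G) (v : Additive ↥U),
      ((Additive.toMul (π x • v) : ↥U) : G) = x * (Additive.toMul v : ↥U) * x⁻¹ := fun x v => by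
    change ((f (π x) (Additive.toMul v) : ↥U) : G) = _
    rw [hf]; exact MulAut.conjNormal_apply x _
  have hirr : WielandtOdd.Irr (G ⧸ U) (Additive ↥U) := by
    intro W hW
    let W' : Subgroup G := (AddSubgroup.toSubgroup' W).map U.subtype
    have hW'n : W'.Normal := by
      refine ⟨?_⟩
      rintro _ ⟨w, hw, rfl⟩ x
      exact ⟨Additive.toMul (π x • Additive.ofMul w), hW (π x) _ hw, hsmul x _⟩
    rcases hU.eq_of_le W' hW'n (map_subtype_le _) with h' | h'
    · left
      rw [AddSubgroup.eq_bot_iff_forall]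
      intro w hw
      have : ((Additive.toMul w : ↥U) : G) ∈ W' := mem_map_of_mem U.subtype (K := AddSubgroup.toSubgroup' W) hw
      rw [h', mem_bot] at this
      exact congrArg Additive.ofMul (Subtype.ext this : (Additive.toMul w : ↥U) = 1)
    · right
      rw [AddSubgroup.eq_top_iff']
      intro v
      have : ((Additive.toMul v : ↥U) : G) ∈ W' := by rw [h']; exact (Additive.toMul v : ↥U).2
      obtain ⟨w, hw, he⟩ := this
      rw [show w = (Additive.toMul v : ↥U) from Subtype.ext he] at hw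
      exact hw
  have hcop : p.Coprime (Nat.card (Additive ↥U)) := by
    obtain ⟨k, hk⟩ := IsPGroup.iff_card.mp hUq
    rw [Nat.card_congr (Additive.toMul (α := ↥U)), hk]
    exact ((Nat.coprime_primes Fact.out hq).mpr (Ne.symm hqp)).pow_right k
  obtain ⟨v, hv⟩ := WielandtOdd.exists_vector hp _ (G ⧸ U) (Additive ↥U) rfl hcop hirr
    (Cfsg.pCore p (G ⧸ U)) inferInstance Core.pCore_isPGroup (π a) (hAπ (mem_map_of_mem π haA))
    (fun w => by
      apply Additive.toMul.injective
      apply Subtype.ext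
      rw [← map_pow, hsmul, ← mem_centralizer_iff.mp hapC _ (Additive.toMul w : ↥U).2,
        mul_inv_cancel_right])
    (by
      by_contra hcon
      push Not at hcon
      refine haC (mem_centralizer_iff.mpr fun y hy => ?_)
      have e := congrArg (fun w : Additive ↥U => ((Additive.toMul w : ↥U) : G))
        (hcon (Additive.ofMul ⟨y, hy⟩))
      beta_reduce at e
      rw [hsmul] at e
      exact ((mul_inv_eq_iff_eq_mul.mp e).symm : y * a = a * y))
  set c : G := ((Additive.toMul v : ↥U) : G) with hc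
  obtain ⟨g, hcg, hg⟩ := h c
  obtain ⟨x, hx⟩ := isConj_iff.mp hcg
  have hgU : g ∈ U := hx ▸ (inferInstance : U.Normal).conj_mem c (Additive.toMul v : ↥U).2 x
  set J := A ⊔ MulAut.conj g • A with hJ
  have haJ : a ∈ J := le_sup_left (a := A) haA
  set w := a * g * a⁻¹ * g⁻¹ with hw
  have hwJ : w ∈ J := by
    have e : w = a * (g * a⁻¹ * g⁻¹) := by rw [hw]; group
    rw [e]
    exact mul_mem haJ (le_sup_right (a := A) ⟨a⁻¹, A.inv_mem haA, rfl⟩)
  have hwU : w ∈ U := mul_mem ((inferInstance : U.Normal).conj_mem g hgU a) (U.inv_mem hgU)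
  have hca : a * w = w * a := by
    have h1 : A.subgroupOf J ≤ Cfsg.pCore p ↥J :=
      Layer.subnormal_le_pCore hg hA.comap_subtype
    have h2 : Disjoint (Cfsg.pCore p ↥J) (U.subgroupOf J) :=
      IsPGroup.disjoint_of_ne p q (Ne.symm hqp) _ _ Core.pCore_isPGroup hUq.comap_subtype
    exact congrArg Subtype.val (Subgroup.commute_of_normal_of_disjoint _ _ inferInstance
      inferInstance h2 ⟨a, haJ⟩ ⟨w, hwJ⟩ (h1 (show (⟨a, haJ⟩ : ↥J) ∈ A.subgroupOf J from haA)) hwU).eq
  have hiter : ∀ k : ℕ, a ^ k * g * (a ^ k)⁻¹ = w ^ k * g := by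
    intro k
    induction k with
    | zero => simp
    | succ j ihj =>
      calc a ^ (j + 1) * g * (a ^ (j + 1))⁻¹ = a * (a ^ j * g * (a ^ j)⁻¹) * a⁻¹ := by
            rw [pow_succ']; group
        _ = a * w ^ j * g * a⁻¹ := by rw [ihj]; group
        _ = w ^ j * (a * g * a⁻¹) := by rw [((show Commute a w from hca).pow_right j).eq]; group
        _ = w ^ (j + 1) * g := by rw [pow_succ, hw]; group
  have hw1 : w = 1 := by
    obtain ⟨k, hk⟩ := hA ⟨a, haA⟩
    have hk' : a ^ p ^ k = 1 := by simpa using congrArg Subtype.val hk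
    obtain ⟨l, hl⟩ := hUq ⟨w, hwU⟩
    have hl' : w ^ q ^ l = 1 := by simpa using congrArg Subtype.val hl
    have h1 := hiter (p ^ k)
    rw [hk', one_mul, inv_one, mul_one] at h1
    have h2 : w ^ p ^ k = 1 := mul_right_cancel (h1.symm.trans (one_mul g).symm)
    exact orderOf_eq_one_iff.mp (Nat.eq_one_of_dvd_coprimes
      (((Nat.coprime_primes Fact.out hq).mpr (Ne.symm hqp)).pow k l)
      (orderOf_dvd_of_pow_eq_one h2) (orderOf_dvd_of_pow_eq_one hl'))
  refine hv (π x⁻¹) ?_
  rw [← map_inv, ← map_mul, ← map_mul]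
  apply Additive.toMul.injective
  apply Subtype.ext
  rw [hsmul]
  change x⁻¹ * a * x⁻¹⁻¹ * c * (x⁻¹ * a * x⁻¹⁻¹)⁻¹ = c
  have hag : a * g * a⁻¹ = g := by rw [← mul_inv_eq_one]; exact hw1
  calc x⁻¹ * a * x⁻¹⁻¹ * c * (x⁻¹ * a * x⁻¹⁻¹)⁻¹ = x⁻¹ * (a * (x * c * x⁻¹) * a⁻¹) * x := by group
    _ = x⁻¹ * g * x := by rw [hx, hag]
    _ = c := by rw [← hx]; group

/-- Let G be a finite solvable group, p an odd prime and A a p-subgroup of G such that every conjugacy class of G contains an element g for which A is subnormal in the subgroup generated by A and its conjugate by g. Then A is contained in O_p(G). (The hypothesis that p is odd is needed.) -/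
theorem result {G : Type*} [Group G] [Finite G]
    (hG : Group.IsSolvable G) (p : ℕ) [Fact p.Prime] (hp : p ≠ 2) (A : Subgroup G) (hA : IsPGroup p A)
    (h : ∀ c : G, ∃ g : G, IsConj c g ∧ (A.subgroupOf (A ⊔ MulAut.conj g • A)).IsSubnormal) :
    A ≤ Cfsg.pCore p G := by
  exact main p hp _ G rfl hG A hA h

end Cfsg.Agent.S4330
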