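import Cfsg.Statements.S4331
import Cfsg.Agent.FiniteChecks.Subnormal
import Cfsg.Agent.Core.PCore
-- import your own Cfsg.Agent.* helpers here

set_option autoImplicit false
open Cfsg

namespace Cfsg.Agent.S4331

/-- The semidihedral group of order 16, as `C₈ ⋊ C₂` with `σ w σ⁻¹ = w³`. -/
structure SD where
  r : ZMod 8
  s : ZMod 2
deriving DecidableEq, Fintype

namespace SD

instance : Mul SD := ⟨fun x y => ⟨x.r + 3 ^ x.s.val * y.r, x.s + y.s⟩⟩
instance : One SD := ⟨⟨0, 0⟩⟩
instance : Inv SD := ⟨fun x => ⟨-(3 ^ x.s.val * x.r), x.s⟩⟩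

instance : Group SD :=
  Group.ofLeftAxioms (by decide +kernel) (by decide +kernel) (by decide +kernel)

/-- The element `σ`. -/
def sigma : SD := ⟨0, 1⟩

/-- Multiplication by `w` on the field with nine elements, `w² = w + 1`. -/
def mulW (v : ZMod 3 × ZMod 3) : ZMod 3 × ZMod 3 := (v.2, v.1 + v.2)

/-- The Frobenius automorphism of the field with nine elements. -/
def frob (v : ZMod 3 × ZMod 3) : ZMod 3 × ZMod 3 := (v.1 + v.2, 2 * v.2)

/-- The semilinear action on the field with nine elements. -/
def act (x : SD) (v : ZMod 3 × ZMod 3) : ZMod 3 × ZMod 3 := mulW^[x.r.val] (frob^[x.s.val] v)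

theorem act_one : ∀ v, act 1 v = v := by decide +kernel

theorem act_mul : ∀ x y : SD, ∀ v, act (x * y) v = act x (act y v) := by decide +kernel

theorem act_add : ∀ x : SD, ∀ v w, act x (v + w) = act x v + act x w := by decide +kernel

/-- The action as a homomorphism. -/
def phi : SD →* MulAut (Multiplicative (ZMod 3 × ZMod 3)) where
  toFun x := AddEquiv.toMultiplicative
    { toFun := act x
      invFun := act x⁻¹
      left_inv := fun v => by rw [← act_mul, inv_mul_cancel, act_one]
      right_inv := fun v => by rw [← act_mul, mul_inv_cancel, act_one]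
      map_add' := act_add x }
  map_one' := MulEquiv.ext fun v => congrArg Multiplicative.ofAdd (act_one _)
  map_mul' x y := MulEquiv.ext fun v => congrArg Multiplicative.ofAdd (act_mul x y _)

/-- Every element has a conjugate fixing the origin or commuting with `σ`. -/
theorem conj_check : ∀ v : ZMod 3 × ZMod 3, ∀ h : SD, ∃ w : ZMod 3 × ZMod 3, ∃ k : SD,
    w + act k v - act (k * h * k⁻¹) w = 0 ∨
      (act sigma (w + act k v - act (k * h * k⁻¹) w) = w + act k v - act (k * h * k⁻¹) w ∧
        sigma * (k * h * k⁻¹) = k * h * k⁻¹ * sigma) := by decide +kernel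

end SD

open SemidirectProduct in
/-- The affine semilinear group of the field with nine elements. -/
abbrev AffSL := Multiplicative (ZMod 3 × ZMod 3) ⋊[SD.phi] SD


/-- There is a finite solvable group G with a subgroup A of order 2 such that every conjugacy class of G contains an element g for which A is subnormal in the subgroup generated by A and g, and yet A is not contained in O_2(G). (So the corresponding criteria for odd primes fail at the prime 2, even for solvable groups.) -/
theorem result :
    ∃ (G : Type) (_ : Group G) (_ : Finite G) (A : Subgroup G), Group.IsSolvable G ∧ Nat.card A = 2 ∧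
      (∀ c : G, ∃ g : G, IsConj c g ∧ (A.subgroupOf (A ⊔ Subgroup.zpowers g)).IsSubnormal) ∧
      ¬ A ≤ Cfsg.pCore 2 G := by
  have : Finite AffSL := Finite.of_injective (fun x => (x.left, x.right)) fun x y h =>
    SemidirectProduct.ext (congrArg Prod.fst h) (congrArg Prod.snd h)
  set a : AffSL := SemidirectProduct.inr SD.sigma with ha
  have hoa : orderOf a = 2 := by
    rw [ha, orderOf_injective _ SemidirectProduct.inr_injective]
    exact orderOf_eq_prime_iff.mpr ⟨by decide, by decide⟩
  have hcard : Nat.card SD = 2 ^ 4 := by rw [Nat.card_eq_fintype_card]; rfl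
  refine ⟨AffSL, inferInstance, inferInstance, Subgroup.zpowers a, ?_, ?_, fun c => ?_, fun hle => ?_⟩
  · have : Group.IsNilpotent SD := (IsPGroup.of_card hcard).isNilpotent
    exact Group.isSolvable_of_ker_le_range (SemidirectProduct.inl : _ →* AffSL)
      SemidirectProduct.rightHom (le_of_eq SemidirectProduct.range_inl_eq_ker_rightHom.symm)
  · rw [Nat.card_zpowers, hoa]
  · obtain ⟨w, k, hwk⟩ := SD.conj_check c.left.toAdd c.right
    set u : AffSL := ⟨Multiplicative.ofAdd w, k⟩ with hu
    refine ⟨u * c * u⁻¹, isConj_iff.mpr ⟨u, rfl⟩, ?_⟩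
    set g : AffSL := u * c * u⁻¹ with hg
    have key : ∀ e x : SD, ∀ v : ZMod 3 × ZMod 3, SD.act e (SD.act x v) = SD.act (e * x) v :=
      fun e x v => (SD.act_mul e x v).symm
    have neg : ∀ e : SD, ∀ v, SD.act e (-v) = -SD.act e v := by decide +kernel
    have hl : g.left.toAdd = w + SD.act k c.left.toAdd - SD.act (k * c.right * k⁻¹) w := by
      show (w + SD.act k c.left.toAdd) + SD.act (k * c.right) (SD.act k⁻¹ (-w)) = _
      rw [key, neg, sub_eq_add_neg]
    have hr : g.right = k * c.right * k⁻¹ := rfl
    rcases hwk with h0 | ⟨h1, h2⟩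
    · have hgH : Subgroup.zpowers a ⊔ Subgroup.zpowers g ≤
          (SemidirectProduct.inr : SD →* AffSL).range := by
        refine sup_le (Subgroup.zpowers_le.mpr ⟨_, rfl⟩) (Subgroup.zpowers_le.mpr ⟨g.right, ?_⟩)
        refine SemidirectProduct.ext ?_ rfl
        exact Multiplicative.toAdd.injective (show (0 : ZMod 3 × ZMod 3) = g.left.toAdd by rw [hl, h0])
      have : IsPGroup 2 ↥(Subgroup.zpowers a ⊔ Subgroup.zpowers g) :=
        ((IsPGroup.of_card hcard).of_surjective _ (MonoidHom.rangeRestrict_surjective _)).to_le hgH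
      have := this.isNilpotent
      exact Cfsg.Agent.FiniteChecks.isSubnormal_nilpotent _
    · refine (Cfsg.Agent.FiniteChecks.normal_subgroupOf_sup_zpowers ?_).isSubnormal
      have hc : Commute g a := by
        refine SemidirectProduct.ext ?_ (show g.right * SD.sigma = SD.sigma * g.right by rw [hr, h2])
        refine Multiplicative.toAdd.injective ?_
        show g.left.toAdd + SD.act g.right 0 = 0 + SD.act SD.sigma g.left.toAdd
        have z : ∀ e : SD, SD.act e 0 = 0 := by decide +kernel
        rw [z, add_zero, zero_add, hl, h1]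
      intro x hx
      obtain ⟨i, rfl⟩ := Subgroup.mem_zpowers_iff.mp hx
      exact hc.zpow_right i
  · have haO : a ∈ Cfsg.pCore 2 AffSL := hle (Subgroup.mem_zpowers a)
    set t : AffSL := SemidirectProduct.inl (Multiplicative.ofAdd ((0, 1) : ZMod 3 × ZMod 3))
    have hm : a * t * a⁻¹ * t⁻¹ ∈ Cfsg.pCore 2 AffSL := by
      have h := Cfsg.Agent.Core.pCore_normal.conj_mem _ (inv_mem haO) t
      have := mul_mem haO h
      simpa [mul_assoc] using this
    obtain ⟨j, hj⟩ := Cfsg.Agent.Core.pCore_isPGroup (p := 2) ⟨_, hm⟩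
    have hm2 : (a * t * a⁻¹ * t⁻¹) ^ 2 ^ j = 1 := by simpa using congrArg Subtype.val hj
    have he : a * t * a⁻¹ * t⁻¹ = SemidirectProduct.inl (Multiplicative.ofAdd ((1, 1) : ZMod 3 × ZMod 3)) := by
      decide +kernel
    rw [he, ← map_pow, ← map_one (SemidirectProduct.inl : _ →* AffSL)] at hm2
    have hd := orderOf_dvd_of_pow_eq_one (SemidirectProduct.inl_injective hm2)
    have h3 : orderOf (Multiplicative.ofAdd ((1, 1) : ZMod 3 × ZMod 3)) = 3 :=
      orderOf_eq_prime_iff.mpr ⟨by decide, by decide⟩
    rw [h3] at hd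
    exact absurd ((Nat.prime_dvd_prime_iff_eq Nat.prime_three Nat.prime_two).mp (Nat.prime_three.dvd_of_dvd_pow hd))
      (by norm_num)

end Cfsg.Agent.S4331
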