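import Cfsg.Statements.S4332
import Cfsg.Agent.FiniteChecks.Subnormal
import Cfsg.Agent.Core.PCore
-- import your own Cfsg.Agent.* helpers here

set_option autoImplicit false
open Pointwise
open Cfsg

namespace Cfsg.Agent.S4332

open Equiv in
/-- Every permutation of eight points has a three-point set invariant or disjoint from its image. -/
theorem exists_triple (c : Perm (Fin 8)) : ∃ S : Finset (Fin 8), S.card = 3 ∧
    (S.image c = S ∨ Disjoint (S.image c) S) := by
  classical
  set F : Finset (Fin 8) := Finset.univ.filter (fun x => c x = x) with hF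
  have inj := c.injective
  have hcinv : ∀ x y, y ≠ c⁻¹ x → c y ≠ x := fun x y h e => h (inj (by simp [e]))
  by_cases h3 : 3 ≤ F.card
  · obtain ⟨S, hS, hc⟩ := Finset.exists_subset_card_eq h3
    refine ⟨S, hc, Or.inl ?_⟩
    refine (Finset.image_congr fun x hx => ?_).trans Finset.image_id
    exact (Finset.mem_filter.mp (hS hx)).2
  have hmov : ∀ T : Finset (Fin 8), T.card ≤ 5 → ∃ x, c x ≠ x ∧ x ∉ T := by
    intro T hT
    obtain ⟨x, -, hx⟩ := Finset.exists_mem_notMem_of_card_lt_card (s := F ∪ T) (t := Finset.univ) (by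
      have := Finset.card_union_le F T
      rw [Finset.card_univ, Fintype.card_fin]
      omega)
    rw [Finset.mem_union, not_or] at hx
    exact ⟨x, fun e => hx.1 (Finset.mem_filter.mpr ⟨Finset.mem_univ _, e⟩), hx.2⟩
  by_cases hfix : ∃ f, c f = f
  · obtain ⟨f, hf⟩ := hfix
    obtain ⟨x, hx, -⟩ := hmov ∅ (by simp)
    by_cases h2 : c (c x) = x
    · refine ⟨{f, x, c x}, Finset.card_eq_three.mpr ⟨f, x, c x, fun e => hx (e ▸ hf), ?_, hx.symm, rfl⟩, Or.inl ?_⟩
      · intro e
        exact hx (e.symm.trans (hf.symm.trans ((congrArg c e).trans h2)))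
      · ext y
        simp only [Finset.mem_image, Finset.mem_insert, Finset.mem_singleton]
        constructor
        · rintro ⟨z, rfl | rfl | rfl, rfl⟩ <;> simp [hf, h2]
        · rintro (rfl | rfl | rfl)
          · exact ⟨_, Or.inl rfl, hf⟩
          · exact ⟨c y, Or.inr (Or.inr rfl), h2⟩
          · exact ⟨x, Or.inr (Or.inl rfl), rfl⟩
    by_cases h3' : c (c (c x)) = x
    · refine ⟨{x, c x, c (c x)}, Finset.card_eq_three.mpr ⟨x, c x, c (c x), hx.symm, Ne.symm h2, ?_, rfl⟩, Or.inl ?_⟩
      · exact fun e => hx (inj e.symm)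
      · rw [Finset.image_insert, Finset.image_insert, Finset.image_singleton, h3']
        ext y; simp; tauto
    obtain ⟨y, hy, hyT⟩ := hmov {x, c (c x), c x, c (c (c x)), c⁻¹ x} (by
      exact (Finset.card_insert_le _ _).trans (Nat.succ_le_succ ((Finset.card_insert_le _ _).trans
        (Nat.succ_le_succ ((Finset.card_insert_le _ _).trans (Nat.succ_le_succ
          ((Finset.card_insert_le _ _).trans (Nat.succ_le_succ (Finset.card_singleton _).le))))))))
    simp only [Finset.mem_insert, Finset.mem_singleton, not_or] at hyT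
    obtain ⟨hyx, hyc2, hyc1, hyc3, hyi⟩ := hyT
    refine ⟨{x, c (c x), y}, Finset.card_eq_three.mpr ⟨x, _, y, Ne.symm h2, Ne.symm hyx, Ne.symm hyc2, rfl⟩,
      Or.inr ?_⟩
    simp only [Finset.image_insert, Finset.image_singleton, Finset.disjoint_insert_left,
      Finset.disjoint_singleton_left, Finset.mem_insert, Finset.mem_singleton, not_or]
    exact ⟨⟨hx, fun e => hx (inj e).symm, Ne.symm hyc1⟩,
      ⟨h3', fun e => hx (inj (inj e)), Ne.symm hyc3⟩,
      ⟨hcinv _ _ hyi, fun e => hyc1 (inj e), hy⟩⟩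
  push Not at hfix
  obtain ⟨x, hx, -⟩ := hmov ∅ (by simp)
  obtain ⟨y, hy, hyT⟩ := hmov {x, c x, c⁻¹ x} (Finset.card_le_three.trans (by norm_num))
  simp only [Finset.mem_insert, Finset.mem_singleton, not_or] at hyT
  obtain ⟨hyx, hyc, hyi⟩ := hyT
  obtain ⟨z, -, hzT⟩ := Finset.exists_mem_notMem_of_card_lt_card
    (s := {x, c x, c⁻¹ x} ∪ {y, c y, c⁻¹ y}) (t := Finset.univ) (by
      have := Finset.card_union_le {x, c x, c⁻¹ x} {y, c y, c⁻¹ y}
      have h1 : ({x, c x, c⁻¹ x} : Finset (Fin 8)).card ≤ 3 := Finset.card_le_three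
      have h2 : ({y, c y, c⁻¹ y} : Finset (Fin 8)).card ≤ 3 := Finset.card_le_three
      rw [Finset.card_univ, Fintype.card_fin]
      omega)
  simp only [Finset.mem_union, Finset.mem_insert, Finset.mem_singleton, not_or] at hzT
  obtain ⟨⟨hzx, hzcx, hzix⟩, hzy, hzcy, hziy⟩ := hzT
  refine ⟨{x, y, z}, Finset.card_eq_three.mpr ⟨x, y, z, Ne.symm hyx, Ne.symm hzx, Ne.symm hzy, rfl⟩,
    Or.inr ?_⟩
  simp only [Finset.image_insert, Finset.image_singleton, Finset.disjoint_insert_left,
    Finset.disjoint_singleton_left, Finset.mem_insert, Finset.mem_singleton, not_or]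
  exact ⟨⟨hx, Ne.symm hyc, Ne.symm hzcx⟩, ⟨hcinv _ _ hyi, hy, Ne.symm hzcy⟩,
    ⟨hcinv _ _ hzix, hcinv _ _ hziy, hfix z⟩⟩

open Equiv in
theorem commute_conj {σ g : Perm (Fin 8)} (h : σ.support.image g = σ.support ∨ Disjoint (σ.support.image g) σ.support)
    (hσ : σ.IsThreeCycle) : Commute σ (g * σ * g⁻¹) := by
  classical
  have hsupp : (g * σ * g⁻¹).support = σ.support.image g := by
    rw [Perm.support_conj, Finset.map_eq_image]
    rfl
  rcases h with he | hd
  · -- both are even permutations of a set of three points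
    set τ := g * σ * g⁻¹
    have hτT : τ.support = σ.support := hsupp.trans he
    have i1 : ∀ x, σ x ∈ σ.support ↔ x ∈ σ.support := fun x => Perm.apply_mem_support
    have i2 : ∀ x, τ x ∈ σ.support ↔ x ∈ σ.support := fun x => by rw [← hτT]; exact Perm.apply_mem_support
    have h3 : ∀ p q : Perm {x // x ∈ σ.support}, Perm.sign p = 1 → Perm.sign q = 1 → Commute p q := by
      intro p q hp hq
      have key : ∀ p q : Perm (Fin 3), Perm.sign p = 1 → Perm.sign q = 1 → p * q = q * p := by decide +kernel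
      have e : {x // x ∈ σ.support} ≃ Fin 3 :=
        Fintype.equivFinOfCardEq (by rw [Fintype.card_coe, hσ.card_support])
      have := key (e.permCongr p) (e.permCongr q) (by rw [Perm.sign_permCongr, hp]) (by rw [Perm.sign_permCongr, hq])
      exact e.permCongrHom.injective (by simpa only [map_mul, Equiv.permCongrHom_coe] using this)
    have j1 : Perm.ofSubtype (σ.subtypePerm i1) = σ :=
      Perm.ofSubtype_subtypePerm _ fun x hx => Perm.mem_support.mpr hx
    have j2 : Perm.ofSubtype (τ.subtypePerm i2) = τ :=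
      Perm.ofSubtype_subtypePerm _ fun x hx => hτT ▸ Perm.mem_support.mpr hx
    have s1 : Perm.sign (σ.subtypePerm i1) = 1 := by
      rw [← Perm.sign_ofSubtype, j1, hσ.sign]
    have s2 : Perm.sign (τ.subtypePerm i2) = 1 := by
      rw [← Perm.sign_ofSubtype, j2, map_mul, map_mul, hσ.sign, mul_one, ← map_mul, mul_inv_cancel, map_one]
    show Commute σ τ
    rw [← j1, ← j2]
    exact (h3 _ _ s1 s2).map _
  · exact (Perm.disjoint_iff_disjoint_support.mpr (by rw [hsupp]; exact hd.symm)).commute


/-- In the symmetric group of degree 8, let A be the subgroup generated by a 3-cycle. Then every conjugacy class contains an element g for which A is subnormal in the subgroup generated by A and its conjugate by g, although O_3 of the symmetric group of degree 8 is trivial. -/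
theorem result
    (σ : Equiv.Perm (Fin 8)) (hσ : σ.IsThreeCycle) :
    (∀ c : Equiv.Perm (Fin 8), ∃ g : Equiv.Perm (Fin 8), IsConj c g ∧
      ((Subgroup.zpowers σ).subgroupOf (Subgroup.zpowers σ ⊔ MulAut.conj g • Subgroup.zpowers σ)).IsSubnormal) ∧
    Cfsg.pCore 3 (Equiv.Perm (Fin 8)) = ⊥ := by
  classical
  refine ⟨fun c => ?_, ?_⟩
  · obtain ⟨S, hS3, hS⟩ := exists_triple c
    have hcard : Fintype.card {x // x ∈ S} = Fintype.card {x // x ∈ σ.support} := by
      rw [Fintype.card_coe, Fintype.card_coe, hS3, hσ.card_support]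
    set u : Equiv.Perm (Fin 8) := (Fintype.equivOfCardEq hcard).extendSubtype
    have hu : S.image u = σ.support := by
      refine Finset.eq_of_subset_of_card_le ?_ (by rw [Finset.card_image_of_injective _ u.injective, hS3, hσ.card_support])
      intro y hy
      obtain ⟨x, hx, rfl⟩ := Finset.mem_image.mp hy
      exact Equiv.extendSubtype_mem _ x hx
    refine ⟨u * c * u⁻¹, isConj_iff.mpr ⟨u, rfl⟩, ?_⟩
    have hg : σ.support.image ⇑(u * c * u⁻¹) = (S.image c).image u := by
      rw [← hu, Finset.image_image, Finset.image_image]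
      exact Finset.image_congr fun x _ => by simp
    have hdec : σ.support.image ⇑(u * c * u⁻¹) = σ.support ∨
        Disjoint (σ.support.image ⇑(u * c * u⁻¹)) σ.support := by
      rw [hg, ← hu]
      rcases hS with h | h
      · exact Or.inl (by rw [h])
      · exact Or.inr ((Finset.disjoint_image u.injective).mpr h)
    have hcm := commute_conj hdec hσ
    refine ((Subgroup.normal_subgroupOf_iff_le_normalizer le_sup_left).mpr (sup_le Subgroup.le_normalizer ?_)).isSubnormal
    rw [show MulAut.conj (u * c * u⁻¹) • Subgroup.zpowers σ = Subgroup.zpowers (u * c * u⁻¹ * σ * (u * c * u⁻¹)⁻¹) from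
      MonoidHom.map_zpowers _ _, Subgroup.zpowers_le, Subgroup.mem_normalizer_iff]
    intro a
    show a ∈ _ ↔ u * c * u⁻¹ * σ * (u * c * u⁻¹)⁻¹ * a * (u * c * u⁻¹ * σ * (u * c * u⁻¹)⁻¹)⁻¹ ∈ _
    set x := u * c * u⁻¹ * σ * (u * c * u⁻¹)⁻¹ with hx
    constructor
    · intro ha
      obtain ⟨i, rfl⟩ := Subgroup.mem_zpowers_iff.mp ha
      rw [(hcm.symm.zpow_right i).eq, mul_assoc, mul_inv_cancel, mul_one]
      exact Subgroup.mem_zpowers_iff.mpr ⟨i, rfl⟩
    · intro ha
      obtain ⟨i, hi⟩ := Subgroup.mem_zpowers_iff.mp ha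
      have : a = σ ^ i := by
        have h1 : x * a * x⁻¹ = x * σ ^ i * x⁻¹ := by
          rw [(hcm.symm.zpow_right i).eq, mul_assoc (σ ^ i), mul_inv_cancel, mul_one, hi]
        exact mul_left_cancel (mul_right_cancel h1)
      exact this ▸ Subgroup.mem_zpowers_iff.mpr ⟨i, rfl⟩
  · have hO : Cfsg.pCore 3 (Equiv.Perm (Fin 8)) ≤ alternatingGroup (Fin 8) := by
      intro x hx
      obtain ⟨k, hk⟩ := Cfsg.Agent.Core.pCore_isPGroup (p := 3) ⟨x, hx⟩
      rw [Equiv.Perm.mem_alternatingGroup]
      have h1 : x ^ 3 ^ k = 1 := by simpa using congrArg Subtype.val hk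
      have h2 := congrArg Equiv.Perm.sign h1
      rw [map_pow, map_one] at h2
      rcases Int.units_eq_one_or (Equiv.Perm.sign x) with h | h
      · exact h
      · rw [h, Odd.neg_one_pow (Odd.pow (by decide))] at h2
        exact h.trans h2
    have : IsSimpleGroup (alternatingGroup (Fin 8)) := alternatingGroup.isSimpleGroup (by simp)
    have hn := (Cfsg.Agent.Core.pCore_normal (p := 3) (G := Equiv.Perm (Fin 8))).subgroupOf (alternatingGroup (Fin 8))
    rcases hn.eq_bot_or_eq_top with h | h
    · rw [Subgroup.subgroupOf_eq_bot] at h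
      exact h.eq_bot_of_le hO
    · exfalso
      rw [Subgroup.subgroupOf_eq_top] at h
      obtain ⟨k, hk⟩ := Cfsg.Agent.Core.pCore_isPGroup (p := 3)
        ⟨Equiv.swap (0 : Fin 8) 1 * Equiv.swap 2 3, h (Equiv.Perm.mem_alternatingGroup.mpr (by decide +kernel))⟩
      have h1 : (Equiv.swap (0 : Fin 8) 1 * Equiv.swap 2 3) ^ 3 ^ k = 1 := by simpa using congrArg Subtype.val hk
      have h2 : orderOf (Equiv.swap (0 : Fin 8) 1 * Equiv.swap 2 3) = 2 :=
        orderOf_eq_prime_iff.mpr ⟨by decide +kernel, by decide +kernel⟩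
      have h3 := orderOf_dvd_of_pow_eq_one h1
      rw [h2] at h3
      exact absurd ((Nat.prime_dvd_prime_iff_eq Nat.prime_two Nat.prime_three).mp (Nat.prime_two.dvd_of_dvd_pow h3)) (by norm_num)

end Cfsg.Agent.S4332
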