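import Cfsg.Statements.S4334
import Cfsg.Agent.Core.WielandtHall
import Cfsg.Agent.Fusion.Frobenius
import Cfsg.Agent.Coprime.Generation
-- import your own Cfsg.Agent.* helpers here

set_option autoImplicit false
open Cfsg

namespace Cfsg.Agent.S4334

open Subgroup
open scoped Pointwise

universe u

section

variable {G : Type u} [Group G] [Finite G]

theorem coprime_of_pi {σ τ : Set ℕ} (hd : Disjoint σ τ) {m n : ℕ}
    (hm : ∀ p, p.Prime → p ∣ m → p ∈ σ) (hn : ∀ p, p.Prime → p ∣ n → p ∈ τ) : m.Coprime n :=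
  Nat.coprime_of_dvd fun p hp h1 h2 => Set.disjoint_left.mp hd (hm p hp h1) (hn p hp h2)

/-- If `C(U)` contains a Sylow `q`-subgroup, `q`-elements normalising `U` centralise it. -/
theorem mem_centralizer_of_sylow_le {q : ℕ} [hq : Fact q.Prime] {U : Subgroup G} (S : Sylow q G)
    (hS : (S : Subgroup G) ≤ centralizer (U : Set G)) {z : G} (hz : z ∈ normalizer (U : Set G))
    (hzq : ∃ k, orderOf z = q ^ k) : z ∈ centralizer (U : Set G) := by
  set N := normalizer (U : Set G)
  set C := (centralizer (U : Set G)).subgroupOf N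
  have hCn : C.Normal := by
    rw [show C = U.normalizerMonoidHom.ker from (normalizerMonoidHom_ker U).symm]
    infer_instance
  obtain ⟨k, hk⟩ := hzq
  have hndvd : ¬ q ∣ C.index := by
    intro h
    have h1 : C.index ∣ (centralizer (U : Set G)).index := relIndex_dvd_index_of_le (centralizer_le_normalizer _)
    exact S.not_dvd_index (h.trans (h1.trans (index_dvd_of_le hS)))
  have h1 : orderOf (QuotientGroup.mk' C ⟨z, hz⟩) ∣ q ^ k := by
    rw [← hk, ← Subgroup.orderOf_mk z hz]
    exact orderOf_map_dvd _ _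
  have h2 : orderOf (QuotientGroup.mk' C ⟨z, hz⟩) ∣ C.index := _root_.orderOf_dvd_natCard _
  have h3 : (q ^ k).Coprime C.index := (hq.out.coprime_iff_not_dvd.mpr hndvd).pow_left k
  have h4 := Nat.eq_one_of_dvd_coprimes h3 h1 h2
  rw [orderOf_eq_one_iff, QuotientGroup.mk'_apply, QuotientGroup.eq_one_iff] at h4
  exact h4

theorem exists_conj_ge {σ τ π : Set ℕ} (hπ : π = σ ∪ τ) (hd : Disjoint σ τ) {H Hs Ht : Subgroup G}
    (hH : IsPiHall π H) (hs : IsPiSubgroup σ Hs) (ht : IsPiSubgroup τ Ht) (hsn : Group.IsNilpotent Hs)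
    (hjoin : Hs ⊔ Ht = H) (hcomm : ∀ a ∈ Hs, ∀ b ∈ Ht, a * b = b * a) (hD : IsDPiGroup τ G)
    {K : Subgroup G} (hK : IsPiSubgroup π K) : ∃ x : G, K ≤ MulAut.conj x • H := by
  classical
  have hcst : (Nat.card Hs).Coprime (Nat.card Ht) := coprime_of_pi hd hs ht
  have hsH : Hs ≤ H := hjoin ▸ le_sup_left
  have htH : Ht ≤ H := hjoin ▸ le_sup_right
  have hcard : Nat.card H = Nat.card Hs * Nat.card Ht := by
    rw [← hjoin]
    exact Coprime.card_sup_eq_mul
      (fun b hb => centralizer_le_normalizer _ (mem_centralizer_iff.mpr fun a ha => hcomm a ha b hb))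
      (Coprime.inf_eq_bot_of_coprime hcst)
  have hiσ : ∀ p, p.Prime → p ∈ σ → ¬ p ∣ Hs.index := by
    intro p hp hpσ hdvd
    have h1 : Hs.index = Hs.relIndex H * H.index := (relIndex_mul_index hsH).symm
    have h2 : Hs.relIndex H = Nat.card Ht := by
      have h3 := (Hs.subgroupOf H).card_mul_index
      rw [Coprime.card_subgroupOf hsH, hcard] at h3
      exact Nat.eq_of_mul_eq_mul_left Nat.card_pos h3
    rw [h1, h2] at hdvd
    rcases hp.dvd_mul.mp hdvd with h | h
    · exact Set.disjoint_left.mp hd hpσ (ht p hp h)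
    · exact hH.2 p hp (hπ ▸ Or.inl hpσ) h
  have hiτ : ∀ p, p.Prime → p ∈ τ → ¬ p ∣ Ht.index := by
    intro p hp hpτ hdvd
    have h1 : Ht.index = Ht.relIndex H * H.index := (relIndex_mul_index htH).symm
    have h2 : Ht.relIndex H = Nat.card Hs := by
      have h3 := (Ht.subgroupOf H).card_mul_index
      rw [Coprime.card_subgroupOf htH, hcard, mul_comm (Nat.card Hs)] at h3
      exact Nat.eq_of_mul_eq_mul_left Nat.card_pos h3
    rw [h1, h2] at hdvd
    rcases hp.dvd_mul.mp hdvd with h | h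
    · exact Set.disjoint_left.mp hd (hs p hp h) hpτ
    · exact hH.2 p hp (hπ ▸ Or.inr hpτ) h
  -- Sylow subgroups of the two factors
  have hsyl : ∀ (p : ℕ) [Fact p.Prime] (X : Subgroup G), ¬ p ∣ X.index →
      ∃ P : Sylow p G, (P : Subgroup G) ≤ X := by
    intro p _ X hp
    obtain ⟨P₀⟩ : Nonempty (Sylow p X) := inferInstance
    have hni : ¬ p ∣ ((P₀ : Subgroup X).map X.subtype).index := by
      rw [index_map_subtype]
      exact (Fact.out : p.Prime).not_dvd_mul P₀.not_dvd_index hp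
    exact ⟨(P₀.isPGroup'.map X.subtype).toSylow hni, map_subtype_le _⟩
  -- commuting Sylow subgroups
  have hpair : ∀ (p r : ℕ) [Fact p.Prime] [Fact r.Prime], p ≠ r → p ∈ π → r ∈ π → (p ∈ σ ∨ r ∈ σ) →
      ∃ (P : Sylow p G) (R : Sylow r G), ∀ a ∈ (P : Subgroup G), ∀ b ∈ (R : Subgroup G), Commute a b := by
    intro p r _ _ hpr hp hr hor
    rcases (hπ ▸ hp : p ∈ σ ∪ τ) with hp' | hp' <;> rcases (hπ ▸ hr : r ∈ σ ∪ τ) with hr' | hr'
    · obtain ⟨P, hP⟩ := hsyl p Hs (hiσ p Fact.out hp')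
      obtain ⟨R, hR⟩ := hsyl r Hs (hiσ r Fact.out hr')
      refine ⟨P, R, fun a ha b hb => ?_⟩
      obtain ⟨i, hi⟩ := IsPGroup.iff_orderOf.mp P.isPGroup' ⟨a, ha⟩
      obtain ⟨j, hj⟩ := IsPGroup.iff_orderOf.mp R.isPGroup' ⟨b, hb⟩
      rw [Subgroup.orderOf_mk] at hi hj
      refine congrArg Subtype.val (Char.commute_of_nilpotent_coprime (hnil := hsn)
        (a := (⟨a, hP ha⟩ : Hs)) (b := ⟨b, hR hb⟩) ?_).eq
      rw [Subgroup.orderOf_mk, Subgroup.orderOf_mk, hi, hj]
      exact Nat.Coprime.pow i j ((Nat.coprime_primes Fact.out Fact.out).mpr hpr)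
    · obtain ⟨P, hP⟩ := hsyl p Hs (hiσ p Fact.out hp')
      obtain ⟨R, hR⟩ := hsyl r Ht (hiτ r Fact.out hr')
      exact ⟨P, R, fun a ha b hb => hcomm a (hP ha) b (hR hb)⟩
    · obtain ⟨P, hP⟩ := hsyl p Ht (hiτ p Fact.out hp')
      obtain ⟨R, hR⟩ := hsyl r Hs (hiσ r Fact.out hr')
      exact ⟨P, R, fun a ha b hb => (hcomm b (hR hb) a (hP ha)).symm⟩
    · rcases hor with h | h
      · exact absurd hp' (Set.disjoint_left.mp hd h)
      · exact absurd hr' (Set.disjoint_left.mp hd h)
  have hfix : ∀ (p r : ℕ) [Fact p.Prime] [Fact r.Prime], p ≠ r → p ∈ π → r ∈ π → (p ∈ σ ∨ r ∈ σ) →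
      ∀ (U : Subgroup G), IsPGroup r U → ∀ z ∈ normalizer (U : Set G), (∃ k, orderOf z = p ^ k) →
      z ∈ centralizer (U : Set G) := by
    intro p r _ _ hpr hp hr hor U hU z hz hzp
    obtain ⟨P, R, hPR⟩ := hpair p r hpr hp hr hor
    obtain ⟨R', hR'⟩ := hU.exists_le_sylow
    obtain ⟨g, rfl⟩ := MulAction.exists_smul_eq G R R'
    refine mem_centralizer_of_sylow_le (g • P) (fun a ha => mem_centralizer_iff.mpr fun u hu => ?_) hz hzp
    have hu' : u ∈ MulAut.conj g • (R : Subgroup G) := hR' hu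
    have ha' : a ∈ MulAut.conj g • (P : Subgroup G) := ha
    rw [Coprime.mem_conj_smul] at hu' ha'
    have := congrArg (fun t => g * t * g⁻¹) (hPR _ ha' _ hu').eq
    simpa [mul_assoc] using this.symm
  have hKπ : ∀ (r : ℕ), r.Prime → ∀ z : K, r ∣ orderOf z → r ∈ π := fun r hr z h =>
    hK r hr (h.trans (_root_.orderOf_dvd_natCard z))
  -- the `σ`-Sylow subgroups of `K` are central factors
  have hnormal : ∀ (p : ℕ) [Fact p.Prime], p ∈ σ → ∀ P : Sylow p K, (P : Subgroup K).Normal ∧
      ∀ z : K, (orderOf z).Coprime p → ∀ y ∈ (P : Subgroup K), Commute z y := by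
    intro p hp' hpσ P
    have hpπ : p ∈ π := hπ ▸ Or.inl hpσ
    obtain ⟨Q, N, hNn, hNc⟩ : HasNormalPComplement p K := by
      refine Fusion.hasNormalPComplement_of_frobenius fun U hU g hg hgo => ?_
      -- split `g` into its primary parts
      suffices hle : zpowers g ≤ centralizer (U : Set K) from hle (mem_zpowers g)
      refine Coprime.le_of_forall_sylow_le fun r hr => ?_
      have := Fact.mk hr
      obtain ⟨T⟩ : Nonempty (Sylow r (zpowers g)) := inferInstance
      refine ⟨T, ?_⟩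
      rintro _ ⟨t, htT, rfl⟩
      by_cases ht1 : (t : K) = 1
      · rw [coe_subtype, ht1]; exact one_mem _
      obtain ⟨k, hk⟩ := IsPGroup.iff_orderOf.mp T.isPGroup' ⟨t, htT⟩
      rw [Subgroup.orderOf_mk, ← Subgroup.orderOf_coe] at hk
      have hk0 : k ≠ 0 := fun h0 => ht1 (orderOf_eq_one_iff.mp (by rw [hk, h0, pow_zero]))
      have hrt : r ∣ orderOf (t : K) := hk ▸ dvd_pow_self r hk0
      have hrg : r ∣ orderOf g := hrt.trans (by
        rw [← Nat.card_zpowers g, Subgroup.orderOf_coe]; exact _root_.orderOf_dvd_natCard t)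
      have hrp : r ≠ p := fun h => hr.ne_one (Nat.eq_one_of_dvd_coprimes hgo hrg (h ▸ dvd_rfl))
      have hmem : ((t : K) : G) ∈ normalizer ((U.map K.subtype : Subgroup G) : Set G) := by
        have h1 : (t : K) ∈ normalizer (U : Set K) := (zpowers_le.mpr hg) t.2
        exact le_normalizer_map K.subtype (mem_map_of_mem K.subtype h1)
      have h2 := hfix r p hrp (hKπ r hr _ hrt) hpπ (Or.inr hpσ) _ (hU.map _) _ hmem
        ⟨k, by rw [Subgroup.orderOf_coe]; exact hk⟩
      exact mem_centralizer_iff.mpr fun u hu =>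
        Subtype.ext (mem_centralizer_iff.mp h2 _ (mem_map_of_mem K.subtype hu))
    -- `Q` centralises `N`
    have hQN : ∀ y ∈ (Q : Subgroup K), y ∈ centralizer (N : Set K) := by
      have hcop : (Nat.card (Q : Subgroup K)).Coprime (Nat.card N) := by
        obtain ⟨k, hk⟩ := IsPGroup.iff_card.mp Q.isPGroup'
        rw [hk, ← hNc.index_eq_card]
        exact ((Fact.out : p.Prime).coprime_iff_not_dvd.mpr Q.not_dvd_index).pow_left k
      have hsolv : Group.IsSolvable (Q : Subgroup K) := by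
        have := Q.isPGroup'.isNilpotent; infer_instance
      have hQn : (Q : Subgroup K) ≤ normalizer (N : Set K) := le_normalizer_of_normal
      intro y hy
      suffices hle : N ≤ centralizer {y} from
        mem_centralizer_iff.mpr fun n hn => mem_centralizer_singleton_iff.mp (hle hn)
      refine Coprime.le_of_forall_sylow_le fun r hr => ?_
      have := Fact.mk hr
      obtain ⟨R, hR⟩ := Coprime.exists_invariant_sylow hQn hcop (Or.inl hsolv) r
      refine ⟨R, ?_⟩
      intro x hx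
      by_cases hx1 : x = 1
      · exact hx1 ▸ one_mem _
      obtain ⟨k, hk⟩ := IsPGroup.iff_orderOf.mp (R.isPGroup'.map N.subtype) ⟨x, hx⟩
      rw [Subgroup.orderOf_mk] at hk
      have hk0 : k ≠ 0 := fun h0 => hx1 (orderOf_eq_one_iff.mp (by rw [hk, h0, pow_zero]))
      have hrp : p ≠ r := by
        rintro rfl
        have h1 : p ∣ Nat.card N := (hk ▸ dvd_pow_self p hk0).trans
          (Subgroup.orderOf_dvd_natCard N (map_subtype_le _ hx))
        rw [← hNc.index_eq_card] at h1
        exact Q.not_dvd_index h1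
      obtain ⟨i, hi⟩ := IsPGroup.iff_orderOf.mp Q.isPGroup' ⟨y, hy⟩
      rw [Subgroup.orderOf_mk, ← Subgroup.orderOf_coe] at hi
      have h2 := hfix p r hrp hpπ (hKπ r hr x (hk ▸ dvd_pow_self r hk0)) (Or.inl hpσ)
        (((R : Subgroup N).map N.subtype).map K.subtype) ((R.isPGroup'.map _).map _) (y : G)
        (le_normalizer_map K.subtype (mem_map_of_mem K.subtype (hR hy))) ⟨i, hi⟩
      exact mem_centralizer_singleton_iff.mpr
        (Subtype.ext (mem_centralizer_iff.mp h2 _ (mem_map_of_mem K.subtype hx)))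
    have hQn : (Q : Subgroup K).Normal := by
      refine ⟨fun y hy k => ?_⟩
      obtain ⟨n, hn, b, hb, rfl⟩ : ∃ n ∈ N, ∃ b ∈ (Q : Subgroup K), n * b = k :=
        (Coprime.mem_sup_of_le_normalizer le_normalizer_of_normal).mp (hNc.sup_eq_top ▸ mem_top k)
      have h1 : Commute n (b * y * b⁻¹) :=
        mem_centralizer_iff.mp (hQN _ ((Q : Subgroup K).mul_mem ((Q : Subgroup K).mul_mem hb hy)
          ((Q : Subgroup K).inv_mem hb))) n hn
      have : n * b * y * (n * b)⁻¹ = b * y * b⁻¹ := by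
        calc n * b * y * (n * b)⁻¹ = n * (b * y * b⁻¹) * n⁻¹ := by group
          _ = b * y * b⁻¹ := by rw [h1.eq, mul_inv_cancel_right]
      rw [this]
      exact (Q : Subgroup K).mul_mem ((Q : Subgroup K).mul_mem hb hy) ((Q : Subgroup K).inv_mem hb)
    have hPQ : (P : Subgroup K) = Q := by
      have := Sylow.unique_of_normal Q hQn
      rw [Subsingleton.elim P Q]
    refine ⟨hPQ ▸ hQn, fun z hz y hy => ?_⟩
    rw [hPQ] at hy
    -- a `p'`-element lies in `N`
    have hzN : z ∈ N := by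
      rw [← QuotientGroup.eq_one_iff, ← orderOf_eq_one_iff]
      obtain ⟨k, hk⟩ := IsPGroup.iff_card.mp Q.isPGroup'
      have h2 : orderOf (z : K ⧸ N) ∣ p ^ k := by
        rw [← hk, ← hNc.symm.index_eq_card]; exact _root_.orderOf_dvd_natCard _
      exact Nat.eq_one_of_dvd_coprimes (hz.pow_right k) (orderOf_map_dvd (QuotientGroup.mk' N) z) h2
    exact mem_centralizer_iff.mp (hQN y hy) z hzN
  -- the product of the `σ`-Sylow subgroups
  set S : Subgroup K := ⨆ p : {p : (Nat.card K).primeFactors // (p : ℕ) ∈ σ},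
    pCore (p : ℕ) K with hSdef
  have hSnil : Group.IsNilpotent S := by
    refine Core.isNilpotent_iSup_of_commute (fun p => ?_) fun i j hij x y hx hy => ?_
    · have := Fact.mk (Nat.prime_of_mem_primeFactors p.1.2)
      exact (Core.pCore_isPGroup (p := (p : ℕ)) (G := K)).isNilpotent
    · have := Fact.mk (Nat.prime_of_mem_primeFactors i.1.2)
      have := Fact.mk (Nat.prime_of_mem_primeFactors j.1.2)
      exact commute_of_normal_of_disjoint _ _ inferInstance inferInstance
        (IsPGroup.disjoint_of_ne (i : ℕ) (j : ℕ) (fun h => hij (Subtype.ext (Subtype.ext h))) _ _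
          Core.pCore_isPGroup Core.pCore_isPGroup) x y hx hy
  have hScent : ∀ z : K, (∀ p ∈ σ, p.Prime → ¬ p ∣ orderOf z) → ∀ s ∈ S, Commute z s := by
    intro z hz
    have : S ≤ centralizer {z} := iSup_le fun p => by
      have hp := Nat.prime_of_mem_primeFactors p.1.2
      have := Fact.mk hp
      obtain ⟨P⟩ : Nonempty (Sylow (p : ℕ) K) := inferInstance
      intro y hy
      exact mem_centralizer_singleton_iff.mpr ((hnormal _ p.2 P).2 z
        (hp.coprime_iff_not_dvd.mpr (hz _ p.2 hp)).symm y (Core.pCore_le_sylow P hy)).symm.eq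
    exact fun s hs => (mem_centralizer_singleton_iff.mp (this hs)).symm
  have hSn : S.Normal := by
    refine ⟨fun y hy k => ?_⟩
    have := mem_map_of_mem (MulAut.conj k).toMonoidHom hy
    rw [hSdef, Subgroup.map_iSup] at this
    simp only [Core.map_pCore] at this
    exact this
  have hSσ : ∀ p, p.Prime → p ∈ σ → ¬ p ∣ S.index := by
    intro p hp hpσ hdvd
    have := Fact.mk hp
    obtain ⟨P⟩ : Nonempty (Sylow p K) := inferInstance
    have hle : (P : Subgroup K) ≤ S := by
      have := (hnormal p hpσ P).1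
      refine (Core.le_pCore P.isPGroup').trans ?_
      exact le_iSup (fun r : {r : (Nat.card K).primeFactors // (r : ℕ) ∈ σ} => pCore (r : ℕ) K)
        ⟨⟨p, Nat.mem_primeFactors.mpr ⟨hp, hdvd.trans (index_dvd_card S), Nat.card_pos.ne'⟩⟩, hpσ⟩
    exact P.not_dvd_index (hdvd.trans (index_dvd_of_le hle))
  have hSπ : ∀ r, r.Prime → r ∣ Nat.card S → r ∈ σ := by
    intro r hr hrS
    by_contra hrσ
    have := Fact.mk hr
    have hle : S ≤ pPrimeCore r K := iSup_le fun p => by
      have hp := Nat.prime_of_mem_primeFactors p.1.2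
      have := Fact.mk hp
      refine Core.le_pPrimeCore ?_
      obtain ⟨n, hn⟩ := IsPGroup.iff_card.mp (Core.pCore_isPGroup (p := (p : ℕ)) (G := K))
      rw [hn]
      exact ((Nat.coprime_primes hp hr).mpr fun h => hrσ (h ▸ p.2)).pow_left n
    exact hr.coprime_iff_not_dvd.mp
      (Core.coprime_card_pPrimeCore (p := r) (G := K)).symm (hrS.trans (card_dvd_of_le hle))
  have hScop : (Nat.card S).Coprime S.index :=
    Nat.coprime_of_dvd fun r hr h1 h2 => hSσ r hr (hSπ r hr h1) h2
  obtain ⟨T, hT⟩ := exists_right_complement'_of_coprime hScop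
  have hTτ : IsPiSubgroup τ (T.map K.subtype) := by
    intro r hr h
    rw [card_map_of_injective K.subtype_injective, ← hT.symm.index_eq_card] at h
    rcases (hπ ▸ hK r hr (h.trans (index_dvd_card S)) : r ∈ σ ∪ τ) with h' | h'
    · exact absurd h (hSσ r hr h')
    · exact h'
  -- `T` into a conjugate of `Ht`
  have hTmax : ∀ X : Subgroup G, IsPiSubgroup τ X → ∃ g : G, X ≤ MulAut.conj g • Ht := by
    intro X hX
    have hmax : Maximal (IsPiSubgroup τ) Ht := by
      refine ⟨ht, fun Y hY hle => (eq_of_le_of_card_ge hle ?_).ge⟩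
      refine Nat.le_of_dvd Nat.card_pos ?_
      have h1 : Nat.card Y ∣ Nat.card Ht * Ht.index := by
        rw [Ht.card_mul_index]; exact card_subgroup_dvd_card Y
      exact (Nat.coprime_of_dvd fun r hr h2 h3 => hiτ r hr (hY r hr h2) h3).dvd_of_dvd_mul_right h1
    obtain ⟨M, ⟨hM, hXM⟩, hMmax⟩ := wellFounded_gt.has_min
      {M : Subgroup G | IsPiSubgroup τ M ∧ X ≤ M} ⟨X, hX, le_rfl⟩
    obtain ⟨g, rfl⟩ := hD Ht M hmax ⟨hM, fun Y hY hle => (eq_of_le_of_not_lt hle
      (hMmax Y ⟨hY, hXM.trans hle⟩)).ge⟩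
    exact ⟨g, by rw [Coprime.conj_smul_eq_map]; exact hXM⟩
  obtain ⟨g, hg⟩ := hTmax _ hTτ
  -- work in the centraliser of `T`
  set C := centralizer ((T.map K.subtype : Subgroup G) : Set G)
  have hS'C : S.map K.subtype ≤ C := by
    rintro _ ⟨s, hs, rfl⟩
    rw [mem_centralizer_iff]
    rintro _ ⟨w, hw, rfl⟩
    have h : ∀ p ∈ σ, p.Prime → ¬ p ∣ orderOf w := fun p hpσ hp hdvd => hSσ p hp hpσ (by
      rw [hT.symm.index_eq_card]; exact hdvd.trans (Subgroup.orderOf_dvd_natCard T hw))
    exact congrArg Subtype.val (hScent w h s hs).eq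
  have hHsC : MulAut.conj g • Hs ≤ C := by
    intro a ha
    rw [mem_centralizer_iff]
    intro w hw
    have hw' := hg hw
    rw [Coprime.mem_conj_smul] at ha hw'
    have := congrArg (fun t => g * t * g⁻¹) (hcomm _ ha _ hw')
    simpa [mul_assoc] using this.symm
  set L := (MulAut.conj g • Hs).subgroupOf C
  have hLi : ∀ r, r.Prime → r ∈ σ → ¬ r ∣ L.index := by
    intro r hr hrσ h
    refine hiσ r hr hrσ (h.trans ?_)
    have h1 : L.index ∣ (MulAut.conj g • Hs).index := Dvd.intro _ (relIndex_mul_index hHsC)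
    have h2 : (MulAut.conj g • Hs).index = Hs.index := index_map_equiv Hs (MulAut.conj g)
    rwa [h2] at h1
  have hLc : Nat.card L = Nat.card Hs := by
    rw [Coprime.card_subgroupOf hHsC, Coprime.card_conj_smul]
  obtain ⟨y, hy⟩ := Core.exists_le_conj_nilpotent_hall (H := L) (K := (S.map K.subtype).subgroupOf C)
    ((Group.isNilpotent_congr (subgroupOfEquivOfLe hHsC)).mpr
      (by rw [Coprime.conj_smul_eq_map]; exact Core.isNilpotent_map hsn _))
    (Nat.coprime_of_dvd fun r hr h1 h2 => hLi r hr (hs r hr (hLc ▸ h1)) h2)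
    (Nat.coprime_of_dvd fun r hr h1 h2 => hLi r hr (hSπ r hr (by
      rwa [Coprime.card_subgroupOf hS'C, card_map_of_injective K.subtype_injective] at h1)) h2)
  refine ⟨(y : G) * g, ?_⟩
  rw [show K = S.map K.subtype ⊔ T.map K.subtype by
    rw [← Subgroup.map_sup, hT.sup_eq_top, ← MonoidHom.range_eq_map, range_subtype]]
  refine sup_le ?_ ?_
  · have h1 := map_mono (f := C.subtype) hy
    rw [map_subgroupOf_eq_of_le hS'C, Coprime.conj_smul_map_subtype, map_subgroupOf_eq_of_le hHsC,
      ← Coprime.conj_mul_smul] at h1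
    exact h1.trans (pointwise_smul_le_pointwise_smul_iff.mpr hsH)
  · intro w hw
    rw [Coprime.conj_mul_smul, Coprime.mem_conj_smul]
    have : (y : G)⁻¹ * w * y = w := by
      rw [mul_assoc, mem_centralizer_iff.mp y.2 w hw]
      simp [mul_assoc]
    rw [this]
    exact pointwise_smul_le_pointwise_smul_iff.mpr htH (hg hw)

end

/-- Let σ and τ be disjoint sets of primes with union π. Suppose a finite group G has a Hall π-subgroup H which is the direct product of a nilpotent σ-subgroup and a τ-subgroup (two elementwise-commuting subgroups generating H), and that the maximal τ-subgroups of G are pairwise conjugate. Then the maximal π-subgroups of G are pairwise conjugate. -/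
theorem result {G : Type*} [Group G] [Finite G]
    (σ τ π : Set ℕ) (hπ : π = σ ∪ τ) (hd : Disjoint σ τ) (H Hs Ht : Subgroup G) (hH : Cfsg.IsPiHall π H)
    (hs : Cfsg.IsPiSubgroup σ Hs) (ht : Cfsg.IsPiSubgroup τ Ht) (hsn : Group.IsNilpotent Hs)
    (hjoin : Hs ⊔ Ht = H) (hcomm : ∀ a ∈ Hs, ∀ b ∈ Ht, a * b = b * a) (hD : Cfsg.IsDPiGroup τ G) :
    Cfsg.IsDPiGroup π G := by
  intro A B hA hB
  have hconj : ∀ X : Subgroup G, Maximal (Cfsg.IsPiSubgroup π) X →
      ∃ x : G, X = MulAut.conj x • H := by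
    intro X hX
    obtain ⟨x, hx⟩ := exists_conj_ge hπ hd hH hs ht hsn hjoin hcomm hD hX.1
    refine ⟨x, le_antisymm hx (hX.2 ?_ hx)⟩
    intro p hp h
    rw [Coprime.card_conj_smul] at h
    exact hH.1 p hp h
  obtain ⟨x, rfl⟩ := hconj A hA
  obtain ⟨y, rfl⟩ := hconj B hB
  refine ⟨y * x⁻¹, ?_⟩
  rw [← Coprime.conj_smul_eq_map, ← Coprime.conj_mul_smul, inv_mul_cancel_right]

end Cfsg.Agent.S4334
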