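import Cfsg.Statements.S4337
import Cfsg.Agent.OrderType.Count


set_option autoImplicit false
open Cfsg

namespace Cfsg.Agent.S4337

/-- In a finite symmetric group, any three transpositions generate a solvable subgroup. -/
theorem result (n : ℕ) (a b c : Equiv.Perm (Fin n))
    (ha : a.IsSwap) (hb : b.IsSwap) (hc : c.IsSwap) :
    Group.IsSolvable (Subgroup.closure ({a, b, c} : Set (Equiv.Perm (Fin n)))) := by
  classical
  have hlab : ∀ l : List (Equiv.Perm (Fin n)), (∀ s ∈ l, s.IsSwap) →
      ∃ f : Fin n → Fin n, (∀ s ∈ l, ∀ z, f (s z) = f z) ∧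
        n ≤ (Finset.univ.image f).card + l.length := by
    intro l
    induction l with
    | nil => intro _; exact ⟨id, by simp, by simp⟩
    | cons s l ih =>
      intro hl
      obtain ⟨f, hf, hcard⟩ := ih fun u hu => hl u (List.mem_cons_of_mem _ hu)
      obtain ⟨a, b, hab, rfl⟩ := hl s (List.mem_cons_self ..)
      refine ⟨fun z => if f z = f a then f b else f z, ?_, ?_⟩
      · intro u hu z
        rcases List.mem_cons.mp hu with rfl | hu
        · show (if f (Equiv.swap a b z) = f a then f b else f (Equiv.swap a b z)) = _
          rcases eq_or_ne z a with rfl | hza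
          · rw [Equiv.swap_apply_left]; simp
          rcases eq_or_ne z b with rfl | hzb
          · rw [Equiv.swap_apply_right]; simp
          rw [Equiv.swap_apply_of_ne_of_ne hza hzb]
        · show (if f (u z) = f a then f b else f (u z)) = _
          rw [hf u hu z]
      · have hsub : (Finset.univ.image f).erase (f a) ⊆
            Finset.univ.image (fun z => if f z = f a then f b else f z) := by
          intro y hy
          obtain ⟨hne, hy⟩ := Finset.mem_erase.mp hy
          obtain ⟨z, -, rfl⟩ := Finset.mem_image.mp hy
          exact Finset.mem_image.mpr ⟨z, Finset.mem_univ z, if_neg hne⟩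
        have := Finset.card_le_card hsub
        rw [Finset.card_erase_of_mem (Finset.mem_image_of_mem f (Finset.mem_univ a))] at this
        simp only [List.length_cons]
        omega
  obtain ⟨f, hf, hcard⟩ := hlab [a, b, c] (by simp [ha, hb, hc])
  simp only [List.length_cons, List.length_nil] at hcard
  set K := Subgroup.closure ({a, b, c} : Set (Equiv.Perm (Fin n))) with hK
  have hinv : ∀ g ∈ K, ∀ z, f (g z) = f z := by
    intro g hg
    induction hg using Subgroup.closure_induction with
    | mem y hy =>
      refine hf y ?_
      simpa using hy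
    | one => exact fun z => rfl
    | mul x y _ _ hx hy => exact fun z => by rw [Equiv.Perm.mul_apply, hx, hy]
    | inv x _ hx =>
        intro z
        have h := hx (x⁻¹ z)
        rw [show x (x⁻¹ z) = z from Equiv.apply_symm_apply x z] at h
        exact h.symm
  have hsize : ∀ y : Fin n, Fintype.card {z : Fin n // f z = y} ≤ 4 := by
    intro y
    rw [Fintype.card_subtype]
    have h1 : (Finset.univ.image f).card ≤
        ((Finset.univ.filter fun z => ¬ f z = y).image f).card + 1 := by
      refine (Finset.card_le_card (t := insert y ((Finset.univ.filter fun z => ¬ f z = y).image f)) ?_).trans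
        (Finset.card_insert_le _ _)
      intro w hw
      obtain ⟨z, -, rfl⟩ := Finset.mem_image.mp hw
      by_cases hz : f z = y
      · exact Finset.mem_insert.mpr (Or.inl hz)
      · exact Finset.mem_insert_of_mem (Finset.mem_image_of_mem f (by simp [hz]))
    have h2 := Finset.card_image_le (f := f) (s := Finset.univ.filter fun z => ¬ f z = y)
    have h3 := Finset.card_filter_add_card_filter_not (s := (Finset.univ : Finset (Fin n)))
      (fun z => f z = y)
    rw [Finset.card_univ, Fintype.card_fin] at h3
    omega
  obtain ⟨⟨m, hm⟩⟩ := Cfsg.Agent.OrderType.s4_solvable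
  refine ⟨⟨m, ?_⟩⟩
  rw [eq_bot_iff]
  intro g hg
  rw [Subgroup.mem_bot]
  refine Subtype.ext (Equiv.Perm.ext fun z => ?_)
  let res : K →* Equiv.Perm {w : Fin n // f w = f z} :=
    { toFun := fun u => (u : Equiv.Perm (Fin n)).subtypePerm fun w => by rw [hinv u u.2 w]
      map_one' := by ext; rfl
      map_mul' := fun u v => by ext; rfl }
  obtain ⟨e⟩ : Nonempty ({w : Fin n // f w = f z} ↪ Fin 4) :=
    Function.Embedding.nonempty_of_card_le (by rw [Fintype.card_fin]; exact hsize _)
  have h1 : (Equiv.Perm.viaEmbeddingHom e).comp res g ∈ derivedSeries (Equiv.Perm (Fin 4)) m :=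
    map_derivedSeries_le_derivedSeries _ m ⟨g, hg, rfl⟩
  rw [hm, Subgroup.mem_bot, MonoidHom.comp_apply] at h1
  have h2 : res g = 1 := Equiv.Perm.viaEmbeddingHom_injective e (h1.trans (map_one _).symm)
  exact congrArg Subtype.val (Equiv.Perm.ext_iff.mp h2 ⟨z, rfl⟩)

end Cfsg.Agent.S4337
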