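import Cfsg.Statements.S4341
import Cfsg.Agent.SylowNumber.Formula
-- import your own Cfsg.Agent.* helpers here

set_option autoImplicit false
open Cfsg Cfsg.Agent

namespace Cfsg.Agent.S4341

/-- Let K be a normal subgroup of a finite group G, p a prime and P a Sylow p-subgroup of G; let N be the normalizer of P ∩ K inside the subgroup PK. Then the number of Sylow p-subgroups of G equals the product of the numbers of Sylow p-subgroups of G/K, of K, and of N/(P ∩ K). (The normality of P ∩ K in N, which always holds, is assumed as a hypothesis so that the quotient can be formed.) -/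
theorem result {G : Type*} [Group G] [Finite G]
    (p : ℕ) [Fact p.Prime] (K : Subgroup G) [K.Normal] (P : Sylow p G) (N : Subgroup G)
    (hN : N = ((P : Subgroup G) ⊔ K) ⊓ Subgroup.normalizer (((P : Subgroup G) ⊓ K : Subgroup G) : Set G))
    [hn : (((P : Subgroup G) ⊓ K).subgroupOf N).Normal] :
    Nat.card (Sylow p G) =
      Nat.card (Sylow p (G ⧸ K)) * Nat.card (Sylow p K) * Nat.card (Sylow p (N ⧸ ((P : Subgroup G) ⊓ K).subgroupOf N)) := by
  rw [SylowNumber.card_sylow_eq_mul P K, SylowNumber.relIndex_normalizer_split P K hN, ← mul_assoc]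
  congr 1
  have hPN : (P : Subgroup G) ≤ N := hN ▸ le_inf le_sup_left
    (Subgroup.le_normalizer.trans ((le_inf le_rfl Subgroup.le_normalizer_of_normal).trans Subgroup.inf_normalizer_le_normalizer_inf))
  rw [((P.subtype hPN).mapSurjective (QuotientGroup.mk'_surjective (((P : Subgroup G) ⊓ K).subgroupOf N))).card_eq_index_normalizer]
  rw [show ∀ S : Sylow p (N ⧸ ((P : Subgroup G) ⊓ K).subgroupOf N), (Subgroup.normalizer (S : Set (N ⧸ ((P : Subgroup G) ⊓ K).subgroupOf N))).index = (Subgroup.normalizer ((S : Subgroup (N ⧸ ((P : Subgroup G) ⊓ K).subgroupOf N)) : Set (N ⧸ ((P : Subgroup G) ⊓ K).subgroupOf N))).index from fun _ => rfl,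
    ← Subgroup.index_comap_of_surjective (f := QuotientGroup.mk' (((P : Subgroup G) ⊓ K).subgroupOf N)) _ (QuotientGroup.mk'_surjective _), Sylow.coe_mapSurjective,
    Subgroup.comap_normalizer_eq_of_surjective _ (QuotientGroup.mk'_surjective _), Subgroup.comap_map_eq,
    QuotientGroup.ker_mk', Sylow.coe_subtype,
    sup_eq_left.mpr (show ((P : Subgroup G) ⊓ K).subgroupOf N ≤ (P : Subgroup G).subgroupOf N from fun x hx => Subgroup.mem_subgroupOf.mpr hx.1),
    ← Subgroup.subgroupOf_normalizer_eq hPN]
  rfl

end Cfsg.Agent.S4341
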