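import Cfsg.Statements.S4342
import Mathlib


set_option autoImplicit false
open Cfsg

namespace Cfsg.Agent.S4342

/-- Let H be a normal subgroup of a finite group G and p a prime not dividing the index of H. Then the number of Sylow p-subgroups of H/Z(H) equals the number of Sylow p-subgroups of G. -/
theorem result {G : Type*} [Group G] [Finite G]
    (p : ℕ) [Fact p.Prime] (H : Subgroup G) [H.Normal] (hp : ¬ p ∣ H.index) :
    Nat.card (Sylow p (H ⧸ Subgroup.center H)) = Nat.card (Sylow p G) := by
  classical
  let f := QuotientGroup.mk' (Subgroup.center H)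
  have hs : Function.Surjective f := QuotientGroup.mk'_surjective _
  have hb1 : Function.Bijective (fun Q : Sylow p H => Q.mapSurjective hs) := by
    refine ⟨fun Q Q' h => ?_, Sylow.mapSurjective_surjective hs p⟩
    have h1 : (Q : Subgroup H).map f = (Q' : Subgroup H).map f := by
      have := congrArg (fun S : Sylow p (H ⧸ Subgroup.center H) => (S : Subgroup (H ⧸ Subgroup.center H))) h
      simpa only [Sylow.coe_mapSurjective] using this
    have h2 : (Q : Subgroup H) ≤ Subgroup.normalizer (Q' : Set H) := by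
      intro q hq
      obtain ⟨q', hq', hqq⟩ := h1 ▸ Subgroup.mem_map_of_mem f hq
      have hk : q'⁻¹ * q ∈ Subgroup.center H := QuotientGroup.eq.mp hqq
      have := Subgroup.mul_mem _ (Subgroup.le_normalizer (H := (Q' : Subgroup H)) hq')
        ((Subgroup.centralizer_le_normalizer _) (Subgroup.center_le_centralizer _ hk))
      rwa [mul_inv_cancel_left] at this
    have h3 := IsPGroup.inf_normalizer_sylow Q.isPGroup' Q'
    rw [inf_eq_left.mpr h2] at h3
    exact Sylow.ext (Q.3 Q'.isPGroup' (h3.le.trans inf_le_right)).symm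
  have hle : ∀ P : Sylow p G, (P : Subgroup G) ≤ H := by
    intro P g hg
    obtain ⟨k, hk⟩ := IsPGroup.iff_orderOf.mp P.isPGroup' ⟨g, hg⟩
    rw [Subgroup.orderOf_mk] at hk
    have h1 : orderOf (g : G ⧸ H) ∣ p ^ k := hk ▸ orderOf_map_dvd (QuotientGroup.mk' H) g
    have h2 : orderOf (g : G ⧸ H) ∣ H.index := Subgroup.index_eq_card H ▸ orderOf_dvd_natCard _
    have h3 : Nat.Coprime (p ^ k) H.index :=
      Nat.Coprime.pow_left k ((Fact.out : p.Prime).coprime_iff_not_dvd.mpr hp)
    exact (QuotientGroup.eq_one_iff g).mp (orderOf_eq_one_iff.mp (Nat.eq_one_of_dvd_coprimes h3 h1 h2))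
  have hb2 : Function.Bijective (fun P : Sylow p G => P.subtype (hle P)) := by
    refine ⟨fun P P' h => ?_, fun Q => ?_⟩
    · have h1 : (P : Subgroup G).subgroupOf H = (P' : Subgroup G).subgroupOf H := by
        rw [← Sylow.coe_subtype P (hle P), ← Sylow.coe_subtype P' (hle P')]
        exact congrArg (fun S : Sylow p H => (S : Subgroup H)) h
      have h2 := congrArg (Subgroup.map H.subtype) h1
      rw [Subgroup.subgroupOf_map_subtype, Subgroup.subgroupOf_map_subtype, inf_eq_left.mpr (hle P),
        inf_eq_left.mpr (hle P')] at h2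
      exact Sylow.ext h2
    · obtain ⟨P, hP⟩ := (Q.isPGroup'.map H.subtype).exists_le_sylow
      refine ⟨P, Sylow.ext (Q.3 (P.subtype (hle P)).isPGroup' ?_)⟩
      rw [Sylow.coe_subtype]
      intro q hq
      exact hP ⟨q, hq, rfl⟩
  rw [← Nat.card_eq_of_bijective _ hb1, ← Nat.card_eq_of_bijective _ hb2]

end Cfsg.Agent.S4342
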