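import Cfsg.Statements.S4343
import Cfsg.Agent.S1009
import Mathlib

/-!
S4343: a simple group with fewer than p² Sylow p-subgroups has Sylow p-subgroups of order p.
Orbits of a Sylow subgroup on the others have length p, so all intersections have index p,
so the Sylow subgroups are elementary abelian and Brodkey's theorem finishes.
-/

set_option autoImplicit false

namespace Cfsg.Agent.S4343

/-- Let S be a finite non-abelian simple group and p a prime dividing its order. If S has fewer than p² Sylow p-subgroups, then its Sylow p-subgroups have order p. -/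
theorem result {S : Type*} [Group S] [Finite S]
    [IsSimpleGroup S] (hS : ¬ IsMulCommutative S) (p : ℕ) [Fact p.Prime] (hp : p ∣ Nat.card S)
    (hn : Nat.card (Sylow p S) < p ^ 2) (P : Sylow p S) : Nat.card P = p := by
  classical
  have hpr : p.Prime := Fact.out
  -- a nontrivial intersection of all Sylow subgroups is impossible
  have hcore : ⨅ R : Sylow p S, (R : Subgroup S) = ⊥ := by
    have hN : (⨅ R : Sylow p S, (R : Subgroup S)).Normal := by
      refine ⟨fun x hx g => ?_⟩
      rw [Subgroup.mem_iInf] at hx ⊢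
      intro R
      have h := hx (g⁻¹ • R)
      rw [Sylow.coe_subgroup_smul, Subgroup.mem_pointwise_smul_iff_inv_smul_mem] at h
      simpa [MulAut.smul_def] using h
    refine (hN.eq_bot_or_eq_top).resolve_right fun htop => hS ?_
    have hP : (P : Subgroup S) = ⊤ := top_le_iff.1 (htop ▸ iInf_le _ P)
    have hpg : IsPGroup p S := P.isPGroup'.of_equiv
      ((MulEquiv.subgroupCongr hP).trans Subgroup.topEquiv)
    haveI : Nontrivial S := IsSimpleGroup.toNontrivial
    haveI := hpg.center_nontrivial
    have hc : Subgroup.center S = ⊤ :=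
      (inferInstance : (Subgroup.center S).Normal).eq_bot_or_eq_top.resolve_left
        ((Subgroup.nontrivial_iff_ne_bot _).1 inferInstance)
    refine ⟨⟨fun a b => ?_⟩⟩
    exact (Subgroup.mem_center_iff.1 (hc ▸ Subgroup.mem_top a) b).symm
  -- every other Sylow subgroup meets `P` in index `p`
  have hidx : ∀ P Q : Sylow p S, P ≠ Q →
      ((Q : Subgroup S).subgroupOf (P : Subgroup S)).index = p := by
    intro P Q hne
    have hst : MulAction.stabilizer ↥(P : Subgroup S) Q = (Q : Subgroup S).subgroupOf P := by
      ext x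
      rw [MulAction.mem_stabilizer_iff]
      change ((x : S) • Q = Q) ↔ _
      rw [Sylow.smul_eq_iff_mem_normalizer, Subgroup.mem_subgroupOf]
      constructor
      · intro hx
        have h : (x : S) ∈ (P : Subgroup S) ⊓ Subgroup.normalizer (Q : Set S) :=
          ⟨x.2, hx⟩
        rw [P.isPGroup'.inf_normalizer_sylow] at h
        exact h.2
      · exact fun hx => Subgroup.le_normalizer hx
    obtain ⟨k, hk⟩ := P.isPGroup'.index ((Q : Subgroup S).subgroupOf P)
    have hle : ((Q : Subgroup S).subgroupOf (P : Subgroup S)).index ≤ Nat.card (Sylow p S) := by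
      rw [← hst, MulAction.index_stabilizer]
      exact Set.ncard_le_card _
    match k, hk with
    | 0, hk =>
      exfalso
      rw [pow_zero, Subgroup.index_eq_one, Subgroup.subgroupOf_eq_top] at hk
      exact hne (Sylow.ext (P.3 Q.2 hk).symm)
    | 1, hk => simpa using hk
    | k + 2, hk =>
      exfalso
      rw [hk] at hle
      have : p ^ 2 ≤ p ^ (k + 2) := Nat.pow_le_pow_right hpr.pos (by omega)
      omega
  have hnormal : ∀ P Q : Sylow p S, P ≠ Q →
      ((Q : Subgroup S).subgroupOf (P : Subgroup S)).Normal := by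
    intro P Q hne
    apply Subgroup.normal_of_index_eq_minFac_card
    rw [hidx P Q hne]
    obtain ⟨k, hk⟩ := IsPGroup.iff_card.1 P.isPGroup'
    rw [hk, hpr.pow_minFac]
    rintro rfl
    have h := Subgroup.index_dvd_card ((Q : Subgroup S).subgroupOf (P : Subgroup S))
    rw [hidx P Q hne, hk] at h
    simp [hpr.ne_one] at h
  have hab : ∀ P : Sylow p S, IsMulCommutative ↥(P : Subgroup S) := by
    intro P
    refine ⟨⟨fun a b => ?_⟩⟩
    have hmem : ((a * b * a⁻¹ * b⁻¹ : ↥(P : Subgroup S)) : S) ∈ ⨅ R : Sylow p S, (R : Subgroup S) := by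
      rw [Subgroup.mem_iInf]
      intro Q
      by_cases hne : P = Q
      · exact hne ▸ (a * b * a⁻¹ * b⁻¹).2
      haveI := hnormal P Q hne
      haveI : IsCyclic (↥(P : Subgroup S) ⧸ (Q : Subgroup S).subgroupOf P) :=
        isCyclic_of_prime_card (p := p) (by rw [← Subgroup.index_eq_card]; exact hidx P Q hne)
      letI := IsCyclic.commGroup (α := ↥(P : Subgroup S) ⧸ (Q : Subgroup S).subgroupOf P)
      rw [← Subgroup.mem_subgroupOf (H := (Q : Subgroup S)), ← QuotientGroup.eq_one_iff]
      push_cast [QuotientGroup.mk_mul, QuotientGroup.mk_inv]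
      simp [mul_comm]
    rw [hcore, Subgroup.mem_bot] at hmem
    have h1 : a * b * a⁻¹ * b⁻¹ = 1 := Subtype.ext hmem
    exact commutatorElement_eq_one_iff_mul_comm.1 h1
  obtain ⟨P', Q', hPQ⟩ := Cfsg.Agent.S1009.result p hab
  rw [hcore] at hPQ
  have hne : P' ≠ Q' := by
    rintro rfl
    rw [inf_idem] at hPQ
    exact Sylow.ne_bot_of_dvd_card P' hp hPQ
  have h := hidx P' Q' hne
  have hb : (Q' : Subgroup S).subgroupOf (P' : Subgroup S) = ⊥ := by
    rw [Subgroup.subgroupOf_eq_bot, disjoint_iff, inf_comm]
    exact hPQ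
  rw [hb, Subgroup.index_bot] at h
  rw [Nat.card_congr (Sylow.equiv P P').toEquiv]
  exact h

end Cfsg.Agent.S4343
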