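import Cfsg.Statements.S4344
import Mathlib


set_option autoImplicit false
open Cfsg

namespace Cfsg.Agent.S4344

/-- Let S be a finite non-abelian simple group, M a maximal subgroup of S and C a cyclic normal subgroup of M. If a Sylow p-subgroup P of S (for a prime p dividing the order of S) is contained in C, then the number of Sylow p-subgroups of S equals the index of M. -/
theorem result {S : Type*} [Group S] [Finite S]
    [IsSimpleGroup S] (hS : ¬ IsMulCommutative S) (p : ℕ) [Fact p.Prime] (hp : p ∣ Nat.card S)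
    (M : Subgroup S) (hM : IsCoatom M) (C : Subgroup S) (hCM : C ≤ M) (hCn : (C.subgroupOf M).Normal)
    (hC : IsCyclic C) (P : Sylow p S) (hP : (P : Subgroup S) ≤ C) :
    Nat.card (Sylow p S) = M.index := by
  have hPM : (P : Subgroup S) ≤ M := hP.trans hCM
  have := hC
  have hPchar : ((P : Subgroup S).subgroupOf C).Characteristic := by
    rw [Subgroup.characteristic_iff_map_le]
    rintro φ _ ⟨y, hy, rfl⟩
    obtain ⟨k, hk⟩ := MonoidHom.map_cyclic φ.toMonoidHom
    rw [hk]
    exact Subgroup.zpow_mem _ hy k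
  have hN : M ≤ Subgroup.normalizer ((P : Subgroup S) : Set S) := by
    intro m hm
    refine Subgroup.mem_normalizer_fintype fun y hy => ?_
    have hconj : ∀ c ∈ C, m * c * m⁻¹ ∈ C := fun c hc =>
      hCn.conj_mem ⟨c, hCM hc⟩ hc ⟨m, hm⟩
    have hconj' : ∀ c ∈ C, m⁻¹ * c * m ∈ C := fun c hc => by
      have h := hCn.conj_mem ⟨c, hCM hc⟩ hc ⟨m⁻¹, M.inv_mem hm⟩
      rw [Subgroup.mem_subgroupOf] at h
      simpa using h
    let φ : C ≃* C :=
      { toFun := fun c => ⟨m * c * m⁻¹, hconj c c.2⟩
        invFun := fun c => ⟨m⁻¹ * c * m, hconj' c c.2⟩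
        left_inv := fun c => Subtype.ext (by group)
        right_inv := fun c => Subtype.ext (by group)
        map_mul' := fun a b => Subtype.ext (by simp only [Subgroup.coe_mul]; group) }
    exact Subgroup.characteristic_iff_map_le.mp hPchar φ ⟨⟨y, hP hy⟩, hy, rfl⟩
  rcases eq_or_lt_of_le hN with h | h
  · exact h.symm ▸ Sylow.card_eq_index_normalizer P
  exfalso
  have htop := hM.2 _ h
  have hn : (P : Subgroup S).Normal := Subgroup.normalizer_eq_top_iff.mp htop
  rcases hn.eq_bot_or_eq_top with hb | ht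
  · exact P.ne_bot_of_dvd_card hp hb
  · exact hM.1 (top_le_iff.mp (ht.symm.le.trans hPM))

end Cfsg.Agent.S4344
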