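import Cfsg.Statements.S4345
import Cfsg.Agent.SylowNumber.Induction
-- import your own Cfsg.Agent.* helpers here

set_option autoImplicit false
open Cfsg

namespace Cfsg.Agent.S4345

/-- Let G be a finite solvable group and p, ℓ primes. Then the largest power of ℓ dividing the number of Sylow p-subgroups of G is congruent to 1 modulo p. -/
theorem result {G : Type*} [Group G] [Finite G]
    (hG : Group.IsSolvable G) (p ℓ : ℕ) [Fact p.Prime] (hℓ : ℓ.Prime) :
    ℓ ^ (Nat.card (Sylow p G)).factorization ℓ ≡ 1 [MOD p] := by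
  refine (Cfsg.Agent.SylowNumber.sylow_number_induction (p := p)
    (fun n => n ≠ 0 ∧ ℓ ^ n.factorization ℓ ≡ 1 [MOD p])
    (fun H _ => Group.IsSolvable H) ⟨one_ne_zero, by rw [Nat.factorization_one]; rfl⟩ ?_ ?_ ?_ ?_ ?_ G hG).2
  · rintro a b ⟨ha, h1⟩ ⟨hb, h2⟩
    refine ⟨mul_ne_zero ha hb, ?_⟩
    rw [Nat.factorization_mul ha hb, Finsupp.add_apply, pow_add]
    exact h1.mul h2
  · intro r k hr hk hmod
    refine ⟨pow_ne_zero _ hr.ne_zero, ?_⟩
    rcases eq_or_ne r ℓ with rfl | hne
    · rwa [Nat.factorization_pow_self hr]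
    · rw [hr.factorization_pow, Finsupp.single_eq_of_ne hne.symm, pow_zero]
  · intro H _ S hH
    exact inferInstance
  · intro H _ S _ hH
    exact Group.isSolvable_of_surjective (QuotientGroup.mk'_surjective S)
  · intro H _ _ hsi hH
    have hcomm := IsSimpleGroup.comm_iff_isSolvable.mpr hH
    have hnor : ((default : Sylow p H) : Subgroup H).Normal :=
      ⟨fun n hn g => by rw [hcomm g n, mul_assoc, mul_inv_cancel, mul_one]; exact hn⟩
    have := Sylow.unique_of_normal (default : Sylow p H) hnor
    rw [Nat.card_unique]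
    exact ⟨one_ne_zero, by rw [Nat.factorization_one]; rfl⟩

end Cfsg.Agent.S4345
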