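import Cfsg.Statements.S4347
import Mathlib


set_option autoImplicit false
open Cfsg
open scoped Pointwise

namespace Cfsg.Agent.S4347

/-- Let G be a finite group and p a prime. Say a Sylow p-subgroup Q is redundant when every element of p-power order lies in some Sylow p-subgroup other than Q. Then G has no redundant Sylow p-subgroup if and only if some element of p-power order lies in exactly one Sylow p-subgroup. -/
theorem result {G : Type*} [Group G] [Finite G]
    (p : ℕ) [Fact p.Prime] :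
    (¬ ∃ Q : Sylow p G, ∀ x : G, (∃ k : ℕ, orderOf x = p ^ k) → ∃ P : Sylow p G, P ≠ Q ∧ x ∈ P) ↔
      ∃ x : G, (∃ k : ℕ, orderOf x = p ^ k) ∧ ∃! P : Sylow p G, x ∈ P := by
  constructor
  · intro hno
    obtain ⟨Q⟩ : Nonempty (Sylow p G) := inferInstance
    push Not at hno
    obtain ⟨x, hx, hall⟩ := hno Q
    refine ⟨x, hx, Q, ?_, fun P hP => by_contra fun hne => hall P hne hP⟩
    obtain ⟨k, hk⟩ := hx
    obtain ⟨P, hP⟩ := (IsPGroup.of_card (p := p) (n := k)
      (by rw [Nat.card_zpowers, hk]) : IsPGroup p (Subgroup.zpowers x)).exists_le_sylow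
    have hxP : x ∈ P := hP (Subgroup.mem_zpowers x)
    have : P = Q := by_contra fun hne => hall P hne hxP
    exact this ▸ hxP
  · rintro ⟨x, ⟨k, hk⟩, P0, hP0, huniq⟩ ⟨Q, hQ⟩
    obtain ⟨g, rfl⟩ := MulAction.exists_smul_eq G P0 Q
    obtain ⟨P, hne, hP⟩ := hQ (g * x * g⁻¹) ⟨k, by
      rw [show g * x * g⁻¹ = MulAut.conj g x from rfl, MulEquiv.orderOf_eq, hk]⟩
    have h1 : x ∈ g⁻¹ • P := by
      have := Subgroup.smul_mem_pointwise_smul _ (MulAut.conj g⁻¹) (P : Subgroup G) hP
      show x ∈ ((g⁻¹ • P : Sylow p G) : Subgroup G)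
      rw [Sylow.coe_subgroup_smul]
      simpa [MulAut.smul_def, mul_assoc] using this
    exact hne (inv_smul_eq_iff.mp (huniq _ h1))

end Cfsg.Agent.S4347
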