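import Cfsg.Statements.S4348
import Cfsg.Agent.Core.PCore


set_option autoImplicit false
open Cfsg

namespace Cfsg.Agent.S4348

/-- Let G be a finite group, p a prime and P a Sylow p-subgroup of G, and let O_p(G) be the largest normal p-subgroup of G. If P/O_p(G) is cyclic, then some element of p-power order of G lies in exactly one Sylow p-subgroup. -/
theorem result {G : Type*} [Group G] [Finite G]
    (p : ℕ) [Fact p.Prime] (P : Sylow p G)
    [hn : ((Cfsg.pCore p G).subgroupOf (P : Subgroup G)).Normal]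
    (hc : IsCyclic ((P : Subgroup G) ⧸ (Cfsg.pCore p G).subgroupOf (P : Subgroup G))) :
    ∃ x : G, (∃ k : ℕ, orderOf x = p ^ k) ∧ ∃! Q : Sylow p G, x ∈ Q := by
  obtain ⟨q, hq⟩ := hc.exists_generator
  obtain ⟨x, rfl⟩ := QuotientGroup.mk_surjective q
  obtain ⟨k, hk⟩ := IsPGroup.iff_orderOf.mp P.isPGroup' x
  refine ⟨x, ⟨k, by rw [Subgroup.orderOf_coe]; exact hk⟩, P, x.2, fun Q hQ => ?_⟩
  apply Sylow.ext
  refine (P.3 Q.isPGroup' ?_)
  intro y hy
  obtain ⟨i, hi⟩ := Subgroup.mem_zpowers_iff.mp (hq (⟨y, hy⟩ : (P : Subgroup G)))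
  have h1 : ((x : (P : Subgroup G)) ^ i)⁻¹ * ⟨y, hy⟩ ∈ (Cfsg.pCore p G).subgroupOf (P : Subgroup G) :=
    QuotientGroup.eq.mp (by rw [← hi]; rfl)
  have h2 : ((x : G) ^ i)⁻¹ * y ∈ Cfsg.pCore p G := h1
  have h3 : Cfsg.pCore p G ≤ (Q : Subgroup G) := Cfsg.Agent.Core.pCore_le_sylow Q
  have h4 := Subgroup.mul_mem _ (Subgroup.zpow_mem _ hQ i) (h3 h2)
  rwa [mul_inv_cancel_left] at h4

end Cfsg.Agent.S4348
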