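import Cfsg.Statements.S4349

set_option autoImplicit false
open Cfsg

namespace Cfsg.Agent.S4349

open Equiv Equiv.Perm Function
open scoped Nat

variable {α : Type*} [Fintype α] [DecidableEq α]

/-- `z` is a fixed-point-free involution commuting with `x`. -/
def Pairing (x z : Perm α) : Prop := (∀ a, z (z a) = a) ∧ (∀ a, z a ≠ a) ∧ ∀ a, z (x a) = x (z a)

/-- At most two fixed points, and moved points with equal stabilisers share a cycle. -/
def Good (x : Perm α) : Prop :=
  (∀ a b c, x a = a → x b = b → x c = c → a = b ∨ a = c ∨ b = c) ∧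
  ∀ a b, x a ≠ a → x b ≠ b → (∀ k : ℕ, (x ^ k) a = a ↔ (x ^ k) b = b) → x.SameCycle a b

theorem pow_apply_comm {x z : Perm α} (h : ∀ a, z (x a) = x (z a)) (k : ℕ) (a : α) :
    z ((x ^ k) a) = (x ^ k) (z a) := by
  induction k with
  | zero => rfl
  | succ k ih => rw [pow_succ', mul_apply, mul_apply, h, ih]

theorem pow_fix_iff (x : Perm α) (a : α) (k : ℕ) :
    (x ^ k) a = a ↔ minimalPeriod x a ∣ k := by
  rw [← isPeriodicPt_iff_minimalPeriod_dvd, IsPeriodicPt, IsFixedPt, Equiv.Perm.iterate_eq_pow]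

theorem two_dvd_period {x : Perm α} (hx : ∃ k : ℕ, x ^ 2 ^ k = 1) {a : α} (ha : x a ≠ a) :
    2 ∣ minimalPeriod x a := by
  obtain ⟨k, hk⟩ := hx
  obtain ⟨j, -, hj⟩ := (Nat.dvd_prime_pow Nat.prime_two).1
    ((pow_fix_iff x a (2 ^ k)).1 (by rw [hk]; rfl))
  rcases j with _ | j
  · exact absurd ((pow_fix_iff x a 1).2 (hj ▸ dvd_refl _)) (by rwa [pow_one])
  · rw [hj, pow_succ]; exact Dvd.intro_left _ rfl

/-- In its cycle, a point has only one partner. -/
theorem half_turn {x z : Perm α} (hz : Pairing x z) {a : α} (hs : x.SameCycle a (z a)) :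
    ∃ l : ℕ, minimalPeriod x a = 2 * l ∧ z a = (x ^ l) a := by
  obtain ⟨i, -, hi⟩ := hs.exists_pow_eq'
  obtain ⟨L, hL⟩ : ∃ L, L = minimalPeriod x a := ⟨_, rfl⟩
  have hLp : 0 < L := by
    rw [hL]
    refine IsPeriodicPt.minimalPeriod_pos (n := orderOf x) (orderOf_pos x) ?_
    rw [IsPeriodicPt, IsFixedPt, Equiv.Perm.iterate_eq_pow, pow_orderOf_eq_one]; rfl
  have hmod : (x ^ (i % L)) a = (x ^ i) a := by
    conv_rhs => rw [← Nat.mod_add_div i L, pow_add, mul_apply,
      (pow_fix_iff x a (L * (i / L))).2 (hL ▸ Dvd.intro _ rfl)]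
  have h2 : L ∣ 2 * (i % L) := by
    rw [hL]; refine (pow_fix_iff x a _).1 ?_
    rw [← hL, two_mul, pow_add, mul_apply, hmod, hi, ← pow_apply_comm hz.2.2, hmod, hi, hz.1]
  have h0 : i % L ≠ 0 := fun e => hz.2.1 a (by rw [← hi, ← hmod, e]; rfl)
  have hlt := Nat.mod_lt i hLp
  obtain ⟨c, hc⟩ := h2
  have hc1 : c = 1 := by
    rcases Nat.lt_trichotomy c 1 with h | h | h
    · exfalso; rw [show c = 0 by omega, mul_zero] at hc; omega
    · exact h
    · exfalso
      have : L * 2 ≤ L * c := Nat.mul_le_mul_left L h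
      omega
  refine ⟨i % L, ?_, by rw [hmod, hi]⟩
  rw [← hL, hc, hc1, mul_one]

theorem pairing_unique {x z z' : Perm α} (hg : Good x) (hz : Pairing x z) (hz' : Pairing x z') :
    z = z' := by
  refine Equiv.ext fun a => ?_
  by_cases ha : x a = a
  · rcases hg.1 a (z a) (z' a) ha (by rw [← hz.2.2, ha]) (by rw [← hz'.2.2, ha]) with h | h | h
    · exact absurd h.symm (hz.2.1 a)
    · exact absurd h.symm (hz'.2.1 a)
    · exact h
  · have key : ∀ w : Perm α, Pairing x w → x.SameCycle a (w a) := fun w hw =>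
      hg.2 a (w a) ha (fun e => ha (w.injective (by rw [hw.2.2, e])))
        fun k => by rw [← pow_apply_comm hw.2.2, w.injective.eq_iff]
    obtain ⟨l, hl, hl'⟩ := half_turn hz (key z hz)
    obtain ⟨m, hm, hm'⟩ := half_turn hz' (key z' hz')
    rw [hl', hm', show l = m by omega]

/-- A second pairing when the condition fails. -/
theorem exists_second {x z : Perm α} (hg : ¬ Good x) (hz : Pairing x z) :
    ∃ z', Pairing x z' ∧ z' ≠ z := by
  have conj : ∀ c : Perm α, (∀ a, c (x a) = x (c a)) → Pairing x (c * z * c⁻¹) := by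
    intro c hc
    have hc' : ∀ a, c⁻¹ (x a) = x (c⁻¹ a) := fun a => c.injective (by
      rw [Perm.coe_inv, Equiv.apply_symm_apply, hc, Equiv.apply_symm_apply])
    refine ⟨fun a => ?_, fun a e => hz.2.1 (c⁻¹ a) (c.injective ?_), fun a => ?_⟩
    · simp [hz.1]
    · simpa using e
    · rw [mul_apply, mul_apply, mul_apply, mul_apply, hc', hz.2.2, hc]
  by_cases h3 : ∀ a b c, x a = a → x b = b → x c = c → a = b ∨ a = c ∨ b = c
  · have h2 : ¬ ∀ a b, x a ≠ a → x b ≠ b → (∀ k : ℕ, (x ^ k) a = a ↔ (x ^ k) b = b) → x.SameCycle a b :=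
      fun h => hg ⟨h3, h⟩
    push Not at h2
    obtain ⟨a, b, ha, hb, hab, hns⟩ := h2
    by_cases hout : ∀ d, x d ≠ d → x.SameCycle d (z d)
    · -- exchange the two cycles
      have tr : ∀ i j : ℕ, (x ^ i) a = (x ^ j) a ↔ (x ^ i) b = (x ^ j) b := by
        have key : ∀ i j : ℕ, i ≤ j → ((x ^ i) a = (x ^ j) a ↔ (x ^ i) b = (x ^ j) b) := by
          intro i j hij
          obtain ⟨k, rfl⟩ := Nat.exists_eq_add_of_le hij
          rw [pow_add, mul_apply, mul_apply, (x ^ i).injective.eq_iff, (x ^ i).injective.eq_iff,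
            eq_comm, hab k, eq_comm]
        intro i j
        rcases le_total i j with h | h
        · exact key i j h
        · rw [eq_comm, key j i h, eq_comm]
      classical
      let f : α → α := fun p =>
        if h : ∃ i : ℕ, (x ^ i) a = p then (x ^ Nat.find h) b
        else if h' : ∃ i : ℕ, (x ^ i) b = p then (x ^ Nat.find h') a else z p
      have notboth : ∀ i j : ℕ, (x ^ i) a ≠ (x ^ j) b := fun i j e => hns (by
        have h1 : x.SameCycle a ((x ^ i) a) := sameCycle_pow_right.2 (SameCycle.refl _ _)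
        rw [e] at h1
        exact sameCycle_pow_right.1 h1)
      have fA : ∀ i : ℕ, f ((x ^ i) a) = (x ^ i) b := fun i => by
        have h : ∃ j : ℕ, (x ^ j) a = (x ^ i) a := ⟨i, rfl⟩
        simp only [f, dif_pos h]
        exact (tr _ _).1 (Nat.find_spec h)
      have fB : ∀ i : ℕ, f ((x ^ i) b) = (x ^ i) a := fun i => by
        have h0 : ¬ ∃ j : ℕ, (x ^ j) a = (x ^ i) b := fun ⟨j, hj⟩ => notboth j i hj
        have h : ∃ j : ℕ, (x ^ j) b = (x ^ i) b := ⟨i, rfl⟩
        simp only [f, dif_neg h0, dif_pos h]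
        exact (tr _ _).2 (Nat.find_spec h)
      have fC : ∀ p, (¬ ∃ i : ℕ, (x ^ i) a = p) → (¬ ∃ i : ℕ, (x ^ i) b = p) → f p = z p :=
        fun p h h' => by simp only [f, dif_neg h, dif_neg h']
      have back : ∀ d, x d ≠ d → ∀ p, (∃ i : ℕ, (x ^ i) d = z p) → ∃ i : ℕ, (x ^ i) d = p := by
        rintro d hd p ⟨i, hi⟩
        obtain ⟨l, -, hl⟩ := half_turn hz (hout d hd)
        refine ⟨i + l, ?_⟩
        rw [pow_add, mul_apply, ← hl, ← pow_apply_comm hz.2.2, hi, hz.1]
      have stepd : ∀ d p, (∃ i : ℕ, (x ^ i) d = x p) → ∃ i : ℕ, (x ^ i) d = p := by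
        rintro d p ⟨i, hi⟩
        have hord : 0 < orderOf x := orderOf_pos x
        refine ⟨(orderOf x - 1) + i, ?_⟩
        rw [pow_add, mul_apply, hi, ← mul_apply, ← pow_succ, Nat.sub_add_cancel hord, pow_orderOf_eq_one]
        rfl
      have cases3 : ∀ p, (∃ i : ℕ, (x ^ i) a = p) ∨ (∃ i : ℕ, (x ^ i) b = p) ∨
          ((¬ ∃ i : ℕ, (x ^ i) a = p) ∧ ¬ ∃ i : ℕ, (x ^ i) b = p) := fun p => by tauto
      have hinv : Involutive f := by
        intro p
        rcases cases3 p with ⟨i, rfl⟩ | ⟨i, rfl⟩ | ⟨h, h'⟩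
        · rw [fA, fB]
        · rw [fB, fA]
        · rw [fC p h h', fC (z p) (fun e => h (back a ha p e)) (fun e => h' (back b hb p e)), hz.1]
      refine ⟨hinv.toPerm f, ⟨fun p => hinv p, fun p => ?_, fun p => ?_⟩, fun e => ?_⟩
      · show f p ≠ p
        rcases cases3 p with ⟨i, rfl⟩ | ⟨i, rfl⟩ | ⟨h, h'⟩
        · rw [fA]; exact fun e => notboth i i e.symm
        · rw [fB]; exact notboth i i
        · rw [fC p h h']; exact hz.2.1 p
      · show f (x p) = x (f p)
        rcases cases3 p with ⟨i, rfl⟩ | ⟨i, rfl⟩ | ⟨h, h'⟩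
        · rw [fA, ← mul_apply, ← pow_succ', fA, pow_succ', mul_apply]
        · rw [fB, ← mul_apply, ← pow_succ', fB, pow_succ', mul_apply]
        · rw [fC p h h', fC (x p) (fun e => h (stepd a p e)) (fun e => h' (stepd b p e)), hz.2.2]
      · obtain ⟨i, hi⟩ := (hout a ha).exists_nat_pow_eq
        have h1 : f a = z a := congrArg (fun g : Perm α => g a) e
        have h2 : f a = b := by
          have := fA 0
          simpa using this
        refine notboth i 0 ?_
        rw [hi, ← h1, h2]; rfl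
    · push Not at hout
      obtain ⟨d, hd, hd'⟩ := hout
      refine ⟨cycleOf x d * z * (cycleOf x d)⁻¹, conj _ (fun p => ?_), fun e => ?_⟩
      · by_cases h : x.SameCycle d p
        · rw [h.cycleOf_apply, (sameCycle_apply_right.2 h).cycleOf_apply]
        · rw [cycleOf_apply_of_not_sameCycle h,
            cycleOf_apply_of_not_sameCycle (fun h' => h (sameCycle_apply_right.1 h'))]
      · have h1 := congrArg (fun g : Perm α => g (x d)) e
        simp only [mul_apply] at h1
        have e1 : (cycleOf x d)⁻¹ (x d) = d := (cycleOf x d).injective (by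
          rw [Perm.coe_inv, Equiv.apply_symm_apply, cycleOf_apply_self])
        rw [e1, cycleOf_apply_of_not_sameCycle hd', hz.2.2] at h1
        exact hd (z.injective (by rw [hz.2.2, ← h1]))
  · push Not at h3
    obtain ⟨a, b, c, ha, hb, hc, hab, hac, hbc⟩ := h3
    obtain ⟨q, hq, hqa, hqz⟩ : ∃ q, x q = q ∧ q ≠ a ∧ q ≠ z a := by
      by_cases h : z a = b
      · exact ⟨c, hc, hac.symm, fun e => hbc (h ▸ e.symm)⟩
      · exact ⟨b, hb, hab.symm, fun e => h e.symm⟩
    have hza : x (z a) = z a := by rw [← hz.2.2, ha]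
    refine ⟨swap (z a) q * z * (swap (z a) q)⁻¹, conj _ (fun p => ?_), fun e => ?_⟩
    · rw [x.injective.swap_apply (z a) q p |>.symm, hza, hq]
    · have h1 := congrArg (fun g : Perm α => g a) e
      simp only [mul_apply, swap_inv] at h1
      rw [swap_apply_of_ne_of_ne (hz.2.1 a).symm hqa.symm, swap_apply_left] at h1
      exact hqz h1

/-! ### The quotient by a pairing -/

section Quot

variable {z : Perm α} (hz : Pairing (1 : Perm α) z)

/-- The setoid of pairs. -/
def pairSetoid : Setoid α where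
  r a b := b = a ∨ b = z a
  iseqv := ⟨fun _ => Or.inl rfl,
    fun {a b} h => by rcases h with h | h <;> subst h <;> first | exact Or.inl rfl | exact Or.inr (hz.1 a).symm,
    fun {a b c} h h' => by
      rcases h with h | h <;> rcases h' with h' | h' <;> subst h <;> subst h' <;>
        first | exact Or.inl rfl | exact Or.inr rfl | exact Or.inl (hz.1 a)⟩

/-- The set of pairs. -/
abbrev Pairs := Quotient (pairSetoid hz)

theorem comm_of_mem {g : Perm α} (hg : g ∈ Subgroup.centralizer ({z} : Set (Perm α))) (a : α) :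
    z (g a) = g (z a) := by
  rw [← mul_apply, ← mul_apply, Subgroup.mem_centralizer_singleton_iff.1 hg]

/-- The action on pairs. -/
def onPairs : Subgroup.centralizer ({z} : Set (Perm α)) →* Perm (Pairs hz) where
  toFun g := Quotient.congr (g : Perm α) (fun a b => by
    show (b = a ∨ b = z a) ↔ ((g : Perm α) b = (g : Perm α) a ∨ (g : Perm α) b = z ((g : Perm α) a))
    rw [comm_of_mem g.2, (g : Perm α).injective.eq_iff, (g : Perm α).injective.eq_iff])
  map_one' := Equiv.ext fun q => Quotient.inductionOn q fun a => rfl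
  map_mul' g h := Equiv.ext fun q => Quotient.inductionOn q fun a => rfl

theorem onPairs_mk (g : Subgroup.centralizer ({z} : Set (Perm α))) (a : α) :
    onPairs hz g (Quotient.mk _ a) = Quotient.mk _ ((g : Perm α) a) := rfl

theorem mk_eq (a b : α) :
    (Quotient.mk (pairSetoid hz) a = Quotient.mk _ b) ↔ (b = a ∨ b = z a) :=
  ⟨fun h => Quotient.exact h, fun h => Quotient.sound h⟩

/-- Points are pairs with a side. -/
noncomputable def pairEquiv : α ≃ Pairs hz × Bool := by
  classical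
  refine Equiv.ofBijective (fun a => (Quotient.mk _ a, decide ((Quotient.mk (pairSetoid hz) a).out = a))) ⟨?_, ?_⟩
  · intro a b h
    obtain ⟨h1, h2⟩ := Prod.ext_iff.1 h
    simp only [decide_eq_decide] at h1 h2
    rw [← h1] at h2
    by_cases e : (Quotient.mk (pairSetoid hz) a).out = a
    · exact e.symm.trans (h2.1 e)
    · rcases (mk_eq hz a b).1 h1 with h3 | h3
      · exact h3.symm
      · exfalso
        rcases (mk_eq hz a (Quotient.mk (pairSetoid hz) a).out).1 (Quotient.out_eq _).symm with h4 | h4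
        · exact e h4
        · exact e (h2.2 (by rw [h4, h3]))
  · rintro ⟨q, _ | _⟩
    · refine ⟨z q.out, ?_⟩
      have h1 : Quotient.mk (pairSetoid hz) (z q.out) = q := by
        conv_rhs => rw [← Quotient.out_eq q]
        exact (mk_eq hz _ _).2 (Or.inr (hz.1 _).symm)
      simp only [h1, Prod.mk.injEq, decide_eq_false_iff_not, true_and]
      exact fun e => hz.2.1 _ e.symm
    · refine ⟨q.out, ?_⟩
      simp only [Quotient.out_eq, decide_true]

theorem pairEquiv_apply (a : α) :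
    (pairEquiv hz a).1 = Quotient.mk _ a := rfl

theorem pairEquiv_z (a : α) :
    pairEquiv hz (z a) = ((pairEquiv hz a).1, !(pairEquiv hz a).2) := by
  have h1 : (pairEquiv hz (z a)).1 = (pairEquiv hz a).1 := by
    rw [pairEquiv_apply, pairEquiv_apply]; exact (mk_eq hz _ _).2 (Or.inr (hz.1 a).symm)
  refine Prod.ext h1 ?_
  have h2 : (pairEquiv hz (z a)).2 ≠ (pairEquiv hz a).2 := fun h =>
    hz.2.1 a ((pairEquiv hz).injective (Prod.ext h1 h))
  revert h2
  cases (pairEquiv hz (z a)).2 <;> cases (pairEquiv hz a).2 <;> simp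

theorem onPairs_surjective : Surjective (onPairs hz) := by
  intro σ
  obtain ⟨g, hg⟩ : ∃ g : Perm α, ∀ a, pairEquiv hz (g a) = (σ (pairEquiv hz a).1, (pairEquiv hz a).2) :=
    ⟨(pairEquiv hz).trans ((Equiv.prodCongr σ (Equiv.refl Bool)).trans (pairEquiv hz).symm),
      fun a => (pairEquiv hz).apply_symm_apply _⟩
  have hmem : g ∈ Subgroup.centralizer ({z} : Set (Perm α)) := by
    rw [Subgroup.mem_centralizer_singleton_iff]
    refine Equiv.ext fun a => (pairEquiv hz).injective ?_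
    rw [mul_apply, mul_apply]
    simp only [hg, pairEquiv_z]
  refine ⟨⟨g, hmem⟩, Equiv.ext fun q => Quotient.inductionOn q fun a => ?_⟩
  rw [onPairs_mk, ← pairEquiv_apply hz (g a), hg, pairEquiv_apply]

theorem card_pairs [Fintype (Pairs hz)] : Fintype.card α = 2 * Fintype.card (Pairs hz) := by
  rw [Fintype.card_congr (pairEquiv hz), Fintype.card_prod, Fintype.card_bool, mul_comm]

theorem ker_isPGroup : IsPGroup 2 (onPairs hz).ker := by
  rintro ⟨⟨g, hg⟩, hk⟩
  refine ⟨1, Subtype.ext (Subtype.ext (Equiv.ext fun a => ?_))⟩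
  have h1 := Equiv.ext_iff.1 (MonoidHom.mem_ker.1 hk) (Quotient.mk _ a)
  rw [onPairs_mk, Perm.one_apply, mk_eq] at h1
  show (g ^ 2 ^ 1) a = a
  rw [pow_one, pow_two, mul_apply]
  rcases h1 with h1 | h1
  · rw [← h1, ← h1]
  · have e : g a = z a := by conv_rhs => rw [h1, hz.1]
    show g (g a) = a
    rw [e, ← comm_of_mem hg a, e, hz.1]

include hz in
theorem swap_mem_centralizer (a : α) :
    swap a (z a) ∈ Subgroup.centralizer ({z} : Set (Perm α)) := by
  rw [Subgroup.mem_centralizer_singleton_iff]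
  refine Equiv.ext fun p => ?_
  rw [mul_apply, mul_apply, z.injective.swap_apply a (z a) p |>.symm, hz.1, swap_comm (z a) a]

theorem swap_mem_ker (a : α) :
    (⟨swap a (z a), swap_mem_centralizer hz a⟩ : Subgroup.centralizer ({z} : Set (Perm α))) ∈
      (onPairs hz).ker := by
  rw [MonoidHom.mem_ker]
  refine Equiv.ext fun q => Quotient.inductionOn q fun p => ?_
  rw [onPairs_mk, Perm.one_apply, mk_eq]
  by_cases h1 : p = a
  · subst h1; right; rw [swap_apply_left, hz.1]
  · by_cases h2 : p = z a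
    · subst h2; right; rw [swap_apply_right]
    · left; rw [swap_apply_of_ne_of_ne h1 h2]

include hz in
theorem pairing_iff (x : Perm α) :
    Pairing x z ↔ x ∈ Subgroup.centralizer ({z} : Set (Perm α)) :=
  ⟨fun h => Subgroup.mem_centralizer_singleton_iff.2 (Equiv.ext fun a => (h.2.2 a).symm),
    fun h => ⟨hz.1, hz.2.1, fun a => comm_of_mem h a⟩⟩

include hz in
/-- The centraliser of a pairing has odd index. -/
theorem factorization_centralizer :
    (Nat.card (Subgroup.centralizer ({z} : Set (Perm α)))).factorization 2 =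
      (Nat.card (Perm α)).factorization 2 := by
  haveI : Fintype (Pairs hz) := Fintype.ofFinite _
  obtain ⟨m, hn⟩ : ∃ m, Fintype.card α = 2 * m := ⟨_, card_pairs hz⟩
  rw [nat_card_centralizer, Nat.card_perm, Nat.card_eq_fintype_card, hn]
  have hsupp : z.support = Finset.univ := by
    ext a; simp [Perm.mem_support, hz.2.1 a]
  rcases Nat.eq_zero_or_pos m with rfl | hm
  · have h1 : z = 1 := by
      haveI : IsEmpty α := Fintype.card_eq_zero_iff.1 (by rw [hn])
      exact Subsingleton.elim _ _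
    subst h1
    simp
  have h2 : orderOf z = 2 := by
    obtain ⟨a⟩ : Nonempty α := Fintype.card_pos_iff.1 (by omega)
    exact orderOf_eq_prime (Equiv.ext fun a => by rw [pow_two, mul_apply, hz.1, one_apply])
      fun e => hz.2.1 a (by rw [e, one_apply])
  obtain ⟨k, hk⟩ := cycleType_prime_order (σ := z) (by rw [h2]; exact Nat.prime_two)
  rw [h2] at hk
  have hs := sum_cycleType z
  rw [hk, Multiset.sum_replicate, hsupp, Finset.card_univ, hn, smul_eq_mul] at hs
  obtain rfl : m = k + 1 := by omega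
  rw [hk, Multiset.sum_replicate, Multiset.prod_replicate, Multiset.toFinset_replicate, if_neg (by omega),
    Finset.prod_singleton, Multiset.count_replicate_self, smul_eq_mul, mul_comm (k + 1) 2, Nat.sub_self,
    Nat.factorial_zero, one_mul, Nat.factorization_mul (by positivity) (Nat.factorial_ne_zero _),
    Finsupp.add_apply, Nat.Prime.factorization_pow Nat.prime_two, Finsupp.single_eq_same,
    Nat.factorization_def _ Nat.prime_two, Nat.factorization_def _ Nat.prime_two]
  haveI : Fact (Nat.Prime 2) := ⟨Nat.prime_two⟩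
  rw [padicValNat_factorial_mul]
  ring

end Quot

/-- Push a Sylow subgroup forward along an injective map with image of odd index. -/
theorem exists_map_sylow {H G : Type*} [Group H] [Group G] [Finite H] [Finite G] (f : H →* G)
    (hf : Injective f) (he : (Nat.card H).factorization 2 = (Nat.card G).factorization 2) (T : Sylow 2 H) :
    ∃ S : Sylow 2 G, (S : Subgroup G) = (T : Subgroup H).map f := by
  haveI : Fact (Nat.Prime 2) := ⟨Nat.prime_two⟩
  exact ⟨Sylow.ofCard ((T : Subgroup H).map f) (by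
    rw [← Nat.card_congr (Subgroup.equivMapOfInjective _ f hf).toEquiv, T.card_eq_multiplicity, he]), rfl⟩

/-- A Sylow subgroup centralises a pairing as soon as there is one. -/
theorem exists_pairing {z₀ : Perm α} (hz₀ : Pairing (1 : Perm α) z₀) (P : Sylow 2 (Perm α)) :
    ∃ z, Pairing (1 : Perm α) z ∧ (P : Subgroup (Perm α)) ≤ Subgroup.centralizer ({z} : Set (Perm α)) := by
  haveI : Fact (Nat.Prime 2) := ⟨Nat.prime_two⟩
  obtain ⟨T⟩ : Nonempty (Sylow 2 (Subgroup.centralizer ({z₀} : Set (Perm α)))) := inferInstance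
  obtain ⟨S, hS⟩ := exists_map_sylow (Subgroup.centralizer ({z₀} : Set (Perm α))).subtype
    (Subgroup.subtype_injective _) (factorization_centralizer hz₀) T
  obtain ⟨g, hg⟩ := MulAction.exists_smul_eq (Perm α) S P
  refine ⟨g * z₀ * g⁻¹, ⟨fun a => ?_, fun a e => hz₀.2.1 (g⁻¹ a) (g.injective ?_), fun a => rfl⟩, ?_⟩
  · simp [hz₀.1]
  · simpa using e
  · rw [← hg, Sylow.coe_subgroup_smul]
    intro w hw
    rw [Subgroup.mem_smul_pointwise_iff_exists] at hw
    obtain ⟨v, hv, rfl⟩ := hw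
    rw [hS] at hv
    obtain ⟨v, -, rfl⟩ := hv
    rw [Subgroup.mem_centralizer_singleton_iff, MulAut.smul_def, MulAut.conj_apply, Subgroup.coe_subtype]
    calc g * (v : Perm α) * g⁻¹ * (g * z₀ * g⁻¹) = g * ((v : Perm α) * z₀) * g⁻¹ := by group
      _ = g * (z₀ * (v : Perm α)) * g⁻¹ := by rw [Subgroup.mem_centralizer_singleton_iff.1 v.2]
      _ = g * z₀ * g⁻¹ * (g * (v : Perm α) * g⁻¹) := by group

theorem ker_le {z : Perm α} (hz : Pairing (1 : Perm α) z) (P : Sylow 2 (Perm α))
    (hP : (P : Subgroup (Perm α)) ≤ Subgroup.centralizer ({z} : Set (Perm α))) :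
    (onPairs hz).ker ≤ (P.subtype hP).toSubgroup :=
  (ker_isPGroup hz).le_sylow_of_normal _

theorem pairing_of_sylow {z w : Perm α} (hz : Pairing (1 : Perm α) z) (hw : Pairing (1 : Perm α) w)
    (P : Sylow 2 (Perm α)) (hP : (P : Subgroup (Perm α)) ≤ Subgroup.centralizer ({z} : Set (Perm α)))
    (hP' : (P : Subgroup (Perm α)) ≤ Subgroup.centralizer ({w} : Set (Perm α))) : z = w := by
  refine Equiv.ext fun a => ?_
  have hm : swap a (z a) ∈ (P : Subgroup (Perm α)) := ker_le hz P hP (swap_mem_ker hz a)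
  have h1 := comm_of_mem (hP' hm) a
  rw [swap_apply_left] at h1
  by_contra h
  rw [swap_apply_of_ne_of_ne (hw.2.1 a) (Ne.symm h)] at h1
  exact hz.2.1 a (w.injective h1)

/-- A Sylow subgroup containing `x` in the centraliser of a pairing. -/
theorem exists_sylow_ge {z x : Perm α} (hz : Pairing (1 : Perm α) z)
    (hx : ∃ k : ℕ, x ^ 2 ^ k = 1) (hxz : Pairing x z) :
    ∃ P : Sylow 2 (Perm α), x ∈ P ∧ (P : Subgroup (Perm α)) ≤ Subgroup.centralizer ({z} : Set (Perm α)) := by
  haveI : Fact (Nat.Prime 2) := ⟨Nat.prime_two⟩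
  obtain ⟨xC, hxC⟩ : ∃ y : Subgroup.centralizer ({z} : Set (Perm α)), (y : Perm α) = x :=
    ⟨⟨x, (pairing_iff hz x).1 hxz⟩, rfl⟩
  obtain ⟨k, hk⟩ := hx
  obtain ⟨j, -, hj⟩ := (Nat.dvd_prime_pow Nat.prime_two).1
    (orderOf_dvd_of_pow_eq_one (show xC ^ 2 ^ k = 1 from Subtype.ext (by push_cast; rw [hxC, hk])))
  obtain ⟨T, hT⟩ := (IsPGroup.of_card (p := 2) (n := j) (by rw [Nat.card_zpowers, hj]) :
    IsPGroup 2 (Subgroup.zpowers xC)).exists_le_sylow
  obtain ⟨S, hS⟩ := exists_map_sylow (Subgroup.centralizer ({z} : Set (Perm α))).subtype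
    (Subgroup.subtype_injective _) (factorization_centralizer hz) T
  refine ⟨S, ?_, hS ▸ Subgroup.map_subtype_le _⟩
  show x ∈ (S : Subgroup (Perm α))
  rw [hS]
  exact ⟨xC, hT (Subgroup.mem_zpowers _), hxC⟩

theorem exists_two_of_not_good {z₀ x : Perm α} (hz₀ : Pairing (1 : Perm α) z₀)
    (hx : ∃ k : ℕ, x ^ 2 ^ k = 1) (hg : ¬ Good x) :
    ∃ P Q : Sylow 2 (Perm α), x ∈ P ∧ x ∈ Q ∧ P ≠ Q := by
  haveI : Fact (Nat.Prime 2) := ⟨Nat.prime_two⟩
  obtain ⟨k, hk⟩ := hx
  obtain ⟨j, -, hj⟩ := (Nat.dvd_prime_pow Nat.prime_two).1 (orderOf_dvd_of_pow_eq_one hk)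
  obtain ⟨P₀, hP₀⟩ := (IsPGroup.of_card (p := 2) (n := j) (by rw [Nat.card_zpowers, hj]) :
    IsPGroup 2 (Subgroup.zpowers x)).exists_le_sylow
  obtain ⟨z, hz, hP⟩ := exists_pairing hz₀ P₀
  have hxz := (pairing_iff hz x).2 (hP (hP₀ (Subgroup.mem_zpowers x)))
  obtain ⟨w, hw, hne⟩ := exists_second hg hxz
  have hw1 : Pairing (1 : Perm α) w := ⟨hw.1, hw.2.1, fun _ => rfl⟩
  obtain ⟨Q, hxQ, hQ⟩ := exists_sylow_ge hw1 ⟨k, hk⟩ hw
  refine ⟨P₀, Q, hP₀ (Subgroup.mem_zpowers x), hxQ, fun e => ?_⟩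
  subst e
  exact hne (pairing_of_sylow hw1 hz P₀ hQ hP)

theorem good_image {z x : Perm α} (hz : Pairing (1 : Perm α) z) (hx : ∃ k : ℕ, x ^ 2 ^ k = 1)
    (hxz : Pairing x z) (hg : Good x) :
    Good (onPairs hz ⟨x, (pairing_iff hz x).1 hxz⟩) := by
  have key : ∀ a, x a ≠ a → ∃ l, minimalPeriod x a = 2 * l ∧ z a = (x ^ l) a := fun a ha =>
    half_turn hxz (hg.2 a (z a) ha (fun e => ha (z.injective (by rw [hxz.2.2, e])))
      fun k => by rw [← pow_apply_comm hxz.2.2, z.injective.eq_iff])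
  have hpow : ∀ (k : ℕ) (a : α), (onPairs hz ⟨x, (pairing_iff hz x).1 hxz⟩ ^ k) (Quotient.mk _ a) =
      Quotient.mk _ ((x ^ k) a) := fun k a => by
    rw [← map_pow, onPairs_mk]
    push_cast
    rfl
  constructor
  · intro q₁ q₂ q₃
    refine Quotient.inductionOn₃ q₁ q₂ q₃ fun a b c ha hb hc => ?_
    rw [onPairs_mk, mk_eq] at ha hb hc
    have fixed_or : ∀ d, (d = x d ∨ d = z (x d)) → x d = d ∨ x d = z d ∧ x d ≠ d := by
      rintro d (h | h)
      · exact Or.inl h.symm
      · have h1 : x d = z d := z.injective (by rw [← h, hz.1])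
        exact Or.inr ⟨h1, h1 ▸ hz.2.1 d⟩
    have h2 : ∀ d, x d = z d → x d ≠ d → ∀ k, ((x ^ k) d = d ↔ 2 ∣ k) := by
      intro d hd hd' k
      have h2d : (x ^ 2) d = d := by rw [pow_two, mul_apply, hd, ← hxz.2.2, hd, hz.1]
      have : minimalPeriod x d = 2 := by
        rcases (Nat.dvd_prime Nat.prime_two).1 ((pow_fix_iff x d 2).1 h2d) with h | h
        · exact absurd ((pow_fix_iff x d 1).2 (h ▸ dvd_refl _)) (by rwa [pow_one])
        · exact h
      rw [pow_fix_iff, this]
    have ff : ∀ d e, x d = d → x e = e → Quotient.mk (pairSetoid hz) d = Quotient.mk _ e := by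
      intro d e hd he
      rw [mk_eq]
      rcases hg.1 d (z d) e hd (by rw [← hxz.2.2, hd]) he with h | h | h
      · exact absurd h.symm (hz.2.1 d)
      · exact Or.inl h.symm
      · exact Or.inr h.symm
    have mm : ∀ d e, x d = z d ∧ x d ≠ d → x e = z e ∧ x e ≠ e →
        Quotient.mk (pairSetoid hz) d = Quotient.mk _ e := by
      rintro d e ⟨hd, hd'⟩ ⟨he, he'⟩
      obtain ⟨i, hi⟩ := (hg.2 d e hd' he' fun k => by rw [h2 d hd hd', h2 e he he']).exists_nat_pow_eq
      rw [mk_eq, ← hi]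
      obtain ⟨m, rfl | rfl⟩ := Nat.even_or_odd' i
      · exact Or.inl ((h2 d hd hd' _).2 (Dvd.intro _ rfl))
      · right
        rw [pow_succ', mul_apply, (h2 d hd hd' _).2 (Dvd.intro _ rfl), hd]
    rcases fixed_or a ha with ha | ha <;> rcases fixed_or b hb with hb | hb <;>
      rcases fixed_or c hc with hc | hc <;>
      first
      | exact Or.inl (ff _ _ ha hb) | exact Or.inl (mm _ _ ha hb)
      | exact Or.inr (Or.inl (ff _ _ ha hc)) | exact Or.inr (Or.inl (mm _ _ ha hc))
      | exact Or.inr (Or.inr (ff _ _ hb hc)) | exact Or.inr (Or.inr (mm _ _ hb hc))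
  · intro q₁ q₂
    refine Quotient.inductionOn₂ q₁ q₂ fun a b ha hb hk => ?_
    rw [onPairs_mk, Ne, mk_eq, not_or] at ha hb
    have ha' : x a ≠ a := fun e => ha.1 e.symm
    have hb' : x b ≠ b := fun e => hb.1 e.symm
    obtain ⟨l, hl, hl'⟩ := key a ha'
    obtain ⟨m, hm, hm'⟩ := key b hb'
    have char : ∀ d l, minimalPeriod x d = 2 * l → z d = (x ^ l) d → ∀ k : ℕ,
        ((onPairs hz ⟨x, (pairing_iff hz x).1 hxz⟩ ^ k) (Quotient.mk _ d) = Quotient.mk _ d ↔ l ∣ k) := by
      intro d l hl hl' k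
      rw [hpow, mk_eq]
      constructor
      · rintro (h | h)
        · exact (Dvd.intro_left 2 rfl).trans (hl ▸ (pow_fix_iff x d k).1 h.symm)
        · have h1 : (x ^ k) d = (x ^ l) d := by
            rw [← hl']
            conv_rhs => rw [h, hz.1]
          have h3 : (x ^ (k + l)) d = d := by
            rw [add_comm, pow_add, mul_apply, h1, ← hl', ← pow_apply_comm hxz.2.2, ← hl', hz.1]
          exact (Nat.dvd_add_left dvd_rfl).1 ((Dvd.intro_left 2 rfl).trans (hl ▸ (pow_fix_iff x d _).1 h3))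
      · rintro ⟨c, rfl⟩
        obtain ⟨c, rfl | rfl⟩ := Nat.even_or_odd' c
        · exact Or.inl ((pow_fix_iff x d _).2 (hl ▸ ⟨c, by ring⟩)).symm
        · right
          have : (x ^ (l * (2 * c + 1))) d = (x ^ l) d := by
            rw [show l * (2 * c + 1) = l + 2 * l * c by ring, pow_add, mul_apply,
              (pow_fix_iff x d (2 * l * c)).2 (hl ▸ Dvd.intro _ rfl)]
          rw [this, ← hl', hz.1]
    have hlm : l = m := Nat.dvd_antisymm ((char a l hl hl' m).1 ((hk m).2 ((char b m hm hm' m).2 dvd_rfl)))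
      ((char b m hm hm' l).1 ((hk l).1 ((char a l hl hl' l).2 dvd_rfl)))
    obtain ⟨i, hi⟩ := (hg.2 a b ha' hb' fun k => by
      rw [pow_fix_iff, pow_fix_iff, hl, hm, hlm]).exists_nat_pow_eq
    exact ⟨(i : ℤ), by rw [zpow_natCast, hpow, hi]⟩

/-- Every Sylow subgroup fixes a point when the degree is odd. -/
theorem exists_fixed (hodd : ¬ 2 ∣ Fintype.card α) (P : Sylow 2 (Perm α)) :
    ∃ c, ∀ g ∈ (P : Subgroup (Perm α)), g c = c := by
  haveI : Fact (Nat.Prime 2) := ⟨Nat.prime_two⟩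
  have := IsPGroup.nonempty_fixed_point_of_prime_not_dvd_card P.isPGroup' α (by rwa [Nat.card_eq_fintype_card])
  obtain ⟨c, hc⟩ := this
  exact ⟨c, fun g hg => hc ⟨g, hg⟩⟩

theorem factorization_sub (hodd : ¬ 2 ∣ Fintype.card α) (c : α) :
    (Nat.card (Perm {a : α // a ≠ c})).factorization 2 = (Nat.card (Perm α)).factorization 2 := by
  rw [Nat.card_perm, Nat.card_perm, Nat.card_eq_fintype_card, Nat.card_eq_fintype_card,
    Fintype.card_subtype_compl, Fintype.card_subtype_eq]
  obtain ⟨m, hm⟩ : ∃ m, Fintype.card α = m + 1 :=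
    Nat.exists_eq_succ_of_ne_zero (Fintype.card_pos_iff.2 ⟨c⟩).ne'
  rw [hm, Nat.add_sub_cancel, Nat.factorial_succ,
    Nat.factorization_mul (by omega) (Nat.factorial_ne_zero _), Finsupp.add_apply,
    Nat.factorization_eq_zero_of_not_dvd (n := m + 1) (hm ▸ hodd), zero_add]

theorem exists_base {β : Type*} [Fintype β] [DecidableEq β] (h : 2 ∣ Fintype.card β) :
    ∃ z : Perm β, Pairing (1 : Perm β) z := by
  obtain ⟨m, hm⟩ := h
  let e : β ≃ Fin m × Bool := Fintype.equivOfCardEq (by simp [hm, mul_comm])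
  refine ⟨e.trans ((Equiv.prodCongr (Equiv.refl _) ⟨not, not, Bool.not_not, Bool.not_not⟩).trans e.symm),
    fun a => ?_, fun a h => ?_, fun a => rfl⟩
  · simp [Prod.map_map, Function.comp_def]
    exact e.symm_apply_apply a
  · have := congrArg (fun p => (e p).2) h
    simp at this

theorem ofSubtype_apply_sub {c : α} (g : Perm {a : α // a ≠ c}) (a : {a : α // a ≠ c}) :
    Perm.ofSubtype g a = (g a : α) :=
  Perm.ofSubtype_apply_coe g a

theorem good_sub {x : Perm α} {c : α} (hc : x c = c)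
    (y : Perm {a : α // a ≠ c}) (hy : Perm.ofSubtype y = x) : Good x ↔
      ((∀ a b : {a : α // a ≠ c}, y a = a → y b = b → a = b) ∧ Good y) := by
  have happ : ∀ a : {a : α // a ≠ c}, (y a : α) = x a := fun a => by rw [← hy, ofSubtype_apply_sub]
  have hpow : ∀ (k : ℕ) (a : {a : α // a ≠ c}), ((y ^ k) a : α) = (x ^ k) a := fun k a => by
    rw [← hy, ← map_pow, ofSubtype_apply_sub]
  have hfix : ∀ a : {a : α // a ≠ c}, y a = a ↔ x a = a := fun a => by rw [Subtype.ext_iff, happ]
  have hsc : ∀ a b : {a : α // a ≠ c}, y.SameCycle a b ↔ x.SameCycle a b := by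
    intro a b
    constructor
    · intro h
      obtain ⟨i, hi⟩ := h.exists_nat_pow_eq
      exact ⟨(i : ℤ), by rw [zpow_natCast, ← hpow, hi]⟩
    · intro h
      obtain ⟨i, hi⟩ := h.exists_nat_pow_eq
      exact ⟨(i : ℤ), by rw [zpow_natCast]; exact Subtype.ext (by rw [hpow, hi])⟩
  constructor
  · rintro ⟨h1, h2⟩
    refine ⟨fun a b ha hb => ?_, fun a b d ha hb hd => ?_, fun a b ha hb hk => ?_⟩
    · rcases h1 a b c ((hfix a).1 ha) ((hfix b).1 hb) hc with h | h | h
      · exact Subtype.ext h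
      · exact absurd h a.2
      · exact absurd h b.2
    · rcases h1 a b d ((hfix a).1 ha) ((hfix b).1 hb) ((hfix d).1 hd) with h | h | h
      · exact Or.inl (Subtype.ext h)
      · exact Or.inr (Or.inl (Subtype.ext h))
      · exact Or.inr (Or.inr (Subtype.ext h))
    · exact (hsc a b).2 (h2 a b (fun e => ha ((hfix a).2 e)) (fun e => hb ((hfix b).2 e))
        fun k => by rw [← hpow, ← hpow, ← Subtype.ext_iff, ← Subtype.ext_iff]; exact hk k)
  · rintro ⟨h0, -, h2⟩
    refine ⟨fun a b d ha hb hd => ?_, fun a b ha hb hk => ?_⟩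
    · by_contra hne
      push Not at hne
      obtain ⟨hab, had, hbd⟩ := hne
      by_cases hac : a = c
      · exact hbd (congrArg Subtype.val (h0 ⟨b, fun e => hab (hac.trans e.symm)⟩ ⟨d, fun e => had (hac.trans e.symm)⟩
          ((hfix _).2 hb) ((hfix _).2 hd)))
      by_cases hbc : b = c
      · exact had (congrArg Subtype.val (h0 ⟨a, hac⟩ ⟨d, fun e => hbd (hbc.trans e.symm)⟩
          ((hfix _).2 ha) ((hfix _).2 hd)))
      exact hab (congrArg Subtype.val (h0 ⟨a, hac⟩ ⟨b, hbc⟩ ((hfix _).2 ha) ((hfix _).2 hb)))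
    · have hac : a ≠ c := fun e => ha (e ▸ hc)
      have hbc : b ≠ c := fun e => hb (e ▸ hc)
      refine (hsc ⟨a, hac⟩ ⟨b, hbc⟩).1 (h2 _ _ (fun e => ha ((hfix ⟨a, hac⟩).1 e))
        (fun e => hb ((hfix ⟨b, hbc⟩).1 e)) fun k => ?_)
      rw [Subtype.ext_iff, Subtype.ext_iff, hpow, hpow]; exact hk k

theorem fixed_iff_mem_range {c : α} (g : Perm α) :
    g c = c ↔ g ∈ (Perm.ofSubtype : Perm {a : α // a ≠ c} →* Perm α).range := by
  constructor
  · intro h
    have hp : ∀ a, g a ≠ c ↔ a ≠ c := fun a => not_congr ⟨fun e => g.injective (e.trans h.symm), fun e => e ▸ h⟩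
    refine ⟨g.subtypePerm hp, Perm.ofSubtype_subtypePerm _ fun a ha e => ha (e ▸ h)⟩
  · rintro ⟨y, rfl⟩
    exact Perm.ofSubtype_apply_of_not_mem y (fun h => h rfl)

theorem ofSubtype_inj {c : α} :
    Injective (Perm.ofSubtype : Perm {a : α // a ≠ c} →* Perm α) := by
  intro f g h
  exact Equiv.ext fun a => Subtype.ext (by rw [← ofSubtype_apply_sub, h, ofSubtype_apply_sub])

/-- Pull a Sylow subgroup fixing a point back to the point stabiliser. -/
theorem exists_comap (hodd : ¬ 2 ∣ Fintype.card α) (P : Sylow 2 (Perm α)) {c : α}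
    (hc : ∀ g ∈ (P : Subgroup (Perm α)), g c = c) :
    ∃ T : Sylow 2 (Perm {a : α // a ≠ c}), (P : Subgroup (Perm α)) = T.toSubgroup.map Perm.ofSubtype := by
  haveI : Fact (Nat.Prime 2) := ⟨Nat.prime_two⟩
  have hle : (P : Subgroup (Perm α)) ≤ (Perm.ofSubtype : Perm {a : α // a ≠ c} →* Perm α).range :=
    fun g hg => (fixed_iff_mem_range g).1 (hc g hg)
  have e := Subgroup.map_comap_eq_self hle
  refine ⟨Sylow.ofCard ((P : Subgroup (Perm α)).comap Perm.ofSubtype) ?_, e.symm⟩
  rw [Nat.card_congr (Subgroup.equivMapOfInjective _ _ ofSubtype_inj).toEquiv, e,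
    P.card_eq_multiplicity, factorization_sub hodd c]

theorem fixed_unique (hodd : ¬ 2 ∣ Fintype.card α) (P : Sylow 2 (Perm α)) {c d : α}
    (hc : ∀ g ∈ (P : Subgroup (Perm α)), g c = c) (hd : ∀ g ∈ (P : Subgroup (Perm α)), g d = d) :
    c = d := by
  by_contra hne
  obtain ⟨T, hT⟩ := exists_comap hodd P hc
  obtain ⟨z₀, hz₀⟩ := exists_base (β := {a : α // a ≠ c}) (by
    rw [Fintype.card_subtype_compl, Fintype.card_subtype_eq]; omega)
  obtain ⟨z, hz, hTz⟩ := exists_pairing hz₀ T
  have hdc : d ≠ c := fun e => hne e.symm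
  have hm : swap (⟨d, hdc⟩ : {a : α // a ≠ c}) (z ⟨d, hdc⟩) ∈ T.toSubgroup :=
    ker_le hz T hTz (swap_mem_ker hz _)
  have h1 := hd _ (hT ▸ Subgroup.mem_map_of_mem _ hm)
  have h3 := ofSubtype_apply_sub (swap (⟨d, hdc⟩ : {a : α // a ≠ c}) (z ⟨d, hdc⟩)) ⟨d, hdc⟩
  rw [swap_apply_left] at h3
  exact hz.2.1 _ (Subtype.ext (h3.symm.trans h1))

theorem main_sylow : ∀ (n : ℕ) (β : Type _) [Fintype β] [DecidableEq β], Fintype.card β = n →
    ∀ x : Perm β, (∃ k : ℕ, x ^ 2 ^ k = 1) →
      (Good x → ∀ P Q : Sylow 2 (Perm β), x ∈ P → x ∈ Q → P = Q) ∧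
      (¬ Good x → ∃ P Q : Sylow 2 (Perm β), x ∈ P ∧ x ∈ Q ∧ P ≠ Q) := by
  intro n
  induction n using Nat.strong_induction_on with
  | _ n IH =>
    intro β _ _ hcard x hx
    haveI : Fact (Nat.Prime 2) := ⟨Nat.prime_two⟩
    by_cases hev : 2 ∣ Fintype.card β
    · obtain ⟨z₀, hz₀⟩ := exists_base hev
      refine ⟨fun hg P Q hP hQ => ?_, exists_two_of_not_good hz₀ hx⟩
      rcases Nat.eq_zero_or_pos n with hn | hn
      · haveI : IsEmpty β := Fintype.card_eq_zero_iff.1 (hcard.trans hn)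
        exact Sylow.ext (Subgroup.ext fun g => by rw [Subsingleton.elim g 1]; simp [one_mem])
      obtain ⟨z, hz, hPz⟩ := exists_pairing hz₀ P
      obtain ⟨w, hw, hQw⟩ := exists_pairing hz₀ Q
      obtain rfl := pairing_unique hg ((pairing_iff hz x).2 (hPz hP)) ((pairing_iff hw x).2 (hQw hQ))
      classical
      haveI : Fintype (Pairs hz) := Fintype.ofFinite _
      have hlt : Fintype.card (Pairs hz) < n := by have := card_pairs hz; omega
      have hsurj := onPairs_surjective hz
      have h := (IH _ hlt (Pairs hz) rfl (onPairs hz ⟨x, hPz hP⟩) (by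
        obtain ⟨k, hk⟩ := hx
        exact ⟨k, by rw [← map_pow, show (⟨x, hPz hP⟩ : Subgroup.centralizer ({z} : Set (Perm β))) ^ 2 ^ k = 1 from
          Subtype.ext (by push_cast; exact hk), map_one]⟩)).1
        (good_image hz hx ((pairing_iff hz x).2 (hPz hP)) hg)
        ((P.subtype hPz).mapSurjective hsurj) ((Q.subtype hQw).mapSurjective hsurj)
        (Subgroup.mem_map_of_mem _ hP) (Subgroup.mem_map_of_mem _ hQ)
      have h1 : (P.subtype hPz).toSubgroup = (Q.subtype hQw).toSubgroup :=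
        Subgroup.map_injective_of_ker_le (onPairs hz) (ker_le hz P hPz) (ker_le hz Q hQw)
          (congrArg (fun S : Sylow 2 (Perm (Pairs hz)) => S.toSubgroup) h)
      exact Sylow.subtype_injective (Sylow.ext h1)
    · have sub : ∀ c : β, x c = c → ∃ y : Perm {a : β // a ≠ c}, Perm.ofSubtype y = x :=
        fun c hc => (fixed_iff_mem_range x).1 hc
      have hlt : ∀ c : β, Fintype.card {a : β // a ≠ c} < n := fun c =>
        hcard ▸ Fintype.card_subtype_lt (x := c) (fun h => h rfl)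
      have ypow : ∀ {c : β} (y : Perm {a : β // a ≠ c}), Perm.ofSubtype y = x → ∃ k : ℕ, y ^ 2 ^ k = 1 := by
        intro c y hy
        obtain ⟨k, hk⟩ := hx
        exact ⟨k, ofSubtype_inj (by rw [map_pow, hy, hk, map_one])⟩
      refine ⟨fun hg P Q hP hQ => ?_, fun hg => ?_⟩
      · obtain ⟨c, hc⟩ := exists_fixed hev P
        obtain ⟨d, hd⟩ := exists_fixed hev Q
        obtain ⟨y, hy⟩ := sub c (hc x hP)
        obtain ⟨hu, hgy⟩ := (good_sub (hc x hP) y hy).1 hg
        -- the degree is odd, so there is one fixed point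
        have hcd : c = d := by
          by_contra hne
          have hdc : d ≠ c := fun e => hne e.symm
          obtain ⟨P', hP'⟩ := exists_comap hev P hc
          have hyP : y ∈ P' := by
            have h' : x ∈ (P : Subgroup (Perm β)) := hP
            rw [hP', ← hy] at h'
            obtain ⟨w, hw, hwe⟩ := h'
            exact (ofSubtype_inj hwe) ▸ hw
          obtain ⟨z₀, hz₀⟩ := exists_base (β := {a : β // a ≠ c}) (by
            rw [Fintype.card_subtype_compl, Fintype.card_subtype_eq]; omega)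
          obtain ⟨z, hz, hPz⟩ := exists_pairing hz₀ P'
          have hfix : y ⟨d, hdc⟩ = ⟨d, hdc⟩ := Subtype.ext (by rw [← ofSubtype_apply_sub, hy]; exact hd x hQ)
          refine hz.2.1 ⟨d, hdc⟩ (hu _ _ ?_ hfix)
          rw [← comm_of_mem (hPz hyP) ⟨d, hdc⟩, hfix]
        subst hcd
        obtain ⟨P', hP'⟩ := exists_comap hev P hc
        obtain ⟨Q', hQ'⟩ := exists_comap hev Q hd
        have hmem : ∀ (S : Sylow 2 (Perm β)) (S' : Sylow 2 (Perm {a : β // a ≠ c})),
            (S : Subgroup (Perm β)) = S'.toSubgroup.map Perm.ofSubtype → x ∈ S → y ∈ S' := by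
          intro S S' hS hxS
          have h' : x ∈ (S : Subgroup (Perm β)) := hxS
          rw [hS, ← hy] at h'
          obtain ⟨w, hw, hwe⟩ := h'
          exact (ofSubtype_inj hwe) ▸ hw
        have h := (IH _ (hlt c) _ rfl y (ypow y hy)).1 hgy P' Q' (hmem P P' hP' hP) (hmem Q Q' hQ' hQ)
        exact Sylow.ext (by rw [hP', hQ', h])
      · have mk : ∀ (c : β) (y : Perm {a : β // a ≠ c}), Perm.ofSubtype y = x → ∀ T : Sylow 2 (Perm {a : β // a ≠ c}),
            y ∈ T → ∃ P : Sylow 2 (Perm β), x ∈ P ∧ (∀ g ∈ (P : Subgroup (Perm β)), g c = c) ∧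
              (P : Subgroup (Perm β)) = T.toSubgroup.map Perm.ofSubtype := by
          intro c y hy T hT
          obtain ⟨P, hP⟩ := exists_map_sylow _ ofSubtype_inj (factorization_sub hev c) T
          refine ⟨P, show x ∈ (P : Subgroup (Perm β)) from hP ▸ hy ▸ Subgroup.mem_map_of_mem _ hT, ?_, hP⟩
          rw [hP]
          rintro g ⟨w, -, rfl⟩
          exact (fixed_iff_mem_range _).2 ⟨w, rfl⟩
        obtain ⟨k, hk⟩ := hx
        obtain ⟨j, -, hj⟩ := (Nat.dvd_prime_pow Nat.prime_two).1 (orderOf_dvd_of_pow_eq_one hk)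
        obtain ⟨P₀, hP₀⟩ := (IsPGroup.of_card (p := 2) (n := j) (by rw [Nat.card_zpowers, hj]) :
          IsPGroup 2 (Subgroup.zpowers x)).exists_le_sylow
        have hxP : x ∈ P₀ := hP₀ (Subgroup.mem_zpowers x)
        obtain ⟨c, hc⟩ := exists_fixed hev P₀
        obtain ⟨y, hy⟩ := sub c (hc x hxP)
        by_cases hone : ∀ a b : {a : β // a ≠ c}, y a = a → y b = b → a = b
        · have hgy : ¬ Good y := fun h => hg ((good_sub (hc x hxP) y hy).2 ⟨hone, h⟩)
          obtain ⟨T, T', hT, hT', hne⟩ := (IH _ (hlt c) _ rfl y (ypow y hy)).2 hgy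
          obtain ⟨P, hP, -, hPe⟩ := mk c y hy T hT
          obtain ⟨Q, hQ, -, hQe⟩ := mk c y hy T' hT'
          refine ⟨P, Q, hP, hQ, fun e => hne (Sylow.ext (Subgroup.map_injective ofSubtype_inj ?_))⟩
          rw [← hPe, ← hQe, e]
        · push Not at hone
          obtain ⟨a, b, ha, -, -⟩ := hone
          have hxa : x a = a := by rw [← hy, ofSubtype_apply_sub, ha]
          obtain ⟨w, hw⟩ := sub a hxa
          obtain ⟨k', hk'⟩ := ypow w hw
          obtain ⟨j', -, hj'⟩ := (Nat.dvd_prime_pow Nat.prime_two).1 (orderOf_dvd_of_pow_eq_one hk')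
          obtain ⟨T, hT⟩ := (IsPGroup.of_card (p := 2) (n := j') (by rw [Nat.card_zpowers, hj']) :
            IsPGroup 2 (Subgroup.zpowers w)).exists_le_sylow
          obtain ⟨Q, hQ, hQfix, -⟩ := mk a w hw T (hT (Subgroup.mem_zpowers w))
          exact ⟨P₀, Q, hxP, hQ, fun e => a.2 (fixed_unique hev Q hQfix (e ▸ hc))⟩

theorem good_iff (x : Perm α) :
    Good x ↔ (Fintype.card α ≤ x.support.card + 2 ∧ x.cycleType.Nodup) := by
  have h1 : (∀ a b c, x a = a → x b = b → x c = c → a = b ∨ a = c ∨ b = c) ↔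
      Fintype.card α ≤ x.support.card + 2 := by
    have hc : x.supportᶜ.card + x.support.card = Fintype.card α := by
      rw [Finset.card_compl, Nat.sub_add_cancel (Finset.card_le_univ _)]
    constructor
    · intro h
      by_contra hlt
      obtain ⟨a, b, c, ha, hb, hc', hab, hac, hbc⟩ := Finset.two_lt_card_iff.1 (by omega : 2 < x.supportᶜ.card)
      simp only [Finset.mem_compl, Perm.mem_support, not_not] at ha hb hc'
      rcases h a b c ha hb hc' with e | e | e <;> contradiction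
    · intro h a b c ha hb hc'
      by_contra hne
      push Not at hne
      have := Finset.two_lt_card_iff.2 ⟨a, b, c, (by simpa using ha : a ∈ x.supportᶜ),
        (by simpa using hb), (by simpa using hc'), hne⟩
      omega
  have hper : ∀ a, x a ≠ a → (x.cycleOf a).support.card = minimalPeriod x a := by
    intro a ha
    have hc := isCycle_cycleOf x ha
    rw [← hc.orderOf]
    refine Nat.dvd_antisymm ?_ ?_
    · refine orderOf_dvd_of_pow_eq_one (hc.pow_eq_one_iff.2 ⟨a, by rwa [cycleOf_apply_self], ?_⟩)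
      rw [cycleOf_pow_apply_self]; exact (pow_fix_iff x a _).2 dvd_rfl
    · refine (pow_fix_iff x a _).1 ?_
      rw [← cycleOf_pow_apply_self, pow_orderOf_eq_one]; rfl
  rw [← h1, cycleType_def]
  refine and_congr_right fun _ => ?_
  constructor
  · intro h
    refine Multiset.Nodup.map_on (fun c hc d hd e => ?_) x.cycleFactorsFinset.nodup
    obtain ⟨a, ha⟩ := (mem_cycleFactorsFinset_iff.1 hc).1.nonempty_support
    obtain ⟨b, hb⟩ := (mem_cycleFactorsFinset_iff.1 hd).1.nonempty_support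
    have hca := cycle_is_cycleOf ha hc
    have hdb := cycle_is_cycleOf hb hd
    have hxa : x a ≠ a := Perm.mem_support.1 (mem_cycleFactorsFinset_support_le hc ha)
    have hxb : x b ≠ b := Perm.mem_support.1 (mem_cycleFactorsFinset_support_le hd hb)
    simp only [Function.comp, hca, hdb, hper a hxa, hper b hxb] at e
    rw [hca, hdb]
    exact ((h a b hxa hxb fun k => by rw [pow_fix_iff, pow_fix_iff, e]).cycleOf_eq)
  · intro h a b ha hb hk
    have ha' : x.cycleOf a ∈ x.cycleFactorsFinset := cycleOf_mem_cycleFactorsFinset_iff.2 (Perm.mem_support.2 ha)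
    have hb' : x.cycleOf b ∈ x.cycleFactorsFinset := cycleOf_mem_cycleFactorsFinset_iff.2 (Perm.mem_support.2 hb)
    have e : minimalPeriod x a = minimalPeriod x b :=
      Nat.dvd_antisymm ((pow_fix_iff x a _).1 ((hk _).2 ((pow_fix_iff x b _).2 dvd_rfl)))
        ((pow_fix_iff x b _).1 ((hk _).1 ((pow_fix_iff x a _).2 dvd_rfl)))
    have := Multiset.inj_on_of_nodup_map h _ ha' _ hb' (by simp only [Function.comp, hper a ha, hper b hb, e])
    exact (sameCycle_iff_cycleOf_eq_of_mem_support (Perm.mem_support.2 ha) (Perm.mem_support.2 hb)).2 this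

/-- Let n ≥ 2 and let x be an element of 2-power order of the symmetric group of degree n. Then x lies in exactly one Sylow 2-subgroup if and only if x has at most two fixed points and the nontrivial cycles of x have pairwise different lengths. -/
theorem result (n : ℕ) (hn : 2 ≤ n)
    (x : Equiv.Perm (Fin n)) (hx : ∃ k : ℕ, orderOf x = 2 ^ k) :
    (∃! P : Sylow 2 (Equiv.Perm (Fin n)), x ∈ P) ↔ (n ≤ x.support.card + 2 ∧ x.cycleType.Nodup) := by
  obtain ⟨k, hk⟩ := hx
  have hx2 : ∃ j : ℕ, x ^ 2 ^ j = 1 := ⟨k, hk ▸ pow_orderOf_eq_one x⟩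
  have h := main_sylow n (Fin n) (Fintype.card_fin n) x hx2
  rw [show (n ≤ x.support.card + 2 ∧ x.cycleType.Nodup) ↔ Good x by rw [good_iff, Fintype.card_fin]]
  constructor
  · rintro ⟨P, hP, huniq⟩
    by_contra hg
    obtain ⟨P₁, Q₁, h1, h2, hne⟩ := h.2 hg
    exact hne ((huniq P₁ h1).trans (huniq Q₁ h2).symm)
  · intro hg
    haveI : Fact (Nat.Prime 2) := ⟨Nat.prime_two⟩
    obtain ⟨P, hP⟩ := (IsPGroup.of_card (p := 2) (n := k) (by rw [Nat.card_zpowers, hk]) :
      IsPGroup 2 (Subgroup.zpowers x)).exists_le_sylow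
    exact ⟨P, hP (Subgroup.mem_zpowers x), fun Q hQ => h.1 hg Q P hQ (hP (Subgroup.mem_zpowers x))⟩

end Cfsg.Agent.S4349
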