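import Cfsg.Statements.S4356
-- import your own Cfsg.Agent.* helpers here

import Cfsg.Agent.SL2Class.Redundant

set_option autoImplicit false
open Cfsg

namespace Cfsg.Agent.S4356

open Matrix SL2Class


/-- Let F be a finite field with q elements, p a prime and G = PSL(2, F). Say a Sylow p-subgroup Q of G is redundant when every element of p-power order lies in some Sylow p-subgroup other than Q. Then G has a redundant Sylow p-subgroup if and only if p = 2 and q is not of any of the forms 2ᵏ - 1, 2ᵏ, 2ᵏ + 1. -/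
theorem result {F : Type*} [Field F] [Fintype F] (p : ℕ) [Fact p.Prime] :
    (∃ Q : Sylow p (Matrix.ProjectiveSpecialLinearGroup (Fin 2) F), ∀ x : Matrix.ProjectiveSpecialLinearGroup (Fin 2) F,
        (∃ k : ℕ, orderOf x = p ^ k) → ∃ P : Sylow p (Matrix.ProjectiveSpecialLinearGroup (Fin 2) F), P ≠ Q ∧ x ∈ P) ↔
      (p = 2 ∧ (¬ ∃ k : ℕ, Fintype.card F + 1 = 2 ^ k) ∧ (¬ ∃ k : ℕ, Fintype.card F = 2 ^ k) ∧
        ¬ ∃ k : ℕ, Fintype.card F = 2 ^ k + 1) := by
  refine Iff.trans (red_iff_of_surjective (proj (F := F)) proj_surjective fun P x hx hxP => ?_) (red_iff (F := F) p)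
  classical
  obtain ⟨k, hk⟩ := hx
  obtain ⟨y, hy, hyx⟩ := hxP
  by_cases hp : p = 2
  · subst hp
    have hz : (-1 : Matrix.SpecialLinearGroup (Fin 2) F) ∈ (P : Subgroup (Matrix.SpecialLinearGroup (Fin 2) F)) := by
      have hp2 : IsPGroup 2 (Subgroup.zpowers (-1 : Matrix.SpecialLinearGroup (Fin 2) F)) :=
        GroupSub.isPGroup_zpowers_of_pow (k := 1) (by rw [pow_one, pow_two, neg_mul_self_eq])
      haveI : (Subgroup.zpowers (-1 : Matrix.SpecialLinearGroup (Fin 2) F)).Normal := ⟨fun n hn g => by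
        have hnc : n ∈ Subgroup.center (Matrix.SpecialLinearGroup (Fin 2) F) := Subgroup.zpowers_le.2 neg_one_mem_center hn
        rwa [Subgroup.mem_center_iff.1 hnc g, mul_inv_cancel_right]⟩
      exact hp2.le_sylow_of_normal P (Subgroup.mem_zpowers _)
    rcases proj_eq_iff.1 hyx with rfl | rfl
    · exact hy
    · rw [neg_eq_mul]; exact Subgroup.mul_mem _ hz hy
  · obtain ⟨j, hj⟩ := P.isPGroup' ⟨y, hy⟩
    have hj' : y ^ p ^ j = 1 := congrArg Subtype.val hj
    have hodd : ∀ n : ℕ, Odd (p ^ n) := fun n => ((Fact.out : p.Prime).odd_of_ne_two hp).pow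
    rcases proj_eq_iff.1 hyx with rfl | rfl
    · exact hy
    · rw [neg_eq_mul, (show Commute (-1 : Matrix.SpecialLinearGroup (Fin 2) F) y from
        (Subgroup.mem_center_iff.1 neg_one_mem_center y).symm).mul_pow] at hk
      by_cases h2 : (2 : F) = 0
      · have e : (-1 : Matrix.SpecialLinearGroup (Fin 2) F) = 1 :=
          Subgroup.mem_bot.1 (center_eq_bot h2 ▸ neg_one_mem_center)
        rw [neg_eq_mul, e, one_mul]; exact hy
      · exfalso
        refine neg_one_ne_one h2 ?_
        have hm : (-1 : Matrix.SpecialLinearGroup (Fin 2) F) ^ p ^ (k + j) = 1 := by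
          have hy2 : y ^ p ^ (k + j) = 1 := by rw [pow_add, mul_comm, pow_mul, hj', one_pow]
          have h3 : ((-1 : Matrix.SpecialLinearGroup (Fin 2) F) ^ p ^ k * y ^ p ^ k) ^ p ^ j = 1 := by rw [hk, one_pow]
          rw [(show Commute ((-1 : Matrix.SpecialLinearGroup (Fin 2) F) ^ p ^ k) (y ^ p ^ k) from
            ((show Commute (-1 : Matrix.SpecialLinearGroup (Fin 2) F) y from
              (Subgroup.mem_center_iff.1 neg_one_mem_center y).symm).pow_pow _ _)).mul_pow, ← pow_mul, ← pow_mul,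
            ← pow_add, hy2, mul_one] at h3
          exact h3
        obtain ⟨m, hm'⟩ := hodd (k + j)
        rwa [hm', pow_succ, pow_mul, pow_two, neg_mul_self_eq, one_pow, one_mul] at hm

end Cfsg.Agent.S4356
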