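import Cfsg.Statements.S4358
import Mathlib
import Cfsg.Agent.MonomialSylow.Basic

set_option autoImplicit false
open Cfsg

namespace Cfsg.Agent.S4358

/-- Let p be an odd prime and F a finite field with q elements such that p divides q - 1 but p² does not. Then GL(p, F) has a Sylow p-subgroup Q such that every element of p-power order lies in some Sylow p-subgroup other than Q (a redundant Sylow p-subgroup). -/
theorem result {F : Type*} [Field F] [Fintype F] (p : ℕ) [Fact p.Prime]
    (hp : p ≠ 2) (h1 : p ∣ Fintype.card F - 1) (h2 : ¬ p ^ 2 ∣ Fintype.card F - 1) :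
    ∃ Q : Sylow p (Matrix.GeneralLinearGroup (Fin p) F), ∀ x : Matrix.GeneralLinearGroup (Fin p) F,
      (∃ k : ℕ, orderOf x = p ^ k) → ∃ P : Sylow p (Matrix.GeneralLinearGroup (Fin p) F), P ≠ Q ∧ x ∈ P := by
  classical
  obtain ⟨φ⟩ : Nonempty (GL (ZMod p) F ≃* GL (Fin p) F) :=
    ⟨Units.mapEquiv (Matrix.reindexAlgEquiv F F (Fintype.equivOfCardEq (by simp [ZMod.card]))).toMulEquiv⟩
  have hcard : Nat.card ((Cfsg.Agent.MonomialSylow.Q (F := F) (p := p)).map φ.toMonoidHom) =
      p ^ (Nat.card (GL (Fin p) F)).factorization p := by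
    rw [Subgroup.card_map_of_injective φ.injective, Cfsg.Agent.MonomialSylow.card_Q h1,
      Cfsg.Agent.MonomialSylow.factorization_card_GL hp h1 h2]
  let Q : Sylow p (GL (Fin p) F) := Sylow.ofCard _ hcard
  refine ⟨Q, fun x hx => ?_⟩
  by_cases hxQ : x ∈ Q
  · obtain ⟨y, hy, rfl⟩ : x ∈ (Cfsg.Agent.MonomialSylow.Q (F := F) (p := p)).map φ.toMonoidHom := hxQ
    obtain ⟨g, hgy, A, hA, hgA⟩ := Cfsg.Agent.MonomialSylow.exists_other hp h1 y hy
    have hP : Nat.card (((Cfsg.Agent.MonomialSylow.Q (F := F) (p := p)).map (MulAut.conj g).toMonoidHom).map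
        φ.toMonoidHom) = p ^ (Nat.card (GL (Fin p) F)).factorization p := by
      rw [Subgroup.card_map_of_injective φ.injective, Subgroup.card_map_of_injective (MulAut.conj g).injective,
        Cfsg.Agent.MonomialSylow.card_Q h1, Cfsg.Agent.MonomialSylow.factorization_card_GL hp h1 h2]
    refine ⟨Sylow.ofCard _ hP, ?_, ⟨y, ⟨g⁻¹ * y * g, hgy, ?_⟩, rfl⟩⟩
    · intro h
      have h' : ((Cfsg.Agent.MonomialSylow.Q (F := F) (p := p)).map (MulAut.conj g).toMonoidHom).map φ.toMonoidHom =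
          (Cfsg.Agent.MonomialSylow.Q (F := F) (p := p)).map φ.toMonoidHom :=
        congrArg (fun S : Sylow p (GL (Fin p) F) => (S : Subgroup (GL (Fin p) F))) h
      exact hgA (Subgroup.map_injective φ.injective h' ▸ ⟨A, hA, rfl⟩)
    · show g * (g⁻¹ * y * g) * g⁻¹ = y
      group
  · obtain ⟨k, hk⟩ := hx
    obtain ⟨P, hP⟩ := IsPGroup.exists_le_sylow (IsPGroup.of_card (p := p) (n := k)
      (show Nat.card (Subgroup.zpowers x) = p ^ k by rw [Nat.card_zpowers, hk]))
    exact ⟨P, fun h => hxQ (h ▸ hP (Subgroup.mem_zpowers x)), hP (Subgroup.mem_zpowers x)⟩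

end Cfsg.Agent.S4358
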