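import Cfsg.Statements.S4359
import Cfsg.Agent.SimsChain.Chain

set_option autoImplicit false
open Pointwise
open Cfsg

namespace Cfsg.Agent.S4359

open Subgroup Cfsg.Agent.SimsChain
open scoped Pointwise commutatorElement

/-- Let P be a subgroup of a finite group G and g an element such that P ∩ g⁻¹Pg is a normal subgroup of prime index p in g⁻¹Pg. Let n ≥ 1 and let K be the subgroup generated by P and its conjugates g⁻ⁱPgⁱ for i ≤ n. Suppose that g normalizes no non-identity normal subgroup of P and that P meets the center of K trivially. Then the order of P is pᵗ for some t with 1 ≤ t ≤ 3n and t ≠ 3n - 1. -/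
theorem result {G : Type*} [Group G] [Finite G]
    (P : Subgroup G) (g : G) (p : ℕ) (hp : p.Prime)
    (hN : ((P ⊓ MulAut.conj g⁻¹ • P).subgroupOf (MulAut.conj g⁻¹ • P)).Normal)
    (hidx : (P ⊓ MulAut.conj g⁻¹ • P).relIndex (MulAut.conj g⁻¹ • P) = p)
    (n : ℕ) (hn : 1 ≤ n) (K : Subgroup G) (hK : K = ⨆ i ∈ Finset.range (n + 1), MulAut.conj (g ^ i)⁻¹ • P)
    (h1 : ∀ Q : Subgroup G, Q ≤ P → (Q.subgroupOf P).Normal → MulAut.conj g • Q = Q → Q = ⊥)
    (h2 : P ⊓ (Subgroup.center K).map K.subtype = ⊥) :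
    ∃ t : ℕ, Nat.card P = p ^ t ∧ 1 ≤ t ∧ t ≤ 3 * n ∧ t ≠ 3 * n - 1 := by
  classical
  set φ : G ≃* G := MulAut.conj g⁻¹ with hφ
  have hmap : ∀ (ψ : MulAut G) (Q : Subgroup G), ψ • Q = Q.map ψ.toMonoidHom := fun ψ Q => rfl
  obtain ⟨t, x, ht1, hcard, hJP, hxφ, hord, hx1, hrule, hdisj, -⟩ := chain φ P hp
    (by rw [← hmap φ P]; exact hN) (by rw [← hmap φ P]; exact hidx)
    (fun Q hQ hQn hQf => h1 Q hQ hQn (by
      rw [← hmap φ Q, hφ, map_inv, inv_smul_eq_iff] at hQf
      exact hQf.symm))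
  have hshift : ∀ i j : ℤ, Commute (x i) (x j) ↔ Commute (x 0) (x (j - i)) := by
    intro i j
    have e : x j = ((φ : MulAut G) ^ i) (x (j - i)) := by
      rw [hxφ j, hxφ (j - i), ← MulAut.mul_apply, ← zpow_add, add_sub_cancel]
    rw [e, hxφ i]
    exact ⟨fun h => by
        simpa only [MulEquiv.coe_toMonoidHom, MulEquiv.symm_apply_apply] using
          h.map ((φ : MulAut G) ^ i).symm.toMonoidHom,
      fun h => h.map ((φ : MulAut G) ^ i).toMonoidHom⟩
  -- the abelian length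
  have hex : ∃ k : ℕ, 1 ≤ k ∧ (t ≤ k ∨ ¬ Commute (x 0) (x k)) := ⟨t, ht1, Or.inl le_rfl⟩
  set u := Nat.find hex with hu
  obtain ⟨hu1, hu2⟩ := Nat.find_spec hex
  have hut : u ≤ t := Nat.find_min' hex ⟨ht1, Or.inl le_rfl⟩
  have hcom : ∀ i j : ℤ, i < j → j - i < u → Commute (x i) (x j) := by
    intro i j hij hju
    obtain ⟨k, hk⟩ : ∃ k : ℕ, j - i = (k : ℤ) := ⟨(j - i).toNat, by omega⟩
    rw [hshift, hk]
    have hmin := Nat.find_min hex (show k < u by omega)
    push Not at hmin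
    exact (hmin (by omega)).2
  have h3 : 2 * t ≤ 3 * u := by
    rcases hut.eq_or_lt with e | hlt
    · omega
    exact two_mul_le hp x hord hu1 hlt hcom
      (fun i h => (hu2.resolve_left (by omega)) (by simpa using (hshift _ _).mp h)) hrule hdisj
  -- the centre of `K` meets `P` trivially
  have h4 : 2 * u ≤ t + n := by
    by_contra hlt
    set z := x ((u : ℤ) - 1) with hz
    have hzP : z ∈ P := hJP ▸ mem_J x (by omega) (by omega)
    have hgen : ∀ (i : ℕ) (k : ℤ), (i : ℤ) ≤ k → k < i + t → x k ∈ MulAut.conj (g ^ i)⁻¹ • P := by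
      intro i k hk1 hk2
      refine ⟨x (k - i), hJP ▸ mem_J x (by omega) (by omega), ?_⟩
      show MulAut.conj (g ^ i)⁻¹ (x (k - i)) = x k
      rw [← inv_pow, map_pow, ← hφ, hxφ k, hxφ (k - i), ← zpow_natCast, ← MulAut.mul_apply, ← zpow_add,
        add_sub_cancel]
    have hcz : K ≤ centralizer ({z} : Set G) := by
      rw [hK]
      refine iSup₂_le fun i hi => ?_
      rw [Finset.mem_range] at hi
      rw [hmap, map_le_iff_le_comap, ← hJP]
      refine (closure_le _).mpr ?_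
      rintro _ ⟨k, ⟨hk1, hk2⟩, rfl⟩
      refine mem_centralizer_singleton_iff.mpr ?_
      have e : (MulAut.conj (g ^ i)⁻¹).toMonoidHom (x k) = x (k + i) := by
        show MulAut.conj (g ^ i)⁻¹ (x k) = x (k + i)
        rw [← inv_pow, map_pow, ← hφ, hxφ k, hxφ (k + i), ← zpow_natCast, ← MulAut.mul_apply, ← zpow_add,
          add_comm]
      rw [e]
      rcases lt_trichotomy (k + (i : ℤ)) ((u : ℤ) - 1) with h | h | h
      · exact (hcom _ _ h (by omega)).eq
      · rw [hz, h]
      · exact (hcom _ _ h (by omega)).eq.symm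
    have hzK : z ∈ K := by
      rw [hK]
      refine Subgroup.mem_iSup_of_mem 0 (Subgroup.mem_iSup_of_mem (by simp) ?_)
      simpa using hzP
    have hzc : z ∈ (Subgroup.center K).map K.subtype :=
      ⟨⟨z, hzK⟩, Subgroup.mem_center_iff.mpr fun w =>
        Subtype.ext (mem_centralizer_singleton_iff.mp (hcz w.2)), rfl⟩
    have hbot : z ∈ P ⊓ (Subgroup.center K).map K.subtype := ⟨hzP, hzc⟩
    rw [h2, mem_bot] at hbot
    exact hx1 _ hbot
  exact ⟨t, hcard, ht1, by omega, by omega⟩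

end Cfsg.Agent.S4359
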