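import Cfsg.Statements.S4363
import Cfsg.Agent.Turull.Main
import Cfsg.Agent.Coprime.Action

set_option autoImplicit false
open Cfsg

namespace Cfsg.Agent.S4363

open CoprimeFitting (ser)

/-- Let G be a finite solvable group and σ an automorphism of G of prime order r not dividing the order of G, with fixed-point subgroup C. Then the Fitting height of G exceeds that of C by at most 2: if C has a chain of normal subgroups 1 = C₀ ≤ ⋯ ≤ Cₙ = C with nilpotent factors, then G has such a chain of length n + 2. -/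
theorem result {G : Type*} [Group G] [Finite G]
    (hG : Group.IsSolvable G) (σ : MulAut G) (r : ℕ) (hr : r.Prime) (hσ : orderOf σ = r) (hcop : ¬ r ∣ Nat.card G)
    (C : Subgroup G) (hC : ∀ g : G, g ∈ C ↔ σ g = g) (n : ℕ) (hn : (∃ F : Fin (n + 1) → Subgroup ↥C, F 0 = ⊥ ∧ F (Fin.last n) = ⊤ ∧ Monotone F ∧ (∀ i, (F i).Normal) ∧ ∀ i : Fin n, ∃ k : ℕ, (F i.succ).lowerCentralSeries k ≤ F i.castSucc)) :
    (∃ F : Fin ((n + 2) + 1) → Subgroup G, F 0 = ⊥ ∧ F (Fin.last (n + 2)) = ⊤ ∧ Monotone F ∧ (∀ i, (F i).Normal) ∧ ∀ i : Fin (n + 2), ∃ k : ℕ, (F i.succ).lowerCentralSeries k ≤ F i.castSucc) := by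
  refine CoprimeFitting.exists_chain ?_
  obtain ⟨F, hF0, hFlast, -, -, hF⟩ := hn
  have hCbot : ser C n = ⊥ := by
    have h1 := CoprimeFitting.ser_le_chain F hFlast hF n le_rfl
    rw [show (⟨n - n, by omega⟩ : Fin (n + 1)) = 0 from Fin.ext (by simp), hF0, le_bot_iff] at h1
    have h2 := CoprimeFitting.map_ser C.subtype (⊤ : Subgroup C) n
    rw [h1, Subgroup.map_bot, ← MonoidHom.range_eq_map, C.range_subtype] at h2
    exact h2.symm
  by_contra hne
  let A := Subgroup.zpowers σ
  let φ : A →* MulAut G := A.subtype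
  haveI : Finite A := (isOfFinOrder_iff_pow_eq_one.mpr
    ⟨r, hr.pos, hσ ▸ pow_orderOf_eq_one σ⟩).finite_zpowers
  haveI := Coprime.finite_semidirect φ
  let s : G ⋊[φ] A := SemidirectProduct.inr ⟨σ, Subgroup.mem_zpowers σ⟩
  have hconj : ∀ g : G, s * SemidirectProduct.inl g * s⁻¹ = SemidirectProduct.inl (σ g) := fun g =>
    Coprime.inr_conj_inl φ ⟨σ, Subgroup.mem_zpowers σ⟩ g
  haveI := Coprime.inG_normal φ
  have c : Turull.Ctx s r (Coprime.inG φ) :=
    { solv := Group.isSolvable_of_surjective (f := (SemidirectProduct.inl : G →* G ⋊[φ] A).rangeRestrict)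
        (MonoidHom.rangeRestrict_surjective _)
      norm := Subgroup.le_normalizer_of_normal (Subgroup.mem_top s)
      prime := hr
      pow := by
        have h1 : (⟨σ, Subgroup.mem_zpowers σ⟩ : A) ^ r = 1 := Subtype.ext (hσ ▸ pow_orderOf_eq_one σ)
        rw [show s ^ r = SemidirectProduct.inr ((⟨σ, Subgroup.mem_zpowers σ⟩ : A) ^ r) from (map_pow _ _ _).symm,
          h1, map_one]
      cop := by rwa [Coprime.card_inG] }
  have htop : (⊤ : Subgroup G).map SemidirectProduct.inl = Coprime.inG φ :=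
    (MonoidHom.range_eq_map _).symm
  have h0 : ser (Coprime.inG φ) (n + 2) ≠ ⊥ := by
    rw [← htop, ← CoprimeFitting.map_ser, Ne,
      Subgroup.map_eq_bot_iff_of_injective _ SemidirectProduct.inl_injective]
    exact hne
  refine Turull.fixed_ser_ne_bot c h0 ?_
  have hfix : Coprime.inG φ ⊓ Subgroup.centralizer {s} = C.map SemidirectProduct.inl := by
    ext x
    constructor
    · rintro ⟨⟨g, rfl⟩, hx⟩
      refine ⟨g, (hC g).mpr (SemidirectProduct.inl_injective (φ := φ) ?_), rfl⟩
      rw [← hconj, ← Subgroup.mem_centralizer_singleton_iff.mp hx, mul_inv_cancel_right]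
    · rintro ⟨g, hg, rfl⟩
      refine ⟨⟨g, rfl⟩, Subgroup.mem_centralizer_singleton_iff.mpr ?_⟩
      have h := hconj g
      rw [(hC g).mp hg] at h
      exact (mul_inv_eq_iff_eq_mul.mp h).symm
  rw [hfix, ← CoprimeFitting.map_ser, hCbot, Subgroup.map_bot]

end Cfsg.Agent.S4363
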