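import Cfsg.Statements.S4365
-- import your own Cfsg.Agent.* helpers here

set_option autoImplicit false
open Cfsg
open scoped IsMulCommutative

namespace Cfsg.Agent.S4365

/-- For commuting `g`, `h` of order `p` on an abelian group, the norms of the subgroups of order `p`
recover the `p`-th power. -/
theorem pow_mem_of_norms {M : Type*} [CommGroup M] (p : ℕ) [Fact p.Prime] (Z : Subgroup M)
    (σ τ : MulAut M) (hc : Commute σ τ) (hσ : σ ^ p = 1) (a : M)
    (hg : ∏ k ∈ Finset.range p, (σ ^ k) a ∈ Z) (hfix : ∀ z ∈ Z, τ z = z)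
    (hh : ∀ i : ℕ, ∏ k ∈ Finset.range p, ((τ * σ ^ i) ^ k) a ∈ Z) : a ^ p ∈ Z := by
  have hp := (Fact.out : p.Prime)
  have hall : ∏ i ∈ Finset.range p, ∏ k ∈ Finset.range p, ((τ * σ ^ i) ^ k) a ∈ Z :=
    Z.prod_mem fun i _ => hh i
  rw [Finset.prod_comm] at hall
  obtain ⟨n, hn⟩ : ∃ n, p = n + 1 := ⟨p - 1, by have := hp.pos; omega⟩
  rw [show Finset.range p = Finset.range (n + 1) from by rw [← hn], Finset.prod_range_succ'] at hall
  rw [← hn] at hall
  have h0 : ∏ i ∈ Finset.range p, ((τ * σ ^ i) ^ 0) a = a ^ p := by simp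
  rw [h0] at hall
  have hk : ∀ k ∈ Finset.range n, ∏ i ∈ Finset.range p, ((τ * σ ^ i) ^ (k + 1)) a ∈ Z := by
    intro k hk
    rw [Finset.mem_range] at hk
    have hnd : ¬ p ∣ k + 1 := fun h => by have := Nat.le_of_dvd (by omega) h; omega
    have e : ∏ i ∈ Finset.range p, ((τ * σ ^ i) ^ (k + 1)) a =
        (τ ^ (k + 1)) (∏ i ∈ Finset.range p, (σ ^ i) a) := by
      rw [map_prod]
      refine Finset.prod_bij (fun i _ => i * (k + 1) % p) (fun i _ => Finset.mem_range.mpr (Nat.mod_lt _ hp.pos)) ?_ ?_ ?_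
      · intro i hi j hj hij
        have := Nat.ModEq.cancel_right_of_coprime (c := k + 1) (hp.coprime_iff_not_dvd.mpr hnd) hij
        rwa [Nat.ModEq, Nat.mod_eq_of_lt (Finset.mem_range.mp hi), Nat.mod_eq_of_lt (Finset.mem_range.mp hj)] at this
      · intro j hj
        have hinj : Function.Injective (fun i : ZMod p => i * ((k + 1 : ℕ) : ZMod p)) :=
          mul_left_injective₀ (fun h => hnd ((ZMod.natCast_eq_zero_iff _ p).mp h))
        obtain ⟨i, hi⟩ := Finite.surjective_of_injective hinj (j : ZMod p)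
        refine ⟨i.val, Finset.mem_range.mpr (ZMod.val_lt i), ?_⟩
        have h2 : ((i.val * (k + 1) : ℕ) : ZMod p) = (j : ZMod p) := by
          rw [Nat.cast_mul, ZMod.natCast_zmod_val]; exact hi
        rw [ZMod.natCast_eq_natCast_iff] at h2
        exact Eq.trans h2 (Nat.mod_eq_of_lt (Finset.mem_range.mp hj))
      · intro i _
        rw [(hc.symm.pow_right i).mul_pow, ← pow_mul, MulAut.mul_apply]
        congr 2
        conv_lhs => rw [← Nat.mod_add_div (i * (k + 1)) p, pow_add, pow_mul, hσ, one_pow, mul_one]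
    rw [e]
    have hfix' : ∀ m : ℕ, ∀ z ∈ Z, (τ ^ m) z = z := by
      intro m
      induction m with
      | zero => intro z _; simp
      | succ m ih => intro z hz; rw [pow_succ', MulAut.mul_apply, ih z hz, hfix z hz]
    rw [hfix' _ _ hg]
    exact hg
  exact (Z.mul_mem_cancel_left (Z.prod_mem hk)).mp hall


/-- Let P be a finite p-group whose conjugacy class sizes are exactly 1 and pᵃ for some a ≥ 1. Then every element of P has its p-th power in the center of P (P/Z(P) has exponent p). -/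
theorem result {P : Type*} [Group P] [Finite P] (p : ℕ) [Fact p.Prime]
    (hP : IsPGroup p P) (a : ℕ) (ha : 1 ≤ a)
    (hcs : {k : ℕ | ∃ x : P, (Subgroup.centralizer ({x} : Set P)).index = k} = {1, p ^ a}) (x : P) :
    x ^ p ∈ Subgroup.center P := by
  classical
  have hp := (Fact.out : p.Prime)
  by_contra hx
  set Z := Subgroup.center P with hZ
  set c : P → Subgroup P := fun y => Subgroup.centralizer ({y} : Set P) with hc
  have hmemc : ∀ {y g : P}, g ∈ c y ↔ y * g = g * y := fun {y g} =>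
    ⟨fun h => Subgroup.mem_centralizer_iff.mp h y rfl,
      fun h => Subgroup.mem_centralizer_iff.mpr fun z hz => by rw [Set.mem_singleton_iff.mp hz]; exact h⟩
  have hcz : ∀ y, c y = ⊤ ↔ y ∈ Z := fun y => by
    rw [hZ, Subgroup.mem_center_iff, Subgroup.eq_top_iff']
    exact forall_congr' fun g => hmemc.trans eq_comm
  have hidx : ∀ y ∉ Z, (c y).index = p ^ a := by
    intro y hy
    have h1 : (c y).index ∈ ({1, p ^ a} : Set ℕ) := hcs ▸ (show (c y).index ∈
      {k : ℕ | ∃ x : P, (Subgroup.centralizer ({x} : Set P)).index = k} from ⟨y, rfl⟩)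
    rcases h1 with h1 | h1
    · exact absurd ((hcz y).mp (Subgroup.index_eq_one.mp h1)) hy
    · exact h1
  have heq : ∀ y w, y ∉ Z → w ∉ Z → c y ≤ c w → c y = c w := by
    intro y w hy hw hle
    refine le_antisymm hle (Subgroup.relIndex_eq_one.mp ?_)
    have h := Subgroup.relIndex_mul_index hle
    rw [hidx y hy, hidx w hw] at h
    exact (Nat.mul_eq_right (pow_ne_zero _ hp.ne_zero)).mp h
  have hpow : ∀ w : P, w ^ p ∉ Z → c w = c (w ^ p) := fun w hw => by
    refine heq w _ (fun h => hw (Z.pow_mem h p)) hw fun g hg => hmemc.mpr ?_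
    exact (Commute.pow_left (hmemc.mp hg) p).eq
  -- a central element of order `p` of the quotient
  have hxZ : x ∉ Z := fun h => hx (Z.pow_mem h p)
  have : Nontrivial (P ⧸ Z) := ⟨⟨(x : P ⧸ Z), 1, fun h => hxZ ((QuotientGroup.eq_one_iff x).mp h)⟩⟩
  have : Nontrivial (Subgroup.center (P ⧸ Z)) := (hP.to_quotient Z).center_nontrivial
  obtain ⟨⟨zb, hzbc⟩, hzb⟩ := exists_prime_orderOf_dvd_card' (G := Subgroup.center (P ⧸ Z)) p (by
    obtain ⟨n, hn⟩ := ((hP.to_quotient Z).to_subgroup (Subgroup.center (P ⧸ Z))).exists_card_eq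
    rw [hn]
    refine dvd_pow_self p ?_
    rintro rfl
    exact Finite.one_lt_card.ne (hn.trans (pow_zero p)).symm)
  obtain ⟨z, rfl⟩ := QuotientGroup.mk'_surjective Z zb
  rw [Subgroup.orderOf_mk] at hzb
  have hzZ : z ∉ Z := fun h => by
    rw [show QuotientGroup.mk' Z z = 1 from (QuotientGroup.eq_one_iff z).mpr h, orderOf_one] at hzb
    exact hp.one_lt.ne hzb
  have hbig : ∀ w : P, w ^ p ∉ Z → c w = c z := by
    intro w hw
    have h1 : (QuotientGroup.mk' Z) ((w * z) ^ p) = (QuotientGroup.mk' Z) (w ^ p) := by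
      rw [map_pow, map_mul, Commute.mul_pow (Subgroup.mem_center_iff.mp hzbc _), ← map_pow, ← hzb,
        pow_orderOf_eq_one, mul_one]
    have h2 : (w * z) ^ p * (w ^ p)⁻¹ ∈ Z := by
      rw [← QuotientGroup.eq_one_iff]
      show QuotientGroup.mk' Z _ = 1
      rw [map_mul, map_inv, h1, mul_inv_cancel]
    have h3 : (w * z) ^ p ∉ Z := fun h => hw (by simpa using Z.mul_mem (Z.inv_mem h2) h)
    have h4 : c ((w * z) ^ p) = c (w ^ p) := by
      refine (heq _ _ hw h3 fun g hg => hmemc.mpr ?_).symm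
      have e : (w * z) ^ p = (w * z) ^ p * (w ^ p)⁻¹ * w ^ p := by group
      rw [e]
      exact (Commute.mul_left ((Subgroup.mem_center_iff.mp h2 g).symm) (hmemc.mp hg)).eq
    refine heq w z (fun h => hw (Z.pow_mem h p)) hzZ fun g hg => hmemc.mpr ?_
    have h5 : g ∈ c (w * z) := by rw [hpow _ h3, h4, ← hpow _ hw]; exact hg
    have e6 : z = w⁻¹ * (w * z) := by group
    rw [e6]
    exact (Commute.mul_left (Commute.inv_left (hmemc.mp hg)) (hmemc.mp h5)).eq
  set A := c z with hA
  have hxA : x ∈ A := by rw [← hbig x hx]; exact hmemc.mpr rfl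
  have hAn : A.Normal := by
    refine ⟨fun b hb g => hmemc.mpr ?_⟩
    have h1 : g * z * g⁻¹ * z⁻¹ ∈ Z := by
      rw [← QuotientGroup.eq_one_iff]
      show QuotientGroup.mk' Z _ = 1
      rw [map_mul, map_mul, map_mul, map_inv, map_inv, Subgroup.mem_center_iff.mp hzbc, mul_inv_cancel_right,
        mul_inv_cancel]
    have h2 : Commute (g * z * g⁻¹) (g * b * g⁻¹) := by
      simpa using Commute.map (hmemc.mp hb) (MulAut.conj g).toMonoidHom
    have e : z = (g * z * g⁻¹ * z⁻¹)⁻¹ * (g * z * g⁻¹) := by group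
    rw [e]
    exact (Commute.mul_left ((Subgroup.mem_center_iff.mp (Z.inv_mem h1) _).symm) h2).eq
  have hxc : ∀ g ∈ A, ∀ b ∈ A, g * b = b * g := by
    intro g hg b hb
    have hgA : c g = A ∨ c (g * x) = A := by
      by_cases hgp : g ^ p ∈ Z
      · refine Or.inr (hbig _ ?_)
        have hcomm : Commute g x := by
          have := hbig x hx ▸ hg
          exact Commute.symm (hmemc.mp this)
        rw [hcomm.mul_pow]
        exact fun h => hx (by simpa using Z.mul_mem (Z.inv_mem hgp) h)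
      · exact Or.inl (hbig g hgp)
    rcases hgA with h | h
    · exact hmemc.mp (h ▸ hb)
    · have h1 : Commute (g * x) b := hmemc.mp (h ▸ hb)
      have h2 : Commute x b := hmemc.mp ((hbig x hx).symm ▸ hb : b ∈ c x)
      have := h1.mul_left h2.inv_left
      rw [mul_inv_cancel_right] at this
      exact this
  have : IsMulCommutative A := ⟨⟨fun g b => Subtype.ext (hxc g g.2 b b.2)⟩⟩
  have hcA : ∀ b ∈ A, b ∉ Z → c b = A := fun b hb hbZ =>
    (heq z b hzZ hbZ fun g hg => hmemc.mpr (hxc b hb g hg)).symm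
  have hsmall : ∀ g ∉ A, g ^ p ∈ Z := fun g hg => by
    by_contra h
    exact hg (hbig g h ▸ hmemc.mpr rfl)
  have hAidx : A.index = p ^ a := hidx z hzZ
  have hAtop : A ≠ ⊤ := fun h => by
    rw [h, Subgroup.index_top] at hAidx
    exact (Nat.one_lt_pow (by omega) hp.one_lt).ne hAidx
  -- an element of order `p` central modulo `A`
  have : Nontrivial (P ⧸ A) := QuotientGroup.nontrivial_iff.mpr hAtop
  have : Nontrivial (Subgroup.center (P ⧸ A)) := (hP.to_quotient A).center_nontrivial
  obtain ⟨gb, hgbne⟩ := exists_ne (1 : Subgroup.center (P ⧸ A))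
  obtain ⟨g, hg⟩ := QuotientGroup.mk'_surjective A (gb : P ⧸ A)
  have hgA : g ∉ A := fun h => hgbne (Subtype.ext (hg.symm.trans ((QuotientGroup.eq_one_iff g).mpr h)))
  have hinj : ∀ b ∈ A, b ∈ c g → b ∈ Z := by
    intro b hb hbg
    by_contra hbZ
    exact hgA (hcA b hb hbZ ▸ hmemc.mpr (hmemc.mp hbg).symm)
  have hgZ : g ∉ Z := fun h => hgA (hmemc.mpr (Subgroup.mem_center_iff.mp h z))
  by_cases hcyc : ∀ h : P, ∃ i : ℕ, (g ^ i)⁻¹ * h ∈ A
  · -- `A` has index `p`
    have hidx' : A.index ≤ p := by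
      rw [Subgroup.index_eq_card, ← Nat.card_fin p]
      refine Nat.card_le_card_of_surjective (fun i : Fin p => ((g ^ (i : ℕ) : P) : P ⧸ A)) fun q => ?_
      induction q using QuotientGroup.induction_on with
      | _ h =>
        obtain ⟨i, hi⟩ := hcyc h
        refine ⟨⟨i % p, Nat.mod_lt _ hp.pos⟩, QuotientGroup.eq.mpr ?_⟩
        have e : (g ^ (i % p))⁻¹ * h = (g ^ p) ^ (i / p) * ((g ^ i)⁻¹ * h) := by
          have e2 : g ^ i = g ^ (i % p) * (g ^ p) ^ (i / p) := by rw [← pow_mul, ← pow_add, Nat.mod_add_div]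
          rw [e2]; group
        rw [e]
        refine A.mul_mem (A.pow_mem ?_ _) hi
        exact hmemc.mpr (Subgroup.mem_center_iff.mp (hsmall g hgA) z)
    have ha1 : a = 1 := by
      rw [hAidx] at hidx'
      have := (Nat.pow_le_pow_iff_right hp.one_lt).mp (hidx'.trans_eq (pow_one p).symm)
      omega
    have hle : Z.relIndex A ≤ p := by
      have e : Z.relIndex A = (c g).relIndex A := by
        rw [← Subgroup.inf_relIndex_right (H := c g), ← Subgroup.inf_relIndex_right (H := Z)]
        congr 1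
        refine le_antisymm (fun b hb => ⟨hmemc.mpr (Subgroup.mem_center_iff.mp hb.1 g), hb.2⟩)
          fun b hb => ⟨hinj b hb.2 hb.1, hb.2⟩
      rw [e]
      refine (Subgroup.relIndex_le_of_le_right le_top ?_).trans ?_
      · rw [Subgroup.relIndex_top_right]; exact Subgroup.index_ne_zero_of_finite
      · rw [Subgroup.relIndex_top_right, hidx g hgZ, ha1, pow_one]
    obtain ⟨k, hk⟩ := ((hP.to_subgroup A).to_quotient (Z.subgroupOf A)).exists_card_eq
    rw [← Subgroup.index_eq_card] at hk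
    have h2 := Subgroup.pow_index_mem (Z.subgroupOf A) ⟨x, hxA⟩
    rw [hk, Subgroup.mem_subgroupOf, SubmonoidClass.coe_pow] at h2
    have hk1 : k ≤ 1 := (Nat.pow_le_pow_iff_right hp.one_lt).mp (by rw [← hk, pow_one]; exact hle)
    rcases Nat.le_one_iff_eq_zero_or_eq_one.mp hk1 with rfl | rfl
    · exact hxZ (by simpa using h2)
    · exact hx (by simpa using h2)
  -- two independent elements outside `A`
  push Not at hcyc
  obtain ⟨h, hh⟩ := hcyc
  have hgh : g * h * g⁻¹ * h⁻¹ ∈ A := by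
    rw [← QuotientGroup.eq_one_iff]
    show QuotientGroup.mk' A _ = 1
    rw [map_mul, map_mul, map_mul, map_inv, map_inv, hg, ← Subgroup.mem_center_iff.mp gb.2 _,
      mul_inv_cancel_right, mul_inv_cancel]
  let ρ : P →* MulAut A := MulAut.conjNormal
  have htriv : ∀ b ∈ A, ρ b = 1 := fun b hb => MulEquiv.ext fun y => Subtype.ext (by
    show b * (y : P) * b⁻¹ = y
    rw [hxc b hb y y.2, mul_inv_cancel_right])
  have hcomm : Commute (ρ g) (ρ h) := by
    have := htriv _ hgh
    rw [map_mul, map_mul, map_mul, map_inv, map_inv, mul_inv_eq_one, mul_inv_eq_iff_eq_mul] at this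
    exact this
  have hnorm : ∀ u ∉ A, ∀ b : A, ∏ k ∈ Finset.range p, (ρ u ^ k) b ∈ Z.subgroupOf A := by
    intro u hu b
    have hbu : (b : P) * u ∉ A := fun h => hu (by simpa using A.mul_mem (A.inv_mem b.2) h)
    have hexp : ∀ k : ℕ, ((b : P) * u) ^ k = ((∏ i ∈ Finset.range k, (ρ u ^ i) b : A) : P) * u ^ k := by
      intro k
      induction k with
      | zero => simp
      | succ k ih =>
        rw [pow_succ, ih, Finset.prod_range_succ, Subgroup.coe_mul, ← map_pow]
        show _ = _ * (u ^ k * (b : P) * (u ^ k)⁻¹) * u ^ (k + 1)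
        group
    rw [Subgroup.mem_subgroupOf]
    have e := hexp p
    have : ((∏ i ∈ Finset.range p, (ρ u ^ i) b : A) : P) = ((b : P) * u) ^ p * (u ^ p)⁻¹ := by
      rw [e, mul_inv_cancel_right]
    rw [this]
    exact Z.mul_mem (hsmall _ hbu) (Z.inv_mem (hsmall u hu))
  refine hx ?_
  have := pow_mem_of_norms p (Z.subgroupOf A) (ρ g) (ρ h) hcomm ?_ ⟨x, hxA⟩ (hnorm g hgA _) ?_ ?_
  · simpa [Subgroup.mem_subgroupOf] using this
  · rw [← map_pow]
    exact htriv _ (hmemc.mpr (Subgroup.mem_center_iff.mp (hsmall g hgA) z))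
  · intro b hb
    refine Subtype.ext ?_
    show h * (b : P) * h⁻¹ = b
    rw [Subgroup.mem_center_iff.mp (Subgroup.mem_subgroupOf.mp hb) h, mul_inv_cancel_right]
  · intro i
    rw [← map_pow, ← map_mul]
    refine hnorm _ (fun hmem => ?_) _
    have h0 : (g ^ i * h) ∈ A := by
      rwa [hAn.mem_comm_iff] at hmem
    by_cases hi : p ∣ i
    · obtain ⟨m, rfl⟩ := hi
      refine hh 0 ?_
      have hgp : g ^ (p * m) ∈ A := by
        rw [pow_mul]; exact A.pow_mem (hmemc.mpr (Subgroup.mem_center_iff.mp (hsmall g hgA) z)) m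
      simpa using A.mul_mem (A.inv_mem hgp) h0
    · refine hh ((p - 1) * i) ?_
      have hgp : g ^ (p * i) ∈ A := by
        rw [pow_mul]; exact A.pow_mem (hmemc.mpr (Subgroup.mem_center_iff.mp (hsmall g hgA) z)) i
      have e : (g ^ ((p - 1) * i))⁻¹ * h = (g ^ (p * i))⁻¹ * (g ^ i * h) := by
        rw [show p * i = i + (p - 1) * i by
          conv_lhs => rw [show p = 1 + (p - 1) from by have := hp.pos; omega]
          ring, pow_add]
        group
      rw [e]
      exact A.mul_mem (A.inv_mem hgp) h0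

end Cfsg.Agent.S4365
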