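import Cfsg.Statements.S4372
import Cfsg.Agent.BaseTwo.Transfer

set_option autoImplicit false
open Cfsg

namespace Cfsg.Agent.S4372

/-- Let the finite solvable group A act faithfully by automorphisms on the finite group K with the orders of A and K coprime. Then there are two elements x, y of K such that only the identity of A fixes both. -/
theorem result {A K : Type*} [Group A] [Finite A] [Group K] [Finite K]
    [MulDistribMulAction A K] [FaithfulSMul A K] (hA : Group.IsSolvable A) (hcop : (Nat.card A).Coprime (Nat.card K)) :
    ∃ x y : K, ∀ a : A, a • x = x → a • y = y → a = 1 := by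
  let H := (MulDistribMulAction.toMulAut A K).range
  letI : MulDistribMulAction H K :=
    { smul := fun h x => h.1 x
      one_smul := fun x => rfl
      mul_smul := fun g h x => rfl
      smul_mul := fun h x y => map_mul h.1 x y
      smul_one := fun h => map_one h.1 }
  haveI : Group.IsSolvable H :=
    haveI := hA
    Group.isSolvable_of_surjective (MulDistribMulAction.toMulAut A K).rangeRestrict_surjective
  haveI : Finite H := Finite.of_surjective _ (MulDistribMulAction.toMulAut A K).rangeRestrict_surjective
  obtain ⟨x, y, h⟩ := Cfsg.Agent.BaseTwo.Transfer.pair_group (A := H) K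
    (Nat.Coprime.coprime_dvd_left (Subgroup.card_range_dvd _) hcop)
  refine ⟨x, y, fun a hx hy => eq_of_smul_eq_smul (α := K) fun z => ?_⟩
  rw [one_smul]
  exact h ⟨_, a, rfl⟩ hx hy z

end Cfsg.Agent.S4372
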