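import Cfsg.Statements.S4373
import Cfsg.Agent.BaseTwo.Transfer
import Cfsg.Agent.OddLocal.InvTransitivity

set_option autoImplicit false
open Pointwise
open Cfsg

namespace Cfsg.Agent.S4373

open Subgroup Cfsg.Agent.OddLocal

universe u

/-- A series with each factor a `p`-power for `p ∈ π` or a `π'`-number. -/
def HasSeries (π : Set ℕ) (G : Type u) [Group G] : Prop :=
  ∃ (n : ℕ) (N : Fin (n + 1) → Subgroup G), N 0 = ⊥ ∧ N (Fin.last n) = ⊤ ∧ Monotone N ∧ (∀ i, (N i).Normal) ∧
    ∀ i : Fin n, (∃ p ∈ π, p.Prime ∧ ∃ k : ℕ, (N i.castSucc).relIndex (N i.succ) = p ^ k) ∨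
      (∀ q : ℕ, q.Prime → q ∣ (N i.castSucc).relIndex (N i.succ) → q ∉ π)

variable {G : Type u} [Group G] [Finite G] {π : Set ℕ}

theorem relIndex_map_dvd {Q : Type u} [Group Q] (f : G →* Q) (hf : Function.Surjective f) {A B : Subgroup G}
    (hA : A.Normal) : (A.map f).relIndex (B.map f) ∣ A.relIndex B := by
  haveI := hA.map f hf
  let g : G →* Q ⧸ A.map f := (QuotientGroup.mk' (A.map f)).comp f
  have e : (A.map f).relIndex (B.map f) = g.ker.relIndex B := by
    rw [relIndex_ker, ← Subgroup.map_map, ← relIndex_ker, QuotientGroup.ker_mk']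
  rw [e]
  exact relIndex_dvd_of_le_left _ fun a ha => (QuotientGroup.eq_one_iff _).2 (Subgroup.mem_map_of_mem f ha)

theorem HasSeries.map {Q : Type u} [Group Q] (f : G →* Q) (hf : Function.Surjective f)
    (h : HasSeries π G) : HasSeries π Q := by
  obtain ⟨n, N, h0, h1, hm, hn, hi⟩ := h
  refine ⟨n, fun i => (N i).map f, by simp only [h0, Subgroup.map_bot],
    by simp only [h1, Subgroup.map_top_of_surjective f hf],
    fun i j hij => Subgroup.map_mono (hm hij), fun i => (hn i).map f hf, fun i => ?_⟩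
  rcases hi i with ⟨p, hp, hpp, k, hk⟩ | hq
  · obtain ⟨j, _, hj⟩ := (Nat.dvd_prime_pow hpp).1 (hk ▸ relIndex_map_dvd f hf (B := N i.succ) (hn i.castSucc))
    exact Or.inl ⟨p, hp, hpp, j, hj⟩
  · exact Or.inr fun q hq1 hd => hq q hq1 (hd.trans (relIndex_map_dvd f hf (hn i.castSucc)))

/-- A `π`-subgroup is solvable. -/
theorem isSolvable_of_series (h : HasSeries π G) (H : Subgroup G) (hH : PiNum π H) : Group.IsSolvable H := by
  obtain ⟨n, N, h0, h1, hm, hn, hi⟩ := h
  suffices ∀ i : Fin (n + 1), Group.IsSolvable ↥(H ⊓ N i) by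
    have h2 := this (Fin.last n)
    rw [h1, inf_top_eq] at h2
    exact h2
  intro i
  induction i using Fin.induction with
  | zero =>
    rw [h0, inf_bot_eq]
    infer_instance
  | succ i ih =>
    haveI := hn i.castSucc
    let f : ↥(H ⊓ N i.succ) →* G ⧸ N i.castSucc := (QuotientGroup.mk' _).comp (H ⊓ N i.succ).subtype
    haveI : Group.IsSolvable f.range := by
      have hd1 : Nat.card f.range ∣ Nat.card H :=
        (Subgroup.card_range_dvd f).trans (Subgroup.card_dvd_of_le inf_le_left)
      have hd2 : Nat.card f.range ∣ (N i.castSucc).relIndex (N i.succ) := by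
        have e : (N i.castSucc).relIndex (N i.succ) = Nat.card ((N i.succ).map (QuotientGroup.mk' (N i.castSucc))) := by
          rw [← relIndex_ker, QuotientGroup.ker_mk']
        rw [e]
        apply Subgroup.card_dvd_of_le
        rintro _ ⟨x, rfl⟩
        exact ⟨x.1, x.2.2, rfl⟩
      rcases hi i with ⟨p, _, hpp, k, hk⟩ | hq
      · haveI := Fact.mk hpp
        obtain ⟨j, _, hj⟩ := (Nat.dvd_prime_pow hpp).1 (hk ▸ hd2)
        haveI := (IsPGroup.of_card hj).isNilpotent
        infer_instance
      · have h1 : Nat.card f.range = 1 := Nat.eq_one_iff_not_exists_prime_dvd.2 fun q hq1 hd =>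
          hq q hq1 (hd.trans hd2) (hH q hq1 (hd.trans hd1))
        haveI := (Nat.card_eq_one_iff_unique.1 h1).1
        exact Group.isSolvable_of_comm fun a b => Subsingleton.elim _ _
    have hk : f.ker.map (H ⊓ N i.succ).subtype ≤ H ⊓ N i.castSucc := by
      rintro _ ⟨x, hx, rfl⟩
      exact ⟨x.2.1, (QuotientGroup.eq_one_iff _).1 hx⟩
    haveI := ih
    haveI : Group.IsSolvable ↥(f.ker.map (H ⊓ N i.succ).subtype) :=
      solvable_of_solvable_injective (f := Subgroup.inclusion hk) (Subgroup.inclusion_injective hk)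
    haveI : Group.IsSolvable f.ker :=
      solvable_of_solvable_injective (f := (f.ker.equivMapOfInjective _ (Subgroup.subtype_injective _)).toMonoidHom)
        (MulEquiv.injective _)
    exact Group.isSolvable_of_ker_le_range f.ker.subtype f.rangeRestrict (by
      rw [MonoidHom.ker_rangeRestrict, Subgroup.range_subtype])

/-- Hall–Higman 1.2.3. -/
theorem centralizer_le_core (h : HasSeries π G) (hO : piCore π G = ⊥) :
    centralizer (piCore {q | q ∉ π} G : Set G) ≤ piCore {q | q ∉ π} G := by
  obtain ⟨n, N, h0, h1, hm, hn, hi⟩ := h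
  set R := piCore {q | q ∉ π} G with hR
  haveI : R.Normal := piCore_normal _ _
  suffices ∀ i : Fin (n + 1), centralizer (R : Set G) ⊓ N i ≤ R by
    have h2 := this (Fin.last n)
    rwa [h1, inf_top_eq] at h2
  intro i
  induction i using Fin.induction with
  | zero => rw [h0, inf_bot_eq]; exact bot_le
  | succ i ih =>
    set M := centralizer (R : Set G) ⊓ N i.succ with hM
    haveI := hn i.succ
    haveI := hn i.castSucc
    haveI : M.Normal := Subgroup.normal_inf_normal _ _
    have hMR : R.relIndex M ∣ (N i.castSucc).relIndex (N i.succ) := by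
      have e1 : M ⊓ N i.castSucc ≤ R := fun x hx => ih ⟨hx.1.1, hx.2⟩
      have e2 : R.relIndex M ∣ (N i.castSucc).relIndex M := by
        rw [← Subgroup.inf_relIndex_right (N i.castSucc)]
        exact relIndex_dvd_of_le_left _ (by rwa [inf_comm])
      refine e2.trans ?_
      rw [← relIndex_ker_eq (N i.castSucc) M, ← relIndex_ker_eq (N i.castSucc) (N i.succ)]
      exact Subgroup.card_dvd_of_le (Subgroup.map_mono inf_le_right)
    have hcard : Nat.card ↥(R ⊓ M) * R.relIndex M = Nat.card M := by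
      have e := relIndex_mul_relIndex ⊥ (R ⊓ M) M bot_le inf_le_right
      rwa [relIndex_bot_left, relIndex_bot_left, Subgroup.inf_relIndex_right] at e
    have hR' : PiNum {q | q ∉ π} R := piNum_piCore _
    suffices hrel : ∀ q : ℕ, q.Prime → q ∈ π → ¬ q ∣ Nat.card M by
      exact le_sSup ⟨inferInstance, fun q hq hd hqπ => hrel q hq hqπ hd⟩
    intro q hq hqπ hd
    rcases hi i with ⟨p, hp, hpp, k, hk⟩ | hqn
    · haveI := Fact.mk hpp
      have hqp : q = p := by
        rcases hq.dvd_mul.1 (hcard ▸ hd) with h | h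
        · exact absurd hqπ (hR' q hq (h.trans (Subgroup.card_dvd_of_le inf_le_left)))
        · exact (Nat.prime_dvd_prime_iff_eq hq hpp).1 (hq.dvd_of_dvd_pow (hk ▸ h.trans hMR))
      subst hqp
      let f : M →* G ⧸ R := (QuotientGroup.mk' R).comp M.subtype
      have hkerc : f.ker ≤ Subgroup.center M := fun x hx => Subgroup.mem_center_iff.2 fun g => Subtype.ext
        (Subgroup.mem_centralizer_iff.1 g.2.1 x.1 ((QuotientGroup.eq_one_iff _).1 hx)).symm
      have hrange : Nat.card f.range = R.relIndex M := by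
        rw [← relIndex_ker_eq R M]
        congr 1
        rw [show f.range = M.map (QuotientGroup.mk' R) by rw [MonoidHom.range_comp, Subgroup.range_subtype]]
      obtain ⟨j, _, hj⟩ := (Nat.dvd_prime_pow hpp).1 (hk ▸ hMR)
      haveI : Group.IsNilpotent f.range := (IsPGroup.of_card (hrange.trans hj)).isNilpotent
      haveI : Group.IsNilpotent M := Subgroup.isNilpotent_of_ker_le_center f.rangeRestrict
        (by rw [MonoidHom.ker_rangeRestrict]; exact hkerc)
      obtain ⟨P⟩ := (inferInstance : Nonempty (Sylow q M))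
      haveI hPn : (P : Subgroup M).Normal :=
        (Group.isNilpotent_of_finite_tfae.out 0 3 rfl rfl).mp (inferInstance : Group.IsNilpotent M) q ⟨hpp⟩ P
      haveI := P.characteristic_of_normal hPn
      have hle : (P : Subgroup M).map M.subtype ≤ piCore π G := le_sSup ⟨inferInstance, fun r hr hrd => by
        rw [Subgroup.card_map_of_injective M.subtype_injective, P.card_eq_multiplicity] at hrd
        exact (Nat.prime_dvd_prime_iff_eq hr hq).1 (hr.dvd_of_dvd_pow hrd) ▸ hp⟩
      rw [hO, le_bot_iff, Subgroup.map_eq_bot_iff_of_injective _ M.subtype_injective] at hle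
      exact P.ne_bot_of_dvd_card hd hle
    · rcases hq.dvd_mul.1 (hcard ▸ hd) with h | h
      · exact hR' q hq (h.trans (Subgroup.card_dvd_of_le inf_le_left)) hqπ
      · exact hqn q hq (h.trans hMR) hqπ
where
  relIndex_ker_eq (A B : Subgroup G) [A.Normal] : Nat.card (B.map (QuotientGroup.mk' A)) = A.relIndex B := by
    rw [← relIndex_ker, QuotientGroup.ker_mk']

/-- The `π`-core of the quotient by the `π`-core. -/
theorem core_quot : piCore π (G ⧸ piCore π G) = ⊥ := by
  set f := QuotientGroup.mk' (piCore π G) with hf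
  haveI := piCore_normal π (G ⧸ piCore π G)
  set B := (piCore π (G ⧸ piCore π G)).comap f with hB
  have hsurj : Function.Surjective f := QuotientGroup.mk'_surjective _
  have hBm : B.map f = piCore π (G ⧸ piCore π G) := map_comap_eq_self_of_surjective hsurj _
  have h1 : B ≤ piCore π G := le_sSup ⟨(piCore_normal π (G ⧸ piCore π G)).comap f, fun r hr hd => by
    have e := relIndex_mul_relIndex ⊥ (piCore π G) B bot_le
      (fun x hx => by
        rw [hB, Subgroup.mem_comap, show f x = 1 from (QuotientGroup.eq_one_iff x).2 hx]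
        exact one_mem _)
    rw [relIndex_bot_left, relIndex_bot_left] at e
    have e2 : (piCore π G).relIndex B = Nat.card (B.map f) := by rw [← relIndex_ker, QuotientGroup.ker_mk']
    rw [e2, hBm] at e
    rcases hr.dvd_mul.1 (e ▸ hd) with h | h
    · exact piNum_piCore π r hr h
    · exact piNum_piCore π r hr h⟩
  rw [← hBm, ← le_bot_iff]
  exact (Subgroup.map_mono h1).trans (QuotientGroup.map_mk'_self _).le

/-- The case of trivial core. -/
theorem main_bot (h : HasSeries π G) (hO : piCore π G = ⊥) (H : Subgroup G) (hH : PiNum π H) :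
    ∃ x y : G, ∀ a ∈ H, x⁻¹ * a * x ∈ H → y⁻¹ * a * y ∈ H → a = 1 := by
  haveI := isSolvable_of_series h H hH
  set R := piCore {q | q ∉ π} G with hR
  haveI hRn : R.Normal := piCore_normal _ _
  have hdisj : ∀ z ∈ H, z ∈ R → z = 1 := fun z hz hz' => orderOf_eq_one_iff.1
    (Nat.eq_one_iff_not_exists_prime_dvd.2 fun r hr hd =>
      piNum_piCore {q | q ∉ π} r hr (hd.trans (Subgroup.orderOf_dvd_natCard R hz'))
        (hH r hr (hd.trans (Subgroup.orderOf_dvd_natCard H hz))))
  letI : MulDistribMulAction H R :=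
    { smul := fun a x => ⟨a.1 * x.1 * a.1⁻¹, hRn.conj_mem x.1 x.2 a.1⟩
      one_smul := fun x => Subtype.ext (show (1 : G) * x.1 * (1 : G)⁻¹ = x.1 by simp)
      mul_smul := fun a b x => Subtype.ext (show (a.1 * b.1) * x.1 * (a.1 * b.1)⁻¹ =
        a.1 * (b.1 * x.1 * b.1⁻¹) * a.1⁻¹ by group)
      smul_mul := fun a x y => Subtype.ext (show a.1 * (x.1 * y.1) * a.1⁻¹ =
        a.1 * x.1 * a.1⁻¹ * (a.1 * y.1 * a.1⁻¹) by group)
      smul_one := fun a => Subtype.ext (show a.1 * (1 : G) * a.1⁻¹ = 1 by group) }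
  obtain ⟨x, y, hxy⟩ := BaseTwo.Transfer.pair_group (A := H) R
    (Nat.coprime_of_dvd fun r hr h1 h2 => piNum_piCore {q | q ∉ π} r hr h2 (hH r hr h1))
  refine ⟨x.1, y.1, fun a ha hax hay => ?_⟩
  have key : ∀ z : R, z.1⁻¹ * a * z.1 ∈ H → (⟨a, ha⟩ : H) • z = z := fun z hz => by
    have e := hdisj (a⁻¹ * (z.1⁻¹ * a * z.1)) (mul_mem (inv_mem ha) hz)
      (by
        have := hRn.conj_mem _ (R.inv_mem z.2) a⁻¹
        rw [inv_inv] at this
        have := mul_mem this z.2
        simpa only [mul_assoc] using this)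
    apply Subtype.ext
    show a * z.1 * a⁻¹ = z.1
    have e2 : z.1⁻¹ * a * z.1 = a := (inv_mul_eq_one.1 e).symm
    calc a * z.1 * a⁻¹ = z.1 * (z.1⁻¹ * a * z.1) * a⁻¹ := by group
      _ = z.1 := by rw [e2, mul_inv_cancel_right]
  have hC : a ∈ centralizer (R : Set G) := Subgroup.mem_centralizer_iff.2 fun z hz => by
    have e : a * z * a⁻¹ = z := congrArg Subtype.val (hxy ⟨a, ha⟩ (key x hax) (key y hay) ⟨z, hz⟩)
    calc z * a = (a * z * a⁻¹) * a := by rw [e]
      _ = a * z := by group
  exact hdisj a ha (centralizer_le_core h hO hC)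


/-- Let π be a set of primes and G a finite π-solvable group: G has a chain of normal subgroups from 1 to G in which each successive index is a power of a prime in π or is divisible by no prime in π. Let H be a Hall π-subgroup of G. Then there are x, y ∈ G with H ∩ xHx⁻¹ ∩ yHy⁻¹ = O_π(G), the largest normal π-subgroup. -/
theorem result {G : Type*} [Group G] [Finite G] (π : Set ℕ)
    (hsolv : (∃ (n : ℕ) (N : Fin (n + 1) → Subgroup G), N 0 = ⊥ ∧ N (Fin.last n) = ⊤ ∧ Monotone N ∧ (∀ i, (N i).Normal) ∧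
      ∀ i : Fin n, (∃ p ∈ π, p.Prime ∧ ∃ k : ℕ, (N i.castSucc).relIndex (N i.succ) = p ^ k) ∨
        (∀ q : ℕ, q.Prime → q ∣ (N i.castSucc).relIndex (N i.succ) → q ∉ π))) (H : Subgroup G) (hH : Cfsg.IsPiHall π H) :
    ∃ x y : G, H ⊓ MulAut.conj x • H ⊓ MulAut.conj y • H = Cfsg.piCore π G := by
  set O := piCore π G with hO
  haveI : O.Normal := piCore_normal π G
  have hOH : O ≤ H := by
    have h1 : H.relIndex (H ⊔ O) ∣ H.index := by
      rw [← Subgroup.relIndex_mul_index (le_sup_left : H ≤ H ⊔ O)]; exact dvd_mul_right _ _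
    have h2 : PiNum π (H ⊔ O) := fun r hr hd => by
      have e := relIndex_mul_relIndex ⊥ O (H ⊔ O) bot_le le_sup_right
      rw [relIndex_bot_left, relIndex_bot_left, relIndex_sup_right] at e
      rcases hr.dvd_mul.1 (e ▸ hd) with h | h
      · exact piNum_piCore π r hr h
      · exact hH.1 r hr (h.trans (relIndex_dvd_card _ _))
    have h3 : H.relIndex (H ⊔ O) = 1 := Nat.eq_one_iff_not_exists_prime_dvd.2 fun r hr hd =>
      hH.2 r hr (h2 r hr (hd.trans (relIndex_dvd_card _ _))) (hd.trans h1)
    exact le_sup_right.trans (Subgroup.relIndex_eq_one.1 h3)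
  set f := QuotientGroup.mk' O with hf
  have hsurj : Function.Surjective f := QuotientGroup.mk'_surjective O
  obtain ⟨x, y, hxy⟩ := main_bot (HasSeries.map f hsurj hsolv) core_quot (H.map f)
    (fun r hr hd => hH.1 r hr (hd.trans (Subgroup.card_map_dvd H f)))
  obtain ⟨x, rfl⟩ := hsurj x
  obtain ⟨y, rfl⟩ := hsurj y
  have hconj : ∀ z : G, O ≤ MulAut.conj z • H := fun z o ho => by
    rw [Subgroup.mem_pointwise_smul_iff_inv_smul_mem]
    exact hOH (by simpa using (piCore_normal π G).conj_mem o ho z⁻¹)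
  refine ⟨x, y, le_antisymm ?_ (le_inf (le_inf hOH (hconj x)) (hconj y))⟩
  intro a ha
  obtain ⟨⟨ha1, ha2⟩, ha3⟩ := ha
  rw [← QuotientGroup.eq_one_iff]
  refine hxy (f a) (Subgroup.mem_map_of_mem f ha1) ?_ ?_
  · have ha2' := Subgroup.mem_pointwise_smul_iff_inv_smul_mem.1 ha2
    rw [← map_inv, ← map_mul, ← map_mul]
    exact Subgroup.mem_map_of_mem f (by simpa using ha2')
  · have ha3' := Subgroup.mem_pointwise_smul_iff_inv_smul_mem.1 ha3
    rw [← map_inv, ← map_mul, ← map_mul]
    exact Subgroup.mem_map_of_mem f (by simpa using ha3')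

end Cfsg.Agent.S4373
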