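import Cfsg.Statements.S4381
import Cfsg.Agent.Coprime.Action
import Cfsg.Agent.Core.Frattini
import Cfsg.Agent.Core.Solvable
import Cfsg.Agent.S0660
-- import your own Cfsg.Agent.* helpers here

set_option autoImplicit false
open Pointwise
open Cfsg

namespace Cfsg.Agent.S4381
open scoped Pointwise commutatorElement

variable {A G : Type*} [Group A] [Group G] [MulDistribMulAction A G]

/-- A maximal invariant subgroup. -/
def IsMaxInv (A : Type*) [Group A] [MulDistribMulAction A G] (M : Subgroup G) : Prop :=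
  M ≠ ⊤ ∧ (∀ a : A, ∀ x ∈ M, a • x ∈ M) ∧ ∀ L : Subgroup G, M < L → (∀ a : A, ∀ x ∈ L, a • x ∈ L) → L = ⊤

theorem inv_of_characteristic (H : Subgroup G) [H.Characteristic] (a : A) {x : G} (hx : x ∈ H) :
    a • x ∈ H := by
  have h := Subgroup.characteristic_iff_map_eq.mp (inferInstance : H.Characteristic)
    (MulDistribMulAction.toMulEquiv G a)
  rw [← h]
  exact Subgroup.mem_map_of_mem _ hx

theorem inv_sup {H K : Subgroup G} (hH : ∀ a : A, ∀ x ∈ H, a • x ∈ H)
    (hK : ∀ a : A, ∀ x ∈ K, a • x ∈ K) (a : A) {x : G} (hx : x ∈ H ⊔ K) : a • x ∈ H ⊔ K := by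
  have h : H ⊔ K ≤ (H ⊔ K).comap (MulDistribMulAction.toMonoidHom G a) :=
    sup_le (fun y hy => Subgroup.mem_sup_left (hH a y hy)) fun y hy => Subgroup.mem_sup_right (hK a y hy)
  exact h hx

theorem exists_isMaxInv_ge [Finite G] {U : Subgroup G} (hU : U ≠ ⊤)
    (hinv : ∀ a : A, ∀ x ∈ U, a • x ∈ U) : ∃ M, IsMaxInv A M ∧ U ≤ M := by
  obtain ⟨M, ⟨h1, h2, h3⟩, hmax⟩ := wellFounded_gt.has_min
    {M : Subgroup G | M ≠ ⊤ ∧ (∀ a : A, ∀ x ∈ M, a • x ∈ M) ∧ U ≤ M} ⟨U, hU, hinv, le_rfl⟩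
  exact ⟨M, ⟨h1, h2, fun L hL hLinv => by_contra fun hne =>
    hmax L ⟨hne, hLinv, h3.trans hL.le⟩ hL⟩, h3⟩

theorem inv_normalizer [Finite G] {M : Subgroup G} (hM : ∀ a : A, ∀ x ∈ M, a • x ∈ M) (a : A) {x : G}
    (hx : x ∈ Subgroup.normalizer (M : Set G)) : a • x ∈ Subgroup.normalizer (M : Set G) := by
  rw [Subgroup.mem_normalizer_iff] at hx ⊢
  intro h
  have e : a • (x * (a⁻¹ • h) * x⁻¹) = a • x * h * (a • x)⁻¹ := by
    rw [smul_mul', smul_mul', smul_inv_smul, smul_inv']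
  constructor
  · intro hh
    rw [← e]
    exact hM a _ ((hx _).mp (hM a⁻¹ h hh))
  · intro hh
    rw [← e] at hh
    have h2 := hM a⁻¹ _ hh
    rw [inv_smul_smul] at h2
    have h3 := hM a _ ((hx _).mpr h2)
    rwa [smul_inv_smul] at h3


/-- Let the finite group A act by automorphisms on the finite group G with the orders of A and G coprime, and assume that A or G is solvable. Call a proper A-invariant subgroup of G maximal A-invariant when no A-invariant subgroup lies strictly between it and G. Then all maximal A-invariant subgroups of G are conjugate under elements of the fixed-point subgroup C_G(A) if and only if G is a p-group for some prime p and A leaves invariant no subgroup strictly between the Frattini subgroup of G and G. In that case, if G is nontrivial, the Frattini subgroup is the only maximal A-invariant subgroup (a trivial G has none). -/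
theorem result {A G : Type*} [Group A] [Finite A]
    [Group G] [Finite G] [MulDistribMulAction A G] (hcop : (Nat.card A).Coprime (Nat.card G)) (hsol : Group.IsSolvable A ∨ Group.IsSolvable G) :
    ((∀ M N : Subgroup G, (M ≠ ⊤ ∧ (∀ a : A, ∀ x ∈ M, a • x ∈ M) ∧ ∀ L : Subgroup G, M < L → (∀ a : A, ∀ x ∈ L, a • x ∈ L) → L = ⊤) → (N ≠ ⊤ ∧ (∀ a : A, ∀ x ∈ N, a • x ∈ N) ∧ ∀ L : Subgroup G, N < L → (∀ a : A, ∀ x ∈ L, a • x ∈ L) → L = ⊤) →
        ∃ c : G, (∀ a : A, a • c = c) ∧ N = MulAut.conj c • M) ↔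
      ((∃ p : ℕ, p.Prime ∧ IsPGroup p G) ∧ ∀ L : Subgroup G, frattini G < L → (∀ a : A, ∀ x ∈ L, a • x ∈ L) → L = ⊤)) ∧
    (((∃ p : ℕ, p.Prime ∧ IsPGroup p G) ∧ ∀ L : Subgroup G, frattini G < L → (∀ a : A, ∀ x ∈ L, a • x ∈ L) → L = ⊤) →
      ∀ M : Subgroup G, (M ≠ ⊤ ∧ (∀ a : A, ∀ x ∈ M, a • x ∈ M) ∧ ∀ L : Subgroup G, M < L → (∀ a : A, ∀ x ∈ L, a • x ∈ L) → L = ⊤) ↔ (M = frattini G ∧ M ≠ ⊤)) := by
  classical
  have hΦinv : ∀ a : A, ∀ x ∈ frattini G, a • x ∈ frattini G := fun a x hx =>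
    inv_of_characteristic (frattini G) a hx
  have hlast : ((∃ p : ℕ, p.Prime ∧ IsPGroup p G) ∧
      ∀ L : Subgroup G, frattini G < L → (∀ a : A, ∀ x ∈ L, a • x ∈ L) → L = ⊤) →
      ∀ M : Subgroup G, IsMaxInv A M ↔ (M = frattini G ∧ M ≠ ⊤) := by
    rintro ⟨-, hirr⟩ M
    refine ⟨fun hM => ?_, fun ⟨h1, h2⟩ => ⟨h2, h1 ▸ hΦinv, h1 ▸ hirr⟩⟩
    have hle : frattini G ≤ M := by
      by_contra hle
      have hlt : M < M ⊔ frattini G := lt_of_le_of_ne le_sup_left fun h => hle (h ▸ le_sup_right)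
      exact hM.1 (frattini_nongenerating
        (hM.2.2 _ hlt fun a x hx => inv_sup hM.2.1 hΦinv a hx))
    rcases hle.eq_or_lt with h | h
    · exact ⟨h.symm, hM.1⟩
    · exact absurd (hirr M h hM.2.1) hM.1
  refine ⟨⟨fun hconj => ?_, fun h M N hM hN => ⟨1, fun a => smul_one a, ?_⟩⟩, hlast⟩
  swap
  · rw [map_one, one_smul, ((hlast h M).mp hM).1, ((hlast h N).mp hN).1]
  let φ : A →* MulAut G := MulDistribMulAction.toMulAut A G
  -- `G` is a `p`-group
  have hp : ∃ p : ℕ, p.Prime ∧ IsPGroup p G := by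
    by_contra hno
    push Not at hno
    have hne : ∀ p : ℕ, (hp : p.Prime) → ∀ P : Sylow p G, (P : Subgroup G) ≠ ⊤ := fun p hp P h =>
      hno p hp ((h ▸ P.2 : IsPGroup p (⊤ : Subgroup G)).of_equiv Subgroup.topEquiv)
    obtain ⟨P₀, hP₀⟩ := @Coprime.exists_invariant_sylow_act A _ G _ φ _ _ hcop hsol 2 ⟨Nat.prime_two⟩
    obtain ⟨M, hM, -⟩ := exists_isMaxInv_ge (hne 2 Nat.prime_two P₀) hP₀
    refine hM.1 (Subgroup.eq_top_of_card_eq _ (Nat.dvd_antisymm (Subgroup.card_subgroup_dvd_card _)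
      ((Nat.factorization_le_iff_dvd Nat.card_pos.ne' Nat.card_pos.ne').mp fun q => ?_)))
    by_cases hq : q.Prime
    swap
    · simp [Nat.factorization_eq_zero_of_not_prime _ hq]
    have := Fact.mk hq
    obtain ⟨P, hP⟩ := Coprime.exists_invariant_sylow_act φ hcop hsol q
    obtain ⟨N, hN, hPN⟩ := exists_isMaxInv_ge (hne q hq P) hP
    obtain ⟨c, -, rfl⟩ := hconj M N hM hN
    have h1 := Subgroup.card_dvd_of_le hPN
    rw [P.card_eq_multiplicity, Coprime.card_conj_smul] at h1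
    exact (hq.pow_dvd_iff_le_factorization Nat.card_pos.ne').mp h1
  refine ⟨hp, fun L hL hLinv => ?_⟩
  obtain ⟨p, hpp, hG⟩ := hp
  have := Fact.mk hpp
  have : Group.IsNilpotent G := hG.isNilpotent
  -- every proper invariant subgroup lies in the unique maximal one
  have huniq : ∀ M N : Subgroup G, IsMaxInv A M → IsMaxInv A N → N = M := by
    intro M N hM hN
    obtain ⟨c, -, rfl⟩ := hconj M N hM hN
    refine Coprime.conj_smul_eq_self_of_mem_normalizer ?_
    have htop : Subgroup.normalizer (M : Set G) = ⊤ :=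
      hM.2.2 _ (Group.normalizerCondition_of_isNilpotent M (lt_top_iff_ne_top.mpr hM.1))
        fun a x hx => inv_normalizer hM.2.1 a hx
    rw [htop]
    exact Subgroup.mem_top c
  by_contra hne
  obtain ⟨M, hM, hLM⟩ := exists_isMaxInv_ge hne hLinv
  -- an invariant complement of `L` modulo the Frattini subgroup
  let π := QuotientGroup.mk' (frattini G)
  let φb : A →* MulAut (G ⧸ frattini G) :=
    { toFun := fun a => QuotientGroup.congr _ _ (φ a)
        (Subgroup.characteristic_iff_map_eq.mp (inferInstance : (frattini G).Characteristic) (φ a))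
      map_one' := by
        refine MulEquiv.ext fun x => ?_
        obtain ⟨g, rfl⟩ := QuotientGroup.mk_surjective x
        simp
      map_mul' := fun a b => by
        refine MulEquiv.ext fun x => ?_
        obtain ⟨g, rfl⟩ := QuotientGroup.mk_surjective x
        change ((φ (a * b) g : G) : G ⧸ frattini G) = (φ a (φ b g) : G)
        rw [map_mul]
        rfl }
  have hQ : IsPGroup p (G ⧸ frattini G) := hG.to_quotient _
  have hQab : IsMulCommutative (G ⧸ frattini G) := by
    refine ⟨⟨fun x y => ?_⟩⟩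
    obtain ⟨a, rfl⟩ := QuotientGroup.mk_surjective x
    obtain ⟨b, rfl⟩ := QuotientGroup.mk_surjective y
    rw [← QuotientGroup.mk_mul, ← QuotientGroup.mk_mul, QuotientGroup.eq]
    refine Core.commutator_le_frattini (G := G) ?_
    have e : (a * b)⁻¹ * (b * a) = ⁅b⁻¹, a⁻¹⁆ := by simp [commutatorElement_def, mul_assoc]
    rw [e]
    exact Subgroup.commutator_mem_commutator (Subgroup.mem_top _) (Subgroup.mem_top _)
  set U := L.map π with hU
  have hUn : U.Normal := ⟨fun x hx g => by rwa [hQab.is_comm.comm g x, mul_inv_cancel_right]⟩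
  have hUab : IsMulCommutative U := ⟨⟨fun x y => Subtype.ext (hQab.is_comm.comm _ _)⟩⟩
  obtain ⟨H, hH⟩ := Core.exists_isComplement'_of_inf_frattini (A := U)
    (by rw [Core.frattini_quotient_frattini, inf_bot_eq])
  have := Coprime.finite_semidirect φb
  set inl' : (G ⧸ frattini G) →* (G ⧸ frattini G) ⋊[φb] A := SemidirectProduct.inl
  have hVab : IsMulCommutative (Coprime.inG φb) := by
    refine ⟨⟨?_⟩⟩
    rintro ⟨_, x, rfl⟩ ⟨_, y, rfl⟩
    apply Subtype.ext
    change SemidirectProduct.inl x * SemidirectProduct.inl y = SemidirectProduct.inl y * SemidirectProduct.inl x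
    rw [← map_mul, ← map_mul, hQab.is_comm.comm x y]
  have hcop' : (Nat.card A).Coprime (Nat.card (G ⧸ frattini G)) :=
    hcop.coprime_dvd_right (Subgroup.card_quotient_dvd_card _)
  have hUinv : ∀ a, ∀ x ∈ U, φb a x ∈ U := by
    rintro a _ ⟨x, hx, rfl⟩
    exact ⟨a • x, hLinv a x hx, rfl⟩
  obtain ⟨W, hWV, hWA, hinf, hsup⟩ := S0660.result (Coprime.inG φb) (Coprime.inA φb) (U.map inl') hVab
    (Coprime.inA_le_normalizer_inG φb) (Coprime.coprime_inA_inG φb hcop')
    (Subgroup.map_le_range _ _) ((Coprime.inA_le_normalizer_map_iff φb).mpr hUinv) (H.map inl')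
    (Subgroup.map_le_range _ _)
    (by rw [← Subgroup.map_inf _ _ _ SemidirectProduct.inl_injective, disjoint_iff.mp hH.disjoint,
      Subgroup.map_bot])
    (by rw [← Subgroup.map_sup, hH.sup_eq_top, ← MonoidHom.range_eq_map])
  set W' : Subgroup G := (W.comap inl').comap π with hW'
  have hWinv : ∀ a, ∀ x ∈ W.comap inl', φb a x ∈ W.comap inl' := by
    refine (Coprime.inA_le_normalizer_map_iff φb).mp ?_
    rwa [Subgroup.map_comap_eq_self hWV]
  have hsup' : U ⊔ W.comap inl' = ⊤ := by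
    apply Subgroup.map_injective (SemidirectProduct.inl_injective (φ := φb))
    rw [Subgroup.map_sup, Subgroup.map_comap_eq_self hWV, hsup, ← MonoidHom.range_eq_map]
  by_cases hW'top : W' = ⊤
  · -- then `L ≤ frattini G`
    refine hL.not_ge fun x hx => ?_
    have h1 : inl' (π x) ∈ U.map inl' ⊓ W :=
      ⟨Subgroup.mem_map_of_mem _ (Subgroup.mem_map_of_mem _ hx),
        (hW'top ▸ Subgroup.mem_top x : x ∈ W')⟩
    rw [hinf, Subgroup.mem_bot, ← map_one inl'] at h1
    exact (QuotientGroup.eq_one_iff x).mp (SemidirectProduct.inl_injective h1)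
  · have hW'inv : ∀ a : A, ∀ x ∈ W', a • x ∈ W' := fun a x hx => hWinv a _ hx
    obtain ⟨N, hN, hWN⟩ := exists_isMaxInv_ge hW'top hW'inv
    rw [huniq M N hM hN] at hWN
    refine hM.1 (top_le_iff.mp ?_)
    have hΦM : frattini G ≤ M := hL.le.trans hLM
    intro x _
    have hx : π x ∈ U ⊔ W.comap inl' := hsup' ▸ Subgroup.mem_top _
    obtain ⟨u, ⟨l, hl, rfl⟩, w, hw, hxe⟩ := (Subgroup.mem_sup_of_normal_left (s := U)).mp hx
    obtain ⟨v, rfl⟩ := QuotientGroup.mk'_surjective _ w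
    have h2 : (l * v)⁻¹ * x ∈ frattini G := (QuotientGroup.eq_one_iff _).mp (by
      change π ((l * v)⁻¹ * x) = 1
      rw [map_mul, map_inv, map_mul, hxe, inv_mul_cancel])
    have h3 := M.mul_mem (M.mul_mem (hLM hl) (hWN hw)) (hΦM h2)
    rwa [mul_inv_cancel_left] at h3

end Cfsg.Agent.S4381
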