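import Cfsg.Statements.S4387
import Cfsg.Agent.Derange.Basic


set_option autoImplicit false
open Pointwise
open Cfsg

namespace Cfsg.Agent.S4387

/-- Let G be a non-trivial finite group in which any two maximal subgroups are conjugate. Then G is cyclic of prime-power order. -/
theorem result {G : Type*} [Group G] [Finite G] [Nontrivial G]
    (h : ∀ M N : Subgroup G, IsCoatom M → IsCoatom N → ∃ g : G, N = MulAut.conj g • M) :
    IsCyclic G ∧ IsPrimePow (Nat.card G) := by
  classical
  have := Fintype.ofFinite G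
  have hcyc : IsCyclic G := by
    obtain ⟨M, hM⟩ : ∃ M : Subgroup G, IsCoatom M := by
      obtain ⟨M, hM⟩ := IsCoatomic.exists_coatom (α := Subgroup G)
      exact ⟨M, hM⟩
    obtain ⟨g, hg⟩ : ∃ g : G, ∀ q : G ⧸ M, g • q ≠ q := by
      by_contra hc
      push Not at hc
      have hsum := Cfsg.Agent.Derange.sum_fix G (G ⧸ M)
      rw [Cfsg.Agent.Derange.card_orbits_eq_one, one_mul, Nat.card_eq_fintype_card] at hsum
      have hlt : ∑ _k : G, 1 < ∑ k : G, Nat.card (MulAction.fixedBy (G ⧸ M) k) := by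
        refine Finset.sum_lt_sum (fun k _ => ?_) ⟨1, Finset.mem_univ 1, ?_⟩
        · obtain ⟨q, hq⟩ := hc k
          have : Nonempty (MulAction.fixedBy (G ⧸ M) k) := ⟨⟨q, hq⟩⟩
          exact Nat.card_pos
        · have : MulAction.fixedBy (G ⧸ M) (1 : G) = Set.univ := by ext q; simp
          rw [this, Nat.card_coe_set_eq, Set.ncard_univ, ← Subgroup.index_eq_card]
          exact Subgroup.one_lt_index_of_ne_top hM.1
      rw [Finset.sum_const, Finset.card_univ, smul_eq_mul, mul_one, hsum] at hlt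
      exact lt_irrefl _ hlt
    refine isCyclic_iff_exists_zpowers_eq_top.mpr ⟨g, ?_⟩
    by_contra hne
    obtain ⟨N, hN, hgN⟩ := (eq_top_or_exists_le_coatom (Subgroup.zpowers g)).resolve_left hne
    obtain ⟨x, hx⟩ := h M N hM hN
    have hgx : g ∈ MulAut.conj x • M := hx ▸ hgN (Subgroup.mem_zpowers g)
    apply hg (x : G ⧸ M)
    rw [MulAction.Quotient.smul_mk, QuotientGroup.eq]
    rw [Subgroup.mem_pointwise_smul_iff_inv_smul_mem] at hgx
    have h1 : x⁻¹ * g * x ∈ M := by simpa [MulAut.smul_def, mul_assoc] using hgx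
    simpa [mul_assoc] using M.inv_mem h1
  refine ⟨hcyc, ?_⟩
  obtain ⟨g, hg⟩ := hcyc.exists_generator
  have hnorm : ∀ M : Subgroup G, M.Normal := fun M => ⟨fun m hm x => by
    rw [(IsCyclic.isMulCommutative (α := G)).is_comm.comm x m, mul_inv_cancel_right]; exact hm⟩
  have huniq : ∀ M N : Subgroup G, IsCoatom M → IsCoatom N → M = N := fun M N hM hN => by
    obtain ⟨x, hx⟩ := h M N hM hN
    rw [hx]
    ext y
    rw [Subgroup.mem_pointwise_smul_iff_inv_smul_mem]
    constructor
    · intro hy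
      simpa [MulAut.smul_def] using (hnorm M).conj_mem' y hy x
    · intro hy
      have hy' : x⁻¹ * y * x ∈ M := by simpa [MulAut.smul_def, mul_assoc] using hy
      have := (hnorm M).conj_mem _ hy' x
      simpa [mul_assoc] using this
  have hn1 : Nat.card G ≠ 1 := Finite.one_lt_card.ne'
  obtain ⟨p, hp, hpd⟩ := Nat.exists_prime_and_dvd hn1
  refine (isPrimePow_nat_iff _).mpr ⟨p, (Nat.card G).primeFactorsList.length, hp, ?_,
    (Nat.eq_prime_pow_of_unique_prime_dvd Nat.card_pos.ne' fun {q} hq hqd => ?_).symm⟩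
  · rw [List.length_pos_iff, Ne, Nat.primeFactorsList_eq_nil]
    exact fun h' => h'.elim Nat.card_pos.ne' hn1
  have key : ∀ r : ℕ, r.Prime → r ∣ Nat.card G →
      ∃ M : Subgroup G, IsCoatom M ∧ g ^ r ∈ M ∧ M.index = r := fun r hr hrd => by
    have hidx : (Subgroup.zpowers (g ^ r)).index = r := by
      have h1 := (Subgroup.zpowers (g ^ r)).card_mul_index
      have hog : orderOf g = Nat.card G := orderOf_eq_card_of_forall_mem_zpowers hg
      rw [Nat.card_zpowers, orderOf_pow_of_dvd hr.ne_zero (hog ▸ hrd), hog] at h1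
      have h2 := Nat.div_mul_cancel hrd
      exact Nat.eq_of_mul_eq_mul_left (Nat.div_pos (Nat.le_of_dvd Nat.card_pos hrd) hr.pos)
        (h1.trans h2.symm)
    refine ⟨Subgroup.zpowers (g ^ r), ⟨fun htop => ?_, fun K hK => ?_⟩, Subgroup.mem_zpowers _, hidx⟩
    · rw [htop, Subgroup.index_top] at hidx; exact hr.one_lt.ne hidx
    · rcases (Nat.dvd_prime hr).mp (hidx ▸ Subgroup.index_dvd_of_le hK.le) with h1 | h1
      · exact Subgroup.index_eq_one.mp h1
      · have h2 := Subgroup.relIndex_mul_index hK.le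
        rw [h1, hidx] at h2
        exact absurd (Subgroup.relIndex_eq_one.mp ((Nat.mul_eq_right hr.ne_zero).mp h2)) hK.not_ge
  obtain ⟨M, hM, -, hMi⟩ := key p hp hpd
  obtain ⟨N, hN, -, hNi⟩ := key q hq hqd
  rw [← hMi, ← hNi, huniq M N hM hN]

end Cfsg.Agent.S4387
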