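import Cfsg.Statements.S4394
import Cfsg.Agent.PLenShape.Shape
import Cfsg.Agent.PLenShape.Main
import Cfsg.Agent.PLength.FrattiniModule
import Cfsg.Agent.OddLocal.PLengthData
import Cfsg.Agent.Fusion.Critical
-- import your own Cfsg.Agent.* helpers here

set_option autoImplicit false
open Cfsg

namespace Cfsg.Agent.S4394

open Subgroup
open scoped commutatorElement

/-- Let X be a finite minimal non-nilpotent group (not nilpotent, every proper subgroup nilpotent) with a nontrivial normal Sylow p-subgroup P. If G is a finite p-solvable group whose Sylow p-subgroups are isomorphic to P, then G has p-length at most 1. -/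
theorem result {G X : Type*} [Group G] [Finite G] [Group X] [Finite X] (p : ℕ) [Fact p.Prime]
    (hX : Cfsg.IsMinimalNonNilpotent X) (P : Sylow p X) (hPn : (P : Subgroup X).Normal) (hP1 : (P : Subgroup X) ≠ ⊥)
    (hG : Cfsg.IsPSolvable p G) (Q : Sylow p G) (hQ : Nonempty (↥(Q : Subgroup G) ≃* ↥(P : Subgroup X))) : Cfsg.PLengthLE p 1 G := by
  classical
  obtain ⟨eQ⟩ := hQ
  have hshape := PLenShape.comm_or_shape hX P hPn hP1
  set f := QuotientGroup.mk' (Cfsg.pPrimeCore p G) with hfdef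
  have hf : Function.Surjective f := QuotientGroup.mk'_surjective _
  set T := G ⧸ Cfsg.pPrimeCore p G with hT
  have hO : Cfsg.pPrimeCore p T = ⊥ := Core.pPrimeCore_quotient_eq_bot
  have hTs : Cfsg.IsPSolvable p T := Layer.isPSolvable_of_surjective hG hf
  set PT : Sylow p T := Q.mapSurjective hf with hPT
  have hPTe : (PT : Subgroup T) = (Q : Subgroup G).map f := rfl
  have hinj : Function.Injective (f.subgroupMap (Q : Subgroup G)) := by
    rw [← MonoidHom.ker_eq_bot_iff, eq_bot_iff]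
    intro x hx
    have h1 : (x : G) ∈ (Q : Subgroup G) ⊓ Cfsg.pPrimeCore p G :=
      ⟨x.2, (QuotientGroup.eq_one_iff _).1 (congrArg Subtype.val hx)⟩
    rw [Layer.inf_eq_bot_of_isPGroup Q.isPGroup' Core.coprime_card_pPrimeCore, mem_bot] at h1
    exact mem_bot.2 (Subtype.ext h1)
  let e : ↥(PT : Subgroup T) ≃* ↥(P : Subgroup X) :=
    ((MulEquiv.subgroupCongr hPTe).trans
      (MulEquiv.ofBijective (f.subgroupMap (Q : Subgroup G))
        ⟨hinj, f.subgroupMap_surjective _⟩).symm).trans eQ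
  suffices hmain : (PT : Subgroup T) ≤ Cfsg.pCore p T from
    OddLocal.pLengthLE_one_of_index fun hd => PT.not_dvd_index (hd.trans (index_dvd_of_le hmain))
  set U := Cfsg.pCore p T with hU
  have hUP : U ≤ (PT : Subgroup T) := Core.pCore_le_sylow PT
  have hCU : centralizer (U : Set T) ≤ U := Layer.pCoreSelfCentral_of_isPSolvable hTs hO
  rcases hshape with hab | hsh
  · intro x hx
    refine hCU (mem_centralizer_iff.2 fun u hu => ?_)
    have h := hab.is_comm.comm (e ⟨u, hUP hu⟩) (e ⟨x, hx⟩)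
    rw [← map_mul, ← map_mul] at h
    exact congrArg Subtype.val (e.injective h)
  set P₁ : Subgroup T := (PT : Subgroup T) with hP₁
  obtain ⟨Z₀, hc₀, hcm₀, hpw₀, hrad₀, hsm₀⟩ := PLenShape.shape_congr e hsh
  by_contra hne
  set Z : Subgroup T := Z₀.map P₁.subtype with hZ
  have hZP : Z ≤ P₁ := map_subtype_le _
  have hZU : Z ≤ U := by
    rintro _ ⟨z, hz, rfl⟩
    exact hCU (mem_centralizer_iff.2 fun u hu => congrArg Subtype.val (hc₀ z hz ⟨u, hUP hu⟩))
  have hUp : IsPGroup p U := Core.pCore_isPGroup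
  have : Group.IsNilpotent U := hUp.isNilpotent
  set Fr : Subgroup T := (frattini U).map U.subtype with hFr
  have hUn : U.Normal := by rw [hU]; infer_instance
  have hFrn : Fr.Normal := by rw [hFr]; infer_instance
  have hFrpow : ∀ u ∈ U, u ^ p ∈ Fr := fun u hu =>
    ⟨_, Core.pow_mem_frattini hUp ⟨u, hu⟩, rfl⟩
  have hFrcomm : ∀ u ∈ U, ∀ v ∈ U, ⁅u, v⁆ ∈ Fr := fun u hu v hv =>
    ⟨⁅⟨u, hu⟩, ⟨v, hv⟩⁆, Core.commutator_le_frattini
      (commutator_mem_commutator (mem_top _) (mem_top _)), rfl⟩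
  have hmemZ : ∀ {x : T} (hx : x ∈ P₁), ⟨x, hx⟩ ∈ Z₀ → x ∈ Z := fun hx h => ⟨_, h, rfl⟩
  have hFrZ : Fr ≤ Z := by
    rw [hFr, map_le_iff_le_comap]
    refine Fusion.frattini_le_of_elementary (p := p) _ ?_ fun x => ?_
    · rw [_root_.commutator_eq_closure, closure_le]
      rintro _ ⟨a, b, rfl⟩
      exact ⟨_, hcm₀ ⟨a, hUP a.2⟩ ⟨b, hUP b.2⟩, by simp [commutatorElement_def]⟩
    · exact ⟨_, hpw₀ ⟨x, hUP x.2⟩, by simp⟩
  -- the action on `U / Φ(U)` is faithful
  have hfaith : ∀ g : T, (∀ u ∈ U, ⁅g, u⁆ ∈ Fr) → g ∈ U := by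
    obtain ⟨V, _, _, _, π, ρ, ρ', hπ, hπs, hρ, hρ', hinj'⟩ := PLength.exists_frattini_module hTs hO
    intro g hg
    let πh : ↥U →* Multiplicative V := MonoidHom.mk' (fun v => Multiplicative.ofAdd (π v))
      fun a b => congrArg Multiplicative.ofAdd (hπ a b)
    have hker : frattini ↥U ≤ πh.ker := by
      refine Fusion.frattini_le_of_elementary (p := p) _ ?_ fun x => ?_
      · rw [_root_.commutator_eq_closure, closure_le]
        rintro _ ⟨a, b, rfl⟩
        show πh ⁅a, b⁆ = 1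
        rw [map_commutatorElement, commutatorElement_eq_one_iff_mul_comm, mul_comm]
      · show πh (x ^ p) = 1
        rw [map_pow]
        apply Multiplicative.toAdd.injective
        rw [toAdd_pow, toAdd_one, ← Nat.cast_smul_eq_nsmul (ZMod p), ZMod.natCast_self, zero_smul]
    have hg1 : ρ g = 1 := by
      refine LinearMap.ext fun m => ?_
      obtain ⟨V', rfl⟩ := hπs m
      show ρ g (π V') = π V'
      rw [hρ]
      have hd : MulAut.conjNormal g V' * V'⁻¹ ∈ frattini ↥U := by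
        obtain ⟨w, hw, he⟩ := hg _ V'.2
        have e : MulAut.conjNormal g V' * V'⁻¹ = w :=
          Subtype.ext (by rw [show (w : T) = ⁅g, (V' : T)⁆ from he]; simp [commutatorElement_def])
        exact e ▸ hw
      have h1 : πh (MulAut.conjNormal g V' * V'⁻¹) = 1 := hker hd
      rw [map_mul, map_inv, mul_inv_eq_one] at h1
      exact Multiplicative.ofAdd.injective h1
    have h2 : ρ' (QuotientGroup.mk g) = ρ' 1 := by rw [hρ', hg1, map_one]
    exact (QuotientGroup.eq_one_iff g).1 (hinj' h2)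
  -- pass to the quotient by `Φ(U)`
  set g := QuotientGroup.mk' Fr with hgdef
  have hg : Function.Surjective g := QuotientGroup.mk'_surjective _
  have hker : g.ker = Fr := QuotientGroup.ker_mk' _
  have hgmem : ∀ {x y : T}, g x = g y → x * y⁻¹ ∈ Fr := fun {x y} h => by
    rw [← hker, MonoidHom.mem_ker, map_mul, map_inv, h, mul_inv_cancel]
  have hFrU : Fr ≤ U := hFrZ.trans hZU
  set Kf : Subgroup T := (Cfsg.pPrimeCore p (T ⧸ U)).comap (QuotientGroup.mk' U) with hKfdef
  have hUK : U ≤ Kf := fun x hx => by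
    rw [hKfdef, mem_comap, show QuotientGroup.mk' U x = 1 from (QuotientGroup.eq_one_iff x).2 hx]
    exact one_mem _
  have hmem : ∀ {H : Subgroup T}, Fr ≤ H → ∀ {x : T}, g x ∈ H.map g → x ∈ H := fun {H} hH {x} h => by
    obtain ⟨y, hy, hxy⟩ := h
    have h1 := mul_mem (hH (hgmem hxy.symm)) hy
    simpa using h1
  have hUab : IsMulCommutative (U.map g) := ⟨⟨fun a b => by
    obtain ⟨x, hx, hx'⟩ := a.2
    obtain ⟨y, hy, hy'⟩ := b.2
    apply Subtype.ext
    show (a : T ⧸ Fr) * b = b * a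
    rw [← hx', ← hy', ← commutatorElement_eq_one_iff_mul_comm, ← map_commutatorElement]
    exact (QuotientGroup.eq_one_iff _).2 (hFrcomm x hx y hy)⟩⟩
  have : (U.map g).Normal := Normal.map hUn g hg
  have : (Kf.map g).Normal := Normal.map inferInstance g hg
  have hFrP : Fr ≤ P₁ := hFrU.trans hUP
  have hC := PLenShape.core_cases (p := p) (P₁.map g) (U.map g) (Kf.map g) (Z.map g)
    (PT.isPGroup'.map g) (fun D hD hle => ?_) ?_ (map_mono hUP)
    (fun h => hne fun x hx => hmem hFrU (h (mem_map_of_mem g hx))) (map_mono hUK) ?_ ?_ ?_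
    (map_mono hZU) ?_ ?_ ?_ ?_
  rotate_left
  · -- `P₁` is maximal
    have h1 : IsPGroup p (D.comap g) := hD.comap_of_ker_isPGroup g (by
      rw [hker]; exact hUp.to_le hFrU)
    have h2 := PT.is_maximal' h1 (fun x hx => hle (mem_map_of_mem g hx))
    rw [← map_comap_eq_self_of_surjective hg D, h2]
  · rintro _ ⟨u, hu, rfl⟩
    rw [← map_pow]
    exact (QuotientGroup.eq_one_iff _).2 (hFrpow u hu)
  · rw [relIndex_map_map, hker, sup_of_le_left hFrU, sup_of_le_left (hFrU.trans hUK), hKfdef]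
    have e : U.relIndex ((Cfsg.pPrimeCore p (T ⧸ U)).comap (QuotientGroup.mk' U)) =
        Nat.card (Cfsg.pPrimeCore p (T ⧸ U)) := by
      have h := Subgroup.relIndex_ker ((Cfsg.pPrimeCore p (T ⧸ U)).comap (QuotientGroup.mk' U))
        (QuotientGroup.mk' U)
      rw [QuotientGroup.ker_mk', map_comap_eq_self_of_surjective (QuotientGroup.mk'_surjective U)] at h
      exact h
    rw [e]
    exact Core.coprime_card_pPrimeCore
  · intro x hx
    obtain ⟨x, rfl⟩ := hg x
    refine mem_map_of_mem g ?_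
    rw [hKfdef, mem_comap]
    have hH : Cfsg.pCore p (T ⧸ U) = ⊥ := Core.pCore_quotient_eq_bot
    refine Core.centralizer_pPrimeCore_le (Layer.isPSolvable_of_surjective hTs
      (QuotientGroup.mk'_surjective U)) hH (mem_centralizer_iff.2 fun k hk => ?_)
    obtain ⟨k, rfl⟩ := QuotientGroup.mk'_surjective U k
    rw [← commutatorElement_eq_one_iff_mul_comm, ← map_commutatorElement]
    refine (QuotientGroup.eq_one_iff _).2 (hmem hFrU ?_)
    rw [map_commutatorElement]
    exact hx _ (mem_map_of_mem g hk)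
  · intro x hx
    obtain ⟨x, rfl⟩ := hg x
    refine mem_map_of_mem g (hfaith x fun u hu => ?_)
    have h1 := mem_centralizer_iff.1 hx _ (mem_map_of_mem g hu)
    exact (QuotientGroup.eq_one_iff _).1 (by
      show g ⁅x, u⁆ = 1
      rw [map_commutatorElement, commutatorElement_eq_one_iff_mul_comm]
      exact h1.symm)
  · rintro _ ⟨_, ⟨z, hz, rfl⟩, rfl⟩ _ ⟨x, hx, rfl⟩
    rw [← map_mul, ← map_mul]
    exact congrArg g (congrArg Subtype.val (hc₀ z hz ⟨x, hx⟩))
  · rintro _ ⟨x, hx, rfl⟩ _ ⟨y, hy, rfl⟩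
    rw [← map_commutatorElement]
    exact mem_map_of_mem g (hmemZ _ (hcm₀ ⟨x, hx⟩ ⟨y, hy⟩))
  · rintro _ ⟨x, hx, rfl⟩
    rw [← map_pow]
    exact mem_map_of_mem g (hmemZ _ (hpw₀ ⟨x, hx⟩))
  · rintro W hW _ ⟨x, hx, rfl⟩ hall
    refine mem_map_of_mem g (hmemZ hx ?_)
    refine hrad₀ ((W.comap g).subgroupOf P₁) ?_ ⟨x, hx⟩ fun y => ?_
    · refine lt_of_le_of_ne (fun w hw => ?_) fun hh => hW.not_ge ?_
      · obtain ⟨w', hw', hww⟩ := hmem hFrZ (hW.le hw)
        exact (Subtype.ext hww : w' = w) ▸ hw'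
      · rintro _ ⟨_, ⟨w, hw, rfl⟩, rfl⟩
        exact (hh ▸ hw : w ∈ (W.comap g).subgroupOf P₁)
    · show g ⁅x, (y : T)⁆ ∈ W
      rw [map_commutatorElement]
      exact hall _ (mem_map_of_mem g y.2)
  obtain ⟨hZrel, -, hp3⟩ := hC
  rw [relIndex_map_map, hker, sup_of_le_left hFrZ, sup_of_le_left hFrP] at hZrel
  have hidx : Z₀.index = p ^ 2 := by
    rw [← hZrel, hZ, relIndex, show (Z₀.map P₁.subtype).subgroupOf P₁ = Z₀ from
      comap_map_eq_self_of_injective P₁.subtype_injective Z₀]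
  obtain ⟨hp3', hp2⟩ := hsm₀ hidx
  have h2 : p = 2 := by
    have := (Fact.out : p.Prime).two_le
    omega
  subst h2
  -- some element of `U` outside `Z` squares into `Φ(U)`
  obtain ⟨u, hu, huZ⟩ : ∃ u ∈ U, u ∉ Z := by
    by_contra hall
    push Not at hall
    refine hne fun x hx => hCU (mem_centralizer_iff.2 fun u hu => ?_)
    obtain ⟨z, hz, rfl⟩ := hall u hu
    exact (congrArg Subtype.val (hc₀ z hz ⟨x, hx⟩)).symm
  refine hp2 rfl (Fr.subgroupOf P₁) ?_ ⟨u, hUP hu⟩ (fun h => huZ (hmemZ _ h)) (hFrpow u hu)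
  refine lt_of_le_of_ne (fun w hw => ?_) fun hh => ?_
  · obtain ⟨w', hw', hww⟩ := hFrZ hw
    exact (Subtype.ext hww : w' = w) ▸ hw'
  refine hne fun x hx => hfaith x fun v hv => ?_
  exact (hh ▸ hcm₀ ⟨x, hx⟩ ⟨v, hUP hv⟩ : ⁅(⟨x, hx⟩ : P₁), ⟨v, hUP hv⟩⁆ ∈ Fr.subgroupOf P₁)

end Cfsg.Agent.S4394
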