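import Cfsg.Statements.S4396
import Cfsg.Agent.FrobFree.Main
-- import your own Cfsg.Agent.* helpers here

set_option autoImplicit false
open Cfsg
open scoped Pointwise

namespace Cfsg.Agent.S4396

/-- Let the finite group A act faithfully and linearly on a finite-dimensional vector space V over a field k, and suppose A is a Frobenius group with nilpotent kernel F (every Frobenius kernel is nilpotent) and complement H such that F fixes no nonzero vector. Then V is free as a module for H: there is a subspace W with V the direct sum of the translates hW, h ∈ H. (No assumption on the characteristic of k.) -/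
theorem result {k V A : Type*} [Field k] [AddCommGroup V] [Module k V] [FiniteDimensional k V] [Group A] [Finite A] [DecidableEq A]
    (ρ : Representation k A V) (hρ : Function.Injective ρ)
    (Fk Hc : Subgroup A) [Fk.Normal] (hHc : Cfsg.IsFrobeniusComplement Hc) (hker : Cfsg.frobeniusKernel Hc = (Fk : Set A)) (hnil : Group.IsNilpotent ↥Fk)
    (hCF : ∀ v : V, (∀ f ∈ Fk, ρ f v = v) → v = 0) :
    ∃ W : Submodule k V, DirectSum.IsInternal (fun h : ↥Hc => W.map (ρ (h : A))) := by
  classical
  have hfpf : ∀ h ∈ Hc, h ≠ 1 → ∀ x ∈ Fk, h * x * h⁻¹ = x → x = 1 := by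
    intro h hh hne x hx e
    by_contra hx1
    have hxk : x ∈ Cfsg.frobeniusKernel Hc := hker ▸ hx
    have hxn : ∀ g : A, x ∉ MulAut.conj g • Hc := by
      rcases hxk with h1 | h1
      · exact absurd h1 hx1
      · exact h1
    have hxH : x ∉ Hc := fun h1 => hxn 1 (by simpa using h1)
    have hmem : h ∈ Hc ⊓ MulAut.conj x • Hc := by
      refine ⟨hh, Subgroup.mem_pointwise_smul_iff_inv_smul_mem.mpr ?_⟩
      have : x⁻¹ * h * x = h := by
        calc x⁻¹ * h * x = x⁻¹ * h * (h * x * h⁻¹)⁻¹⁻¹ := by rw [inv_inv, e]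
          _ = h := by
            have e' : h * x = x * h := by
              calc h * x = h * x * h⁻¹ * h := by group
                _ = x * h := by rw [e]
            rw [inv_inv, e, mul_assoc, e', ← mul_assoc, inv_mul_cancel, one_mul]
      simpa [MulAut.smul_def, MulAut.conj_symm_apply, this] using hh
    rw [hHc.2.2 x hxH] at hmem
    exact hne ((Subgroup.mem_bot).mp hmem)
  obtain ⟨n, b, hl, hs⟩ := FrobFree.isFreeOn_of_nilpotent ρ Fk Hc hnil hfpf hCF
  refine ⟨Submodule.span k (Set.range b), ?_⟩
  let v : ↥Hc × Fin n → V := fun q => ρ (q.1 : A) (b q.2)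
  have hmap : ∀ h : ↥Hc, (Submodule.span k (Set.range b)).map (ρ (h : A)) =
      Submodule.span k (v '' ({h} ×ˢ Set.univ)) := fun h => by
    rw [Submodule.map_span, ← Set.range_comp]
    congr 1
    ext y
    simp [v]
  rw [DirectSum.isInternal_submodule_iff_iSupIndep_and_iSup_eq_top]
  refine ⟨fun h => ?_, ?_⟩
  · simp only [hmap]
    rw [show (⨆ j, ⨆ _ : j ≠ h, Submodule.span k (v '' ({j} ×ˢ Set.univ))) =
        Submodule.span k (v '' ({j | j ≠ h} ×ˢ Set.univ)) from ?_]
    · exact hl.disjoint_span_image (Set.disjoint_left.mpr fun q h1 h2 => h2.1 h1.1)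
    rw [← Submodule.span_iUnion₂]
    congr 1
    ext y
    simp [v]
  · refine top_le_iff.mp (hs.trans (Submodule.span_le.mpr ?_))
    rintro _ ⟨⟨h, j⟩, rfl⟩
    exact Submodule.mem_iSup_of_mem h ⟨b j, Submodule.subset_span ⟨j, rfl⟩, rfl⟩

end Cfsg.Agent.S4396
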