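import Cfsg.Statements.S4397
import Mathlib
import Cfsg.Agent.Fusion.PGroup
import Cfsg.Agent.FGS.AutFrattini

set_option autoImplicit false
open Cfsg
open scoped commutatorElement

namespace Cfsg.Agent.S4397

/-- No section of `S` by a normal subgroup contains three independent commuting involutions. -/
def NoEight (S : Type*) [Group S] : Prop :=
  ∀ (N : Subgroup S), N.Normal → ∀ x y w : S, x * x ∈ N → y * y ∈ N → w * w ∈ N →
    x * y * x⁻¹ * y⁻¹ ∈ N → x * w * x⁻¹ * w⁻¹ ∈ N → y * w * y⁻¹ * w⁻¹ ∈ N →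
    x ∉ N → y ∉ N → x * y ∉ N → w ∉ N → x * w ∉ N → y * w ∉ N → x * y * w ∉ N → False

theorem noEight_of_sectional {S : Type*} [Group S] [Finite S]
    (hr : Cfsg.SectionalPRankLE 2 2 S) : NoEight S := by
  intro N hN x y w hxx hyy hww hxy hxw hyw nx ny nxy nw nxw nyw nxyw
  classical
  set π : S →* (↥(⊤ : Subgroup S) ⧸ N.subgroupOf ⊤) :=
    (QuotientGroup.mk' _).comp Subgroup.topEquiv.symm.toMonoidHom with hπ
  have h1 : ∀ s, π s = 1 ↔ s ∈ N := fun s => by
    rw [hπ, MonoidHom.comp_apply, QuotientGroup.mk'_apply, QuotientGroup.eq_one_iff]; rfl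
  have sq : ∀ s, s * s ∈ N → π s * π s = 1 := fun s h => by rw [← map_mul, h1]; exact h
  have com : ∀ s t, s * t * s⁻¹ * t⁻¹ ∈ N → π s * π t = π t * π s := fun s t h => by
    have := (h1 _).2 h
    simp only [map_mul, map_inv] at this
    rwa [mul_inv_eq_one, mul_inv_eq_iff_eq_mul] at this
  have inv : ∀ s, s * s ∈ N → (π s)⁻¹ = π s := fun s h => inv_eq_of_mul_eq_one_right (sq s h)
  set A := Subgroup.closure ({π x, π y, π w} : Set _) with hAdef
  have hgc : ∀ u ∈ ({π x, π y, π w} : Set _), ∀ v ∈ ({π x, π y, π w} : Set _), u * v = v * u := by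
    rintro u (rfl | rfl | rfl) v (rfl | rfl | rfl)
    exacts [rfl, com _ _ hxy, com _ _ hxw, (com _ _ hxy).symm, rfl, com _ _ hyw,
      (com _ _ hxw).symm, (com _ _ hyw).symm, rfl]
  haveI hAc : IsMulCommutative A := Subgroup.isMulCommutative_closure hgc
  have hA2 : ∀ a ∈ A, a ^ 2 = 1 := by
    intro a ha
    induction ha using Subgroup.closure_induction with
    | mem u hu =>
      rw [pow_two]
      rcases hu with rfl | rfl | rfl
      exacts [sq _ hxx, sq _ hyy, sq _ hww]
    | one => simp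
    | mul u v hu hv iu iv =>
      rw [pow_two] at iu iv ⊢
      rw [mul_assoc, ← mul_assoc v u, setLike_mul_comm hv hu, mul_assoc u v, iv, mul_one, iu]
    | inv u hu iu => rw [inv_pow, iu, inv_one]
  have hle := hr ⊤ (N.subgroupOf ⊤) A hAc hA2
  have mx : π x ∈ A := Subgroup.subset_closure (by simp)
  have my : π y ∈ A := Subgroup.subset_closure (by simp)
  have mw : π w ∈ A := Subgroup.subset_closure (by simp)
  let f : Fin 5 → A := ![1, ⟨π x, mx⟩, ⟨π y, my⟩, ⟨π x, mx⟩ * ⟨π y, my⟩, ⟨π w, mw⟩]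
  have e1 : π x ≠ 1 := fun h => nx ((h1 _).1 h)
  have e2 : π y ≠ 1 := fun h => ny ((h1 _).1 h)
  have e3 : π x * π y ≠ 1 := fun h => nxy ((h1 _).1 (by rw [map_mul]; exact h))
  have e4 : π w ≠ 1 := fun h => nw ((h1 _).1 h)
  have e5 : π x ≠ π y := fun h => e3 (by rw [h]; exact sq y hyy)
  have e6 : π x ≠ π w := fun h => nxw ((h1 _).1 (by rw [map_mul, h]; exact sq w hww))
  have e7 : π y ≠ π w := fun h => nyw ((h1 _).1 (by rw [map_mul, h]; exact sq w hww))
  have e8 : π x * π y ≠ π w := fun h => nxyw ((h1 _).1 (by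
    rw [map_mul, map_mul, h]; exact sq w hww))
  have hinj : Function.Injective f := by
    intro i j hij
    have hij' := congrArg Subtype.val hij
    fin_cases i <;> fin_cases j <;>
      simp [f, e1, e1.symm, e2, e2.symm, e3, e3.symm, e4, e4.symm, e5, e5.symm, e6, e6.symm, e7,
        e7.symm, e8, e8.symm] at hij' ⊢
  have := Nat.card_le_card_of_injective f hinj
  simp at this
  omega

theorem noEight_quotient {S : Type*} [Group S] (h : NoEight S) (M : Subgroup S) [M.Normal] :
    NoEight (S ⧸ M) := by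
  intro N hN x y w
  obtain ⟨x, rfl⟩ := QuotientGroup.mk'_surjective M x
  obtain ⟨y, rfl⟩ := QuotientGroup.mk'_surjective M y
  obtain ⟨w, rfl⟩ := QuotientGroup.mk'_surjective M w
  intro a1 a2 a3 a4 a5 a6 a7 a8 a9 a10 a11 a12 a13
  exact h (N.comap (QuotientGroup.mk' M)) (hN.comap _) x y w a1 a2 a3 a4 a5 a6 a7 a8 a9 a10 a11
    a12 a13

variable {S : Type*} [Group S] [Finite S]

theorem exists_nat_pow {a s : S} (h : s ∈ Subgroup.zpowers a) : ∃ i : ℕ, a ^ i = s := by
  rwa [← mem_powers_iff_mem_zpowers, Submonoid.mem_powers_iff] at h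

theorem metacyclic_of_pair {c d : S} (hgen : Subgroup.closure {c, d} = ⊤)
    (hn : (Subgroup.zpowers c).Normal) : Cfsg.IsMetacyclic S := by
  refine ⟨Subgroup.zpowers c, hn, inferInstance, ⟨⟨QuotientGroup.mk' _ d, fun q => ?_⟩⟩⟩
  have h : Subgroup.closure {c, d} ≤ (Subgroup.zpowers (QuotientGroup.mk' (Subgroup.zpowers c) d)).comap
      (QuotientGroup.mk' (Subgroup.zpowers c)) := by
    rw [Subgroup.closure_le]
    rintro u (rfl | rfl)
    · refine Subgroup.mem_comap.2 ?_
      rw [show QuotientGroup.mk' (Subgroup.zpowers u) u = 1 from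
        (QuotientGroup.eq_one_iff u).2 (Subgroup.mem_zpowers u)]
      exact one_mem _
    · exact Subgroup.mem_zpowers _
  obtain ⟨g, rfl⟩ := QuotientGroup.mk'_surjective _ q
  rw [hgen] at h
  exact h (Subgroup.mem_top g)

theorem commutator_le_of_pair {a b : S} (hgen : Subgroup.closure {a, b} = ⊤) (N : Subgroup S)
    [N.Normal] (h : b * a * b⁻¹ * a⁻¹ ∈ N) : commutator S ≤ N := by
  have hab : (QuotientGroup.mk' N b) * (QuotientGroup.mk' N a) =
      QuotientGroup.mk' N a * QuotientGroup.mk' N b := by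
    have e : QuotientGroup.mk' N (b * a * b⁻¹ * a⁻¹) = 1 := (QuotientGroup.eq_one_iff _).2 h
    simp only [map_mul, map_inv] at e
    rwa [mul_inv_eq_one, mul_inv_eq_iff_eq_mul] at e
  haveI : IsMulCommutative (Subgroup.closure ({QuotientGroup.mk' N a, QuotientGroup.mk' N b} : Set _)) :=
    Subgroup.isMulCommutative_closure (by
      rintro u (rfl | rfl) v (rfl | rfl)
      exacts [rfl, hab.symm, hab, rfl])
  have htop : Subgroup.closure ({QuotientGroup.mk' N a, QuotientGroup.mk' N b} : Set _) = ⊤ := by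
    rw [← Set.image_pair, ← MonoidHom.map_closure, hgen, ← MonoidHom.range_eq_map,
      MonoidHom.range_eq_top.2 (QuotientGroup.mk'_surjective N)]
  rw [commutator_def, Subgroup.commutator_le]
  intro u _ v _
  rw [← QuotientGroup.eq_one_iff]
  show QuotientGroup.mk' N ⁅u, v⁆ = 1
  rw [map_commutatorElement, commutatorElement_eq_one_iff_mul_comm]
  exact setLike_mul_comm (htop ▸ Subgroup.mem_top _ : QuotientGroup.mk' N u ∈ _)
    (htop ▸ Subgroup.mem_top _)

theorem pair_of_mem {a b c d : S} (hgen : Subgroup.closure {a, b} = ⊤)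
    (ha : a ∈ Subgroup.closure {c, d}) (hb : b ∈ Subgroup.closure {c, d}) :
    Subgroup.closure {c, d} = ⊤ := by
  rw [eq_top_iff, ← hgen, Subgroup.closure_le]
  rintro u (rfl | rfl)
  exacts [ha, hb]

theorem two_generated (h2 : IsPGroup 2 S) (h8 : NoEight S) :
    ∃ a b : S, Subgroup.closure {a, b} = ⊤ := by
  haveI : Fact (Nat.Prime 2) := ⟨Nat.prime_two⟩
  obtain ⟨n, hn⟩ := IsPGroup.iff_card.1 h2
  obtain ⟨hc, hs⟩ := FGS.frattini_quotient_props hn
  have sq : ∀ x : S, x * x ∈ frattini S := fun x => by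
    rw [← pow_two, ← QuotientGroup.eq_one_iff, QuotientGroup.mk_pow]; exact hs _
  have com : ∀ x y : S, x * y * x⁻¹ * y⁻¹ ∈ frattini S := fun x y => by
    rw [← QuotientGroup.eq_one_iff]
    simp only [QuotientGroup.mk_mul, QuotientGroup.mk_inv]
    rw [hc (x : S ⧸ frattini S) y, mul_assoc (y : S ⧸ frattini S), mul_inv_cancel, mul_one,
      mul_inv_cancel]
  suffices h : ∃ a b : S, ∀ w : S, w ∈ frattini S ∨ a * w ∈ frattini S ∨ b * w ∈ frattini S ∨
      a * b * w ∈ frattini S by
    obtain ⟨a, b, h⟩ := h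
    refine ⟨a, b, frattini_nongenerating (eq_top_iff.2 fun w _ => ?_)⟩
    have ha : a ∈ Subgroup.closure {a, b} ⊔ frattini S :=
      Subgroup.mem_sup_left (Subgroup.subset_closure (by simp))
    have hb : b ∈ Subgroup.closure {a, b} ⊔ frattini S :=
      Subgroup.mem_sup_left (Subgroup.subset_closure (by simp))
    rcases h w with h | h | h | h
    · exact Subgroup.mem_sup_right h
    · simpa using mul_mem (inv_mem ha) (Subgroup.mem_sup_right h)
    · simpa using mul_mem (inv_mem hb) (Subgroup.mem_sup_right h)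
    · simpa [mul_assoc] using mul_mem (inv_mem (mul_mem ha hb)) (Subgroup.mem_sup_right h)
  by_cases h0 : ∀ w : S, w ∈ frattini S
  · exact ⟨1, 1, fun w => Or.inl (h0 w)⟩
  push Not at h0
  obtain ⟨x, hx⟩ := h0
  by_cases h1 : ∀ w : S, w ∈ frattini S ∨ x * w ∈ frattini S
  · exact ⟨x, 1, fun w => (h1 w).imp id Or.inl⟩
  push Not at h1
  obtain ⟨y, hy, hxy⟩ := h1
  refine ⟨x, y, fun w => ?_⟩
  by_contra hw
  push Not at hw
  obtain ⟨w1, w2, w3, w4⟩ := hw
  exact h8 (frattini S) inferInstance x y w (sq x) (sq y) (sq w) (com x y) (com x w) (com y w) hx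
    hy hxy w1 w2 w3 w4

universe u

theorem metacyclic_aux : ∀ (n : ℕ) (S : Type u) [Group S] [Finite S], Nat.card S = n →
    IsPGroup 2 S → NoEight S → Cfsg.IsMetacyclic S := by
  intro n
  induction n using Nat.strong_induction_on with
  | _ n IH =>
  intro S _ _ hn h2 h8
  haveI : Fact (Nat.Prime 2) := ⟨Nat.prime_two⟩
  by_cases hab : commutator S = ⊥
  · obtain ⟨a, b, hgen⟩ := two_generated h2 h8
    refine metacyclic_of_pair hgen ⟨fun u hu g => ?_⟩
    have hc : ⁅g, u⁆ ∈ commutator S :=
      Subgroup.commutator_mem_commutator (Subgroup.mem_top g) (Subgroup.mem_top u)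
    rw [hab, Subgroup.mem_bot, commutatorElement_eq_one_iff_mul_comm] at hc
    rwa [hc, mul_inv_cancel_right]
  obtain ⟨z₁, hz₁, hz₁1⟩ := (Subgroup.ne_bot_iff_exists_ne_one.1
    (Fusion.pGroup_inf_center_ne_bot h2 (commutator S) hab)) |>
      fun ⟨x, hx⟩ => (⟨x.1, x.2, fun h => hx (Subtype.ext h)⟩ : ∃ z, z ∈ commutator S ⊓ Subgroup.center S ∧ z ≠ 1)
  obtain ⟨z, hzm, hz1, hz2⟩ : ∃ z, z ∈ commutator S ⊓ Subgroup.center S ∧ z ≠ 1 ∧ z * z = 1 := by
    obtain ⟨k, hk⟩ := h2 z₁
    obtain ⟨j, hj, hj'⟩ : ∃ j, z₁ ^ 2 ^ j ≠ 1 ∧ z₁ ^ 2 ^ (j + 1) = 1 := by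
      classical
      have hex : ∃ m, z₁ ^ 2 ^ m = 1 := ⟨k, hk⟩
      rcases hm : Nat.find hex with _ | j
      · have := Nat.find_spec hex
        rw [hm] at this
        exact absurd (by simpa using this) hz₁1
      · exact ⟨j, Nat.find_min hex (by omega), hm ▸ Nat.find_spec hex⟩
    refine ⟨z₁ ^ 2 ^ j, pow_mem hz₁ _, hj, ?_⟩
    rw [← pow_add, ← two_mul, ← pow_succ']
    exact hj'
  obtain ⟨hzd, hzc⟩ := Subgroup.mem_inf.1 hzm
  have hzco : ∀ g : S, g * z = z * g := Subgroup.mem_center_iff.1 hzc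
  have zpow_two : ∀ m : ℕ, z ^ (2 * m) = 1 := fun m => by rw [pow_mul, pow_two, hz2, one_pow]
  have z_even : ∀ m : ℕ, z ^ m = 1 → Even m := fun m hm => by
    rcases Nat.even_or_odd m with h | ⟨l, rfl⟩
    · exact h
    · rw [pow_succ, zpow_two, one_mul] at hm; exact absurd hm hz1
  haveI hZ : (Subgroup.zpowers z).Normal := ⟨fun u hu g => by
    obtain ⟨i, rfl⟩ := exists_nat_pow hu
    rw [((show Commute g z from hzco g).pow_right i).eq, mul_inv_cancel_right]; exact hu⟩
  -- the quotient is metacyclic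
  have hlt : Nat.card (S ⧸ Subgroup.zpowers z) < n := by
    rw [← hn, ← Subgroup.index_eq_card, ← Subgroup.index_mul_card (Subgroup.zpowers z)]
    refine lt_mul_of_one_lt_right (Nat.pos_of_ne_zero Subgroup.index_ne_zero_of_finite) ?_
    rw [Nat.card_zpowers]
    exact lt_of_le_of_ne (orderOf_pos z) (fun h => hz1 (orderOf_eq_one_iff.1 h.symm))
  obtain ⟨Nb, hNb, hNc, hQc⟩ := IH _ hlt (S ⧸ Subgroup.zpowers z) rfl (h2.to_quotient _)
    (noEight_quotient h8 _)
  obtain ⟨⟨ab, hab'⟩, habg⟩ := hNc.exists_generator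
  obtain ⟨bq, hbqg⟩ := hQc.exists_generator
  obtain ⟨bb, rfl⟩ := QuotientGroup.mk'_surjective Nb bq
  obtain ⟨a, rfl⟩ := QuotientGroup.mk'_surjective (Subgroup.zpowers z) ab
  obtain ⟨b, rfl⟩ := QuotientGroup.mk'_surjective (Subgroup.zpowers z) bb
  set π := QuotientGroup.mk' (Subgroup.zpowers z) with hπ
  have inN : ∀ s : S, π s ∈ Nb → ∃ i e : ℕ, s = a ^ i * z ^ e := by
    intro s hs
    obtain ⟨i, hi⟩ := exists_nat_pow (habg ⟨π s, hs⟩)
    have hi' : π (a ^ i) = π s := by
      rw [map_pow]; exact congrArg Subtype.val hi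
    obtain ⟨e, he⟩ := exists_nat_pow (QuotientGroup.eq.1 hi')
    exact ⟨i, e, by rw [he, mul_inv_cancel_left]⟩
  have hzf : z ∈ frattini S := by
    obtain ⟨k, hk⟩ := IsPGroup.iff_card.1 h2
    refine (?_ : commutator S ≤ frattini S) hzd
    rw [commutator_def, Subgroup.commutator_le]
    intro u _ v _
    rw [← QuotientGroup.eq_one_iff]
    show QuotientGroup.mk' _ ⁅u, v⁆ = 1
    rw [map_commutatorElement, commutatorElement_eq_one_iff_mul_comm]
    exact (FGS.frattini_quotient_props hk).1 _ _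
  have hgen : Subgroup.closure {a, b} = ⊤ := by
    refine frattini_nongenerating (eq_top_iff.2 fun s _ => ?_)
    obtain ⟨j, hj⟩ := exists_nat_pow (hbqg (QuotientGroup.mk' Nb (π s)))
    have hsN : π ((b ^ j)⁻¹ * s) ∈ Nb := by
      rw [map_mul, map_inv, map_pow, ← QuotientGroup.eq]
      exact hj
    obtain ⟨i, e, he⟩ := inN _ hsN
    rw [show s = b ^ j * (a ^ i * z ^ e) by rw [← he, mul_inv_cancel_left]]
    exact mul_mem (Subgroup.mem_sup_left (pow_mem (Subgroup.subset_closure (by simp)) j))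
      (mul_mem (Subgroup.mem_sup_left (pow_mem (Subgroup.subset_closure (by simp)) i))
        (Subgroup.mem_sup_right (pow_mem hzf e)))
  by_cases hza : z ∈ Subgroup.zpowers a
  · refine metacyclic_of_pair hgen ?_
    have e : Subgroup.zpowers a = Nb.comap π := by
      refine le_antisymm ((Subgroup.zpowers_le).2 hab') fun s hs => ?_
      obtain ⟨i, e, rfl⟩ := inN s hs
      exact mul_mem (pow_mem (Subgroup.mem_zpowers a) i) (pow_mem hza e)
    rw [e]; exact hNb.comap π
  -- `b a b⁻¹ = a ^ r * z`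
  obtain ⟨r, e, hbab⟩ := inN (b * a * b⁻¹) (by
    rw [map_mul, map_mul, map_inv]; exact hNb.conj_mem _ hab' _)
  rcases Nat.even_or_odd e with ⟨l, rfl⟩ | ⟨l, rfl⟩
  · rw [← two_mul, zpow_two, mul_one] at hbab
    refine metacyclic_of_pair hgen (Subgroup.normalizer_eq_top_iff.1 (eq_top_iff.2 ?_))
    rw [← hgen, Subgroup.closure_le]
    have key : ∀ g : S, g * a * g⁻¹ ∈ Subgroup.zpowers a →
        g ∈ Subgroup.normalizer ((Subgroup.zpowers a : Subgroup S) : Set S) := by
      intro g hg
      rw [Subgroup.mem_normalizer_iff_map_conj_eq]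
      refine Subgroup.eq_of_le_of_card_ge ?_ (by
        rw [Subgroup.card_map_of_injective (MulAut.conj g).injective])
      rw [MonoidHom.map_zpowers, Subgroup.zpowers_le]
      exact hg
    rintro u (rfl | rfl)
    · exact key _ (by simp)
    · exact key _ (hbab ▸ pow_mem (Subgroup.mem_zpowers a) r)
  rw [pow_succ, zpow_two, one_mul] at hbab
  obtain ⟨m, hm⟩ : ∃ m, orderOf a = 2 ^ m := IsPGroup.iff_orderOf.1 h2 a
  have ham : a ^ 2 ^ m = 1 := hm ▸ pow_orderOf_eq_one a
  -- `r` is odd
  obtain ⟨r', rfl⟩ : ∃ r', r = 2 * r' + 1 := by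
    rcases Nat.even_or_odd r with ⟨r', rfl⟩ | h
    · exfalso
      rcases m with _ | _ | m
      · have ha1 : a = 1 := by simpa using ham
        rw [ha1] at hbab; simp at hbab; exact hz1 hbab.symm
      · have h2a : a * a = 1 := by rw [← pow_two]; simpa using ham
        rw [← two_mul, pow_mul, pow_two, h2a, one_pow, one_mul, mul_inv_eq_iff_eq_mul, ← hzco] at hbab
        exact hza ((mul_left_cancel hbab) ▸ Subgroup.mem_zpowers a)
      · have hp : (b * a * b⁻¹) ^ 2 ^ (m + 1) = 1 := by
          rw [hbab, (show Commute (a ^ (r' + r')) z from hzco _).mul_pow, pow_succ' 2 m, zpow_two,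
            mul_one, ← pow_mul, show (r' + r') * (2 * 2 ^ m) = 2 ^ (m + 1 + 1) * r' by ring, pow_mul,
            ham, one_pow]
        rw [conj_pow, conj_eq_one_iff] at hp
        have := (orderOf_dvd_of_pow_eq_one hp)
        rw [hm, Nat.pow_dvd_pow_iff_le_right (le_refl 2)] at this
        omega
    · exact h
  have caz : Commute a z := hzco a
  set w := a ^ (2 * r') * z with hw
  have hwb : b * w * b⁻¹ = w ^ (2 * r' + 1) := by
    have h1 : b * w * b⁻¹ = (b * a * b⁻¹) ^ (2 * r') * z := by
      rw [conj_pow, hw, mul_assoc (b * a ^ (2 * r')) b⁻¹ z, hzco b⁻¹]; group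
    rw [h1, hbab, (caz.pow_left _).mul_pow, (caz.pow_left _).mul_pow, zpow_two, mul_one,
      pow_succ z, zpow_two, one_mul, ← pow_mul, ← pow_mul, mul_comm (2 * r' + 1)]
  haveI hwn : (Subgroup.zpowers w).Normal := by
    refine Subgroup.normalizer_eq_top_iff.1 (eq_top_iff.2 ?_)
    rw [← hgen, Subgroup.closure_le]
    have key : ∀ g : S, g * w * g⁻¹ ∈ Subgroup.zpowers w →
        g ∈ Subgroup.normalizer ((Subgroup.zpowers w : Subgroup S) : Set S) := by
      intro g hg
      rw [Subgroup.mem_normalizer_iff_map_conj_eq]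
      refine Subgroup.eq_of_le_of_card_ge ?_ (by
        rw [Subgroup.card_map_of_injective (MulAut.conj g).injective])
      rw [MonoidHom.map_zpowers, Subgroup.zpowers_le]
      exact hg
    rintro u (rfl | rfl)
    · refine key _ ?_
      rw [show u * w = w * u from ((Commute.refl u).pow_right _).mul_right (hzco u),
        mul_inv_cancel_right]
      exact Subgroup.mem_zpowers w
    · exact key _ (hwb ▸ pow_mem (Subgroup.mem_zpowers w) _)
  have hcw : commutator S ≤ Subgroup.zpowers w := commutator_le_of_pair hgen _ (by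
    rw [hbab, mul_assoc, ← (caz.inv_left).eq, ← mul_assoc, pow_succ, mul_inv_cancel_right]
    exact Subgroup.mem_zpowers w)
  obtain ⟨q, hq⟩ := exists_nat_pow (hcw hzd)
  rw [hw, (caz.pow_left _).mul_pow, ← pow_mul] at hq
  have hr : a ^ (2 * r') = 1 := by
    rcases Nat.even_or_odd q with ⟨l', rfl⟩ | ⟨l', rfl⟩
    · rw [← two_mul, zpow_two, mul_one] at hq
      exact absurd (hq ▸ pow_mem (Subgroup.mem_zpowers a) _) hza
    · rw [pow_succ z, zpow_two, one_mul, mul_eq_right] at hq
      refine orderOf_dvd_iff_pow_eq_one.1 (Nat.Coprime.dvd_of_dvd_mul_right ?_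
        (orderOf_dvd_of_pow_eq_one hq))
      rw [hm]
      exact Nat.Coprime.pow_left _ (by simp)
  rw [pow_succ, hr, one_mul] at hbab
  -- now `b a b⁻¹ = a z`
  have hba : b * a = a * b * z := by
    rw [mul_inv_eq_iff_eq_mul] at hbab
    rw [hbab, mul_assoc, mul_assoc, hzco b]
  have hai : a⁻¹ * b = b * a⁻¹ * z := by
    have h : b = a⁻¹ * (b * a) * z := by
      rw [hba, mul_assoc (a⁻¹), mul_assoc (a * b), hz2, mul_one, inv_mul_cancel_left]
    calc a⁻¹ * b = a⁻¹ * b * a * z * (z * a⁻¹) := by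
          rw [mul_assoc _ z (z * a⁻¹), ← mul_assoc z z, hz2, one_mul, mul_inv_cancel_right]
      _ = b * (z * a⁻¹) := by rw [mul_assoc a⁻¹ b a, ← h]
      _ = b * a⁻¹ * z := by rw [← hzco a⁻¹, mul_assoc]
  have hpowi : ∀ i : ℕ, a⁻¹ ^ i * b = b * a⁻¹ ^ i * z ^ i := by
    intro i
    induction i with
    | zero => simp
    | succ i ih =>
      rw [pow_succ, mul_assoc, hai, ← mul_assoc, ← mul_assoc, ih, pow_succ z,
        mul_assoc (b * a⁻¹ ^ i) (z ^ i) a⁻¹, ← ((show Commute a⁻¹ z from hzco _).pow_right i).eq,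
        ← mul_assoc]
      group
  have ca2 : Commute b (a * a) := by
    show b * (a * a) = a * a * b
    rw [← mul_assoc, hba, mul_assoc (a * b) z a, ← hzco a, ← mul_assoc, mul_assoc a b a, hba,
      ← mul_assoc, mul_assoc _ z z, hz2, mul_one, ← mul_assoc]
  have cb2 : Commute (b * b) a := by
    show b * b * a = a * (b * b)
    rw [mul_assoc, hba, ← mul_assoc, ← mul_assoc b a b, hba, mul_assoc (a * b) z b, ← hzco b,
      ← mul_assoc, mul_assoc _ z z, hz2, mul_one, mul_assoc]
  have hcz : commutator S ≤ Subgroup.zpowers z := commutator_le_of_pair hgen _ (by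
    rw [hbab, mul_assoc, ← (caz.inv_left).eq, ← mul_assoc, mul_inv_cancel, one_mul]
    exact Subgroup.mem_zpowers z)
  have finish : ∀ c d : S, a ∈ Subgroup.closure {c, d} → b ∈ Subgroup.closure {c, d} →
      z ∈ Subgroup.zpowers c → Cfsg.IsMetacyclic S := fun c d h1 h2 h3 =>
    metacyclic_of_pair (pair_of_mem hgen h1 h2) ⟨fun u hu g => by
      have hc : ⁅g, u⁆ ∈ Subgroup.zpowers c := (Subgroup.zpowers_le.2 h3) (hcz
        (Subgroup.commutator_mem_commutator (Subgroup.mem_top g) (Subgroup.mem_top u)))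
      simpa [commutatorElement_def] using mul_mem hc hu⟩
  classical
  have hex : ∃ k t j : ℕ, b ^ 2 ^ k = a ^ t * z ^ j := by
    obtain ⟨k, hk⟩ := h2 b
    exact ⟨k, 0, 0, by simpa using hk⟩
  set k := Nat.find hex with hk
  obtain ⟨t, j, hbk⟩ := Nat.find_spec hex
  rw [← hk] at hbk
  have hout : ∀ k' < k, ∀ t j : ℕ, b ^ 2 ^ k' ≠ a ^ t * z ^ j := fun k' hk' t j h =>
    Nat.find_min hex hk' ⟨t, j, h⟩
  -- `t` is even
  obtain ⟨i, rfl⟩ : ∃ i, t = 2 * i := by
    have hcomm : b * a ^ t * b⁻¹ = a ^ t := by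
      have h := (Commute.refl b).pow_right (2 ^ k)
      rw [hbk] at h
      have h' : b * a ^ t = a ^ t * b := by
        have := h.eq
        rw [← mul_assoc, mul_assoc (a ^ t), ← ((show Commute b z from hzco b).pow_right j).eq,
          ← mul_assoc] at this
        exact mul_right_cancel this
      rw [h', mul_inv_cancel_right]
    rw [← conj_pow, hbab, caz.mul_pow, mul_eq_left] at hcomm
    obtain ⟨i, hi⟩ := z_even _ hcomm
    exact ⟨i, by omega⟩
  have ha2 : ∀ i : ℕ, Commute b (a ^ (2 * i)) := fun i => by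
    rw [pow_mul, pow_two]; exact ca2.pow_right i
  have hsq : ∀ s : ℕ, (b * a⁻¹ ^ s) ^ 2 = b ^ 2 * a⁻¹ ^ (2 * s) * z ^ s := by
    intro s
    rw [pow_two, mul_assoc b, ← mul_assoc (a⁻¹ ^ s), hpowi, mul_assoc (b * a⁻¹ ^ s) (z ^ s),
      ← ((show Commute (a⁻¹ ^ s) z from hzco _).pow_right s).eq, two_mul s, pow_add, pow_two]
    group
  rcases hk0 : k with _ | _ | k'
  · exfalso
    rw [hk0, pow_zero, pow_one] at hbk
    have : Commute b a := hbk ▸ ((Commute.refl a).pow_left _).mul_left ((caz.symm).pow_left _)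
    rw [this.eq, mul_inv_cancel_right, left_eq_mul] at hbab
    exact hz1 hbab
  · -- `k = 1`
    rw [hk0] at hbk
    simp only [zero_add, pow_one] at hbk
    set b' := b * a⁻¹ ^ i with hb'
    have hb'2 : b' * b' = z ^ (j + i) := by
      rw [← pow_two, hb', hsq, hbk, mul_assoc (a ^ (2 * i)) (z ^ j),
        ← ((show Commute (a⁻¹ ^ (2 * i)) z from hzco _).pow_right j).eq, ← mul_assoc, inv_pow,
        mul_inv_cancel, one_mul, pow_add]
    have hbmem : ∀ c, a ∈ Subgroup.closure {b', c} → b ∈ Subgroup.closure {b', c} := fun c hc => by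
      have := mul_mem (Subgroup.subset_closure (show b' ∈ ({b', c} : Set S) by simp)) (pow_mem hc i)
      have e : b' * a ^ i = b := by rw [hb', inv_pow, inv_mul_cancel_right]
      rwa [e] at this
    rcases Nat.even_or_odd (j + i) with ⟨l', hl⟩ | ⟨l', hl⟩
    · rw [hl, ← two_mul, zpow_two] at hb'2
      by_cases h2a : a * a = 1
      · refine finish (a * b') a (Subgroup.subset_closure (by simp)) ?_ ?_
        · have h1 : a * b' ∈ Subgroup.closure {a * b', a} := Subgroup.subset_closure (by simp)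
          have h0 : a ∈ Subgroup.closure {a * b', a} := Subgroup.subset_closure (by simp)
          have := mul_mem (mul_mem (inv_mem h0) h1) (pow_mem h0 i)
          have e : a⁻¹ * (a * b') * a ^ i = b := by
            rw [hb', inv_pow, inv_mul_cancel_left, inv_mul_cancel_right]
          rwa [e] at this
        · have hb'a : b' * a = a * b' * z := by
            rw [hb', mul_assoc b, ((Commute.refl a).inv_left.pow_left i).eq, ← mul_assoc, hba,
              mul_assoc (a * b) z, ← hzco]
            group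
          have : (a * b') * (a * b') = z := by
            rw [mul_assoc a b', ← mul_assoc b', hb'a, mul_assoc (a * b') z, ← hzco b',
              ← mul_assoc (a * b'), mul_assoc a b' b', hb'2, mul_one, ← mul_assoc, h2a, one_mul]
          exact this ▸ mul_mem (Subgroup.mem_zpowers _) (Subgroup.mem_zpowers _)
      · exfalso
        obtain ⟨m', rfl⟩ : ∃ m', m = m' + 2 := by
          rcases m with _ | _ | m'
          · exact absurd (by simp at ham; simp [ham]) h2a
          · exact absurd (by rw [← pow_two]; simpa using ham) h2a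
          · exact ⟨m', rfl⟩
        set u := a ^ 2 ^ (m' + 1) with hu
        have hu1 : u ≠ 1 := by
          intro h
          have := orderOf_dvd_of_pow_eq_one h
          rw [hm, Nat.pow_dvd_pow_iff_le_right (le_refl 2)] at this
          omega
        have hu2 : u * u = 1 := by rw [hu, ← pow_add, ← two_mul, ← pow_succ', ham]
        have cu : Commute u b' := by
          rw [hu, hb']
          refine (Commute.mul_left ?_ ?_).symm
          · rw [pow_succ' 2 m']; exact ha2 _
          · exact ((Commute.refl a).inv_left.pow_pow _ _)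
        have hb'N : ∀ x y : ℕ, b' ≠ a ^ x * z ^ y := by
          intro x y h
          refine hout 0 (by omega) (x + i) y ?_
          rw [pow_zero, pow_one, pow_add, show b = b' * a ^ i by rw [hb', inv_pow, inv_mul_cancel_right],
            h, mul_assoc, ← ((show Commute (a ^ i) z from hzco _).pow_right y).eq, ← mul_assoc]
        have nb : ∀ x, x * b' = 1 → b' = x⁻¹ := fun x hx => eq_inv_of_mul_eq_one_right hx
        refine h8 ⊥ inferInstance u z b' (by simpa using hu2) (by simpa using hz2)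
          (by simpa using hb'2) (by simp [hzco u]) (by simp [cu.eq]) (by simp [← hzco b'])
          (by simpa using hu1) (by simpa using hz1) ?_ ?_ ?_ ?_ ?_ <;> rw [Subgroup.mem_bot]
        · intro h
          exact hza (eq_inv_of_mul_eq_one_right h ▸ inv_mem (pow_mem (Subgroup.mem_zpowers a) _))
        · exact fun h => hb'N 0 0 (by simpa using h)
        · intro h
          exact hb'N (2 ^ (m' + 1)) 0 (by
            rw [pow_zero, mul_one, ← hu, nb u h, inv_eq_of_mul_eq_one_right hu2])
        · intro h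
          exact hb'N 0 1 (by rw [pow_zero, one_mul, pow_one, nb z h, inv_eq_of_mul_eq_one_right hz2])
        · intro h
          exact hb'N (2 ^ (m' + 1)) 1 (by
            rw [pow_one, ← hu, nb (u * z) h, mul_inv_rev, inv_eq_of_mul_eq_one_right hu2,
              inv_eq_of_mul_eq_one_right hz2, hzco u])
    · rw [hl, pow_succ, zpow_two, one_mul] at hb'2
      exact finish b' a (Subgroup.subset_closure (by simp))
        (hbmem a (Subgroup.subset_closure (by simp)))
        (hb'2 ▸ mul_mem (Subgroup.mem_zpowers _) (Subgroup.mem_zpowers _))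
  · -- `k ≥ 2`
    rw [hk0] at hbk hout
    have hab2 : ∀ m : ℕ, Commute (b ^ (2 * m)) a := fun m => by
      rw [pow_mul, pow_two]; exact cb2.pow_left m
    rcases Nat.even_or_odd j with ⟨l', rfl⟩ | ⟨l', rfl⟩
    · exfalso
      rw [← two_mul, zpow_two, mul_one] at hbk
      set d := b ^ 2 ^ (k' + 1) with hd
      have hdd : d * d = a ^ (2 * i) := by
        rw [← hbk, hd, ← pow_add, ← two_mul, ← pow_succ']
      have hdN : ∀ x y : ℕ, d ≠ a ^ x * z ^ y := fun x y => hout _ (by omega) x y
      haveI hA : (Subgroup.zpowers (a * a)).Normal := by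
        refine Subgroup.normalizer_eq_top_iff.1 (eq_top_iff.2 ?_)
        rw [← hgen, Subgroup.closure_le]
        intro g hg
        have hc : Commute g (a * a) := by
          rcases hg with rfl | rfl
          · exact (Commute.refl g).mul_right (Commute.refl g)
          · exact ca2
        rw [SetLike.mem_coe, Subgroup.mem_normalizer_iff_map_conj_eq, MonoidHom.map_zpowers]
        simp [hc.eq]
      have memA : ∀ x, x ∈ Subgroup.zpowers (a * a) → ∃ l, a ^ (2 * l) = x := fun x hx => by
        obtain ⟨l, rfl⟩ := exists_nat_pow hx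
        exact ⟨l, by rw [pow_mul, pow_two]⟩
      have hsub : ∀ x, x ∈ Subgroup.zpowers (a * a) → x ∈ Subgroup.zpowers a := fun x hx => by
        obtain ⟨l, rfl⟩ := memA x hx
        exact pow_mem (Subgroup.mem_zpowers a) _
      have hanA : a ∉ Subgroup.zpowers (a * a) := by
        intro h
        obtain ⟨l, hl⟩ := memA a h
        refine hza ?_
        -- an odd power of `a` is trivial, so `a = 1`
        have ha1 : a = 1 := by
          rcases m with _ | m'
          · simpa using ham
          exfalso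
          have h' : (a ^ 2 ^ m') ^ (2 * l) = a ^ 2 ^ m' := by
            rw [← pow_mul, mul_comm, pow_mul, hl]
          rw [← pow_mul, ← mul_assoc, ← pow_succ, pow_mul, ham, one_pow] at h'
          have := orderOf_dvd_of_pow_eq_one h'.symm
          rw [hm, Nat.pow_dvd_pow_iff_le_right (le_refl 2)] at this
          omega
        rw [ha1] at hbab
        simp at hbab
        exact absurd hbab.symm hz1
      have hdmem : ∀ x y : ℕ, a ^ x * z ^ y * d ∉ Subgroup.zpowers (a * a) := by
        intro x y h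
        have hH : ∀ u, u ∈ Subgroup.zpowers a ⊔ Subgroup.zpowers z → ∃ x y : ℕ, a ^ x * z ^ y = u := by
          intro u hu
          obtain ⟨p, hp, q, hq, rfl⟩ := Subgroup.mem_sup_of_normal_right.1 hu
          obtain ⟨x, rfl⟩ := exists_nat_pow hp
          obtain ⟨y, rfl⟩ := exists_nat_pow hq
          exact ⟨x, y, rfl⟩
        have h1 : a ^ x * z ^ y ∈ Subgroup.zpowers a ⊔ Subgroup.zpowers z :=
          mul_mem (Subgroup.mem_sup_left (pow_mem (Subgroup.mem_zpowers a) x))
            (Subgroup.mem_sup_right (pow_mem (Subgroup.mem_zpowers z) y))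
        obtain ⟨x', y', he⟩ := hH d (by
          rw [show d = (a ^ x * z ^ y)⁻¹ * (a ^ x * z ^ y * d) by rw [inv_mul_cancel_left]]
          exact mul_mem (inv_mem h1) (Subgroup.mem_sup_left (hsub _ h)))
        exact hdN x' y' he.symm
      have hda : Commute d a := by rw [hd, pow_succ']; exact hab2 _
      refine h8 (Subgroup.zpowers (a * a)) hA a z d (Subgroup.mem_zpowers _)
        (by rw [hz2]; exact one_mem _) ?_
        (by simp [hzco a]) (by simp [← hda.eq]) (by simp [← hzco d]) hanA (fun h => hza (hsub _ h))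
        (fun h => hza ?_) ?_ ?_ ?_ ?_
      · rw [hdd, pow_mul, pow_two]; exact pow_mem (Subgroup.mem_zpowers _) i
      · simpa using mul_mem (inv_mem (Subgroup.mem_zpowers a)) (hsub _ h)
      · simpa using hdmem 0 0
      · simpa using hdmem 1 0
      · simpa using hdmem 0 1
      · simpa using hdmem 1 1
    · rw [pow_succ z, zpow_two, one_mul] at hbk
      by_cases hi0 : i = 0
      · subst hi0
        refine finish b a (Subgroup.subset_closure (by simp)) (Subgroup.subset_closure (by simp)) ?_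
        rw [show z = b ^ 2 ^ (k' + 1 + 1) by rw [hbk]; simp]
        exact pow_mem (Subgroup.mem_zpowers b) _
      obtain ⟨l, o, ho, rfl⟩ : ∃ l o, Odd o ∧ i = 2 ^ l * o := Nat.exists_eq_two_pow_mul_odd hi0
      by_cases hl : k' + 1 ≤ l
      · obtain ⟨e', rfl⟩ : ∃ e', l = k' + 1 + e' := ⟨l - (k' + 1), by omega⟩
        set s := 2 ^ e' * o with hs
        refine finish (b * a⁻¹ ^ s) a (Subgroup.subset_closure (by simp)) ?_ ?_
        · have := mul_mem (Subgroup.subset_closure (show b * a⁻¹ ^ s ∈ ({b * a⁻¹ ^ s, a} : Set S) by simp))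
            (pow_mem (Subgroup.subset_closure (show a ∈ ({b * a⁻¹ ^ s, a} : Set S) by simp)) s)
          have e : b * a⁻¹ ^ s * a ^ s = b := by rw [inv_pow, inv_mul_cancel_right]
          rwa [e] at this
        · have hx : (b * a⁻¹ ^ s) ^ 2 ^ (k' + 1 + 1) = z := by
            have c1 : Commute (b ^ 2) (a⁻¹ ^ (2 * s)) := by
              have := (hab2 1).inv_right.pow_right (2 * s)
              simpa using this
            rw [pow_succ' 2 (k' + 1), pow_mul, hsq,
              ((show Commute (b ^ 2 * a⁻¹ ^ (2 * s)) z from hzco _).pow_right s).mul_pow,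
              c1.mul_pow, ← pow_mul, ← pow_mul, ← pow_mul, ← pow_succ', hbk,
              show s * 2 ^ (k' + 1) = 2 * (s * 2 ^ k') by ring, zpow_two, mul_one,
              show 2 * s * 2 ^ (k' + 1) = 2 * (2 ^ (k' + 1 + e') * o) by rw [hs]; ring, inv_pow,
              hzco, mul_inv_cancel_right]
          exact hx ▸ pow_mem (Subgroup.mem_zpowers _) _
      · obtain ⟨e', rfl⟩ : ∃ e', k' = l + e' := ⟨k' - l, by omega⟩
        set B := b ^ 2 ^ (e' + 1) with hB
        have hBa : Commute B (a⁻¹ ^ o) := by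
          rw [hB, pow_succ']
          exact (hab2 _).inv_right.pow_right o
        have hx : (B * a⁻¹ ^ o) ^ 2 ^ (l + 1) = z := by
          rw [hBa.mul_pow, hB, ← pow_mul, ← pow_mul, ← pow_add,
            show e' + 1 + (l + 1) = l + e' + 1 + 1 by omega, hbk,
            show o * 2 ^ (l + 1) = 2 * (2 ^ l * o) by ring, inv_pow, hzco, mul_inv_cancel_right]
        refine finish (B * a⁻¹ ^ o) b ?_ (Subgroup.subset_closure (by simp))
          (hx ▸ pow_mem (Subgroup.mem_zpowers _) _)
        have h1 : B * a⁻¹ ^ o ∈ Subgroup.closure {B * a⁻¹ ^ o, b} := Subgroup.subset_closure (by simp)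
        have h0 : b ∈ Subgroup.closure {B * a⁻¹ ^ o, b} := Subgroup.subset_closure (by simp)
        have h3 : a⁻¹ ^ o ∈ Subgroup.closure {B * a⁻¹ ^ o, b} := by
          have := mul_mem (inv_mem (pow_mem h0 (2 ^ (e' + 1)))) h1
          have e : (b ^ 2 ^ (e' + 1))⁻¹ * (B * a⁻¹ ^ o) = a⁻¹ ^ o := by rw [hB, inv_mul_cancel_left]
          rwa [e] at this
        obtain ⟨v, hv⟩ : ∃ v, (a ^ o) ^ v = a := by
          refine exists_pow_eq_self_of_coprime ?_
          rw [hm]
          exact Nat.Coprime.pow_right _ ho.coprime_two_right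
        have h4 := pow_mem (inv_mem h3) v
        have e : ((a⁻¹ ^ o)⁻¹) ^ v = a := by rw [inv_pow a o, inv_inv, hv]
        rwa [e] at h4

/-- A finite 2-group of sectional 2-rank at most 2 (every section has no elementary abelian subgroup of order 8) is metacyclic: it has a cyclic normal subgroup with cyclic quotient. -/
theorem result {S : Type*} [Group S] [Finite S] (h2 : IsPGroup 2 S) (hr : Cfsg.SectionalPRankLE 2 2 S) : Cfsg.IsMetacyclic S := by
  exact metacyclic_aux _ S rfl h2 (noEight_of_sectional hr)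

end Cfsg.Agent.S4397
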