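import Cfsg.Statements.S4398
import Cfsg.Agent.MaxClass.SelfCent
import Cfsg.Agent.MaxClass.Class

set_option autoImplicit false
open Cfsg

namespace Cfsg.Agent.S4398

/-- Let S be a finite 2-group of sectional 2-rank at most 2 that contains a subgroup isomorphic to the dihedral group of order 8 or to the quaternion group of order 8. Then S is dihedral of order at least 8, semidihedral of order at least 16 (order 2^(k+4) with an element a of order 2^(k+3) and an involution b with b a b⁻¹ = a^(2^(k+2)−1)), or generalized quaternion of order at least 8. -/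
theorem result {S : Type*} [Group S] [Finite S] (h2 : IsPGroup 2 S) (hr : Cfsg.SectionalPRankLE 2 2 S)
    (hsub : ∃ H : Subgroup S, Nonempty (↥H ≃* DihedralGroup 4) ∨ Nonempty (↥H ≃* QuaternionGroup 2)) :
    ((∃ k : ℕ, Nonempty (S ≃* DihedralGroup (2 ^ (k + 2)))) ∨
      (∃ k : ℕ, Nat.card S = 2 ^ (k + 4) ∧ ∃ a b : S, orderOf a = 2 ^ (k + 3) ∧ orderOf b = 2 ∧ b * a * b⁻¹ = a ^ (2 ^ (k + 2) - 1)) ∨
      (∃ k : ℕ, Nonempty (S ≃* QuaternionGroup (2 ^ (k + 1))))) := by
  have : Fact (Nat.Prime 2) := ⟨Nat.prime_two⟩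
  obtain ⟨n, hn⟩ := IsPGroup.iff_card.1 h2
  obtain ⟨H, hH⟩ := hsub
  obtain ⟨hH8, hHna⟩ : Nat.card H = 2 ^ 3 ∧ ¬ IsMulCommutative H := by
    rcases hH with ⟨⟨e⟩⟩ | ⟨⟨e⟩⟩
    · refine ⟨by rw [Nat.card_congr e.toEquiv, DihedralGroup.nat_card]; norm_num, fun h => ?_⟩
      have h1 := congrArg e (h.is_comm.comm (e.symm (DihedralGroup.r 1)) (e.symm (DihedralGroup.sr 0)))
      rw [map_mul, map_mul, e.apply_symm_apply, e.apply_symm_apply] at h1
      exact absurd h1 (by decide)
    · refine ⟨by rw [Nat.card_congr e.toEquiv, Nat.card_eq_fintype_card, QuaternionGroup.card]; norm_num, fun h => ?_⟩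
      have h1 := congrArg e (h.is_comm.comm (e.symm (QuaternionGroup.a 1)) (e.symm (QuaternionGroup.xa 0)))
      rw [map_mul, map_mul, e.apply_symm_apply, e.apply_symm_apply] at h1
      exact absurd h1 (by decide)
  have hHp : IsPGroup 2 H := h2.to_subgroup H
  have hZ2 : Nat.card (Subgroup.center H) = 2 := by
    have h1 := MaxClass.sq_le_index_center hHp hHna
    have h3 := (Subgroup.center H).card_mul_index
    rw [hH8] at h3
    have hnt : Nontrivial H := by
      by_contra h; rw [not_nontrivial_iff_subsingleton] at h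
      exact hHna ⟨⟨fun _ _ => Subsingleton.elim _ _⟩⟩
    have := hHp.center_nontrivial
    have h4 : 1 < Nat.card (Subgroup.center H) := Finite.one_lt_card
    have h5 := Nat.mul_le_mul_left (Nat.card (Subgroup.center H)) h1
    norm_num at h3 h5
    omega
  have hC : Subgroup.centralizer (H : Set S) ≤ H := by
    by_contra hcon
    obtain ⟨y, hyC, hyH⟩ := SetLike.not_le_iff_exists.1 hcon
    obtain ⟨j, hj⟩ := IsPGroup.iff_orderOf.1 h2 y
    classical
    have hex : ∃ i, y ^ 2 ^ i ∈ H := ⟨j, by rw [← hj, pow_orderOf_eq_one]; exact one_mem H⟩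
    obtain ⟨i, hi⟩ : ∃ i, Nat.find hex = i + 1 := ⟨Nat.find hex - 1, by
      have : Nat.find hex ≠ 0 := fun h0 => hyH (by simpa [h0] using Nat.find_spec hex)
      omega⟩
    set x := y ^ 2 ^ i
    have hxH : x ∉ H := Nat.find_min hex (by omega)
    have hx2 : x * x ∈ H := by
      have := Nat.find_spec hex
      rwa [hi, pow_succ, pow_mul, pow_two] at this
    have hxC : ∀ h ∈ H, h * x = x * h := fun h hh =>
      Subgroup.mem_centralizer_iff.1 (pow_mem hyC _) h hh
    set N := (Subgroup.center H).map H.subtype with hN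
    set L := H ⊔ Subgroup.zpowers x with hL
    have hNH : N ≤ H := Subgroup.map_subtype_le _
    have hNcen : ∀ z ∈ N, ∀ l ∈ L, l * z = z * l := by
      rintro _ ⟨q, hq, rfl⟩ l hl
      have hle : L ≤ Subgroup.centralizer ({(q : S)} : Set S) := sup_le
        (fun h hh => Subgroup.mem_centralizer_singleton_iff.2 (congrArg Subtype.val (Subgroup.mem_center_iff.1 hq ⟨h, hh⟩)))
        (Subgroup.zpowers_le.2 (Subgroup.mem_centralizer_singleton_iff.2 (hxC q q.2).symm))
      exact Subgroup.mem_centralizer_singleton_iff.1 (hle hl)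
    set N' := N.subgroupOf L with hN'
    have hN'n : N'.Normal := ⟨fun z hz g => by
      rw [hN', Subgroup.mem_subgroupOf] at hz ⊢
      show (g : S) * z * (g : S)⁻¹ ∈ N
      rw [hNcen _ hz _ g.2, mul_inv_cancel_right]
      exact hz⟩
    set π := QuotientGroup.mk' N'
    have hHL : H ≤ L := le_sup_left
    have hxL : x ∈ L := le_sup_right (a := H) (Subgroup.mem_zpowers x)
    have hHexp : ∀ h : H, π ⟨(h : S), hHL h.2⟩ * π ⟨(h : S), hHL h.2⟩ = 1 := by
      intro h
      rw [← map_mul]
      refine (QuotientGroup.eq_one_iff _).2 (Subgroup.mem_subgroupOf.2 ⟨h * h, ?_, rfl⟩)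
      rw [SetLike.mem_coe, ← QuotientGroup.eq_one_iff, QuotientGroup.mk_mul, ← pow_two,
        ← orderOf_dvd_iff_pow_eq_one]
      have hcard4 : Nat.card (H ⧸ Subgroup.center H) = 4 := by
        have h3 := (Subgroup.center H).card_mul_index
        rw [hH8, hZ2, Subgroup.index_eq_card] at h3
        omega
      obtain ⟨u, hu, huo⟩ := (Nat.dvd_prime_pow Nat.prime_two).1
        (show orderOf (h : H ⧸ Subgroup.center H) ∣ 2 ^ 2 by
          rw [show (2 : ℕ) ^ 2 = Nat.card (H ⧸ Subgroup.center H) by rw [hcard4]; norm_num]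
          exact _root_.orderOf_dvd_natCard _)
      rw [huo]
      rcases (by omega : u = 0 ∨ u = 1 ∨ u = 2) with rfl | rfl | rfl
      · simp
      · simp
      · exfalso
        have : IsCyclic (H ⧸ Subgroup.center H) :=
          isCyclic_of_orderOf_eq_card _ (huo.trans (by rw [hcard4]; norm_num))
        exact hHna ⟨⟨commutative_of_cyclic_center_quotient (QuotientGroup.mk' (Subgroup.center H))
          (QuotientGroup.ker_mk' _).le⟩⟩
    have hHc : ∀ h k : H, Commute (π ⟨(h : S), hHL h.2⟩) (π ⟨(k : S), hHL k.2⟩) := by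
      intro h k
      have h1 := hHexp h
      have h3 := hHexp k
      have h4 := hHexp (h * k)
      have e : (⟨((h * k : H) : S), hHL (h * k).2⟩ : L) = ⟨(h : S), hHL h.2⟩ * ⟨(k : S), hHL k.2⟩ := rfl
      rw [e, map_mul] at h4
      show _ * _ = _ * _
      rw [← inv_eq_of_mul_eq_one_right h4, mul_inv_rev, inv_eq_of_mul_eq_one_right h1, inv_eq_of_mul_eq_one_right h3]
    have hxN : x * x ∈ N := ⟨⟨x * x, hx2⟩, Subgroup.mem_center_iff.2 fun q => Subtype.ext (by
      show (q : S) * (x * x) = x * x * (q : S)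
      rw [← mul_assoc, hxC q q.2, mul_assoc, hxC q q.2, mul_assoc]), rfl⟩
    have hgen : ∀ l : L, ∃ (h : H) (e : ℤ), π l = π ⟨(h : S), hHL h.2⟩ * π ⟨x, hxL⟩ ^ e := by
      intro l
      have hl : (l : S) ∈ H ⊔ Subgroup.zpowers x := l.2
      rw [sup_comm, ← SetLike.mem_coe, Subgroup.coe_mul_of_left_le_normalizer_right _ _
        (Subgroup.zpowers_le.2 (Subgroup.centralizer_le_normalizer _
          (Subgroup.mem_centralizer_iff.2 hxC)))] at hl
      obtain ⟨v, hv, h, hh, hvh⟩ := hl
      obtain ⟨e, rfl⟩ := Subgroup.mem_zpowers_iff.1 hv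
      refine ⟨⟨h, hh⟩, e, ?_⟩
      rw [← map_zpow, ← map_mul]
      refine congrArg π (Subtype.ext ?_)
      show (l : S) = h * x ^ e
      rw [(show Commute h x from hxC h hh).zpow_right e |>.eq]
      exact hvh.symm
    have hxx : π ⟨x, hxL⟩ * π ⟨x, hxL⟩ = 1 := by
      rw [← map_mul]; exact (QuotientGroup.eq_one_iff _).2 (Subgroup.mem_subgroupOf.2 hxN)
    have hxh : ∀ h : H, Commute (π ⟨(h : S), hHL h.2⟩) (π ⟨x, hxL⟩) := fun h => by
      show _ * _ = _ * _
      rw [← map_mul, ← map_mul]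
      exact congrArg π (Subtype.ext (hxC h h.2))
    have hcomm : ∀ a b : L ⧸ N', a * b = b * a := by
      intro a b
      obtain ⟨a, rfl⟩ := QuotientGroup.mk'_surjective N' a
      obtain ⟨b, rfl⟩ := QuotientGroup.mk'_surjective N' b
      obtain ⟨h, e, ha⟩ := hgen a
      obtain ⟨k, d, hb⟩ := hgen b
      show π a * π b = π b * π a
      rw [ha, hb]
      exact (((hHc h k).mul_right ((hxh h).zpow_right d)).mul_left
        (((hxh k).symm.zpow_left e).mul_right ((Commute.refl _).zpow_zpow e d))).eq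
    have hexp : ∀ a : L ⧸ N', a ^ 2 = 1 := by
      intro a
      obtain ⟨a, rfl⟩ := QuotientGroup.mk'_surjective N' a
      obtain ⟨h, e, ha⟩ := hgen a
      show π a ^ 2 = 1
      rw [ha, ((hxh h).zpow_right e).mul_pow, pow_two, hHexp, one_mul, ← zpow_natCast, ← zpow_mul, mul_comm,
        zpow_mul, zpow_natCast, pow_two, hxx, one_zpow]
    have hb := hr L N' ⊤ ⟨⟨fun a b => Subtype.ext (hcomm a.1 b.1)⟩⟩ fun a _ => hexp a
    rw [Subgroup.card_top] at hb
    have hlt : H < L := lt_of_le_of_ne hHL fun e => hxH (e ▸ hxL)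
    obtain ⟨v, hv⟩ := IsPGroup.iff_card.1 (h2.to_subgroup L)
    have hv4 : 4 ≤ v := by
      by_contra hv'
      exact hlt.ne (Subgroup.eq_of_le_of_card_ge hlt.le (by
        rw [hH8, hv]; exact Nat.pow_le_pow_right two_pos (by omega)))
    have h5 := N'.card_mul_index
    rw [Subgroup.index_eq_card, Nat.card_congr (Subgroup.subgroupOfEquivOfLe (hNH.trans hHL)).toEquiv, hN,
      Subgroup.card_map_of_injective H.subtype_injective, hZ2, hv] at h5
    have h6 := Nat.pow_le_pow_right two_pos hv4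
    norm_num at hb h6
    omega
  have hna : ¬ IsMulCommutative S := fun h =>
    hHna ⟨⟨fun a b => Subtype.ext (h.is_comm.comm a.1 b.1)⟩⟩
  refine MaxClass.mc_of_lowerCentralSeries hna hn ?_
  have hcl := MaxClass.class_of_selfcent_cube hn H hH8 hHna hC
  have := h2.isNilpotent
  rw [Ne, lowerCentralSeries_eq_bot_iff_nilpotencyClass_le, hcl]
  have : 3 ≤ n := (Nat.pow_le_pow_iff_right one_lt_two).1 (by
    rw [← hn, ← hH8]; exact Nat.le_of_dvd Nat.card_pos H.card_subgroup_dvd_card)
  omega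

end Cfsg.Agent.S4398
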