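import Cfsg.Statements.S4400
import Cfsg.Agent.Core.Frattini
import Cfsg.Agent.Core.Solvable
import Cfsg.Agent.Core.Basics
-- import your own Cfsg.Agent.* helpers here

set_option autoImplicit false
open Cfsg

namespace Cfsg.Agent.S4400

open scoped commutatorElement

/-- Let S be a finite 2-group of sectional 2-rank at most 4, and let P and Q be normal non-abelian subgroups of S whose centres have order 2 and are different. Then P and Q commute elementwise and intersect trivially, and PQ contains its own centralizer in S. -/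
theorem result {S : Type*} [Group S] [Finite S] (h2 : IsPGroup 2 S) (hr : Cfsg.SectionalPRankLE 2 4 S)
    (P Q : Subgroup S) [P.Normal] [Q.Normal] (hP : ¬ IsMulCommutative ↥P) (hQ : ¬ IsMulCommutative ↥Q)
    (hZP : Nat.card ↥(Subgroup.center ↥P) = 2) (hZQ : Nat.card ↥(Subgroup.center ↥Q) = 2)
    (hne : (Subgroup.center ↥P).map P.subtype ≠ (Subgroup.center ↥Q).map Q.subtype) :
    ⁅P, Q⁆ = ⊥ ∧ P ⊓ Q = ⊥ ∧ Subgroup.centralizer ((P ⊔ Q : Subgroup S) : Set S) ≤ P ⊔ Q := by
  classical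
  have : Fact (Nat.Prime 2) := ⟨Nat.prime_two⟩
  have hnil := h2.isNilpotent
  set zP := (Subgroup.center ↥P).map P.subtype with hzP
  set zQ := (Subgroup.center ↥Q).map Q.subtype with hzQ
  have hcP : Nat.card zP = 2 := by
    rw [hzP, Subgroup.card_map_of_injective P.subtype_injective, hZP]
  have hcQ : Nat.card zQ = 2 := by
    rw [hzQ, Subgroup.card_map_of_injective Q.subtype_injective, hZQ]
  -- normal subgroups of order two are central
  have hcen : ∀ (R : Subgroup S) [R.Normal],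
      Nat.card ↥(Subgroup.center ↥R) = 2 →
      (Subgroup.center ↥R).map R.subtype ≤ Subgroup.center S := by
    intro R _ hR
    rintro _ ⟨z, hz, rfl⟩
    refine Subgroup.mem_center_iff.2 fun g => ?_
    rcases eq_or_ne z 1 with rfl | hz1
    · simp
    have hmem : (⟨g * z * g⁻¹, (inferInstance : R.Normal).conj_mem _ z.2 g⟩ : R) ∈ Subgroup.center R := by
      refine Subgroup.mem_center_iff.2 fun r => Subtype.ext ?_
      have h := congrArg Subtype.val (Subgroup.mem_center_iff.1 hz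
        ⟨g⁻¹ * r * g, by simpa using (inferInstance : R.Normal).conj_mem _ r.2 g⁻¹⟩)
      simp only [Subgroup.coe_mul] at h ⊢
      calc (r : S) * (g * z * g⁻¹) = g * (g⁻¹ * r * g * z) * g⁻¹ := by group
        _ = g * (z * (g⁻¹ * r * g)) * g⁻¹ := by rw [h]
        _ = g * z * g⁻¹ * r := by group
    obtain ⟨u, v, huv, huniv⟩ := (Nat.card_eq_two_iff (α := Subgroup.center ↥R)).1 hR
    have h1 : (⟨z, hz⟩ : Subgroup.center R) ≠ 1 := fun e => hz1 (congrArg Subtype.val e)
    have h2 : (⟨_, hmem⟩ : Subgroup.center R) ≠ 1 := fun e => hz1 (Subtype.ext (by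
      have e' : g * (z : S) * g⁻¹ = 1 := congrArg (fun x : Subgroup.center R => ((x : R) : S)) e
      rwa [conj_eq_one_iff] at e'))
    have hall := fun x : Subgroup.center R => (huniv.ge (Set.mem_univ x) : x = u ∨ x = v)
    have he : (⟨_, hmem⟩ : Subgroup.center R) = ⟨z, hz⟩ := by
      rcases hall 1 with a | a <;> rcases hall ⟨z, hz⟩ with b | b <;>
        rcases hall ⟨_, hmem⟩ with c | c <;> first
          | exact c.trans b.symm
          | exact absurd (c.trans a.symm) h2
          | exact absurd (b.trans a.symm) h1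
    have e' : g * (z : S) * g⁻¹ = z := congrArg (fun x : Subgroup.center R => ((x : R) : S)) he
    exact mul_inv_eq_iff_eq_mul.1 e'
  -- disjointness
  have hsmall : ∀ (R : Subgroup S) [R.Normal] (T : Subgroup S) [T.Normal],
      Nat.card ↥(Subgroup.center ↥R) = 2 → R ⊓ T ≠ ⊥ →
      (Subgroup.center ↥R).map R.subtype ≤ T := by
    intro R _ T _ hR hne
    have hn : Group.IsNilpotent R := inferInstance
    have hne' : T.subgroupOf R ≠ ⊥ := by
      rw [Ne, Subgroup.subgroupOf_eq_bot, disjoint_iff, inf_comm]; exact hne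
    obtain ⟨c, hc⟩ := Subgroup.ne_bot_iff_exists_ne_one.1 (Agent.Core.inf_center_ne_bot hne')
    have hle : Subgroup.center R ≤ T.subgroupOf R := by
      have hcard : Nat.card ↥(T.subgroupOf R ⊓ Subgroup.center R) = 2 := by
        have h1 := Subgroup.card_dvd_of_le (inf_le_right : T.subgroupOf R ⊓ Subgroup.center R ≤ _)
        rw [hR] at h1
        refine (Nat.prime_two.eq_one_or_self_of_dvd _ h1).resolve_left fun h => hc ?_
        have := (Nat.card_eq_one_iff_unique.1 h).1
        exact Subsingleton.elim _ _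
      rw [← Subgroup.eq_of_le_of_card_ge (inf_le_right : T.subgroupOf R ⊓ Subgroup.center R ≤ _)
        (hR.trans hcard.symm).le]
      exact inf_le_left
    rintro _ ⟨z, hz, rfl⟩
    exact Subgroup.mem_subgroupOf.1 (hle hz)
  have hinf : P ⊓ Q = ⊥ := by
    by_contra h
    have h1 : zP ≤ Q := hsmall P Q hZP h
    have h2 : zP ≤ zQ := fun x hx => ⟨⟨x, h1 hx⟩, Subgroup.mem_center_iff.2 fun y => Subtype.ext
      (Subgroup.mem_center_iff.1 (hcen P hZP hx) y), rfl⟩
    exact hne (Subgroup.eq_of_le_of_card_ge h2 (hcQ.trans hcP.symm).le)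
  have hcomm : ⁅P, Q⁆ = ⊥ := le_bot_iff.1 ((Subgroup.commutator_le_inf P Q).trans hinf.le)
  refine ⟨hcomm, hinf, ?_⟩
  have hPQ : P ≤ Subgroup.centralizer (Q : Set S) :=
    Subgroup.commutator_eq_bot_iff_le_centralizer.1 hcomm
  set K := P ⊔ Q with hK
  by_contra hC
  obtain ⟨c₀, hc₀, hc₀K⟩ := Set.not_subset.1 hC
  obtain ⟨c, hc, hcK, hc2⟩ : ∃ c ∈ Subgroup.centralizer (K : Set S), c ∉ K ∧ c ^ 2 ∈ K := by
    have hex : ∃ j, c₀ ^ 2 ^ j ∈ K := by
      obtain ⟨j, hj⟩ := h2 c₀
      exact ⟨j, hj ▸ K.one_mem⟩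
    have h1 := Nat.find_spec hex
    have hpos : Nat.find hex ≠ 0 := fun e => hc₀K (by rw [e] at h1; simpa using h1)
    obtain ⟨i, hi⟩ := Nat.exists_eq_succ_of_ne_zero hpos
    refine ⟨c₀ ^ 2 ^ i, Subgroup.pow_mem _ hc₀ _, Nat.find_min hex (by omega), ?_⟩
    rw [← pow_mul, ← pow_succ]
    rwa [hi] at h1
  set N := (frattini ↥P).map P.subtype ⊔ (frattini ↥Q).map Q.subtype with hN
  -- facts about one factor
  have hfac : ∀ (R : Subgroup S) [R.Normal], ¬ IsMulCommutative ↥R →
      Nat.card ↥(Subgroup.center ↥R) = 2 →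
      (Subgroup.center ↥R).map R.subtype ≤ (frattini ↥R).map R.subtype ∧
      4 ≤ (frattini ↥R).index ∧ (∀ a ∈ R, a ^ 2 ∈ (frattini ↥R).map R.subtype) ∧
      ∀ a ∈ R, ∀ b ∈ R, ⁅a, b⁆ ∈ (frattini ↥R).map R.subtype := by
    intro R _ hR hZ
    have hR2 := h2.to_subgroup R
    have hn := hR2.isNilpotent
    have hd : commutator R ≤ frattini R := Agent.Core.commutator_le_frattini
    refine ⟨Subgroup.map_mono ?_, ?_, fun a ha => ⟨(⟨a, ha⟩ : R) ^ 2,
      Agent.Core.pow_mem_frattini hR2 _, rfl⟩, fun a ha b hb => ⟨⁅(⟨a, ha⟩ : R), ⟨b, hb⟩⁆,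
      hd (Subgroup.commutator_mem_commutator (Subgroup.mem_top _) (Subgroup.mem_top _)), rfl⟩⟩
    · refine le_trans ?_ hd
      have hne' : commutator R ≠ ⊥ := fun h => hR ⟨⟨fun a b =>
        commutatorElement_eq_one_iff_mul_comm.1 (Subgroup.mem_bot.1 (h ▸
          Subgroup.commutator_mem_commutator (Subgroup.mem_top a) (Subgroup.mem_top b)))⟩⟩
      obtain ⟨x, hx⟩ := Subgroup.ne_bot_iff_exists_ne_one.1 (Agent.Core.inf_center_ne_bot hne')
      have h1 := Subgroup.card_dvd_of_le (inf_le_right : commutator R ⊓ Subgroup.center R ≤ _)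
      rw [hZ] at h1
      have hcard := (Nat.prime_two.eq_one_or_self_of_dvd _ h1).resolve_left fun h => hx (by
        have := (Nat.card_eq_one_iff_unique.1 h).1
        exact Subsingleton.elim _ _)
      rw [← Subgroup.eq_of_le_of_card_ge (inf_le_right : commutator R ⊓ Subgroup.center R ≤ _)
        (hZ.trans hcard.symm).le]
      exact inf_le_left
    · by_contra h
      obtain ⟨k, hk⟩ := hR2.exists_card_eq
      obtain ⟨j, -, hj⟩ := (Nat.dvd_prime_pow Nat.prime_two).1 (hk ▸ (frattini R).index_dvd_card)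
      have hj1 : j ≤ 1 := by
        by_contra hj1
        exact h (hj ▸ Nat.pow_le_pow_right (n := 2) (by norm_num) (show 2 ≤ j by omega))
      have hcyc : IsCyclic (R ⧸ frattini R) := by
        interval_cases j
        · have := (Nat.card_eq_one_iff_unique.1 (show Nat.card (R ⧸ frattini R) = 1 from hj)).1
          exact isCyclic_of_subsingleton
        · exact isCyclic_of_prime_card (p := 2) hj
      obtain ⟨g, hg⟩ := hcyc.exists_generator
      obtain ⟨a, rfl⟩ := QuotientGroup.mk_surjective g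
      have htop : Subgroup.zpowers a ⊔ frattini R = ⊤ := by
        refine (Subgroup.eq_top_iff' _).2 fun x => ?_
        obtain ⟨i, hi⟩ := hg (x : R ⧸ frattini R)
        have hi' : ((a ^ i : R) : R ⧸ frattini R) = x := hi
        have := QuotientGroup.eq.1 hi'
        rw [show x = a ^ i * ((a ^ i)⁻¹ * x) by group]
        exact Subgroup.mul_mem _ (Subgroup.mem_sup_left ⟨i, rfl⟩) (Subgroup.mem_sup_right this)
      have hz : Subgroup.zpowers a = ⊤ := frattini_nongenerating htop
      exact hR ⟨⟨fun x y => by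
        obtain ⟨i, rfl⟩ := (hz ▸ Subgroup.mem_top x : x ∈ Subgroup.zpowers a)
        obtain ⟨i', rfl⟩ := (hz ▸ Subgroup.mem_top y : y ∈ Subgroup.zpowers a)
        exact zpow_mul_comm a i i'⟩⟩
  obtain ⟨hZP', hP4, hPsq, hPcm⟩ := hfac P hP hZP
  obtain ⟨hZQ', hQ4, hQsq, hQcm⟩ := hfac Q hQ hZQ
  have hNn : N.Normal := inferInstance
  -- `c ^ 2` lies in `N`
  have hc2N : c ^ 2 ∈ N := by
    obtain ⟨x, hx, y, hy, hxy⟩ := Subgroup.mem_sup_of_normal_right.1 hc2
    have hxc : ∀ r ∈ K, r * c ^ 2 = c ^ 2 * r := fun r hr =>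
      Subgroup.mem_centralizer_iff.1 (Subgroup.pow_mem _ hc 2) r hr
    rw [← hxy]
    refine N.mul_mem (Subgroup.mem_sup_left (hZP' ⟨⟨x, hx⟩, Subgroup.mem_center_iff.2 fun r =>
      Subtype.ext ?_, rfl⟩)) (Subgroup.mem_sup_right (hZQ' ⟨⟨y, hy⟩,
        Subgroup.mem_center_iff.2 fun r => Subtype.ext ?_, rfl⟩))
    · have h := hxc r (Subgroup.mem_sup_left r.2)
      have h' : y * (r : S) = r * y := Subgroup.mem_centralizer_iff.1 (hPQ r.2) y hy
      rw [← hxy, ← mul_assoc, mul_assoc x y, h', ← mul_assoc] at h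
      exact mul_right_cancel h
    · have h := hxc r (Subgroup.mem_sup_right r.2)
      have h' : (r : S) * x = x * r := Subgroup.mem_centralizer_iff.1 (hPQ hx) r r.2
      rw [← hxy, ← mul_assoc, h', mul_assoc, mul_assoc x y] at h
      exact mul_left_cancel h
  -- the section
  set H := K ⊔ Subgroup.zpowers c with hH
  set π := QuotientGroup.mk' N with hπ
  have hab : H.map π ≤ Subgroup.centralizer ((H.map π : Subgroup (S ⧸ N)) : Set (S ⧸ N)) := by
    have key : ∀ (A B : Subgroup S), (∀ a ∈ A, ∀ b ∈ B, ⁅b, a⁆ ∈ N) →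
        A.map π ≤ Subgroup.centralizer ((B.map π : Subgroup (S ⧸ N)) : Set (S ⧸ N)) := by
      intro A B h
      rintro _ ⟨a, ha, rfl⟩
      refine Subgroup.mem_centralizer_iff.2 ?_
      rintro _ ⟨b, hb, rfl⟩
      refine commutatorElement_eq_one_iff_mul_comm.1 ?_
      rw [← map_commutatorElement]
      exact (QuotientGroup.eq_one_iff _).2 (h a ha b hb)
    have hc' : ∀ r ∈ K, ∀ y ∈ Subgroup.zpowers c, r * y = y * r := fun r hr y hy =>
      Subgroup.mem_centralizer_iff.1 (Subgroup.zpowers_le.2 hc hy) r hr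
    have one : ∀ a b : S, b * a = a * b → ⁅b, a⁆ ∈ N := fun a b h =>
      (commutatorElement_eq_one_iff_mul_comm.2 h).symm ▸ N.one_mem
    have hP' : P.map π ≤ Subgroup.centralizer ((H.map π : Subgroup (S ⧸ N)) : Set (S ⧸ N)) := by
      rw [hH, hK, Subgroup.map_sup, Subgroup.map_sup, Subgroup.le_centralizer_iff, sup_le_iff, sup_le_iff]
      exact ⟨⟨key P P fun a ha b hb => Subgroup.mem_sup_left (hPcm b hb a ha),
        key Q P fun a ha b hb => one a b (Subgroup.mem_centralizer_iff.1 (hPQ hb) a ha).symm⟩,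
        key (Subgroup.zpowers c) P fun a ha b hb => one a b (hc' b (Subgroup.mem_sup_left hb) a ha)⟩
    have hQ' : Q.map π ≤ Subgroup.centralizer ((H.map π : Subgroup (S ⧸ N)) : Set (S ⧸ N)) := by
      rw [hH, hK, Subgroup.map_sup, Subgroup.map_sup, Subgroup.le_centralizer_iff, sup_le_iff, sup_le_iff]
      exact ⟨⟨key P Q fun a ha b hb => one a b (Subgroup.mem_centralizer_iff.1 (hPQ ha) b hb),
        key Q Q fun a ha b hb => Subgroup.mem_sup_right (hQcm b hb a ha)⟩,
        key (Subgroup.zpowers c) Q fun a ha b hb => one a b (hc' b (Subgroup.mem_sup_right hb) a ha)⟩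
    have hcz : (Subgroup.zpowers c).map π ≤
        Subgroup.centralizer ((H.map π : Subgroup (S ⧸ N)) : Set (S ⧸ N)) := by
      rw [hH, Subgroup.map_sup, Subgroup.le_centralizer_iff, sup_le_iff]
      refine ⟨key K _ fun a ha b hb => one a b (hc' a ha b hb).symm, key _ _ ?_⟩
      rintro _ ⟨i, rfl⟩ _ ⟨i', rfl⟩
      exact one _ _ (zpow_mul_comm c i' i)
    conv_lhs => rw [hH, hK, Subgroup.map_sup, Subgroup.map_sup]
    exact sup_le (sup_le hP' hQ') hcz
  let T : Subgroup (S ⧸ N) :=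
    { carrier := {x | x ∈ H.map π ∧ x ^ 2 = 1}
      one_mem' := ⟨one_mem _, one_pow 2⟩
      mul_mem' := fun {a b} ha hb => ⟨mul_mem ha.1 hb.1, by
        rw [(show Commute a b from (Subgroup.mem_centralizer_iff.1 (hab ha.1) b hb.1).symm).mul_pow,
          ha.2, hb.2, one_mul]⟩
      inv_mem' := fun {a} ha => ⟨inv_mem ha.1, by rw [inv_pow, ha.2, inv_one]⟩ }
  have hsq : H.map π ≤ T := by
    have aux : ∀ A : Subgroup S, A ≤ H → (∀ a ∈ A, a ^ 2 ∈ N) → A.map π ≤ T := by
      rintro A hA h _ ⟨a, ha, rfl⟩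
      exact ⟨⟨a, hA ha, rfl⟩, by rw [← map_pow]; exact (QuotientGroup.eq_one_iff _).2 (h a ha)⟩
    conv_lhs => rw [hH, hK, Subgroup.map_sup, Subgroup.map_sup]
    refine sup_le (sup_le (aux P (le_sup_left.trans le_sup_left) fun a ha =>
      Subgroup.mem_sup_left (hPsq a ha)) (aux Q (le_sup_right.trans le_sup_left) fun a ha =>
      Subgroup.mem_sup_right (hQsq a ha))) (aux _ le_sup_right ?_)
    rintro _ ⟨i, rfl⟩
    show (c ^ i) ^ 2 ∈ N
    rw [← zpow_natCast, ← zpow_mul, mul_comm, zpow_mul, zpow_natCast]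
    exact N.zpow_mem hc2N i
  have hNH : (N.subgroupOf H).Normal := inferInstance
  have hle : Nat.card (H ⧸ N.subgroupOf H) ≤ 2 ^ 4 := by
    rw [← Subgroup.card_top (G := H ⧸ N.subgroupOf H)]
    refine hr H (N.subgroupOf H) ⊤ ⟨⟨fun x y => ?_⟩⟩ fun x _ => ?_
    · obtain ⟨x, -⟩ := x
      obtain ⟨y, -⟩ := y
      obtain ⟨a, rfl⟩ := QuotientGroup.mk_surjective x
      obtain ⟨b, rfl⟩ := QuotientGroup.mk_surjective y
      refine Subtype.ext (QuotientGroup.eq.2 (Subgroup.mem_subgroupOf.2 ?_))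
      have h := Subgroup.mem_centralizer_iff.1 (hab ⟨b, b.2, rfl⟩) _ ⟨a, a.2, rfl⟩
      rw [← map_mul, ← map_mul] at h
      exact QuotientGroup.eq.1 h
    · obtain ⟨a, rfl⟩ := QuotientGroup.mk_surjective x
      rw [← QuotientGroup.mk_pow, QuotientGroup.eq_one_iff, Subgroup.mem_subgroupOf,
        ← QuotientGroup.eq_one_iff, Subgroup.coe_pow, QuotientGroup.mk_pow]
      exact (hsq ⟨a, a.2, rfl⟩).2
  -- orders
  have hNK : N ≤ K := sup_le_sup (Subgroup.map_subtype_le _) (Subgroup.map_subtype_le _)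
  have h1 := Agent.Core.card_sup_mul_card_inf P Q
  rw [hinf, Subgroup.card_bot, mul_one, ← hK] at h1
  have h2' : Nat.card N ∣ Nat.card ↥(frattini ↥P) * Nat.card ↥(frattini ↥Q) := by
    have := Agent.Core.card_sup_dvd_mul ((frattini ↥P).map P.subtype) ((frattini ↥Q).map Q.subtype)
    rwa [Subgroup.card_map_of_injective P.subtype_injective,
      Subgroup.card_map_of_injective Q.subtype_injective] at this
  have h2'' := Nat.le_of_dvd (Nat.mul_pos Nat.card_pos Nat.card_pos) h2'
  have h3 := Subgroup.relIndex_mul_relIndex N K H hNK le_sup_left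
  have h4 : 1 < K.relIndex H := by
    refine lt_of_le_of_ne (Nat.one_le_iff_ne_zero.2 Subgroup.index_ne_zero_of_finite) (Ne.symm ?_)
    rw [Ne, Subgroup.relIndex_eq_one]
    exact fun h => hcK (h (Subgroup.mem_sup_right (Subgroup.mem_zpowers c)))
  have h5 := Subgroup.relIndex_mul_relIndex ⊥ N K bot_le hNK
  simp only [Subgroup.relIndex_bot_left] at h5
  have h6 : Nat.card (H ⧸ N.subgroupOf H) = N.relIndex H := rfl
  have hP' := (frattini ↥P).card_mul_index
  have hQ' := (frattini ↥Q).card_mul_index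
  have h7 : Nat.card N * 16 ≤ Nat.card N * N.relIndex K := by
    calc Nat.card N * 16 ≤ Nat.card ↥(frattini ↥P) * Nat.card ↥(frattini ↥Q) * (4 * 4) :=
          Nat.mul_le_mul h2'' le_rfl
      _ ≤ Nat.card ↥(frattini ↥P) * Nat.card ↥(frattini ↥Q) *
            ((frattini ↥P).index * (frattini ↥Q).index) :=
          Nat.mul_le_mul le_rfl (Nat.mul_le_mul hP4 hQ4)
      _ = Nat.card N * N.relIndex K := by
          rw [h5, h1, ← hP', ← hQ']; ring
  have h8 := Nat.le_of_mul_le_mul_left h7 Nat.card_pos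
  have h9 : 16 * 2 ≤ N.relIndex H := h3 ▸ Nat.mul_le_mul h8 h4
  omega

end Cfsg.Agent.S4400
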