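import Cfsg.Statements.S4401
import Cfsg.Agent.S4400

set_option autoImplicit false
open Cfsg

namespace Cfsg.Agent.S4401

open Subgroup

theorem sectional_of_injective {p k : ℕ} {A B : Type*} [Group A] [Group B] (f : A →* B)
    (hf : Function.Injective f) (h : Cfsg.SectionalPRankLE p k B) : Cfsg.SectionalPRankLE p k A := by
  intro H N _ E hEc hEp
  let e := H.equivMapOfInjective f hf
  have hn : (N.map e.toMonoidHom).Normal := Normal.map ‹_› _ e.surjective
  let q := QuotientGroup.congr N (N.map e.toMonoidHom) e rfl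
  have := h (H.map f) (N.map e.toMonoidHom) (E.map q.toMonoidHom) inferInstance (by
    rintro _ ⟨a, ha, rfl⟩; rw [← map_pow, hEp a ha, map_one])
  rw [card_map_of_injective (show Function.Injective q.toMonoidHom from q.injective)] at this
  exact this

theorem sectional_of_square {p k : ℕ} (hp : 1 < p) {A : Type*} [Group A] [Finite A]
    (h : Cfsg.SectionalPRankLE p (2 * k) (A × A)) : Cfsg.SectionalPRankLE p k A := by
  intro H N _ E hEc hEp
  let π : (H.prod H) →* (H ⧸ N) × (H ⧸ N) :=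
    ((QuotientGroup.mk' N).prodMap (QuotientGroup.mk' N)).comp (H.prodEquiv H).toMonoidHom
  have hπ : Function.Surjective π := by
    intro y
    obtain ⟨a, ha⟩ := QuotientGroup.mk'_surjective N y.1
    obtain ⟨b, hb⟩ := QuotientGroup.mk'_surjective N y.2
    exact ⟨(H.prodEquiv H).symm (a, b), by simp [π, ← ha, ← hb, Prod.ext_iff]⟩
  let q := (QuotientGroup.quotientKerEquivOfSurjective π hπ).symm
  have hc : IsMulCommutative ↥(E.prod E) := ⟨⟨fun a b => Subtype.ext (Prod.ext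
    (congrArg Subtype.val (hEc.is_comm.comm ⟨a.1.1, (mem_prod.1 a.2).1⟩ ⟨b.1.1, (mem_prod.1 b.2).1⟩))
    (congrArg Subtype.val (hEc.is_comm.comm ⟨a.1.2, (mem_prod.1 a.2).2⟩ ⟨b.1.2, (mem_prod.1 b.2).2⟩)))⟩⟩
  have := h (H.prod H) π.ker ((E.prod E).map q.toMonoidHom) inferInstance (by
    rintro _ ⟨a, ha, rfl⟩
    rw [← map_pow, show a ^ p = 1 from Prod.ext (hEp _ (mem_prod.1 ha).1) (hEp _ (mem_prod.1 ha).2), map_one])
  rw [card_map_of_injective q.injective, Nat.card_congr (E.prodEquiv E).toEquiv, Nat.card_prod,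
    pow_mul, ← pow_two] at this
  by_contra! hlt
  have h2 : (p ^ k) ^ 2 < Nat.card E ^ 2 := Nat.pow_lt_pow_left hlt two_ne_zero
  rw [← pow_mul, Nat.mul_comm, pow_mul] at h2
  omega

set_option maxHeartbeats 1000000 in
theorem result {S : Type*} [Group S] [Finite S] (h2 : IsPGroup 2 S) (hr : Cfsg.SectionalPRankLE 2 4 S)
    (P : Subgroup S) (hPlt : P ≠ ⊤) (hP : ¬ IsMulCommutative ↥P) (hZP : Nat.card ↥(Subgroup.center ↥P) = 2)
    (S₀ : Subgroup S) (hS₀ : S₀ = Subgroup.centralizer (((Subgroup.center ↥P).map P.subtype : Subgroup S) : Set S))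
    (hPn : ∀ s ∈ S₀, ∀ x ∈ P, s * x * s⁻¹ ∈ P) :
    S₀ = ⊤ ∨ (Cfsg.SectionalPRankLE 2 2 ↥P ∧ S₀.index = 2) := by
  classical
  have : Fact (Nat.Prime 2) := ⟨Nat.prime_two⟩
  have hnil := h2.isNilpotent
  by_cases hS : S₀ = ⊤
  · exact Or.inl hS
  refine Or.inr ?_
  obtain ⟨z₀, hz₀1, hz₀u⟩ := (Nat.card_eq_two_iff' (1 : center P)).1 hZP
  set z : S := ((z₀ : P) : S) with hz
  have hzP : z ∈ P := (z₀ : P).2
  have hz1 : z ≠ 1 := fun h => hz₀1 (Subtype.ext (Subtype.ext h))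
  have hzc : ∀ y ∈ P, z * y = y * z := fun y hy =>
    (congrArg Subtype.val (mem_center_iff.1 z₀.2 ⟨y, hy⟩)).symm
  have hcen : ∀ x ∈ P, (∀ y ∈ P, x * y = y * x) → x = 1 ∨ x = z := by
    intro x hx h
    by_cases hx1 : x = 1
    · exact Or.inl hx1
    refine Or.inr ?_
    have := hz₀u ⟨⟨x, hx⟩, mem_center_iff.2 fun y => Subtype.ext (h y y.2).symm⟩
      fun e => hx1 (congrArg (fun c : center P => ((c : P) : S)) e)
    exact congrArg (fun c : center P => ((c : P) : S)) this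
  have hS0 : ∀ s, s ∈ S₀ ↔ s * z = z * s := by
    intro s
    rw [hS₀, mem_centralizer_iff]
    refine ⟨fun h => (h z ⟨_, z₀.2, rfl⟩).symm, fun h => ?_⟩
    rintro _ ⟨c, hc, rfl⟩
    rcases hcen c c.2 (fun y hy => (congrArg Subtype.val (mem_center_iff.1 hc ⟨y, hy⟩)).symm) with e | e
    · simp [e]
    · simp [e, h]
  have hPS : P ≤ S₀ := fun y hy => (hS0 y).2 (hzc y hy).symm
  set N := normalizer (S₀ : Set S) with hN
  have hNlt : S₀ < N := Group.normalizerCondition_of_isNilpotent S₀ (lt_top_iff_ne_top.2 hS)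
  -- a conjugate of `P` by an element of `N` outside `S₀`
  have hfac : ∀ t ∈ N, t ∉ S₀ → (∀ x ∈ P, ∀ y ∈ P, x * (t * y * t⁻¹) = t * y * t⁻¹ * x) ∧
      (∀ y ∈ P, t * y * t⁻¹ ∈ P → y = 1) ∧
      (∀ c ∈ S₀, (∀ x ∈ P, c * x = x * c) → (∀ y ∈ P, c * (t * y * t⁻¹) = t * y * t⁻¹ * c) →
        ∃ a ∈ P, ∃ b ∈ P, c = a * (t * b * t⁻¹)) := by
    intro t ht htS
    have hQS : P.map (MulAut.conj t).toMonoidHom ≤ S₀ := by
      rintro _ ⟨y, hy, rfl⟩
      exact (mem_normalizer_iff.1 ht y).1 (hPS hy)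
    set Q : Subgroup S := P.map (MulAut.conj t).toMonoidHom with hQ
    have hP0 : (P.subgroupOf S₀).Normal := ⟨fun x hx g => hPn g g.2 x hx⟩
    have hQ0 : (Q.subgroupOf S₀).Normal := ⟨fun x hx g => by
      obtain ⟨y, hy, hxy⟩ := hx
      refine ⟨t⁻¹ * g * t * y * (t⁻¹ * g * t)⁻¹, hPn _ ?_ y hy, ?_⟩
      · have := (mem_normalizer_iff.1 (inv_mem ht) (g : S)).1 g.2
        simpa using this
      · simp only [MulEquiv.coe_toMonoidHom, MulAut.conj_apply, coe_subtype, Subgroup.coe_mul,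
          Subgroup.coe_inv] at hxy ⊢
        rw [← hxy]; group⟩
    let eP := subgroupOfEquivOfLe hPS
    let eQ := (subgroupOfEquivOfLe hQS).trans
      (P.equivMapOfInjective (MulAut.conj t).toMonoidHom (MulAut.conj t).injective).symm
    have hcomP : ¬ IsMulCommutative ↥(P.subgroupOf S₀) := fun h => hP ⟨⟨fun a b => eP.symm.injective (by
      rw [map_mul, map_mul, h.is_comm.comm])⟩⟩
    have hcomQ : ¬ IsMulCommutative ↥(Q.subgroupOf S₀) := fun h => hP ⟨⟨fun a b => eQ.symm.injective (by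
      rw [map_mul, map_mul, h.is_comm.comm])⟩⟩
    have hne : (center ↥(P.subgroupOf S₀)).map (P.subgroupOf S₀).subtype ≠
        (center ↥(Q.subgroupOf S₀)).map (Q.subgroupOf S₀).subtype := by
      intro he
      have hmem : (⟨z, hPS hzP⟩ : S₀) ∈ (center ↥(P.subgroupOf S₀)).map (P.subgroupOf S₀).subtype :=
        ⟨⟨⟨z, hPS hzP⟩, hzP⟩, mem_center_iff.2 fun g => Subtype.ext (Subtype.ext (hzc _ g.2).symm), rfl⟩
      rw [he] at hmem
      obtain ⟨c, hc, hcz⟩ := hmem
      have hcz' : ((c : S₀) : S) = z := congrArg Subtype.val hcz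
      obtain ⟨y, hy, hyc⟩ := c.2
      simp only [MulEquiv.coe_toMonoidHom, MulAut.conj_apply, coe_subtype] at hyc
      rw [hcz'] at hyc
      have hy' : ∀ y' ∈ P, y * y' = y' * y := by
        intro y' hy'
        have h := congrArg (fun v : ↥(Q.subgroupOf S₀) => ((v : S₀) : S))
          (mem_center_iff.1 hc ⟨⟨_, hQS ⟨y', hy', rfl⟩⟩, ⟨y', hy', rfl⟩⟩)
        simp only [Subgroup.coe_mul, MulEquiv.coe_toMonoidHom, MulAut.conj_apply] at h
        rw [hcz', ← hyc] at h
        have h' : t * (y' * y) * t⁻¹ = t * (y * y') * t⁻¹ := by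
          calc t * (y' * y) * t⁻¹ = t * y' * t⁻¹ * (t * y * t⁻¹) := by group
            _ = t * y * t⁻¹ * (t * y' * t⁻¹) := h
            _ = _ := by group
        exact (mul_left_cancel (mul_right_cancel h')).symm
      rcases hcen y hy hy' with rfl | rfl
      · exact hz1 (by rw [← hyc]; group)
      · exact htS ((hS0 t).2 (mul_inv_eq_iff_eq_mul.1 hyc))
    obtain ⟨h1, h3, h4⟩ := Agent.S4400.result (h2.to_subgroup S₀)
      (sectional_of_injective S₀.subtype S₀.subtype_injective hr) (P.subgroupOf S₀) (Q.subgroupOf S₀)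
      hcomP hcomQ ((Nat.card_congr (Subgroup.centerCongr eP).toEquiv).trans hZP)
      ((Nat.card_congr (Subgroup.centerCongr eQ).toEquiv).trans hZP) hne
    refine ⟨fun x hx y hy => ?_, fun y hy hty => ?_, fun c hc hcP hcQ => ?_⟩
    · have := congrArg Subtype.val (mem_centralizer_iff.1
        (commutator_eq_bot_iff_le_centralizer.1 h1 (show (⟨x, hPS hx⟩ : S₀) ∈ P.subgroupOf S₀ from hx))
        ⟨t * y * t⁻¹, hQS ⟨y, hy, rfl⟩⟩ ⟨y, hy, rfl⟩)
      exact this.symm
    · have : (⟨t * y * t⁻¹, hPS hty⟩ : S₀) ∈ P.subgroupOf S₀ ⊓ Q.subgroupOf S₀ := ⟨hty, y, hy, rfl⟩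
      rw [h3, mem_bot] at this
      have h' : t * y * t⁻¹ = 1 := congrArg Subtype.val this
      rwa [conj_eq_one_iff] at h'
    · have hcK : (⟨c, hc⟩ : S₀) ∈
          centralizer ((P.subgroupOf S₀ ⊔ Q.subgroupOf S₀ : Subgroup S₀) : Set S₀) := by
        have : P.subgroupOf S₀ ⊔ Q.subgroupOf S₀ ≤ centralizer {(⟨c, hc⟩ : S₀)} := by
          rw [sup_le_iff]
          refine ⟨fun x hx => mem_centralizer_singleton_iff.2 (Subtype.ext (hcP _ hx).symm),
            fun x hx => mem_centralizer_singleton_iff.2 (Subtype.ext ?_)⟩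
          obtain ⟨y, hy, hxy⟩ := hx
          simp only [MulEquiv.coe_toMonoidHom, MulAut.conj_apply, coe_subtype] at hxy
          simp only [Subgroup.coe_mul, ← hxy]
          exact (hcQ y hy).symm
        exact mem_centralizer_iff.2 fun x hx => mem_centralizer_singleton_iff.1 (this hx)
      obtain ⟨a, ha, b, ⟨y, hy, hby⟩, hab⟩ := mem_sup_of_normal_right.1 (h4 hcK)
      refine ⟨a, ha, y, hy, ?_⟩
      have := congrArg Subtype.val hab
      simp only [MulEquiv.coe_toMonoidHom, MulAut.conj_apply, coe_subtype, Subgroup.coe_mul] at hby this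
      rw [hby, this]
  obtain ⟨t, htN, htS⟩ := SetLike.exists_of_lt hNlt
  obtain ⟨hcom, hdisj, hcap⟩ := hfac t htN htS
  -- `S₀` has index two in `N`
  have htwo : ∀ y ∈ N, y ∉ S₀ → t⁻¹ * y ∈ S₀ := by
    intro y hy hyS
    by_contra hr'
    obtain ⟨hy1, -, -⟩ := hfac y hy hyS
    obtain ⟨hr1, -, -⟩ := hfac (t⁻¹ * y) (mul_mem (inv_mem htN) hy) hr'
    refine hP ⟨⟨fun a b => Subtype.ext ?_⟩⟩
    obtain ⟨a', ha', b', hb', hab⟩ := hcap (y * a * y⁻¹) ((mem_normalizer_iff.1 hy a).1 (hPS a.2))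
      (fun x hx => (hy1 x hx a a.2).symm) (fun v hv => by
        have h := hr1 v hv a a.2
        calc y * a * y⁻¹ * (t * v * t⁻¹) = t * ((t⁻¹ * y * a * (t⁻¹ * y)⁻¹) * v) * t⁻¹ := by group
          _ = t * (v * (t⁻¹ * y * a * (t⁻¹ * y)⁻¹)) * t⁻¹ := by rw [h]
          _ = _ := by group)
    have e1 : a' * (y * b * y⁻¹) = y * b * y⁻¹ * a' := hy1 a' ha' b b.2
    have e2 : t * b' * t⁻¹ * (y * b * y⁻¹) = y * b * y⁻¹ * (t * b' * t⁻¹) := by
      have h := hr1 b' hb' b b.2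
      calc _ = t * (b' * (t⁻¹ * y * b * (t⁻¹ * y)⁻¹)) * t⁻¹ := by group
        _ = t * ((t⁻¹ * y * b * (t⁻¹ * y)⁻¹) * b') * t⁻¹ := by rw [h]
        _ = _ := by group
    have e3 : y * a * y⁻¹ * (y * b * y⁻¹) = y * b * y⁻¹ * (y * a * y⁻¹) := by
      rw [hab, mul_assoc, e2, ← mul_assoc, e1, mul_assoc]
    have e4 : y * ((a : S) * b) * y⁻¹ = y * ((b : S) * a) * y⁻¹ := by
      calc y * ((a : S) * b) * y⁻¹ = y * a * y⁻¹ * (y * b * y⁻¹) := by group
        _ = y * b * y⁻¹ * (y * a * y⁻¹) := e3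
        _ = _ := by group
    exact mul_left_cancel (mul_right_cancel e4)
  have hrel : S₀.relIndex N = 2 := by
    refine index_eq_two_iff'.2 ⟨(⟨t, htN⟩ : N)⁻¹, fun b => ?_⟩
    simp only [mem_subgroupOf, Subgroup.coe_mul, Subgroup.coe_inv]
    by_cases hb : (b : S) ∈ S₀
    · exact Or.inr ⟨hb, fun h => htS (inv_mem_iff.1 ((mul_mem_cancel_right hb).1 h))⟩
    · exact Or.inl ⟨htwo b b.2 hb, hb⟩
  refine ⟨?_, ?_⟩
  · refine sectional_of_square one_lt_two (sectional_of_injective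
      (MonoidHom.noncommCoprod P.subtype ((MulAut.conj t).toMonoidHom.comp P.subtype)
        fun x y => hcom x x.2 y y.2) ?_ hr)
    rw [injective_iff_map_eq_one]
    rintro ⟨x, y⟩ h
    have h' : (x : S) * (t * y * t⁻¹) = 1 := h
    have hy : (y : S) = 1 := hdisj y y.2 (by rw [← (eq_inv_of_mul_eq_one_right h').symm]; exact inv_mem x.2)
    rw [hy] at h'
    exact Prod.ext (Subtype.ext (by simpa using h')) (Subtype.ext hy)
  by_contra hidx
  have hNtop : N ≠ ⊤ := fun h => hidx (by rwa [h, relIndex_top_right] at hrel)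
  obtain ⟨u, huM, huN⟩ := SetLike.exists_of_lt (Group.normalizerCondition_of_isNilpotent N (lt_top_iff_ne_top.2 hNtop))
  set w := u * z * u⁻¹ with hw
  set C := S₀.map (MulAut.conj u).toMonoidHom with hC
  have hCmem : ∀ s, s ∈ C ↔ s * w = w * s := by
    intro s
    have h1 : s ∈ C ↔ u⁻¹ * s * u ∈ S₀ := by
      refine ⟨?_, fun h => ⟨_, h, by simp [mul_assoc]⟩⟩
      rintro ⟨v, hv, rfl⟩
      simpa [mul_assoc] using hv
    rw [h1, hS0]
    constructor <;> intro h
    · calc s * w = u * (u⁻¹ * s * u * z) * u⁻¹ := by rw [hw]; group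
        _ = u * (z * (u⁻¹ * s * u)) * u⁻¹ := by rw [h]
        _ = w * s := by rw [hw]; group
    · calc u⁻¹ * s * u * z = u⁻¹ * (s * w) * u := by rw [hw]; group
        _ = u⁻¹ * (w * s) * u := by rw [h]
        _ = _ := by rw [hw]; group
  have hCN : C ≤ N := by
    rintro _ ⟨v, hv, rfl⟩
    exact (mem_normalizer_iff.1 huM v).1 (hNlt.le hv)
  have hcard : Nat.card C = Nat.card S₀ := card_map_of_injective (MulAut.conj u).injective
  have hCne : ¬ S₀ ≤ C := fun h => huN (by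
    have he := eq_of_le_of_card_ge h hcard.le
    rw [hN, mem_normalizer_iff]
    intro v
    conv_rhs => rw [he, hC]
    exact ⟨fun hv => ⟨v, hv, rfl⟩, fun ⟨v', hv', e⟩ => (MulAut.conj u).injective e ▸ hv'⟩)
  have hle2 : C.relIndex S₀ ≤ 2 := by
    have h1 : Nat.card (C ⊓ S₀ : Subgroup S) * C.relIndex S₀ = Nat.card S₀ := by
      rw [← inf_relIndex_right, ← Nat.card_congr (subgroupOfEquivOfLe (inf_le_right : C ⊓ S₀ ≤ S₀)).toEquiv]
      exact card_mul_index _
    have h2' : Nat.card (C ⊓ S₀ : Subgroup S) * S₀.relIndex C = Nat.card C := by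
      rw [← inf_relIndex_left, ← Nat.card_congr (subgroupOfEquivOfLe (inf_le_left : C ⊓ S₀ ≤ C)).toEquiv]
      exact card_mul_index _
    have he : C.relIndex S₀ = S₀.relIndex C :=
      Nat.eq_of_mul_eq_mul_left Nat.card_pos (h1.trans (hcard.symm.trans h2'.symm))
    rw [he]
    exact (relIndex_le_of_le_right hCN (by omega)).trans hrel.le
  have hwN : w ∈ N := hCN ((hCmem w).2 rfl)
  by_cases hwS : w ∈ S₀
  · have hex : ∃ t' ∈ C, t' ∉ S₀ := by
      by_contra! h
      exact hCne (eq_of_le_of_card_ge h hcard.ge).ge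
    obtain ⟨t', ht'C, ht'S⟩ := hex
    obtain ⟨-, hd', hcap'⟩ := hfac t' (hCN ht'C) ht'S
    have hcentr : ∀ x ∈ P, x * w = w * x := by
      intro x hx
      by_contra hxw
      set x' := t' * x * t'⁻¹ with hx'
      have hxC : x ∉ C := fun h => hxw ((hCmem x).1 h)
      have hxC' : x' ∉ C := fun h => hxC (by
        have := mul_mem (mul_mem (inv_mem ht'C) h) ht'C
        simpa [hx', mul_assoc] using this)
      have hx'S : x' ∈ S₀ := (mem_normalizer_iff.1 (hCN ht'C) x).1 (hPS hx)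
      have hq : x⁻¹ * x' ∈ C := by
        by_contra hq
        have h3 : ({((1 : S₀) : S₀ ⧸ C.subgroupOf S₀), ((⟨x, hPS hx⟩ : S₀) : S₀ ⧸ C.subgroupOf S₀),
            ((⟨x', hx'S⟩ : S₀) : S₀ ⧸ C.subgroupOf S₀)} : Set (S₀ ⧸ C.subgroupOf S₀)).ncard = 3 := by
          rw [Set.ncard_eq_three]
          refine ⟨_, _, _, fun e => hxC ?_, fun e => hxC' ?_, fun e => hq ?_, rfl⟩
          · simpa [mem_subgroupOf] using QuotientGroup.eq.1 e
          · simpa [mem_subgroupOf] using QuotientGroup.eq.1 e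
          · simpa [mem_subgroupOf] using QuotientGroup.eq.1 e
        have h4 := Set.ncard_le_card ({((1 : S₀) : S₀ ⧸ C.subgroupOf S₀),
          ((⟨x, hPS hx⟩ : S₀) : S₀ ⧸ C.subgroupOf S₀),
          ((⟨x', hx'S⟩ : S₀) : S₀ ⧸ C.subgroupOf S₀)} : Set (S₀ ⧸ C.subgroupOf S₀))
        rw [h3, ← index_eq_card] at h4
        change 3 ≤ C.relIndex S₀ at h4
        omega
      have hq' := (hCmem _).1 hq
      have he : x * w * x⁻¹ * w⁻¹ = x' * w * x'⁻¹ * w⁻¹ := by
        congr 1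
        calc x * w * x⁻¹ = x * (w * (x⁻¹ * x')) * x'⁻¹ := by group
          _ = x * (x⁻¹ * x' * w) * x'⁻¹ := by rw [hq']
          _ = _ := by group
      have hinP : x * w * x⁻¹ * w⁻¹ ∈ P := by
        have := mul_mem hx (hPn w hwS _ (inv_mem hx))
        simpa [mul_assoc] using this
      have hw' : t'⁻¹ * w * t' = w := by rw [mul_assoc, ← (hCmem t').1 ht'C]; group
      have : x' * w * x'⁻¹ * w⁻¹ = t' * (x * w * x⁻¹ * w⁻¹) * t'⁻¹ := by
        rw [hx']; conv_rhs => rw [← hw']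
        group
      have h1 := hd' _ hinP (by rw [← this, ← he]; exact hinP)
      exact hxw (mul_inv_eq_iff_eq_mul.1 (mul_inv_eq_one.1 h1))
    obtain ⟨a, ha, b, hb, hab⟩ := hcap' w hwS (fun x hx => (hcentr x hx).symm) (fun y hy => by
      have h1 := hcentr y hy
      have hw' : t'⁻¹ * w * t' = w := by rw [mul_assoc, ← (hCmem t').1 ht'C]; group
      calc w * (t' * y * t'⁻¹) = t' * ((t'⁻¹ * w * t') * y) * t'⁻¹ := by group
        _ = t' * (y * (t'⁻¹ * w * t')) * t'⁻¹ := by rw [hw', h1]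
        _ = _ := by group)
    have hcm := (hfac t' (hCN ht'C) ht'S).1
    have hzS : ∀ s ∈ S₀, ∀ c, c = 1 ∨ c = z → c * s = s * c := by
      rintro s hs c (rfl | rfl)
      · simp
      · exact ((hS0 s).1 hs).symm
    have ha' : a = 1 ∨ a = z := hcen a ha fun y hy => by
      have h1 := hcentr y hy
      rw [hab] at h1
      have h2' := hcm y hy b hb
      apply mul_right_cancel (b := t' * b * t'⁻¹)
      rw [mul_assoc a y, h2', ← mul_assoc, ← h1]; simp only [mul_assoc]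
    have hb' : b = 1 ∨ b = z := hcen b hb fun y hy => by
      have hw' : t'⁻¹ * w * t' = w := by rw [mul_assoc, ← (hCmem t').1 ht'C]; group
      have hty : w * (t' * y * t'⁻¹) = t' * y * t'⁻¹ * w := by
        calc w * (t' * y * t'⁻¹) = t' * ((t'⁻¹ * w * t') * y) * t'⁻¹ := by group
          _ = t' * (y * (t'⁻¹ * w * t')) * t'⁻¹ := by rw [hw', hcentr y hy]
          _ = _ := by group
      have h2' := hcm a ha y hy
      rw [hab, ← mul_assoc (t' * y * t'⁻¹), ← h2', mul_assoc, mul_assoc a] at hty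
      have h3 := mul_left_cancel hty
      have h4 : t' * (b * y) * t'⁻¹ = t' * (y * b) * t'⁻¹ := by
        calc t' * (b * y) * t'⁻¹ = t' * b * t'⁻¹ * (t' * y * t'⁻¹) := by group
          _ = t' * y * t'⁻¹ * (t' * b * t'⁻¹) := h3
          _ = _ := by group
      exact mul_left_cancel (mul_right_cancel h4)
    refine hCne fun s hs => (hCmem s).2 ?_
    have hs' : t'⁻¹ * s * t' ∈ S₀ := by
      simpa using (mem_normalizer_iff.1 (inv_mem (hCN ht'C)) s).1 hs
    have e1 := hzS s hs a ha'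
    have e2 := hzS _ hs' b hb'
    rw [hab]
    calc s * (a * (t' * b * t'⁻¹)) = a * (t' * ((t'⁻¹ * s * t') * b) * t'⁻¹) := by
          rw [← mul_assoc, ← e1]; group
      _ = a * (t' * (b * (t'⁻¹ * s * t')) * t'⁻¹) := by rw [e2]
      _ = _ := by group
  · obtain ⟨-, hdw, -⟩ := hfac w hwN hwS
    have hinj : Nat.card P ≤ C.relIndex S₀ := by
      refine Nat.card_le_card_of_injective
        (fun x : P => ((⟨x, hPS x.2⟩ : S₀) : S₀ ⧸ C.subgroupOf S₀)) fun x y h => ?_
      have h1 := (hCmem _).1 (mem_subgroupOf.1 (QuotientGroup.eq.1 h))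
      simp only [Subgroup.coe_mul, Subgroup.coe_inv] at h1
      have h2' : w * ((x : S)⁻¹ * y) * w⁻¹ = (x : S)⁻¹ * y := by rw [← h1, mul_inv_cancel_right]
      have := hdw _ (mul_mem (inv_mem x.2) y.2) (h2'.symm ▸ mul_mem (inv_mem x.2) y.2)
      exact Subtype.ext (inv_mul_eq_one.1 this)
    refine hP ⟨⟨fun a b => ?_⟩⟩
    rcases Nat.lt_or_ge (Nat.card P) 2 with h | h
    · have := (Finite.card_le_one_iff_subsingleton).1 (Nat.le_of_lt_succ h)
      exact Subsingleton.elim _ _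
    · have hc : IsCyclic P := isCyclic_of_prime_card (p := 2) (by omega)
      exact hc.commGroup.mul_comm a b

end Cfsg.Agent.S4401
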