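import Cfsg.Statements.S4402
import Cfsg.Agent.WreathD8.Rigid
import Cfsg.Agent.WreathD8.Build
import Cfsg.Agent.WreathD8.Quot
-- import your own Cfsg.Agent.* helpers here

set_option autoImplicit false
open Cfsg

namespace Cfsg.Agent.S4402

open Cfsg.Agent.WreathD8 Subgroup

/-- outside a proper subgroup of a 2-group its normaliser has elements with square inside -/
theorem exists_step {S : Type*} [Group S] [Finite S] (h2 : IsPGroup 2 S) {P R : Subgroup S} {x : S}
    (hxR : x ∈ R) (hxn : x ∈ normalizer (P : Set S)) (hxP : x ∉ P) :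
    ∃ y ∈ R, y ∈ normalizer (P : Set S) ∧ y ∉ P ∧ y * y ∈ P := by
  obtain ⟨k, hk⟩ := h2 x
  have hex : ∃ m, x ^ 2 ^ m ∈ P := ⟨k, hk ▸ one_mem P⟩
  classical
  rcases h0 : Nat.find hex with _ | m
  · have := Nat.find_spec hex
    rw [h0, pow_zero, pow_one] at this
    exact absurd this hxP
  · refine ⟨x ^ 2 ^ m, pow_mem hxR _, pow_mem hxn _, Nat.find_min hex (by omega : m < Nat.find hex), ?_⟩
    have := Nat.find_spec hex
    rwa [h0, pow_succ, pow_mul, pow_two] at this

theorem exists_step_above {S : Type*} [Group S] [Finite S] (h2 : IsPGroup 2 S) {P R : Subgroup S} (h : P < R) :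
    ∃ y ∈ R, y ∈ normalizer (P : Set S) ∧ y ∉ P ∧ y * y ∈ P := by
  haveI : Fact (Nat.Prime 2) := ⟨Nat.prime_two⟩
  have hR : IsPGroup 2 ↥R := h2.to_subgroup R
  haveI := hR.isNilpotent
  have hlt : P.subgroupOf R < ⊤ := lt_top_iff_ne_top.2 fun e => h.ne (le_antisymm h.le (subgroupOf_eq_top.1 e))
  obtain ⟨⟨x, hxR⟩, hx, hxP⟩ := SetLike.exists_of_lt (normalizerCondition_of_isNilpotent _ hlt)
  refine exists_step h2 hxR (mem_normalizer_iff.2 fun y => ?_) hxP
  constructor
  · intro hy
    exact (mem_normalizer_iff.1 hx ⟨y, h.le hy⟩).1 hy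
  · intro hy
    have hyR : y ∈ R := by
      have := mul_mem (mul_mem (inv_mem hxR) (h.le hy)) hxR
      simpa [mul_assoc] using this
    exact (mem_normalizer_iff.1 hx ⟨y, hyR⟩).2 hy

theorem dec_centre : (∀ g : Mod, mm g A₁ = mm A₁ g → mm g C₁ = mm C₁ g → mm g τ = mm τ g → g = e1 ∨ g = zz) ∧
    zz ≠ e1 := ⟨dec_center, by decide⟩

/-- Let S be a finite 2-group of sectional 2-rank at most 4 and P a proper subgroup isomorphic to the wreath product of the dihedral group of order 8 by a group of order 2 (equivalently, to a Sylow 2-subgroup of the symmetric group of degree 8; order 128). Then Z(S) = Z(P) has order 2, P has index 2 in its normalizer N_S(P), N_S(P)/Z(S) is again isomorphic to that wreath product, and every elementary abelian subgroup V of order 16 that is normal in P satisfies N_S(V) = P. -/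
theorem result {S : Type*} [Group S] [Finite S] (h2 : IsPGroup 2 S) (hr : Cfsg.SectionalPRankLE 2 4 S)
    (P : Subgroup S) (hPlt : P ≠ ⊤) (hP : ∃ T : Sylow 2 (Equiv.Perm (Fin 8)), Nonempty (↥P ≃* ↥(T : Subgroup (Equiv.Perm (Fin 8))))) :
    Subgroup.center S = (Subgroup.center ↥P).map P.subtype ∧ Nat.card ↥(Subgroup.center S) = 2 ∧
    P.relIndex (Subgroup.normalizer (P : Set S)) = 2 ∧
    (∃ (_ : ((Subgroup.center S).subgroupOf (Subgroup.normalizer (P : Set S))).Normal) (T : Sylow 2 (Equiv.Perm (Fin 8))),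
      Nonempty (↥(Subgroup.normalizer (P : Set S)) ⧸ (Subgroup.center S).subgroupOf (Subgroup.normalizer (P : Set S)) ≃*
        ↥(T : Subgroup (Equiv.Perm (Fin 8))))) ∧
    ∀ V : Subgroup S, V ≤ P → (∀ g ∈ P, ∀ v ∈ V, g * v * g⁻¹ ∈ V) → Cfsg.IsElementaryAbelian 2 V → Nat.card ↥V = 16 →
      Subgroup.normalizer (V : Set S) = P := by
  haveI : Fact (Nat.Prime 2) := ⟨Nat.prime_two⟩
  obtain ⟨T, ⟨e⟩⟩ := hP
  obtain ⟨W⟩ := exists_data P T e
  have hno : ∀ {R : Subgroup S}, P ≤ R → (∀ y ∈ R, ∀ hy : y ∈ normalizer (P : Set S), (W.conj hy).VA = W.VA) →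
      R = P := by
    intro R hPR hR
    by_contra hne
    obtain ⟨y, hyR, hyn, hyP, hy2⟩ := exists_step_above h2 (lt_of_le_of_ne hPR (Ne.symm hne))
    exact W.five hr hyn hyP hy2 (hR y hyR hyn)
  -- centralisers
  set Z := (center ↥P).map P.subtype with hZdef
  have hzzP : W.em zz ∈ P := W.em_mem _
  have hZmem : ∀ x, x ∈ Z ↔ x = 1 ∨ x = W.em zz := by
    intro x
    constructor
    · rintro ⟨⟨y, hy⟩, hc, rfl⟩
      obtain ⟨g, rfl⟩ := (W.mem y).1 hy
      have hcm : ∀ k, mm g k = mm k g := fun k => (W.comm_iff _ _).1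
        (congrArg Subtype.val (mem_center_iff.1 hc ⟨W.em k, W.em_mem k⟩)).symm
      rcases dec_centre.1 g (hcm _) (hcm _) (hcm _) with rfl | rfl
      · exact Or.inl W.one
      · exact Or.inr rfl
    · rintro (rfl | rfl)
      · exact one_mem Z
      · exact ⟨⟨W.em zz, hzzP⟩, mem_center_iff.2 fun y => Subtype.ext (W.zz_comm y.2).symm, rfl⟩
  have hCP : ∀ c : S, (∀ p ∈ P, c * p = p * c) → c ∈ Z := by
    intro c hc
    have hfix : ∀ y ∈ P ⊔ zpowers c, ∀ hy : y ∈ normalizer (P : Set S), (W.conj hy).VA = W.VA := by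
      intro y hy
      rw [sup_eq_closure] at hy
      intro hyn
      have key : ∀ x ∈ W.VA, y * x * y⁻¹ ∈ W.VA := by
        clear hyn
        induction hy using closure_induction with
        | mem z hz =>
          intro x hx
          rcases hz with hz | hz
          · exact W.VA_props.2.2.2 z hz x hx
          · obtain ⟨i, rfl⟩ := hz
            have : Commute c x := hc x (W.VA_props.1 x hx)
            rw [(this.zpow_left i).eq, mul_inv_cancel_right]
            exact hx
        | one => intro x hx; simpa using hx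
        | mul u v _ _ hu hv =>
          intro x hx
          rw [show u * v * x * (u * v)⁻¹ = u * (v * x * v⁻¹) * u⁻¹ by group]
          exact hu _ (hv x hx)
        | inv u _ hu =>
          intro x hx
          have hfin : W.VA.Finite := Set.finite_of_ncard_ne_zero (by rw [W.ncard_VA]; omega)
          have heq : (fun x => u * x * u⁻¹) '' W.VA = W.VA :=
            Set.eq_of_subset_of_ncard_le (by rintro _ ⟨z, hz, rfl⟩; exact hu z hz)
              (by rw [Set.ncard_image_of_injective _ (fun a b e => by simpa using e)]) hfin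
          obtain ⟨z, hz, e⟩ := heq.ge hx
          rw [← e]
          simpa [mul_assoc] using hz
      rw [W.conj_VA hyn]
      refine Set.eq_of_subset_of_ncard_le (by rintro _ ⟨x, hx, rfl⟩; exact key x hx)
        (by rw [Set.ncard_image_of_injective _ (fun a b e => by simpa using e)])
        (Set.finite_of_ncard_ne_zero (by rw [W.ncard_VA]; omega))
    have hcP : c ∈ P := hno le_sup_left hfix ▸ mem_sup_right (mem_zpowers c)
    exact ⟨⟨c, hcP⟩, mem_center_iff.2 fun y => Subtype.ext (hc y y.2).symm, rfl⟩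
  have hcard : Nat.card ↥Z = 2 := by
    have hne : (1 : S) ≠ W.em zz := fun e => dec_centre.2 (W.inj (e.symm.trans W.one.symm))
    rw [← SetLike.coe_sort_coe, Nat.card_coe_set_eq, show (Z : Set S) = {1, W.em zz} from Set.ext fun x => by
      simpa using hZmem x, Set.ncard_pair hne]
  have hcent : center S = Z := by
    haveI : Nontrivial S := by
      obtain ⟨x, -, hx⟩ := SetLike.exists_of_lt (lt_top_iff_ne_top.2 hPlt)
      exact ⟨⟨x, 1, fun e => hx (e ▸ one_mem P)⟩⟩
    haveI := h2.center_nontrivial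
    refine eq_of_le_of_card_ge (fun c hc => hCP c fun p _ => (mem_center_iff.1 hc p).symm) ?_
    rw [hcard]
    exact Finite.one_lt_card
  -- the normaliser
  set N := normalizer (P : Set S) with hN
  have hPN : P ≤ N := le_normalizer
  have hN_P : ∀ y (hy : y ∈ N), (W.conj hy).VA = W.VA → y ∈ P := by
    let R : Subgroup S :=
      { carrier := {y | ∃ hy : y ∈ N, (W.conj hy).VA = W.VA}
        one_mem' := ⟨one_mem N, by rw [W.conj_VA]; simp⟩
        mul_mem' := by
          rintro a b ⟨ha, ea⟩ ⟨hb, eb⟩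
          refine ⟨mul_mem ha hb, ?_⟩
          rw [W.conj_VA] at ea eb ⊢
          conv_rhs => rw [← ea, ← eb, Set.image_image]
          exact Set.image_congr fun x _ => by group
        inv_mem' := by
          rintro a ⟨ha, ea⟩
          refine ⟨inv_mem ha, ?_⟩
          rw [W.conj_VA] at ea ⊢
          conv_lhs => rw [← ea, Set.image_image]
          simp [mul_assoc] }
    have hR : R = P := hno (fun y hy => ⟨hPN hy, by
        rw [W.conj_VA]
        refine Set.eq_of_subset_of_ncard_le (by rintro _ ⟨x, hx, rfl⟩; exact W.VA_props.2.2.2 y hy x hx)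
          (by rw [Set.ncard_image_of_injective _ (fun a b e => by simpa using e)])
          (Set.finite_of_ncard_ne_zero (by rw [W.ncard_VA]; omega))⟩) fun y hy _ => hy.2
    exact fun y hy ey => hR ▸ (⟨hy, ey⟩ : ∃ hy : y ∈ N, (W.conj hy).VA = W.VA)
  have hswapVA : ∀ y (hy : y ∈ N), y ∉ P → (W.conj hy).VA = W.VC := fun y hy hyP =>
    (W.V_cases (W.conj hy)).elim (fun h => absurd (hN_P y hy h.1) hyP) fun h => h.1
  have hswapVC : ∀ y (hy : y ∈ N), y ∉ P → (W.conj hy).VC = W.VA := fun y hy hyP =>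
    (W.V_cases (W.conj hy)).elim (fun h => absurd (hN_P y hy h.1) hyP) fun h => h.2
  obtain ⟨n, -, hn, hnP, -⟩ := exists_step_above h2 (lt_top_iff_ne_top.2 hPlt)
  have htwo : ∀ y ∈ N, y ∉ P → y * n ∈ P := by
    intro y hy hyP
    refine hN_P _ (mul_mem hy hn) ?_
    have e1 := hswapVA n hn hnP
    have e2 := hswapVC y hy hyP
    rw [W.conj_VA] at e1 ⊢
    rw [show (W.conj hy).VC = (fun x => y * x * y⁻¹) '' W.VC by
      rw [WData.VC, WData.VC, Set.image_image]; rfl] at e2
    conv_rhs => rw [← e2, ← e1, Set.image_image]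
    exact Set.image_congr fun x _ => by group
  have hindex : P.relIndex N = 2 := by
    rw [Subgroup.relIndex, Subgroup.index_eq_two_iff]
    refine ⟨⟨n, hn⟩, fun b => ?_⟩
    simp only [mem_subgroupOf, coe_mul]
    by_cases hb : (b : S) ∈ P
    · exact Or.inr ⟨hb, fun h => hnP ((mul_mem_cancel_left hb).1 h)⟩
    · exact Or.inl ⟨htwo b b.2 hb, hb⟩
  refine ⟨hcent, by rw [hcent, hcard], hindex, ?_, ?_⟩
  · -- the quotient of the normaliser
    have hcz : ∀ y, W.em zz * y = y * W.em zz := fun y =>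
      (mem_center_iff.1 (hcent ▸ (hZmem _).2 (Or.inr rfl)) y).symm
    let W' := W.swap.conj hn
    have hW'A : W'.VA = W.VA := by
      rw [WData.conj_VA, W.swap_VA, ← hswapVC n hn hnP, WData.VC, WData.VC, Set.image_image]
      rfl
    have hW'C : W'.VC = W.VC := by
      rcases W.V_cases W' with h | h
      · exact h.2
      · exact absurd (hW'A.symm.trans h.1) W.VA_ne_VC
    obtain ⟨p, hp, h1, h2', h3⟩ := W.compare W' hW'A hW'C
    have hback : ∀ {g : Mod}, W.ModZ (p * W.em g * p⁻¹) (W'.em g) →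
        W.ModZ (W.em g) (p⁻¹ * n * W.em (sigM g) * (p⁻¹ * n)⁻¹) := by
      intro g e
      rw [show p⁻¹ * n * W.em (sigM g) * (p⁻¹ * n)⁻¹ = p⁻¹ * (W'.em g) * p by
        show _ = p⁻¹ * (n * W.em (sigM g) * n⁻¹) * p
        group]
      rcases e with e | e <;> rw [e]
      · exact Or.inl (by group)
      · refine Or.inr ?_
        rw [mul_assoc p⁻¹, mul_assoc (p * W.em g * p⁻¹), hcz p]
        group
    set q := p⁻¹ * n with hqdef
    have hqN : q ∈ N := mul_mem (inv_mem (hPN hp)) hn
    have hqP : q ∉ P := fun h => hnP ((mul_mem_cancel_left (inv_mem hp)).1 h)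
    have f1 : W.ModZ (W.em A₁) (q * W.em C₁ * q⁻¹) := by
      simpa only [show sigM A₁ = C₁ from by decide] using hback h1
    have f2 : W.ModZ (W.em C₁) (q * W.em A₁ * q⁻¹) := by
      simpa only [show sigM C₁ = A₁ from by decide] using hback h2'
    have f3 : W.ModZ (W.em τ) (q * W.em τ * q⁻¹) := by
      simpa only [show sigM τ = τ from by decide] using hback h3
    have hq2P : q * q ∈ P := by
      have := (Subgroup.mul_mem_iff_of_index_two hindex (a := (⟨q, hqN⟩ : ↥N)) (b := ⟨q, hqN⟩)).2 Iff.rfl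
      simpa only [mem_subgroupOf, coe_mul] using this
    have hqz : q * W.em zz * q⁻¹ = W.em zz := by rw [← hcz q, mul_inv_cancel_right]
    have htrans : ∀ {x y : S}, W.ModZ y (q * x * q⁻¹) → W.ModZ x (q * y * q⁻¹) →
        W.ModZ x (q * q * x * (q * q)⁻¹) := by
      intro x y e e'
      rw [show q * q * x * (q * q)⁻¹ = q * (q * x * q⁻¹) * q⁻¹ by group]
      rcases e with e | e <;> rw [e]
      · exact e'
      · rw [show q * (y * W.em zz) * q⁻¹ = q * y * q⁻¹ * (q * W.em zz * q⁻¹) by group, hqz]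
        rcases e' with e' | e' <;> rw [e']
        · exact Or.inr rfl
        · exact Or.inl (by rw [mul_assoc, W.zz_sq, mul_one])
    obtain ⟨g, hg⟩ := (W.mem _).1 hq2P
    have hdec : ∀ {k : Mod}, W.ModZ (W.em k) (q * q * W.em k * (q * q)⁻¹) → modZ (WreathD8.cj g k) k = true := by
      intro k e
      rw [← hg, ← W.cj] at e
      simp only [modZ, Bool.or_eq_true, beq_iff_eq]
      rcases e with e | e
      · exact Or.inl (W.inj e)
      · exact Or.inr (W.inj (by rw [W.hom, e]))
    have hτfix : WreathD8.cj g τ = τ := by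
      refine W.inj ?_
      rw [W.cj, hg, show q * q * W.em τ * (q * q)⁻¹ = q * (q * W.em τ * q⁻¹) * q⁻¹ by group]
      rcases f3 with e | e <;> rw [e]
      · exact e
      · rw [show q * (W.em τ * W.em zz) * q⁻¹ = q * W.em τ * q⁻¹ * (q * W.em zz * q⁻¹) by group, e, hqz,
          mul_assoc, W.zz_sq, mul_one]
    have hq2 : q * q = 1 ∨ q * q = W.em zz := by
      rcases dec_centZ g (hdec (htrans f2 f1)) (hdec (htrans f1 f2)) hτfix with rfl | rfl
      · exact Or.inl (hg.symm.trans W.one)
      · exact Or.inr hg.symm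
    haveI hnorm : ((center S).subgroupOf N).Normal := ⟨fun x hx y => by
      rw [mem_subgroupOf] at hx ⊢
      rw [coe_mul, coe_mul, InvMemClass.coe_inv, mem_center_iff.1 hx (y : S), mul_inv_cancel_right]
      exact hx⟩
    obtain ⟨e'⟩ := W.quot hPN hindex ((center S).subgroupOf N)
      (fun x => by rw [mem_subgroupOf, hcent]; exact hZmem _) hqN hqP hq2 f2 f1 f3
    exact ⟨hnorm, T, ⟨e'.trans e⟩⟩
  · intro V hVP hinv hel h16
    set X : Set S := (V : Set S)
    have hXc : ∀ x ∈ X, ∀ y ∈ X, x * y = y * x := fun x hx y hy =>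
      congrArg Subtype.val (hel.1.1.comm ⟨x, hx⟩ ⟨y, hy⟩)
    have hX := W.normal_cases (X := X) hVP hXc (fun x hx => by rw [← pow_two]; exact hel.2 x hx) hinv
      (by rw [← Nat.card_coe_set_eq]; exact h16)
    refine hno (fun p hp => mem_normalizer_iff.2 fun x => ⟨hinv p hp x, fun h => ?_⟩) fun y hy hyn => ?_
    · have := hinv p⁻¹ (inv_mem hp) _ h
      simpa [mul_assoc] using this
    · have hyX : (fun x => y * x * y⁻¹) '' X = X := by
        ext x
        constructor
        · rintro ⟨z, hz, rfl⟩; exact (mem_normalizer_iff.1 hy z).1 hz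
        · intro hx
          refine ⟨y⁻¹ * x * y, (mem_normalizer_iff.1 hy _).2 ?_, by group⟩
          rw [show y * (y⁻¹ * x * y) * y⁻¹ = x by group]; exact hx
      rcases hX with e | e
      · rw [W.conj_VA, ← e, hyX, e]
      · rcases W.V_cases (W.conj hyn) with h | h
        · exact h.1
        · exfalso
          refine W.VA_ne_VC ?_
          have h' := h.2
          rw [show (W.conj hyn).VC = (fun x => y * x * y⁻¹) '' W.VC by
            rw [WData.VC, WData.VC, Set.image_image]; rfl, ← e, hyX, e] at h'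
          exact h'.symm

end Cfsg.Agent.S4402
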