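import Cfsg.Statements.S4405
import Cfsg.Agent.Fg24.ExtraTwo
import Cfsg.Agent.ExtraMinus.Fixed
import Cfsg.Agent.Core.Fitting

set_option autoImplicit false
open Cfsg

namespace Cfsg.Agent.S4405

open Cfsg.Agent.LargeExtra Cfsg.Agent.ExtraMinus

theorem solvable_of_card_ten {Q : Type*} [Group Q] [Finite Q] (h : Nat.card Q = 10) : Group.IsSolvable Q := by
  haveI : Fact (Nat.Prime 5) := ⟨by norm_num⟩
  obtain ⟨x, hx⟩ := exists_prime_orderOf_dvd_card' (G := Q) 5 (by rw [h]; norm_num)
  set A := Subgroup.zpowers x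
  have hA : A.index = 2 := by
    have h1 := A.card_mul_index
    rw [Nat.card_zpowers, hx, h] at h1; omega
  haveI : A.Normal := Subgroup.normal_of_index_eq_two hA
  haveI : IsCyclic (Q ⧸ A) := by
    haveI : Fact (Nat.Prime 2) := ⟨Nat.prime_two⟩
    exact isCyclic_of_prime_card (p := 2) (by rw [← Subgroup.index_eq_card, hA])
  haveI : Group.IsSolvable A := by
    letI : CommGroup A := IsCyclic.commGroup
    infer_instance
  letI : CommGroup (Q ⧸ A) := IsCyclic.commGroup
  exact solvable_of_ker_le_range A.subtype (QuotientGroup.mk' A) (by rw [QuotientGroup.ker_mk', Subgroup.range_subtype])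

/-- Let G be a finite group of order 320 = 64·5 whose largest normal 2-subgroup H = O₂(G) equals the Fitting subgroup F(G) and is extraspecial of order 32 containing no elementary abelian subgroup of order 8 (so H is the central product of a quaternion group and a dihedral group of order 8). If T is an involution of G outside H whose centralizer in H contains an elementary abelian subgroup of order 4, then C_H(T) itself is elementary abelian of order 4. -/
theorem result {G : Type*} [Group G] [Finite G]
    (hG : Nat.card G = 320) (hHF : Cfsg.pCore 2 G = Cfsg.fittingSubgroup G)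
    (hex : Cfsg.IsExtraspecial 2 ↥(Cfsg.pCore 2 G)) (h32 : Nat.card ↥(Cfsg.pCore 2 G) = 32)
    (hminus : ∀ A : Subgroup G, A ≤ Cfsg.pCore 2 G → Cfsg.IsElementaryAbelian 2 A → Nat.card ↥A ≤ 4)
    (T : G) (hT : orderOf T = 2) (hTH : T ∉ Cfsg.pCore 2 G)
    (V : Subgroup G) (hV : V ≤ Cfsg.pCore 2 G ⊓ Subgroup.centralizer ({T} : Set G)) (hV4 : Nat.card ↥V = 4) (hVe : Cfsg.IsElementaryAbelian 2 V) :
    Nat.card ↥(Cfsg.pCore 2 G ⊓ Subgroup.centralizer ({T} : Set G)) = 4 ∧
      Cfsg.IsElementaryAbelian 2 (Cfsg.pCore 2 G ⊓ Subgroup.centralizer ({T} : Set G)) := by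
  set H := Cfsg.pCore 2 G with hHdef
  obtain ⟨m, c, ⟨e⟩⟩ := Cfsg.Agent.Fg24.ExtraTwo.exists_equiv_heis hex
  have hm : m = 1 := by
    have h := Nat.card_congr e.toEquiv
    rw [h32, Heis.card] at h
    have : 2 * (m + 1) + 1 = 5 := (Nat.pow_right_injective (le_refl 2) (h.symm.trans (by norm_num : (32 : ℕ) = 2 ^ 5)))
    omega
  subst hm
  have hc : c = 1 := by
    rcases Cfsg.Agent.Fg24.ExtraTwo.two_cases c with rfl | rfl
    · exfalso
      obtain ⟨⟨A, hA, hcard⟩, -⟩ := Heis.rank_plus (m := 1)
      set A' := (A.map e.symm.toMonoidHom).map H.subtype with hA'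
      have hB : Cfsg.IsElementaryAbelian 2 A' := by
        refine ⟨?_, ?_⟩
        · haveI := hA.1
          haveI := Subgroup.map_isMulCommutative A e.symm.toMonoidHom
          exact Subgroup.map_isMulCommutative _ _
        · rintro _ ⟨_, ⟨a, ha, rfl⟩, rfl⟩
          rw [← map_pow, ← map_pow, hA.2 a ha, map_one, map_one]
      have := hminus _ (Subgroup.map_subtype_le _) hB
      rw [Subgroup.card_map_of_injective H.subtype_injective, Subgroup.card_map_of_injective e.symm.injective, hcard] at this
      norm_num at this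
    · rfl
  subst hc
  haveI : H.Normal := by rw [hHdef]; infer_instance
  have hidx : H.index = 10 := by
    have h1 := H.card_mul_index
    rw [h32, hG] at h1; omega
  haveI : Group.IsSolvable (G ⧸ H) := solvable_of_card_ten (by rw [← Subgroup.index_eq_card, hidx])
  haveI : Group.IsSolvable H := by
    haveI : Fact (Nat.Prime 2) := ⟨Nat.prime_two⟩
    haveI : Group.IsNilpotent H := (IsPGroup.of_card (p := 2) (n := 5) (by rw [h32]; norm_num)).isNilpotent
    infer_instance
  haveI : Group.IsSolvable G :=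
    solvable_of_ker_le_range H.subtype (QuotientGroup.mk' H) (by rw [QuotientGroup.ker_mk', Subgroup.range_subtype])
  have hCH : Subgroup.centralizer (H : Set G) ≤ H := by
    rw [hHF]; exact Cfsg.Agent.Core.centralizer_fittingSubgroup_le
  let ψ : G →* MulAut M := (MulAut.congr e).toMonoidHom.comp MulAut.conjNormal
  have hψ : ∀ (g : G) (y : M), ψ g y = e (MulAut.conjNormal g (e.symm y)) := fun _ _ => rfl
  let π := actHom.comp ψ
  have hker : π.ker = H := by
    apply le_antisymm
    · intro g hg
      have hk : ψ g ∈ actHom.ker := hg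
      rw [ker_eq] at hk
      obtain ⟨x, hx⟩ := hk
      have hmem : ((e.symm x : H) : G)⁻¹ * g ∈ Subgroup.centralizer (H : Set G) := by
        rw [Subgroup.mem_centralizer_iff]
        intro u hu
        have h1 := congrArg (fun β : MulAut M => ((e.symm (β (e ⟨u, hu⟩)) : H) : G)) hx
        simp only [hψ, MulAut.conj_apply, MulEquiv.symm_apply_apply, map_mul, map_inv, Subgroup.coe_mul,
          Subgroup.coe_inv, MulAut.conjNormal_apply] at h1
        calc u * ((((e.symm x : H) : G))⁻¹ * g)
            = ((e.symm x : H) : G)⁻¹ * (((e.symm x : H) : G) * u * ((e.symm x : H) : G)⁻¹) * g := by group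
          _ = ((e.symm x : H) : G)⁻¹ * g * u := by rw [h1]; group
      have := H.mul_mem (e.symm x).2 (hCH hmem)
      rwa [mul_inv_cancel_left] at this
    · intro g hg
      show ψ g ∈ actHom.ker
      rw [ker_eq]
      exact ⟨e ⟨g, hg⟩, MulEquiv.ext fun y => e.symm.injective (Subtype.ext (by
        simp [hψ, MulAut.conjNormal_apply]))⟩
  have hrange : Nat.card π.range = 10 := by rw [← Subgroup.index_ker, hker, hidx]
  set τ := π T with hτ
  have hτ1 : τ ≠ 1 := fun h => hTH (hker ▸ MonoidHom.mem_ker.2 h)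
  have hT2 : T * T = 1 := by rw [← sq, ← hT, pow_orderOf_eq_one]
  have hτo : orderOf τ = 2 := orderOf_eq_prime (by rw [sq, hτ, ← map_mul, hT2, map_one]) hτ1
  have hswap : ¬ τ.IsSwap := by
    intro hs
    haveI : Fact (Nat.Prime 5) := ⟨by norm_num⟩
    obtain ⟨ρ, hρ⟩ := exists_prime_orderOf_dvd_card' (G := π.range) 5 (by rw [hrange]; norm_num)
    have hρ' : orderOf (ρ : Equiv.Perm (Fin 5)) = 5 := by rw [Subgroup.orderOf_coe, hρ]
    have hcyc : (ρ : Equiv.Perm (Fin 5)).IsCycle := Equiv.Perm.isCycle_of_prime_order'' (by simp; norm_num) (by simpa using hρ')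
    have hsupp : (ρ : Equiv.Perm (Fin 5)).support = Finset.univ :=
      Finset.eq_univ_of_card _ (by rw [← hcyc.orderOf, hρ']; simp)
    have htop := Equiv.Perm.closure_prime_cycle_swap (by simp; norm_num) hcyc hsupp hs
    have hle : Subgroup.closure ({(ρ : Equiv.Perm (Fin 5)), τ} : Set (Equiv.Perm (Fin 5))) ≤ π.range := by
      rw [Subgroup.closure_le]
      rintro _ (rfl | rfl)
      · exact ρ.2
      · exact ⟨T, rfl⟩
    rw [htop, top_le_iff] at hle
    rw [hle, Subgroup.card_top, Nat.card_eq_fintype_card, Fintype.card_perm, Fintype.card_fin] at hrange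
    exact absurd hrange (by decide)
  obtain ⟨p, hp⟩ : ∃ p : Equiv.Perm (Fin 5), ∀ k, p k = dsw k :=
    ⟨⟨dsw, dsw, by decide, by decide⟩, fun _ => rfl⟩
  have hpo : orderOf p = 2 ∧ ¬ p.IsSwap := by
    refine ⟨orderOf_eq_prime (Equiv.ext fun k => ?_) (fun h => ?_), fun h => ?_⟩
    · rw [sq, Equiv.Perm.mul_apply, hp, hp]
      revert k; decide
    · have := hp 1
      rw [h] at this
      exact absurd this (by decide)
    · have hs := Equiv.Perm.card_support_eq_two.2 h
      have hsub : ({1, 4, 2} : Finset (Fin 5)) ⊆ p.support := by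
        intro a ha
        rw [Equiv.Perm.mem_support, hp]
        revert a; decide
      have h3 := Finset.card_le_card hsub
      rw [hs] at h3
      exact absurd h3 (by decide)
  have hct : ∀ q : Equiv.Perm (Fin 5), orderOf q = 2 → ¬ q.IsSwap → q.cycleType = {2, 2} := by
    intro q hq hns
    obtain ⟨n, hn⟩ := Equiv.Perm.cycleType_prime_order (σ := q) (hq ▸ Nat.prime_two)
    rw [hq] at hn
    have := q.sum_cycleType_le
    rw [hn, Multiset.sum_replicate, Fintype.card_fin, smul_eq_mul] at this
    rcases n with _ | _ | n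
    · exact absurd (Equiv.Perm.isSwap_iff_cycleType.2 hn) hns
    · exact hn
    · omega
  obtain ⟨g, hg⟩ := isConj_iff.1 (Equiv.Perm.isConj_iff_cycleType_eq.2
    ((hct τ hτo hswap).trans (hct p hpo.1 hpo.2).symm))
  have hfixeq : ∀ y : M, ψ T y = y ↔ ((e.symm y : H) : G) ∈ Subgroup.centralizer ({T} : Set G) := by
    intro y
    rw [Subgroup.mem_centralizer_singleton_iff, hψ, ← e.eq_symm_apply, Subtype.ext_iff, MulAut.conjNormal_apply,
      mul_inv_eq_iff_eq_mul]
    exact eq_comm
  have hv : ∃ v : M, ψ T v = v ∧ v * v = 1 ∧ v ≠ 1 ∧ v ≠ zed := by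
    classical
    by_contra hcon
    push Not at hcon
    have hall : ∀ w ∈ V, w = 1 ∨ w = ((e.symm zed : H) : G) := by
      intro w hw
      set w' : H := ⟨w, (hV hw).1⟩
      have h1 : ψ T (e w') = e w' := (hfixeq _).2 (by rw [e.symm_apply_apply]; exact (hV hw).2)
      have h2 : e w' * e w' = 1 := by
        rw [← map_mul, ← map_one e]
        exact congrArg e (Subtype.ext (by rw [Subgroup.coe_mul, ← sq]; exact hVe.2 w hw))
      by_cases h3 : e w' = 1
      · left
        have := congrArg (fun y => ((e.symm y : H) : G)) h3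
        simpa [w'] using this
      · right
        rw [← hcon _ h1 h2 h3, e.symm_apply_apply]
    have hsub : (V : Set G) ⊆ {1, ((e.symm zed : H) : G)} := fun w hw => hall w hw
    have := Set.ncard_le_ncard hsub
    rw [← Nat.card_coe_set_eq] at this
    have h2 : ({1, ((e.symm zed : H) : G)} : Set G).ncard ≤ 2 := (Set.ncard_insert_le _ _).trans (by rw [Set.ncard_singleton])
    rw [show Nat.card (V : Set G) = 4 from hV4] at this
    omega
  have hle := fixed_le (α := ψ T) (g := g) (fun k => by
      rw [← hp, ← hg, Equiv.Perm.mul_apply, Equiv.Perm.mul_apply]; rfl)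
    (by rw [← map_mul, hT2, map_one]) hv
  have hcard : Nat.card ↥(H ⊓ Subgroup.centralizer ({T} : Set G)) ≤ 4 := by
    refine le_trans (Nat.card_le_card_of_injective
      (fun w : ↥(H ⊓ Subgroup.centralizer ({T} : Set G)) => (⟨e ⟨w, w.2.1⟩, (hfixeq _).2 (by
        rw [e.symm_apply_apply]; exact w.2.2)⟩ : {y : M // ψ T y = y})) ?_) hle
    intro a b hab
    exact Subtype.ext (congrArg (fun u : H => (u : G)) (e.injective (congrArg Subtype.val hab)))
  have heq := Subgroup.eq_of_le_of_card_ge hV (by rw [hV4]; exact hcard)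
  exact ⟨heq ▸ hV4, heq ▸ hVe⟩

end Cfsg.Agent.S4405
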