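import Cfsg.Statements.S4406
-- import your own Cfsg.Agent.* helpers here

set_option autoImplicit false
open Cfsg

namespace Cfsg.Agent.S4406

abbrev A4 : Type := ↥(alternatingGroup (Fin 4))

set_option synthInstance.maxSize 4000 in
set_option synthInstance.maxHeartbeats 400000 in
theorem key_check : ∀ x1 : A4, x1 * x1 = 1 → x1 ≠ 1 → ∀ y1 : A4, y1 * y1 = 1 → y1 ≠ 1 → y1 ≠ x1 →
    ∀ x2 : A4, x2 * x2 = 1 → x2 ≠ 1 → ∀ y2 : A4, y2 * y2 = 1 → y2 ≠ 1 → y2 ≠ x2 →
    ∀ q1 : A4, q1 ^ 3 = 1 → q1 ≠ 1 → ∀ q2 : A4, q2 ^ 3 = 1 → q2 ≠ 1 → ∃ r ∈ [q2, q2 * q2],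
      ((q1 * x1 * q1⁻¹, r * x2 * r⁻¹) ∈ [(x1, x2), (y1, y2), (x1 * y1, x2 * y2)]) ∧
      ((q1 * y1 * q1⁻¹, r * y2 * r⁻¹) ∈ [(x1, x2), (y1, y2), (x1 * y1, x2 * y2)]) := by
  decide +kernel

theorem pow16 : ∀ x : A4, x ^ 16 = 1 → x * x = 1 := by decide +kernel

theorem pow9 : ∀ x : A4, x ^ 9 = 1 → x ^ 3 = 1 := by decide +kernel

theorem card_A4 : Nat.card A4 = 12 := by rw [Nat.card_eq_fintype_card]; decide +kernel

theorem card_prod_A4 : Nat.card (A4 × A4) = 144 := by rw [Nat.card_prod, card_A4]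

/-- A Sylow 3-subgroup meets both kernels of the projections. -/
theorem exists_ne_one_of_sylow {Q : Subgroup (A4 × A4)} (hQ : Nat.card Q = 9) (f : A4 × A4 →* A4) :
    ∃ z ∈ Q, z ≠ 1 ∧ f z = 1 := by
  by_contra hcon
  push Not at hcon
  have hinj : Function.Injective (f.comp Q.subtype) := by
    rw [injective_iff_map_eq_one]
    intro z hz
    by_contra hne
    exact hcon z z.2 (fun e => hne (Subtype.ext e)) hz
  have h := Subgroup.card_dvd_of_injective (f.comp Q.subtype) hinj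
  rw [hQ, card_A4] at h
  norm_num at h


/-- In the direct product P = A₄ × A₄, let X be the Sylow 2-subgroup, X₁ and X₂ its intersections with the two direct factors, Q a Sylow 3-subgroup and Q₁, Q₂ its intersections with the two factors. Then every subgroup B of X of order 4 either meets X₁ or X₂ nontrivially, or is normalized by one of the two subgroups of Q of order 3 other than Q₁ and Q₂. -/
theorem result
    (X : Sylow 2 (↥(alternatingGroup (Fin 4)) × ↥(alternatingGroup (Fin 4))))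
    (Q : Sylow 3 (↥(alternatingGroup (Fin 4)) × ↥(alternatingGroup (Fin 4))))
    (B : Subgroup (↥(alternatingGroup (Fin 4)) × ↥(alternatingGroup (Fin 4)))) (hBX : B ≤ (X : Subgroup _)) (hB4 : Nat.card ↥B = 4) :
    B ⊓ ((X : Subgroup _) ⊓ Subgroup.prod ⊤ ⊥) ≠ ⊥ ∨ B ⊓ ((X : Subgroup _) ⊓ Subgroup.prod ⊥ ⊤) ≠ ⊥ ∨
      ∃ R : Subgroup (↥(alternatingGroup (Fin 4)) × ↥(alternatingGroup (Fin 4))), R ≤ (Q : Subgroup _) ∧ Nat.card ↥R = 3 ∧
        R ≠ (Q : Subgroup _) ⊓ Subgroup.prod ⊤ ⊥ ∧ R ≠ (Q : Subgroup _) ⊓ Subgroup.prod ⊥ ⊤ ∧ R ≤ Subgroup.normalizer (B : Set _) := by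
  have hX : Nat.card (X : Subgroup (A4 × A4)) = 16 := by
    rw [X.card_eq_multiplicity, card_prod_A4]
    rw [show (144 : ℕ) = 2 ^ 4 * 9 from rfl, Nat.factorization_mul (by norm_num) (by norm_num),
      Nat.Prime.factorization_pow Nat.prime_two, Finsupp.add_apply, Finsupp.single_eq_same,
      Nat.factorization_eq_zero_of_not_dvd (show ¬ 2 ∣ 9 by norm_num)]
    norm_num
  have hQ : Nat.card (Q : Subgroup (A4 × A4)) = 9 := by
    rw [Q.card_eq_multiplicity, card_prod_A4]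
    rw [show (144 : ℕ) = 3 ^ 2 * 16 from rfl, Nat.factorization_mul (by norm_num) (by norm_num),
      Nat.Prime.factorization_pow Nat.prime_three, Finsupp.add_apply, Finsupp.single_eq_same,
      Nat.factorization_eq_zero_of_not_dvd (show ¬ 3 ∣ 16 by norm_num)]
    norm_num
  by_cases h1 : B ⊓ ((X : Subgroup _) ⊓ Subgroup.prod ⊤ ⊥) = ⊥
  swap; · exact Or.inl h1
  by_cases h2 : B ⊓ ((X : Subgroup _) ⊓ Subgroup.prod ⊥ ⊤) = ⊥
  swap; · exact Or.inr (Or.inl h2)
  refine Or.inr (Or.inr ?_)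
  have hsq : ∀ b ∈ B, b.1 * b.1 = 1 ∧ b.2 * b.2 = 1 := by
    intro b hb
    have h := pow_card_eq_one' (x := (⟨b, hBX hb⟩ : ↥(X : Subgroup (A4 × A4))))
    rw [hX] at h
    have h' : b ^ 16 = 1 := by simpa using congrArg Subtype.val h
    exact ⟨pow16 _ (congrArg Prod.fst h'), pow16 _ (congrArg Prod.snd h')⟩
  have hne : ∀ b ∈ B, b ≠ 1 → b.1 ≠ 1 ∧ b.2 ≠ 1 := by
    refine fun b hb hb1 => ⟨fun e => hb1 ?_, fun e => hb1 ?_⟩
    · refine Subgroup.mem_bot.mp (h2 ▸ ⟨hb, hBX hb, ?_⟩)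
      exact ⟨Subgroup.mem_bot.mpr e, Subgroup.mem_top _⟩
    · refine Subgroup.mem_bot.mp (h1 ▸ ⟨hb, hBX hb, ?_⟩)
      exact ⟨Subgroup.mem_top _, Subgroup.mem_bot.mpr e⟩
  -- two distinct nontrivial elements
  classical
  cases nonempty_fintype ↥B
  have hBc : Fintype.card ↥B = 4 := by rw [← Nat.card_eq_fintype_card, hB4]
  obtain ⟨⟨x, hxB⟩, -, hx⟩ := Finset.exists_mem_notMem_of_card_lt_card
    (s := ({1} : Finset ↥B)) (t := Finset.univ) (by rw [Finset.card_univ, hBc, Finset.card_singleton]; omega)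
  obtain ⟨⟨y, hyB⟩, -, hy⟩ := Finset.exists_mem_notMem_of_card_lt_card
    (s := ({1, ⟨x, hxB⟩} : Finset ↥B)) (t := Finset.univ) (by
      rw [Finset.card_univ, hBc]
      exact lt_of_le_of_lt (Finset.card_insert_le _ _) (by rw [Finset.card_singleton]; omega))
  simp only [Finset.mem_insert, Finset.mem_singleton, not_or, Subgroup.mk_eq_one, Subtype.mk.injEq] at hx hy
  obtain ⟨hy, hyx⟩ := hy
  have hdiff : y.1 ≠ x.1 ∧ y.2 ≠ x.2 := by
    have hxy : y * x ≠ 1 := fun e => hyx ((mul_eq_one_iff_eq_inv.mp e).trans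
      (Prod.ext (inv_eq_of_mul_eq_one_right (hsq x hxB).1) (inv_eq_of_mul_eq_one_right (hsq x hxB).2)))
    obtain ⟨a, b⟩ := hne _ (B.mul_mem hyB hxB) hxy
    exact ⟨fun e => a (by rw [Prod.fst_mul, e]; exact (hsq x hxB).1),
      fun e => b (by rw [Prod.snd_mul, e]; exact (hsq x hxB).2)⟩
  obtain ⟨z1, hz1, hz1n, hz1e⟩ := exists_ne_one_of_sylow hQ (MonoidHom.snd A4 A4)
  obtain ⟨z2, hz2, hz2n, hz2e⟩ := exists_ne_one_of_sylow hQ (MonoidHom.fst A4 A4)
  have hQ3 : ∀ z ∈ (Q : Subgroup (A4 × A4)), z.1 ^ 3 = 1 ∧ z.2 ^ 3 = 1 := by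
    intro z hz
    have h := pow_card_eq_one' (x := (⟨z, hz⟩ : ↥(Q : Subgroup (A4 × A4))))
    rw [hQ] at h
    have h' : z ^ 9 = 1 := by simpa using congrArg Subtype.val h
    exact ⟨pow9 _ (congrArg Prod.fst h'), pow9 _ (congrArg Prod.snd h')⟩
  have hq1 : z1.1 ≠ 1 := fun e => hz1n (Prod.ext e hz1e)
  have hq2 : z2.2 ≠ 1 := fun e => hz2n (Prod.ext hz2e e)
  obtain ⟨r, hr, hrx, hry⟩ := key_check x.1 (hsq x hxB).1 (hne x hxB hx).1 y.1 (hsq y hyB).1
    (hne y hyB hy).1 hdiff.1 x.2 (hsq x hxB).2 (hne x hxB hx).2 y.2 (hsq y hyB).2 (hne y hyB hy).2 hdiff.2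
    z1.1 (hQ3 z1 hz1).1 hq1 z2.2 (hQ3 z2 hz2).2 hq2
  have hz1' : (z1.1, (1 : A4)) = z1 := Prod.ext rfl hz1e.symm
  have hz2' : ((1 : A4), z2.2) = z2 := Prod.ext hz2e.symm rfl
  simp only [List.mem_cons, List.not_mem_nil, or_false] at hr hrx hry
  set g : A4 × A4 := (z1.1, r) with hg
  have hgQ : g ∈ (Q : Subgroup (A4 × A4)) := by
    rcases hr with rfl | rfl
    · have : g = z1 * z2 := by rw [← hz1', ← hz2', hg]; simp
      rw [this]; exact mul_mem hz1 hz2
    · have : g = z1 * z2 * z2 := by rw [← hz1', ← hz2', hg]; simp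
      rw [this]; exact mul_mem (mul_mem hz1 hz2) hz2
  have hg3 : orderOf g = 3 := orderOf_eq_prime_iff.mpr
    ⟨Prod.ext (hQ3 g hgQ).1 (hQ3 g hgQ).2, fun e => hq1 (congrArg Prod.fst e)⟩
  have hr1 : r ≠ 1 := by
    rcases hr with rfl | rfl
    · exact hq2
    · intro e
      apply hq2
      have h3 := (hQ3 z2 hz2).2
      rw [pow_succ, pow_two, e, one_mul] at h3
      exact h3
  refine ⟨Subgroup.zpowers g, Subgroup.zpowers_le.mpr hgQ, by rw [Nat.card_zpowers, hg3], ?_, ?_, ?_⟩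
  · intro e
    have := e ▸ Subgroup.mem_zpowers g
    exact hr1 (Subgroup.mem_bot.mp this.2.2)
  · intro e
    have := e ▸ Subgroup.mem_zpowers g
    exact hq1 (Subgroup.mem_bot.mp this.2.1)
  rw [Subgroup.zpowers_le]
  -- `B` consists of `1, x, y, x y`
  have hall : ∀ b ∈ B, b = 1 ∨ b = x ∨ b = y ∨ b = x * y := by
    have hxy1 : x * y ≠ 1 := fun e => hdiff.1 (by
      have := congrArg Prod.fst e
      exact (inv_eq_of_mul_eq_one_right this).symm.trans (inv_eq_of_mul_eq_one_right (hsq x hxB).1))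
    have huniv : ({1, ⟨x, hxB⟩, ⟨y, hyB⟩, ⟨x * y, B.mul_mem hxB hyB⟩} : Finset ↥B) = Finset.univ := by
      refine Finset.eq_univ_of_card _ ?_
      rw [hBc, Finset.card_insert_of_notMem, Finset.card_insert_of_notMem, Finset.card_insert_of_notMem,
        Finset.card_singleton]
      · simp only [Finset.mem_singleton, Subtype.mk.injEq]
        exact fun e => hx (by simpa using e.symm)
      · simp only [Finset.mem_insert, Finset.mem_singleton, Subtype.mk.injEq, not_or]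
        exact ⟨Ne.symm hyx, fun e => hy (by simpa using e.symm)⟩
      · simp only [Finset.mem_insert, Finset.mem_singleton, not_or]
        exact ⟨fun e => hx (congrArg Subtype.val e).symm, fun e => hy (congrArg Subtype.val e).symm,
          fun e => hxy1 (congrArg Subtype.val e).symm⟩
    intro b hb
    have := huniv ▸ Finset.mem_univ (⟨b, hb⟩ : ↥B)
    simpa only [Finset.mem_insert, Finset.mem_singleton, Subtype.ext_iff, OneMemClass.coe_one] using this
  suffices hconj : ∀ b ∈ B, g * b * g⁻¹ ∈ B by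
    exact Subgroup.mem_normalizer_fintype hconj
  intro b hb
  have cx : g * x * g⁻¹ ∈ B := by
    rcases hrx with e | e | e <;> rw [show g * x * g⁻¹ = _ from e]
    exacts [hxB, hyB, B.mul_mem hxB hyB]
  have cy : g * y * g⁻¹ ∈ B := by
    rcases hry with e | e | e <;> rw [show g * y * g⁻¹ = _ from e]
    exacts [hxB, hyB, B.mul_mem hxB hyB]
  rcases hall b hb with rfl | rfl | rfl | rfl
  · simp
  · exact cx
  · exact cy
  · rw [show g * (x * y) * g⁻¹ = (g * x * g⁻¹) * (g * y * g⁻¹) by group]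
    exact B.mul_mem cx cy

end Cfsg.Agent.S4406
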