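import Cfsg.Statements.S4407

set_option autoImplicit false
open Cfsg

namespace Cfsg.Agent.S4407

section Core

variable {S M : Type*} [Group S] [AddCommGroup M] [Module (ZMod 2) M] [Finite M] (ρ : Representation (ZMod 2) S M)

private lemma rho_mul (g h : S) (m : M) : ρ (g * h) m = ρ g (ρ h m) := by rw [map_mul]; rfl

private lemma add_self' (m : M) : m + m = 0 := by
  have := two_smul (ZMod 2) m
  rw [show (2 : ZMod 2) = 0 from rfl, zero_smul] at this
  exact this.symm

private lemma exists_fix (u : S) (hu : ∀ m, ρ u (ρ u m) = m) {U : Submodule (ZMod 2) M} (hU : ∀ m ∈ U, ρ u m ∈ U)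
    {w : M} (hw : w ∈ U) (hw0 : w ≠ 0) : ∃ v ∈ U, v ≠ 0 ∧ ρ u v = v := by
  by_cases h : ρ u w + w = 0
  · refine ⟨w, hw, hw0, ?_⟩
    calc ρ u w = ρ u w + (w + w) := by rw [add_self', add_zero]
      _ = (ρ u w + w) + w := by abel
      _ = w := by rw [h, zero_add]
  · exact ⟨ρ u w + w, U.add_mem (hU w hw) hw, h, by rw [map_add, hu, add_comm]⟩

private lemma core (a b r s : S) (hgen : Subgroup.closure {a, b, r, s} = ⊤)
    (hirr : ∀ N : Submodule (ZMod 2) M, (∀ g : S, ∀ m ∈ N, ρ g m ∈ N) → N = ⊥ ∨ N = ⊤)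
    (hb3 : b ^ 3 = 1) (hab : a * b = b * a) (hr : r ^ 4 = 1) (hs : s ^ 2 = 1) (hsr : s * r * s = r⁻¹)
    (hra : r * a * r⁻¹ = b) (hrb : r * b * r⁻¹ = a⁻¹) (hsa : s * a = a * s) (hsb : s * b * s = b⁻¹)
    (hA : ∀ m : M, ρ a m = m → ρ b m = m → m = 0)
    (w₀ : M) (hw₀ : ρ a w₀ = w₀) (hw₀0 : w₀ ≠ 0) :
    Nat.card M = 16 ∧
      Nat.card {m : M // ρ (r ^ 2) m = m ∧ ρ s m = m} = 4 ∧
      Nat.card {m : M // ρ (r ^ 2) m = m ∧ ρ (s * r) m = m} = 2 := by
  classical
  set z := r ^ 2 with hz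
  have hss : s * s = 1 := by rw [← pow_two, hs]
  have hsi : s⁻¹ = s := inv_eq_of_mul_eq_one_left hss
  have hzz : z * z = 1 := by rw [hz, ← pow_add, hr]
  have hzi : z⁻¹ = z := inv_eq_of_mul_eq_one_left hzz
  have hza : z * a * z = a⁻¹ := by
    calc z * a * z = z * a * z⁻¹ := by rw [hzi]
      _ = r * (r * a * r⁻¹) * r⁻¹ := by rw [hz, pow_two]; group
      _ = a⁻¹ := by rw [hra, hrb]
  have hzb : z * b * z = b⁻¹ := by
    calc z * b * z = z * b * z⁻¹ := by rw [hzi]
      _ = r * (r * b * r⁻¹) * r⁻¹ := by rw [hz, pow_two]; group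
      _ = (r * a * r⁻¹)⁻¹ := by rw [hrb]; group
      _ = b⁻¹ := by rw [hra]
  have hrsr : r⁻¹ * s * r = s * z := by
    calc r⁻¹ * s * r = (s * r * s) * s * r := by rw [hsr]
      _ = s * r * (s * s) * r := by group
      _ = s * z := by rw [hss, hz, pow_two]; group
  have hzs : z * s = s * z := by
    calc z * s = (r⁻¹)⁻¹ * (r * s) := by rw [hz, pow_two]; group
      _ = r * r * s := by group
      _ = s * (s * r * s) * (s * r * s) := by
          simp only [mul_assoc]; rw [← mul_assoc s s, hss, one_mul, ← mul_assoc s s, hss, one_mul]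
      _ = s * z⁻¹ := by rw [hsr, hz, pow_two]; group
      _ = s * z := by rw [hzi]
  set W : Submodule (ZMod 2) M := LinearMap.ker (ρ a - 1) with hW
  have hmemW : ∀ m, m ∈ W ↔ ρ a m = m := by
    intro m; simp [hW, sub_eq_zero]
  have hWb : ∀ m ∈ W, ρ b m ∈ W := by
    intro m hm
    rw [hmemW] at hm ⊢
    rw [← rho_mul, hab, rho_mul, hm]
  have hWs : ∀ m ∈ W, ρ s m ∈ W := by
    intro m hm
    rw [hmemW] at hm ⊢
    rw [← rho_mul, ← hsa, rho_mul, hm]
  have hainv : ∀ m ∈ W, ρ a⁻¹ m = m := by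
    intro m hm
    rw [hmemW] at hm
    conv_lhs => rw [← hm]
    rw [← rho_mul, inv_mul_cancel, map_one]; rfl
  have hWz : ∀ m ∈ W, ρ z m ∈ W := by
    intro m hm
    rw [hmemW]
    have e : a * z = z * a⁻¹ := by rw [← hza, ← mul_assoc, ← mul_assoc, hzz, one_mul]
    rw [← rho_mul, e, rho_mul, hainv m hm]
  -- an invariant piece
  have span : ∀ U : Submodule (ZMod 2) M, U ≤ W → (∀ m ∈ U, ρ b m ∈ U) → (∀ m ∈ U, ρ s m ∈ U) →
      (∀ m ∈ U, ρ z m ∈ U) → U ≠ ⊥ → ∀ x : M, ∃ p ∈ U, ∃ q ∈ U, p + ρ r q = x := by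
    intro U hU hb hs' hz' hne x
    set N : Submodule (ZMod 2) M := U ⊔ U.map (ρ r) with hN
    have key : ∀ g ∈ ({a, b, r, s} : Set S), ∀ m ∈ N, ρ g m ∈ N := by
      intro g hg m hm
      obtain ⟨p, hp, _, ⟨q, hq, rfl⟩, rfl⟩ := Submodule.mem_sup.mp hm
      rw [map_add, ← rho_mul]
      simp only [Set.mem_insert_iff, Set.mem_singleton_iff] at hg
      rcases hg with h | h | h | h <;> subst g
      · refine N.add_mem (Submodule.mem_sup_left (by rw [(hmemW p).mp (hU hp)]; exact hp)) ?_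
        have e : a * r = r * b⁻¹ := by
          rw [← inv_inv a, ← hrb]; group
        rw [e, rho_mul]
        refine Submodule.mem_sup_right ⟨_, ?_, rfl⟩
        have : b⁻¹ = b * b := inv_eq_of_mul_eq_one_left (by rw [← hb3]; simp [pow_succ, mul_assoc])
        rw [this, rho_mul]; exact hb _ (hb _ hq)
      · refine N.add_mem (Submodule.mem_sup_left (hb p hp)) ?_
        have e : b * r = r * a := by rw [← hra]; group
        rw [e, rho_mul, (hmemW q).mp (hU hq)]
        exact Submodule.mem_sup_right ⟨q, hq, rfl⟩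
      · refine N.add_mem (Submodule.mem_sup_right ⟨p, hp, rfl⟩) (Submodule.mem_sup_left ?_)
        rw [← pow_two]; exact hz' q hq
      · refine N.add_mem (Submodule.mem_sup_left (hs' p hp)) ?_
        have e : s * r = r * (s * z) := by rw [← hrsr]; group
        rw [e, rho_mul, rho_mul]
        exact Submodule.mem_sup_right ⟨_, hs' _ (hz' q hq), rfl⟩
    have hinv : ∀ g : S, ∀ m ∈ N, ρ g m ∈ N := by
      intro g
      have hg : g ∈ Subgroup.closure ({a, b, r, s} : Set S) := by rw [hgen]; trivial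
      induction hg using Subgroup.closure_induction with
      | mem x hx => exact key x hx
      | one => intro m hm; rw [map_one]; exact hm
      | mul x y _ _ hx hy => intro m hm; rw [rho_mul]; exact hx _ (hy m hm)
      | inv x _ hx =>
        intro m hm
        have hinj : Function.Injective (fun v : N => (⟨ρ x v, hx v v.2⟩ : N)) := by
          intro u v h
          apply Subtype.ext
          have h2 := congrArg (fun t : N => ρ x⁻¹ (t : M)) h
          simpa [← rho_mul] using h2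
        obtain ⟨v, hv⟩ := Finite.injective_iff_surjective.mp hinj ⟨m, hm⟩
        have hv' : ρ x v = m := congrArg Subtype.val hv
        rw [← hv', ← rho_mul, inv_mul_cancel, map_one]
        exact v.2
    have htop : N = ⊤ := (hirr N hinv).resolve_left fun h => hne (eq_bot_iff.mpr (h ▸ le_sup_left))
    obtain ⟨p, hp, _, ⟨q, hq, rfl⟩, hx⟩ := Submodule.mem_sup.mp (htop ▸ trivial : x ∈ N)
    exact ⟨p, hp, q, hq, hx⟩
  have hdisj : ∀ p ∈ W, ∀ q ∈ W, p + ρ r q = 0 → p = 0 ∧ q = 0 := by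
    intro p hp q hq h
    have hpq : p = ρ r q := by
      calc p = p + (ρ r q + ρ r q) := by rw [add_self', add_zero]
        _ = ρ r q := by rw [← add_assoc, h, zero_add]
    have hbp : ρ b p = p := by
      have e : b * r = r * a := by rw [← hra]; group
      rw [hpq, ← rho_mul, e, rho_mul, (hmemW q).mp hq]
    have hp0 := hA p ((hmemW p).mp hp) hbp
    refine ⟨hp0, ?_⟩
    have h2 := congrArg (ρ r⁻¹) hpq.symm
    rw [hp0, map_zero, ← rho_mul, inv_mul_cancel, map_one] at h2
    exact h2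
  -- s and z agree on W
  set U : Submodule (ZMod 2) M := W ⊓ LinearMap.ker (ρ (s * z) - 1) with hU
  have hmemU : ∀ m, m ∈ U ↔ m ∈ W ∧ ρ (s * z) m = m := by
    intro m; simp [hU, sub_eq_zero]
  have hszsz : (s * z) * (s * z) = 1 := by
    rw [mul_assoc, ← mul_assoc z s z, hzs, mul_assoc s z z, hzz, mul_one, hss]
  have hUne : U ≠ ⊥ := by
    obtain ⟨v, hv, hv0, hvf⟩ := exists_fix ρ (s * z) (fun m => by rw [← rho_mul, hszsz, map_one]; rfl)
      (U := W) (fun m hm => by rw [rho_mul]; exact hWs _ (hWz m hm)) ((hmemW w₀).mpr hw₀) hw₀0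
    intro h
    have : v ∈ U := (hmemU v).mpr ⟨hv, hvf⟩
    rw [h, Submodule.mem_bot] at this
    exact hv0 this
  have hUW : ∀ m ∈ W, ρ (s * z) m = m := by
    intro m hm
    obtain ⟨p, hp, q, hq, hpq⟩ := span U inf_le_left (fun m hm => by
        rw [hmemU] at hm ⊢
        refine ⟨hWb m hm.1, ?_⟩
        have e : s * z * b = b * (s * z) := by
          calc s * z * b = s * (z * b * z) * z := by
                simp only [mul_assoc]; rw [hzz, mul_one]
            _ = s * b⁻¹ * z := by rw [hzb]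
            _ = (s * b * s)⁻¹ * (s * z) := by rw [mul_inv_rev, mul_inv_rev, hsi]; simp only [mul_assoc]; rw [← mul_assoc s s, hss, one_mul]
            _ = b * (s * z) := by rw [hsb, inv_inv]
        rw [← rho_mul, e, rho_mul, hm.2])
      (fun m hm => by
        rw [hmemU] at hm ⊢
        refine ⟨hWs m hm.1, ?_⟩
        rw [← rho_mul, mul_assoc, hzs, rho_mul, hm.2])
      (fun m hm => by
        rw [hmemU] at hm ⊢
        refine ⟨hWz m hm.1, ?_⟩
        rw [← rho_mul, mul_assoc, hzz, mul_one]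
        have e2 : s = z * (s * z) := by rw [← mul_assoc, hzs, mul_assoc, hzz, mul_one]
        conv_lhs => rw [e2, rho_mul, hm.2])
      hUne m
    have h0 : (p + m) + ρ r q = 0 := by
      rw [add_right_comm, hpq, add_self']
    obtain ⟨h1, -⟩ := hdisj _ (W.add_mem hp.1 hm) q hq.1 h0
    have hpm : p = m := by
      calc p = p + (m + m) := by rw [add_self', add_zero]
        _ = m := by rw [← add_assoc, h1, zero_add]
    rw [← hpm]; exact ((hmemU p).mp hp).2
  have hzW : ∀ m ∈ W, ρ z m = ρ s m := by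
    intro m hm
    conv_rhs => rw [← hUW m hm, ← rho_mul, ← mul_assoc, hss, one_mul]
  obtain ⟨w, hw, hw0, hws⟩ := exists_fix ρ s (fun m => by rw [← rho_mul, hss, map_one]; rfl) hWs
    ((hmemW w₀).mpr hw₀) hw₀0
  have hbw : ρ b w ∈ W := hWb w hw
  have htr : ∀ m ∈ W, m + ρ b m + ρ b (ρ b m) = 0 := by
    intro m hm
    refine hA _ ?_ ?_
    · rw [map_add, map_add, (hmemW m).mp hm, (hmemW _).mp (hWb m hm), (hmemW _).mp (hWb _ (hWb m hm))]
    · have : ρ b (ρ b (ρ b m)) = m := by
        rw [← rho_mul, ← rho_mul, show b * b * b = b ^ 3 by simp [pow_succ], hb3, map_one]; rfl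
      rw [map_add, map_add, this]; abel
  have hbb : ρ b (ρ b w) = w + ρ b w := by
    calc ρ b (ρ b w) = (w + ρ b w) + (w + ρ b w) + ρ b (ρ b w) := by rw [add_self', zero_add]
      _ = (w + ρ b w) + (w + ρ b w + ρ b (ρ b w)) := by abel
      _ = w + ρ b w := by rw [htr w hw, add_zero]
  set P : Submodule (ZMod 2) M := Submodule.span (ZMod 2) {w, ρ b w} with hP
  have hPmem : ∀ m, m ∈ P ↔ m = 0 ∨ m = w ∨ m = ρ b w ∨ m = w + ρ b w := by
    intro m
    rw [hP, Submodule.mem_span_pair]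
    constructor
    · rintro ⟨x, y, rfl⟩
      have h2 : ∀ t : ZMod 2, t = 0 ∨ t = 1 := by decide
      rcases h2 x with rfl | rfl <;> rcases h2 y with rfl | rfl <;> simp
    · rintro (rfl | rfl | rfl | rfl)
      · exact ⟨0, 0, by simp⟩
      · exact ⟨1, 0, by simp⟩
      · exact ⟨0, 1, by simp⟩
      · exact ⟨1, 1, by simp⟩
  have hPW : P ≤ W := by
    rw [hP, Submodule.span_le]
    rintro _ (rfl | rfl)
    · exact hw
    · exact hbw
  have hsbw : ρ s (ρ b w) = w + ρ b w := by
    have e : s * b = b * b * s := by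
      calc s * b = s * b * s * s := by rw [mul_assoc _ s s, hss, mul_one]
        _ = b * b * s := by rw [hsb, inv_eq_of_mul_eq_one_left (show b * b * b = 1 by rw [← hb3]; simp [pow_succ])]
    rw [← rho_mul, e, rho_mul, rho_mul, hws, hbb]
  have hfix1 : ∀ m ∈ P, ρ s m = m ↔ m = 0 ∨ m = w := by
    intro m hm
    have hne : w + ρ b w ≠ ρ b w := fun h => hw0 (by simpa using h)
    rcases (hPmem m).mp hm with rfl | rfl | rfl | rfl
    · simp
    · simp [hws]
    · constructor
      · intro h; rw [hsbw] at h; exact absurd h hne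
      · rintro (h | h) <;> rw [h] <;> simp [hws]
    · constructor
      · intro h; rw [map_add, hws, hsbw, ← add_assoc, add_self', zero_add] at h; exact absurd h.symm hne
      · rintro (h | h) <;> rw [h] <;> simp [hws]
  have hPs : ∀ m ∈ P, ρ s m ∈ P := by
    intro m hm
    rw [hPmem]
    rcases (hPmem m).mp hm with rfl | rfl | rfl | rfl
    · simp
    · simp [hws]
    · simp [hsbw]
    · right; right; left
      rw [map_add, hws, hsbw, ← add_assoc, add_self', zero_add]
  have hPb : ∀ m ∈ P, ρ b m ∈ P := by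
    intro m hm
    rw [hPmem]
    rcases (hPmem m).mp hm with rfl | rfl | rfl | rfl
    · simp
    · simp
    · simp [hbb]
    · right; left
      rw [map_add, hbb, add_left_comm, add_self', add_zero]
  have hPspan := span P hPW hPb hPs (fun m hm => by rw [hzW m (hPW hm)]; exact hPs m hm)
    (fun h => hw0 (by
      have : w ∈ P := (hPmem w).mpr (by simp)
      rw [h, Submodule.mem_bot] at this; exact this))
  let e : P × P → M := fun x => (x.1 : M) + ρ r x.2
  have heinj : Function.Injective e := by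
    rintro ⟨p, q⟩ ⟨p', q'⟩ h
    obtain ⟨h1, h2⟩ := hdisj ((p : M) - p') (W.sub_mem (hPW p.2) (hPW p'.2)) ((q : M) - q')
      (W.sub_mem (hPW q.2) (hPW q'.2)) (by
        rw [map_sub]
        change (p : M) + ρ r q = p' + ρ r q' at h
        calc (p : M) - p' + (ρ r q - ρ r q') = ((p : M) + ρ r q) - (p' + ρ r q') := by abel
          _ = 0 := by rw [h, sub_self])
    exact Prod.ext (Subtype.ext (sub_eq_zero.mp h1)) (Subtype.ext (sub_eq_zero.mp h2))
  have hebij : Function.Bijective e := ⟨heinj, fun x => by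
    obtain ⟨p, hp, q, hq, h⟩ := hPspan x; exact ⟨(⟨p, hp⟩, ⟨q, hq⟩), h⟩⟩
  have hwbw : w ≠ ρ b w := fun h => hw0 (hA w ((hmemW w).mp hw) h.symm)
  have hbw0 : ρ b w ≠ 0 := fun h => hwbw (by
    have := hbb
    rw [h, map_zero, add_zero] at this
    rw [h]; exact this.symm)
  have hPc : Nat.card P = 4 := by
    have he : (P : Set M) = ↑({0, w, ρ b w, w + ρ b w} : Finset M) := by
      ext m; simpa using hPmem m
    rw [← SetLike.coe_sort_coe, Nat.card_coe_set_eq, he, Set.ncard_coe_finset]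
    have h1 : w + ρ b w ≠ 0 := fun h => hwbw (by
      calc w = w + ρ b w + ρ b w := by rw [add_assoc, add_self', add_zero]
        _ = ρ b w := by rw [h, zero_add])
    simp [hw0.symm, hbw0.symm, hwbw, h1.symm, hbw0, hw0]
  have hzr : ∀ q ∈ P, ρ z (ρ r q) = ρ r (ρ s q) := by
    intro q hq
    rw [← rho_mul, hz, ← pow_succ, pow_succ', rho_mul, ← hz, hzW q (hPW hq)]
  have hiff : ∀ p q : P, (ρ z (e (p, q)) = e (p, q) ↔ ρ s (p : M) = p ∧ ρ s (q : M) = q) := by
    intro p q
    show ρ z ((p : M) + ρ r q) = _ ↔ _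
    rw [map_add, hzr q q.2, hzW p (hPW p.2)]
    constructor
    · intro h
      have := @heinj (⟨_, hPs p p.2⟩, ⟨_, hPs q q.2⟩) (p, q) h
      exact ⟨congrArg (fun x : P × P => (x.1 : M)) this, congrArg (fun x : P × P => (x.2 : M)) this⟩
    · rintro ⟨h1, h2⟩; rw [h1, h2]
  have hcard2 : Nat.card {p : P // ρ s (p : M) = p} = 2 := by
    have he : {p : P | ρ s (p : M) = p} = {0, ⟨w, (hPmem w).mpr (by simp)⟩} := by
      ext p
      simp only [Set.mem_setOf_eq, Set.mem_insert_iff, Set.mem_singleton_iff, Subtype.ext_iff, ZeroMemClass.coe_zero]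
      exact hfix1 p p.2
    rw [← Set.coe_setOf, Nat.card_coe_set_eq, he, Set.ncard_pair]
    simp [Subtype.ext_iff, hw0.symm]
  refine ⟨?_, ?_, ?_⟩
  · rw [← Nat.card_congr (Equiv.ofBijective e hebij), Nat.card_prod, hPc]
  · have h1 : ∀ x : P × P, (ρ s (x.1 : M) = x.1 ∧ ρ s (x.2 : M) = x.2) ↔ (ρ z (e x) = e x ∧ ρ s (e x) = e x) := by
      rintro ⟨p, q⟩
      rw [hiff]
      refine ⟨fun h => ⟨h, ?_⟩, fun h => h.1⟩
      show ρ s ((p : M) + ρ r q) = _
      have e' : s * r = r * (s * z) := by rw [← hrsr]; group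
      rw [map_add, h.1, ← rho_mul, e', rho_mul, hUW q (hPW q.2)]
    let F : {p : P // ρ s (p : M) = p} × {p : P // ρ s (p : M) = p} → {m : M // ρ z m = m ∧ ρ s m = m} :=
      fun x => ⟨e (x.1.1, x.2.1), (h1 _).mp ⟨x.1.2, x.2.2⟩⟩
    have hF : Function.Bijective F := by
      refine ⟨fun x y h => ?_, fun m => ?_⟩
      · have := heinj (congrArg Subtype.val h)
        simp only [Prod.mk.injEq] at this
        exact Prod.ext (Subtype.ext this.1) (Subtype.ext this.2)
      · obtain ⟨⟨p, q⟩, hpq⟩ := hebij.2 m.1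
        have hm := (h1 (p, q)).mpr (by rw [hpq]; exact m.2)
        exact ⟨(⟨p, hm.1⟩, ⟨q, hm.2⟩), Subtype.ext hpq⟩
    rw [← Nat.card_congr (Equiv.ofBijective F hF), Nat.card_prod, hcard2]
  · have h2 : ∀ p q : P, ρ (s * r) (e (p, q)) = (q : M) + ρ r p := by
      intro p q
      show ρ (s * r) ((p : M) + ρ r q) = _
      have e' : s * r = r * (s * z) := by rw [← hrsr]; group
      rw [map_add, ← rho_mul, mul_assoc, ← pow_two, ← hz, hUW q (hPW q.2), add_comm]
      congr 1
      rw [e', rho_mul, hUW p (hPW p.2)]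
    let F : {p : P // ρ s (p : M) = p} → {m : M // ρ z m = m ∧ ρ (s * r) m = m} := fun p =>
      ⟨e (p.1, p.1), (hiff p.1 p.1).mpr ⟨p.2, p.2⟩, by rw [h2]⟩
    have hF : Function.Bijective F := by
      refine ⟨fun x y h => ?_, fun m => ?_⟩
      · have := heinj (congrArg Subtype.val h)
        simp only [Prod.mk.injEq] at this
        exact Subtype.ext this.1
      · obtain ⟨⟨p, q⟩, hpq⟩ := hebij.2 m.1
        have hm1 := (hiff p q).mp (by rw [hpq]; exact m.2.1)
        have h3 : e (q, p) = e (p, q) := by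
          show (q : M) + ρ r p = _
          rw [← h2 p q, hpq]; exact m.2.2
        have hpq' := congrArg Prod.fst (heinj h3)
        refine ⟨⟨p, hm1.1⟩, Subtype.ext ?_⟩
        show e (p, p) = m.1
        rw [← hpq]
        simp only at hpq'
        rw [hpq']
    rw [← Nat.card_congr (Equiv.ofBijective F hF), hcard2]

end Core

private lemma d4_four : ∀ g h : DihedralGroup 4, g * g = 1 → h * h = 1 → g * h = h * g →
    (g ∈ [1, DihedralGroup.r 2, DihedralGroup.sr 0, DihedralGroup.sr 2] ∧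
      h ∈ [1, DihedralGroup.r 2, DihedralGroup.sr 0, DihedralGroup.sr 2]) ∨
    (g ∈ [1, DihedralGroup.r 2, DihedralGroup.sr 1, DihedralGroup.sr 3] ∧
      h ∈ [1, DihedralGroup.r 2, DihedralGroup.sr 1, DihedralGroup.sr 3]) := by decide

private lemma d4_four' {s : Set (DihedralGroup 4)} (hsq : ∀ g ∈ s, g * g = 1)
    (hc : ∀ g ∈ s, ∀ h ∈ s, g * h = h * g) :
    (∀ g ∈ s, g ∈ [1, DihedralGroup.r 2, DihedralGroup.sr 0, DihedralGroup.sr 2]) ∨
    (∀ g ∈ s, g ∈ [1, DihedralGroup.r 2, DihedralGroup.sr 1, DihedralGroup.sr 3]) := by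
  by_contra hcon
  push Not at hcon
  obtain ⟨⟨g, hg, hg'⟩, ⟨h, hh, hh'⟩⟩ := hcon
  rcases d4_four g h (hsq g hg) (hsq h hh) (hc g hg h hh) with ⟨h1, -⟩ | ⟨-, h2⟩
  · exact hg' h1
  · exact hh' h2

private lemma cube_sq {G : Type*} [Group G] {x : G} (h : x ^ 3 = 1) : x⁻¹ = x * x :=
  inv_eq_of_mul_eq_one_left (by rw [← h]; simp [pow_succ, mul_assoc])


/-- Let S be a finite group with a normal elementary abelian subgroup A of order 9 that is self-centralizing (C_S(A) = A), and a dihedral subgroup X of order 8 with S = AX. Let M be a finite-dimensional module for S over the field with two elements that is faithful and irreducible. Then M has 16 elements, and X contains exactly one subgroup B of order 4 and exponent 2 whose fixed points on M form a subspace with exactly 2 elements (equivalently, M is free of rank one over the group algebra of B). -/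
theorem result {S : Type*} [Group S] [Finite S]
    (A : Subgroup S) [A.Normal] (hA : Cfsg.IsElementaryAbelian 3 A) (hA9 : Nat.card ↥A = 9)
    (hAC : Subgroup.centralizer (A : Set S) = A) (X : Subgroup S) (hX : Nonempty (↥X ≃* DihedralGroup 4)) (hAX : A ⊔ X = ⊤)
    {M : Type*} [AddCommGroup M] [Module (ZMod 2) M] [Finite M] (ρ : Representation (ZMod 2) S M)
    (hfaith : Function.Injective ρ)
    (hirr : ∀ N : Submodule (ZMod 2) M, (∀ s : S, ∀ m ∈ N, ρ s m ∈ N) → N = ⊥ ∨ N = ⊤) (hM : Nontrivial M) :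
    Nat.card M = 16 ∧
      ∃! B : Subgroup S, B ≤ X ∧ Nat.card ↥B = 4 ∧ (∀ b ∈ B, b ^ 2 = 1) ∧
        Nat.card {m : M // ∀ b ∈ B, ρ b m = m} = 2 := by
  classical
  obtain ⟨hAc, hA3⟩ := hA
  obtain ⟨eX⟩ := hX
  let φ : DihedralGroup 4 →* S := X.subtype.comp eX.symm.toMonoidHom
  have hφi : Function.Injective φ := X.subtype_injective.comp eX.symm.injective
  have hφr : ∀ g, φ g ∈ X := fun g => (eX.symm g).2
  have hφs : ∀ x ∈ X, ∃ g, φ g = x := fun x hx => ⟨eX ⟨x, hx⟩, by simp [φ]⟩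
  set r := φ (DihedralGroup.r 1) with hr_def
  set s := φ (DihedralGroup.sr 0) with hs_def
  have hr4 : r ^ 4 = 1 := by rw [hr_def, ← map_pow, show DihedralGroup.r (1 : ZMod 4) ^ 4 = 1 by decide, map_one]
  have hs2 : s ^ 2 = 1 := by rw [hs_def, ← map_pow, show (DihedralGroup.sr (0 : ZMod 4)) ^ 2 = 1 by decide, map_one]
  have hsrs : s * r * s = r⁻¹ := by
    rw [hr_def, hs_def, ← map_mul, ← map_mul, ← map_inv]
    exact congrArg φ (by decide)
  have hgenX : X ≤ Subgroup.closure {r, s} := by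
    intro x hx
    obtain ⟨g, rfl⟩ := hφs x hx
    have key : ∀ g : DihedralGroup 4, g ∈ [1, DihedralGroup.r 1, DihedralGroup.r 1 ^ 2, DihedralGroup.r 1 ^ 3,
        DihedralGroup.sr 0, DihedralGroup.sr 0 * DihedralGroup.r 1, DihedralGroup.sr 0 * DihedralGroup.r 1 ^ 2,
        DihedralGroup.sr 0 * DihedralGroup.r 1 ^ 3] := by decide
    have hr' : r ∈ Subgroup.closure {r, s} := Subgroup.subset_closure (by simp)
    have hs' : s ∈ Subgroup.closure {r, s} := Subgroup.subset_closure (by simp)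
    have hg := key g
    simp only [List.mem_cons, List.not_mem_nil, or_false] at hg
    rcases hg with h | h | h | h | h | h | h | h <;> rw [h] <;>
      simp only [map_one, map_mul, map_pow, ← hr_def, ← hs_def] <;>
      first
        | exact one_mem _
        | exact hr'
        | exact hs'
        | exact pow_mem hr' _
        | exact mul_mem hs' hr'
        | exact mul_mem hs' (pow_mem hr' _)
  have hcomm : ∀ x ∈ A, ∀ y ∈ A, x * y = y * x := fun x hx y hy =>
    congrArg Subtype.val (hAc.is_comm.comm (⟨x, hx⟩ : A) ⟨y, hy⟩)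
  have hAX' := hAX
  have hint : ∀ x ∈ X, x ∈ A → x = 1 := by
    intro x hx hxA
    obtain ⟨g, rfl⟩ := hφs x hx
    have h3 : g ^ 3 = 1 := hφi (by rw [map_pow, map_one]; exact hA3 _ hxA)
    have key : ∀ g : DihedralGroup 4, g ^ 3 = 1 → g = 1 := by decide
    rw [key g h3, map_one]
  have hcent : ∀ x ∈ X, (∀ y ∈ A, x * y = y * x) → x = 1 := by
    intro x hx h
    refine hint x hx ?_
    rw [← hAC, Subgroup.mem_centralizer_iff]
    exact fun y hy => (h y hy).symm
  set z := r ^ 2 with hz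
  have hrX : r ∈ X := hφr _
  have hsX : s ∈ X := hφr _
  have hzX : z ∈ X := pow_mem hrX 2
  have hz1 : z ≠ 1 := by
    rw [hz, hr_def, ← map_pow, ← map_one φ]
    exact fun h => absurd (hφi h) (by decide)
  have hzz : z * z = 1 := by rw [hz, ← pow_add, hr4]
  have hzi : z⁻¹ = z := inv_eq_of_mul_eq_one_left hzz
  have hss : s * s = 1 := by rw [← pow_two, hs2]
  have hsi : s⁻¹ = s := inv_eq_of_mul_eq_one_left hss
  have hconj : ∀ g : S, ∀ y ∈ A, g * y * g⁻¹ ∈ A := fun g y hy => (inferInstance : A.Normal).conj_mem y hy g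
  -- z inverts A
  have hzA : ∀ y ∈ A, z * y * z = y⁻¹ := by
    by_contra hcon
    push Not at hcon
    obtain ⟨y, hy, hyne⟩ := hcon
    have hyz : z * y * z ∈ A := by have := hconj z y hy; rwa [hzi] at this
    set c := y * (z * y * z) with hc
    have hc1 : c ≠ 1 := fun h => hyne (eq_inv_of_mul_eq_one_right h)
    have hcA : c ∈ A := mul_mem hy hyz
    have hzc : z * c * z = c := by
      have e : z * c * z = (z * y * z) * y := by
        rw [hc]; simp only [mul_assoc]; rw [hzz, mul_one]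
      rw [e, hcomm _ hyz y hy]
    obtain ⟨w, hw, hwne⟩ : ∃ w ∈ A, z * w ≠ w * z := by
      by_contra h
      push Not at h
      exact hz1 (hcent z hzX h)
    have hwz : z * w * z ∈ A := by have := hconj z w hw; rwa [hzi] at this
    set d := w⁻¹ * (z * w * z) with hd
    have hdA : d ∈ A := mul_mem (inv_mem hw) hwz
    have hd1 : d ≠ 1 := fun h => hwne (by
      have h' := inv_mul_eq_one.mp h
      calc z * w = z * w * z * z := by rw [mul_assoc _ z z, hzz, mul_one]
        _ = w * z := by rw [← h'])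
    have hzd : z * d * z = d⁻¹ := by
      rw [hd, mul_inv_rev, inv_inv]
      calc z * (w⁻¹ * (z * w * z)) * z = (z * w⁻¹ * z) * (w * (z * z)) := by simp only [mul_assoc]
        _ = (z * w * z)⁻¹ * w := by rw [hzz, mul_one, mul_inv_rev, mul_inv_rev, hzi, mul_assoc z w⁻¹ z]
    let D : Subgroup S :=
      { carrier := {x | x ∈ A ∧ z * x * z = x⁻¹}
        one_mem' := ⟨one_mem _, by simp [hzz]⟩
        mul_mem' := by
          rintro x x' ⟨hx, hx2⟩ ⟨hx', hx2'⟩
          refine ⟨mul_mem hx hx', ?_⟩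
          calc z * (x * x') * z = (z * x * z) * (z * x' * z) := by
                simp only [mul_assoc]; rw [← mul_assoc z z, hzz, one_mul]
            _ = (x * x')⁻¹ := by rw [hx2, hx2', ← mul_inv_rev, hcomm x' hx' x hx]
        inv_mem' := by
          rintro x ⟨hx, hx2⟩
          refine ⟨inv_mem hx, ?_⟩
          calc z * x⁻¹ * z = (z * x * z)⁻¹ := by rw [mul_inv_rev, mul_inv_rev, hzi, mul_assoc]
            _ = x⁻¹⁻¹ := by rw [hx2] }
    have hdD : d ∈ D := ⟨hdA, hzd⟩
    have hDle : D ≤ A := fun x hx => hx.1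
    have hDne : Nat.card D ≠ 9 := by
      intro h
      have h' : D = A := Subgroup.eq_of_le_of_card_ge hDle (by rw [h, hA9])
      have h1 : z * c * z = c⁻¹ := (h' ▸ hcA : c ∈ D).2
      rw [hzc] at h1
      apply hc1
      have h2 : c * c = 1 := by nth_rw 2 [h1]; exact mul_inv_cancel c
      calc c = c ^ 3 * (c * c)⁻¹ := by simp [pow_succ, mul_assoc]
        _ = 1 := by rw [hA3 c hcA, h2]; simp
    have hzp : Nat.card (Subgroup.zpowers d) = 3 := by
      rw [Nat.card_zpowers]
      haveI : Fact (Nat.Prime 3) := ⟨Nat.prime_three⟩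
      exact orderOf_eq_prime (hA3 d hdA) hd1
    have hD3 : Nat.card D = 3 := by
      have h1 : Nat.card D ∣ 9 := hA9 ▸ Subgroup.card_dvd_of_le hDle
      have h2 : 3 ∣ Nat.card D := hzp ▸ Subgroup.card_dvd_of_le (Subgroup.zpowers_le.mpr hdD)
      have hle := Nat.le_of_dvd (by norm_num) h1
      generalize Nat.card D = k at hDne h1 h2 hle ⊢
      interval_cases k <;> omega
    have hDz : D = Subgroup.zpowers d :=
      (Subgroup.eq_of_le_of_card_ge (Subgroup.zpowers_le.mpr hdD) (by rw [hD3, hzp])).symm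
    have hrz : z * r = r * z := by rw [hz, ← pow_succ, ← pow_succ']
    have hrzi : r⁻¹ * z = z * r⁻¹ := by
      rw [eq_mul_inv_iff_mul_eq, mul_assoc, hrz, ← mul_assoc, inv_mul_cancel, one_mul]
    have hrd : r * d * r⁻¹ ∈ Subgroup.zpowers d := by
      rw [← hDz]
      refine ⟨hconj r d hdA, ?_⟩
      calc z * (r * d * r⁻¹) * z = (z * r) * d * (r⁻¹ * z) := by simp only [mul_assoc]
        _ = r * (z * d * z) * r⁻¹ := by rw [hrz, hrzi]; simp only [mul_assoc]
        _ = (r * d * r⁻¹)⁻¹ := by rw [hzd]; group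
    obtain ⟨k, hk⟩ := mem_powers_iff_mem_zpowers.mpr hrd
    simp only at hk
    have h2 : z * d * z⁻¹ = d ^ (k * k) := by
      calc z * d * z⁻¹ = r * (r * d * r⁻¹) * r⁻¹ := by rw [hz, pow_two]; group
        _ = r * d ^ k * r⁻¹ := by rw [hk]
        _ = (r * d * r⁻¹) ^ k := conj_pow.symm
        _ = d ^ (k * k) := by rw [← hk, ← pow_mul]
    rw [hzi, hzd] at h2
    have h3 : d ^ (k * k + 1) = 1 := by rw [pow_succ, ← h2, inv_mul_cancel]
    have h4 : orderOf d = 3 := by rw [← hzp, Nat.card_zpowers]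
    have h5 := orderOf_dvd_of_pow_eq_one h3
    rw [h4] at h5
    have : ∀ t : ℕ, ¬ 3 ∣ t * t + 1 := by
      intro t h
      have h6 : (t * t + 1) % 3 = 0 := Nat.mod_eq_zero_of_dvd h
      rw [Nat.add_mod, Nat.mul_mod] at h6
      have := Nat.mod_lt t (show 3 > 0 by norm_num)
      interval_cases t % 3 <;> simp at h6
    exact this k h5
  -- the fixed point of s
  obtain ⟨a₀, ha₀, ha₀1, hsa₀⟩ : ∃ a ∈ A, a ≠ 1 ∧ s * a * s = a := by
    by_contra h
    push Not at h
    have hinv : ∀ y ∈ A, s * y * s = y⁻¹ := by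
      intro y hy
      have hy' : s * y * s ∈ A := by have := hconj s y hy; rwa [hsi] at this
      by_contra hne
      refine h (y * (s * y * s)) (mul_mem hy hy') (fun h' => hne (eq_inv_of_mul_eq_one_right h')) ?_
      rw [hcomm y hy _ hy']
      calc s * (s * y * s * y) * s = (s * s) * y * (s * y * s) := by simp only [mul_assoc]
        _ = s * y * s * y := by rw [hss, one_mul, hcomm y hy _ hy']
    have hsz : s * z = 1 := hcent (s * z) (mul_mem hsX hzX) fun y hy => by
      have : s * z * y * (z * s) = y := by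
        calc s * z * y * (z * s) = s * (z * y * z) * s := by simp only [mul_assoc]
          _ = y := by rw [hzA y hy, hinv _ (inv_mem hy), inv_inv]
      calc s * z * y = s * z * y * (z * s) * (s * z) := by
            simp only [mul_assoc]; rw [← mul_assoc s s, hss, one_mul, hzz, mul_one]
        _ = y * (s * z) := by rw [this]
    rw [hz, hs_def, hr_def, ← map_pow, ← map_mul, ← map_one φ] at hsz
    exact absurd (hφi hsz) (by decide)
  obtain ⟨b₀, hb₀def⟩ : ∃ b, b = r * a₀ * r⁻¹ := ⟨_, rfl⟩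
  have hb₀ : b₀ ∈ A := hb₀def ▸ hconj r a₀ ha₀
  have hrb₀ : r * b₀ * r⁻¹ = a₀⁻¹ := by
    rw [hb₀def, ← hzA a₀ ha₀]
    conv_rhs => arg 2; rw [← hzi]
    rw [hz, pow_two]; group
  have hsb₀ : s * b₀ * s = b₀⁻¹ := by
    have e1 : s * r = r⁻¹ * s := by rw [← hsrs, mul_assoc, hss, mul_one]
    have e2 : r⁻¹ * s = s * r := e1.symm
    have e3 : r⁻¹ * s * r⁻¹⁻¹ = s * z := by rw [e2, inv_inv, mul_assoc, ← pow_two]
    calc s * b₀ * s = (s * r) * a₀ * (r⁻¹ * s) := by rw [hb₀def]; simp only [mul_assoc]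
      _ = r⁻¹ * (s * a₀ * s) * r := by rw [e1, mul_assoc (r⁻¹) s, ← e1]; simp only [mul_assoc]
      _ = r⁻¹ * a₀ * r := by rw [hsa₀]
      _ = r * (z⁻¹ * a₀ * z) * r⁻¹ := by rw [hz, pow_two]; group
      _ = b₀⁻¹ := by rw [hzi, hzA a₀ ha₀, hb₀def]; group
  have hb₀n : b₀ ∉ Subgroup.zpowers a₀ := by
    intro h
    have hfix : s * b₀ * s⁻¹ = b₀ := by
      obtain ⟨k, hk⟩ := h
      simp only at hk
      rw [← hk, ← conj_zpow, hsi, hsa₀]
    rw [hsi, hsb₀] at hfix
    have hb1 : b₀ = 1 := by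
      have h2 : b₀ * b₀ = 1 := by nth_rw 1 [← hfix]; exact inv_mul_cancel b₀
      calc b₀ = b₀ ^ 3 * (b₀ * b₀)⁻¹ := by simp [pow_succ, mul_assoc]
        _ = 1 := by rw [hA3 b₀ hb₀, h2]; simp
    apply ha₀1
    rw [hb₀def] at hb1
    have := congrArg (fun x => r⁻¹ * x * r) hb1
    simpa [mul_assoc] using this
  have hAgen : A ≤ Subgroup.closure {a₀, b₀} := by
    haveI : Fact (Nat.Prime 3) := ⟨Nat.prime_three⟩
    have hle : Subgroup.closure {a₀, b₀} ≤ A := by
      rw [Subgroup.closure_le]; rintro x (rfl | rfl) <;> assumption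
    have h3 : Nat.card (Subgroup.zpowers a₀) = 3 := by
      rw [Nat.card_zpowers]; exact orderOf_eq_prime (hA3 _ ha₀) ha₀1
    have hlt : Subgroup.zpowers a₀ < Subgroup.closure {a₀, b₀} := by
      refine lt_of_le_of_ne (Subgroup.zpowers_le.mpr (Subgroup.subset_closure (by simp))) fun h => hb₀n ?_
      rw [h]; exact Subgroup.subset_closure (by simp)
    have h9 : Nat.card A ≤ Nat.card (Subgroup.closure {a₀, b₀}) := by
      have hd := Subgroup.card_dvd_of_le hle
      have h1 := Subgroup.card_dvd_of_le hlt.le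
      have h2 : Nat.card (Subgroup.zpowers a₀) < Nat.card (Subgroup.closure {a₀, b₀}) :=
        lt_of_le_of_ne (Subgroup.card_le_of_le hlt.le) fun h => hlt.ne (Subgroup.eq_of_le_of_card_ge hlt.le h.ge)
      rw [h3] at h1 h2
      rw [hA9] at hd ⊢
      have hle9 := Nat.le_of_dvd (by norm_num) hd
      generalize Nat.card (Subgroup.closure {a₀, b₀}) = k at h1 h2 hd hle9 ⊢
      interval_cases k <;> omega
    exact (Subgroup.eq_of_le_of_card_ge hle h9).ge
  have hA0 : ∀ m : M, ρ a₀ m = m → ρ b₀ m = m → m = 0 := by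
    intro m hma hmb
    let N : Submodule (ZMod 2) M :=
      { carrier := {v | ∀ y ∈ A, ρ y v = v}
        zero_mem' := fun y _ => map_zero _
        add_mem' := fun hu hv y hy => by rw [map_add, hu y hy, hv y hy]
        smul_mem' := fun c v hv y hy => by rw [map_smul, hv y hy] }
    have hN : ∀ g : S, ∀ v ∈ N, ρ g v ∈ N := by
      intro g v hv y hy
      have h := hv (g⁻¹ * y * g) (by have := hconj g⁻¹ y hy; rwa [inv_inv] at this)
      calc ρ y (ρ g v) = ρ (g * (g⁻¹ * y * g)) v := by rw [← rho_mul]; group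
        _ = ρ g v := by rw [rho_mul, h]
    have hmN : m ∈ N := by
      intro y hy
      have hy' := hAgen hy
      induction hy' using Subgroup.closure_induction with
      | mem x hx => rcases hx with rfl | rfl <;> assumption
      | one => rw [map_one]; rfl
      | mul x x' hx hx' hh hh' =>
        rw [rho_mul, hh' (by
          refine (Subgroup.closure_le A).mpr ?_ hx'
          rintro _ (rfl | rfl) <;> assumption), hh (by
          refine (Subgroup.closure_le A).mpr ?_ hx
          rintro _ (rfl | rfl) <;> assumption)]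
      | inv x hx hh =>
        have hxA : x ∈ A := by simpa using inv_mem hy
        conv_lhs => rw [← hh hxA]
        rw [← rho_mul, inv_mul_cancel, map_one]; rfl
    rcases hirr N hN with h | h
    · rw [h, Submodule.mem_bot] at hmN; exact hmN
    · exfalso
      apply ha₀1
      apply hfaith
      rw [map_one]
      ext v
      exact (h ▸ trivial : v ∈ N) a₀ ha₀
  have hab₀ : a₀ * b₀ = b₀ * a₀ := hcomm _ ha₀ _ hb₀
  -- choice of a line with fixed points
  obtain ⟨a, b, t, htX, ht2, htr, htD, hra, hrb, hta, htb, hb3, habc, hA', hfix⟩ : ∃ a b t : S, t ∈ X ∧ t ^ 2 = 1 ∧ t * r * t = r⁻¹ ∧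
      (t = φ (DihedralGroup.sr 0) ∨ t = φ (DihedralGroup.sr 3)) ∧ r * a * r⁻¹ = b ∧ r * b * r⁻¹ = a⁻¹ ∧
      t * a = a * t ∧ t * b * t = b⁻¹ ∧ b ^ 3 = 1 ∧ a * b = b * a ∧
      (A ≤ Subgroup.closure {a, b}) ∧ ∃ w : M, w ≠ 0 ∧ ρ a w = w := by
    obtain ⟨m, hm⟩ := exists_ne (0 : M)
    by_cases h0 : ∃ w : M, w ≠ 0 ∧ ρ a₀ w = w
    · refine ⟨a₀, b₀, s, hsX, hs2, hsrs, Or.inl rfl, hb₀def.symm, hrb₀, ?_, hsb₀, hA3 _ hb₀, hab₀, hAgen, h0⟩
      calc s * a₀ = s * a₀ * s * s := by rw [mul_assoc _ s s, hss, mul_one]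
        _ = a₀ * s := by rw [hsa₀]
    obtain ⟨a₁, ha₁def⟩ : ∃ x, x = a₀ * b₀ := ⟨_, rfl⟩
    obtain ⟨b₁, hb₁def⟩ : ∃ x, x = b₀ * a₀⁻¹ := ⟨_, rfl⟩
    have hab' : Commute a₀ b₀ := hab₀
    have hra₁ : r * a₁ * r⁻¹ = b₁ := by
      rw [ha₁def, hb₁def, ← hrb₀, hb₀def]; group
    have hrb₁ : r * b₁ * r⁻¹ = a₁⁻¹ := by
      calc r * b₁ * r⁻¹ = (r * b₀ * r⁻¹) * (r * a₀ * r⁻¹)⁻¹ := by rw [hb₁def]; group
        _ = a₁⁻¹ := by rw [hrb₀, ← hb₀def, ha₁def, mul_inv_rev, hab'.inv_inv.eq]
    set t₁ := φ (DihedralGroup.sr 3) with ht₁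
    have ht₁e : t₁ = s * r ^ 3 := by
      rw [ht₁, hs_def, hr_def, ← map_pow, ← map_mul]; exact congrArg φ (by decide)
    have ht₁2 : t₁ ^ 2 = 1 := by
      rw [ht₁, ← map_pow, show (DihedralGroup.sr (3 : ZMod 4)) ^ 2 = 1 by decide, map_one]
    have ht₁r : t₁ * r * t₁ = r⁻¹ := by
      rw [hr_def, ht₁, ← map_mul, ← map_mul, ← map_inv]; exact congrArg φ (by decide)
    have hr3 : r ^ 3 = r⁻¹ := eq_inv_of_mul_eq_one_left (by rw [← pow_succ, hr4])
    have ht₁i : t₁⁻¹ = t₁ := inv_eq_of_mul_eq_one_left (by rw [← pow_two, ht₁2])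
    have hra₀' : r⁻¹ * a₀ * r = b₀⁻¹ := by
      calc r⁻¹ * a₀ * r = r⁻¹ * (r * b₀ * r⁻¹)⁻¹ * r := by rw [hrb₀, inv_inv]
        _ = b₀⁻¹ := by group
    have hta₀ : t₁ * a₀ * t₁⁻¹ = b₀ := by
      calc t₁ * a₀ * t₁⁻¹ = s * (r⁻¹ * a₀ * r) * s⁻¹ := by rw [ht₁e, hr3]; group
        _ = b₀ := by rw [hra₀', hsi]; calc s * b₀⁻¹ * s = (s * b₀ * s)⁻¹ := by rw [mul_inv_rev, mul_inv_rev, hsi, mul_assoc]
              _ = b₀ := by rw [hsb₀, inv_inv]
    have htb₀ : t₁ * b₀ * t₁⁻¹ = a₀ := by
      conv_lhs => rw [← hta₀]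
      rw [ht₁i]
      have : t₁ * t₁ = 1 := by rw [← pow_two, ht₁2]
      simp only [mul_assoc]; rw [this, mul_one, ← mul_assoc, this, one_mul]
    have hta₁ : t₁ * a₁ = a₁ * t₁ := by
      have : t₁ * a₁ * t₁⁻¹ = a₁ := by
        calc t₁ * a₁ * t₁⁻¹ = (t₁ * a₀ * t₁⁻¹) * (t₁ * b₀ * t₁⁻¹) := by rw [ha₁def]; group
          _ = a₁ := by rw [hta₀, htb₀, ha₁def, hab₀]
      calc t₁ * a₁ = t₁ * a₁ * t₁⁻¹ * t₁ := by group
        _ = a₁ * t₁ := by rw [this]
    have htb₁ : t₁ * b₁ * t₁ = b₁⁻¹ := by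
      calc t₁ * b₁ * t₁ = t₁ * b₁ * t₁⁻¹ := by rw [ht₁i]
        _ = (t₁ * b₀ * t₁⁻¹) * (t₁ * a₀ * t₁⁻¹)⁻¹ := by rw [hb₁def]; group
        _ = b₁⁻¹ := by rw [hta₀, htb₀, hb₁def, mul_inv_rev, inv_inv]
    have hb₁A : b₁ ∈ A := hb₁def ▸ mul_mem hb₀ (inv_mem ha₀)
    have ha₁A : a₁ ∈ A := ha₁def ▸ mul_mem ha₀ hb₀
    have hgen₁ : A ≤ Subgroup.closure {a₁, b₁} := by
      refine hAgen.trans ((Subgroup.closure_le _).mpr ?_)
      have h1 : a₁ ∈ Subgroup.closure ({a₁, b₁} : Set S) := Subgroup.subset_closure (by simp)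
      have h2 : b₁ ∈ Subgroup.closure ({a₁, b₁} : Set S) := Subgroup.subset_closure (by simp)
      have ha' : a₀ ∈ Subgroup.closure ({a₁, b₁} : Set S) := by
        have e : a₀ = b₁ * a₁⁻¹ := by
          rw [ha₁def, hb₁def, mul_inv_rev, ← hab'.inv_inv.eq]
          calc a₀ = a₀ ^ 3 * (a₀⁻¹ * a₀⁻¹) := by simp [pow_succ, mul_assoc]
            _ = a₀⁻¹ * a₀⁻¹ := by rw [hA3 a₀ ha₀, one_mul]
            _ = b₀ * (a₀⁻¹ * a₀⁻¹) * b₀⁻¹ := by
                rw [← mul_assoc b₀, (hab'.symm.inv_right).eq, mul_assoc a₀⁻¹ b₀, (hab'.symm.inv_right).eq]; group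
            _ = _ := by group
        rw [e]; exact mul_mem h2 (inv_mem h1)
      rintro x (h | h)
      · rw [h]; exact ha'
      · have e : b₀ = b₁ * a₀ := by rw [hb₁def]; group
        rw [Set.mem_singleton_iff] at h
        rw [h, e]; exact mul_mem h2 ha'
    refine ⟨a₁, b₁, t₁, hφr _, ht₁2, ht₁r, Or.inr rfl, hra₁, hrb₁, hta₁, htb₁, hA3 _ hb₁A,
      hcomm _ ha₁A _ hb₁A, hgen₁, ?_⟩
    push Not at h0
    by_contra h1
    push Not at h1
    have hb0' : ∀ w : M, w ≠ 0 → ρ b₀ w ≠ w := by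
      intro w hw hwb
      refine h0 (ρ r⁻¹ w) (fun h => hw ?_) ?_
      · have := congrArg (ρ r) h
        rwa [← rho_mul, mul_inv_cancel, map_one, map_zero] at this
      · rw [← rho_mul, show a₀ * r⁻¹ = r⁻¹ * b₀ by rw [hb₀def]; group, rho_mul, hwb]
    have hb1' : ∀ w : M, w ≠ 0 → ρ b₁ w ≠ w := by
      intro w hw hwb
      refine h1 (ρ r⁻¹ w) (fun h => hw ?_) ?_
      · have := congrArg (ρ r) h
        rwa [← rho_mul, mul_inv_cancel, map_one, map_zero] at this
      · rw [← rho_mul, show a₁ * r⁻¹ = r⁻¹ * b₁ by rw [← hra₁]; group, rho_mul, hwb]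
    have htr : ∀ y : S, y ^ 3 = 1 → (∀ w : M, w ≠ 0 → ρ y w ≠ w) → ∀ v : M, v + ρ y v + ρ y (ρ y v) = 0 := by
      intro y hy hfy v
      by_contra hne
      refine hfy _ hne ?_
      have : ρ y (ρ y (ρ y v)) = v := by
        rw [← rho_mul, ← rho_mul, show y * y * y = y ^ 3 by simp [pow_succ], hy, map_one]; rfl
      rw [map_add, map_add, this]; abel
    have t1 := htr a₀ (hA3 _ ha₀) h0 m
    have t2 := htr b₀ (hA3 _ hb₀) hb0' m
    have t3 := htr a₁ (hA3 _ ha₁A) h1 m
    have t4 := htr b₁ (hA3 _ hb₁A) hb1' m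
    have t5 := htr a₀ (hA3 _ ha₀) h0 (m + ρ b₀ m + ρ b₀ (ρ b₀ m))
    apply hm
    have ea : a₀⁻¹ = a₀ * a₀ := cube_sq (hA3 _ ha₀)
    have eb : b₁ * b₁ = a₀ * (b₀ * b₀) := by
      rw [hb₁def]
      calc b₀ * a₀⁻¹ * (b₀ * a₀⁻¹) = b₀ * b₀ * (a₀⁻¹ * a₀⁻¹) := by
            rw [mul_assoc, ← mul_assoc a₀⁻¹ b₀, hab'.inv_left.eq]; group
        _ = b₀ * b₀ * a₀ := by rw [ea, ← ea, ← cube_sq (x := a₀⁻¹) (by rw [inv_pow, hA3 _ ha₀, inv_one]), inv_inv]
        _ = a₀ * (b₀ * b₀) := ((hab'.mul_right hab').eq).symm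
    have ea1 : a₁ * a₁ = a₀ * a₀ * (b₀ * b₀) := by
      rw [ha₁def, mul_assoc a₀ b₀, ← mul_assoc b₀ a₀, ← hab₀]; group
    have eb1 : b₁ = a₀ * a₀ * b₀ := by
      rw [hb₁def, ea, ((hab'.mul_left hab').symm).eq]
    simp only [map_add, ← rho_mul, ← mul_assoc] at t1 t2 t3 t4 t5
    have h22 : ∀ v : M, v + v = 0 := add_self'
    have e5 : m + ρ b₀ m + ρ (b₀ * b₀) m + (ρ a₀ m + ρ (a₀ * b₀) m + ρ (a₀ * b₀ * b₀) m) +
        (ρ (a₀ * a₀) m + ρ (a₀ * a₀ * b₀) m + ρ (a₀ * a₀ * b₀ * b₀) m) = 0 := t5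
    rw [ea1, ha₁def, ← mul_assoc] at t3
    rw [eb, eb1, ← mul_assoc] at t4
    calc m = (m + ρ a₀ m + ρ (a₀ * a₀) m) + (m + ρ b₀ m + ρ (b₀ * b₀) m)
          + (m + ρ (a₀ * b₀) m + ρ (a₀ * a₀ * b₀ * b₀) m) + (m + ρ (a₀ * a₀ * b₀) m + ρ (a₀ * b₀ * b₀) m)
          + (m + ρ b₀ m + ρ (b₀ * b₀) m + (ρ a₀ m + ρ (a₀ * b₀) m + ρ (a₀ * b₀ * b₀) m) +
            (ρ (a₀ * a₀) m + ρ (a₀ * a₀ * b₀) m + ρ (a₀ * a₀ * b₀ * b₀) m)) := by
          have key : ∀ x1 x2 x3 x4 x5 x6 x7 x8 : M,
              m = (m + x1 + x2) + (m + x3 + x4) + (m + x5 + x6) + (m + x7 + x8)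
                + (m + x3 + x4 + (x1 + x5 + x8) + (x2 + x7 + x6)) := by
            intro x1 x2 x3 x4 x5 x6 x7 x8
            calc m = m + (m + m) + (m + m) + (x1 + x1) + (x2 + x2) + (x3 + x3) + (x4 + x4) + (x5 + x5) + (x6 + x6) + (x7 + x7) + (x8 + x8) := by
                  simp only [h22, add_zero]
              _ = _ := by abel
          exact key _ _ _ _ _ _ _ _
      _ = 0 := by rw [e5, t1, t2, t3, t4]; simp
  obtain ⟨w₀, hw₀0, hw₀⟩ := hfix
  have hgen : Subgroup.closure {a, b, r, t} = ⊤ := by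
    rw [eq_top_iff, ← hAX']
    refine sup_le (hA'.trans (Subgroup.closure_mono (by simp [Set.insert_subset_iff]))) (hgenX.trans ((Subgroup.closure_le _).mpr ?_))
    have hr' : r ∈ Subgroup.closure ({a, b, r, t} : Set S) := Subgroup.subset_closure (by simp)
    have ht' : t ∈ Subgroup.closure ({a, b, r, t} : Set S) := Subgroup.subset_closure (by simp)
    rintro x (rfl | rfl)
    · exact hr'
    · rcases htD with h | h
      · rw [hs_def, ← h]; exact ht'
      · have e : s = t * r := by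
          rw [h, hs_def, hr_def, ← map_mul]; exact congrArg φ (by decide)
        rw [e]; exact mul_mem ht' hr'
  obtain ⟨h16, h4, h2⟩ := core ρ a b r t hgen hirr hb3 habc hr4 ht2 htr hra hrb hta htb
    (fun m h1 h2 => by
      have key : ∀ y ∈ Subgroup.closure {a, b}, ρ y m = m := by
        intro y hy
        induction hy using Subgroup.closure_induction with
        | mem x hx => rcases hx with rfl | rfl <;> assumption
        | one => rw [map_one]; rfl
        | mul x x' _ _ hx hx' => rw [rho_mul, hx', hx]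
        | inv x _ hx => conv_lhs => rw [← hx]
                        rw [← rho_mul, inv_mul_cancel, map_one]; rfl
      exact hA0 m (key _ (hA' ha₀)) (key _ (hA' hb₀))) w₀ hw₀ hw₀0
  refine ⟨h16, ?_⟩
  set u := t * r with hu
  have huu : u * u = 1 := by
    rw [hu, ← mul_assoc, mul_assoc t r t, ← mul_assoc t, htr, inv_mul_cancel]
  have hzu : z * u = u * z := by
    rcases htD with h | h <;> rw [hu, hz, h, hr_def, ← map_pow, ← map_mul, ← map_mul, ← map_mul] <;>
      exact congrArg φ (by decide)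
  have hcarr : ∀ x, x ∈ Subgroup.closure {z, u} ↔ (x = 1 ∨ x = z ∨ x = u ∨ x = z * u) := by
      have k1 : u * z = z * u := hzu.symm
      have k2 : u * (z * u) = z := by rw [← mul_assoc, k1, mul_assoc, huu, mul_one]
      have k3 : z * (z * u) = u := by rw [← mul_assoc, hzz, one_mul]
      have k4 : z * u * z = u := by rw [mul_assoc, k1, k3]
      have k5 : z * u * u = z := by rw [mul_assoc, huu, mul_one]
      have k6 : z * u * (z * u) = 1 := by rw [mul_assoc, k2, hzz]
      let K : Subgroup S :=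
        { carrier := {x | x = 1 ∨ x = z ∨ x = u ∨ x = z * u}
          one_mem' := Or.inl rfl
          mul_mem' := by
            intro x y hx hy
            simp only [Set.mem_setOf_eq] at hx hy ⊢
            rcases hx with rfl | rfl | rfl | rfl <;> rcases hy with rfl | rfl | rfl | rfl <;>
              simp [hzz, huu, k1, k2, k3, k4, k5, k6]
          inv_mem' := by
            intro x hx
            simp only [Set.mem_setOf_eq] at hx ⊢
            have hui : u⁻¹ = u := inv_eq_of_mul_eq_one_left huu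
            rcases hx with rfl | rfl | rfl | rfl <;> simp [hzi, hui, hzu] }
      intro x
      constructor
      · intro hx
        exact (Subgroup.closure_le K).mpr (by rintro _ (rfl | rfl) <;> simp [K]) hx
      · have h1 : z ∈ Subgroup.closure ({z, u} : Set S) := Subgroup.subset_closure (by simp)
        have h2 : u ∈ Subgroup.closure ({z, u} : Set S) := Subgroup.subset_closure (by simp)
        rintro (rfl | rfl | rfl | rfl)
        exacts [one_mem _, h1, h2, mul_mem h1 h2]
  refine ⟨Subgroup.closure {z, u}, ⟨?_, ?_, ?_, ?_⟩, ?_⟩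
  · rw [Subgroup.closure_le]
    rintro x (rfl | rfl)
    · exact hzX
    · exact mul_mem htX hrX
  · have he : ((Subgroup.closure {z, u} : Subgroup S) : Set S) = ↑({1, z, u, z * u} : Finset S) := by
      ext x; simpa using hcarr x
    rw [← SetLike.coe_sort_coe, Nat.card_coe_set_eq, he, Set.ncard_coe_finset]
    have huone : u ≠ 1 ∧ u ≠ z := by
      rcases htD with h | h <;> rw [hu, hz, h, hr_def, ← map_pow, ← map_mul, ← map_one φ] <;>
        exact ⟨fun h' => absurd (hφi h') (by decide), fun h' => absurd (hφi h') (by decide)⟩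
    have h3 : z * u ≠ 1 := fun h => huone.2 (by rw [← hzi]; exact (inv_eq_of_mul_eq_one_right h).symm)
    simp [hz1.symm, huone.1, huone.1.symm, huone.2, huone.2.symm, h3, h3.symm, hz1]
  · intro x hx
    rcases (hcarr x).mp hx with rfl | rfl | rfl | rfl
    · simp
    · rw [pow_two, hzz]
    · rw [pow_two, huu]
    · rw [pow_two, mul_assoc, ← mul_assoc u z, ← hzu, mul_assoc z u u, huu, mul_one, hzz]
  · refine (Nat.card_congr (Equiv.subtypeEquivRight fun m => ⟨fun h => ⟨h z ((hcarr z).mpr (by simp)), h u ((hcarr u).mpr (by simp))⟩, ?_⟩)).trans h2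
    rintro ⟨h1, h1'⟩ x hx
    rcases (hcarr x).mp hx with rfl | rfl | rfl | rfl
    · rw [map_one]; rfl
    · exact h1
    · exact h1'
    · rw [rho_mul, h1', h1]
  · rintro B ⟨hBX, hB4, hB2, hBfix⟩
    have hBc : ∀ x ∈ B, ∀ y ∈ B, x * y = y * x := by
      intro x hx y hy
      have hxi : x⁻¹ = x := inv_eq_of_mul_eq_one_left (by rw [← pow_two]; exact hB2 x hx)
      have hyi : y⁻¹ = y := inv_eq_of_mul_eq_one_left (by rw [← pow_two]; exact hB2 y hy)
      have hxyi : (x * y)⁻¹ = x * y := inv_eq_of_mul_eq_one_left (by rw [← pow_two]; exact hB2 _ (mul_mem hx hy))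
      rw [← hxyi, mul_inv_rev, hxi, hyi]
    have hcases := d4_four' (s := φ ⁻¹' (B : Set S))
      (fun g hg => hφi (by rw [map_mul, map_one, ← pow_two]; exact hB2 _ hg))
      (fun g hg h hh => hφi (by rw [map_mul, map_mul]; exact hBc _ hg _ hh))
    have hBsub : (∀ x ∈ B, x = 1 ∨ x = z ∨ x = t ∨ x = z * t) ∨ (∀ x ∈ B, x = 1 ∨ x = z ∨ x = u ∨ x = z * u) := by
      have e2 : φ (DihedralGroup.r 2) = z := by
        rw [hz, hr_def, ← map_pow]; exact congrArg φ (by decide)
      rcases htD with h | h <;> rcases hcases with hc | hc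
      · left
        intro x hx
        obtain ⟨g, rfl⟩ := hφs x (hBX hx)
        have := hc g hx
        simp only [List.mem_cons, List.not_mem_nil, or_false] at this
        rcases this with rfl | rfl | rfl | rfl
        · simp
        · simp [e2]
        · simp [h]
        · right; right; right; rw [← e2, h, ← map_mul]; exact congrArg φ (by decide)
      · right
        intro x hx
        obtain ⟨g, rfl⟩ := hφs x (hBX hx)
        have := hc g hx
        simp only [List.mem_cons, List.not_mem_nil, or_false] at this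
        rcases this with rfl | rfl | rfl | rfl
        · simp
        · simp [e2]
        · right; right; left; rw [hu, h, hr_def, ← map_mul]; exact congrArg φ (by decide)
        · right; right; right; rw [← e2, hu, h, hr_def, ← map_mul, ← map_mul]; exact congrArg φ (by decide)
      · right
        intro x hx
        obtain ⟨g, rfl⟩ := hφs x (hBX hx)
        have := hc g hx
        simp only [List.mem_cons, List.not_mem_nil, or_false] at this
        rcases this with rfl | rfl | rfl | rfl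
        · simp
        · simp [e2]
        · right; right; left; rw [hu, h, hr_def, ← map_mul]; exact congrArg φ (by decide)
        · right; right; right; rw [← e2, hu, h, hr_def, ← map_mul, ← map_mul]; exact congrArg φ (by decide)
      · left
        intro x hx
        obtain ⟨g, rfl⟩ := hφs x (hBX hx)
        have := hc g hx
        simp only [List.mem_cons, List.not_mem_nil, or_false] at this
        rcases this with rfl | rfl | rfl | rfl
        · simp
        · simp [e2]
        · right; right; right; rw [← e2, h, ← map_mul]; exact congrArg φ (by decide)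
        · simp [h]
    have key : ∀ v : S, (∀ x ∈ B, x = 1 ∨ x = z ∨ x = v ∨ x = z * v) → z ∈ B ∧ v ∈ B := by
      intro v hv
      have hsub : (B : Set S) ⊆ ↑({1, z, v, z * v} : Finset S) := fun x hx => by simpa using hv x hx
      have hle : ({1, z, v, z * v} : Finset S).card ≤ 4 :=
        (Finset.card_insert_le _ _).trans (Nat.succ_le_succ ((Finset.card_insert_le _ _).trans (Nat.succ_le_succ Finset.card_le_two)))
      have heq : (B : Set S) = ↑({1, z, v, z * v} : Finset S) := by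
        refine Set.eq_of_subset_of_ncard_le hsub ?_ (Finset.finite_toSet _)
        rw [Set.ncard_coe_finset, ← Nat.card_coe_set_eq]
        exact hle.trans (le_of_eq hB4.symm)
      exact ⟨by rw [← SetLike.mem_coe, heq]; simp, by rw [← SetLike.mem_coe, heq]; simp⟩
    rcases hBsub with hb | hb
    · exfalso
      obtain ⟨hzB, htB⟩ := key t hb
      have : Nat.card {m : M // ∀ b ∈ B, ρ b m = m} = Nat.card {m : M // ρ (r ^ 2) m = m ∧ ρ t m = m} := by
        refine Nat.card_congr (Equiv.subtypeEquivRight fun m => ⟨fun h => ⟨h z hzB, h t htB⟩, ?_⟩)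
        rintro ⟨h1, h1'⟩ x hx
        rcases hb x hx with rfl | rfl | rfl | rfl
        · rw [map_one]; rfl
        · exact h1
        · exact h1'
        · rw [rho_mul, h1', h1]
      rw [hBfix, h4] at this
      omega
    · obtain ⟨hzB, huB⟩ := key u hb
      refine le_antisymm (fun x hx => (hcarr x).mpr (hb x hx)) ?_
      rw [Subgroup.closure_le]
      rintro x (rfl | rfl) <;> assumption

end Cfsg.Agent.S4407
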