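import Cfsg.Statements.S4408
import Cfsg.Agent.Fg24.OddFitting
-- import your own Cfsg.Agent.* helpers here

set_option autoImplicit false
open Cfsg

namespace Cfsg.Agent.S4408

/-- Let S be a finite solvable group whose Fitting subgroup F(S) has odd order, and let I be an elementary abelian 2-subgroup of S of order 2ⁿ with n ≥ 1. Then F(S) contains subgroups A₁, …, Aₙ of prime order, each normalized by I, pairwise commuting and generating a subgroup A of order |A₁|⋯|Aₙ| (their internal direct product), such that no non-identity element of I centralizes A. -/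
theorem result {S : Type*} [Group S] [Finite S]
    [Group.IsSolvable S] (hF : Odd (Nat.card ↥(Cfsg.fittingSubgroup S)))
    (I : Subgroup S) (hI : Cfsg.IsElementaryAbelian 2 I) (n : ℕ) (hn : 1 ≤ n) (hIn : Nat.card ↥I = 2 ^ n) :
    ∃ f : Fin n → Subgroup S, (∀ i, (Nat.card ↥(f i)).Prime) ∧ (∀ i, f i ≤ Cfsg.fittingSubgroup S) ∧
      (∀ i, I ≤ Subgroup.normalizer ((f i) : Set S)) ∧ (∀ i j, i ≠ j → ∀ a ∈ f i, ∀ b ∈ f j, a * b = b * a) ∧
      Nat.card ↥(⨆ i, f i) = ∏ i, Nat.card ↥(f i) ∧ I ⊓ Subgroup.centralizer ((⨆ i, f i : Subgroup S) : Set S) = ⊥ := by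
  obtain ⟨f, hp, hfF, hfI, hfc, hcard, hC⟩ := Cfsg.Agent.Fg24.exists_frame hF hI.2
    (fun s hs t ht => congrArg Subtype.val (hI.1.is_comm.comm ⟨s, hs⟩ ⟨t, ht⟩)) n hIn
  refine ⟨fun j => Subgroup.zpowers (f j), fun j => by rw [Nat.card_zpowers]; exact hp j,
    fun j => Subgroup.zpowers_le.2 (hfF j), fun j t ht => ?_, fun j l _ a ha b hb => ?_, ?_, hC⟩
  · have h : ∀ z ∈ Subgroup.zpowers (f j), t * z * t⁻¹ ∈ Subgroup.zpowers (f j) := by
      rintro _ ⟨k, rfl⟩
      show t * f j ^ k * t⁻¹ ∈ _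
      rw [← conj_zpow]
      rcases hfI j t ht with h | h <;> rw [h]
      · exact zpow_mem (Subgroup.mem_zpowers _) k
      · exact zpow_mem (inv_mem (Subgroup.mem_zpowers _)) k
    refine Cfsg.Agent.Fg24.mem_normalizer_of_forall h fun m hm => ?_
    have e : t⁻¹ = t := Cfsg.Agent.Fg24.inv_eq_self_of_sq hI.2 ht
    have := h m hm
    rw [e] at this ⊢
    exact this
  · obtain ⟨u, rfl⟩ := ha
    obtain ⟨v, rfl⟩ := hb
    exact (((show Commute (f j) (f l) from hfc j l).zpow_left u).zpow_right v).eq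
  · rw [hcard]
    exact Finset.prod_congr rfl fun j _ => (Nat.card_zpowers _).symm

end Cfsg.Agent.S4408
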