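import Cfsg.Statements.S4409
import Cfsg.Agent.Fg19NcAb.StepA
import Cfsg.Agent.Fg19NcAb.Class
import Cfsg.Agent.S3215
import Cfsg.Agent.Core.Hall
import Cfsg.Agent.Core.PCore

set_option autoImplicit false
open Cfsg

namespace Cfsg.Agent.S4409

open Subgroup Cfsg.Agent.Fg19NcAb
open scoped Pointwise

/-- Without noncyclic abelian subgroups of order 8 inside `R`, the 2-subgroups of `R` are free. -/
theorem freeIn_of {P S : Type*} [Group P] [Finite P] [Group S] (hP : IsPGroup 2 P) (f : P →* S)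
    (hf : Function.Injective f) {Y : Subgroup P} {R : Subgroup S} (hR : Y.map f ≤ R)
    (hno : ¬ ∃ A : Subgroup S, A ≤ R ∧ IsMulCommutative ↥A ∧ ¬ IsCyclic ↥A ∧ Nat.card ↥A = 8) :
    FreeIn Y := by
  intro B hBY hBc h8 u hu v hv hu2 hv2
  by_contra hne
  have : Fact (Nat.Prime 2) := ⟨Nat.prime_two⟩
  have hBn : ∀ H : Subgroup ↥B, H.Normal := fun H => by
    refine ⟨fun a ha g => ?_⟩
    rwa [hBc.is_comm.comm g a, mul_inv_cancel_right]
  have := hBn (zpowers (⟨v, hv⟩ : ↥B))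
  set V : Subgroup ↥B := zpowers (⟨u, hu⟩ : ↥B) ⊔ zpowers (⟨v, hv⟩ : ↥B) with hVdef
  have hV4 : Nat.card ↥V ≤ 4 := by
    change Nat.card ↥(V : Set ↥B) ≤ 4
    rw [hVdef, mul_normal]
    refine Set.natCard_mul_le.trans ?_
    simp only [SetLike.coe_sort_coe, Nat.card_zpowers, Subgroup.orderOf_mk, hu2, hv2]
    norm_num
  obtain ⟨m, hm⟩ := IsPGroup.iff_card.mp ((hP.to_subgroup B).to_subgroup V)
  have hm3 : m ≤ 3 := by
    by_contra h
    have : 2 ^ 4 ≤ 2 ^ m := Nat.pow_le_pow_right (by norm_num) (by omega)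
    omega
  have hdvd : 2 ^ 3 ∣ Nat.card ↥B := by
    obtain ⟨n, hn⟩ := IsPGroup.iff_card.mp (hP.to_subgroup B)
    rw [hn] at h8 ⊢
    refine pow_dvd_pow 2 ?_
    by_contra h
    have : 2 ^ n ≤ 2 ^ 2 := Nat.pow_le_pow_right (by norm_num) (by omega)
    omega
  obtain ⟨K, hK, hVK⟩ := Sylow.exists_subgroup_card_pow_prime_le 2 hdvd V hm hm3
  set g : ↥B →* S := f.comp B.subtype with hg
  have hgi : Function.Injective g := hf.comp B.subtype_injective
  refine hno ⟨K.map g, ?_, ?_, ?_, ?_⟩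
  · rintro _ ⟨x, -, rfl⟩
    exact hR (mem_map_of_mem f (hBY x.2))
  · refine ⟨⟨fun a b => ?_⟩⟩
    obtain ⟨_, x, hx, rfl⟩ := a
    obtain ⟨_, y, hy, rfl⟩ := b
    exact Subtype.ext (by
      change g x * g y = g y * g x
      rw [← map_mul, ← map_mul, hBc.is_comm.comm x y])
  · intro hc
    have hKc : IsCyclic ↥K := (K.equivMapOfInjective g hgi).isCyclic.mpr hc
    refine hne (congrArg Subtype.val (unique_involution_of_isCyclic hKc
      (hVK (mem_sup_left (mem_zpowers (⟨u, hu⟩ : ↥B))))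
      (hVK (mem_sup_right (mem_zpowers (⟨v, hv⟩ : ↥B)))) ?_ ?_))
    · rw [Subgroup.orderOf_mk, hu2]
    · rw [Subgroup.orderOf_mk, hv2]
  · rw [card_map_of_injective hgi, hK]
    norm_num

/-- A free self-centralising normal 2-subgroup with an odd automorphism excludes a noncyclic
abelian subgroup of order 8. -/
theorem no_ncab {S : Type*} [Group S] [Finite S] (Q : Subgroup S) [Q.Normal] (hQ : IsPGroup 2 Q)
    (hCQ : centralizer (Q : Set S) ≤ Q) (hfree : FreeIn (⊤ : Subgroup ↥Q)) {φ : MulAut ↥Q}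
    (hodd : Odd (orderOf φ)) (hne : φ ≠ 1) {A : Subgroup S} (hAc : IsMulCommutative ↥A)
    (hAn : ¬ IsCyclic ↥A) (hA8 : Nat.card ↥A = 8) : False := by
  classical
  have : Fact (Nat.Prime 2) := ⟨Nat.prime_two⟩
  have hA2 : IsPGroup 2 A := IsPGroup.of_card (n := 3) (by rw [hA8]; norm_num)
  set T : Subgroup S := A ⊔ Q with hTdef
  have hT : IsPGroup 2 T := hA2.to_sup_of_normal_right hQ
  have hQT : Q ≤ T := le_sup_right
  have hAT : A ≤ T := le_sup_left
  have hn : (Q.subgroupOf T).Normal := inferInstance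
  have hC : centralizer ((Q.subgroupOf T : Subgroup ↥T) : Set ↥T) ≤ Q.subgroupOf T := fun x hx =>
    hCQ (mem_centralizer_iff.mpr fun q hq =>
      congrArg Subtype.val (mem_centralizer_iff.mp hx ⟨q, hQT hq⟩ hq))
  let eA : ↥(A.subgroupOf T) ≃* ↥A := subgroupOfEquivOfLe hAT
  let eQ : ↥(Q.subgroupOf T) ≃* ↥Q := subgroupOfEquivOfLe hQT
  have hA'c : IsMulCommutative ↥(A.subgroupOf T) :=
    ⟨⟨fun a b => eA.injective (by rw [map_mul, map_mul, hAc.is_comm.comm])⟩⟩
  have hA'n : ¬ IsCyclic ↥(A.subgroupOf T) := fun h => hAn (eA.isCyclic.mp h)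
  have hA'8 : Nat.card ↥(A.subgroupOf T) = 8 := (Nat.card_congr eA.toEquiv).trans hA8
  by_cases hab : ∀ a b : ↥Q, a * b = b * a
  · obtain ⟨u, v, hu, hv, huv⟩ : ∃ u v : ↥Q, orderOf u = 2 ∧ orderOf v = 2 ∧ u ≠ v := by
      by_contra hcon
      exact not_cyclic_of_aut hQ hodd hne (isCyclic_of_comm_unique hQ hab fun u v hu hv => by
        by_contra hne'; exact hcon ⟨u, v, hu, hv, hne'⟩)
    have hall : ∀ y : ↥Q, y = 1 ∨ y = u ∨ y = v ∨ y = u * v := fun y =>
      hfree.eq_four hQ (mem_top u) (mem_top v) hu hv huv (fun g _ => hab u g) (fun g _ => hab v g)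
        (mem_top y)
    have hQ4 : Nat.card ↥Q = 4 := by
      have := Fintype.ofFinite ↥Q
      rw [Nat.card_eq_fintype_card, ← Finset.card_univ]
      have hu1 := ne_one_of_orderOf_two hu
      have hv1 := ne_one_of_orderOf_two hv
      have huv1 : u * v ≠ 1 := fun e => huv (by
        calc u = u * (u * v) := by rw [e, mul_one]
          _ = v := by rw [← mul_assoc, sq_eq_one_of_orderOf_two hu, one_mul])
      have h1 : u * v ≠ u := fun e => hv1 (by simpa using e)
      have h2 : u * v ≠ v := fun e => hu1 (by simpa using e)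
      have hset : (Finset.univ : Finset ↥Q) = {1, u, v, u * v} :=
        Finset.ext fun y => ⟨fun _ => by
          simpa only [Finset.mem_insert, Finset.mem_singleton] using hall y,
          fun _ => Finset.mem_univ _⟩
      rw [hset]
      simp [Finset.card_insert_of_notMem, Ne.symm hu1, Ne.symm hv1, Ne.symm huv1, huv, Ne.symm h1,
        Ne.symm h2]
    exact no_ncab_four hT (Q.subgroupOf T) hC ((Nat.card_congr eQ.toEquiv).trans hQ4)
      (A.subgroupOf T) hA'c hA'8
  · push Not at hab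
    obtain ⟨e⟩ := quaternion_of_free hQ hodd hne hfree hab
    exact no_ncab_quat hT (Q.subgroupOf T) hC (eQ.trans e) (A.subgroupOf T) hA'c hA'n hA'8

/-- The Sylow 2-subgroup is normal. -/
theorem sylow_normal {S : Type*} [Group S] [Finite S] [Group.IsSolvable S]
    (hO : Cfsg.pPrimeCore 2 S = ⊥) {A : Subgroup S} (hAc : IsMulCommutative ↥A)
    (hAn : ¬ IsCyclic ↥A) (hA8 : Nat.card ↥A = 8)
    (hmin : ∀ R : Subgroup S, R ≠ ⊤ → (∃ k : ℕ, R.index = 2 ^ k) →
      ¬ ∃ A : Subgroup S, A ≤ R ∧ IsMulCommutative ↥A ∧ ¬ IsCyclic ↥A ∧ Nat.card ↥A = 8)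
    (X : Sylow 2 S) (H : Subgroup S) (hH : Nat.card ↥H = (X : Subgroup S).index) :
    (X : Subgroup S).Normal := by
  have : Fact (Nat.Prime 2) := ⟨Nat.prime_two⟩
  set Q := Cfsg.pCore 2 S with hQdef
  have hQn : Q.Normal := by rw [hQdef]; infer_instance
  have hQ2 : IsPGroup 2 Q := Core.pCore_isPGroup
  have hQX : Q ≤ X := Core.pCore_le_sylow X
  have hodd : Odd (Nat.card ↥H) := by
    rw [hH, Nat.odd_iff]
    have := X.not_dvd_index
    omega
  have hCQ : centralizer (Q : Set S) ≤ Q := S3215.centralizer_pCore_le hO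
  have hHidx : ∃ k : ℕ, H.index = 2 ^ k := by
    obtain ⟨k, hk⟩ := IsPGroup.iff_card.mp X.2
    refine ⟨k, ?_⟩
    have h1 := H.card_mul_index
    rw [← (X : Subgroup S).card_mul_index, hH, hk, mul_comm] at h1
    exact Nat.eq_of_mul_eq_mul_right (Nat.pos_of_ne_zero Subgroup.index_ne_zero_of_finite) h1
  by_cases hR : H ⊔ Q = ⊤
  · have hdvd : Q.index ∣ Nat.card ↥H := by
      rw [index_eq_card]
      refine card_dvd_of_surjective ((QuotientGroup.mk' Q).comp H.subtype) fun y => ?_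
      obtain ⟨s, rfl⟩ := QuotientGroup.mk'_surjective Q y
      have hs : s ∈ ((H ⊔ Q : Subgroup S) : Set S) := hR ▸ mem_top s
      rw [mul_normal] at hs
      obtain ⟨h, hh, q, hq, rfl⟩ := hs
      refine ⟨⟨h, hh⟩, ?_⟩
      change (QuotientGroup.mk' Q) h = (QuotientGroup.mk' Q) (h * q)
      rw [map_mul, show (QuotientGroup.mk' Q) q = 1 from (QuotientGroup.eq_one_iff q).mpr hq,
        mul_one]
    have h1 : Q.relIndex (X : Subgroup S) ∣ Nat.card ↥H :=
      (relIndex_dvd_index_of_normal Q (X : Subgroup S)).trans hdvd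
    obtain ⟨k, hk⟩ := IsPGroup.iff_card.mp X.2
    obtain ⟨j, -, hj⟩ := (Nat.dvd_prime_pow Nat.prime_two).mp
      (hk ▸ (Q.subgroupOf (X : Subgroup S)).index_dvd_card : Q.relIndex (X : Subgroup S) ∣ 2 ^ k)
    have h2 : Q.relIndex (X : Subgroup S) = 1 := by
      rw [hj] at h1 ⊢
      rcases j with _ | j
      · rfl
      · exact absurd ((dvd_pow_self 2 j.succ_ne_zero).trans h1) hodd.not_two_dvd_nat
    rwa [le_antisymm (relIndex_eq_one.mp h2) hQX]
  · obtain ⟨k, hk⟩ := hHidx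
    obtain ⟨j, -, hj⟩ := (Nat.dvd_prime_pow Nat.prime_two).mp
      (hk ▸ index_dvd_of_le (le_sup_left : H ≤ H ⊔ Q) : (H ⊔ Q).index ∣ 2 ^ k)
    have hfree : FreeIn (⊤ : Subgroup ↥Q) := freeIn_of hQ2 Q.subtype Q.subtype_injective
      (le_trans (map_subtype_le _) le_sup_right) (hmin _ hR ⟨j, hj⟩)
    by_cases hbot : H = ⊥
    · rw [hbot, card_bot, eq_comm, index_eq_one] at hH
      rw [hH]; infer_instance
    obtain ⟨h, hh, hh1⟩ := (Subgroup.bot_or_exists_ne_one H).resolve_left hbot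
    let φ : MulAut ↥Q := MulAut.conjNormal h
    have hne : φ ≠ 1 := by
      intro e
      have hhQ : h ∈ Q := hCQ (mem_centralizer_iff.mpr fun q hq => by
        have := congrArg Subtype.val (MulEquiv.congr_fun e ⟨q, hq⟩)
        rw [MulAut.conjNormal_apply, MulAut.one_apply, mul_inv_eq_iff_eq_mul] at this
        exact this.symm)
      obtain ⟨i, hi⟩ := IsPGroup.iff_orderOf.mp hQ2 ⟨h, hhQ⟩
      rw [Subgroup.orderOf_mk] at hi
      have ho : orderOf h ∣ Nat.card ↥H := by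
        simpa using orderOf_dvd_natCard (⟨h, hh⟩ : ↥H)
      rw [hi] at ho
      rcases i with _ | i
      · exact hh1 (orderOf_eq_one_iff.mp (hi.trans (pow_zero 2)))
      · exact hodd.not_two_dvd_nat ((dvd_pow_self 2 i.succ_ne_zero).trans ho)
    have ho : Odd (orderOf φ) := by
      refine Odd.of_dvd_nat hodd ((orderOf_map_dvd (MulAut.conjNormal (H := Q)) h).trans ?_)
      simpa using orderOf_dvd_natCard (⟨h, hh⟩ : ↥H)
    exact (no_ncab Q hQ2 hCQ hfree ho hne hAc hAn hA8).elim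

/-- Let S be a finite solvable group with O_{2'}(S) = 1 that contains a non-cyclic abelian subgroup of order 8, while no proper subgroup of S of 2-power index contains one. Then a Sylow 2-subgroup X of S is normal in S, and one of the following holds: X is abelian; X is extraspecial of order at least 32; X has a generalized quaternion subgroup X₀ of index 2 with X = X₀·C_X(X₀); or X is special with centre of order 4. -/
theorem result {S : Type*} [Group S] [Finite S]
    [Group.IsSolvable S] (hO : Cfsg.pPrimeCore 2 S = ⊥)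
    (h8 : ∃ A : Subgroup S, IsMulCommutative ↥A ∧ ¬ IsCyclic ↥A ∧ Nat.card ↥A = 8)
    (hmin : ∀ R : Subgroup S, R ≠ ⊤ → (∃ k : ℕ, R.index = 2 ^ k) →
      ¬ ∃ A : Subgroup S, A ≤ R ∧ IsMulCommutative ↥A ∧ ¬ IsCyclic ↥A ∧ Nat.card ↥A = 8)
    (X : Sylow 2 S) :
    (X : Subgroup S).Normal ∧
      (IsMulCommutative ↥X ∨
        (Cfsg.IsExtraspecial 2 ↥X ∧ 32 ≤ Nat.card ↥X) ∨
        (∃ (X₀ : Subgroup S) (k : ℕ), X₀ ≤ (X : Subgroup S) ∧ X₀.relIndex (X : Subgroup S) = 2 ∧
          Nonempty (↥X₀ ≃* QuaternionGroup (2 ^ (k + 1))) ∧ X₀ ⊔ ((X : Subgroup S) ⊓ Subgroup.centralizer (X₀ : Set S)) = (X : Subgroup S)) ∨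
        (Cfsg.IsSpecial 2 ↥X ∧ Nat.card ↥(Subgroup.center ↥X) = 4)) := by
  classical
  have : Fact (Nat.Prime 2) := ⟨Nat.prime_two⟩
  obtain ⟨A, hAc, hAn, hA8⟩ := h8
  obtain ⟨H, hH⟩ := Core.exists_hall (G := S) (m := (X : Subgroup S).index)
    (n := Nat.card ↥(X : Subgroup S)) (by rw [mul_comm, card_mul_index])
    X.card_coprime_index.symm
  have hXn : (X : Subgroup S).Normal := sylow_normal hO hAc hAn hA8 hmin X H hH
  refine ⟨hXn, ?_⟩
  have hXQ : (X : Subgroup S) = Cfsg.pCore 2 S :=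
    le_antisymm (Core.le_pCore X.2) (Core.pCore_le_sylow X)
  have hAX : A ≤ (X : Subgroup S) := by
    obtain ⟨X', hX'⟩ := (IsPGroup.of_card (p := 2) (n := 3) (by rw [hA8]; norm_num) :
      IsPGroup 2 A).exists_le_sylow
    have := Sylow.unique_of_normal X hXn
    rwa [Subsingleton.elim X' X] at hX'
  have hcop : ∀ x ∈ H, x ∈ (X : Subgroup S) → x = 1 := fun x hx hx' => by
    have h1 : orderOf x ∣ Nat.card ↥H := by simpa using orderOf_dvd_natCard (⟨x, hx⟩ : ↥H)
    have h2 : orderOf x ∣ Nat.card ↥(X : Subgroup S) := by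
      simpa using orderOf_dvd_natCard (⟨x, hx'⟩ : ↥(X : Subgroup S))
    rw [hH] at h1
    exact orderOf_eq_one_iff.mp (Nat.eq_one_of_dvd_coprimes X.card_coprime_index h2 h1)
  by_cases hH1 : H = ⊥
  · -- `S` is a 2-group
    left
    rw [hH1, card_bot, eq_comm, index_eq_one] at hH
    obtain ⟨k, hk⟩ := IsPGroup.iff_card.mp X.2
    rw [hH, card_top] at hk
    by_cases hA : A = ⊤
    · exact ⟨⟨fun a b => Subtype.ext (congrArg Subtype.val
        (hAc.is_comm.comm (⟨a, hA ▸ mem_top (a : S)⟩ : ↥A) ⟨b, hA ▸ mem_top (b : S)⟩) :)⟩⟩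
    · obtain ⟨j, -, hj⟩ := (Nat.dvd_prime_pow Nat.prime_two).mp (hk ▸ A.index_dvd_card)
      exact absurd ⟨A, le_rfl, hAc, hAn, hA8⟩ (hmin A hA ⟨j, hj⟩)
  set conjH : ↥H →* MulAut ↥(X : Subgroup S) :=
    (MulAut.conjNormal (H := (X : Subgroup S))).comp H.subtype with hconj
  have hHodd : Odd (Nat.card ↥H) := by
    rw [hH, Nat.odd_iff]; have := X.not_dvd_index; omega
  have hLodd : Odd (Nat.card ↥conjH.range) := Odd.of_dvd_nat hHodd (card_range_dvd conjH)
  obtain ⟨h0, hh0, hh01⟩ := (Subgroup.bot_or_exists_ne_one H).resolve_left hH1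
  have hne : conjH ⟨h0, hh0⟩ ≠ 1 := by
    intro e
    refine hh01 (hcop h0 hh0 ?_)
    rw [hXQ]
    refine S3215.centralizer_pCore_le hO (mem_centralizer_iff.mpr fun q hq => ?_)
    have h := congrArg Subtype.val (MulEquiv.congr_fun e ⟨q, hXQ ▸ hq⟩)
    rw [hconj, MonoidHom.comp_apply, MulAut.conjNormal_apply, MulAut.one_apply,
      mul_inv_eq_iff_eq_mul] at h
    exact h.symm
  have hfree : ∀ Y : Subgroup ↥(X : Subgroup S), (∀ φ ∈ conjH.range, ∀ x ∈ Y, φ x ∈ Y) →
      Y ≠ ⊤ → FreeIn Y := by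
    intro Y hinv hY
    have hle : H ≤ normalizer (Y.map (X : Subgroup S).subtype : Set S) := by
      intro h hh
      have key : ∀ g ∈ H, ∀ y ∈ Y.map (X : Subgroup S).subtype,
          g * y * g⁻¹ ∈ Y.map (X : Subgroup S).subtype := by
        rintro g hg _ ⟨y, hy, rfl⟩
        refine ⟨conjH ⟨g, hg⟩ y, hinv _ ⟨⟨g, hg⟩, rfl⟩ y hy, ?_⟩
        rw [hconj, MonoidHom.comp_apply, Subgroup.coe_subtype, Subgroup.coe_subtype,
          MulAut.conjNormal_apply]
      refine mem_normalizer_iff.mpr fun y => ⟨key h hh y, fun hy => ?_⟩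
      have e := key h⁻¹ (inv_mem hh) _ hy
      rwa [show h⁻¹ * (h * y * h⁻¹) * h⁻¹⁻¹ = y by group] at e
    have hR : H ⊔ Y.map (X : Subgroup S).subtype ≠ ⊤ := by
      intro htop
      refine hY (eq_top_iff.mpr fun x _ => ?_)
      have hx : (x : S) ∈ ((H ⊔ Y.map (X : Subgroup S).subtype : Subgroup S) : Set S) :=
        htop ▸ mem_top (x : S)
      rw [coe_mul_of_left_le_normalizer_right _ _ hle] at hx
      obtain ⟨h, hh, y, ⟨y', hy', rfl⟩, he⟩ := hx
      have hh' : h ∈ (X : Subgroup S) := by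
        have e : h = (x : S) * ((y' : S))⁻¹ := by rw [← he]; simp
        rw [e]; exact mul_mem x.2 (inv_mem y'.2)
      rw [hcop h hh hh'] at he
      have : y' = x := Subtype.ext (by simpa using he)
      rwa [← this]
    obtain ⟨k, hk⟩ := IsPGroup.iff_card.mp X.2
    have hidx : (H ⊔ Y.map (X : Subgroup S).subtype).index ∣ 2 ^ k := by
      have h1 := H.card_mul_index
      rw [← (X : Subgroup S).card_mul_index, hH, hk, mul_comm] at h1
      rw [← Nat.eq_of_mul_eq_mul_right (Nat.pos_of_ne_zero Subgroup.index_ne_zero_of_finite) h1]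
      exact index_dvd_of_le le_sup_left
    obtain ⟨j, -, hj⟩ := (Nat.dvd_prime_pow Nat.prime_two).mp hidx
    exact freeIn_of X.2 _ (X : Subgroup S).subtype_injective le_sup_right (hmin _ hR ⟨j, hj⟩)
  have eA : ↥(A.subgroupOf (X : Subgroup S)) ≃* ↥A := subgroupOfEquivOfLe hAX
  have hA'c : IsMulCommutative ↥(A.subgroupOf (X : Subgroup S)) :=
    ⟨⟨fun a b => eA.injective (by rw [map_mul, map_mul, hAc.is_comm.comm])⟩⟩
  rcases classify X.2 conjH.range hLodd (φ0 := conjH ⟨h0, hh0⟩) ⟨_, rfl⟩ hne hfree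
    (A := A.subgroupOf (X : Subgroup S)) hA'c (fun h => hAn (eA.isCyclic.mp h))
    ((Nat.card_congr eA.toEquiv).trans hA8) with h | h | ⟨X0, hidx, ⟨e⟩, hsup⟩ | h
  · exact Or.inl h
  · exact Or.inr (Or.inl h)
  · refine Or.inr (Or.inr (Or.inl ⟨X0.map (X : Subgroup S).subtype, 0, map_subtype_le _, ?_,
      ⟨(X0.equivMapOfInjective _ (X : Subgroup S).subtype_injective).symm.trans e⟩, ?_⟩))
    · rw [relIndex, subgroupOf, comap_map_eq_self_of_injective (X : Subgroup S).subtype_injective,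
        hidx]
    · refine le_antisymm (sup_le (map_subtype_le _) inf_le_left) ?_
      intro x hx
      have h1 : (⟨x, hx⟩ : ↥(X : Subgroup S)) ∈ X0 ⊔ center _ := hsup ▸ mem_top _
      have h2 : (X : Subgroup S).subtype ⟨x, hx⟩ ∈ (X0 ⊔ center _).map (X : Subgroup S).subtype :=
        mem_map_of_mem _ h1
      rw [Subgroup.map_sup] at h2
      have hle : (center ↥(X : Subgroup S)).map (X : Subgroup S).subtype ≤ (X : Subgroup S) ⊓
          centralizer ((X0.map (X : Subgroup S).subtype : Subgroup S) : Set S) := ?_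
      · exact sup_le_sup (le_refl (X0.map (X : Subgroup S).subtype)) hle h2
      rintro _ ⟨c, hc, rfl⟩
      refine ⟨c.2, mem_centralizer_iff.mpr ?_⟩
      rintro _ ⟨y, -, rfl⟩
      exact congrArg Subtype.val (mem_center_iff.mp hc y)
  · exact Or.inr (Or.inr (Or.inr h))

end Cfsg.Agent.S4409
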