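import Cfsg.Statements.S4410
import Cfsg.Agent.Core.Fitting
import Mathlib
-- import your own Cfsg.Agent.* helpers here

set_option autoImplicit false
open Cfsg

namespace Cfsg.Agent.S4410

open scoped commutatorElement

set_option maxHeartbeats 2000000 in
/-- Let V be a finite-dimensional vector space over the field with two elements and S a solvable group of linear automorphisms of V with O₂(S) = 1. If P ∈ S has order 4 and (P − 1)³ = 0 on V, then the image of (P − 1)² has at least 4 elements; equivalently, in the decomposition of V into indecomposable modules for the cyclic group generated by P, at least two summands have dimension 3. -/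
theorem result
    {V : Type*} [AddCommGroup V] [Module (ZMod 2) V] [Finite V]
    (S : Subgroup (V ≃ₗ[ZMod 2] V)) (hS : Group.IsSolvable ↥S) (hO2 : Cfsg.pCore 2 ↥S = ⊥)
    (P : V ≃ₗ[ZMod 2] V) (hPS : P ∈ S) (hP4 : orderOf P = 4)
    (hcub : ((P : V →ₗ[ZMod 2] V) - LinearMap.id) ^ 3 = 0) :
    4 ≤ Nat.card ↥(LinearMap.range (((P : V →ₗ[ZMod 2] V) - LinearMap.id) ^ 2)) := by
  classical
  have : Finite (V ≃ₗ[ZMod 2] V) := Finite.of_injective _ DFunLike.coe_injective
  have hz2 : ∀ z : ZMod 2, z = 0 ∨ z = 1 := by decide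
  have : Fact (Nat.Prime 2) := ⟨Nat.prime_two⟩
  set Tm : Module.End (ZMod 2) V := ((P : V →ₗ[ZMod 2] V) - LinearMap.id) ^ 2 with hTm
  have h2 : ∀ a : V, a + a = 0 := fun a => by
    rw [← two_smul (ZMod 2) a, show (2 : ZMod 2) = 0 from rfl, zero_smul]
  set t : V ≃ₗ[ZMod 2] V := P ^ 2 with ht
  have htT : ∀ x, t x = x + Tm x := fun x => by
    have e : Tm x = P (P x - x) - (P x - x) := by rw [hTm, sq]; rfl
    rw [e, ht, pow_two, LinearEquiv.mul_apply, map_sub]
    rw [show x + (P (P x) - P x - (P x - x)) = P (P x) + (x + x) - (P x + P x) by abel, h2, h2,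
      add_zero, sub_zero]
  by_contra hlt
  have hT0 : Tm ≠ 0 := by
    intro h
    have ht1 : P ^ 2 = 1 := LinearEquiv.ext fun x => by
      rw [← ht, htT, h, LinearMap.zero_apply, add_zero]; rfl
    have := orderOf_dvd_of_pow_eq_one ht1
    rw [hP4] at this
    norm_num at this
  obtain ⟨v0, hv0, hrange⟩ : ∃ v0 : V, v0 ≠ 0 ∧ ∀ x, Tm x = 0 ∨ Tm x = v0 := by
    have hfin : Module.finrank (ZMod 2) (LinearMap.range Tm) ≤ 1 := by
      by_contra hc
      apply hlt
      rw [Module.natCard_eq_pow_finrank (K := ZMod 2) (V := LinearMap.range Tm), Nat.card_zmod]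
      calc 4 = 2 ^ 2 := by norm_num
        _ ≤ _ := Nat.pow_le_pow_right (by norm_num) (by omega)
    obtain ⟨x0, hx0⟩ : ∃ x0, Tm x0 ≠ 0 := by
      by_contra h; push Not at h; exact hT0 (LinearMap.ext h)
    refine ⟨Tm x0, hx0, fun x => ?_⟩
    obtain ⟨w, hw⟩ := finrank_le_one_iff.1 hfin
    obtain ⟨a, ha⟩ := hw ⟨Tm x, x, rfl⟩
    obtain ⟨b, hb⟩ := hw ⟨Tm x0, x0, rfl⟩
    have ha' : a • (w : V) = Tm x := congrArg Subtype.val ha
    have hb' : b • (w : V) = Tm x0 := congrArg Subtype.val hb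
    have hb1 : b = 1 := (hz2 b).resolve_left fun h => hx0 (by rw [← hb', h, zero_smul])
    have ha01 := hz2 a
    rcases ha01 with h | h
    · exact Or.inl (by rw [← ha', h, zero_smul])
    · exact Or.inr (by rw [← ha', ← hb', h, hb1])
  have hPT : ∀ x, P (Tm x) = Tm (P x) := fun x => by
    have h1 : t (P x) = P (t x) := by rw [ht, pow_two, LinearEquiv.mul_apply, LinearEquiv.mul_apply]
    rw [htT, htT, map_add, add_left_cancel_iff] at h1
    exact h1.symm
  have hPv : P v0 = v0 := by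
    obtain ⟨x0, hx0⟩ : ∃ x0, Tm x0 = v0 := by
      by_contra h; push Not at h
      exact hT0 (LinearMap.ext fun x => (hrange x).resolve_right (h x))
    have h1 : P v0 = Tm (P x0) := by rw [← hx0, hPT]
    rcases hrange (P x0) with h | h
    · rw [h] at h1; exact absurd (P.injective (h1.trans (map_zero P).symm)) hv0
    · rw [h1, h]
  have htv : t v0 = v0 := by rw [ht, pow_two, LinearEquiv.mul_apply, hPv, hPv]
  have hTv : Tm v0 = 0 := add_eq_left.1 ((htT v0).symm.trans htv)
  have htt : t * t = 1 := by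
    rw [ht, ← pow_add, show 2 + 2 = orderOf P by rw [hP4], pow_orderOf_eq_one]
  have ht1 : t ≠ 1 := fun h => hT0 (LinearMap.ext fun x => by
    have := htT x
    rw [h] at this
    exact add_eq_left.1 this.symm)
  have htS : t ∈ S := pow_mem hPS 2
  have := hS
  set F : Subgroup S := Cfsg.fittingSubgroup S with hF
  have hFodd : ¬ 2 ∣ Nat.card F := by
    intro hd
    have hle : (Cfsg.pCore 2 F).map F.subtype ≤ Cfsg.pCore 2 S := (Core.map_pCore_normal F).le.trans inf_le_left
    rw [hO2, le_bot_iff, Subgroup.map_eq_bot_iff_of_injective _ F.subtype_injective] at hle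
    obtain ⟨Q⟩ : Nonempty (Sylow 2 F) := inferInstance
    have hQn : (Q : Subgroup F).Normal :=
      have := Core.fittingSubgroup_isNilpotent (G := S); inferInstance
    have h1 : (Q : Subgroup F) ≤ ⊥ := hle ▸ Core.le_pCore Q.isPGroup'
    exact Q.ne_bot_of_dvd_card hd (le_bot_iff.1 h1)
  set tS : S := ⟨t, htS⟩ with htSdef
  -- commutators of `t` with the Fitting subgroup
  have hfacts : ∀ f ∈ F, ⁅tS, f⁆ ≠ 1 →
      ⁅tS, f⁆ ∈ F ∧ ⁅tS, f⁆ ^ 3 = 1 ∧ t ((f : V ≃ₗ[ZMod 2] V) v0) = (f : V ≃ₗ[ZMod 2] V) v0 + v0 ∧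
      (∀ x, ((⁅tS, f⁆ : S) : V ≃ₗ[ZMod 2] V) x - x ∈
        Submodule.span (ZMod 2) {v0, (f : V ≃ₗ[ZMod 2] V) v0}) ∧
      ((⁅tS, f⁆ : S) : V ≃ₗ[ZMod 2] V) v0 = (f : V ≃ₗ[ZMod 2] V) v0 := by
    intro f hf hne
    have hcF : ⁅tS, f⁆ ∈ F := by
      rw [commutatorElement_def]
      exact mul_mem (Subgroup.Normal.conj_mem inferInstance f hf tS) (inv_mem hf)
    set g : V ≃ₗ[ZMod 2] V := (f : V ≃ₗ[ZMod 2] V) with hg
    set c : V ≃ₗ[ZMod 2] V := ((⁅tS, f⁆ : S) : V ≃ₗ[ZMod 2] V) with hc
    have hcval : ∀ x, c x = t (g (t (g⁻¹ x))) := fun x => by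
      have hti : t⁻¹ = t := inv_eq_of_mul_eq_one_right htt
      show (t * g * t⁻¹ * g⁻¹ : V ≃ₗ[ZMod 2] V) x = _
      rw [hti]; rfl
    set w := g v0 with hw
    set A : Submodule (ZMod 2) V := Submodule.span (ZMod 2) {v0, w} with hA
    have hv0A : v0 ∈ A := Submodule.subset_span (Or.inl rfl)
    have hwA : w ∈ A := Submodule.subset_span (Or.inr rfl)
    have hgT : ∀ x, g (Tm (g⁻¹ x)) = 0 ∨ g (Tm (g⁻¹ x)) = w := fun x => by
      rcases hrange (g⁻¹ x) with h | h <;> rw [h]
      · exact Or.inl (map_zero g)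
      · exact Or.inr rfl
    have hgi : ∀ x, g (g⁻¹ x) = x := fun x => g.apply_symm_apply x
    have hgw : g⁻¹ w = v0 := g.symm_apply_apply v0
    have hcv : ∀ x, c x = x + g (Tm (g⁻¹ x)) + Tm (x + g (Tm (g⁻¹ x))) := fun x => by
      rw [hcval, htT, htT, map_add, hgi]
    have hrel : ∀ x, c x - x ∈ A := fun x => by
      rw [hcv, show x + g (Tm (g⁻¹ x)) + Tm (x + g (Tm (g⁻¹ x))) - x =
        g (Tm (g⁻¹ x)) + Tm (x + g (Tm (g⁻¹ x))) by abel]
      refine A.add_mem ?_ ?_
      · rcases hgT x with h | h <;> rw [h]; exacts [A.zero_mem, hwA]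
      · rcases hrange (x + g (Tm (g⁻¹ x))) with h | h <;> rw [h]; exacts [A.zero_mem, hv0A]
    have hodd : ∀ n : ℕ, c ^ (2 ^ n) = 1 → False := by
      intro n hn
      apply hne
      have h1 : orderOf (⁅tS, f⁆ : S) ∣ 2 ^ n :=
        orderOf_dvd_of_pow_eq_one (Subtype.ext hn)
      have h2' : orderOf (⁅tS, f⁆ : S) ∣ Nat.card F := by
        rw [← Subgroup.orderOf_mk _ hcF]; exact orderOf_dvd_natCard _
      exact orderOf_eq_one_iff.1 (Nat.eq_one_of_dvd_coprimes
        ((Nat.prime_two.coprime_iff_not_dvd.2 hFodd).pow_left n) h1 h2')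
    -- the two scalars are nonzero
    have hcw : c w = w + Tm w := by
      rw [hcv, hgw, hTv, map_zero, add_zero]
    have hcv0 : c v0 = v0 + g (Tm (g⁻¹ v0)) + Tm (g (Tm (g⁻¹ v0))) := by
      rw [hcv, map_add, hTv, zero_add]
    have hlin : ∀ z ∈ A, ∃ a b : ZMod 2, z = a • v0 + b • w := fun z hz => by
      obtain ⟨a, b, h⟩ := Submodule.mem_span_pair.1 hz
      exact ⟨a, b, h.symm⟩
    have hp2 : ∀ (h : V ≃ₗ[ZMod 2] V) x, (h ^ 2) x = h (h x) := fun h x => by rw [pow_two]; rfl
    have hTw : Tm w = v0 := by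
      refine (hrange w).resolve_left fun h => ?_
      have hcw' : c w = w := by rw [hcw, h, add_zero]
      have hcv' : c v0 = v0 ∨ c v0 = v0 + w := by
        rcases hgT v0 with h' | h' <;> rw [hcv0, h']
        · exact Or.inl (by rw [map_zero, add_zero, add_zero])
        · exact Or.inr (by rw [h, add_zero])
      have hA2 : ∀ z ∈ A, (c ^ 2) z = z := by
        intro z hz
        obtain ⟨a, b, rfl⟩ := hlin z hz
        rw [map_add, map_smul, map_smul, hp2, hp2, hcw', hcw']
        rcases hcv' with h' | h' <;> rw [h']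
        · rw [h']
        · rw [map_add, h', hcw', add_assoc v0, h2, add_zero]
      refine hodd 2 (LinearEquiv.ext fun x => ?_)
      show (c ^ 4) x = x
      have hd : (c ^ 2) x - x ∈ A := by
        rw [hp2]
        have := A.add_mem (hrel (c x)) (hrel x)
        rwa [sub_add_sub_cancel] at this
      have e : (c ^ 4) x = x + ((c ^ 2) x - x) + ((c ^ 2) x - x) := by
        conv_lhs => rw [show c ^ 4 = c ^ 2 * c ^ 2 by rw [← pow_add], LinearEquiv.mul_apply,
          show (c ^ 2) x = x + ((c ^ 2) x - x) by abel, map_add, hA2 _ hd]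
        abel
      rw [e, add_assoc, h2, add_zero]
    have hgv : g (Tm (g⁻¹ v0)) = w := by
      refine (hgT v0).resolve_left fun h => ?_
      have hcv' : c v0 = v0 := by rw [hcv0, h, map_zero, add_zero, add_zero]
      have hA2 : ∀ z ∈ A, (c ^ 2) z = z := by
        intro z hz
        obtain ⟨a, b, rfl⟩ := hlin z hz
        rw [map_add, map_smul, map_smul, hp2, hp2, hcv', hcv', hcw, hTw, map_add, hcw, hTw, hcv',
          add_assoc w, h2, add_zero]
      refine hodd 2 (LinearEquiv.ext fun x => ?_)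
      show (c ^ 4) x = x
      have hd : (c ^ 2) x - x ∈ A := by
        rw [hp2]
        have := A.add_mem (hrel (c x)) (hrel x)
        rwa [sub_add_sub_cancel] at this
      have e : (c ^ 4) x = x + ((c ^ 2) x - x) + ((c ^ 2) x - x) := by
        conv_lhs => rw [show c ^ 4 = c ^ 2 * c ^ 2 by rw [← pow_add], LinearEquiv.mul_apply,
          show (c ^ 2) x = x + ((c ^ 2) x - x) by abel, map_add, hA2 _ hd]
        abel
      rw [e, add_assoc, h2, add_zero]
    have hc0 : c v0 = w := by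
      rw [hcv0, hgv, hTw, add_comm v0, add_assoc, h2, add_zero]
    have hc1 : c w = w + v0 := by rw [hcw, hTw]
    have hsum : ∀ z ∈ A, z + c z + c (c z) = 0 := by
      intro z hz
      obtain ⟨a, b, rfl⟩ := hlin z hz
      have e0 : v0 + c v0 + c (c v0) = 0 := by
        rw [hc0, hc1, show v0 + w + (w + v0) = (v0 + v0) + (w + w) by abel, h2, h2, add_zero]
      have e1 : w + c w + c (c w) = 0 := by
        rw [hc1, map_add, hc0, hc1,
          show w + (w + v0) + (w + v0 + w) = (w + w) + (w + w) + (v0 + v0) by abel, h2, h2, add_zero]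
      simp only [map_add, map_smul]
      rw [show a • v0 + b • w + (a • c v0 + b • c w) + (a • c (c v0) + b • c (c w)) =
        (a • v0 + a • c v0 + a • c (c v0)) + (b • w + b • c w + b • c (c w)) by abel,
        ← smul_add, ← smul_add, ← smul_add, ← smul_add, e0, e1, smul_zero, smul_zero, add_zero]
    have hc3 : c ^ 3 = 1 := by
      refine LinearEquiv.ext fun x => ?_
      show c (c (c x)) = x
      have h3 := hsum _ (hrel x)
      simp only [map_sub] at h3
      rw [← sub_eq_zero]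
      rw [show c (c (c x)) - x = c x - x + (c (c x) - c x) + (c (c (c x)) - c (c x)) by abel]
      exact h3
    refine ⟨hcF, Subtype.ext hc3, ?_, hrel, hc0⟩
    rw [htT, hTw]
  -- some commutator is nontrivial
  obtain ⟨f, hf, hne⟩ : ∃ f ∈ F, ⁅tS, f⁆ ≠ 1 := by
    by_contra h
    push Not at h
    have h1 : tS ∈ F := Core.centralizer_fittingSubgroup_le
      (Subgroup.mem_centralizer_iff.2 fun x hx => (commutatorElement_eq_one_iff_mul_comm.1 (h x hx)).symm)
    apply ht1
    have hd : orderOf tS ∣ Nat.card F := by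
      rw [← Subgroup.orderOf_mk _ h1]; exact orderOf_dvd_natCard _
    have hd2 : orderOf tS ∣ 2 ^ 1 := orderOf_dvd_of_pow_eq_one (Subtype.ext (by
      show t ^ (2 ^ 1) = 1
      rw [pow_one, pow_two, htt]))
    have := orderOf_eq_one_iff.1 (Nat.eq_one_of_dvd_coprimes
      ((Nat.prime_two.coprime_iff_not_dvd.2 hFodd).pow_left 1) hd2 hd)
    exact congrArg Subtype.val this
  set Ps : S := ⟨P, hPS⟩
  have hcommP : Commute Ps tS := Subtype.ext ((Commute.self_pow P 2).eq)
  set f' := Ps * f * Ps⁻¹ with hf'def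
  have hf' : f' ∈ F := Subgroup.Normal.conj_mem inferInstance f hf Ps
  have hne' : ⁅tS, f'⁆ ≠ 1 := by
    intro h
    apply hne
    have e : ⁅tS, f'⁆ = Ps * ⁅tS, f⁆ * Ps⁻¹ := by
      rw [hf'def]
      calc ⁅tS, Ps * f * Ps⁻¹⁆ = ⁅Ps * tS * Ps⁻¹, Ps * f * Ps⁻¹⁆ := by rw [hcommP.eq, mul_inv_cancel_right]
        _ = _ := by simp [commutatorElement_def, mul_assoc]
    rw [e] at h
    exact conj_eq_one_iff.1 h
  obtain ⟨hcF, hc3, hat, hrel, hc0⟩ := hfacts f hf hne
  obtain ⟨hcF', hc3', -, hrel', hc0'⟩ := hfacts f' hf' hne'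
  set w := (f : V ≃ₗ[ZMod 2] V) v0 with hw
  set w' := (f' : V ≃ₗ[ZMod 2] V) v0 with hw'
  set A : Submodule (ZMod 2) V := Submodule.span (ZMod 2) {v0, w}
  set X : Submodule (ZMod 2) V := Submodule.span (ZMod 2) {v0, w, w'} with hX
  have hAX : A ≤ X := Submodule.span_mono (by
    intro z hz; simp only [Set.mem_insert_iff, Set.mem_singleton_iff] at hz ⊢; tauto)
  have hAX' : Submodule.span (ZMod 2) {v0, w'} ≤ X := Submodule.span_mono (by
    intro z hz; simp only [Set.mem_insert_iff, Set.mem_singleton_iff] at hz ⊢; tauto)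
  set C : Subgroup S := Subgroup.closure {⁅tS, f⁆, ⁅tS, f'⁆} with hC
  have hC3 : IsPGroup 3 C := by
    have hnil : Group.IsNilpotent F := Core.fittingSubgroup_isNilpotent
    have : Fact (Nat.Prime 3) := ⟨Nat.prime_three⟩
    obtain ⟨Q⟩ : Nonempty (Sylow 3 F) := inferInstance
    have hQn : (Q : Subgroup F).Normal := inferInstance
    have hmem : ∀ x : S, ∀ hx : x ∈ F, x ^ 3 = 1 → x ∈ (Q : Subgroup F).map F.subtype := by
      intro x hx hx3
      have hp : IsPGroup 3 (Subgroup.zpowers (⟨x, hx⟩ : F)) := by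
        intro g
        refine ⟨1, ?_⟩
        obtain ⟨j, hj⟩ := Subgroup.mem_zpowers_iff.1 g.2
        apply Subtype.ext
        show (g : F) ^ (3 ^ 1) = 1
        rw [pow_one, ← hj, ← zpow_natCast, ← zpow_mul, mul_comm, zpow_mul, zpow_natCast,
          show (⟨x, hx⟩ : F) ^ 3 = 1 from Subtype.ext hx3, one_zpow]
      have := Sylow.unique_of_normal Q hQn
      obtain ⟨Q', hQ'⟩ := hp.exists_le_sylow
      exact ⟨⟨x, hx⟩, (Subsingleton.elim Q' Q) ▸ hQ' (Subgroup.mem_zpowers _), rfl⟩
    refine (Q.isPGroup'.map F.subtype).to_le ?_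
    rw [hC, Subgroup.closure_le]
    rintro x (rfl | rfl)
    · exact hmem _ hcF hc3
    · exact hmem _ hcF' hc3'
  have hinv : ∀ g ∈ C, ∀ x ∈ X, (g : V ≃ₗ[ZMod 2] V) x ∈ X := by
    intro g hg
    rw [hC] at hg
    induction hg using Subgroup.closure_induction with
    | mem y hy =>
      rcases hy with rfl | rfl
      · intro x hx
        have := X.add_mem (hAX (hrel x)) hx
        rwa [sub_add_cancel] at this
      · intro x hx
        have := X.add_mem (hAX' (hrel' x)) hx
        rwa [sub_add_cancel] at this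
    | one => intro x hx; exact hx
    | mul a b _ _ ha hb => intro x hx; exact ha _ (hb x hx)
    | inv a _ ha =>
      intro x hx
      have : Finite X := inferInstance
      obtain ⟨y, hy⟩ := (Finite.injective_iff_surjective
        (f := fun z : X => (⟨(a : V ≃ₗ[ZMod 2] V) z, ha z z.2⟩ : X))).1
        (fun z z' h => Subtype.ext ((a : V ≃ₗ[ZMod 2] V).injective (congrArg Subtype.val h))) ⟨x, hx⟩
      have h1 : (a : V ≃ₗ[ZMod 2] V) (y : V) = x := congrArg Subtype.val hy
      show ((a : V ≃ₗ[ZMod 2] V)⁻¹) x ∈ X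
      rw [← h1]
      exact ((a : V ≃ₗ[ZMod 2] V).symm_apply_apply (y : V)).symm ▸ y.2
  let ρ : C →* Module.End (ZMod 2) X :=
    { toFun := fun g => ((g : S) : V ≃ₗ[ZMod 2] V).toLinearMap.restrict (hinv g g.2)
      map_one' := LinearMap.ext fun x => Subtype.ext rfl
      map_mul' := fun a b => LinearMap.ext fun x => Subtype.ext rfl }
  set e : (Module.End (ZMod 2) X)ˣ ≃* GL (Fin (Module.finrank (ZMod 2) X)) (ZMod 2) :=
    Units.mapEquiv (algEquivMatrix (Module.finBasis (ZMod 2) X)).toMulEquiv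
  set η := ρ.toHomUnits with hη
  have hk : Module.finrank (ZMod 2) X ≤ 3 := by
    refine le_trans (le_of_eq ?_) ((finrank_span_finset_le_card (R := ZMod 2) ({v0, w, w'} : Finset V)).trans
      Finset.card_le_three)
    rw [hX, Finset.coe_insert, Finset.coe_insert, Finset.coe_singleton]
    rfl
  have hcard : Nat.card η.range ∣ 3 := by
    obtain ⟨j, hj⟩ := IsPGroup.iff_card.1 hC3
    obtain ⟨i, -, hi⟩ := (Nat.dvd_prime_pow Nat.prime_three).1 (hj ▸ Subgroup.card_range_dvd η)
    have h1 : 3 ^ i ∣ Nat.card (GL (Fin (Module.finrank (ZMod 2) X)) (ZMod 2)) :=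
      hi ▸ (Subgroup.card_subgroup_dvd_card η.range).trans (Nat.card_congr e.toEquiv).dvd
    rw [Matrix.card_GL_field, ZMod.card] at h1
    rw [hi]
    rcases Nat.lt_or_ge i 2 with h | h
    · interval_cases i <;> norm_num
    · exfalso
      have h9 : 9 ∣ ∏ x : Fin (Module.finrank (ZMod 2) X),
          (2 ^ Module.finrank (ZMod 2) X - 2 ^ (x : ℕ)) := (pow_dvd_pow 3 h).trans h1
      revert h9
      generalize Module.finrank (ZMod 2) X = k at hk
      interval_cases k <;> decide
  set cC : C := ⟨⁅tS, f⁆, Subgroup.subset_closure (Or.inl rfl)⟩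
  set cC' : C := ⟨⁅tS, f'⁆, Subgroup.subset_closure (Or.inr rfl)⟩
  have hv0X : v0 ∈ X := Submodule.subset_span (Or.inl rfl)
  have : Finite η.range := Set.finite_range η |>.to_subtype
  have hgen : ∃ j : ℕ, η cC' = η cC ^ j := by
    have hne1 : (⟨η cC, cC, rfl⟩ : η.range) ≠ 1 := by
      intro h
      have h1 := congrArg (fun z : η.range => ((((z : (Module.End (ZMod 2) X)ˣ)) : Module.End (ZMod 2) X) ⟨v0, hv0X⟩ : V)) h
      have h3 : w = v0 := hc0.symm.trans h1
      have h4 := hat
      rw [h3, htv, h2] at h4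
      exact hv0 h4
    have hord : orderOf (⟨η cC, cC, rfl⟩ : η.range) = Nat.card η.range := by
      rcases (Nat.dvd_prime Nat.prime_three).1 hcard with h | h
      · have : Subsingleton η.range := (Nat.card_eq_one_iff_unique.1 h).1
        exact absurd (Subsingleton.elim _ _) hne1
      · rcases (Nat.dvd_prime Nat.prime_three).1 (h ▸ orderOf_dvd_natCard (⟨η cC, cC, rfl⟩ : η.range)) with h' | h'
        · exact absurd (orderOf_eq_one_iff.1 h') hne1
        · exact h'.trans h.symm
    have htop : Subgroup.zpowers (⟨η cC, cC, rfl⟩ : η.range) = ⊤ :=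
      Subgroup.eq_top_of_card_eq _ (by rw [Nat.card_zpowers, hord])
    have hm : (⟨η cC', cC', rfl⟩ : η.range) ∈ Subgroup.zpowers (⟨η cC, cC, rfl⟩ : η.range) := htop ▸ trivial
    obtain ⟨j, hj⟩ := mem_powers_iff_mem_zpowers.2 hm
    exact ⟨j, (congrArg Subtype.val hj).symm⟩
  obtain ⟨j, hj⟩ := hgen
  rw [← map_pow] at hj
  have hj' : ((cC' : S) : V ≃ₗ[ZMod 2] V) v0 = (((cC ^ j : C) : S) : V ≃ₗ[ZMod 2] V) v0 :=
    congrArg (fun z : (Module.End (ZMod 2) X)ˣ => (((z : Module.End (ZMod 2) X) ⟨v0, hv0X⟩ : X) : V)) hj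
  have hw'A : w' ∈ A := by
    have hA' : ∀ i : ℕ, (((cC ^ i : C) : S) : V ≃ₗ[ZMod 2] V) v0 ∈ A := by
      intro i
      induction i with
      | zero => exact Submodule.subset_span (Or.inl rfl)
      | succ i ih =>
        rw [pow_succ']
        have := A.add_mem (hrel ((((cC ^ i : C) : S) : V ≃ₗ[ZMod 2] V) v0)) ih
        rw [sub_add_cancel] at this
        exact this
    have h1 := hA' j
    rw [← hj'] at h1
    exact hc0' ▸ h1
  have hPw : w' = P w := by
    show (P * (f : V ≃ₗ[ZMod 2] V) * P⁻¹) v0 = P ((f : V ≃ₗ[ZMod 2] V) v0)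
    rw [LinearEquiv.mul_apply, LinearEquiv.mul_apply]
    congr 2
    exact P.injective (by rw [hPv]; exact P.apply_symm_apply v0)
  obtain ⟨a, b, hab⟩ := Submodule.mem_span_pair.1 hw'A
  rw [hPw] at hab
  have hb01 := hz2 b
  rcases hb01 with hb | hb <;> rw [hb] at hab
  · rw [zero_smul, add_zero] at hab
    have h1 : w = a • v0 := P.injective (by rw [map_smul, hPv, hab])
    have h4 := hat
    rw [h1, map_smul, htv, left_eq_add] at h4
    exact hv0 h4
  · rw [one_smul] at hab
    have h4 := hat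
    rw [ht, pow_two, LinearEquiv.mul_apply, ← hab, map_add, map_smul, hPv, ← hab, ← add_assoc, h2,
      zero_add, left_eq_add] at h4
    exact hv0 h4

end Cfsg.Agent.S4410
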