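import Cfsg.Statements.S4413
import Cfsg.Agent.Fg24.ExtraTwo
import Cfsg.Agent.ExtraMinus.Aut

set_option autoImplicit false
open Cfsg

namespace Cfsg.Agent.S4413

open Cfsg.Agent.LargeExtra Cfsg.Agent.ExtraMinus

/-- Let P be an extraspecial 2-group of order 32 with no elementary abelian subgroup of order 8 (the central product of a dihedral and a quaternion group of order 8). Then the inner automorphism group of P has order 16 and the outer automorphism group Aut(P)/Inn(P) is isomorphic to the symmetric group of degree 5; in particular Aut(P) has order 1920. -/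
theorem result {P : Type*} [Group P] [Finite P]
    (hex : Cfsg.IsExtraspecial 2 P) (h32 : Nat.card P = 32)
    (hminus : ∀ A : Subgroup P, Cfsg.IsElementaryAbelian 2 A → Nat.card ↥A ≤ 4)
    [(MulAut.conj : P →* MulAut P).range.Normal] :
    Nat.card ↥(MulAut.conj : P →* MulAut P).range = 16 ∧ Nat.card (MulAut P) = 1920 ∧
      Nonempty ((MulAut P ⧸ (MulAut.conj : P →* MulAut P).range) ≃* Equiv.Perm (Fin 5)) := by
  obtain ⟨m, c, ⟨e⟩⟩ := Cfsg.Agent.Fg24.ExtraTwo.exists_equiv_heis hex
  have hm : m = 1 := by
    have h := Nat.card_congr e.toEquiv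
    rw [h32, Heis.card] at h
    have : 2 * (m + 1) + 1 = 5 := (Nat.pow_right_injective (le_refl 2) (h.symm.trans (by norm_num : (32 : ℕ) = 2 ^ 5)))
    omega
  subst hm
  have hc : c = 1 := by
    rcases Cfsg.Agent.Fg24.ExtraTwo.two_cases c with rfl | rfl
    · exfalso
      obtain ⟨⟨A, hA, hcard⟩, -⟩ := Heis.rank_plus (m := 1)
      have hB : Cfsg.IsElementaryAbelian 2 (A.map e.symm.toMonoidHom) := by
        refine ⟨?_, ?_⟩
        · haveI := hA.1
          exact Subgroup.map_isMulCommutative A _
        · rintro _ ⟨a, ha, rfl⟩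
          rw [← map_pow, hA.2 a ha, map_one]
      have := hminus _ hB
      rw [Subgroup.card_map_of_injective e.symm.injective, hcard] at this
      norm_num at this
    · rfl
  subst hc
  have hmap : (MulAut.conj : P →* MulAut P).range.map (MulAut.congr e).toMonoidHom =
      (MulAut.conj : M →* MulAut M).range := by
    ext α
    constructor
    · rintro ⟨_, ⟨p, rfl⟩, rfl⟩
      exact ⟨e p, MulEquiv.ext fun x => by simp [MulAut.congr]⟩
    · rintro ⟨x, rfl⟩
      exact ⟨MulAut.conj (e.symm x), ⟨_, rfl⟩, MulEquiv.ext fun y => by simp [MulAut.congr]⟩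
  have h16 : Nat.card ↥(MulAut.conj : P →* MulAut P).range = 16 := by
    rw [← card_inn, ← hmap, Subgroup.card_map_of_injective (MulAut.congr e).injective]
  refine ⟨h16, ?_, ⟨?_⟩⟩
  · rw [Nat.card_congr (MulAut.congr e).toEquiv, ← actHom.ker.card_mul_index, Subgroup.index_ker,
      MonoidHom.range_eq_top.2 actHom_surjective, Subgroup.card_top, ker_eq, card_inn,
      Nat.card_eq_fintype_card, Fintype.card_perm, Fintype.card_fin]
    rfl
  · refine (QuotientGroup.congr _ actHom.ker (MulAut.congr e) ?_).trans
      (QuotientGroup.quotientKerEquivOfSurjective actHom actHom_surjective)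
    rw [ker_eq]; exact hmap

end Cfsg.Agent.S4413
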