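import Cfsg.Statements.S4414
import Cfsg.Agent.OddWeights.Basic

set_option autoImplicit false
open Cfsg

namespace Cfsg.Agent.S4414

section Prep

open Subgroup
open scoped TensorProduct commutatorElement
open scoped Pointwise

variable {S : Type*} [Group S]

/-- The conjugation action on characters of a normal subgroup. -/
@[reducible] noncomputable def charAction (P : Subgroup S) [P.Normal] [Fintype P] : MulAction S (P →* Agent.OddWeights.Kˣ) where
  smul := Agent.OddWeights.act P
  one_smul := Agent.OddWeights.act_one P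
  mul_smul := Agent.OddWeights.act_mul P

variable [Finite S] {q : ℕ} [Fact q.Prime]

theorem false_of_invariant {α : Type*} [MulAction S α] (T Q : Subgroup S) (hT : IsPGroup 2 T)
    (hQ : Nat.card Q = q) (hq2 : q ≠ 2) (g : S) (hgQ : zpowers g = Q) (a : α)
    (hfree : ∀ b ∈ MulAction.orbit T a, g • b ≠ b)
    (hinv : ∀ b ∈ MulAction.orbit T a, g • b ∈ MulAction.orbit T a) : False := by
  classical
  have hq := (Fact.out : q.Prime)
  set O := MulAction.orbit T a with hO
  have hOf : O.Finite := Set.finite_range _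
  have : Finite O := hOf.to_subtype
  have hb : Set.BijOn (g • ·) O O :=
    hOf.injOn_iff_bijOn_of_mapsTo hinv |>.1 (MulAction.injective g).injOn
  have hst : Q ≤ MulAction.stabilizer S O := by
    rw [← hgQ, zpowers_le, MulAction.mem_stabilizer_iff]
    exact hb.image_eq
  letI : MulAction Q O :=
    { smul := fun x b => ⟨(x : S) • (b : α), by
        have h1 := MulAction.mem_stabilizer_iff.1 (hst x.2)
        exact (Set.ext_iff.1 h1 _).1 (Set.smul_mem_smul_set b.2)⟩
      one_smul := fun b => Subtype.ext (one_smul S (b : α))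
      mul_smul := fun x y b => Subtype.ext (mul_smul (x : S) (y : S) (b : α)) }
  have hQp : IsPGroup q Q := IsPGroup.of_card (n := 1) (by rw [hQ, pow_one])
  have hmod := hQp.card_modEq_card_fixedPoints O
  have hempty : IsEmpty (MulAction.fixedPoints Q O) := ⟨fun b => hfree _ b.1.2
    (congrArg Subtype.val (b.2 ⟨g, hgQ ▸ mem_zpowers g⟩))⟩
  rw [Nat.card_of_isEmpty (α := MulAction.fixedPoints Q O)] at hmod
  have hdvd : q ∣ Nat.card O := Nat.modEq_zero_iff_dvd.1 hmod
  rw [Nat.card_congr (MulAction.orbitEquivQuotientStabilizer T a)] at hdvd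
  obtain ⟨n, hn⟩ := IsPGroup.iff_card.1 hT
  have h2 := hdvd.trans ((card_quotient_dvd_card _).trans (dvd_of_eq hn))
  exact hq2 ((Nat.prime_dvd_prime_iff_eq hq Nat.prime_two).1 (hq.dvd_of_dvd_pow h2))

end Prep

open scoped commutatorElement

/-- Let S be a finite solvable group whose order is divisible only by the primes 2, p, q (p, q distinct odd primes), with a Sylow system S₂, S_p, S_q (pairwise permutable Sylow subgroups) such that: S_p is a minimal normal subgroup of S of order p or p²; S_q has order q and [S_p, S_q] = S_p; and O₂(S) = 1. Let E be an irreducible module for S over the field with two elements on which S_p acts faithfully, and E₀ the subspace of fixed points of S₂. Then either E₀ has at least 8 elements, or E₀ has exactly 4 elements and S_q does not leave E₀ invariant. -/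
theorem result {S : Type*} [Group S] [Finite S]
    [Group.IsSolvable S] (p q : ℕ) (hp : p.Prime) (hq : q.Prime) (hp2 : p ≠ 2) (hq2 : q ≠ 2) (hpq : p ≠ q)
    (hπ : ∀ r : ℕ, r.Prime → r ∣ Nat.card S → r = 2 ∨ r = p ∨ r = q)
    (S₂ : Sylow 2 S) (Sp : Sylow p S) (Sq : Sylow q S)
    (h2q : Nat.card ↥((S₂ : Subgroup S) ⊔ (Sq : Subgroup S)) = Nat.card ↥S₂ * Nat.card ↥Sq)
    (h2p : Nat.card ↥((S₂ : Subgroup S) ⊔ (Sp : Subgroup S)) = Nat.card ↥S₂ * Nat.card ↥Sp)
    (hpq' : Nat.card ↥((Sp : Subgroup S) ⊔ (Sq : Subgroup S)) = Nat.card ↥Sp * Nat.card ↥Sq)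
    (hSpN : (Sp : Subgroup S).Normal) (hSpmin : ∀ N : Subgroup S, N.Normal → N ≤ (Sp : Subgroup S) → N = ⊥ ∨ N = (Sp : Subgroup S))
    (hSpcard : Nat.card ↥Sp = p ∨ Nat.card ↥Sp = p ^ 2)
    (hSq : Nat.card ↥Sq = q) (hcomm : ⁅(Sp : Subgroup S), (Sq : Subgroup S)⁆ = (Sp : Subgroup S))
    (hO2 : Cfsg.pCore 2 S = ⊥)
    {E : Type*} [AddCommGroup E] [Module (ZMod 2) E] [Finite E] (ρ : Representation (ZMod 2) S E) (hE : Nontrivial E)
    (hirr : ∀ N : Submodule (ZMod 2) E, (∀ s : S, ∀ m ∈ N, ρ s m ∈ N) → N = ⊥ ∨ N = ⊤)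
    (hfaith : ∀ x ∈ (Sp : Subgroup S), ρ x = 1 → x = 1) :
    8 ≤ Nat.card {v : E // ∀ s ∈ (S₂ : Subgroup S), ρ s v = v} ∨
      (Nat.card {v : E // ∀ s ∈ (S₂ : Subgroup S), ρ s v = v} = 4 ∧
        ∃ x ∈ (Sq : Subgroup S), ∃ v : E, (∀ s ∈ (S₂ : Subgroup S), ρ s v = v) ∧ ¬ ∀ s ∈ (S₂ : Subgroup S), ρ s (ρ x v) = ρ x v) := by
  classical
  have := Fintype.ofFinite S
  haveI := Fact.mk hp
  haveI := Fact.mk hq
  haveI := hE
  haveI := hSpN
  set P : Subgroup S := (Sp : Subgroup S) with hP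
  set Q : Subgroup S := (Sq : Subgroup S) with hQdef
  set T : Subgroup S := (S₂ : Subgroup S) with hTdef
  haveI : Fintype P := Fintype.ofFinite P
  have hSpc : Nat.card P = p ∨ Nat.card P = p ^ 2 := hSpcard
  have hSqc : Nat.card Q = q := hSq
  have h2qc : Nat.card ↥(T ⊔ Q) = Nat.card T * Nat.card Q := h2q
  -- elementary facts about the normal Sylow subgroup
  have hPc : ∀ x y : P, x * y = y * x := by
    rcases hSpc with h | h
    · haveI : IsCyclic P := isCyclic_of_prime_card h
      exact fun x y => Std.Commutative.comm (op := (· * ·)) (self := (IsCyclic.isMulCommutative (α := P)).is_comm) x y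
    · exact fun x y => Std.Commutative.comm (op := (· * ·))
        (self := (IsPGroup.isMulCommutative_of_card_eq_prime_sq h).is_comm) x y
  have hodd : Odd (Nat.card P) := by
    rcases hSpc with h | h <;> rw [h]
    · exact hp.odd_of_ne_two hp2
    · exact (hp.odd_of_ne_two hp2).pow
  have hfix : ∀ e : E, (∀ x : P, ρ x e = e) → e = 0 := by
    let C : Submodule (ZMod 2) E :=
      { carrier := {e | ∀ x : P, ρ x e = e}
        zero_mem' := fun x => map_zero _
        add_mem' := fun {a b} ha hb x => by rw [map_add, ha x, hb x]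
        smul_mem' := fun c {a} ha x => by rw [map_smul, ha x] }
    have hC : ∀ s : S, ∀ m ∈ C, ρ s m ∈ C := fun s m hm x => by
      have h1 := hm ⟨s⁻¹ * x * s, by simpa using hSpN.conj_mem (x : S) x.2 s⁻¹⟩
      rw [← Module.End.mul_apply, ← map_mul, show (x : S) * s = s * (s⁻¹ * x * s) by group, map_mul,
        Module.End.mul_apply, h1]
    rcases hirr C hC with h | h
    · intro e he
      have h1 : e ∈ C := he
      rwa [h, Submodule.mem_bot] at h1
    · exfalso
      have hPne : Nat.card P ≠ 1 := by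
        rcases hSpc with h' | h' <;> rw [h']
        · exact hp.ne_one
        · exact fun e => hp.ne_one (Nat.pow_eq_one.1 e |>.resolve_right two_ne_zero)
      refine hPne (Subgroup.card_eq_one.2 ((Subgroup.eq_bot_iff_forall _).2 fun x hx => ?_))
      exact hfaith x hx (LinearMap.ext fun e => (h ▸ Submodule.mem_top : e ∈ C) ⟨x, hx⟩)
  -- a generator of the group of order `q`
  obtain ⟨g, hg⟩ := isCyclic_iff_exists_zpowers_eq_top.1 (isCyclic_of_prime_card (α := Q) hSqc)
  have hgQ : Subgroup.zpowers (g : S) = Q := by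
    rw [← Q.coe_subtype, ← MonoidHom.map_zpowers, hg, ← MonoidHom.range_eq_map, Subgroup.range_subtype]
  have hgo : orderOf (g : S) = q := by rw [← Nat.card_zpowers, hgQ]; exact hSqc
  letI := charAction P
  have hcomm2 : ⁅P, Q⁆ = P := hcomm
  have hfree : ∀ μ : P →* Agent.OddWeights.Kˣ, μ ≠ 1 → ∀ h ∈ Q, h • μ = μ → h = 1 := by
    intro μ hμ h hh hfix'
    by_contra h1
    apply hμ
    have hzp : Subgroup.zpowers h = Q := by
      refine Subgroup.eq_of_le_of_card_ge (Subgroup.zpowers_le.2 hh) ?_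
      rw [hSqc, Nat.card_zpowers]
      have hd : orderOf h ∣ q := hSqc ▸ Subgroup.orderOf_mk h hh ▸ orderOf_dvd_natCard (⟨h, hh⟩ : Q)
      rcases (Nat.dvd_prime hq).1 hd with e | e
      · exact absurd (orderOf_eq_one_iff.1 e) h1
      · exact e.ge
    have hall : Q ≤ MulAction.stabilizer S μ :=
      hzp ▸ Subgroup.zpowers_le.2 (MulAction.mem_stabilizer_iff.2 hfix')
    refine MonoidHom.ext fun x => ?_
    have hle : ⁅P, Q⁆ ≤ μ.ker.map P.subtype := by
      rw [Subgroup.commutator_le]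
      intro a ha b hb
      have hb1 : ⁅a, b⁆ ∈ P := by
        rw [commutatorElement_def, mul_assoc, mul_assoc]
        exact P.mul_mem ha (by simpa [mul_assoc] using hSpN.conj_mem _ (P.inv_mem ha) b)
      refine ⟨⟨_, hb1⟩, ?_, rfl⟩
      rw [SetLike.mem_coe, MonoidHom.mem_ker]
      have h2 := DFunLike.congr_fun (MulAction.mem_stabilizer_iff.1 (hall (Q.inv_mem hb))) (⟨a, ha⟩⁻¹ : P)
      have h3 : (⟨⁅a, b⁆, hb1⟩ : P) = ⟨a, ha⟩ * (MulAut.conjNormal (b⁻¹)⁻¹ (⟨a, ha⟩⁻¹ : P)) :=
        Subtype.ext (by simp [commutatorElement_def, MulAut.conjNormal_apply, mul_assoc])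
      rw [h3, map_mul]
      have h4 : μ (MulAut.conjNormal (b⁻¹)⁻¹ (⟨a, ha⟩⁻¹ : P)) = μ (⟨a, ha⟩⁻¹ : P) := h2
      rw [h4, ← map_mul, mul_inv_cancel, map_one]
    obtain ⟨y, hy, hyx⟩ := (hle.trans' (le_of_eq hcomm2.symm)) x.2
    rw [← show y = x from Subtype.ext hyx, MonoidHom.one_apply]
    exact hy
  have hne1 : ∀ (s : S) {μ : P →* Agent.OddWeights.Kˣ}, μ ≠ 1 → s • μ ≠ 1 := by
    intro s μ hμ e
    apply hμ
    rw [← inv_smul_smul s μ, e]
    exact MonoidHom.ext fun x => rfl
  -- weights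
  obtain ⟨μ₀, hμ₀, hW₀⟩ := Agent.OddWeights.exists_weight ρ P hodd hPc hfix
  have hW : ∀ s : S, Agent.OddWeights.weight ρ P (s • μ₀) ≠ ⊥ := fun s => by
    obtain ⟨v, hv, hv0⟩ := (Submodule.ne_bot_iff _).1 hW₀
    refine (Submodule.ne_bot_iff _).2 ⟨_, Agent.OddWeights.ext_mem_weight ρ P s hv, fun e => hv0 ?_⟩
    have h1 := congrArg (Agent.OddWeights.ext ρ s⁻¹) e
    rwa [← Module.End.mul_apply, ← map_mul, inv_mul_cancel, map_one, map_zero] at h1
  let orb : S → Finset (P →* Agent.OddWeights.Kˣ) := fun s =>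
    (Finset.univ : Finset T).image fun t => t • (s • μ₀)
  have horb : ∀ (s : S) ν, ν ∈ orb s ↔ ν ∈ MulAction.orbit T (s • μ₀) := fun s ν => by
    simp [orb, MulAction.mem_orbit_iff]
  have hself : ∀ s : S, s • μ₀ ∈ orb s := fun s => (horb s _).2 (MulAction.mem_orbit_self _)
  have hex : ∀ s : S, ∃ w ∈ Agent.OddWeights.span ρ P (orb s), w ≠ 0 ∧
      ∀ t ∈ T, Agent.OddWeights.ext ρ t w = w := fun s =>
    Agent.OddWeights.exists_fixed ρ P T S₂.isPGroup' (orb s) (fun t ht ν hν => by
      obtain ⟨t', ht'⟩ := (horb s ν).1 hν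
      refine (horb s _).2 ⟨⟨t, ht⟩ * t', ?_⟩
      subst ht'
      exact mul_smul (⟨t, ht⟩ : T) t' (s • μ₀)) (hself s) (hW s)
  choose w hwspan hw0 hwfix using hex
  let W : Submodule (ZMod 2) E :=
    { carrier := {v | ∀ s ∈ T, ρ s v = v}
      zero_mem' := fun s _ => map_zero _
      add_mem' := fun {a b} ha hb s hs => by rw [map_add, ha s hs, hb s hs]
      smul_mem' := fun c {a} ha s hs => by rw [map_smul, ha s hs] }
  haveI : Module.Finite (ZMod 2) E := Module.Finite.of_finite
  have hcard : Nat.card {v : E // ∀ s ∈ (S₂ : Subgroup S), ρ s v = v} = 2 ^ Module.finrank (ZMod 2) W := by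
    rw [show Nat.card {v : E // ∀ s ∈ (S₂ : Subgroup S), ρ s v = v} = Nat.card W from rfl,
      Module.natCard_eq_pow_finrank (K := ZMod 2), Nat.card_zmod]
  -- vectors over different orbits are independent
  have hli : ∀ {ι : Type} [Fintype ι] (s : ι → S),
      (∀ i j, i ≠ j → s i • μ₀ ∉ MulAction.orbit T (s j • μ₀)) →
      Fintype.card ι ≤ Module.finrank (ZMod 2) W := by
    intro ι _ s hs
    refine Agent.OddWeights.finrank_fixed_le ρ (T : Set S) W (fun e => Iff.rfl) (fun i => w (s i))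
      (fun i => hwfix (s i)) (Fintype.linearIndependent_iff.2 fun c hc i => ?_)
    have h1 := congrArg (fun z => (∑ ν ∈ orb (s i), Agent.OddWeights.proj ρ P ν) z) hc
    rw [map_sum, map_zero, Finset.sum_eq_single i (fun j _ hji => ?_)
      (fun h => absurd (Finset.mem_univ i) h)] at h1
    · rw [map_smul, LinearMap.sum_apply, (Agent.OddWeights.proj_span ρ P hodd _ (hwspan _)).1] at h1
      exact (smul_eq_zero.1 h1).resolve_right (hw0 _)
    · rw [map_smul, LinearMap.sum_apply, Finset.sum_eq_zero, smul_zero]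
      intro ν hν
      refine (Agent.OddWeights.proj_span ρ P hodd _ (hwspan _)).2 ν fun hν' => hs i j hji.symm ?_
      exact (MulAction.orbit_eq_iff.2 ((horb _ ν).1 hν')).symm.trans
        (MulAction.orbit_eq_iff.2 ((horb _ ν).1 hν)) ▸ MulAction.mem_orbit_self _
  have hnot : ∀ h ∈ Q, h ≠ 1 → (∀ b ∈ MulAction.orbit T μ₀, h • b ∈ MulAction.orbit T μ₀) → False := by
    intro h hh h1 hinv
    have hzp : Subgroup.zpowers h = Q := by
      refine Subgroup.eq_of_le_of_card_ge (Subgroup.zpowers_le.2 hh) ?_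
      rw [hSqc, Nat.card_zpowers]
      have hd : orderOf h ∣ q := hSqc ▸ Subgroup.orderOf_mk h hh ▸ orderOf_dvd_natCard (⟨h, hh⟩ : Q)
      rcases (Nat.dvd_prime hq).1 hd with e | e
      · exact absurd (orderOf_eq_one_iff.1 e) h1
      · exact e.ge
    refine false_of_invariant T Q S₂.isPGroup' hSqc hq2 h hzp μ₀ (fun b hb e => ?_) hinv
    obtain ⟨t, rfl⟩ := hb
    exact h1 (hfree _ (hne1 (t : S) hμ₀) h hh e)
  by_cases hnorm : ∀ t ∈ T, (g : S) * t * (g : S)⁻¹ ∈ T
  · -- three orbits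
    left
    rw [hcard]
    have hnormg : ∀ n : ℕ, ∀ t ∈ T, ((g : S) ^ n) * t * ((g : S) ^ n)⁻¹ ∈ T := by
      intro n
      induction n with
      | zero => intro t ht; simpa using ht
      | succ n ih =>
        intro t ht
        have h2 := hnorm _ (ih t ht)
        rwa [pow_succ', mul_inv_rev, show (g : S) * (g : S) ^ n * t * (((g : S) ^ n)⁻¹ * (g : S)⁻¹) =
          g * ((g : S) ^ n * t * ((g : S) ^ n)⁻¹) * (g : S)⁻¹ by group]
    have hkey : ∀ a b : ℕ, a < b → b < 3 → (g : S) ^ b • μ₀ ∉ MulAction.orbit T ((g : S) ^ a • μ₀) := by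
      intro a b hab hb3 hmem
      have h1 : (g : S) ^ (b - a) ≠ 1 := by
        intro e
        have h2 := orderOf_dvd_of_pow_eq_one e
        rw [hgo] at h2
        have h3 := Nat.le_of_dvd (by omega) h2
        have h4 := hq.two_le
        omega
      refine hnot _ (Q.pow_mem (by exact g.2) _) h1 fun c hc => ?_
      obtain ⟨t, rfl⟩ := hc
      obtain ⟨t', ht'⟩ := hmem
      -- move everything back by the power
      have hb' : (g : S) ^ (b - a) • μ₀ ∈ MulAction.orbit T μ₀ := by
        have h5 : (g : S) ^ b • μ₀ = (t' : S) • (g : S) ^ a • μ₀ := ht'.symm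
        have h6 : ((g : S) ^ a)⁻¹ * (t' : S) * (g : S) ^ a ∈ T := by
          have h7 := hnormg (q * (a + 1) - a) t' t'.2
          have h8 : (g : S) ^ (q * (a + 1) - a) = ((g : S) ^ a)⁻¹ := by
            refine eq_inv_of_mul_eq_one_left ?_
            rw [← pow_add, Nat.sub_add_cancel (by nlinarith [hq.two_le]), pow_mul, ← hgo,
              pow_orderOf_eq_one, one_pow]
          rwa [h8, inv_inv] at h7
        refine ⟨⟨_, h6⟩, ?_⟩
        show (((g : S) ^ a)⁻¹ * (t' : S) * (g : S) ^ a) • μ₀ = _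
        rw [mul_smul, mul_smul, ← h5, ← mul_smul]
        congr 1
        rw [inv_mul_eq_iff_eq_mul, ← pow_add, Nat.add_sub_cancel' hab.le]
      obtain ⟨t'', ht''⟩ := hb'
      refine ⟨⟨_, hnormg (b - a) t t.2⟩ * t'', ?_⟩
      show ((g : S) ^ (b - a) * t * ((g : S) ^ (b - a))⁻¹ * (t'' : S)) • μ₀ =
        (g : S) ^ (b - a) • ((t : S) • μ₀)
      rw [mul_smul, show ((t'' : S) • μ₀) = (g : S) ^ (b - a) • μ₀ from ht'', ← mul_smul, ← mul_smul,
        inv_mul_cancel_right]
    have h3 := hli (ι := Fin 3) (fun i => (g : S) ^ (i : ℕ)) fun i j hij hmem => by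
      rcases lt_or_gt_of_ne (fun e => hij (Fin.ext e)) with h | h
      · exact hkey _ _ h j.2 ((MulAction.orbit_eq_iff.2 hmem) ▸ MulAction.mem_orbit_self _)
      · exact hkey _ _ h i.2 hmem
    rw [Fintype.card_fin] at h3
    calc 8 = 2 ^ 3 := by norm_num
      _ ≤ _ := Nat.pow_le_pow_right (by norm_num) h3
  · obtain ⟨b₀, hb₀, hb₁⟩ : ∃ b ∈ MulAction.orbit T μ₀, (g : S) • b ∉ MulAction.orbit T μ₀ := by
      by_contra! hall
      exact hnot g g.2 (fun e => by rw [e, orderOf_one] at hgo; exact hq.one_lt.ne hgo) hall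
    obtain ⟨t₀, rfl⟩ := hb₀
    have hb₂ : ((g : S) * t₀) • μ₀ ∉ MulAction.orbit T μ₀ := fun h => hb₁ (by
      rw [mul_smul] at h
      exact h)
    have h2 := hli (ι := Fin 2) ![1, (g : S) * t₀] (Fin.forall_fin_two.2
      ⟨Fin.forall_fin_two.2 ⟨fun h => absurd rfl h, fun _ hmem => hb₂ (by
          have h := MulAction.orbit_eq_iff.2 hmem
          simp only [Matrix.cons_val_zero, Matrix.cons_val_one, one_smul] at h
          rw [h]; exact MulAction.mem_orbit_self _)⟩,
       Fin.forall_fin_two.2 ⟨fun _ hmem => hb₂ (by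
          simpa only [Matrix.cons_val_zero, Matrix.cons_val_one, one_smul] using hmem),
        fun h => absurd rfl h⟩⟩)
    rw [Fintype.card_fin] at h2
    rcases h2.lt_or_eq with h2 | h2
    · left
      rw [hcard]
      calc 8 = 2 ^ 3 := by norm_num
        _ ≤ _ := Nat.pow_le_pow_right (by norm_num) h2
    right
    refine ⟨by rw [hcard, ← h2]; norm_num, ?_⟩
    by_contra! hinv
    -- the pointwise stabiliser of the fixed vectors
    let F : Subgroup S :=
      { carrier := {s | ∀ v : E, (∀ t ∈ T, ρ t v = v) → ρ s v = v}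
        one_mem' := fun v _ => by rw [map_one]; rfl
        mul_mem' := fun {a c} ha hc v hv => by rw [map_mul, Module.End.mul_apply, hc v hv, ha v hv]
        inv_mem' := fun {a} ha v hv => by
          conv_lhs => rw [← ha v hv]
          rw [← Module.End.mul_apply, ← map_mul, inv_mul_cancel, map_one]; rfl }
    have hTF : T ≤ F := fun t ht v hv => hv t ht
    push Not at hnorm
    obtain ⟨t₁, ht₁, ht₁'⟩ := hnorm
    have hconj : (g : S) * t₁ * (g : S)⁻¹ ∈ F := fun v hv => by
      rw [map_mul, map_mul, Module.End.mul_apply, Module.End.mul_apply,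
        hinv _ (Q.inv_mem g.2) v hv t₁ ht₁, ← Module.End.mul_apply, ← map_mul, mul_inv_cancel, map_one]
      rfl
    set H := T ⊔ Q with hH
    have hQF : Q ≤ F := by
      have hle : H ≤ H ⊓ F := by
        refine (Subgroup.eq_of_le_of_card_ge (inf_le_left : H ⊓ F ≤ H) ?_).ge
        have hgm : (g : S) ∈ H := Subgroup.mem_sup_right g.2
        have hmem : (g : S) * t₁ * (g : S)⁻¹ ∈ H ⊓ F :=
          ⟨H.mul_mem (H.mul_mem hgm (Subgroup.mem_sup_left ht₁)) (H.inv_mem hgm), hconj⟩
        have hTI : T ≤ H ⊓ F := le_inf le_sup_left hTF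
        obtain ⟨c, hc⟩ := Subgroup.card_dvd_of_le hTI
        have hd : Nat.card (H ⊓ F : Subgroup S) ∣ Nat.card T * q := by
          refine (Subgroup.card_dvd_of_le inf_le_left).trans (dvd_of_eq ?_)
          rw [hH, h2qc, hSqc]
        rw [hc, Nat.mul_dvd_mul_iff_left Nat.card_pos] at hd
        rcases (Nat.dvd_prime hq).1 hd with rfl | rfl
        · exact absurd ((Subgroup.eq_of_le_of_card_ge hTI (by rw [hc, mul_one])).ge hmem) ht₁'
        · rw [hH, h2qc, hSqc, hc]
      exact fun x hx => (hle (Subgroup.mem_sup_right hx)).2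
    have hgw : Agent.OddWeights.ext ρ (g : S) (w 1) = w 1 :=
      Agent.OddWeights.ext_eq_self ρ (T : Set S) (g : S) (fun e he => hQF g.2 e he) (hwfix 1)
    have htw : Agent.OddWeights.ext ρ ((g : S)⁻¹) (w 1) = w 1 := by
      conv_lhs => rw [← hgw]
      rw [← Module.End.mul_apply, ← map_mul, inv_mul_cancel, map_one]; rfl
    obtain ⟨hsum, hzero⟩ := Agent.OddWeights.proj_span ρ P hodd _ (hwspan 1)
    obtain ⟨ν, hν, hν0⟩ := Finset.exists_ne_zero_of_sum_ne_zero (hsum.symm ▸ hw0 1)
    have hν' : ν ∈ MulAction.orbit T μ₀ := by simpa using (horb 1 ν).1 hν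
    obtain ⟨u, hu⟩ : ∃ u : T, u • ν = t₀ • μ₀ := by
      obtain ⟨u, rfl⟩ := hν'
      exact ⟨t₀ * u⁻¹, by rw [mul_smul]; exact congrArg (t₀ • ·) (inv_smul_smul u μ₀)⟩
    have h5 : Agent.OddWeights.proj ρ P (((g : S) * u) • ν) (w 1) =
        Agent.OddWeights.ext ρ ((g : S) * u) (Agent.OddWeights.proj ρ P ν (w 1)) := by
      rw [Agent.OddWeights.ext_proj, map_mul, Module.End.mul_apply, hwfix 1 _ u.2, hgw]
      rfl
    have h6 : ((g : S) * u) • ν ∉ orb 1 := fun hm => hb₁ (by
      have h7 := (horb 1 _).1 hm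
      rw [mul_smul, one_smul] at h7
      rw [show (u : S) • ν = (t₀ : S) • μ₀ from hu] at h7
      exact h7)
    rw [hzero _ h6] at h5
    refine hν0 ?_
    have h8 := congrArg (Agent.OddWeights.ext ρ ((g : S) * u)⁻¹) h5
    rw [map_zero, ← Module.End.mul_apply, ← map_mul, inv_mul_cancel, map_one] at h8
    exact h8.symm

end Cfsg.Agent.S4414
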