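import Cfsg.Statements.S4415
import Cfsg.Agent.CubicBlock.Finish
import Cfsg.Agent.Layer.PConstraint
import Cfsg.Agent.Coprime.Basic

set_option autoImplicit false
open Cfsg

namespace Cfsg.Agent.S4415

open Subgroup CubicBlock
open scoped commutatorElement

theorem range_small {E : Type*} [AddCommGroup E] [Module (ZMod 3) E] [Finite E] (f : E →ₗ[ZMod 3] E)
    (E₀ E₁ : Submodule (ZMod 3) E) (hs : E₀ ⊔ E₁ = ⊤) (h1 : ∀ v ∈ E₁, f v = 0)
    (h0 : ∀ v ∈ E₀, f v ∈ E₀) (hcard : Nat.card ↥E₀ = 27) (hnil : ∀ v, f (f (f v)) = 0) :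
    Nat.card ↥(LinearMap.range f) ≤ 9 := by
  have key : ∀ w ∈ LinearMap.range f, ∃ u ∈ E₀, f u = w := by
    rintro _ ⟨v, rfl⟩
    obtain ⟨a, ha, c, hc, rfl⟩ := Submodule.mem_sup.mp (hs ▸ Submodule.mem_top : v ∈ E₀ ⊔ E₁)
    exact ⟨a, ha, by rw [map_add, h1 c hc, add_zero]⟩
  have hle : LinearMap.range f ≤ E₀ := fun w hw => by
    obtain ⟨u, hu, rfl⟩ := key w hw
    exact h0 u hu
  have hne : ¬ E₀ ≤ LinearMap.range f := fun h => by
    have hz : E₀ = ⊥ := (Submodule.eq_bot_iff _).mpr fun w hw => by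
      obtain ⟨u₁, hu₁, rfl⟩ := key w (h hw)
      obtain ⟨u₂, hu₂, rfl⟩ := key u₁ (h hu₁)
      obtain ⟨u₃, -, rfl⟩ := key u₂ (h hu₂)
      exact hnil u₃
    rw [hz] at hcard
    simp at hcard
  have hd : Nat.card ↥(LinearMap.range f) ∣ 3 ^ 3 :=
    (hcard.symm ▸ (AddSubgroup.card_dvd_of_le (H := (LinearMap.range f).toAddSubgroup)
      (K := E₀.toAddSubgroup) hle) : _ ∣ 27)
  obtain ⟨k, hk, e⟩ := (Nat.dvd_prime_pow Nat.prime_three).mp hd
  rw [e]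
  rcases Nat.lt_or_ge k 3 with h | h
  · exact (Nat.pow_le_pow_right (by norm_num) (show k ≤ 2 by omega)).trans (by norm_num)
  · refine absurd (fun w hw => ?_) hne
    have : (LinearMap.range f).toAddSubgroup = E₀.toAddSubgroup :=
      AddSubgroup.eq_of_le_of_card_ge hle (by
        show Nat.card ↥E₀ ≤ Nat.card ↥(LinearMap.range f)
        rw [hcard, e, show k = 3 by omega]; norm_num)
    exact (this ▸ hw : w ∈ (LinearMap.range f).toAddSubgroup)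

theorem sylow_center_moves_into_core {S : Type*} [Group S] [Finite S] [Group.IsSolvable S]
    (P : Sylow 3 S) {b : S} (hb : ∀ g ∈ (P : Subgroup S), g * b = b * g) {q : S}
    (hc2 : b * q * b⁻¹ * q⁻¹ * (b * q * b⁻¹ * q⁻¹) = 1) :
    b * q * b⁻¹ * q⁻¹ ∈ pPrimeCore 3 S := by
  have h3p : Fact (Nat.Prime 3) := ⟨Nat.prime_three⟩
  obtain ⟨π, hπ⟩ : ∃ π : S →* S ⧸ pPrimeCore 3 S, π = QuotientGroup.mk' _ := ⟨_, rfl⟩
  have hπs : Function.Surjective π := hπ ▸ QuotientGroup.mk'_surjective _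
  have : Group.IsSolvable (S ⧸ pPrimeCore 3 S) := Group.isSolvable_of_surjective hπs
  have hsc := Layer.pCoreSelfCentral_of_isPSolvable
    (Fusion.isPSolvable_of_isSolvable (p := 3) (S ⧸ pPrimeCore 3 S)) Core.pPrimeCore_quotient_eq_bot
  have hbO : π b ∈ pCore 3 (S ⧸ pPrimeCore 3 S) := by
    refine hsc (mem_centralizer_iff.mpr fun u hu => ?_)
    have hu' := Core.pCore_le_sylow (P.mapSurjective hπs) hu
    obtain ⟨g, hg, rfl⟩ := hu'
    rw [← map_mul, ← map_mul, hb g hg]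
  have hcO : π (b * q * b⁻¹ * q⁻¹) ∈ pCore 3 (S ⧸ pPrimeCore 3 S) := by
    have e : π (b * q * b⁻¹ * q⁻¹) = π b * (π q * (π b)⁻¹ * (π q)⁻¹) := by
      simp only [map_mul, map_inv]; group
    rw [e]
    exact mul_mem hbO (Subgroup.Normal.conj_mem inferInstance _ (inv_mem hbO) _)
  obtain ⟨k, hk⟩ := (Core.pCore_isPGroup (p := 3) (G := S ⧸ pPrimeCore 3 S)) ⟨_, hcO⟩
  have hk' : π (b * q * b⁻¹ * q⁻¹) ^ 3 ^ k = 1 := congrArg Subtype.val hk
  have h2 : π (b * q * b⁻¹ * q⁻¹) ^ 2 = 1 := by rw [← map_pow, pow_two, hc2, map_one]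
  have h1 : π (b * q * b⁻¹ * q⁻¹) = 1 := orderOf_eq_one_iff.mp
    (Nat.eq_one_of_dvd_coprimes (show Nat.Coprime 2 (3 ^ k) from Nat.Coprime.pow_right k (by norm_num))
      (orderOf_dvd_of_pow_eq_one h2) (orderOf_dvd_of_pow_eq_one hk'))
  rw [hπ, QuotientGroup.mk'_apply, QuotientGroup.eq_one_iff] at h1
  exact h1

theorem result {S : Type*} [Group S] [Finite S]
    [Group.IsSolvable S] {E : Type*} [AddCommGroup E] [Module (ZMod 3) E] [Finite E] (ρ : Representation (ZMod 3) S E)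
    (hfaith : Function.Injective ρ) (hO3 : Cfsg.pCore 3 S = ⊥)
    (B : Subgroup S) (hB : Nat.card ↥B = 3) (b : S) (hb : Subgroup.zpowers b = B)
    (E₀ E₁ : Submodule (ZMod 3) E) (hE01 : E₀ ⊓ E₁ = ⊥) (hE01' : E₀ ⊔ E₁ = ⊤)
    (hE1 : ∀ v ∈ E₁, ρ b v = v) (hE0inv : ∀ v ∈ E₀, ρ b v ∈ E₀) (hE0 : Nat.card ↥E₀ = 27)
    (hind : ∃ v ∈ E₀, ρ b (ρ b v - v) - (ρ b v - v) ≠ 0)
    (Q : Subgroup S) (hQ : Cfsg.IsElementaryAbelian 2 Q) (hQ4 : Nat.card ↥Q = 4)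
    (hBQ : B ≤ Subgroup.normalizer (Q : Set S)) (hBQ' : ¬ B ≤ Subgroup.centralizer (Q : Set S))
    (P : Sylow 3 S) (hBZ : (Subgroup.center ↥(P : Subgroup S)).map (P : Subgroup S).subtype = B) :
    ((Cfsg.IsElementaryAbelian 2 ⁅Cfsg.pPrimeCore 3 S, B⁆ ∧ Nat.card ↥⁅Cfsg.pPrimeCore 3 S, B⁆ = 4) ∨
      (Cfsg.IsExtraspecial 2 ↥⁅Cfsg.pPrimeCore 3 S, B⁆ ∧ Nat.card ↥⁅Cfsg.pPrimeCore 3 S, B⁆ = 32 ∧
        ∃ A : Subgroup S, A ≤ ⁅Cfsg.pPrimeCore 3 S, B⁆ ∧ Cfsg.IsElementaryAbelian 2 A ∧ Nat.card ↥A = 8)) ∧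
    ∃ F₀ F₁ : Submodule (ZMod 3) E, F₀ ⊓ F₁ = ⊥ ∧ F₀ ⊔ F₁ = ⊤ ∧
      (∀ r ∈ ⁅Cfsg.pPrimeCore 3 S, B⁆, ∀ v ∈ F₁, ρ r v = v) ∧ (∀ r ∈ ⁅Cfsg.pPrimeCore 3 S, B⁆ ⊔ B, ∀ v ∈ F₀, ρ r v ∈ F₀) ∧
      (∀ r ∈ ⁅Cfsg.pPrimeCore 3 S, B⁆ ⊔ B, (∀ v ∈ F₀, ρ r v = v) → r = 1) ∧
      (∀ N : Submodule (ZMod 3) E, N ≤ F₀ → (∀ r ∈ ⁅Cfsg.pPrimeCore 3 S, B⁆ ⊔ B, ∀ v ∈ N, ρ r v ∈ N) → N = ⊥ ∨ N = F₀) := by
  have h3p : Fact (Nat.Prime 3) := ⟨Nat.prime_three⟩
  subst hb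
  obtain ⟨M, hM⟩ : ∃ M, M = pPrimeCore 3 S := ⟨_, rfl⟩
  rw [← hM]
  have hMn : M.Normal := hM ▸ Core.pPrimeCore_normal
  have hb3 : b ^ 3 = 1 := by
    rw [← hB, Nat.card_zpowers]; exact pow_orderOf_eq_one b
  let D : Data S E :=
    { ρ := ρ, inj := hfaith, b := b, b3 := hb3
      small := range_small _ E₀ E₁ hE01'
        (fun v hv => by simp [hE1 v hv])
        (fun v hv => by simpa using E₀.sub_mem (hE0inv v hv) hv) hE0
        (fun v => by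
          have t := three_smul_eq_zero (ρ b v)
          have t' := three_smul_eq_zero (ρ b (ρ b v))
          have h3 : ρ b (ρ b (ρ b v)) = v := by
            calc ρ b (ρ b (ρ b v)) = ρ (b ^ 3) v := by rw [map_pow]; rfl
              _ = v := by rw [hb3, map_one]; rfl
          simp only [LinearMap.sub_apply, LinearMap.id_apply, map_sub, h3]
          calc _ = (ρ b v + ρ b v + ρ b v) - (ρ b (ρ b v) + ρ b (ρ b v) + ρ b (ρ b v)) := by abel
            _ = 0 := by rw [t, t', sub_zero])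
      cubic := hind.imp fun v hv => hv.2 }
  have hMcop : (Nat.card ↥(zpowers b)).Coprime (Nat.card M) := by
    rw [hB, hM]; exact Core.coprime_card_pPrimeCore.symm
  have hnorm : zpowers b ≤ normalizer (M : Set S) := by
    rw [normalizer_eq_top]; exact le_top
  have hRR : ⁅⁅M, zpowers b⁆, zpowers b⁆ = ⁅M, zpowers b⁆ :=
    Coprime.commutator_commutator_eq hnorm hMcop (Or.inr inferInstance)
  have hbn : b ∈ normalizer ((⁅M, zpowers b⁆ : Subgroup S) : Set S) :=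
    normalizer_commutator_ge_right M (zpowers b) (mem_zpowers b)
  let X : Setup D :=
    { R := ⁅M, zpowers b⁆
      bR := fun r hr => (mem_normalizer_iff.mp hbn r).mp hr
      gen := fun H hH => by
        have hH' : ∀ r ∈ ⁅M, zpowers b⁆, r * b * r⁻¹ * b⁻¹ ∈ H := hH
        refine hRR.symm.le.trans ((Subgroup.commutator_le).mpr fun r hr c hc => ?_)
        obtain ⟨k, rfl⟩ := Submonoid.mem_powers_iff _ _ |>.mp (mem_powers_iff_mem_zpowers.mpr hc)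
        induction k generalizing r with
        | zero => rw [pow_zero, commutatorElement_one_right]; exact H.one_mem
        | succ k ih =>
          have h1 := hH' r hr
          have h2 := ih (b * r * b⁻¹) ((mem_normalizer_iff.mp hbn r).mp hr) (npow_mem_zpowers b k)
          have e : ⁅r, b ^ (k + 1)⁆ = (r * b * r⁻¹ * b⁻¹) * ⁅b * r * b⁻¹, b ^ k⁆ := by
            rw [commutatorElement_def, commutatorElement_def, pow_succ']; group
          rw [e]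
          exact H.mul_mem h1 h2 }
  have hX : ¬ 3 ∣ Nat.card X.R := fun h =>
    Core.not_dvd_card_pPrimeCore (p := 3) (G := S) (hM ▸ h.trans (Subgroup.card_dvd_of_le
      (Coprime.commutator_le_of_le_normalizer hnorm)))
  have hbP : b ∈ (P : Subgroup S) ∧ ∀ g ∈ (P : Subgroup S), g * b = b * g := by
    obtain ⟨z, hz, rfl⟩ : b ∈ (Subgroup.center ↥(P : Subgroup S)).map (P : Subgroup S).subtype :=
      hBZ ▸ mem_zpowers b
    exact ⟨z.2, fun g hg => congrArg Subtype.val (mem_center_iff.mp hz ⟨g, hg⟩)⟩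
  -- the four-group lies in `R`
  have hQn : ∀ u ∈ Q, b * u * b⁻¹ ∈ Q := fun u hu =>
    (mem_normalizer_iff.mp (hBQ (mem_zpowers b)) u).mp hu
  have hQ2 : ∀ u ∈ Q, u * u = 1 := fun u hu => by
    rw [← pow_two]; exact hQ.2 u hu
  have hQc : ∀ u ∈ Q, ∀ w ∈ Q, u * w = w * u := fun u hu w hw =>
    congrArg Subtype.val (hQ.1.is_comm.comm ⟨u, hu⟩ ⟨w, hw⟩)
  obtain ⟨q, hq, hqne⟩ : ∃ q ∈ Q, b * q * b⁻¹ ≠ q := by
    by_contra hno
    push Not at hno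
    exact hBQ' (zpowers_le.mpr (mem_centralizer_iff.mpr fun u hu =>
      (mul_inv_eq_iff_eq_mul.mp (hno u hu)).symm))
  obtain ⟨x, hx⟩ : ∃ x, x = b * q * b⁻¹ * q⁻¹ := ⟨_, rfl⟩
  have hxQ : x ∈ Q := hx ▸ Q.mul_mem (hQn q hq) (Q.inv_mem hq)
  have hxM : x ∈ M := hM ▸ hx ▸ sylow_center_moves_into_core P hbP.2 (hx ▸ hQ2 x hxQ)
  have hx1 : x ≠ 1 := fun h => hqne (mul_inv_eq_one.mp (hx ▸ h))
  have hxne : b * x * b⁻¹ ≠ x := fun h => by
    have e1 : b * (b * q * b⁻¹) * b⁻¹ = x * (b * q * b⁻¹) := by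
      conv_rhs => rw [← h, hx]
      group
    have e2 : b * (b * (b * q * b⁻¹) * b⁻¹) * b⁻¹ = x * (x * (b * q * b⁻¹)) := by
      rw [e1]
      calc b * (x * (b * q * b⁻¹)) * b⁻¹ = (b * x * b⁻¹) * (b * (b * q * b⁻¹) * b⁻¹) := by group
        _ = _ := by rw [h, e1]
    have e3 : b * (b * (b * q * b⁻¹) * b⁻¹) * b⁻¹ = b ^ 3 * q * (b ^ 3)⁻¹ := by
      rw [pow_succ, pow_two]; group
    rw [e3, hb3, one_mul, inv_one, mul_one, ← mul_assoc x x, hQ2 x hxQ, one_mul] at e2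
    exact hqne e2.symm
  obtain ⟨y, hy⟩ : ∃ y, y = b * x * b⁻¹ := ⟨_, rfl⟩
  have hyQ : y ∈ Q := hy ▸ hQn x hxQ
  obtain ⟨z, hz⟩ : ∃ z, z = b * y * b⁻¹ := ⟨_, rfl⟩
  have hzQ : z ∈ Q := hz ▸ hQn y hyQ
  have hbz : b * z * b⁻¹ = x := by
    have e : b * (b * (b * x * b⁻¹) * b⁻¹) * b⁻¹ = b ^ 3 * x * (b ^ 3)⁻¹ := by
      rw [pow_succ, pow_two]; group
    rw [hz, hy, e, hb3, one_mul, inv_one, mul_one]
  have hy1 : y ≠ 1 := fun h => hx1 (by
    rw [← hbz, hz, h]; group)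
  have hprod : z = x * y := by
    classical
    have hall : ∀ u ∈ Q, u = 1 ∨ u = x ∨ u = y ∨ u = x * y := by
      have hne1 : x * y ≠ 1 := fun h => hxne (by
        rw [← hy]
        exact (mul_left_cancel (h.trans (hQ2 x hxQ).symm)))
      have hnex : x * y ≠ x := fun h => hy1 (mul_left_cancel (h.trans (mul_one x).symm))
      have hney : x * y ≠ y := fun h => hx1 (mul_right_cancel (h.trans (one_mul y).symm))
      have hxy : x ≠ y := fun h => hxne (hy ▸ h.symm)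
      obtain ⟨T, hT⟩ : ∃ T : Finset ↥Q, T = {1, ⟨x, hxQ⟩, ⟨y, hyQ⟩, ⟨x * y, Q.mul_mem hxQ hyQ⟩} :=
        ⟨_, rfl⟩
      have hTc : T.card = 4 := by
        rw [hT]
        simp [Subtype.ext_iff, hx1.symm, hy1.symm, hne1.symm, hxy, hnex.symm, hney.symm]
      have : Fintype ↥Q := Fintype.ofFinite _
      have hTu : T = Finset.univ := Finset.eq_univ_of_card T (by rw [hTc, ← Nat.card_eq_fintype_card, hQ4])
      intro u hu
      have := Finset.mem_univ (⟨u, hu⟩ : ↥Q)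
      rw [← hTu, hT] at this
      simpa [Subtype.ext_iff] using this
    rcases hall z hzQ with h | h | h | h
    · exact absurd (by rw [← hbz, h]; group) hx1
    · exact absurd (by rwa [h] at hbz) hxne
    · have e1 : y = x := by
        calc y = b * y * b⁻¹ := h.symm.trans hz
          _ = b * z * b⁻¹ := by rw [h]
          _ = x := hbz
      exact absurd (hy.symm.trans e1) hxne
    · exact h
  obtain ⟨F, hFx, hFy⟩ := four_of_product (D := D) hx1 hxne (hQ2 x hxQ)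
    (show b * (b * x * b⁻¹) * b⁻¹ = x * (b * x * b⁻¹) by rw [← hy, ← hz, hprod])
  have hxR : x ∈ X.R := by
    have h1 : ⁅x, b⁆ ∈ X.R := commutator_mem_commutator hxM (mem_zpowers b)
    have e : ⁅x, b⁆ = x * y := by
      rw [commutatorElement_def, inv_eq_of_mul_eq_one_right (hQ2 x hxQ), hy]; group
    rw [e, ← hprod] at h1
    exact hbz ▸ X.bR z h1
  obtain ⟨F', hx', hy', hcases⟩ := X.conclusion F (hFx ▸ hxR) (by rw [hFy]; exact X.bR x hxR) hX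
  rcases hcases with h | ⟨j, H⟩
  · exact ⟨Or.inl (four_card hx' hy' h), four_goodPair hx' hy' h⟩
  · exact ⟨Or.inr ⟨H.isExtraspecial, H.card_R, H.exists_eight⟩, extra_goodPair H⟩

end Cfsg.Agent.S4415
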