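import Cfsg.Statements.S4416
import Cfsg.Agent.Fg24.ExtraTwo
import Mathlib

/-!
S4416: classification of extraspecial 2-groups.
-/

set_option autoImplicit false

namespace Cfsg.Agent.S4416

open Cfsg.Agent.LargeExtra Cfsg.Agent.Fg24.ExtraTwo

theorem card_congr_sq {A B : Type*} [Group A] [Group B] (φ : A ≃* B) :
    Nat.card {x : A // x ^ 2 = 1} = Nat.card {x : B // x ^ 2 = 1} :=
  Nat.card_congr (Equiv.subtypeEquiv φ.toEquiv fun x => by
    show x ^ 2 = 1 ↔ (φ x) ^ 2 = 1
    rw [← map_pow, EmbeddingLike.map_eq_one_iff])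

/-- Classification of extraspecial 2-groups in intrinsic form. An extraspecial 2-group has order 2^(2m+1) for some m ≥ 1, and the number of its elements squaring to the identity is either 2^(2m) + 2^m or 2^(2m) − 2^m; two extraspecial 2-groups of the same order with the same number of such elements are isomorphic. (The two cases are the central products of m dihedral groups of order 8, and of m − 1 dihedral groups with one quaternion group.) -/
theorem result (E : Type*) [Group E] [Finite E] (hE : Cfsg.IsExtraspecial 2 E) :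
    (∃ m : ℕ, 1 ≤ m ∧ Nat.card E = 2 ^ (2 * m + 1) ∧
      (Nat.card {x : E // x ^ 2 = 1} = 2 ^ (2 * m) + 2 ^ m ∨ Nat.card {x : E // x ^ 2 = 1} = 2 ^ (2 * m) - 2 ^ m)) ∧
    ∀ (E' : Type*) [Group E'] [Finite E'], Cfsg.IsExtraspecial 2 E' → Nat.card E' = Nat.card E →
      Nat.card {x : E' // x ^ 2 = 1} = Nat.card {x : E // x ^ 2 = 1} → Nonempty (E ≃* E') := by
  obtain ⟨m, c, ⟨φ⟩⟩ := exists_equiv_heis hE
  constructor
  · refine ⟨m + 1, Nat.le_add_left 1 m, by rw [Nat.card_congr φ.toEquiv, Heis.card], ?_⟩
    rw [card_congr_sq φ]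
    rcases two_cases c with rfl | rfl
    · exact Or.inl (card_sq_eq_one m).1
    · exact Or.inr (card_sq_eq_one m).2
  · intro E' _ _ hE' hcard hsq
    obtain ⟨m', c', ⟨ψ⟩⟩ := exists_equiv_heis hE'
    rw [Nat.card_congr φ.toEquiv, Nat.card_congr ψ.toEquiv, Heis.card, Heis.card] at hcard
    obtain rfl : m' = m := by
      have := Nat.pow_right_injective le_rfl hcard
      omega
    rw [card_congr_sq φ, card_congr_sq ψ] at hsq
    have hpos : 0 < 2 ^ (m' + 1) := by positivity
    have hle : 2 ^ (m' + 1) ≤ 2 ^ (2 * (m' + 1)) := Nat.pow_le_pow_right (by norm_num) (by omega)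
    have hc : c' = c := by
      rcases two_cases c with rfl | rfl <;> rcases two_cases c' with rfl | rfl
      · rfl
      · rw [(card_sq_eq_one m').1, (card_sq_eq_one m').2] at hsq; omega
      · rw [(card_sq_eq_one m').1, (card_sq_eq_one m').2] at hsq; omega
      · rfl
    subst hc
    exact ⟨φ.trans ψ.symm⟩

end Cfsg.Agent.S4416
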