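import Cfsg.Statements.S4417
import Cfsg.Agent.PLinearDL.Main

set_option autoImplicit false
open Cfsg

namespace Cfsg.Agent.S4417

/-- Let F be a field with q elements, p a prime not dividing q, and e the multiplicative order of q modulo p; assume e ≤ n. Then every p-subgroup of GL_n(F) has derived length at most ⌊log₂(n/e)⌋ + 1: that term of its derived series is trivial (n/e is the integer quotient). -/
theorem result {F : Type*} [Field F] [Fintype F] (q : ℕ) (hF : Fintype.card F = q) (p : ℕ) [Fact p.Prime] (hpq : ¬ p ∣ q) (n e : ℕ) (he : e = orderOf (q : ZMod p)) (hen : e ≤ n) (P : Subgroup (GL (Fin n) F)) (hP : IsPGroup p P) : derivedSeries ↥P (Nat.log 2 (n / e) + 1) = ⊥ := by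
  have hq : Nat.card F = q := by rw [Nat.card_eq_fintype_card, hF]
  have hp0 : (p : F) ≠ 0 := fun h0 => by
    haveI : CharP F p := (CharP.charP_iff_prime_eq_zero Fact.out).mpr h0
    obtain ⟨m, -, hm⟩ := FiniteField.card F p
    exact hpq (hF ▸ hm ▸ dvd_pow_self p m.ne_zero)
  rw [eq_bot_iff]
  intro g hg
  let σ : P →* Module.End F (Fin n → F) :=
    (Matrix.toLinAlgEquiv' (R := F) (n := Fin n)).toAlgHom.toMonoidHom.comp
      ((Units.coeHom _).comp P.subtype)
  have h := PLinearDL.bound_finite hp0 hP n (Module.finrank_fin_fun F) σ g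
    (by rw [hq, ← he]; exact hg)
  refine Subgroup.mem_bot.mpr (Subtype.ext (Units.ext ?_))
  refine (Matrix.toLinAlgEquiv' (R := F) (n := Fin n)).injective ?_
  rw [Subgroup.coe_one, Units.val_one, map_one]
  exact h

end Cfsg.Agent.S4417
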