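import Cfsg.Statements.S4419
import Cfsg.Agent.Fusion.Control
import Cfsg.Agent.Core.PCore
import Cfsg.Agent.MaxClass.Metacyclic
import Cfsg.Agent.Metacyclic.Coprime
import Cfsg.Agent.FGS.AutFrattini

set_option autoImplicit false
open Cfsg

namespace Cfsg.Agent.S4419

open Subgroup

/-- Primes dividing the order of a `p'`-automorphism of a two-generated `p`-group divide `p^2-1`. -/
theorem orderOf_aut_eq_one {X : Type*} [Group X] [Finite X] {p : ℕ} [Fact p.Prime]
    (hX : IsPGroup p X) (hm : Cfsg.IsMetacyclic X) (α : MulAut X)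
    (hα : (orderOf α).Coprime p) (hα2 : (orderOf α).Coprime (p ^ 2 - 1)) : α = 1 := by
  have hpp := (Fact.out : p.Prime)
  obtain ⟨n, hn⟩ := IsPGroup.iff_card.1 hX
  obtain ⟨hcomm, hexp⟩ := FGS.frattini_quotient_props hn
  obtain ⟨a, b, hab⟩ := MaxClass.exists_two_generators hm
  have hle : Nat.card (X ⧸ frattini X) ≤ p ^ 2 := by
    set π := QuotientGroup.mk' (frattini X)
    let K : Subgroup (X ⧸ frattini X) := zpowers (π a) ⊔ zpowers (π b)
    have hK : K = ⊤ := by
      rw [eq_top_iff, ← map_top_of_surjective π (QuotientGroup.mk'_surjective _), ← hab,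
        MonoidHom.map_closure, closure_le]
      rintro _ ⟨w, rfl | rfl, rfl⟩
      · exact mem_sup_left (mem_zpowers _)
      · exact mem_sup_right (mem_zpowers _)
    have hn' : ∀ x : X ⧸ frattini X, Nat.card (zpowers x) ≤ p := fun x => by
      rw [Nat.card_zpowers]
      exact Nat.le_of_dvd hpp.pos (orderOf_dvd_of_pow_eq_one (hexp x))
    haveI : (zpowers (π b)).Normal := ⟨fun n hn g => by
      rwa [hcomm g n, mul_inv_cancel_right]⟩
    have hsur : Function.Surjective
        (fun x : zpowers (π a) × zpowers (π b) => (x.1 : X ⧸ frattini X) * x.2) := by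
      intro y
      have hy : y ∈ ((K : Subgroup _) : Set (X ⧸ frattini X)) := by rw [hK]; trivial
      rw [mul_normal] at hy
      obtain ⟨u, hu, v, hv, rfl⟩ := hy
      exact ⟨(⟨u, hu⟩, ⟨v, hv⟩), rfl⟩
    calc Nat.card (X ⧸ frattini X) ≤ Nat.card (zpowers (π a) × zpowers (π b)) :=
          Nat.card_le_card_of_surjective _ hsur
      _ ≤ p * p := by rw [Nat.card_prod]; exact Nat.mul_le_mul (hn' _) (hn' _)
      _ = p ^ 2 := (pow_two p).symm
  obtain ⟨r, hr⟩ := hX.index (frattini X)
  have hr2 : r ≤ 2 := by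
    rw [← index_eq_card, hr] at hle
    exact (Nat.pow_le_pow_iff_right hpp.one_lt).mp hle
  have hd := (orderOf_dvd_natCard α).trans (FGS.card_mulAut_dvd hn hr)
  have hcop : (orderOf α).Coprime (∏ i ∈ Finset.range r, (p ^ r - p ^ i)) := by
    have h1 : (orderOf α).Coprime (p - 1) := by
      refine hα2.coprime_dvd_right ⟨p + 1, ?_⟩
      have := Nat.sq_sub_sq p 1
      rw [one_pow] at this
      rw [this, mul_comm]
    interval_cases r
    · simp
    · simpa [Finset.prod_range_one] using h1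
    · rw [Finset.prod_range_succ, Finset.prod_range_one, pow_zero, pow_one]
      refine hα2.mul_right ?_
      rw [pow_two, ← Nat.mul_sub_one]
      exact hα.mul_right h1
  exact orderOf_eq_one_iff.mp (Nat.eq_one_of_dvd_coprimes ((hα.pow_right _).mul_right hcop)
    dvd_rfl hd)

theorem hasNormalPComplement_of_coprime_quotient {G : Type*} [Group G] [Finite G] (p : ℕ)
    [Fact p.Prime] (S : Sylow p G) (hS : Cfsg.IsMetacyclic (S : Subgroup G))
    [hn : (Cfsg.pPrimePCore p G).Normal]
    (h : Nat.Coprime (Nat.card (G ⧸ Cfsg.pPrimePCore p G)) (p ^ 2 - 1)) :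
    Cfsg.HasNormalPComplement p G := by
  refine Fusion.hasNormalPComplement_of_frobenius_sylow S fun Q hQ g hg hgo => ?_
  have hQp : IsPGroup p Q := S.2.to_le hQ
  have hQm : Cfsg.IsMetacyclic Q :=
    Metacyclic.isMetacyclic_of_injective hS (inclusion hQ) (inclusion_injective hQ)
  set e := orderOf (g : G ⧸ Cfsg.pPrimePCore p G) with he
  have hed : e ∣ Nat.card (G ⧸ Cfsg.pPrimePCore p G) := orderOf_dvd_natCard _
  have heg : e ∣ orderOf g := orderOf_map_dvd (QuotientGroup.mk' _) g
  have hmem : g ^ e ∈ Cfsg.pPrimePCore p G := by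
    rw [← QuotientGroup.eq_one_iff, QuotientGroup.mk_pow]
    exact pow_orderOf_eq_one _
  have hmem' : g ^ e ∈ Cfsg.pPrimeCore p G := by
    rw [Cfsg.pPrimePCore, mem_comap] at hmem
    have h1 : (orderOf (QuotientGroup.mk' (Cfsg.pPrimeCore p G) (g ^ e))).Coprime p :=
      Nat.Coprime.coprime_dvd_left ((orderOf_map_dvd _ _).trans (orderOf_pow_dvd _)) hgo
    obtain ⟨k, hk⟩ := IsPGroup.iff_orderOf.mp
      (Core.pCore_isPGroup (p := p) (G := G ⧸ Cfsg.pPrimeCore p G)) ⟨_, hmem⟩
    rw [Subgroup.orderOf_mk] at hk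
    rw [hk] at h1
    have h2 : p ^ k = 1 := Nat.eq_one_of_dvd_coprimes (h1.pow_right k) dvd_rfl dvd_rfl
    rw [h2, orderOf_eq_one_iff, QuotientGroup.mk'_apply, QuotientGroup.eq_one_iff] at hk
    exact hk
  set ψ : MulAut Q := Q.normalizerMonoidHom ⟨g, hg⟩ with hψ
  have hψ0 : ∀ x : Q, ((ψ x : Q) : G) = g * x * g⁻¹ := fun x => rfl
  have hψg : orderOf ψ ∣ orderOf g := by
    refine (orderOf_map_dvd Q.normalizerMonoidHom (⟨g, hg⟩ : normalizer (Q : Set G))).trans ?_
    rw [Subgroup.orderOf_mk]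
  have hge : g ^ e ∈ normalizer (Q : Set G) := pow_mem hg e
  have hψe : ψ ^ e = 1 := by
    rw [hψ, ← map_pow]
    ext x
    have h1 : g ^ e * x * (g ^ e)⁻¹ * (x : G)⁻¹ ∈ Cfsg.pPrimeCore p G := by
      rw [mul_assoc, mul_assoc, ← mul_assoc (x : G)]
      exact mul_mem hmem' ((inferInstance : (Cfsg.pPrimeCore p G).Normal).conj_mem _
        (inv_mem hmem') x)
    have h2 : g ^ e * x * (g ^ e)⁻¹ * (x : G)⁻¹ ∈ Q :=
      mul_mem ((mem_normalizer_iff.mp hge x).mp x.2) (inv_mem x.2)
    obtain ⟨k, hk⟩ := IsPGroup.iff_orderOf.mp hQp ⟨_, h2⟩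
    rw [Subgroup.orderOf_mk] at hk
    have h3 : (orderOf (g ^ e * x * (g ^ e)⁻¹ * (x : G)⁻¹)).Coprime p :=
      Nat.Coprime.coprime_dvd_left (Subgroup.orderOf_dvd_natCard _ h1)
        Core.coprime_card_pPrimeCore
    rw [hk] at h3
    have h4 : p ^ k = 1 := Nat.eq_one_of_dvd_coprimes (h3.pow_right k) dvd_rfl dvd_rfl
    rw [h4, orderOf_eq_one_iff, mul_inv_eq_one] at hk
    show g ^ e * (x : G) * (g ^ e)⁻¹ = x
    exact hk
  have hψ1 : ψ = 1 := orderOf_aut_eq_one hQp hQm ψ (hgo.coprime_dvd_left hψg)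
    (h.coprime_dvd_left ((orderOf_dvd_of_pow_eq_one hψe).trans hed))
  rw [mem_centralizer_iff]
  intro x hx
  have h1 := hψ0 ⟨x, hx⟩
  rw [hψ1] at h1
  simp only [MulAut.one_apply] at h1
  calc x * g = g * x * g⁻¹ * g := by rw [← h1]
    _ = g * x := by group

/-- Let p be a prime and G a finite group whose Sylow p-subgroups are metacyclic (a cyclic normal subgroup with cyclic quotient). Then G has a normal p-complement if and only if the order of G/O_{p′,p}(G) is coprime to p² − 1. -/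
theorem result {G : Type*} [Group G] [Finite G] (p : ℕ) [Fact p.Prime] (S : Sylow p G) (hS : Cfsg.IsMetacyclic ↥(S : Subgroup G)) : Cfsg.HasNormalPComplement p G ↔ Nat.Coprime (Nat.card (G ⧸ Cfsg.pPrimePCore p G)) (p ^ 2 - 1) := by
  constructor
  · intro h
    have htop : Cfsg.pPrimePCore p G = ⊤ := by
      have hres : Cfsg.pResidual p G ≤ Cfsg.pPrimeCore p G :=
        Core.le_pPrimeCore (hN := inferInstance)
          (Fusion.coprime_card_pResidual_of_hasNormalPComplement h)
      have hq : IsPGroup p (G ⧸ Cfsg.pPrimeCore p G) :=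
        Fusion.isPGroup_quotient_of_pResidual_le _ hres
      rw [Cfsg.pPrimePCore, (Core.pCore_eq_top hq), comap_top]
    have h1 : Nat.card (G ⧸ Cfsg.pPrimePCore p G) = 1 := by
      rw [← index_eq_card, htop, index_top]
    rw [h1]
    exact Nat.coprime_one_left _
  · intro h
    haveI : (Cfsg.pPrimePCore p G).Normal := Normal.comap inferInstance _
    exact hasNormalPComplement_of_coprime_quotient p S hS h

end Cfsg.Agent.S4419
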