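import Cfsg.Statements.S4420
import Mathlib


set_option autoImplicit false
open Cfsg

namespace Cfsg.Agent.S4420

/-- Structure of groups in which every element outside some proper subgroup has square 1. Let H be a finite group with a proper subgroup A such that every element outside A has square 1. Then H has an abelian normal subgroup B of index 2 such that every element outside B is an involution inverting every element of B; and if H is not an elementary abelian 2-group, B is the only abelian normal subgroup of index 2 with this property. -/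
theorem result {H : Type*} [Group H] [Finite H] (A : Subgroup H) (hA : A ≠ ⊤) (hD : ∀ x : H, x ∉ A → x ^ 2 = 1) :
    ∃ B : Subgroup H, B.Normal ∧ IsMulCommutative ↥B ∧ B.index = 2 ∧
      (∀ x : H, x ∉ B → x ^ 2 = 1 ∧ ∀ b ∈ B, x * b * x⁻¹ = b⁻¹) ∧
      (¬ (IsMulCommutative H ∧ ∀ x : H, x ^ 2 = 1) →
        ∀ B' : Subgroup H, B'.Normal → IsMulCommutative ↥B' → B'.index = 2 →
          (∀ x : H, x ∉ B' → x ^ 2 = 1 ∧ ∀ b ∈ B', x * b * x⁻¹ = b⁻¹) → B' = B) := by
  have hinvol : ∀ x, x ∉ A → x⁻¹ = x := fun x hx => inv_eq_of_mul_eq_one_right (by rw [← sq, hD x hx])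
  obtain ⟨x, hx⟩ : ∃ x, x ∉ A := by
    by_contra hc
    push Not at hc
    exact hA ((Subgroup.eq_top_iff' A).mpr hc)
  have hinv : ∀ y, y ∉ A → ∀ a ∈ A, y * a * y⁻¹ = a⁻¹ := by
    intro y hy a ha
    have h1 : y * a ∉ A := fun h => hy ((A.mul_mem_cancel_right ha).mp h)
    have h2 := hD _ h1
    rw [hinvol y hy, eq_inv_iff_mul_eq_one]
    rw [sq] at h2
    calc y * a * y * a = y * a * (y * a) := by simp only [mul_assoc]
      _ = 1 := h2
  have hAcomm : ∀ a ∈ A, ∀ b ∈ A, a * b = b * a := by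
    intro a ha b hb
    have h1 := hinv x hx _ (A.mul_mem ha hb)
    rw [show x * (a * b) * x⁻¹ = (x * a * x⁻¹) * (x * b * x⁻¹) by group, hinv x hx a ha, hinv x hx b hb]
      at h1
    calc a * b = (b⁻¹ * a⁻¹)⁻¹ := by group
      _ = (a⁻¹ * b⁻¹)⁻¹ := by rw [← mul_inv_rev, ← h1]
      _ = b * a := by group
  by_cases hexp : ∀ z : H, z ^ 2 = 1
  · have hinv' : ∀ z : H, z⁻¹ = z := fun z => inv_eq_of_mul_eq_one_right (by rw [← sq, hexp z])
    have hcomm : ∀ a b : H, a * b = b * a := fun a b => by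
      conv_lhs => rw [← hinv' (a * b)]
      rw [mul_inv_rev, hinv', hinv']
    obtain ⟨n, hn⟩ := IsPGroup.iff_card.mp (fun z => ⟨1, by rw [pow_one]; exact hexp z⟩ : IsPGroup 2 H)
    have : Fact (Nat.Prime 2) := ⟨Nat.prime_two⟩
    have hn0 : n ≠ 0 := by
      rintro rfl
      have := (Nat.card_eq_one_iff_unique.mp (by simpa using hn)).1
      exact hx (Subsingleton.elim x 1 ▸ A.one_mem)
    obtain ⟨B, hB⟩ := Sylow.exists_subgroup_card_pow_prime (G := H) 2 (n := n - 1)
      (hn ▸ pow_dvd_pow 2 (Nat.sub_le n 1))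
    have hBn : B.Normal := ⟨fun b hb g => by rw [hcomm g b, mul_inv_cancel_right]; exact hb⟩
    refine ⟨B, hBn, ⟨⟨fun a b => Subtype.ext (hcomm a b)⟩⟩, ?_, fun z _ => ⟨hexp z, fun b _ => ?_⟩,
      fun h => absurd ⟨⟨⟨hcomm⟩⟩, hexp⟩ h⟩
    · have h1 := B.card_mul_index
      rw [hB, hn] at h1
      have h2 : 2 ^ n = 2 ^ (n - 1) * 2 := by rw [← pow_succ]; congr 1; omega
      exact Nat.eq_of_mul_eq_mul_left (pow_pos (by norm_num) _) (h1.trans h2)
    · rw [hcomm z b, mul_inv_cancel_right, hinv' b]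
  · push Not at hexp
    obtain ⟨a, ha2⟩ := hexp
    have haA : a ∈ A := by_contra fun h => ha2 (hD a h)
    have hidx : A.index = 2 := by
      rw [Subgroup.index_eq_two_iff]
      refine ⟨x, fun b => ?_⟩
      by_cases hb : b ∈ A
      · exact Or.inr ⟨hb, fun h => hx ((A.mul_mem_cancel_left hb).mp h)⟩
      · refine Or.inl ⟨?_, hb⟩
        by_contra hbx
        -- `b * x` would invert and centralize `a`
        have h1 := hinv _ hbx a haA
        have h2 : b * x * a * (b * x)⁻¹ = a := by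
          rw [show b * x * a * (b * x)⁻¹ = b * (x * a * x⁻¹) * b⁻¹ by group, hinv x hx a haA,
            hinv b hb _ (A.inv_mem haA), inv_inv]
        rw [h2] at h1
        exact ha2 (by rw [sq]; exact eq_inv_iff_mul_eq_one.mp h1)
    refine ⟨A, Subgroup.normal_of_index_eq_two hidx, ⟨⟨fun a b => Subtype.ext (hAcomm a a.2 b b.2)⟩⟩,
      hidx, fun z hz => ⟨hD z hz, hinv z hz⟩, fun _ B hBn hBc hBi hB => ?_⟩
    have haB : a ∈ B := by_contra fun h => ha2 (hB a h).1
    have hBA : B ≤ A := fun y hy => by_contra fun hyA => ha2 (by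
      have h1 := hinv y hyA a haA
      have h2 : y * a = a * y := setLike_mul_comm hy haB
      rw [h2, mul_inv_cancel_right] at h1
      rw [sq]
      exact eq_inv_iff_mul_eq_one.mp h1)
    refine le_antisymm hBA fun y hy => by_contra fun hyB => ha2 ?_
    have h1 := (hB y hyB).2 a haB
    rw [hAcomm y hy a haA, mul_inv_cancel_right] at h1
    rw [sq]
    exact eq_inv_iff_mul_eq_one.mp h1

end Cfsg.Agent.S4420
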