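import Cfsg.Statements.S4424
import Cfsg.Agent.Blocks.Projection

set_option autoImplicit false
open Cfsg

namespace Cfsg.Agent.S4424

/-- Let χ be an irreducible character of the finite group G lying in the p-block B (relative to a maximal ideal M of the algebraic integers containing p), and let p^a be the p-part of the order of G. Then the class function that equals p^a · χ on the p-regular elements and vanishes on the p-singular elements is an integer combination of the irreducible characters in B: there are integers a_ψ, zero for ψ outside B, with that function equal to Σ a_ψ ψ. -/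
theorem result {G : Type*} [Group G] [Finite G] (p : ℕ) [Fact p.Prime] (M : Ideal Cfsg.AlgInt) (hM : Cfsg.IsPModular p M) (B : Set (Cfsg.IrrCharacter G)) (hB : Cfsg.IsPBlock M B) (χ : Cfsg.IrrCharacter G) (hχ : χ ∈ B) : ∃ a : Cfsg.IrrCharacter G → ℤ, (∀ ψ, ψ ∉ B → a ψ = 0) ∧ (fun x : G => if p ∣ orderOf x then (0 : ℂ) else ((p ^ (Nat.card G).factorization p : ℕ) : ℂ) * (χ : G → ℂ) x) = fun x => ∑ᶠ ψ : Cfsg.IrrCharacter G, (a ψ : ℂ) * (ψ : G → ℂ) x := by
  classical
  have := Fintype.ofFinite G
  have hp : p.Prime := Fact.out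
  set q : ℕ := p ^ (Nat.card G).factorization p with hq
  have hf : (fun x : G => if p ∣ orderOf x then (0 : ℂ) else (q : ℂ) * (χ : G → ℂ) x) =
      (q : ℂ) • Cfsg.pRegularPart p (χ : G → ℂ) := by
    funext x
    by_cases hx : p ∣ orderOf x <;> simp [Blocks.pRegularPart_apply, hx, hq]
  have hint : ∀ ψ : Cfsg.IrrCharacter G, ∃ n : ℤ,
      (q : ℂ) * Cfsg.classInner (Cfsg.pRegularPart p (χ : G → ℂ)) (ψ : G → ℂ) = n := by
    intro ψ
    obtain ⟨n, hn⟩ := Blocks.regularSum_int hp (Char.isCharacter_mul
      (Char.IsIrr.isCharacter χ.2) (Char.isCharacter_conj (Char.IsIrr.isCharacter ψ.2)))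
    refine ⟨n, ?_⟩
    rw [← hn, Cfsg.classInner, Finset.sum_filter, ← mul_assoc, Finset.mul_sum, Finset.mul_sum]
    refine Finset.sum_congr rfl fun x _ => ?_
    by_cases hx : p ∣ orderOf x <;> simp [Blocks.pRegularPart_apply, hx, hq]
  choose n hn using hint
  refine ⟨fun ψ => if ψ ∈ B then n ψ else 0, fun ψ h => if_neg h, ?_⟩
  rw [hf, Blocks.pRegularPart_eq_sum hM hB hχ]
  funext x
  rw [finsum_eq_sum_of_fintype, Pi.smul_apply, Finset.sum_apply, smul_eq_mul, Finset.mul_sum]
  refine Finset.sum_congr rfl fun ψ _ => ?_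
  by_cases h : ψ ∈ B
  · simp [h, ← hn, mul_assoc]
  · simp [h]

end Cfsg.Agent.S4424
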