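import Cfsg.Statements.S4425
import Cfsg.Agent.Char.Integral
import Cfsg.Agent.Char.Gen
import Cfsg.Agent.Blocks.Sections
-- import your own Cfsg.Agent.* helpers here

set_option autoImplicit false
open Cfsg

namespace Cfsg.Agent.S4425

/-- Let χ be an irreducible character of the finite group G, p a prime, p^a the p-part of the order of G and p^b the p-part of the degree χ(1). Let χ̃ be the class function equal to p^a · χ on p-regular elements and zero on p-singular elements. Then p^(−b) · χ̃ is a generalized character of G, while p^(−(b+1)) · χ̃ is not. -/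
theorem result {G : Type*} [Group G] [Finite G] (p : ℕ) [Fact p.Prime] (χ : Cfsg.IrrCharacter G) : Cfsg.IsGeneralizedCharacter G (fun x : G => if p ∣ orderOf x then (0 : ℂ) else ((p ^ ((Nat.card G).factorization p - (Cfsg.charDegree (χ : G → ℂ)).factorization p) : ℕ) : ℂ) * (χ : G → ℂ) x) ∧ ¬ Cfsg.IsGeneralizedCharacter G (fun x : G => if p ∣ orderOf x then (0 : ℂ) else ((p ^ (Nat.card G).factorization p : ℕ) : ℂ) / ((p ^ ((Cfsg.charDegree (χ : G → ℂ)).factorization p + 1) : ℕ) : ℂ) * (χ : G → ℂ) x) := by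
  classical
  have := Fintype.ofFinite G
  have hp : p.Prime := Fact.out
  obtain ⟨d, hd0, hd⟩ := Char.IsIrr.degree χ.2
  have hdeg : charDegree (χ : G → ℂ) = d := by
    rw [charDegree, hd, Complex.natCast_re, Nat.floor_natCast]
  rw [hdeg]
  set a := (Nat.card G).factorization p with ha
  set b := d.factorization p with hb
  have hdG : d ∣ Nat.card G := Char.IsIrr.degree_dvd_card χ.2 hd
  have hba : b ≤ a := (Nat.factorization_le_iff_dvd hd0.ne' Nat.card_pos.ne').2 hdG p
  have hpC : (p : ℂ) ≠ 0 := Nat.cast_ne_zero.2 hp.ne_zero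
  constructor
  · refine Char.isGeneralized_iff.2 ⟨fun g k => ?_, fun ψ => ?_⟩
    · have ho : orderOf (k * g * k⁻¹) = orderOf g := MulEquiv.orderOf_eq (MulAut.conj k) g
      simp only [ho, Char.isClassFunction_of_isIrr χ.2 g k]
    · set R := Finset.univ.filter (fun x : G => ¬ p ∣ orderOf x) with hR
      set S : ℂ := ∑ x ∈ R, (χ : G → ℂ) x * (starRingEnd ℂ) ((ψ : G → ℂ) x) with hS
      obtain ⟨n, hn⟩ := Blocks.regularSum_int hp (Char.isCharacter_mul
        (Char.IsIrr.isCharacter χ.2) (Char.isCharacter_conj (Char.IsIrr.isCharacter ψ.2)))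
      have hn' : ((p ^ a : ℕ) : ℂ) * (Nat.card G : ℂ)⁻¹ * S = n := hn
      set c := classInner (fun x : G => if p ∣ orderOf x then (0 : ℂ) else
        ((p ^ (a - b) : ℕ) : ℂ) * (χ : G → ℂ) x) (ψ : G → ℂ) with hc
      have hcS : c = ((p ^ (a - b) : ℕ) : ℂ) * (Nat.card G : ℂ)⁻¹ * S := by
        rw [hc, classInner, hS, hR, Finset.sum_filter, Finset.mul_sum, Finset.mul_sum]
        refine Finset.sum_congr rfl fun x _ => ?_
        by_cases hx : p ∣ orderOf x
        · simp [hx]
        · simp only [hx, if_false, not_false_eq_true, if_true]; ring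
      set m := Nat.card G / p ^ a with hm
      have hGm : Nat.card G = p ^ a * m := (Nat.ordProj_mul_ordCompl_eq_self _ p).symm
      have hpm : ¬ p ∣ m := Nat.not_dvd_ordCompl hp Nat.card_pos.ne'
      have hm0 : (m : ℂ) ≠ 0 := Nat.cast_ne_zero.2 fun h => hpm (h ▸ dvd_zero p)
      have h1 : c * ((p ^ b : ℕ) : ℂ) = n := by
        have hab : ((p ^ (a - b) : ℕ) : ℂ) * ((p ^ b : ℕ) : ℂ) = ((p ^ a : ℕ) : ℂ) := by
          rw [← Nat.cast_mul, ← pow_add, Nat.sub_add_cancel hba]
        rw [hcS, ← hn', ← hab]; ring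
      obtain ⟨e, he⟩ := Nat.ordProj_dvd d p
      have h2 : IsIntegral ℤ (c * m) := by
        have hcm : c * m = ∑ x ∈ R, (χ : G → ℂ) x * (starRingEnd ℂ) ((ψ : G → ℂ) x) *
            ((e : ℂ) / d) := by
          rw [← Finset.sum_mul, ← hS, hcS, hGm, he, ← hb,
            show p ^ a = p ^ (a - b) * p ^ b by rw [← pow_add, Nat.sub_add_cancel hba]]
          have he0 : (e : ℂ) ≠ 0 := Nat.cast_ne_zero.2 fun h => hd0.ne' (by rw [he, h, mul_zero])
          push_cast
          field_simp
        have : Finite (ConjClasses G) := Quotient.finite _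
        have := Fintype.ofFinite (ConjClasses G)
        rw [hcm, ← Finset.sum_fiberwise R ConjClasses.mk]
        refine IsIntegral.sum _ fun C _ => ?_
        obtain ⟨g, rfl⟩ := ConjClasses.mk_surjective C
        by_cases hg : p ∣ orderOf g
        · rw [Finset.sum_eq_zero fun x hx => ?_]
          · exact isIntegral_zero
          · rw [Finset.mem_filter, hR, Finset.mem_filter] at hx
            obtain ⟨k, hk⟩ := isConj_iff.1 (ConjClasses.mk_eq_mk_iff_isConj.1 hx.2).symm
            exact absurd (by rw [← hk]; exact (MulEquiv.orderOf_eq (MulAut.conj k) g).symm ▸ hg) hx.1.2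
        have hfil : R.filter (fun x => ConjClasses.mk x = ConjClasses.mk g) =
            Finset.univ.filter (IsConj g) := by
          ext x
          simp only [hR, Finset.mem_filter, Finset.mem_univ, true_and,
            ConjClasses.mk_eq_mk_iff_isConj]
          refine ⟨fun h => h.2.symm, fun h => ⟨?_, h.symm⟩⟩
          obtain ⟨k, hk⟩ := isConj_iff.1 h
          rw [← hk]
          exact (MulEquiv.orderOf_eq (MulAut.conj k) g).symm ▸ hg
        rw [hfil, Finset.sum_congr rfl fun x hx => by
          rw [← Char.classFun_isConj (Char.isClassFunction_of_isIrr χ.2) (Finset.mem_filter.1 hx).2,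
            ← Char.classFun_isConj (Char.isClassFunction_of_isIrr ψ.2) (Finset.mem_filter.1 hx).2],
          Finset.sum_const, nsmul_eq_mul, ← Fintype.card_subtype, ← Nat.card_eq_fintype_card,
          Char.card_isConj_eq_index]
        have h := ((Char.centralCharacter_isIntegral χ.2 g).mul
          ((Char.IsChar.inv_eq_conj (Char.IsIrr.isCharacter ψ.2) g) ▸
            Char.IsChar.isIntegral (Char.IsIrr.isCharacter ψ.2) g⁻¹)).mul
          (isIntegral_algebraMap (R := ℤ) (A := ℂ) (x := (e : ℤ)))
        refine Eq.subst (motive := IsIntegral ℤ) ?_ h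
        rw [hd, map_natCast]
        ring
      obtain ⟨u, v, huv⟩ := Nat.isCoprime_iff_coprime.2
        ((hp.coprime_iff_not_dvd.2 hpm).pow_left b)
      have huv' : (u : ℂ) * ((p ^ b : ℕ) : ℂ) + (v : ℂ) * m = 1 := by exact_mod_cast huv
      have hint : IsIntegral ℤ c := by
        have : c = (u : ℂ) * (c * ((p ^ b : ℕ) : ℂ)) + (v : ℂ) * (c * m) := by
          linear_combination (-c) * huv'
        rw [this, h1]
        exact (isIntegral_algebraMap.mul isIntegral_algebraMap).add (isIntegral_algebraMap.mul h2)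
      have hcr : c = (((n : ℚ) / (p ^ b : ℕ) : ℚ) : ℂ) := by
        rw [Rat.cast_div, Rat.cast_intCast, Rat.cast_natCast, eq_div_iff
          (Nat.cast_ne_zero.2 (pow_ne_zero _ hp.ne_zero)), h1]
      obtain ⟨i, hi⟩ := Char.exists_int_of_isIntegral_rat (hcr ▸ hint)
      exact ⟨i, by rw [hcr, ← hi]; simp⟩
  · intro hgen
    obtain ⟨P⟩ : Nonempty (Sylow p G) := inferInstance
    have := Fintype.ofFinite (P : Subgroup G)
    obtain ⟨k, hk⟩ := Char.classInner_generalized_int
      (Char.isGeneralized_comp (P : Subgroup G).subtype hgen)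
      (Char.isGeneralized_of_isCharacter (Char.isCharacter_one (G := (P : Subgroup G))))
    rw [classInner, Finset.sum_eq_single (1 : (P : Subgroup G))] at hk
    · have hPc : Nat.card (P : Subgroup G) = p ^ a := P.card_eq_multiplicity
      simp only [Subgroup.coe_subtype, OneMemClass.coe_one, orderOf_one, Nat.dvd_one, hp.ne_one,
        if_false, map_one, mul_one, hd, hPc] at hk
      have h3 : (d : ℂ) = (k : ℂ) * ((p ^ (b + 1) : ℕ) : ℂ) := by
        rw [← hk]
        push_cast
        field_simp
      have h4 : ((p ^ (b + 1) : ℕ) : ℤ) ∣ (d : ℤ) := ⟨k, by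
        rw [mul_comm]; exact_mod_cast h3⟩
      exact Nat.pow_succ_factorization_not_dvd hd0.ne' hp (Int.natCast_dvd_natCast.1 h4)
    · intro x _ hx
      obtain ⟨i, hi⟩ := IsPGroup.iff_orderOf.1 P.2 x
      have hi0 : i ≠ 0 := fun h0 => hx (orderOf_eq_one_iff.1 (by rw [hi, h0, pow_zero]))
      have hdvd : p ∣ orderOf (x : G) := by
        rw [Subgroup.orderOf_coe, hi]; exact dvd_pow_self p hi0
      show (if p ∣ orderOf (x : G) then (0 : ℂ) else _) * _ = 0
      rw [if_pos hdvd, zero_mul]
    · simp

end Cfsg.Agent.S4425
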