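import Cfsg.Statements.S4440
import Cfsg.Agent.Fg24.Osima.Main
import Mathlib

/-!
S4440: a set of characters of a p-solvable group whose projection vanishes on p-singular elements is
a union of blocks.  The idempotent of the set is supported on p-regular elements; a norm comparison
with its projection along each extension from the p'-core shows it is locally integral.
-/

set_option autoImplicit false
open Cfsg

namespace Cfsg.Agent.S4440

open scoped ComplexConjugate

/-- Let G be a finite p-solvable group and fix a maximal ideal M of the algebraic integers containing p. Let U be a set of irreducible characters of G such that the class function Σ_{χ ∈ U} χ(1)·χ vanishes at every p-singular element of G. Then U is a union of p-blocks: if χ ∈ U and ψ lies in the same block as χ, then ψ ∈ U. -/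
theorem result {G : Type*} [Group G] [Finite G] (p : ℕ) [Fact p.Prime] (M : Ideal Cfsg.AlgInt) (hM : Cfsg.IsPModular p M) (hsolv : Cfsg.IsPSolvable p G) (U : Set (Cfsg.IrrCharacter G)) (hU : ∀ x : G, p ∣ orderOf x → ∑ᶠ χ ∈ U, (χ : G → ℂ) 1 * (χ : G → ℂ) x = 0) (χ : Cfsg.IrrCharacter G) (hχ : χ ∈ U) (ψ : Cfsg.IrrCharacter G) (hψ : Cfsg.SameBlock M (χ : G → ℂ) (ψ : G → ℂ)) : ψ ∈ U := by
  classical
  have := Fintype.ofFinite G
  refine Blocks.mem_of_sameBlock_of_memLocalRing hM (fun g => ?_) hχ hψ
  refine Fg24.Osima.mem_localRing hM _ G rfl hsolv (Cfsg.blockCoeff U)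
    (Blocks.isClassFunction_blockCoeff U) (Blocks.blockCoeff_conv U) (fun x hx => ?_) g
  have h := hU x hx
  rw [finsum_mem_eq_finite_toFinset_sum _ (Set.toFinite U)] at h
  rw [Cfsg.blockCoeff, finsum_mem_eq_finite_toFinset_sum _ (Set.toFinite U)]
  have h' := congrArg conj h
  rw [map_sum, map_zero] at h'
  rw [Finset.sum_congr rfl fun χ _ => ?_, h', mul_zero]
  obtain ⟨d, hd⟩ := Char.IsChar.degree (Char.IsIrr.isCharacter χ.2)
  rw [map_mul, hd, map_natCast]

end Cfsg.Agent.S4440
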