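import Cfsg.Statements.S4447
import Cfsg.Agent.Char.Glauberman.Equivariant
-- import your own Cfsg.Agent.* helpers here

set_option autoImplicit false
open Cfsg

namespace Cfsg.Agent.S4447

/-- Inside a finite group Γ let S normalise G and also normalise a normal subgroup N of G, with the order of S coprime to the index of N in G and S or G/N solvable. Then for every S-invariant irreducible character χ of G, the restriction of χ to N has an S-invariant irreducible constituent. -/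
theorem result {Γ : Type*} [Group Γ] [Fintype Γ] (G S N : Subgroup Γ) [Fintype G] [Fintype N] (hnorm : ∀ s ∈ S, ∀ g ∈ G, s * g * s⁻¹ ∈ G) (hNG : N ≤ G) [hNn : (N.subgroupOf G).Normal] (hNS : ∀ s ∈ S, ∀ n ∈ N, s * n * s⁻¹ ∈ N) (hcop : (N.relIndex G).Coprime (Nat.card S)) (hsolv : Group.IsSolvable S ∨ Group.IsSolvable (G ⧸ N.subgroupOf G)) (χ : Cfsg.IrrCharacter G) (hinv : (∀ s ∈ S, ∀ g g' : G, (g' : Γ) = s * g * s⁻¹ → (χ : G → ℂ) g' = (χ : G → ℂ) g)) : ∃ θ : Cfsg.IrrCharacter N, Cfsg.classInner (fun n : N => (χ : G → ℂ) ⟨n, hNG n.2⟩) (θ : N → ℂ) ≠ 0 ∧ (∀ s ∈ S, ∀ g g' : N, (g' : Γ) = s * g * s⁻¹ → (θ : N → ℂ) g' = (θ : N → ℂ) g) := by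
  classical
  haveI : Fintype (N.subgroupOf G) := Fintype.ofFinite _
  let e : N.subgroupOf G ≃* N := Subgroup.subgroupOfEquivOfLe hNG
  have h : ∀ (t : S), ∀ x ∈ N.subgroupOf G, Cfsg.Agent.Char.Glauberman.conjOp hnorm t x ∈ N.subgroupOf G :=
    fun t x hx => Subgroup.mem_subgroupOf.2 (hNS t t.2 _ (Subgroup.mem_subgroupOf.1 hx))
  obtain ⟨θ, hθ, hθi⟩ := Cfsg.Agent.Char.Glauberman.exists_inv_constituent
    (Cfsg.Agent.Char.Glauberman.conjOp hnorm) (N.subgroupOf G) h hcop hsolv χ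
    ((Cfsg.Agent.Char.Glauberman.invFun_iff hnorm _).2 hinv)
  refine ⟨Cfsg.Agent.Char.Glauberman.irrEquiv e.symm θ, ?_, fun s hs g g' he => ?_⟩
  · have h2 : Cfsg.classInner (fun n : N => (χ : G → ℂ) ⟨n, hNG n.2⟩)
        (Cfsg.Agent.Char.Glauberman.irrEquiv e.symm θ : N → ℂ) =
        Cfsg.classInner (fun n : N.subgroupOf G => (χ : G → ℂ) n) (θ : N.subgroupOf G → ℂ) := by
      rw [Cfsg.classInner, Cfsg.classInner, ← Nat.card_congr e.toEquiv]
      exact congrArg _ (Fintype.sum_equiv e.symm.toEquiv _ _ fun k => rfl)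
    rw [h2, Cfsg.Agent.Char.Glauberman.mult_spec]
    exact_mod_cast hθ
  · show (θ : N.subgroupOf G → ℂ) (e.symm g') = (θ : N.subgroupOf G → ℂ) (e.symm g)
    rw [← hθi ⟨s, hs⟩ (e.symm g)]
    exact congrArg _ (Subtype.ext (Subtype.ext he))

end Cfsg.Agent.S4447
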