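import Cfsg.Statements.S4449
import Cfsg.Agent.Char.Glauberman.Above
-- import your own Cfsg.Agent.* helpers here

set_option autoImplicit false
open Cfsg

namespace Cfsg.Agent.S4449

/-- Inside a finite group Γ let the solvable subgroup S normalise G with the orders of G and S coprime, and let N be a normal subgroup of G normalised by S. Then for every S-invariant irreducible character ϑ of N, the induced character ϑ^G has an S-invariant irreducible constituent. -/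
theorem result {Γ : Type*} [Group Γ] [Fintype Γ] (G S N : Subgroup Γ) [Fintype G] [Fintype N] (hnorm : ∀ s ∈ S, ∀ g ∈ G, s * g * s⁻¹ ∈ G) (hNG : N ≤ G) (hNnormal : ∀ g ∈ G, ∀ n ∈ N, g * n * g⁻¹ ∈ N) (hNS : ∀ s ∈ S, ∀ n ∈ N, s * n * s⁻¹ ∈ N) (hcop : (Nat.card G).Coprime (Nat.card S)) (hsolv : Group.IsSolvable S) (θ : Cfsg.IrrCharacter N) (hinv : (∀ s ∈ S, ∀ g g' : N, (g' : Γ) = s * g * s⁻¹ → (θ : N → ℂ) g' = (θ : N → ℂ) g)) : ∃ χ : Cfsg.IrrCharacter G, Cfsg.classInner (fun n : N => (χ : G → ℂ) ⟨n, hNG n.2⟩) (θ : N → ℂ) ≠ 0 ∧ (∀ s ∈ S, ∀ g g' : G, (g' : Γ) = s * g * s⁻¹ → (χ : G → ℂ) g' = (χ : G → ℂ) g) := by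
  classical
  let N' : Subgroup G := N.subgroupOf G
  haveI : N'.Normal := ⟨fun n hn g => Subgroup.mem_subgroupOf.2 (by
    simpa using hNnormal g g.2 n (Subgroup.mem_subgroupOf.1 hn))⟩
  haveI : Fintype N' := Fintype.ofFinite _
  let e : N' ≃* N := Subgroup.subgroupOfEquivOfLe hNG
  have hN : ∀ (t : S), ∀ x ∈ N', Cfsg.Agent.Char.Glauberman.conjOp hnorm t x ∈ N' :=
    fun t x hx => Subgroup.mem_subgroupOf.2 (hNS t t.2 _ (Subgroup.mem_subgroupOf.1 hx))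
  let θ' : Cfsg.IrrCharacter N' := Cfsg.Agent.Char.Glauberman.irrEquiv e θ
  have hθ : Cfsg.Agent.Char.Glauberman.InvFun
      (Cfsg.Agent.Char.Glauberman.restrictOp _ N' hN) (θ' : N' → ℂ) :=
    fun t x => hinv t t.2 (e x) (e _) rfl
  obtain ⟨χ, hχ, hm⟩ := Cfsg.Agent.Char.Glauberman.exists_above_aux _
    (Cfsg.Agent.Char.Glauberman.conjOp hnorm) N' hN θ' rfl hsolv hcop hθ
  refine ⟨χ, fun h0 => hm ?_, (Cfsg.Agent.Char.Glauberman.invFun_iff hnorm _).1 hχ⟩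
  have h1 := Cfsg.Agent.Char.Glauberman.mult_spec N' χ θ'
  have h2 : Cfsg.classInner (fun n : N' => (χ : G → ℂ) n) (θ' : N' → ℂ) =
      Cfsg.classInner (fun n : N => (χ : G → ℂ) ⟨n, hNG n.2⟩) (θ : N → ℂ) := by
    rw [Cfsg.classInner, Cfsg.classInner, Nat.card_congr e.toEquiv]
    exact congrArg _ (Fintype.sum_equiv e.toEquiv _ _ fun k => rfl)
  rw [h2, h0] at h1
  exact_mod_cast h1.symm

end Cfsg.Agent.S4449
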