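import Cfsg.Statements.S4453
import Cfsg.Agent.Char.OddCorr.Main

set_option autoImplicit false
open Cfsg

namespace Cfsg.Agent.S4453

/-- Inside a finite group Γ let S normalise the solvable subgroup G of odd order with the orders of G and S coprime, let C = G ⊓ C(S), and let L ≤ K be S-invariant normal subgroups of G with K/L abelian, G = KC and H = LC (so C ≤ H ≤ G). Then for each S-invariant irreducible character χ of G there is exactly one S-invariant irreducible character ψ of H whose multiplicity in the restriction of χ to H is odd, and χ ↦ ψ is a bijection from the S-invariant irreducible characters of G onto those of H (distinct χ give distinct ψ, and every S-invariant ψ arises). -/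
theorem result {Γ : Type*} [Group Γ] [Fintype Γ] (G S : Subgroup Γ) [Fintype G] (hnorm : ∀ s ∈ S, ∀ g ∈ G, s * g * s⁻¹ ∈ G) (hcop : (Nat.card G).Coprime (Nat.card S)) (hGsolv : Group.IsSolvable G) (hodd : Odd (Nat.card G)) (C : Subgroup Γ) [Fintype C] (hC : C = G ⊓ Subgroup.centralizer (S : Set Γ)) (hCG : C ≤ G) (K L H : Subgroup Γ) [Fintype H] (hLK : L ≤ K) (hKG : K ≤ G) (hKn : ∀ g ∈ G, ∀ k ∈ K, g * k * g⁻¹ ∈ K) (hLn : ∀ g ∈ G, ∀ l ∈ L, g * l * g⁻¹ ∈ L) (hKS : ∀ s ∈ S, ∀ k ∈ K, s * k * s⁻¹ ∈ K) (hLS : ∀ s ∈ S, ∀ l ∈ L, s * l * s⁻¹ ∈ L) (hab : ∀ a ∈ K, ∀ b ∈ K, a * b * a⁻¹ * b⁻¹ ∈ L) (hGKC : K ⊔ C = G) (hH : H = L ⊔ C) (hHG : H ≤ G) : (∀ χ : Cfsg.IrrCharacter G, (∀ s ∈ S, ∀ g g' : G, (g' : Γ) = s * g * s⁻¹ → (χ : G → ℂ) g' = (χ : G → ℂ) g) → ∃! ψ : Cfsg.IrrCharacter H, (∀ s ∈ S, ∀ g g' : H, (g' : Γ) = s * g * s⁻¹ → (ψ : H → ℂ) g' =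 (ψ : H → ℂ) g) ∧ ∃ m : ℕ, Cfsg.classInner (fun h : H => (χ : G → ℂ) ⟨h, hHG h.2⟩) (ψ : H → ℂ) = (m : ℂ) ∧ Odd m) ∧ (∀ χ χ' : Cfsg.IrrCharacter G, (∀ s ∈ S, ∀ g g' : G, (g' : Γ) = s * g * s⁻¹ → (χ : G → ℂ) g' = (χ : G → ℂ) g) → (∀ s ∈ S, ∀ g g' : G, (g' : Γ) = s * g * s⁻¹ → (χ' : G → ℂ) g' = (χ' : G → ℂ) g) → ∀ ψ : Cfsg.IrrCharacter H, (∀ s ∈ S, ∀ g g' : H, (g' : Γ) = s * g * s⁻¹ → (ψ : H → ℂ) g' = (ψ : H → ℂ) g) → ∀ m m' : ℕ, Cfsg.classInner (fun h : H => (χ : G → ℂ) ⟨h, hHG h.2⟩) (ψ : H → ℂ) = (m : ℂ) → Odd m → Cfsg.classInner (fun h : H => (χ' : G → ℂ) ⟨h, hHG h.2⟩) (ψ : H → ℂ) = (m' : ℂ) → Odd m' → χ = χ') ∧ (∀ ψ : Cfsg.IrrCharacter H, (∀ s ∈ S, ∀ g g' : H, (g' : Γ) = s * g * s⁻¹ → (ψ : H → ℂ) g' = (ψ : H → ℂ) g) → ∃ χ : Cfsg.IrrCharacter G, (∀ s ∈ S, ∀ g g' : G, (g' : Γ) = s * g * s⁻¹ → (χ : G → ℂ) g' = (χ : G → ℂ) g) ∧ ∃ m : ℕ,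 Cfsg.classInner (fun h : H => (χ : G → ℂ) ⟨h, hHG h.2⟩) (ψ : H → ℂ) = (m : ℂ) ∧ Odd m) := by
  classical
  haveI : Fintype S := Fintype.ofFinite _
  let a : S →* MulAut G := Cfsg.Agent.Char.Glauberman.conjOp hnorm
  let K' := K.subgroupOf G
  let L' := L.subgroupOf G
  let H' := H.subgroupOf G
  haveI : K'.Normal := ⟨fun k hk g => hKn g g.2 k hk⟩
  haveI : L'.Normal := ⟨fun l hl g => hLn g g.2 l hl⟩
  letI : Fintype H' := Fintype.ofFinite _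
  have hFix : Cfsg.Agent.Char.Glauberman.Fixed a = C.subgroupOf G := by
    rw [Cfsg.Agent.Char.Glauberman.fixed_eq, hC]
    ext x
    simp [Subgroup.mem_subgroupOf]
  have hsup : K' ⊔ Cfsg.Agent.Char.Glauberman.Fixed a = ⊤ := by
    rw [hFix, ← Subgroup.subgroupOf_sup hKG hCG, hGKC, Subgroup.subgroupOf_self]
  have hHeq : H' = L' ⊔ Cfsg.Agent.Char.Glauberman.Fixed a := by
    rw [hFix, ← Subgroup.subgroupOf_sup (hLK.trans hKG) hCG, ← hH]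
  have hH' : ∀ (t : S), ∀ x ∈ H', a t x ∈ H' := by
    intro t x hx
    rw [hHeq] at hx ⊢
    have hle : L' ⊔ Cfsg.Agent.Char.Glauberman.Fixed a ≤
        (L' ⊔ Cfsg.Agent.Char.Glauberman.Fixed a).comap (a t).toMonoidHom := by
      refine sup_le (fun l hl => Subgroup.mem_sup_left (hLS t t.2 l hl)) (fun c hc => ?_)
      refine Subgroup.mem_sup_right ?_
      show a t c ∈ _
      rw [hc t]
      exact hc
    exact hle hx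
  obtain ⟨h1, h2, h3⟩ := Cfsg.Agent.Char.OddCorr.odd_correspondence a hodd hcop hGsolv K' L' H'
    (fun t k hk => hKS t t.2 k hk) (fun t l hl => hLS t t.2 l hl) (fun x hx => hLK hx)
    (fun x hx y hy => by
      exact hab x hx y hy)
    hsup hHeq hH'
  let E : IrrCharacter H ≃ IrrCharacter H' :=
    Cfsg.Agent.Char.Glauberman.irrEquiv (Subgroup.subgroupOfEquivOfLe hHG)
  have hG : ∀ χ : IrrCharacter G, Cfsg.Agent.Char.Glauberman.InvFun a (χ : G → ℂ) ↔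
      ∀ s ∈ S, ∀ g g' : G, (g' : Γ) = s * g * s⁻¹ → (χ : G → ℂ) g' = (χ : G → ℂ) g :=
    fun χ => Cfsg.Agent.Char.Glauberman.invFun_iff hnorm _
  have hHi : ∀ ψ : IrrCharacter H, Cfsg.Agent.Char.Glauberman.InvFun
      (Cfsg.Agent.Char.Glauberman.restrictOp a H' hH') (E ψ : H' → ℂ) ↔
      ∀ s ∈ S, ∀ g g' : H, (g' : Γ) = s * g * s⁻¹ → (ψ : H → ℂ) g' = (ψ : H → ℂ) g := by
    intro ψ
    refine ⟨fun h s hs g g' e => ?_, fun h s x => h s s.2 _ _ rfl⟩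
    have e1 := h ⟨s, hs⟩ ((Subgroup.subgroupOfEquivOfLe hHG).symm g)
    refine Eq.trans ?_ (e1.trans ?_)
    · exact congrArg (ψ : H → ℂ) (Subtype.ext e)
    · exact congrArg (ψ : H → ℂ) (Subtype.ext rfl)
  have hm : ∀ (χ : IrrCharacter G) (ψ : IrrCharacter H),
      classInner (fun h : H => (χ : G → ℂ) ⟨h, hHG h.2⟩) (ψ : H → ℂ) =
        (Cfsg.Agent.Char.Glauberman.mult H' χ (E ψ) : ℂ) := by
    intro χ ψ
    rw [← Cfsg.Agent.Char.Glauberman.mult_spec, classInner, classInner,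
      Nat.card_congr (Subgroup.subgroupOfEquivOfLe hHG).toEquiv]
    exact congrArg _ (Fintype.sum_equiv (Subgroup.subgroupOfEquivOfLe hHG).toEquiv _ _
      fun x => rfl).symm
  have hodd' : ∀ (χ : IrrCharacter G) (ψ : IrrCharacter H), (∃ m : ℕ,
      classInner (fun h : H => (χ : G → ℂ) ⟨h, hHG h.2⟩) (ψ : H → ℂ) = (m : ℂ) ∧ Odd m) ↔
      Odd (Cfsg.Agent.Char.Glauberman.mult H' χ (E ψ)) := by
    intro χ ψ
    refine ⟨fun ⟨m, e, hm'⟩ => ?_, fun h => ⟨_, hm χ ψ, h⟩⟩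
    rw [hm, Nat.cast_inj] at e
    rwa [e]
  refine ⟨fun χ hχ => ?_, fun χ χ' hχ hχ' ψ hψ m m' e hmo e' hmo' => ?_, fun ψ hψ => ?_⟩
  · obtain ⟨θ, ⟨hθ, hθm⟩, hu⟩ := h1 χ ((hG χ).2 hχ)
    obtain ⟨ψ, rfl⟩ := E.surjective θ
    refine ⟨ψ, ⟨(hHi ψ).1 hθ, (hodd' χ ψ).2 hθm⟩, ?_⟩
    rintro ψ' ⟨hψ', hψm⟩
    exact E.injective (hu _ ⟨(hHi ψ').2 hψ', (hodd' χ ψ').1 hψm⟩)
  · exact h2 χ χ' ((hG χ).2 hχ) ((hG χ').2 hχ') (E ψ) ((hHi ψ).2 hψ)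
      ((hodd' χ ψ).1 ⟨m, e, hmo⟩) ((hodd' χ' ψ).1 ⟨m', e', hmo'⟩)
  · obtain ⟨χ, hχ, hχm⟩ := h3 (E ψ) ((hHi ψ).2 hψ)
    exact ⟨χ, (hG χ).1 hχ, (hodd' χ ψ).2 hχm⟩

end Cfsg.Agent.S4453
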