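import Cfsg.Statements.S4454
import Cfsg.Agent.Char.RamifiedFrob
import Cfsg.Agent.Char.Induced
import Cfsg.Agent.Char.Clifford
import Cfsg.Agent.S0886
-- import your own Cfsg.Agent.* helpers here

set_option autoImplicit false
open Cfsg

namespace Cfsg.Agent.S4454

/-- Let N ≤ G be normal subgroups of the finite group Γ with Γ/G cyclic and Γ/N a Frobenius group with kernel G/N: G ≠ Γ, N ≠ G, and no element of Γ outside G fixes a non-identity coset of N in G under conjugation. Let ϑ be an irreducible character of N invariant under conjugation by Γ and suppose ϑ is fully ramified in G: the character of G induced from ϑ equals e·χ for an irreducible character χ of G and a natural number e. Then the index of G in Γ divides e − 1 or e + 1. -/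
theorem result {Γ : Type*} [Group Γ] [Fintype Γ] (G N : Subgroup Γ) [hG : G.Normal] [hN : N.Normal] [Fintype G] [Fintype N] (hNG : N ≤ G) (hGlt : G ≠ ⊤) (hNlt : N ≠ G) (hcyc : IsCyclic (Γ ⧸ G)) (hfrob : ∀ x : Γ, x ∉ G → ∀ g : Γ, g ∈ G → x * g * x⁻¹ * g⁻¹ ∈ N → g ∈ N) (θ : Cfsg.IrrCharacter N) (hinv : ∀ (x : Γ) (n : N), (θ : N → ℂ) ⟨x * n * x⁻¹, hN.conj_mem n n.2 x⟩ = (θ : N → ℂ) n) (χ : Cfsg.IrrCharacter G) (e : ℕ) (hram : Cfsg.indFun (N.subgroupOf G) (fun n : N.subgroupOf G => (θ : N → ℂ) ⟨(n : G), n.2⟩) = fun g => (e : ℂ) * (χ : G → ℂ) g) : (G.index : ℤ) ∣ (e : ℤ) - 1 ∨ (G.index : ℤ) ∣ (e : ℤ) + 1 := by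
  classical

  let H := N.subgroupOf G
  have : H.Normal := Subgroup.normal_subgroupOf
  let := Fintype.ofFinite H
  set θH : H → ℂ := fun n => (θ : N → ℂ) ⟨(n : G), n.2⟩ with hθH
  have hθirr : IsIrrCharacter H θH :=
    (Char.isIrrCharacter_comp_equiv (Subgroup.subgroupOfEquivOfLe hNG)).2 θ.2
  have hHidx : (0 : ℕ) < H.index := Nat.pos_of_ne_zero Subgroup.index_ne_zero_of_finite
  have hindH : ∀ n : H, (e : ℂ) * (χ : G → ℂ) n = (H.index : ℂ) * θH n := by
    intro n
    rw [← congrFun hram n, Char.indFun_apply_coe_of_normal]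
    have hc : ∀ x : G, Char.conjFun (N := H) x θH n = θH n := fun x => by
      simp only [Char.conjFun_apply, hθH]
      first
      | exact hinv (x : Γ) ⟨_, n.2⟩
      | (have h := hinv ((x : Γ)⁻¹) ⟨_, n.2⟩
         simpa using h)
      | (convert hinv ((x : Γ)⁻¹) ⟨_, n.2⟩ using 2 <;> simp)
    have h1 : (Nat.card H : ℂ) ≠ 0 := Char.card_ne_zero
    simp only [Char.conjFun_apply] at hc
    have hc' : ∀ (x : G) hx, θH (⟨x⁻¹ * n * x, hx⟩ : H) = θH n := fun x hx => by
      first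
      | (have := hc x⁻¹; simpa using this)
      | (convert hc x⁻¹ using 2; simp)
    rw [Finset.sum_congr rfl fun x _ => hc' x _, Finset.sum_const, Finset.card_univ, nsmul_eq_mul,
      ← Nat.card_eq_fintype_card, ← H.card_mul_index, Nat.cast_mul]
    show (Nat.card H : ℂ)⁻¹ * _ = _
    field_simp
    try rfl
  have he0 : (e : ℂ) ≠ 0 := fun h => by
    have := hindH 1
    rw [h, zero_mul] at this
    exact mul_ne_zero (Nat.cast_ne_zero.2 hHidx.ne') (Char.IsIrr.one_ne_zero hθirr) this.symm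
  have he2 : (H.index : ℂ) = (e : ℂ) ^ 2 := by
    have h : classInner (indFun H θH) (indFun H θH) = (e : ℂ) ^ 2 := by
      rw [show indFun H θH = (e : ℂ) • (χ : G → ℂ) from hram, Char.classInner_smul_left,
        Char.classInner_smul_right, Char.classInner_irr_self χ.2, map_natCast]
      ring
    rw [← h, Char.classInner_indFun_left H θH (Char.isClassFunction_indFun H θH)]
    have h2 : (fun n : H => indFun H θH n) = (H.index : ℂ) • θH := funext fun n => by
      rw [show indFun H θH = (fun g => (e : ℂ) * (χ : G → ℂ) g) from hram]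
      exact hindH n
    rw [h2, Char.classInner_smul_right, Char.classInner_irr_self hθirr, map_natCast, mul_one]
  have hχN : ∀ (g : G) (hg : (g : Γ) ∈ N), (χ : G → ℂ) g = (e : ℂ) * (θ : N → ℂ) ⟨g, hg⟩ := by
    intro g hg
    apply mul_left_cancel₀ he0
    rw [hindH ⟨g, hg⟩, he2]
    ring
  have hχ0 : ∀ g : G, (g : Γ) ∉ N → (χ : G → ℂ) g = 0 := fun g hg => by
    have h := congrFun hram g
    rw [Char.indFun_apply_of_normal (H := H) _ hg] at h
    exact (mul_eq_zero.1 h.symm).resolve_left he0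
  -- extend `χ` to `Γ`
  have hχinv : ∀ (y : Γ) (g : G), (χ : G → ℂ) ⟨y * g * y⁻¹, hG.conj_mem g g.2 y⟩ =
      (χ : G → ℂ) g := fun y g => by
    by_cases hg : (g : Γ) ∈ N
    · rw [hχN g hg, hχN ⟨y * g * y⁻¹, _⟩ (hN.conj_mem g hg y)]
      exact congrArg _ (hinv y ⟨g, hg⟩)
    · rw [hχ0 g hg, hχ0]
      intro h
      apply hg
      simpa [mul_assoc] using hN.conj_mem _ h y⁻¹
  obtain ⟨ψ, hψ, hψG⟩ := S0886.result G hcyc (χ : G → ℂ) χ.2 hχinv
  have hψres : IsIrrCharacter G (fun g : G => ψ g) := by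
    rw [funext hψG]
    exact χ.2
  have hψcl := Char.isClassFunction_of_isIrr hψ
  -- outer cosets of `N`
  set F : Γ → ℂ := fun y => ψ y * (starRingEnd ℂ) (ψ y) with hF
  have hFconj : ∀ h y, F (h * y * h⁻¹) = F y := fun h y => by
    simp only [hF]
    rw [Char.classFun_isConj hψcl (isConj_iff.2 ⟨h, rfl⟩ : IsConj y (h * y * h⁻¹))]
  have havg : ∀ y ∉ G, ∑ n : N, F ((n : Γ) * y) = (Nat.card N : ℂ) := by
    intro y hy
    let q : Γ →* Γ ⧸ N := QuotientGroup.mk' N
    have hq : ∀ z, q z = 1 ↔ z ∈ N := fun z => QuotientGroup.eq_one_iff z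
    let com : G → G := fun h => ⟨(h : Γ) * y * (h : Γ)⁻¹ * y⁻¹, by
      simpa only [mul_assoc] using G.mul_mem h.2 (hG.conj_mem _ (G.inv_mem h.2) y)⟩
    let f : G ⧸ H → G ⧸ H := fun c => QuotientGroup.mk (com c.out)
    have hf : Function.Injective f := by
      intro c c' hcc
      rw [← c.out_eq, ← c'.out_eq]
      refine QuotientGroup.eq.2 ?_
      have h1 : ((com c.out)⁻¹ * com c'.out : G) ∈ H := QuotientGroup.eq.1 hcc
      rw [Subgroup.mem_subgroupOf, ← hq] at h1
      simp only [Subgroup.coe_mul, Subgroup.coe_inv, map_mul, map_inv, inv_mul_eq_one, com,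
        mul_left_inj] at h1
      show (((c.out)⁻¹ * c'.out : G) : Γ) ∈ N
      refine hfrob y hy _ (((c.out)⁻¹ * c'.out : G)).2 ((hq _).1 ?_)
      simp only [Subgroup.coe_mul, Subgroup.coe_inv, map_mul, map_inv]
      calc q y * ((q c.out)⁻¹ * q c'.out) * (q y)⁻¹ * ((q c.out)⁻¹ * q c'.out)⁻¹
          = (q c.out)⁻¹ * (q c.out * q y * (q c.out)⁻¹) * (q c'.out * (q y)⁻¹ * (q c'.out)⁻¹) *
              q c.out := by group
        _ = (q c.out)⁻¹ * (q c'.out * q y * (q c'.out)⁻¹) * (q c'.out * (q y)⁻¹ * (q c'.out)⁻¹) *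
              q c.out := by rw [h1]
        _ = 1 := by group
    have hsurj := Finite.surjective_of_injective hf
    have hS : ∀ g : G, ∑ n : N, F ((n : Γ) * ((g : Γ) * y)) = ∑ n : N, F ((n : Γ) * y) := by
      intro g
      obtain ⟨c, hc⟩ := hsurj (QuotientGroup.mk g)
      set h : Γ := ((c.out : G) : Γ) with hh
      have h1 : (((com c.out)⁻¹ * g : G) : Γ) ∈ N := Subgroup.mem_subgroupOf.1 (QuotientGroup.eq.1 hc)
      set n₀ : Γ := (g : Γ) * y * (h * y * h⁻¹)⁻¹ with hn₀
      have hn₀N : n₀ ∈ N := by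
        have := hN.conj_mem _ h1 (com c.out : Γ)
        simpa [hn₀, com, hh, mul_assoc] using this
      let σ : N ≃ N := (Equiv.mulRight (⟨n₀, hn₀N⟩ : N)).trans
        (MulAut.conjNormal (h⁻¹ : Γ) : N ≃* N).toEquiv
      refine Fintype.sum_equiv σ _ _ fun n => ?_
      rw [← hFconj h ((σ n : Γ) * y)]
      congr 1
      simp only [σ, hn₀, Equiv.trans_apply, MulEquiv.toEquiv_eq_coe, MulEquiv.coe_toEquiv,
        Equiv.coe_mulRight, MulAut.conjNormal_apply, Subgroup.coe_mul]
      group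
    have hG1 : ∑ g : G, F ((g : Γ) * y) = (Nat.card G : ℂ) := by
      have h := Char.avg_normSq_eq_one G hψ hψres y
      rwa [inv_mul_eq_one₀ Char.card_ne_zero, eq_comm] at h
    apply mul_left_cancel₀ (Char.card_ne_zero (G := G))
    calc (Nat.card G : ℂ) * ∑ n : N, F ((n : Γ) * y)
        = ∑ g : G, ∑ n : N, F ((n : Γ) * ((g : Γ) * y)) := by
          rw [Finset.sum_congr rfl fun g _ => hS g, Finset.sum_const, Finset.card_univ, nsmul_eq_mul,
            Nat.card_eq_fintype_card]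
      _ = ∑ n : N, ∑ g : G, F ((g : Γ) * y) := by
          rw [Finset.sum_comm]
          refine Finset.sum_congr rfl fun n _ => ?_
          refine Fintype.sum_equiv (Equiv.mulLeft (⟨n, hNG n.2⟩ : G)) _ _ fun g => ?_
          simp [mul_assoc]
      _ = (Nat.card G : ℂ) * (Nat.card N : ℂ) := by
          rw [hG1, Finset.sum_const, Finset.card_univ, nsmul_eq_mul, Nat.card_eq_fintype_card (α := N),
            mul_comm]
  -- the subgroup `N⟨x⟩`
  obtain ⟨c₀, hc₀⟩ := hcyc.exists_generator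
  obtain ⟨x, rfl⟩ := QuotientGroup.mk_surjective c₀
  have hx : x ∉ G := fun hxG => hGlt <| by
    refine eq_top_iff.2 fun y _ => ?_
    obtain ⟨k, hk⟩ := Subgroup.mem_zpowers_iff.1 (hc₀ (QuotientGroup.mk y))
    rw [(QuotientGroup.eq_one_iff x).2 hxG, one_zpow] at hk
    exact (QuotientGroup.eq_one_iff y).1 hk.symm
  set M : Subgroup Γ := N ⊔ Subgroup.zpowers x with hM
  let := Fintype.ofFinite M
  have hNM : N ≤ M := le_sup_left
  have hMG : ∀ y ∈ M, y ∈ G → y ∈ N := by
    intro y hy hyG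
    obtain ⟨n, hn, z, hz, rfl⟩ := Subgroup.mem_sup_of_normal_left.1 hy
    have hzG : z ∈ G := (G.mul_mem_cancel_left (hNG hn)).1 hyG
    refine N.mul_mem hn (hfrob x hx z hzG ?_)
    obtain ⟨k, rfl⟩ := Subgroup.mem_zpowers_iff.1 hz
    rw [show x * x ^ k * x⁻¹ * (x ^ k)⁻¹ = 1 by group]
    exact N.one_mem
  let NM := N.subgroupOf M
  have : NM.Normal := Subgroup.normal_subgroupOf
  let := Fintype.ofFinite NM
  let eNM : NM ≃* N := Subgroup.subgroupOfEquivOfLe hNM
  let π : M →* Γ ⧸ G := (QuotientGroup.mk' G).comp M.subtype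
  have hπ : Function.Surjective π := by
    intro c
    obtain ⟨k, rfl⟩ := Subgroup.mem_zpowers_iff.1 (hc₀ c)
    exact ⟨⟨x ^ k, Subgroup.mem_sup_right (Subgroup.zpow_mem_zpowers x k)⟩, by simp [π]⟩
  have hker : π.ker = NM := by
    ext y
    rw [MonoidHom.mem_ker, Subgroup.mem_subgroupOf]
    exact (QuotientGroup.eq_one_iff (y : Γ)).trans ⟨hMG y y.2, fun h => hNG h⟩
  let := hcyc.commGroup
  have hcycM : IsCyclic (M ⧸ NM) := by
    have eqv := (QuotientGroup.quotientMulEquivOfEq hker.symm).trans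
      (QuotientGroup.quotientKerEquivOfSurjective π hπ)
    exact isCyclic_of_surjective eqv.symm eqv.symm.surjective
  obtain ⟨ξ, hξ, hξN⟩ := S0886.result NM hcycM (fun n => (θ : N → ℂ) (eNM n))
    ((Char.isIrrCharacter_comp_equiv eNM).2 θ.2) (fun y n => hinv (y : Γ) (eNM n))
  have key := Char.dvd_sub_one_or_add_one_of_avg NM π hπ hker (P := fun y : M => ψ y) (e := e) hξ
    (by rw [funext hξN]; exact (Char.isIrrCharacter_comp_equiv eNM).2 θ.2)
    (Char.isCharacter_res M (Char.IsIrr.isCharacter hψ))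
    (fun n => by
      rw [hξN n]
      exact (hψG ⟨((n : M) : Γ), hNG n.2⟩).trans (hχN ⟨((n : M) : Γ), hNG n.2⟩ n.2))
    (fun y hy => by
      have h1 := havg (y : Γ) fun h => hy (hMG y y.2 h)
      rw [Nat.card_congr eNM.toEquiv, ← h1]
      exact Fintype.sum_equiv eNM.toEquiv _ _ fun n => rfl)
  exact key

end Cfsg.Agent.S4454
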