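import Cfsg.Statements.S4457
import Cfsg.Agent.Char.TwoDegreesGeneral
-- import your own Cfsg.Agent.* helpers here

set_option autoImplicit false
open Cfsg

namespace Cfsg.Agent.S4457

/-- Let G be a finite group whose irreducible character degrees are exactly 1 and m (m ≠ 1). Then either G has an abelian normal subgroup of index m, or m is a power of a prime p and G is the direct product of a p-group and an abelian group: there are normal subgroups P and A with P a p-group, A abelian, P ⊓ A = 1 and P ⊔ A = G. -/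
theorem result {G : Type*} [Group G] [Finite G] (m : ℕ) (hcd : ∀ χ : Cfsg.IrrCharacter G, Cfsg.charDegree (χ : G → ℂ) = 1 ∨ Cfsg.charDegree (χ : G → ℂ) = m) (hm : ∃ χ : Cfsg.IrrCharacter G, Cfsg.charDegree (χ : G → ℂ) = m) (hm1 : m ≠ 1) : (∃ A : Subgroup G, A.Normal ∧ (∀ a ∈ A, ∀ b ∈ A, a * b = b * a) ∧ A.index = m) ∨ ∃ p e : ℕ, p.Prime ∧ m = p ^ e ∧ ∃ P A : Subgroup G, P.Normal ∧ A.Normal ∧ IsPGroup p P ∧ (∀ a ∈ A, ∀ b ∈ A, a * b = b * a) ∧ P ⊓ A = ⊥ ∧ P ⊔ A = ⊤ := by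
  classical
  have := Fintype.ofFinite G
  have hsp : ∀ χ : Cfsg.IrrCharacter G, (χ : G → ℂ) 1 = (Cfsg.charDegree (χ : G → ℂ) : ℂ) :=
    Cfsg.Agent.Char.charDegree_spec'
  obtain ⟨χ₀, hχ₀⟩ := hm
  have hm0 : m ≠ 0 := fun h => Cfsg.Agent.Char.IsIrr.one_ne_zero χ₀.2 (by rw [hsp, hχ₀, h, Nat.cast_zero])
  refine Cfsg.Agent.Char.two_degrees_general (show 1 < m by omega) (fun χ hχ => ?_) ⟨_, χ₀.2, by rw [hsp, hχ₀]⟩
  rcases hcd ⟨χ, hχ⟩ with h | h
  · left; rw [show χ 1 = _ from hsp ⟨χ, hχ⟩, h, Nat.cast_one]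
  · right; rw [show χ 1 = _ from hsp ⟨χ, hχ⟩, h]

end Cfsg.Agent.S4457
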