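import Cfsg.Statements.S4459
import Cfsg.Agent.Char.TwoDegrees
-- import your own Cfsg.Agent.* helpers here

set_option autoImplicit false
open Cfsg

namespace Cfsg.Agent.S4459

/-- Let G be a non-abelian finite group and p a prime. Then the irreducible character degrees of G are exactly 1 and p if and only if either G has an abelian normal subgroup of index p or the centre of G has index p³. -/
theorem result {G : Type*} [Group G] [Finite G] (hG : ∃ a b : G, a * b ≠ b * a) (p : ℕ) (hp : p.Prime) : ((∀ χ : Cfsg.IrrCharacter G, Cfsg.charDegree (χ : G → ℂ) = 1 ∨ Cfsg.charDegree (χ : G → ℂ) = p) ∧ ∃ χ : Cfsg.IrrCharacter G, Cfsg.charDegree (χ : G → ℂ) = p) ↔ ((∃ A : Subgroup G, A.Normal ∧ (∀ a ∈ A, ∀ b ∈ A, a * b = b * a) ∧ A.index = p) ∨ (Subgroup.center G).index = p ^ 3) := by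
  classical
  have := Fintype.ofFinite G
  have hsp : ∀ χ : Cfsg.IrrCharacter G, (χ : G → ℂ) 1 = (Cfsg.charDegree (χ : G → ℂ) : ℂ) :=
    Cfsg.Agent.Char.charDegree_spec'
  constructor
  · rintro ⟨hcd, -⟩
    obtain ⟨a, b, hab⟩ := hG
    refine Cfsg.Agent.Char.two_degrees hp (fun h => hab (h a b)) fun χ hχ => ?_
    rcases hcd ⟨χ, hχ⟩ with h | h
    · left; rw [show χ 1 = _ from hsp ⟨χ, hχ⟩, h, Nat.cast_one]
    · right; rw [show χ 1 = _ from hsp ⟨χ, hχ⟩, h]
  · intro h
    have hle : ∀ χ : Cfsg.IrrCharacter G,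
        Cfsg.charDegree (χ : G → ℂ) = 1 ∨ Cfsg.charDegree (χ : G → ℂ) = p := by
      intro χ
      have hdvd : ∀ A : Subgroup G, A.Normal → (∀ a ∈ A, ∀ b ∈ A, a * b = b * a) →
          Cfsg.charDegree (χ : G → ℂ) ∣ A.index := by
        intro A hA hAab
        have := Fintype.ofFinite A
        obtain ⟨⟨θ, hθ⟩, hcon⟩ := Cfsg.Agent.Char.exists_constituent_res (N := A) χ.2
        obtain ⟨k, hk, hkd⟩ := Cfsg.Agent.ProjExt.exists_ratio_dvd_index χ.2 hθ hcon
        rw [hsp χ, Cfsg.Agent.Char.IsIrr.degree_one_of_comm hθ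
          (fun a b => Subtype.ext (hAab a a.2 b b.2)), mul_one, Nat.cast_inj] at hk
        exact hk ▸ hkd
      rcases h with ⟨A, hA, hAab, hAi⟩ | hZ
      · exact (Nat.dvd_prime hp).1 (hAi ▸ hdvd A hA hAab)
      · obtain ⟨j, hj, hj'⟩ := (Nat.dvd_prime_pow hp).1 (hZ ▸ hdvd (Subgroup.center G) inferInstance
          (fun a _ b hb => Subgroup.mem_center_iff.1 hb a))
        have h1 := Cfsg.Agent.CharArith.card_center_mul_sq_le χ.2
        rw [← Subgroup.card_mul_index (Subgroup.center G), hZ, hj'] at h1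
        have h2 := Nat.le_of_mul_le_mul_left h1 Nat.card_pos
        rw [← pow_mul] at h2
        have h3 := (Nat.pow_le_pow_iff_right hp.one_lt).1 h2
        rcases j with _ | _ | j
        · exact Or.inl (by rw [hj', pow_zero])
        · exact Or.inr (by rw [hj', zero_add, pow_one])
        · omega
    refine ⟨hle, ?_⟩
    by_contra hno
    obtain ⟨a, b, hab⟩ := hG
    refine hab (Cfsg.Agent.Char.forall_degree_one_iff.1 (fun χ => ?_) a b)
    rw [hsp χ, (hle χ).resolve_right (fun h => hno ⟨χ, h⟩), Nat.cast_one]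

end Cfsg.Agent.S4459
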