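import Cfsg.Statements.S4464
import Cfsg.Agent.Char.QuasiElem
import Cfsg.Agent.Char.Integral
import Cfsg.Agent.Char.UniqueDivisible

set_option autoImplicit false
open Cfsg

namespace Cfsg.Agent.S4464

open Subgroup

universe u

/-- All irreducible degrees are below `p`. -/
def Small (p : ℕ) (G : Type u) [Group G] : Prop :=
  ∀ χ : IrrCharacter G, ∃ d : ℕ, (χ : G → ℂ) 1 = d ∧ d < p

theorem small_quotient {p : ℕ} {G : Type u} [Group G] (h : Small p G) (N : Subgroup G) [N.Normal] :
    Small p (G ⧸ N) := by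
  intro χ
  obtain ⟨d, hd, hlt⟩ := h ⟨_, Char.isIrrCharacter_comp (QuotientGroup.mk' N) (QuotientGroup.mk'_surjective N) χ.2⟩
  exact ⟨d, by rw [← hd]; simp, hlt⟩

theorem small_subgroup {p : ℕ} {G : Type u} [Group G] [Finite G] (h : Small p G) (H : Subgroup G) :
    Small p H := by
  classical
  have := Fintype.ofFinite G
  intro θ
  obtain ⟨e, he0, he⟩ := Char.IsIrr.degree θ.2
  refine ⟨e, he, ?_⟩
  have hI := Char.isCharacter_indFun H (Char.IsIrr.isCharacter θ.2)
  have hne : indFun H (θ : H → ℂ) ≠ 0 := by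
    intro e0
    have h1 := congrFun e0 1
    rw [Char.indFun_apply_one, he, Pi.zero_apply, mul_eq_zero, Nat.cast_eq_zero, Nat.cast_eq_zero] at h1
    rcases h1 with h1 | h1
    · exact index_ne_zero_of_finite h1
    · omega
  obtain ⟨ψ, hψ⟩ := Char.IsChar.exists_constituent hI hne
  obtain ⟨d, hd, hlt⟩ := h ψ
  have hψ' : classInner (fun x : H => (ψ : G → ℂ) x) (θ : H → ℂ) ≠ 0 := by
    intro e0
    apply hψ
    rw [Char.classInner_indFun_left H _ (Char.isClassFunction_of_isIrr ψ.2), ← Char.classInner_conj_symm, e0,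
      map_zero]
  have h2 := Char.IsChar.constituent_degree_le (Char.isCharacter_res H (Char.IsIrr.isCharacter ψ.2)) θ.2 hψ'
  simp only [OneMemClass.coe_one, hd, he, Complex.natCast_re, Nat.cast_le] at h2
  omega

theorem comm_of_pgroup {p : ℕ} [hp : Fact p.Prime] {P : Type u} [Group P] [Finite P] (hP : IsPGroup p P)
    (h : Small p P) : ∀ a b : P, a * b = b * a := by
  classical
  have := Fintype.ofFinite P
  have hlin : ∀ χ : IrrCharacter P, (χ : P → ℂ) 1 = 1 := by
    intro χ
    obtain ⟨d, hd, hlt⟩ := h χ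
    obtain ⟨n, hn⟩ := IsPGroup.iff_card.1 hP
    have hdvd := Char.IsIrr.degree_dvd_card χ.2 hd
    rw [hn] at hdvd
    obtain ⟨i, -, rfl⟩ := (Nat.dvd_prime_pow hp.out).1 hdvd
    rcases Nat.eq_zero_or_pos i with rfl | hi
    · simpa using hd
    · exact absurd (Nat.le_self_pow hi.ne' p) (by omega)
  have hsum := Char.sum_sq_degree (G := P)
  simp only [hlin, one_pow, Finset.sum_const, Finset.card_univ, nsmul_eq_mul, mul_one] at hsum
  have hc : Nat.card (IrrCharacter P) = Nat.card P := by
    rw [Nat.card_eq_fintype_card]; exact_mod_cast hsum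
  rw [Char.card_irrCharacter] at hc
  have hbij : Function.Bijective (ConjClasses.mk : P → ConjClasses P) :=
    (Nat.bijective_iff_surjective_and_card _).2 ⟨ConjClasses.mk_surjective, hc.symm⟩
  intro a b
  have h1 : ConjClasses.mk (b * a * b⁻¹) = ConjClasses.mk a :=
    ConjClasses.mk_eq_mk_iff_isConj.2 (isConj_iff.2 ⟨b, rfl⟩).symm
  have h2 := hbij.1 h1
  exact (mul_inv_eq_iff_eq_mul.1 h2).symm

/-- The case of trivially intersecting Sylow subgroups. -/
theorem ti_case {p : ℕ} [hp : Fact p.Prime] {G : Type u} [Group G] [Finite G] (h : Small p G) (P : Sylow p G)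
    (hTI : ∀ Q : Sylow p G, (P : Subgroup G) ⊓ Q ≠ ⊥ → Q = P) : (P : Subgroup G).Normal := by
  classical
  have := Fintype.ofFinite G
  by_cases hP1 : (P : Subgroup G) = ⊥
  · rw [hP1]; infer_instance
  set N := normalizer ((P : Subgroup G) : Set G) with hN
  rw [← normalizer_eq_top_iff, ← hN]
  set π : G → ℂ := indFun N (fun _ => 1) with hπ
  have hπc : IsCharacter G π := Char.isCharacter_indFun N Char.isCharacter_one
  have hπf : ∀ g, π g = (Nat.card {q : G ⧸ N // g • q = q} : ℂ) := fun g => Char.indFun_one_eq_card_fixed N g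
  -- orbit numbers
  set rN := Nat.card (Quotient (MulAction.orbitRel N (G ⧸ N))) with hrN
  set rP := Nat.card (Quotient (MulAction.orbitRel (P : Subgroup G) (G ⧸ N))) with hrP
  have hburn : ∀ K : Subgroup G, ∑ k : K, Nat.card {q : G ⧸ N // (k : G) • q = q} =
      Nat.card (Quotient (MulAction.orbitRel K (G ⧸ N))) * Nat.card K := by
    intro K
    rw [Nat.card_eq_fintype_card (α := Quotient (MulAction.orbitRel K (G ⧸ N))),
      Nat.card_eq_fintype_card (α := K), ← MulAction.sum_card_fixedBy_eq_card_orbits_mul_card_group]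
    refine Finset.sum_congr rfl fun k _ => ?_
    rw [← Nat.card_eq_fintype_card]
    rfl
  have hrle : rN ≤ rP := by
    have hPN : (P : Subgroup G) ≤ N := le_normalizer
    refine Nat.card_le_card_of_surjective (Quotient.map' id fun a b hab => ?_) ?_
    · obtain ⟨x, rfl⟩ := hab
      exact ⟨⟨x, hPN x.2⟩, rfl⟩
    · intro y
      induction y using Quotient.inductionOn' with | h a =>
      exact ⟨Quotient.mk'' a, rfl⟩
  set q := Nat.card (P : Subgroup G) with hq
  -- fixed points of `P`
  have hfix : ∀ x : (P : Subgroup G), x ≠ 1 → Nat.card {c : G ⧸ N // (x : G) • c = c} = 1 := by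
    intro x hx
    have hmem : ∀ c : G ⧸ N, (x : G) • c = c → c = ((1 : G) : G ⧸ N) := by
      intro c
      induction c using QuotientGroup.induction_on with | _ g =>
      intro hc
      rw [MulAction.Quotient.smul_mk, QuotientGroup.eq, smul_eq_mul] at hc
      have hgN : g⁻¹ * (x : G) * g ∈ N := by simpa [mul_assoc] using inv_mem hc
      let R : Subgroup G := (P : Subgroup G).map (MulAut.conj g⁻¹).toMonoidHom
      have hR : IsPGroup p R := P.2.map _
      have hxR : g⁻¹ * (x : G) * g ∈ R := ⟨x, x.2, by simp⟩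
      have hxP : g⁻¹ * (x : G) * g ∈ (P : Subgroup G) := by
        have h1 : g⁻¹ * (x : G) * g ∈ R ⊓ normalizer ((P : Subgroup G) : Set G) := ⟨hxR, hgN⟩
        rw [show R ⊓ normalizer ((P : Subgroup G) : Set G) = R ⊓ (P : Subgroup G) from hR.inf_normalizer_sylow P] at h1
        exact h1.2
      have hQ := hTI (g⁻¹ • P) (fun h0 => hx (Subtype.ext (by
        have h1 : g⁻¹ * (x : G) * g ∈ (P : Subgroup G) ⊓ (g⁻¹ • P : Sylow p G) :=
          ⟨hxP, x, x.2, by simp [MulAut.smul_def]⟩
        rw [h0, mem_bot] at h1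
        have h2 : (x : G) = g * (g⁻¹ * (x : G) * g) * g⁻¹ := by group
        rw [h1, mul_one, mul_inv_cancel] at h2
        exact h2)))
      have hgm : g⁻¹ ∈ N := Sylow.smul_eq_iff_mem_normalizer.1 hQ
      refine QuotientGroup.eq.2 ?_
      simpa using inv_mem (inv_mem hgm) |> inv_mem
    have h1 : (x : G) • ((1 : G) : G ⧸ N) = ((1 : G) : G ⧸ N) := by
      rw [MulAction.Quotient.smul_mk, QuotientGroup.eq, smul_eq_mul]
      have h0 : ((x : G))⁻¹ ∈ N := inv_mem (le_normalizer (H := (P : Subgroup G)) x.2)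
      simpa using h0
    exact Nat.card_eq_one_iff_exists.2 ⟨⟨_, h1⟩, fun c => Subtype.ext (hmem c c.2)⟩
  have hn : N.index + (q - 1) = rP * q := by
    rw [hrP, hq, ← hburn]
    rw [← Finset.add_sum_erase _ _ (Finset.mem_univ (1 : (P : Subgroup G))),
      Finset.sum_congr rfl fun x hx => hfix x (Finset.ne_of_mem_erase hx), Finset.sum_const, smul_eq_mul,
      mul_one, Finset.card_erase_of_mem (Finset.mem_univ _), Finset.card_univ, ← Nat.card_eq_fintype_card]
    congr 1
    rw [index_eq_card]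
    exact Nat.card_congr (Equiv.subtypeUnivEquiv fun c => by simp).symm
  -- decomposition
  choose a ha using fun ψ : IrrCharacter G =>
    Char.classInner_isCharacter_eq_natCast hπc (Char.IsIrr.isCharacter ψ.2)
  choose d hd hdlt using h
  have hexp := Char.classFun_expansion (Char.isClassFunction_of_isCharacter hπc)
  have h1 : N.index = ∑ ψ, a ψ * d ψ := by
    have e := congrFun hexp 1
    simp only [Finset.sum_apply, Pi.smul_apply, smul_eq_mul, ha, hd] at e
    rw [hπ, Char.indFun_apply_one, mul_one] at e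
    exact_mod_cast e
  have h2 : rN = ∑ ψ, a ψ * a ψ := by
    have e := Char.classInner_eq_sum (f' := π) (Char.isClassFunction_of_isCharacter hπc)
    have hsym : ∀ ψ : IrrCharacter G, classInner (ψ : G → ℂ) π = (a ψ : ℂ) := fun ψ => by
      rw [← Char.classInner_conj_symm, ha, Complex.conj_natCast]
    simp only [hsym, ha] at e
    have e2 : classInner π π = (rN : ℂ) := by
      conv_lhs => arg 1; rw [hπ]
      rw [Char.classInner_indFun_left N _ (Char.isClassFunction_of_isCharacter hπc)]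
      simp only [classInner, one_mul, hπf, Complex.conj_natCast]
      rw [← Nat.cast_sum, hburn N, ← hrN, Nat.cast_mul, mul_comm, mul_assoc,
        mul_inv_cancel₀ Char.card_ne_zero, mul_one]
    rw [e2] at e
    exact_mod_cast e
  let one : IrrCharacter G := ⟨fun _ => 1, Char.isIrrCharacter_one⟩
  have ha1 : a one = 1 := by
    have e : ((a one : ℕ) : ℂ) = 1 := by
      rw [← ha, hπ, Char.classInner_indFun_left N _ (Char.isClassFunction_of_isIrr one.2)]
      exact Char.classInner_irr_self Char.isIrrCharacter_one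
    exact_mod_cast e
  have hd1 : d one = 1 := by
    have e : (1 : ℂ) = (d one : ℂ) := hd one
    exact_mod_cast e.symm
  rw [← Finset.add_sum_erase _ _ (Finset.mem_univ one), ha1, hd1, mul_one] at h1
  rw [← Finset.add_sum_erase _ _ (Finset.mem_univ one), ha1, mul_one] at h2
  set B := ∑ ψ ∈ Finset.univ.erase one, a ψ with hB
  have hB1 : ∑ ψ ∈ Finset.univ.erase one, a ψ * d ψ ≤ B * (p - 1) := by
    rw [hB, Finset.sum_mul]
    exact Finset.sum_le_sum fun ψ _ => Nat.mul_le_mul_left _ (by have := hdlt ψ; omega)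
  have hB2 : B ≤ ∑ ψ ∈ Finset.univ.erase one, a ψ * a ψ := Finset.sum_le_sum fun ψ _ => Nat.le_mul_self _
  have hpq : p ≤ q := by
    refine Nat.le_of_dvd Nat.card_pos ((P.2.card_eq_or_dvd).resolve_left fun e => hP1 (card_eq_one.1 e))
  rw [← index_eq_one]
  have hB3 : B * (p - 1) ≤ (rP - 1) * (q - 1) := Nat.mul_le_mul (by omega) (by omega)
  obtain ⟨r, hr⟩ : ∃ r, rP = r + 1 := ⟨rP - 1, by omega⟩
  obtain ⟨w, hw⟩ : ∃ w, q = w + 1 := ⟨q - 1, by have := hp.out.pos; omega⟩
  rw [hr, hw] at hn hB3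
  simp only [Nat.add_sub_cancel] at hn hB3
  nlinarith

theorem normal_sylow {p : ℕ} [hp : Fact p.Prime] (n : ℕ) : ∀ (G : Type u) [Group G] [Finite G],
    Nat.card G = n → Small p G → ∀ P : Sylow p G, (P : Subgroup G).Normal := by
  induction n using Nat.strong_induction_on with
  | _ n ih =>
  intro G _ _ hn h P
  by_cases hTI : ∀ A B : Sylow p G, (A : Subgroup G) ⊓ B ≠ ⊥ → B = A
  · exact ti_case h P (hTI P)
  push Not at hTI
  obtain ⟨⟨A₀, B₀⟩, h0⟩ : ∃ AB : Sylow p G × Sylow p G,
      (AB.1 : Subgroup G) ⊓ AB.2 ≠ ⊥ ∧ AB.2 ≠ AB.1 := by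
    obtain ⟨A, B, h1, h2⟩ := hTI; exact ⟨(A, B), h1, h2⟩
  obtain ⟨D, ⟨A, B, hne, hD⟩, hmax⟩ := Set.Finite.exists_maximal
    (Set.toFinite {D : Subgroup G | ∃ A B : Sylow p G, B ≠ A ∧ (A : Subgroup G) ⊓ B = D})
    ⟨_, A₀, B₀, h0.2, rfl⟩
  by_cases hDn : normalizer (D : Set G) = ⊤
  · have hDn' : D.Normal := normalizer_eq_top_iff.1 hDn
    by_cases hD1 : D = ⊥
    · exfalso
      have h2 := hmax (y := (A₀ : Subgroup G) ⊓ B₀) ⟨A₀, B₀, h0.2, rfl⟩ (hD1 ▸ bot_le)
      rw [hD1] at h2
      exact h0.1 (le_bot_iff.1 h2)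
    have hlt : Nat.card (G ⧸ D) < n := by
      rw [← hn, card_eq_card_quotient_mul_card_subgroup D]
      exact lt_mul_of_one_lt_right Nat.card_pos ((one_lt_card_iff_ne_bot D).2 hD1)
    have hker : (QuotientGroup.mk' D).ker ≤ (A : Subgroup G) := by
      rw [QuotientGroup.ker_mk', ← hD]; exact inf_le_left
    have hnA := ih _ hlt (G ⧸ D) rfl (small_quotient h D) (A.mapSurjective (QuotientGroup.mk'_surjective D))
    have hAn : (A : Subgroup G).Normal := by
      have := hnA.comap (QuotientGroup.mk' D)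
      rwa [Sylow.coe_mapSurjective, comap_map_eq_self hker] at this
    have := Sylow.unique_of_normal A hAn
    rw [Subsingleton.elim P A]; exact hAn
  exfalso
  have hlt : Nat.card (normalizer (D : Set G)) < n := by
    rw [← hn]
    exact lt_of_le_of_ne (Nat.le_of_dvd Nat.card_pos (card_subgroup_dvd_card _))
      fun e => hDn (eq_top_of_card_eq _ e)
  obtain ⟨S⟩ : Nonempty (Sylow p (normalizer (D : Set G))) := inferInstance
  have hSn := ih _ hlt _ rfl (small_subgroup h _) S
  obtain ⟨R, hR⟩ := (S.2.map (normalizer (D : Set G)).subtype).exists_le_sylow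
  have key : ∀ C : Sylow p G, D < (C : Subgroup G) → C = R := by
    intro C hC
    have hnil : Group.IsNilpotent (C : Subgroup G) := C.2.isNilpotent
    have hlt' : D.subgroupOf C < normalizer ((D.subgroupOf C : Subgroup (C : Subgroup G)) : Set (C : Subgroup G)) := by
      refine Group.normalizerCondition_of_isNilpotent (D.subgroupOf C) (lt_top_iff_ne_top.2 fun e => hC.not_ge ?_)
      exact subgroupOf_eq_top.1 e
    obtain ⟨x, hx, hxD⟩ := SetLike.exists_of_lt hlt'
    have hxN : (x : G) ∈ normalizer (D : Set G) := by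
      rw [mem_normalizer_iff]
      intro y
      constructor
      · intro hy
        have := (mem_normalizer_iff.1 hx ⟨y, hC.le hy⟩).1 (mem_subgroupOf.2 hy)
        simpa [mem_subgroupOf] using this
      · intro hy
        have hyC : y ∈ (C : Subgroup G) := by
          have := mul_mem (mul_mem (inv_mem x.2) (hC.le hy)) x.2
          simpa [mul_assoc] using this
        exact mem_subgroupOf.1 ((mem_normalizer_iff.1 hx ⟨y, hyC⟩).2 (by simpa [mem_subgroupOf] using hy))
    -- `C ∩ N(D)` lies in `S`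
    have hle : ((C : Subgroup G).subgroupOf (normalizer (D : Set G))) ≤ S := by
      have hp' : IsPGroup p ((C : Subgroup G).subgroupOf (normalizer (D : Set G))) :=
        C.2.comap_of_injective _ (normalizer (D : Set G)).subtype_injective
      obtain ⟨S', hS'⟩ := hp'.exists_le_sylow
      have := Sylow.unique_of_normal S hSn
      rwa [Subsingleton.elim S' S] at hS'
    have hbig : D < (C : Subgroup G) ⊓ R := by
      have h1 : D ≤ (C : Subgroup G) ⊓ R := le_inf hC.le fun y hy =>
        hR ⟨⟨y, le_normalizer hy⟩, hle (mem_subgroupOf.2 (hC.le hy)), rfl⟩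
      have h2 : (x : G) ∈ (C : Subgroup G) ⊓ R :=
        Subgroup.mem_inf.2 ⟨x.2, hR ⟨⟨x, hxN⟩, hle (mem_subgroupOf.2 x.2), rfl⟩⟩
      refine lt_of_le_of_ne h1 fun e => hxD (mem_subgroupOf.2 ?_)
      rw [← e] at h2
      exact h2
    by_contra hCR
    exact hbig.not_ge (hmax ⟨C, R, fun e => hCR e.symm, rfl⟩ hbig.le)
  have hA : D < (A : Subgroup G) := by
    refine lt_of_le_of_ne (hD ▸ inf_le_left) fun e => hne ?_
    have hle : (A : Subgroup G) ≤ B := e ▸ hD ▸ inf_le_right
    exact Sylow.ext (A.3 B.2 hle)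
  have hB : D < (B : Subgroup G) := by
    refine lt_of_le_of_ne (hD ▸ inf_le_right) fun e => hne ?_
    have hle : (B : Subgroup G) ≤ A := e ▸ hD ▸ inf_le_left
    exact (Sylow.ext (B.3 A.2 hle)).symm
  exact hne ((key B hB).trans (key A hA).symm)

theorem result {G : Type*} [Group G] [Finite G] (p : ℕ) (hp : p.Prime) (hb : ∀ χ : Cfsg.IrrCharacter G, Cfsg.charDegree (χ : G → ℂ) < p) : ∃ P : Subgroup G, P.Normal ∧ (∀ x ∈ P, ∀ y ∈ P, x * y = y * x) ∧ IsPGroup p P ∧ ¬ p ∣ P.index := by
  have := Fact.mk hp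
  have h : Small p G := fun χ => by
    obtain ⟨d, -, hd⟩ := Char.IsIrr.degree χ.2
    exact ⟨d, hd, by have := hb χ; rwa [Char.charDegree_eq_natCast hd] at this⟩
  obtain ⟨P⟩ : Nonempty (Sylow p G) := inferInstance
  refine ⟨P, normal_sylow _ G rfl h P, fun x hx y hy => ?_, P.2, P.not_dvd_index' index_ne_zero_of_finite⟩
  exact congrArg Subtype.val (comm_of_pgroup P.2 (small_subgroup h _) ⟨x, hx⟩ ⟨y, hy⟩)

end Cfsg.Agent.S4464
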