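import Cfsg.Statements.S4471
import Cfsg.Agent.BlichTwoEig.Main
-- import your own Cfsg.Agent.* helpers here

set_option autoImplicit false
open Cfsg

namespace Cfsg.Agent.S4471

/-- Let p ≥ 7 be a prime and let the finite group G have a faithful irreducible character of degree n with n < 2p and n ≠ p. If the Sylow p-subgroups of G are non-abelian then p² does not divide the index of O_p(G) in G; consequently, in every case G/O_p(G) has abelian Sylow p-subgroups. -/
theorem result {G : Type*} [Group G] [Finite G] (χ : Cfsg.IrrCharacter G) (hfaith : ∀ g : G, (χ : G → ℂ) g = (χ : G → ℂ) 1 → g = 1) (n : ℕ) (hn : Cfsg.charDegree (χ : G → ℂ) = n) (p : ℕ) (hp : p.Prime) (h7 : 7 ≤ p) (hn2 : n < 2 * p) (hnp : n ≠ p) : ((∃ P : Sylow p G, ∃ x ∈ (P : Subgroup G), ∃ y ∈ (P : Subgroup G), x * y ≠ y * x) → ¬ p ^ 2 ∣ (Cfsg.pCore p G).index) ∧ ∀ Q : Sylow p (G ⧸ Cfsg.pCore p G), ∀ x ∈ (Q : Subgroup (G ⧸ Cfsg.pCore p G)), ∀ y ∈ (Q : Subgroup (G ⧸ Cfsg.pCore p G)), x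 * y = y * x := by
  haveI := Fact.mk hp
  obtain ⟨m, ρ, hirr, hρ⟩ := χ.2
  have hm : n = m := by
    rw [← hn, ← hρ]
    simp [Cfsg.charDegree, Representation.character, Module.finrank_fin_fun]
  subst hm
  have hinj : Function.Injective ρ := fun a b h => by
    have hab : ρ (b⁻¹ * a) = LinearMap.id := by
      rw [map_mul, h, ← map_mul, inv_mul_cancel, map_one]
      rfl
    have := hfaith (b⁻¹ * a) (by
      rw [← hρ, (Cfsg.Agent.Char.character_eq_finrank_iff ρ _).2 hab,
        (Cfsg.Agent.Char.character_eq_finrank_iff ρ 1).2 (map_one ρ)])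
    exact (eq_of_inv_mul_eq_one this).symm
  have key : (∃ P : Sylow p G, ∃ x ∈ (P : Subgroup G), ∃ y ∈ (P : Subgroup G), x * y ≠ y * x) →
      ¬ p ^ 2 ∣ (Cfsg.pCore p G).index := by
    rintro ⟨P, x, hx, y, hy, hxy⟩
    exact Cfsg.Agent.BlichTwoEig.main ρ hinj hirr hp h7 hn2 hnp P.2 (x := ⟨x, hx⟩) (y := ⟨y, hy⟩)
      fun h => hxy (congrArg Subtype.val h)
  refine ⟨key, fun Q x hx y hy => ?_⟩
  by_cases hab : ∃ P : Sylow p G, ∃ x ∈ (P : Subgroup G), ∃ y ∈ (P : Subgroup G), x * y ≠ y * x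
  · have h2 := key hab
    have hcard : Nat.card (Q : Subgroup (G ⧸ Cfsg.pCore p G)) ∣ p := by
      obtain ⟨k, hk⟩ := IsPGroup.iff_card.1 Q.2
      rw [hk]
      rcases k with _ | _ | k
      · exact one_dvd p
      · simp
      · exfalso
        apply h2
        have h3 := Subgroup.card_subgroup_dvd_card (Q : Subgroup (G ⧸ Cfsg.pCore p G))
        rw [hk, ← Subgroup.index_eq_card] at h3
        exact (pow_dvd_pow p (by omega)).trans h3
    haveI : IsCyclic (Q : Subgroup (G ⧸ Cfsg.pCore p G)) := by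
      rcases (Nat.dvd_prime hp).1 hcard with h | h
      · haveI := (Nat.card_eq_one_iff_unique.1 h).1
        infer_instance
      · exact isCyclic_of_prime_card h
    exact congrArg Subtype.val
      (IsMulCommutative.is_comm.comm (⟨x, hx⟩ : (Q : Subgroup (G ⧸ Cfsg.pCore p G))) ⟨y, hy⟩)
  · push Not at hab
    obtain ⟨P, hP⟩ := Sylow.mapSurjective_surjective (QuotientGroup.mk'_surjective (Cfsg.pCore p G)) p Q
    rw [← hP, Sylow.coe_mapSurjective, Subgroup.mem_map] at hx hy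
    obtain ⟨a, ha, rfl⟩ := hx
    obtain ⟨b, hb, rfl⟩ := hy
    rw [← map_mul, ← map_mul, hab P a ha b hb]

end Cfsg.Agent.S4471
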