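import Cfsg.Statements.S4473
import Cfsg.Agent.Char.TwoDegrees
import Cfsg.Agent.Char.Monomial
import Cfsg.Agent.Char.UniqueDivisible

set_option autoImplicit false
open Cfsg

namespace Cfsg.Agent.S4473

open Matrix

local notation "M2" => Matrix (Fin 2) (Fin 2) ℂ

theorem exists_lin {X Y : M2} (hX : ∀ c : ℂ, X ≠ c • 1) (h : X * Y = Y * X) :
    ∃ a b : ℂ, Y = a • 1 + b • X := by
  have h00 := congrFun (congrFun h 0) 0
  have h01 := congrFun (congrFun h 0) 1
  have h10 := congrFun (congrFun h 1) 0
  simp only [Matrix.mul_apply, Fin.sum_univ_two] at h00 h01 h10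
  have key : ∀ a b : ℂ, Y 0 0 = a + b * X 0 0 → Y 0 1 = b * X 0 1 → Y 1 0 = b * X 1 0 →
      Y 1 1 = a + b * X 1 1 → ∃ a b : ℂ, Y = a • 1 + b • X := fun a b e1 e2 e3 e4 =>
    ⟨a, b, by ext i j; fin_cases i <;> fin_cases j <;> simp [e1, e2, e3, e4]⟩
  by_cases hq : X 0 1 = 0
  · by_cases hr : X 1 0 = 0
    · have hd : X 0 0 - X 1 1 ≠ 0 := fun e => hX (X 0 0) (by
        ext i j; fin_cases i <;> fin_cases j <;> simp [hq, hr, (sub_eq_zero.1 e)])
      refine key (Y 0 0 - (Y 0 0 - Y 1 1) / (X 0 0 - X 1 1) * X 0 0)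
        ((Y 0 0 - Y 1 1) / (X 0 0 - X 1 1)) (by ring) ?_ ?_ (by field_simp; ring)
      · rw [hq, mul_zero]
        have : (X 0 0 - X 1 1) * Y 0 1 = 0 := by rw [hq] at h01; linear_combination h01
        exact (mul_eq_zero.1 this).resolve_left hd
      · rw [hr, mul_zero]
        have : (X 0 0 - X 1 1) * Y 1 0 = 0 := by rw [hr] at h10; linear_combination -h10
        exact (mul_eq_zero.1 this).resolve_left hd
    · refine key (Y 0 0 - Y 1 0 / X 1 0 * X 0 0) (Y 1 0 / X 1 0) (by ring) ?_ (by field_simp) ?_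
      · field_simp
        linear_combination -h00
      · field_simp
        linear_combination -h10
  · refine key (Y 0 0 - Y 0 1 / X 0 1 * X 0 0) (Y 0 1 / X 0 1) (by ring) (by field_simp) ?_ ?_
    · field_simp
      linear_combination h00
    · field_simp
      linear_combination h01

theorem two_values {X Y : M2} {k : ℕ} (hk : k ≠ 0) (hpow : X ^ k = 1) (hX : ∀ c : ℂ, X ≠ c • 1)
    (h : X * Y = Y * X) (ht : Y.trace = X.trace) (hd : Y.det = X.det) :
    Y = X ∨ Y = X.trace • 1 - X := by
  obtain ⟨a, b, rfl⟩ := exists_lin hX h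
  have ha : 2 * a + b * X.trace = X.trace := by
    rw [trace_add, trace_smul, trace_smul, trace_one] at ht
    simp only [smul_eq_mul, Fintype.card_fin, Nat.cast_ofNat] at ht
    linear_combination ht
  have hdisc : X.trace ^ 2 - 4 * X.det ≠ 0 := by
    intro hz
    set l := X.trace / 2 with hl
    set N := X - l • (1 : M2) with hN
    have hN2 : N * N = 0 := by
      rw [trace_fin_two, det_fin_two] at hz
      ext i j
      fin_cases i <;> fin_cases j <;>
        simp [hN, hl, Matrix.mul_apply, trace_fin_two]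
      · linear_combination hz / 4
      · ring
      · ring
      · linear_combination hz / 4
    have hXN : X = l • 1 + N := by rw [hN]; abel
    have hpows : ∀ j : ℕ, X ^ (j + 1) = l ^ (j + 1) • 1 + ((j + 1 : ℂ) * l ^ j) • N := by
      intro j
      induction j with
      | zero => simp [← hXN]
      | succ j ih =>
        rw [pow_succ, ih, hXN]
        simp only [add_mul, mul_add, smul_mul_assoc, mul_smul_comm, one_mul, mul_one, hN2, smul_zero,
          add_zero, smul_smul]
        push_cast
        module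
    obtain ⟨j, rfl⟩ := Nat.exists_eq_succ_of_ne_zero hk
    rw [hpows] at hpow
    have htr := congrArg Matrix.trace hpow
    have hNt : N.trace = 0 := by
      rw [hN, trace_sub, trace_smul, trace_one, hl]; simp
    rw [trace_add, trace_smul, trace_smul, trace_one, hNt] at htr
    have hlj : l ^ (j + 1) = 1 := by simpa using htr
    rw [hlj, one_smul, add_eq_left, smul_eq_zero] at hpow
    rcases hpow with h0 | h0
    · rcases mul_eq_zero.1 h0 with h1 | h1
      · exact Nat.cast_add_one_ne_zero j h1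
      · have : l = 0 := eq_zero_of_pow_eq_zero h1
        rw [this, zero_pow (Nat.succ_ne_zero j)] at hlj
        exact zero_ne_one hlj
    · exact hX l (by rw [hXN, h0, add_zero])
  have hb : (b - 1) * (b + 1) * (X.trace ^ 2 - 4 * X.det) = 0 := by
    simp only [trace_fin_two] at ha
    simp [trace_fin_two, det_fin_two, -mul_eq_zero] at hd ⊢
    linear_combination (-4) * hd + (2 * a + b * (X 0 0 + X 1 1) + (X 0 0 + X 1 1)) * ha
  rcases mul_eq_zero.1 ((mul_eq_zero.1 hb).resolve_right hdisc) with h1 | h1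
  · refine Or.inl ?_
    have hb1 : b = 1 := sub_eq_zero.1 h1
    have ha0 : a = 0 := by rw [hb1] at ha; linear_combination ha / 2
    rw [hb1, ha0]; simp
  · refine Or.inr ?_
    have hb1 : b = -1 := eq_neg_of_add_eq_zero_left h1
    have ha0 : a = X.trace := by rw [hb1] at ha; linear_combination ha / 2
    rw [hb1, ha0, neg_one_smul, sub_eq_add_neg]

/-- The numerical part of the classification. -/
theorem three_orbits {g n₁ n₂ n₃ a₁ a₂ a₃ : ℕ} (h1 : 2 ≤ a₁) (h12 : a₁ ≤ a₂) (h23 : a₂ ≤ a₃)
    (m1 : 2 ≤ n₁) (m2 : 2 ≤ n₂) (m3 : 2 ≤ n₃) (e1 : 2 * (n₁ * a₁) = g) (e2 : 2 * (n₂ * a₂) = g)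
    (e3 : 2 * (n₃ * a₃) = g) (hs : 2 * (n₁ + n₂ + n₃) = g + 2) : g = 12 ∨ g = 24 ∨ g = 60 := by
  obtain rfl : a₁ = 2 := by
    by_contra h
    have u1 := Nat.mul_le_mul_left n₁ (show 3 ≤ a₁ by omega)
    have u2 := Nat.mul_le_mul_left n₂ (show 3 ≤ a₂ by omega)
    have u3 := Nat.mul_le_mul_left n₃ (show 3 ≤ a₃ by omega)
    omega
  obtain rfl | rfl | h4 : a₂ = 2 ∨ a₂ = 3 ∨ 4 ≤ a₂ := by omega
  · omega
  · obtain h | h : a₃ ≤ 5 ∨ 6 ≤ a₃ := by omega
    · interval_cases a₃ <;> omega
    · have u3 := Nat.mul_le_mul_left n₃ h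
      omega
  · have u2 := Nat.mul_le_mul_left n₂ h4
    have u3 := Nat.mul_le_mul_left n₃ (show 4 ≤ a₃ by omega)
    omega

theorem numeric {g : ℕ} {ι : Type*} [DecidableEq ι] (s : Finset ι) (n a e : ι → ℕ)
    (hg : 1 < g) (ha : ∀ i ∈ s, 2 ≤ a i) (he : ∀ i ∈ s, e i = 1 ∨ e i = 2)
    (hn : ∀ i ∈ s, n i * e i * a i = g) (h3 : ∀ i ∈ s, 3 ≤ n i * e i)
    (hsum : ∑ i ∈ s, n i * (a i - 1) = g - 1) : g = 12 ∨ g = 24 ∨ g = 60 := by
  have hstep : ∀ i ∈ s, ∃ P, n i * (a i - 1) + n i = P ∧ e i * P = g ∧ 2 * n i ≤ P ∧ P = n i * a i ∧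
      2 ≤ n i * e i := by
    intro i hi
    refine ⟨n i * a i, ?_, ?_, ?_, rfl, le_trans (by omega) (h3 i hi)⟩
    · obtain ⟨a', ha'⟩ : ∃ a', a i = a' + 1 := ⟨a i - 1, by have := ha i hi; omega⟩
      rw [ha', Nat.add_sub_cancel]; ring
    · rw [← hn i hi]; ring
    · rw [Nat.mul_comm 2]; exact Nat.mul_le_mul_left _ (ha i hi)
  have hlow : ∀ i ∈ s, g ≤ 4 * (n i * (a i - 1)) ∧ (e i = 1 → g ≤ 2 * (n i * (a i - 1))) := by
    intro i hi
    obtain ⟨P, p1, p2, p3, -, -⟩ := hstep i hi
    rcases he i hi with h | h <;> rw [h] at p2 ⊢ <;> omega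
  have hcard : s.card ≤ 3 := by
    by_contra! h
    have h4 : s.card • g ≤ ∑ i ∈ s, 4 * (n i * (a i - 1)) := Finset.card_nsmul_le_sum _ _ _ fun i hi => (hlow i hi).1
    rw [← Finset.mul_sum, hsum, smul_eq_mul] at h4
    have := Nat.mul_le_mul_right g (show 4 ≤ s.card by omega)
    omega
  interval_cases hc : s.card
  · rw [Finset.card_eq_zero] at hc; subst hc; simp at hsum; omega
  · obtain ⟨i, rfl⟩ := Finset.card_eq_one.1 hc
    have hi : i ∈ ({i} : Finset ι) := Finset.mem_singleton_self i
    obtain ⟨P, p1, p2, p3, -, -⟩ := hstep i hi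
    rw [Finset.sum_singleton] at hsum
    have := h3 i hi
    rcases he i hi with h | h <;> rw [h] at p2 this <;> omega
  · obtain ⟨i, j, hij, rfl⟩ := Finset.card_eq_two.1 hc
    rw [Finset.sum_pair hij] at hsum
    have hi : i ∈ ({i, j} : Finset ι) := by simp
    have hj : j ∈ ({i, j} : Finset ι) := by simp
    obtain ⟨P, p1, p2, p3, p4, -⟩ := hstep i hi
    obtain ⟨Q, q1, q2, q3, q4, -⟩ := hstep j hj
    have hi3 := h3 i hi
    have hj3 := h3 j hj
    have mixed : ∀ n₁ n₂ a₁ a₂ P Q : ℕ, P = n₁ * a₁ → Q = n₂ * a₂ → P = g → 2 * Q = g → 2 ≤ a₁ →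
        2 ≤ a₂ → 3 ≤ n₁ → 2 ≤ n₂ → P + Q + 1 = g + n₁ + n₂ → g = 12 := by
      intro n₁ n₂ a₁ a₂ P Q hP hQ hPg hQg h1 h2 m1 m2 hs
      obtain rfl | h : a₁ = 2 ∨ 3 ≤ a₁ := by omega
      · omega
      obtain rfl | h' : a₂ = 2 ∨ 3 ≤ a₂ := by omega
      · obtain rfl | h'' : a₁ = 3 ∨ 4 ≤ a₁ := by omega
        · omega
        · have := Nat.mul_le_mul_left n₁ h''; omega
      · have := Nat.mul_le_mul_left n₁ h
        have := Nat.mul_le_mul_left n₂ h'
        omega
    rcases he i hi with hei | hei <;> rcases he j hj with hej | hej <;>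
      rw [hei] at p2 hi3 <;> rw [hej] at q2 hj3
    · omega
    · exact Or.inl (mixed (n i) (n j) (a i) (a j) P Q p4 q4 (by omega) q2 (ha i hi) (ha j hj)
        (by omega) (by omega) (by omega))
    · exact Or.inl (mixed (n j) (n i) (a j) (a i) Q P q4 p4 (by omega) p2 (ha j hj) (ha i hi)
        (by omega) (by omega) (by omega))
    · omega
  · obtain ⟨i, j, k, hij, hik, hjk, rfl⟩ := Finset.card_eq_three.1 hc
    rw [Finset.sum_insert (by simp [hij, hik]), Finset.sum_pair hjk] at hsum
    have hi : i ∈ ({i, j, k} : Finset ι) := by simp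
    have hj : j ∈ ({i, j, k} : Finset ι) := by simp
    have hk : k ∈ ({i, j, k} : Finset ι) := by simp
    obtain ⟨P, p1, p2, p3, p4, p5⟩ := hstep i hi
    obtain ⟨Q, q1, q2, q3, q4, q5⟩ := hstep j hj
    obtain ⟨R, r1, r2, r3, r4, r5⟩ := hstep k hk
    have hi3 := h3 i hi
    have hj3 := h3 j hj
    have hk3 := h3 k hk
    have two : e i = 2 ∧ e j = 2 ∧ e k = 2 := by
      have := hlow i hi
      have := hlow j hj
      have := hlow k hk
      have := he i hi
      have := he j hj
      have := he k hk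
      omega
    obtain ⟨ei, ej, ek⟩ := two
    rw [ei] at p2 hi3; rw [ej] at q2 hj3; rw [ek] at r2 hk3
    subst p4; subst q4; subst r4
    have t := fun (x y z : ι) => three_orbits (g := g) (n₁ := n x) (n₂ := n y) (n₃ := n z)
      (a₁ := a x) (a₂ := a y) (a₃ := a z)
    rcases le_total (a i) (a j) with u | u <;> rcases le_total (a j) (a k) with v | v <;>
      rcases le_total (a i) (a k) with w | w <;>
      have := ha i hi <;> have := ha j hj <;> have := ha k hk <;>
      first
        | exact t i j k (by omega) (by omega) (by omega) (by omega) (by omega) (by omega) (by omega) (by omega) (by omega) (by omega)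
        | exact t i k j (by omega) (by omega) (by omega) (by omega) (by omega) (by omega) (by omega) (by omega) (by omega) (by omega)
        | exact t j i k (by omega) (by omega) (by omega) (by omega) (by omega) (by omega) (by omega) (by omega) (by omega) (by omega)
        | exact t j k i (by omega) (by omega) (by omega) (by omega) (by omega) (by omega) (by omega) (by omega) (by omega) (by omega)
        | exact t k i j (by omega) (by omega) (by omega) (by omega) (by omega) (by omega) (by omega) (by omega) (by omega) (by omega)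
        | exact t k j i (by omega) (by omega) (by omega) (by omega) (by omega) (by omega) (by omega) (by omega) (by omega) (by omega)

theorem index_eq_ncard_range {G α : Type*} [Group G] (H : Subgroup G) (f : G → α)
    (hf : ∀ x y, f x = f y ↔ x⁻¹ * y ∈ H) : H.index = (Set.range f).ncard := by
  rw [Subgroup.index_eq_card, ← Nat.card_coe_set_eq]
  refine Nat.card_congr (Equiv.ofBijective (Quotient.lift (fun x => (⟨f x, x, rfl⟩ : Set.range f))
    fun x y h => Subtype.ext ((hf x y).2 (QuotientGroup.leftRel_apply.1 h))) ⟨?_, ?_⟩)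
  · intro x y
    induction x using QuotientGroup.induction_on with | _ x =>
    induction y using QuotientGroup.induction_on with | _ y =>
    intro h
    exact QuotientGroup.eq.2 ((hf x y).1 (congrArg Subtype.val h))
  · rintro ⟨_, x, rfl⟩
    exact ⟨(x : G ⧸ H), rfl⟩

theorem result {G : Type*} [Group G] [Fintype G] (χ : Cfsg.IrrCharacter G) (hfaith : ∀ g : G, (χ : G → ℂ) g = (χ : G → ℂ) 1 → g = 1) (h2 : Cfsg.charDegree (χ : G → ℂ) = 2) (hprim : ∀ H : Subgroup G, H ≠ ⊤ → ∀ θ : H → ℂ, Cfsg.IsCharacter H θ → (χ : G → ℂ) ≠ Cfsg.indFun H θ) : (Subgroup.center G).index = 12 ∨ (Subgroup.center G).index = 24 ∨ (Subgroup.center G).index = 60 := by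
  classical
  obtain ⟨f, hf⟩ := χ
  simp only at hfaith h2 hprim
  have hf1 : f 1 = 2 := by
    obtain ⟨m, -, hm⟩ := Char.IsIrr.degree hf
    rw [Char.charDegree_eq_natCast hm] at h2
    rw [hm, h2]; norm_num
  -- no abelian subgroup of index at most two
  have hbig : ∀ A : Subgroup G, (∀ a ∈ A, ∀ b ∈ A, a * b = b * a) → 3 ≤ A.index := by
    intro A hA
    by_contra! hlt
    have h0 : A.index ≠ 0 := Subgroup.index_ne_zero_of_finite
    rcases (show A.index = 1 ∨ A.index = 2 by omega) with h | h
    · have hc : ∀ a b : G, a * b = b * a := fun a b => by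
        have ht := Subgroup.index_eq_one.1 h
        exact hA a (ht ▸ Subgroup.mem_top a) b (ht ▸ Subgroup.mem_top b)
      have := Char.IsIrr.degree_one_of_comm hf hc
      rw [hf1] at this; norm_num at this
    · have := Fintype.ofFinite A
      obtain ⟨θ, hθ⟩ := Char.exists_constituent_res (N := A) hf
      have hθ1 : (θ : A → ℂ) 1 = 1 := Char.IsIrr.degree_one_of_comm θ.2
        fun a b => Subtype.ext (hA a a.2 b b.2)
      have hne : A ≠ ⊤ := fun e => by rw [e, Subgroup.index_top] at h; omega
      refine hprim A hne θ (Char.IsIrr.isCharacter θ.2) ?_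
      have hI := Char.isCharacter_indFun A (Char.IsIrr.isCharacter θ.2)
      have hin : classInner (indFun A (θ : A → ℂ)) f ≠ 0 := by
        rw [Char.classInner_indFun_left A _ (Char.isClassFunction_of_isIrr hf), ← Char.classInner_conj_symm]
        simpa using hθ
      have hsub := Char.IsChar.sub_constituent hI hf hin
      have hz := (Char.IsChar.eq_zero_iff hsub).2 (by
        rw [Pi.sub_apply, Char.indFun_apply_one, hθ1, h, hf1]; norm_num)
      exact (sub_eq_zero.1 hz).symm
  obtain ⟨d, ρ, hρ, rfl⟩ := hf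
  obtain rfl : d = 2 := by
    rw [ρ.char_one, Module.finrank_fin_fun] at hf1
    exact_mod_cast hf1
  let M : G →* M2 :=
    { toFun := fun g => LinearMap.toMatrix' (ρ g)
      map_one' := by simp [Module.End.one_eq_id]
      map_mul' := fun g h => by rw [map_mul, Module.End.mul_eq_comp, LinearMap.toMatrix'_comp] }
  have hchar : ∀ g, ρ.character g = (M g).trace := fun g => LinearMap.trace_eq_matrix_trace ℂ (Pi.basisFun ℂ (Fin 2)) (ρ g)
  have hinj : Function.Injective M := by
    intro a b hab
    have h1 : M (b⁻¹ * a) = 1 := by rw [map_mul, hab, ← map_mul, inv_mul_cancel, map_one]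
    have := hfaith (b⁻¹ * a) (by rw [hchar, hchar, h1, map_one])
    exact (inv_mul_eq_one.1 this).symm
  set Z := Subgroup.center G with hZ
  let C : G → Subgroup G := fun x => Subgroup.centralizer {x}
  have hC : ∀ x y : G, y ∈ C x ↔ y * x = x * y := fun x y => Subgroup.mem_centralizer_singleton_iff
  have hns : ∀ x, x ∉ Z → ∀ c : ℂ, M x ≠ c • 1 := fun x hx c hc => hx (Subgroup.mem_center_iff.2 fun y =>
    hinj (by rw [map_mul, map_mul, hc, mul_smul_comm, smul_mul_assoc, mul_one, one_mul]))
  have habel : ∀ x, x ∉ Z → ∀ a ∈ C x, ∀ b ∈ C x, a * b = b * a := by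
    intro x hx a ha b hb
    have hma : M x * M a = M a * M x := by rw [← map_mul, ← map_mul, (hC x a).1 ha]
    have hmb : M x * M b = M b * M x := by rw [← map_mul, ← map_mul, (hC x b).1 hb]
    obtain ⟨a₀, a₁, e1⟩ := exists_lin (hns x hx) hma
    obtain ⟨b₀, b₁, e2⟩ := exists_lin (hns x hx) hmb
    apply hinj
    rw [map_mul, map_mul, e1, e2]
    simp only [add_mul, mul_add, smul_mul_assoc, mul_smul_comm, one_mul, mul_one, smul_smul]
    module
  have heq : ∀ x, x ∉ Z → ∀ y ∈ C x, y ∉ Z → C y = C x := by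
    intro x hx y hy hyZ
    ext w
    constructor
    · intro hw
      exact (hC x w).2 (habel y hyZ w hw x ((hC y x).2 ((hC x y).1 hy).symm))
    · intro hw
      exact (hC y w).2 (habel x hx w hw y hy)
  have hCconj : ∀ g x : G, (C x).map (MulAut.conj g).toMonoidHom = C (g * x * g⁻¹) := by
    intro g x
    ext w
    rw [Subgroup.mem_map_equiv, hC, hC, MulAut.conj_symm_apply]
    constructor <;> intro h
    · calc w * (g * x * g⁻¹) = g * (g⁻¹ * w * g * x) * g⁻¹ := by group
        _ = g * (x * (g⁻¹ * w * g)) * g⁻¹ := by rw [h]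
        _ = _ := by group
    · calc g⁻¹ * w * g * x = g⁻¹ * (w * (g * x * g⁻¹)) * g := by group
        _ = g⁻¹ * (g * x * g⁻¹ * w) * g := by rw [h]
        _ = _ := by group
  have hZC : ∀ x, Z ≤ C x := fun x z hz => (hC x z).2 (Subgroup.mem_center_iff.1 hz x).symm
  have hZnot : ∀ g x : G, x ∉ Z → g * x * g⁻¹ ∉ Z := fun g x hx h => hx (by
    simpa [mul_assoc] using (inferInstance : Z.Normal).conj_mem _ h g⁻¹)
  -- normaliser
  have hN2 : ∀ x, x ∉ Z → (C x).relIndex (Subgroup.normalizer (C x : Set G)) = 1 ∨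
      (C x).relIndex (Subgroup.normalizer (C x : Set G)) = 2 := by
    intro x hx
    have h0 : (C x).relIndex (Subgroup.normalizer (C x : Set G)) ≠ 0 := Subgroup.index_ne_zero_of_finite
    suffices (C x).relIndex (Subgroup.normalizer (C x : Set G)) ≤ 2 by omega
    rw [Subgroup.relIndex, index_eq_ncard_range _
      (fun t : Subgroup.normalizer (C x : Set G) => M ((t : G) * x * (t : G)⁻¹)) (fun s t => by
        rw [hinj.eq_iff, Subgroup.mem_subgroupOf, hC]
        simp only [Subgroup.coe_mul, Subgroup.coe_inv]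
        constructor <;> intro h
        · calc (s : G)⁻¹ * t * x = (s : G)⁻¹ * (t * x * (t : G)⁻¹) * t := by group
            _ = (s : G)⁻¹ * (s * x * (s : G)⁻¹) * t := by rw [h]
            _ = _ := by group
        · calc (s : G) * x * (s : G)⁻¹ = s * (x * ((s : G)⁻¹ * t)) * (t : G)⁻¹ := by group
            _ = s * ((s : G)⁻¹ * t * x) * (t : G)⁻¹ := by rw [h]
            _ = _ := by group)]
    refine (Set.ncard_le_ncard (t := {M x, (M x).trace • 1 - M x}) ?_).trans
      ((Set.ncard_insert_le _ _).trans (by rw [Set.ncard_singleton]))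
    rintro _ ⟨t, rfl⟩
    have hy : (t : G) * x * (t : G)⁻¹ ∈ C x :=
      (Subgroup.mem_normalizer_iff.1 t.2 x).1 ((hC x x).2 rfl)
    refine two_values (orderOf_pos x).ne' (by rw [← map_pow, pow_orderOf_eq_one, map_one]) (hns x hx)
      (by rw [← map_mul, ← map_mul, (hC x _).1 hy]) ?_ ?_
    · show (M ((t : G) * x * (t : G)⁻¹)).trace = _
      rw [map_mul, trace_mul_comm, ← map_mul, inv_mul_cancel_left]
    · show (M ((t : G) * x * (t : G)⁻¹)).det = _
      rw [map_mul, map_mul, det_mul, det_mul, mul_right_comm, ← det_mul, ← map_mul, mul_inv_cancel,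
        map_one, det_one, one_mul]
  -- the orbits
  let orb : G → Finset (Subgroup G) := fun x => Finset.univ.image fun g => (C x).map (MulAut.conj g).toMonoidHom
  let rep : Finset (Subgroup G) → G := fun o => if h : ∃ x, x ∉ Z ∧ orb x = o then h.choose else 1
  set s : Finset (Finset (Subgroup G)) := (Finset.univ.filter fun x => x ∉ Z).image orb with hs
  have hrep : ∀ o ∈ s, rep o ∉ Z ∧ orb (rep o) = o := by
    intro o ho
    obtain ⟨x, hx, rfl⟩ := Finset.mem_image.1 ho
    have h : ∃ y, y ∉ Z ∧ orb y = orb x := ⟨x, (Finset.mem_filter.1 hx).2, rfl⟩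
    simp only [rep, dif_pos h]
    exact h.choose_spec
  have hidx0 : 1 < Z.index := by
    have h1 := hbig Z (fun a ha b _ => (Subgroup.mem_center_iff.1 ha b).symm)
    omega
  let a : Finset (Subgroup G) → ℕ := fun o => Z.relIndex (C (rep o))
  let n : Finset (Subgroup G) → ℕ := fun o => (Subgroup.normalizer (C (rep o) : Set G)).index
  let e : Finset (Subgroup G) → ℕ := fun o => (C (rep o)).relIndex (Subgroup.normalizer (C (rep o) : Set G))
  refine numeric s n a e hidx0 (fun o ho => ?_) (fun o ho => hN2 _ (hrep o ho).1) (fun o ho => ?_)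
    (fun o ho => ?_) ?_
  · have h0 : a o ≠ 0 := Subgroup.index_ne_zero_of_finite
    have h1 : a o ≠ 1 := fun h => (hrep o ho).1
      (Subgroup.relIndex_eq_one.1 h ((hC _ _).2 rfl))
    omega
  · simp only [n, e, a]
    rw [mul_comm (Subgroup.index _), Subgroup.relIndex_mul_index Subgroup.le_normalizer, mul_comm,
      Subgroup.relIndex_mul_index (hZC _)]
  · simp only [n, e]
    rw [mul_comm, Subgroup.relIndex_mul_index Subgroup.le_normalizer]
    exact hbig _ (habel _ (hrep o ho).1)
  -- class equation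
  set z := Nat.card Z with hz
  have horb : ∀ o ∈ s, o.card = n o := by
    intro o ho
    conv_lhs => rw [← (hrep o ho).2]
    simp only [n]
    rw [index_eq_ncard_range _ (fun g => (C (rep o)).map (MulAut.conj g).toMonoidHom) (fun u v => ?_)]
    · rw [← Set.ncard_coe_finset, Finset.coe_image, Finset.coe_univ, Set.image_univ]
    · set A := C (rep o) with hA
      rw [Subgroup.mem_normalizer_iff]
      constructor
      · intro h w
        have := SetLike.ext_iff.1 h (v * w * v⁻¹)
        rw [Subgroup.mem_map_equiv, Subgroup.mem_map_equiv, MulAut.conj_symm_apply,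
          MulAut.conj_symm_apply] at this
        simpa [mul_assoc] using this.symm
      · intro h
        ext w
        rw [Subgroup.mem_map_equiv, Subgroup.mem_map_equiv, MulAut.conj_symm_apply, MulAut.conj_symm_apply,
          h (v⁻¹ * w * v)]
        simp [mul_assoc]
  have hdis : ∀ x y, x ∉ Z → y ∉ Z → C x ∈ orb y → orb x = orb y := by
    intro x y hx hy h
    obtain ⟨g, -, hg⟩ := Finset.mem_image.1 h
    ext A
    simp only [orb, Finset.mem_image, Finset.mem_univ, true_and, ← hg, Subgroup.map_map]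
    constructor
    · rintro ⟨u, rfl⟩
      exact ⟨u * g, by congr 1; ext w; simp [mul_assoc]⟩
    · rintro ⟨u, rfl⟩
      exact ⟨u * g⁻¹, by congr 1; ext w; simp [mul_assoc]⟩
  have hmemorb : ∀ o ∈ s, ∀ A ∈ o, ∃ y, y ∉ Z ∧ A = C y ∧ Nat.card A = Nat.card (C (rep o)) := by
    intro o ho A hA
    rw [← (hrep o ho).2] at hA
    obtain ⟨g, -, rfl⟩ := Finset.mem_image.1 hA
    exact ⟨_, hZnot g _ (hrep o ho).1, hCconj g _, Subgroup.card_map_of_injective (MulAut.conj g).injective⟩
  let T : Finset G := Finset.univ.filter fun x => x ∉ Z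
  have hfib : ∀ o ∈ s, (T.filter fun x => orb x = o).card = n o * (a o - 1) * z := by
    intro o ho
    have hU : (T.filter fun x => orb x = o) =
        o.biUnion fun A => T.filter fun x => C x = A := by
      ext x
      simp only [T, Finset.mem_filter, Finset.mem_univ, true_and, Finset.mem_biUnion]
      constructor
      · rintro ⟨hx, rfl⟩
        exact ⟨C x, Finset.mem_image.2 ⟨1, Finset.mem_univ _, by ext; simp⟩, hx, rfl⟩
      · rintro ⟨A, hA, hx, rfl⟩
        refine ⟨hx, ?_⟩
        rw [← (hrep o ho).2] at hA ⊢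
        exact hdis x _ hx (hrep o ho).1 hA
    rw [hU, Finset.card_biUnion]
    · rw [Finset.sum_congr rfl (g := fun _ => (a o - 1) * z) fun A hA => ?_, Finset.sum_const,
        horb o ho, smul_eq_mul, mul_assoc]
      obtain ⟨y, hy, rfl, hcard⟩ := hmemorb o ho A hA
      have hset : (T.filter fun x => C x = C y) = (C y : Set G).toFinset \ (Z : Set G).toFinset := by
        ext x
        simp only [T, Finset.mem_filter, Finset.mem_univ, true_and, Finset.mem_sdiff, Set.mem_toFinset,
          SetLike.mem_coe]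
        exact ⟨fun h => ⟨h.2 ▸ (hC x x).2 rfl, h.1⟩, fun h => ⟨h.2, heq y hy x h.1 h.2⟩⟩
      rw [hset, Finset.card_sdiff, Finset.inter_eq_left.2 (Set.toFinset_subset_toFinset.2 (hZC y)),
        ← Set.ncard_eq_toFinset_card', ← Set.ncard_eq_toFinset_card']
      change Nat.card (C y) - z = _
      have h1 : Nat.card (C (rep o)) = a o * z := by
        rw [hz, Nat.mul_comm, ← Nat.card_congr (Subgroup.subgroupOfEquivOfLe (hZC (rep o))).toEquiv]
        exact (Subgroup.card_mul_index _).symm
      rw [hcard, h1, Nat.sub_mul, one_mul]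
    · intro A _ B _ hAB
      exact Finset.disjoint_left.2 fun x h h' => hAB
        ((Finset.mem_filter.1 h).2.symm.trans (Finset.mem_filter.1 h').2)
  have htot := Finset.card_eq_sum_card_image orb T
  rw [← hs, Finset.sum_congr rfl hfib, ← Finset.sum_mul] at htot
  have hT : T.card = (Z.index - 1) * z := by
    have : T = Finset.univ \ (Z : Set G).toFinset := by ext; simp [T]
    rw [this, Finset.card_univ_diff, ← Set.ncard_eq_toFinset_card', ← Nat.card_eq_fintype_card,
      ← Z.index_mul_card, Nat.sub_mul, one_mul]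
    rfl
  exact Nat.eq_of_mul_eq_mul_right Nat.card_pos (htot.symm.trans hT)

end Cfsg.Agent.S4473
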