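import Cfsg.Statements.S4476
import Mathlib.Algebra.Order.Chebyshev
import Cfsg.Agent.Char.FS
import Cfsg.Agent.Char.Integral
-- import your own Cfsg.Agent.* helpers here

set_option autoImplicit false
open Cfsg

namespace Cfsg.Agent.S4476

/-- Let G be a finite group of even order g with exactly t involutions, and put α = (g − 1)/t (a rational number). Then (a) some non-identity element x of G has at most α² conjugates; and (b) some non-principal real-valued irreducible character of G has degree at most α. -/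
theorem result {G : Type*} [Group G] [Fintype G] (heven : Even (Nat.card G)) (t : ℕ) (ht : Nat.card {x : G // orderOf x = 2} = t) : (∃ x : G, x ≠ 1 ∧ ((Subgroup.centralizer ({x} : Set G)).index : ℚ) ≤ (((Nat.card G : ℚ) - 1) / t) ^ 2) ∧ ∃ χ : Cfsg.IrrCharacter G, (χ : G → ℂ) ≠ (fun _ => 1) ∧ (∀ g : G, ((χ : G → ℂ) g).im = 0) ∧ (Cfsg.charDegree (χ : G → ℂ) : ℚ) ≤ ((Nat.card G : ℚ) - 1) / t := by
  classical
  obtain ⟨g0, hg0⟩ := exists_prime_orderOf_dvd_card' (G := G) 2 (even_iff_two_dvd.1 heven)
  have ht0 : 0 < t := by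
    rw [← ht]; exact Nat.card_pos_iff.2 ⟨⟨⟨g0, hg0⟩⟩, inferInstance⟩
  set g := Nat.card G with hg
  let one : IrrCharacter G := ⟨fun _ => 1, Char.isIrrCharacter_one⟩
  choose d hd0 hd using fun χ : IrrCharacter G => Char.IsIrr.degree χ.2
  -- the real non-principal characters
  set R := (Finset.univ.filter fun χ : IrrCharacter G => Char.conjIrr χ = χ).erase one with hR
  have hsq : (Nat.card {s : G // s * s = 1} : ℂ) = (t : ℂ) + 1 := by
    rw [← ht]
    have e : Nat.card {s : G // s * s = 1} = Nat.card {x : G // orderOf x = 2} + 1 := by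
      rw [Nat.card_eq_fintype_card, Nat.card_eq_fintype_card, Fintype.card_subtype,
        Fintype.card_subtype, ← Finset.card_insert_of_notMem (a := (1 : G)) (by simp)]
      congr 1
      ext s
      simp only [Finset.mem_filter, Finset.mem_univ, true_and, Finset.mem_insert, orderOf_eq_prime_iff, sq]
      refine ⟨fun h => (em (s = 1)).imp id fun h1 => ⟨h, h1⟩, ?_⟩
      rintro (rfl | ⟨h, -⟩) <;> simp [*]
    rw [e, Nat.cast_add, Nat.cast_one]
  have hmain : (t : ℝ) ≤ ∑ χ ∈ R, (d χ : ℝ) := by
    have h := Char.card_sqrt_eq_sum (1 : G)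
    rw [hsq, ← Finset.add_sum_erase _ _ (Finset.mem_univ one)] at h
    have h1 : Char.fsInd (one : G → ℂ) * (one : G → ℂ) 1 = 1 := by
      simp [one, Char.fsInd, Char.card_ne_zero]
    rw [h1, add_comm (1 : ℂ)] at h
    have h2 := add_right_cancel h
    have h3 : ∑ χ ∈ Finset.univ.erase one, Char.fsInd (χ : G → ℂ) * (χ : G → ℂ) 1 =
        ∑ χ ∈ R, Char.fsInd (χ : G → ℂ) * (χ : G → ℂ) 1 := by
      refine (Finset.sum_subset (fun χ hχ => ?_) fun χ hχ hχR => ?_).symm
      · exact Finset.mem_erase.2 ⟨(Finset.mem_erase.1 hχ).1, Finset.mem_univ _⟩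
      · rcases Char.fsInd_irr χ with ⟨h0, -⟩ | ⟨-, hr⟩
        · rw [h0, zero_mul]
        · exfalso
          refine hχR ?_
          rw [hR]
          exact Finset.mem_erase.2 ⟨(Finset.mem_erase.1 hχ).1,
            Finset.mem_filter.2 ⟨Finset.mem_univ _, hr⟩⟩
    rw [h3] at h2
    calc (t : ℝ) = ‖(t : ℂ)‖ := (Complex.norm_natCast t).symm
      _ = ‖∑ χ ∈ R, Char.fsInd (χ : G → ℂ) * (χ : G → ℂ) 1‖ := by rw [h2]
      _ ≤ ∑ χ ∈ R, ‖Char.fsInd (χ : G → ℂ) * (χ : G → ℂ) 1‖ := norm_sum_le _ _
      _ ≤ ∑ χ ∈ R, (d χ : ℝ) := Finset.sum_le_sum fun χ _ => by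
          rw [norm_mul, hd, Complex.norm_natCast]
          rcases Char.fsInd_irr χ with ⟨h0, -⟩ | ⟨h0 | h0, -⟩ <;> simp [h0]
  have hsum : ∑ χ ∈ R, (d χ : ℝ) ^ 2 ≤ (g : ℝ) - 1 := by
    have h := Char.sum_sq_degree (G := G)
    simp only [hd] at h
    have h' : ∑ χ : IrrCharacter G, (d χ : ℝ) ^ 2 = g := by exact_mod_cast h
    rw [← Finset.add_sum_erase _ _ (Finset.mem_univ one)] at h'
    have hd1 : (d one : ℝ) = 1 := by
      have h1 : (d one : ℂ) = 1 := (hd one).symm
      exact_mod_cast h1
    rw [hd1, one_pow] at h'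
    refine le_trans (Finset.sum_le_sum_of_subset_of_nonneg (fun χ hχ => ?_) fun _ _ _ => sq_nonneg _)
      (le_of_eq (by linarith))
    exact Finset.mem_erase.2 ⟨(Finset.mem_erase.1 hχ).1, Finset.mem_univ _⟩
  set α : ℝ := ((g : ℝ) - 1) / t with hα
  have htR : (0 : ℝ) < t := by exact_mod_cast ht0
  have htα : α * t = (g : ℝ) - 1 := by rw [hα, div_mul_cancel₀ _ htR.ne']
  have hg1 : (1 : ℝ) < g := by
    have := Nat.le_of_dvd Nat.card_pos (even_iff_two_dvd.1 heven)
    exact_mod_cast this
  have hα0 : 0 < α := div_pos (by linarith) htR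
  constructor
  · by_contra hcon
    push Not at hcon
    have hcon' : ∀ x : G, x ≠ 1 → α ^ 2 < ((Subgroup.centralizer ({x} : Set G)).index : ℝ) := by
      intro x hx
      have h := (Rat.cast_lt (K := ℝ)).2 (hcon x hx)
      push_cast at h
      exact h
    have hk : (∑ x ∈ (Finset.univ : Finset G).erase 1,
        (1 : ℝ) / ((Subgroup.centralizer ({x} : Set G)).index : ℝ)) + 1 =
        Fintype.card (IrrCharacter G) := by
      have : Finite (ConjClasses G) := Quotient.finite _
      have := Fintype.ofFinite (ConjClasses G)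
      have h1 : (1 : ℝ) / ((Subgroup.centralizer ({(1 : G)} : Set G)).index : ℝ) = 1 := by
        rw [show Subgroup.centralizer ({1} : Set G) = ⊤ by
          ext; simp [Subgroup.mem_centralizer_singleton_iff], Subgroup.index_top]
        simp
      rw [add_comm]
      nth_rw 1 [← h1]
      rw [Finset.add_sum_erase _ (fun x => (1 : ℝ) / ((Subgroup.centralizer ({x} : Set G)).index : ℝ))
          (Finset.mem_univ (1 : G)),
        ← Finset.sum_fiberwise Finset.univ ConjClasses.mk, ← Nat.card_eq_fintype_card,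
        Char.card_irrCharacter, Nat.card_eq_fintype_card, ← Finset.card_univ, Finset.card_eq_sum_ones,
        Nat.cast_sum]
      refine Finset.sum_congr rfl fun C _ => ?_
      obtain ⟨x, rfl⟩ := ConjClasses.mk_surjective C
      have hfil : Finset.univ.filter (fun y => ConjClasses.mk y = ConjClasses.mk x) =
          Finset.univ.filter (IsConj x) := by
        ext y
        simp only [Finset.mem_filter, Finset.mem_univ, true_and, ConjClasses.mk_eq_mk_iff_isConj]
        exact isConj_comm
      have hidx : ∀ y ∈ Finset.univ.filter (IsConj x), (1 : ℝ) /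
          ((Subgroup.centralizer ({y} : Set G)).index : ℝ) =
          1 / ((Subgroup.centralizer ({x} : Set G)).index : ℝ) := by
        intro y hy
        rw [← Char.card_isConj_eq_index, ← Char.card_isConj_eq_index]
        congr 2
        exact Nat.card_congr (Equiv.subtypeEquivRight fun z =>
          ⟨fun h => (Finset.mem_filter.1 hy).2.trans h, fun h => (Finset.mem_filter.1 hy).2.symm.trans h⟩)
      rw [hfil, Finset.sum_congr rfl hidx, Finset.sum_const, ← Fintype.card_subtype,
        ← Nat.card_eq_fintype_card, Char.card_isConj_eq_index, nsmul_eq_mul,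
        mul_one_div, div_self (by exact_mod_cast Subgroup.index_ne_zero_of_finite)]
      norm_num
    have hne : ((Finset.univ : Finset G).erase 1).Nonempty :=
      ⟨g0, Finset.mem_erase.2 ⟨fun h => by rw [h, orderOf_one] at hg0; omega, Finset.mem_univ _⟩⟩
    have hlt : (∑ x ∈ (Finset.univ : Finset G).erase 1,
        (1 : ℝ) / ((Subgroup.centralizer ({x} : Set G)).index : ℝ)) < ((g : ℝ) - 1) / α ^ 2 := by
      calc _ < ∑ _x ∈ (Finset.univ : Finset G).erase 1, (1 : ℝ) / α ^ 2 :=
            Finset.sum_lt_sum_of_nonempty hne fun x hx => by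
              gcongr; exact hcon' x (Finset.mem_erase.1 hx).1
        _ = _ := by
            rw [Finset.sum_const, Finset.card_erase_of_mem (Finset.mem_univ _), Finset.card_univ,
              nsmul_eq_mul, Nat.cast_sub Fintype.card_pos, Nat.cast_one, hg, Nat.card_eq_fintype_card]
            ring
    have hRk : (R.card : ℝ) ≤ (Fintype.card (IrrCharacter G) : ℝ) - 1 := by
      have : R.card + 1 ≤ Fintype.card (IrrCharacter G) := by
        rw [← Finset.card_insert_of_notMem (Finset.notMem_erase one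
          (Finset.univ.filter fun χ : IrrCharacter G => Char.conjIrr χ = χ)), ← hR]
        exact Finset.card_le_univ _
      have h : ((R.card + 1 : ℕ) : ℝ) ≤ Fintype.card (IrrCharacter G) := by exact_mod_cast this
      push_cast at h
      linarith
    have hcs : (t : ℝ) ^ 2 ≤ R.card * ((g : ℝ) - 1) :=
      calc (t : ℝ) ^ 2 ≤ (∑ χ ∈ R, (d χ : ℝ)) ^ 2 := pow_le_pow_left₀ htR.le hmain 2
        _ ≤ R.card * ∑ χ ∈ R, (d χ : ℝ) ^ 2 := sq_sum_le_card_mul_sum_sq
        _ ≤ _ := mul_le_mul_of_nonneg_left hsum (Nat.cast_nonneg _)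
    rw [lt_div_iff₀ (by positivity)] at hlt
    have h5 : (R.card : ℝ) * α ^ 2 < (g : ℝ) - 1 := lt_of_le_of_lt
      (mul_le_mul_of_nonneg_right (by linarith) (sq_nonneg α)) hlt
    nlinarith [mul_le_mul_of_nonneg_left hcs (sq_nonneg α)]
  · by_contra hcon
    push Not at hcon
    have hRne : R.Nonempty := by
      rw [Finset.nonempty_iff_ne_empty]
      intro h
      rw [h, Finset.sum_empty] at hmain
      linarith
    have hgt : ∀ χ ∈ R, α < (d χ : ℝ) := by
      intro χ hχ
      obtain ⟨hne, hf⟩ := Finset.mem_erase.1 hχ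
      have h := (Rat.cast_lt (K := ℝ)).2 (hcon χ (fun e => hne (Subtype.ext e))
        ((Char.conjIrr_eq_iff χ).1 (Finset.mem_filter.1 hf).2))
      have hdeg : charDegree (χ : G → ℂ) = d χ := by
        rw [charDegree, hd, Complex.natCast_re, Nat.floor_natCast]
      rw [hdeg] at h
      push_cast at h
      exact h
    have h6 : α * ∑ χ ∈ R, (d χ : ℝ) < ∑ χ ∈ R, (d χ : ℝ) ^ 2 := by
      rw [Finset.mul_sum]
      refine Finset.sum_lt_sum_of_nonempty hRne fun χ hχ => ?_
      have := hgt χ hχ
      nlinarith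
    nlinarith [mul_le_mul_of_nonneg_left hmain hα0.le]

end Cfsg.Agent.S4476
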