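import Cfsg.Statements.S4477
import Cfsg.Agent.Char.UniqueDivisible
import Cfsg.Agent.Char.FS
import Cfsg.Agent.Core.Frattini
-- import your own Cfsg.Agent.* helpers here

set_option autoImplicit false
open Cfsg

namespace Cfsg.Agent.S4477

/-- Let G be a finite 2-group whose number of involutions is congruent to 1 modulo 4. Then G is cyclic or its commutator subgroup has index 4. -/
theorem result {G : Type*} [Group G] [Finite G] (hG : IsPGroup 2 G) (ht : Nat.card {x : G // orderOf x = 2} % 4 = 1) : IsCyclic G ∨ (commutator G).index = 4 := by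
  classical
  have := Fintype.ofFinite G
  have h2 : Fact (Nat.Prime 2) := ⟨Nat.prime_two⟩
  obtain ⟨y, hy⟩ : ∃ y : G, orderOf y = 2 := by
    by_contra! h
    have : IsEmpty {x : G // orderOf x = 2} := ⟨fun x => h x x.2⟩
    rw [Nat.card_of_isEmpty] at ht
    simp at ht
  have hnt : Nontrivial G := ⟨⟨y, 1, fun e => by rw [e, orderOf_one] at hy; exact absurd hy (by norm_num)⟩⟩
  let lin : (G →* ℂˣ) → Cfsg.IrrCharacter G := fun f => ⟨fun g => (f g : ℂ),
    Cfsg.Agent.Char.IsChar.isIrr_of_degree_one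
      (Cfsg.Agent.Char.isLinear_iff.2 ⟨f, rfl⟩).1 (Cfsg.Agent.Char.isLinear_iff.2 ⟨f, rfl⟩).2⟩
  have hlinj : Function.Injective lin := fun f f' e =>
    MonoidHom.ext fun g => Units.ext (congrFun (congrArg Subtype.val e) g)
  have hfinhom : Finite (G →* ℂˣ) := Finite.of_injective lin hlinj
  have hconjv : ∀ (f : G →* ℂˣ) (g : G), (starRingEnd ℂ) (f g : ℂ) = ((f⁻¹ g : ℂˣ) : ℂ) := fun f g => by
    have hn : ‖((f g : ℂˣ) : ℂ)‖ = 1 := Complex.norm_eq_one_of_pow_eq_one
      (n := Nat.card G) (by rw [← Units.val_pow_eq_pow_val, ← map_pow, pow_card_eq_one', map_one,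
        Units.val_one]) Nat.card_pos.ne'
    rw [MonoidHom.inv_apply, Units.val_inv_eq_inv_val]
    refine eq_inv_of_mul_eq_one_left ?_
    rw [Complex.conj_mul', hn]; simp
  let E : Subgroup (G →* ℂˣ) := (powMonoidHom 2).ker
  have hE : ∀ f : G →* ℂˣ, f ∈ E ↔ f * f = 1 := fun f => by
    simp [E, MonoidHom.mem_ker, pow_two]
  have hEp : IsPGroup 2 E := fun f => ⟨1, Subtype.ext (by
    show ((f : G →* ℂˣ)) ^ (2 ^ 1) = 1
    rw [pow_one, pow_two]; exact (hE f).1 f.2)⟩
  have hEg : ∀ f ∈ E, ∀ g : G, f⁻¹ g = f g := fun f hf g => by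
    rw [MonoidHom.inv_apply]
    refine inv_eq_of_mul_eq_one_left ?_
    rw [← MonoidHom.mul_apply, (hE f).1 hf, MonoidHom.one_apply]
  let R := {χ : Cfsg.IrrCharacter G // (χ : G → ℂ) 1 = 2 ∧ Cfsg.Agent.Char.conjIrr χ = χ}
  have hval : ∀ χ : Cfsg.IrrCharacter G, ∃ k : ℤ,
      Cfsg.Agent.Char.fsInd (χ : G → ℂ) * (χ : G → ℂ) 1 = k ∧
      k % 4 = (if (χ : G → ℂ) 1 = 2 ∧ Cfsg.Agent.Char.conjIrr χ = χ then 2 else 0) +
        (if (χ : G → ℂ) 1 = 1 ∧ Cfsg.Agent.Char.conjIrr χ = χ then 1 else 0) := by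
    intro χ
    obtain ⟨d, hd0, hd⟩ := Cfsg.Agent.Char.IsIrr.degree χ.2
    have hd' : Cfsg.charDegree (χ : G → ℂ) = d := Cfsg.Agent.Char.charDegree_eq_natCast hd
    obtain ⟨N, hN⟩ := IsPGroup.iff_card.1 hG
    obtain ⟨j, -, hj⟩ := (Nat.dvd_prime_pow Nat.prime_two).1
      (hN ▸ Cfsg.Agent.Char.IsIrr.degree_dvd_card χ.2 hd)
    rw [hd]
    have h12 : ∀ n : ℕ, ((d : ℂ) = (n : ℂ)) ↔ d = n := fun n => Nat.cast_inj
    rcases Cfsg.Agent.Char.fsInd_irr χ with ⟨hν, hc⟩ | ⟨hν, hc⟩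
    · refine ⟨0, by rw [hν, zero_mul, Int.cast_zero], ?_⟩
      simp [hc]
    · by_cases h1 : d = 1
      · have hν1 : Cfsg.Agent.Char.fsInd (χ : G → ℂ) = 1 := by
          obtain ⟨f, hf⟩ := Cfsg.Agent.Char.IsChar.exists_hom (Cfsg.Agent.Char.IsIrr.isCharacter χ.2)
            (by rw [hd, h1, Nat.cast_one])
          rw [Cfsg.Agent.Char.fsInd, Finset.sum_congr rfl (g := fun _ => (1 : ℂ)) fun s _ => ?_,
            Finset.sum_const, Finset.card_univ, nsmul_eq_mul, mul_one, ← Nat.card_eq_fintype_card,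
            inv_mul_cancel₀ (Nat.cast_ne_zero.2 Nat.card_pos.ne')]
          have h3 : (starRingEnd ℂ) ((χ : G → ℂ) s) = (χ : G → ℂ) s :=
            congrFun (congrArg Subtype.val hc) s
          rw [hf] at h3 ⊢
          simp only [hconjv, MonoidHom.inv_apply] at h3
          show ((f (s * s) : ℂˣ) : ℂ) = 1
          have h4 := Units.ext h3
          rw [map_mul]
          nth_rw 1 [← h4]
          rw [inv_mul_cancel, Units.val_one]
        refine ⟨1, by rw [hν1, h1]; simp, ?_⟩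
        simp [hc, h1]
      · have h2d : 2 ∣ d := by
          rcases j with _ | j
          · exact absurd hj h1
          · exact hj ▸ dvd_pow_self 2 (Nat.succ_ne_zero j)
        have hz : ∃ k : ℤ, Cfsg.Agent.Char.fsInd (χ : G → ℂ) * (d : ℂ) = k ∧ (k = d ∨ k = -(d : ℤ)) := by
          rcases hν with h | h <;> rw [h]
          · exact ⟨d, by simp, Or.inl rfl⟩
          · exact ⟨-(d : ℤ), by simp, Or.inr rfl⟩
        obtain ⟨k, hk, hk'⟩ := hz
        refine ⟨k, hk, ?_⟩
        have e1 : ¬ ((d : ℂ) = 1) := by exact_mod_cast h1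
        rw [if_neg (show ¬((d : ℂ) = 1 ∧ _) from fun h => e1 h.1), add_zero]
        by_cases h22 : d = 2
        · rw [if_pos ⟨by rw [h22]; norm_num, hc⟩]
          omega
        · have e2 : ¬ ((d : ℂ) = 2) := by exact_mod_cast h22
          rw [if_neg (fun h => e2 h.1)]
          rcases j with _ | _ | j
          · exact absurd hj h1
          · exact absurd hj h22
          · have : 4 ∣ d := hj ▸ ⟨2 ^ j, by rw [pow_succ, pow_succ]; ring⟩
            omega
  choose k hk1 hk2 using hval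
  have hcount : (Nat.card {s : G // s * s = 1} : ℤ) = ∑ χ, k χ := by
    have h := Cfsg.Agent.Char.card_sqrt_eq_sum (G := G) 1
    rw [Finset.sum_congr rfl fun χ _ => hk1 χ, ← Int.cast_sum] at h
    exact_mod_cast h
  have hsq : Nat.card {s : G // s * s = 1} = Nat.card {x : G // orderOf x = 2} + 1 := by
    rw [Nat.card_eq_fintype_card, Nat.card_eq_fintype_card, Fintype.card_subtype, Fintype.card_subtype,
      ← Finset.card_insert_of_notMem (s := Finset.univ.filter fun x : G => orderOf x = 2) (a := 1) (by simp)]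
    congr 1
    ext x
    simp only [Finset.mem_insert, Finset.mem_filter, Finset.mem_univ, true_and]
    refine ⟨fun h => ?_, ?_⟩
    · rw [← pow_two] at h
      exact or_iff_not_imp_left.2 fun h1 => orderOf_eq_prime h h1
    · rintro (rfl | h)
      · simp
      · rw [← pow_two, ← h]; exact pow_orderOf_eq_one x
  have hlincard : Nat.card {χ : Cfsg.IrrCharacter G // (χ : G → ℂ) 1 = 1 ∧
      Cfsg.Agent.Char.conjIrr χ = χ} = Nat.card E := by
    refine (Nat.card_eq_of_bijective (fun f : E => (⟨lin f, by simp [lin], ?_⟩ :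
      {χ : Cfsg.IrrCharacter G // (χ : G → ℂ) 1 = 1 ∧ Cfsg.Agent.Char.conjIrr χ = χ})) ⟨?_, ?_⟩).symm
    · refine Subtype.ext (funext fun g => ?_)
      show (starRingEnd ℂ) ((f : G →* ℂˣ) g : ℂ) = _
      rw [hconjv, hEg f f.2 g]
    · exact fun f f' e => Subtype.ext (hlinj (congrArg Subtype.val e))
    · rintro ⟨χ, h1, hc⟩
      obtain ⟨f, hf⟩ := Cfsg.Agent.Char.IsChar.exists_hom (Cfsg.Agent.Char.IsIrr.isCharacter χ.2) h1
      refine ⟨⟨f, (hE f).2 ?_⟩, Subtype.ext (Subtype.ext hf.symm)⟩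
      refine MonoidHom.ext fun g => ?_
      have h3 : (starRingEnd ℂ) ((χ : G → ℂ) g) = (χ : G → ℂ) g := congrFun (congrArg Subtype.val hc) g
      simp only [hf, hconjv] at h3
      rw [MonoidHom.mul_apply]
      nth_rw 1 [← Units.ext h3]
      simp
  have hmod : ((Nat.card E : ℤ) + 2 * Nat.card R) % 4 = 2 := by
    have h := congrArg (fun z : ℤ => z % 4) hcount
    simp only [hsq, Finset.sum_int_mod _ 4, Finset.sum_congr rfl fun χ _ => hk2 χ, Finset.sum_add_distrib,
      ← Finset.sum_filter, Finset.sum_const, Int.nsmul_eq_mul, mul_one, ← Fintype.card_subtype,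
      ← Nat.card_eq_fintype_card, hlincard, Nat.cast_add, Nat.cast_one] at h
    change _ = ((Nat.card R : ℤ) * 2 + (Nat.card E : ℤ)) % 4 at h
    omega
  -- the exponent two linear characters
  obtain ⟨d, hd⟩ := IsPGroup.iff_card.1 hEp
  rcases d with _ | _ | d
  · rw [hd, pow_zero] at hmod; omega
  · left
    have := hG.isNilpotent
    have hmax : ∀ M : Subgroup G, IsCoatom M → ∃ f : G →* ℂˣ, f ∈ E ∧ f.ker = M := by
      intro M hM
      have hn := Cfsg.Agent.Core.normal_of_isCoatom hM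
      have hi : M.index = 2 := by
        obtain ⟨j, hj⟩ := hG.index M
        have hpr := Cfsg.Agent.Core.prime_index_of_isCoatom_normal hM
        rw [hj] at hpr ⊢
        rw [(Nat.Prime.pow_eq_iff hpr).1 rfl |>.2, pow_one]
      have hcyc : IsCyclic (G ⧸ M) := isCyclic_of_prime_card (p := 2) (by rw [← Subgroup.index_eq_card, hi])
      letI : CommGroup (G ⧸ M) := IsCyclic.commGroup
      obtain ⟨x, -, hx⟩ := SetLike.exists_of_lt hM.lt_top
      obtain ⟨χ, hχ⟩ := CommGroup.exists_apply_ne_one_of_hasEnoughRootsOfUnity (G ⧸ M) ℂ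
        (a := (x : G ⧸ M)) (fun e => hx ((QuotientGroup.eq_one_iff x).1 e))
      refine ⟨χ.comp (QuotientGroup.mk' M), (hE _).2 (MonoidHom.ext fun g => ?_), ?_⟩
      · show χ _ * χ _ = 1
        rw [← map_mul, ← pow_two, show (QuotientGroup.mk' M g) ^ 2 = 1 from
          hi ▸ by rw [Subgroup.index_eq_card]; exact pow_card_eq_one', map_one]
      · refine ((lt_or_eq_of_le (?_ : M ≤ (χ.comp (QuotientGroup.mk' M)).ker)).resolve_left fun hlt => ?_).symm
        · intro g hg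
          show χ (QuotientGroup.mk' M g) = 1
          rw [show QuotientGroup.mk' M g = 1 from (QuotientGroup.eq_one_iff g).2 hg, map_one]
        · exact hχ (MonoidHom.mem_ker.1 ((hM.2 _ hlt) ▸ Subgroup.mem_top x :
            x ∈ (χ.comp (QuotientGroup.mk' M)).ker))
    have huniq : ∀ M M' : Subgroup G, IsCoatom M → IsCoatom M' → M = M' := by
      intro M M' hM hM'
      obtain ⟨f, hf, rfl⟩ := hmax M hM
      obtain ⟨f', hf', rfl⟩ := hmax M' hM'
      have h1 : ∀ g ∈ E, g = 1 ∨ g = f := by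
        intro g hg
        by_contra hne
        push Not at hne
        have hf1 : f ≠ 1 := fun e => hM.1 (by rw [e, MonoidHom.ker_one])
        have h3 : Nat.card E = 2 := by rw [hd]; norm_num
        rw [Nat.card_eq_two_iff' (⟨1, E.one_mem⟩ : E)] at h3
        obtain ⟨z, -, hz⟩ := h3
        exact hne.2 (congrArg Subtype.val ((hz ⟨g, hg⟩ (fun e => hne.1 (congrArg Subtype.val e))).trans
          (hz ⟨f, hf⟩ (fun e => hf1 (congrArg Subtype.val e))).symm))
      rcases h1 f' hf' with h | h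
      · exact absurd (by rw [h, MonoidHom.ker_one]) hM'.1
      · rw [h]
    obtain ⟨M, hM, -⟩ := (IsCoatomic.eq_top_or_exists_le_coatom (⊥ : Subgroup G)).resolve_left bot_ne_top
    obtain ⟨x, -, hx⟩ := SetLike.exists_of_lt hM.lt_top
    refine isCyclic_iff_exists_zpowers_eq_top.2 ⟨x, ?_⟩
    refine (IsCoatomic.eq_top_or_exists_le_coatom (Subgroup.zpowers x)).resolve_right fun ⟨M', hM', hle⟩ => ?_
    exact hx (huniq M' M hM' hM ▸ hle (Subgroup.mem_zpowers x))
  right
  have hE4 : 4 ≤ Nat.card E := by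
    rw [hd, pow_succ, pow_succ]
    have := Nat.one_le_two_pow (n := d)
    omega
  have hRodd : ¬ 2 ∣ Nat.card R := by
    intro hh
    have h4 : 4 ∣ Nat.card E := by rw [hd, pow_succ, pow_succ]; exact ⟨2 ^ d, by ring⟩
    omega
  have hmul : ∀ (f : G →* ℂˣ), f ∈ E → ∀ χ : R,
      ((⟨_, Cfsg.Agent.Char.isIrr_mul_hom χ.1.2 f⟩ : Cfsg.IrrCharacter G) : G → ℂ) 1 = 2 ∧
      Cfsg.Agent.Char.conjIrr (⟨_, Cfsg.Agent.Char.isIrr_mul_hom χ.1.2 f⟩ : Cfsg.IrrCharacter G) =
        ⟨_, Cfsg.Agent.Char.isIrr_mul_hom χ.1.2 f⟩ := by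
    intro f hf χ
    refine ⟨by simp [χ.2.1], Subtype.ext (funext fun g => ?_)⟩
    show (starRingEnd ℂ) ((χ.1 : G → ℂ) g * (f g : ℂ)) = _
    rw [map_mul, hconjv, hEg f hf g,
      show (starRingEnd ℂ) ((χ.1 : G → ℂ) g) = (χ.1 : G → ℂ) g from
        congrFun (congrArg Subtype.val χ.2.2) g]
  letI act : MulAction E R :=
    { smul := fun f χ => ⟨⟨_, Cfsg.Agent.Char.isIrr_mul_hom χ.1.2 (f : G →* ℂˣ)⟩, hmul f f.2 χ⟩
      one_smul := fun χ => Subtype.ext (Subtype.ext (funext fun g => by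
        show (χ.1 : G → ℂ) g * (((1 : G →* ℂˣ) g : ℂˣ) : ℂ) = _
        simp))
      mul_smul := fun f f' χ => Subtype.ext (Subtype.ext (funext fun g => by
        show (χ.1 : G → ℂ) g * ((((f : G →* ℂˣ) * (f' : G →* ℂˣ)) g : ℂˣ) : ℂ) =
          (χ.1 : G → ℂ) g * (((f' : G →* ℂˣ) g : ℂˣ) : ℂ) * (((f : G →* ℂˣ) g : ℂˣ) : ℂ)
        simp; ring)) }
  have hFodd : ¬ 2 ∣ Nat.card (MulAction.fixedPoints E R) := fun h =>
    hRodd (((hEp.card_modEq_card_fixedPoints R).dvd_iff (dvd_refl 2)).2 h)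
  have hfix : ∀ χ : MulAction.fixedPoints E R, ∀ f ∈ E, ∀ g : G,
      (χ.1.1 : G → ℂ) g * (f g : ℂ) = (χ.1.1 : G → ℂ) g := fun χ f hf g =>
    congrFun (congrArg (fun z : R => (z.1 : G → ℂ)) (χ.2 ⟨f, hf⟩)) g
  have hinner : ∀ (χ : R) (f : G →* ℂˣ), (∀ g : G, (χ.1 : G → ℂ) g * (f g : ℂ) = (χ.1 : G → ℂ) g) →
      Cfsg.classInner ((χ.1 : G → ℂ) * (χ.1 : G → ℂ)) (lin f : G → ℂ) = 1 := by
    intro χ f hf
    rw [← Cfsg.Agent.Char.classInner_irr_self χ.1.2]
    simp only [Cfsg.classInner, Pi.mul_apply]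
    congr 1
    refine Finset.sum_congr rfl fun g _ => ?_
    show _ * (starRingEnd ℂ) (f g : ℂ) = _
    have h3 : (starRingEnd ℂ) ((χ.1 : G → ℂ) g) = (χ.1 : G → ℂ) g :=
      congrFun (congrArg Subtype.val χ.2.2) g
    have h4 : ((f g : ℂˣ) : ℂ) * ((f⁻¹ g : ℂˣ) : ℂ) = 1 := by
      rw [MonoidHom.inv_apply, ← Units.val_mul, mul_inv_cancel, Units.val_one]
    have h6 : (χ.1 : G → ℂ) g * ((f⁻¹ g : ℂˣ) : ℂ) = (χ.1 : G → ℂ) g := by
      conv_lhs => rw [← hf g, mul_assoc, h4, mul_one]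
    rw [hconjv, mul_assoc, h6, h3]
  have hbound : ∀ (χ : R) (T : Finset (G →* ℂˣ)),
      (∀ f ∈ T, ∀ g : G, (χ.1 : G → ℂ) g * (f g : ℂ) = (χ.1 : G → ℂ) g) → T.card ≤ 4 := by
    intro χ T hT
    have hP := Cfsg.Agent.Char.isCharacter_mul (Cfsg.Agent.Char.IsIrr.isCharacter χ.1.2)
      (Cfsg.Agent.Char.IsIrr.isCharacter χ.1.2)
    have hexp := congrFun (Cfsg.Agent.Char.classFun_expansion
      (Cfsg.Agent.Char.isClassFunction_of_isCharacter hP)) 1
    simp only [Finset.sum_apply, Pi.smul_apply, smul_eq_mul] at hexp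
    have hr := congrArg Complex.re hexp
    rw [Complex.re_sum] at hr
    have hl : (((χ.1 : G → ℂ) * (χ.1 : G → ℂ)) 1).re = 4 := by
      rw [Pi.mul_apply, χ.2.1]; norm_num
    rw [hl] at hr
    have hge : ∀ ψ : Cfsg.IrrCharacter G,
        0 ≤ (Cfsg.classInner ((χ.1 : G → ℂ) * (χ.1 : G → ℂ)) (ψ : G → ℂ) * (ψ : G → ℂ) 1).re := by
      intro ψ
      obtain ⟨a, ha⟩ := Cfsg.Agent.Char.classInner_isCharacter_eq_natCast hP
        (Cfsg.Agent.Char.IsIrr.isCharacter ψ.2)
      obtain ⟨b, -, hb⟩ := Cfsg.Agent.Char.IsIrr.degree ψ.2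
      rw [ha, hb, ← Nat.cast_mul, Complex.natCast_re]
      exact Nat.cast_nonneg _
    have h6 : (T.card : ℝ) ≤ 4 := by
      rw [hr]
      calc (T.card : ℝ) = ∑ ψ ∈ T.image lin,
            (Cfsg.classInner ((χ.1 : G → ℂ) * (χ.1 : G → ℂ)) (ψ : G → ℂ) * (ψ : G → ℂ) 1).re := by
            rw [Finset.sum_congr rfl (g := fun _ => (1 : ℝ)) fun ψ hψ => ?_, Finset.sum_const,
              nsmul_eq_mul, mul_one, Finset.card_image_of_injective _ hlinj]
            obtain ⟨f, hf, rfl⟩ := Finset.mem_image.1 hψ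
            rw [hinner χ f (hT f hf)]
            simp [lin]
        _ ≤ _ := Finset.sum_le_sum_of_subset_of_nonneg (Finset.subset_univ _) fun ψ _ _ => hge ψ
    exact_mod_cast h6
  have := Fintype.ofFinite E
  obtain ⟨χ₀⟩ : Nonempty (MulAction.fixedPoints E R) := Finite.card_pos_iff.1 (Nat.pos_of_ne_zero fun h =>
    hFodd (h ▸ dvd_zero 2))
  have hET : ∀ f, f ∈ (Finset.univ.image (Subtype.val : E → (G →* ℂˣ))) → f ∈ E := fun f hf => by
    obtain ⟨z, -, rfl⟩ := Finset.mem_image.1 hf; exact z.2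
  have hTcard : (Finset.univ.image (Subtype.val : E → (G →* ℂˣ))).card = Nat.card E := by
    rw [Finset.card_image_of_injective _ Subtype.val_injective, Finset.card_univ, Nat.card_eq_fintype_card]
  have hEeq : Nat.card E = 4 := le_antisymm
    (hTcard ▸ hbound χ₀.1 _ (fun f hf => hfix χ₀ f (hET f hf))) hE4
  -- no linear character of order four
  have h4 : ∀ f : G →* ℂˣ, f * f ∈ E → f ∈ E := by
    intro f hf
    by_contra hfE
    have hinv : f⁻¹ * (f * f) = f := inv_mul_cancel_left f f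
    have hconjf : ∀ (χ : MulAction.fixedPoints E R) (g : G),
        (χ.1.1 : G → ℂ) g * ((f⁻¹ g : ℂˣ) : ℂ) = (χ.1.1 : G → ℂ) g * (f g : ℂ) := by
      intro χ g
      have := hfix χ (f * f) hf g
      conv_lhs => rw [← this]
      rw [mul_assoc, ← Units.val_mul, MonoidHom.mul_apply, MonoidHom.inv_apply, mul_inv_cancel_right]
    let τ : MulAction.fixedPoints E R → MulAction.fixedPoints E R := fun χ =>
      ⟨⟨⟨_, Cfsg.Agent.Char.isIrr_mul_hom χ.1.1.2 f⟩, by
          refine ⟨by simp [χ.1.2.1], Subtype.ext (funext fun g => ?_)⟩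
          show (starRingEnd ℂ) ((χ.1.1 : G → ℂ) g * (f g : ℂ)) = _
          rw [map_mul, hconjv, show (starRingEnd ℂ) ((χ.1.1 : G → ℂ) g) = (χ.1.1 : G → ℂ) g from
            congrFun (congrArg Subtype.val χ.1.2.2) g]
          exact hconjf χ g⟩, fun e => Subtype.ext (Subtype.ext (funext fun g => by
          show (χ.1.1 : G → ℂ) g * (f g : ℂ) * (((e : G →* ℂˣ) g : ℂˣ) : ℂ) = _
          rw [mul_right_comm, hfix χ e e.2 g]))⟩
    have hττ : Function.Involutive τ := fun χ => Subtype.ext (Subtype.ext (Subtype.ext (funext fun g => by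
      show (χ.1.1 : G → ℂ) g * (f g : ℂ) * (f g : ℂ) = _
      rw [mul_assoc, ← Units.val_mul, ← MonoidHom.mul_apply]
      exact hfix χ _ hf g)))
    let σ : Equiv.Perm (MulAction.fixedPoints E R) := hττ.toPerm τ
    have hnofix : ∀ χ, τ χ ≠ χ := by
      intro χ hχ
      have hcf : ∀ g : G, (χ.1.1 : G → ℂ) g * (f g : ℂ) = (χ.1.1 : G → ℂ) g := fun g =>
        congrFun (congrArg (fun z : MulAction.fixedPoints E R => (z.1.1 : G → ℂ)) hχ) g
      have := hbound χ.1 (insert f (Finset.univ.image (Subtype.val : E → (G →* ℂˣ)))) (fun f' hf' => by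
        rcases Finset.mem_insert.1 hf' with rfl | h
        · exact hcf
        · exact hfix χ f' (hET f' h))
      rw [Finset.card_insert_of_notMem (fun h => hfE (hET f h)), hTcard, hEeq] at this
      omega
    have hsupp : σ.support = Finset.univ := Finset.eq_univ_of_forall fun χ =>
      Equiv.Perm.mem_support.2 (hnofix χ)
    have h2pow : σ ^ 2 = 1 := Equiv.ext fun χ => hττ χ
    have h6 := Equiv.Perm.sum_cycleType σ
    rw [hsupp, Finset.card_univ, ← Nat.card_eq_fintype_card] at h6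
    refine hFodd ?_
    rw [← h6]
    refine Multiset.dvd_sum fun n hn => ?_
    have h9 : orderOf σ ∣ 2 := orderOf_dvd_of_pow_eq_one h2pow
    rcases (Nat.dvd_prime Nat.prime_two).1 ((Equiv.Perm.dvd_of_mem_cycleType hn).trans h9) with h | h
    · have h8 := Equiv.Perm.two_le_of_mem_cycleType hn
      omega
    · rw [h]
  have hall : ∀ f : G →* ℂˣ, f ∈ E := by
    intro f
    obtain ⟨N, hN⟩ := IsPGroup.iff_card.1 hG
    have hpow : ∀ (n : ℕ) (f : G →* ℂˣ), f ^ (2 ^ n) = 1 → f ∈ E := by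
      intro n
      induction n with
      | zero => intro f hf; rw [pow_zero, pow_one] at hf; rw [hf]; exact E.one_mem
      | succ n ih =>
        intro f hf
        refine h4 f (ih _ ?_)
        refine MonoidHom.ext fun g => ?_
        rw [MonoidHom.pow_apply, MonoidHom.mul_apply, ← pow_two, ← pow_mul, ← pow_succ',
          ← MonoidHom.pow_apply, hf]
    refine hpow N f (MonoidHom.ext fun g => ?_)
    rw [MonoidHom.pow_apply, ← map_pow, ← hN, pow_card_eq_one', map_one, MonoidHom.one_apply]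
  rw [← Cfsg.Agent.Char.card_linear, ← hEeq]
  refine (Nat.card_eq_of_bijective (fun f : E => (⟨lin f, by simp [lin]⟩ :
    {χ : Cfsg.IrrCharacter G // (χ : G → ℂ) 1 = 1})) ⟨?_, ?_⟩).symm
  · exact fun f f' e => Subtype.ext (hlinj (congrArg Subtype.val e))
  · rintro ⟨χ, h1⟩
    obtain ⟨f, hf⟩ := Cfsg.Agent.Char.IsChar.exists_hom (Cfsg.Agent.Char.IsIrr.isCharacter χ.2) h1
    exact ⟨⟨f, hall f⟩, Subtype.ext (Subtype.ext hf.symm)⟩

end Cfsg.Agent.S4477
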