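import Mathlib
import Cfsg.Statements.S4481
import Cfsg.Agent.BlockThms.Dihedral.Principal

set_option autoImplicit false
open Cfsg

namespace Cfsg.Agent.S4481

open DihedralGroup Cfsg.Agent Cfsg.Agent.Invol Cfsg.Agent.BlockThms.Dihedral


/-- The principal 2-block of a group with dihedral Sylow 2-subgroups. Let G be a finite group whose Sylow 2-subgroup P is dihedral of order 2^n ≥ 8, let σ be an element of P of order 2^(n−1), ζ a primitive 2^(n−1)-th root of unity, and M a maximal ideal of the algebraic integers containing 2. Then the principal 2-block consists of exactly 3 + 2^(n−2) irreducible characters, which can be labelled 1, χ₁, χ₂, χ₃ and χ^(j) for 1 ≤ j ≤ 2^(n−2) − 1 (all distinct), with signs δ₁, δ₂, δ₃ such that for 0 < λ < 2^(n−1): χ₁(σ^λ) = δ₁, χ₂(σ^λ) = δ₂(−1)^(λ+1), χ₃(σ^λ) = δ₃(−1)^(λ+1) and χ^(j)(σ^λ) = δ₁(ζ^(jλ) + ζ^(−jλ)); and for every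 element ρ of odd order and every j: 1 + δ₁χ₁(ρ) = −δ₂χ₂(ρ) − δ₃χ₃(ρ) = δ₁χ^(j)(ρ). -/
theorem result {G : Type*} [Group G] [Finite G] (M : Ideal Cfsg.AlgInt) (hM : Cfsg.IsPModular 2 M) (n : ℕ) (hn : 3 ≤ n) (P : Sylow 2 G) (hP : Nonempty ((P : Subgroup G) ≃* DihedralGroup (2 ^ (n - 1)))) (σ : G) (hσ : σ ∈ (P : Subgroup G)) (hσo : orderOf σ = 2 ^ (n - 1)) (ζ : ℂ) (hζ : IsPrimitiveRoot ζ (2 ^ (n - 1))) : Nat.card (Cfsg.principalBlock M G) = 3 + 2 ^ (n - 2) ∧ ∃ (χ₁ χ₂ χ₃ : Cfsg.IrrCharacter G) (χ' : Fin (2 ^ (n - 2) - 1) → Cfsg.IrrCharacter G) (δ₁ δ₂ δ₃ : ℤ), (δ₁ = 1 ∨ δ₁ = -1) ∧ (δ₂ = 1 ∨ δ₂ = -1) ∧ (δ₃ = 1 ∨ δ₃ = -1) ∧ Function.Injective χ' ∧ (χ₁ : G → ℂ) ≠ (fun _ => 1) ∧ (χ₂ : G → ℂ) ≠ (fun _ => 1) ∧ (χ₃ : G → ℂ) ≠ (fun _ => 1) ∧ χ₁ ≠ χ₂ ∧ χ₁ ≠ χ₃ ∧ χ₂ ≠ χ₃ ∧ (∀ j, χ' j ≠ χ₁ ∧ χ' j ≠ χ₂ ∧ χ' j ≠ χ₃ ∧ (χ' j : G → ℂ) ≠ (fun _ => 1)) ∧ Cfsg.principalBlock M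 G = {χ : Cfsg.IrrCharacter G | (χ : G → ℂ) = (fun _ => 1) ∨ χ = χ₁ ∨ χ = χ₂ ∨ χ = χ₃ ∨ ∃ j, χ = χ' j} ∧ (∀ l : ℕ, 0 < l → l < 2 ^ (n - 1) → (χ₁ : G → ℂ) (σ ^ l) = δ₁ ∧ (χ₂ : G → ℂ) (σ ^ l) = δ₂ * (-1) ^ (l + 1) ∧ (χ₃ : G → ℂ) (σ ^ l) = δ₃ * (-1) ^ (l + 1) ∧ ∀ j : Fin (2 ^ (n - 2) - 1), (χ' j : G → ℂ) (σ ^ l) = δ₁ * (ζ ^ (((j : ℕ) + 1) * l) + (ζ ^ (((j : ℕ) + 1) * l))⁻¹)) ∧ ∀ ρ : G, Odd (orderOf ρ) → ∀ j : Fin (2 ^ (n - 2) - 1), 1 + δ₁ * (χ₁ : G → ℂ) ρ = -δ₂ * (χ₂ : G → ℂ) ρ - δ₃ * (χ₃ : G → ℂ) ρ ∧ 1 + δ₁ * (χ₁ : G → ℂ) ρ = δ₁ * (χ' j : G → ℂ) ρ := by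
  classical
  have := Fintype.ofFinite G
  obtain ⟨k, rfl⟩ : ∃ k, n = k + 1 := ⟨n - 1, by omega⟩
  have hk : 2 ≤ k := by omega
  rw [show k + 1 - 2 = k - 1 by omega]
  simp only [Nat.add_sub_cancel] at hP hσo hζ ⊢
  obtain ⟨eP⟩ := hP
  -- generators
  obtain ⟨a, ha⟩ : ∃ a, eP ⟨σ, hσ⟩ = r a := by
    rcases hd : eP ⟨σ, hσ⟩ with a | a
    · exact ⟨a, rfl⟩
    · exfalso
      have h1 := MulEquiv.orderOf_eq eP ⟨σ, hσ⟩
      rw [hd, DihedralGroup.orderOf_sr, Subgroup.orderOf_mk, hσo] at h1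
      have : 2 ^ 2 ≤ 2 ^ k := Nat.pow_le_pow_right (by norm_num) hk
      omega
  set τp := eP.symm (sr 0) with hτp
  have hrel' : τp * ⟨σ, hσ⟩ * τp⁻¹ = (⟨σ, hσ⟩ : (P : Subgroup G))⁻¹ := eP.injective (by
    rw [map_mul, map_mul, map_inv, map_inv, hτp, MulEquiv.apply_symm_apply, ha, sr_mul_r, inv_sr,
      sr_mul_sr, inv_r]
    congr 1
    ring)
  have hτo : orderOf (τp : G) = 2 := by
    rw [Subgroup.orderOf_coe, hτp, MulEquiv.orderOf_eq, DihedralGroup.orderOf_sr]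
  have hrange : ∀ ι : DihedralGroup (2 ^ k) →* G, Function.Injective ι → ι (r 1) = σ →
      ι (sr 0) = τp → (P : Subgroup G) ≤ ι.range := by
    intro ι hinj h1 h0
    have hle : ι.range ≤ (P : Subgroup G) := by
      rintro _ ⟨d, rfl⟩
      have hr : ∀ i : ZMod (2 ^ k), ι (r i) ∈ (P : Subgroup G) := fun i => by
        rw [← ZMod.natCast_zmod_val i, ← r_one_pow, map_pow, h1]
        exact pow_mem hσ _
      rcases d with i | i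
      · exact hr i
      · rw [show (sr i : DihedralGroup (2 ^ k)) = sr 0 * r i by rw [sr_mul_r, zero_add], map_mul, h0]
        exact mul_mem τp.2 (hr i)
    refine (Subgroup.eq_of_le_of_card_ge hle ?_).ge
    rw [Nat.card_congr eP.toEquiv]
    exact (Nat.card_congr (MonoidHom.ofInjective hinj).toEquiv).le
  obtain ⟨ι, D, hι1, -⟩ := ddata_of_gen hk hσ τp.2 hσo hτo
    (by simpa using congrArg Subtype.val hrel') hrange
  obtain ⟨π, h⟩ := exists_proj D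
  let e : AddChar (ZMod (2 ^ k)) ℂ := AddChar.zmodChar (2 ^ k) hζ.pow_eq_one
  have he : e.IsPrimitive := AddChar.zmodChar_primitive_of_primitive_root _ hζ
  obtain ⟨χ₁, χ₂, χ₃, η, δ₁, δ₂, δ₃, L⟩ := exists_labels h D hk he
  have hne1 : ∀ χ : IrrCharacter G, χ ≠ Blocks.triv G → (χ : G → ℂ) ≠ fun _ => 1 :=
    fun χ hχ h' => hχ (Subtype.ext h')
  set N := 2 ^ (k - 1) with hN
  have hN1 : 1 ≤ N := Nat.one_le_two_pow
  have h2N : 2 ^ k = 2 * N := by rw [hN, ← pow_succ']; congr 1; omega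
  let χ' : Fin (N - 1) → IrrCharacter G := fun j => η (((j : ℕ) + 1 : ℕ) : ZMod (2 ^ k))
  have hg : ∀ j : Fin (N - 1), Good ((((j : ℕ) + 1 : ℕ)) : ZMod (2 ^ k)) := fun j =>
    good_natCast (by omega) (by have := j.2; omega)
  have hinj : Function.Injective χ' := by
    intro i j hij
    have hi := i.2
    have hj := j.2
    rcases L.eta_eq _ _ (hg i) (hg j) hij with h' | h'
    · have := natCast_eq_imp (by omega) (by omega) h'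
      exact Fin.ext (by omega)
    · exact absurd h' (natCast_ne_neg (by omega) (by omega))
  have hall : ∀ a, Good a → ∃ j, η a = χ' j := by
    intro a ha
    have hv := a.val_lt
    have hva : ((a.val : ℕ) : ZMod (2 ^ k)) = a := ZMod.natCast_zmod_val a
    have h0 : a.val ≠ 0 := fun h' => ha.1 (by rw [← hva, h', Nat.cast_zero])
    have hne : a.val ≠ N := fun h' => ha.2 (by rw [← hva, h', hN, natCast_dh])
    rcases Nat.lt_or_ge a.val N with hlt | hge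
    · refine ⟨⟨a.val - 1, by omega⟩, ?_⟩
      show η a = η _
      congr 1
      show a = (((a.val - 1) + 1 : ℕ) : ZMod (2 ^ k))
      rw [Nat.sub_add_cancel (by omega), hva]
    · refine ⟨⟨2 ^ k - a.val - 1, by omega⟩, ?_⟩
      show η a = η (((2 ^ k - a.val - 1) + 1 : ℕ) : ZMod (2 ^ k))
      rw [Nat.sub_add_cancel (by omega), Nat.cast_sub hv.le, ZMod.natCast_self, hva, zero_sub,
        L.eta_neg a ha]
  have hset : Cfsg.principalBlock M G = {χ : Cfsg.IrrCharacter G | (χ : G → ℂ) = (fun _ => 1) ∨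
      χ = χ₁ ∨ χ = χ₂ ∨ χ = χ₃ ∨ ∃ j, χ = χ' j} := by
    ext χ
    constructor
    · intro hχ
      rcases L.exhaust h D hM he hk hχ with h' | h' | h' | h' | ⟨a, ha, h'⟩
      · exact Or.inl (by rw [h']; rfl)
      · exact Or.inr (Or.inl h')
      · exact Or.inr (Or.inr (Or.inl h'))
      · exact Or.inr (Or.inr (Or.inr (Or.inl h')))
      · obtain ⟨j, hj⟩ := hall a ha
        exact Or.inr (Or.inr (Or.inr (Or.inr ⟨j, h'.trans hj⟩)))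
    · rintro (h' | rfl | rfl | rfl | ⟨j, rfl⟩)
      · rw [show χ = Blocks.triv G from Subtype.ext h']
        exact Blocks.triv_mem_principalBlock hM
      exacts [L.mem₁ h D hM, L.mem₂ h D hM, L.mem₃ h D hM, L.mem_eta h D hM (hg j)]
  refine ⟨?_, χ₁, χ₂, χ₃, χ', δ₁, δ₂, δ₃, L.sign₁, L.sign₂, L.sign₃, hinj, hne1 _ L.ne_one₁,
    hne1 _ L.ne_one₂, hne1 _ L.ne_one₃, L.ne₁₂, L.ne₁₃, L.ne₂₃, fun j => ⟨(L.eta_ne _ (hg j)).1,
      (L.eta_ne _ (hg j)).2.1, (L.eta_ne _ (hg j)).2.2.1, hne1 _ (L.eta_ne _ (hg j)).2.2.2⟩,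
    hset, ?_, fun ρ hρ j => ⟨(L.odd_relations h D he hρ).1, (L.odd_relations h D he hρ).2 _ (hg j)⟩⟩
  · have hrng : Cfsg.principalBlock M G =
        Set.range (Sum.elim ![Blocks.triv G, χ₁, χ₂, χ₃] χ') := by
      rw [hset]
      ext χ
      constructor
      · rintro (h' | rfl | rfl | rfl | ⟨j, rfl⟩)
        exacts [⟨Sum.inl 0, (Subtype.ext h').symm⟩, ⟨Sum.inl 1, rfl⟩, ⟨Sum.inl 2, rfl⟩,
          ⟨Sum.inl 3, rfl⟩, ⟨Sum.inr j, rfl⟩]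
      · rintro ⟨(i | j), rfl⟩
        · fin_cases i
          exacts [Or.inl rfl, Or.inr (Or.inl rfl), Or.inr (Or.inr (Or.inl rfl)),
            Or.inr (Or.inr (Or.inr (Or.inl rfl)))]
        · exact Or.inr (Or.inr (Or.inr (Or.inr ⟨j, rfl⟩)))
    have h4 : Function.Injective ![Blocks.triv G, χ₁, χ₂, χ₃] := by
      intro i j hij
      fin_cases i <;> fin_cases j <;>
        simp [L.ne_one₁, L.ne_one₂, L.ne_one₃, L.ne_one₁.symm, L.ne_one₂.symm, L.ne_one₃.symm,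
          L.ne₁₂, L.ne₁₃, L.ne₂₃, L.ne₁₂.symm, L.ne₁₃.symm, L.ne₂₃.symm] at hij ⊢
    have hdisj : ∀ i j, ![Blocks.triv G, χ₁, χ₂, χ₃] i ≠ χ' j := by
      intro i j
      obtain ⟨e1, e2, e3, e4⟩ := L.eta_ne _ (hg j)
      fin_cases i
      exacts [e4.symm, e1.symm, e2.symm, e3.symm]
    rw [hrng, Nat.card_range_of_injective (h4.sumElim hinj hdisj), Nat.card_sum, Nat.card_fin,
      Nat.card_fin]
    omega
  intro l hl0 hl
  have hs : (l : ZMod (2 ^ k)) ≠ 0 := fun h' => by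
    have := natCast_eq_imp hl (pow_pos two_pos k) (h'.trans Nat.cast_zero.symm)
    omega
  have hσl : σ ^ l = ι (r (l : ZMod (2 ^ k))) := by rw [← hι1, map_natCast_rotation]
  have hecast : ∀ m : ℕ, e (m : ZMod (2 ^ k)) = ζ ^ m := fun m => AddChar.zmodChar_apply' _ m
  have hneg1 : ζ ^ N = -1 := IsPrimitiveRoot.eq_neg_one_of_two_right
    (hζ.pow (pow_pos two_pos k) (by rw [h2N]; ring))
  have hdh : e (dh k * (l : ZMod (2 ^ k))) = (-1) ^ l := by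
    rw [← natCast_dh, ← Nat.cast_mul, hecast, pow_mul, ← hN, hneg1]
  obtain ⟨v2, v3⟩ := L.value₂₃ h D hM he hs
  rw [hσl]
  refine ⟨L.value₁ h D hM he hs, ?_, ?_, fun j => ?_⟩
  · rw [v2, hdh, pow_succ]; ring
  · rw [v3, hdh, pow_succ]; ring
  · show (η _ : G → ℂ) _ = _
    rw [L.value_eta h D hM he (hg j) hs, AddChar.map_neg_eq_inv, ← Nat.cast_mul, hecast]

end Cfsg.Agent.S4481
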