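import Cfsg.Statements.S4483
import Cfsg.Agent.BlockChar.ConjBlock
import Cfsg.Agent.BlockChar.RegInner
-- import your own Cfsg.Agent.* helpers here

set_option autoImplicit false
open Cfsg

namespace Cfsg.Agent.S4483

/-- Let G be a finite group of order 2^n·g₀ with g₀ odd, and M a maximal ideal of the algebraic integers containing 2. Every real-valued irreducible character of G of odd degree lies in the principal 2-block; consequently G has at most 2^(2n) real-valued irreducible characters of odd degree. -/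
theorem result {G : Type*} [Group G] [Finite G] (M : Ideal Cfsg.AlgInt) (hM : Cfsg.IsPModular 2 M) : (∀ χ : Cfsg.IrrCharacter G, (∀ g : G, ((χ : G → ℂ) g).im = 0) → Odd (Cfsg.charDegree (χ : G → ℂ)) → χ ∈ Cfsg.principalBlock M G) ∧ Nat.card {χ : Cfsg.IrrCharacter G // (∀ g : G, ((χ : G → ℂ) g).im = 0) ∧ Odd (Cfsg.charDegree (χ : G → ℂ))} ≤ 2 ^ (2 * (Nat.card G).factorization 2) := by
  classical
  have := Fintype.ofFinite G
  have h1 : ∀ χ : Cfsg.IrrCharacter G, (∀ g : G, ((χ : G → ℂ) g).im = 0) →
      Odd (Cfsg.charDegree (χ : G → ℂ)) → χ ∈ Cfsg.principalBlock M G := by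
    intro χ hreal hodd
    have hr : Agent.Char.conjIrr χ = χ := Subtype.ext (funext fun g => by
      rw [Agent.Char.conjIrr_apply]
      exact Complex.conj_eq_iff_im.2 (hreal g))
    have hB := Agent.Blocks.isPBlock_blockOf (M := M) χ
    have hχ := Agent.Blocks.mem_blockOf_self hM χ
    rw [← Agent.BlockChar.eq_principalBlock_of_conj_stable hM hB hχ hodd
      fun ψ hψ => Agent.BlockChar.conjIrr_mem_of_real hM hB hχ hr hψ]
    exact hχ
  refine ⟨h1, ?_⟩
  have hBF := Agent.BlockChar.brauer_feit hM (Agent.Blocks.isPBlock_principalBlock (G := G) M)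
  have hd : 2 ^ (2 * Cfsg.blockDefect 2 (Cfsg.principalBlock M G)) ≤
      2 ^ (2 * (Nat.card G).factorization 2) := by
    refine Nat.pow_le_pow_right (by norm_num) ?_
    rw [Agent.BlockChar.blockDefect_eq]
    omega
  have hpos : 1 ≤ 2 ^ (2 * (Nat.card G).factorization 2) := Nat.one_le_two_pow
  have hle : Nat.card {χ : Cfsg.IrrCharacter G // (∀ g : G, ((χ : G → ℂ) g).im = 0) ∧
      Odd (Cfsg.charDegree (χ : G → ℂ))} ≤ ∑ χ : Cfsg.IrrCharacter G,
      (if χ ∈ Cfsg.principalBlock M G then
        2 ^ (2 * Cfsg.blockHeight 2 (Cfsg.principalBlock M G) (χ : G → ℂ)) else 0) := by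
    rw [Nat.card_eq_fintype_card, Fintype.card_subtype, Finset.card_filter]
    refine Finset.sum_le_sum fun χ _ => ?_
    split_ifs with h h'
    · exact Nat.one_le_two_pow
    · exact absurd (h1 χ h.1 h.2) h'
    · exact Nat.zero_le _
    · exact Nat.zero_le _
  omega

end Cfsg.Agent.S4483
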