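import Cfsg.Statements.S4488
import Cfsg.Agent.Char.SchurBound
-- import your own Cfsg.Agent.* helpers here

set_option autoImplicit false
open Cfsg

namespace Cfsg.Agent.S4488

/-- Let the finite group G have a faithful p-rational character χ of degree n (all values of χ lie in the field generated over ℚ by a root of unity of order prime to p), and let p^a be the order of a Sylow p-subgroup of G. Then a ≤ Σ_{i ≥ 0} ⌊n / ((p − 1)·p^i)⌋ (a finite sum; the terms vanish once (p − 1)p^i > n). -/
theorem result {G : Type*} [Group G] [Finite G] (p : ℕ) (hp : p.Prime) (χ : G → ℂ) (hχ : Cfsg.IsCharacter G χ) (hfaith : ∀ g : G, χ g = χ 1 → g = 1) (hrat : (∃ r : ℕ, 0 < r ∧ ¬ p ∣ r ∧ ∀ g : G, χ g ∈ IntermediateField.adjoin ℚ ({Complex.exp (2 * Real.pi * Complex.I / r)} : Set ℂ))) (n : ℕ) (hn : Cfsg.charDegree χ = n) : (Nat.card G).factorization p ≤ ∑ i ∈ Finset.range (n + 1), n / ((p - 1) * p ^ i) := by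
  classical
  have := Fact.mk hp
  obtain ⟨P⟩ := (inferInstance : Nonempty (Sylow p G))
  set a := (Nat.card G).factorization p with ha
  have hP : Nat.card (P : Subgroup G) = p ^ a := P.card_eq_multiplicity
  obtain ⟨d, hd⟩ := Char.IsChar.degree hχ
  have hdn : d = n := by
    rw [← hn]
    simp [Cfsg.charDegree, hd]
  subst hdn
  obtain ⟨r, hr0, hpr, hval⟩ := hrat
  have hinv : ∀ k, ¬ p ∣ k → ∀ g : (P : Subgroup G), χ ((g ^ k : (P : Subgroup G)) : G) = χ g := by
    intro k hk g
    have hcop : (p ^ a).Coprime r := (hp.coprime_iff_not_dvd.2 hpr).pow_left a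
    obtain ⟨k', h1, h2⟩ := Nat.chineseRemainder hcop k 1
    have hk' : k'.Coprime (p ^ a * r) := by
      refine Nat.Coprime.mul_right ?_ ?_
      · rw [Nat.coprime_iff_gcd_eq_one, h1.gcd_eq]
        exact ((hp.coprime_iff_not_dvd.2 hk).pow_left a).symm.gcd_eq_one
      · rw [Nat.coprime_iff_gcd_eq_one, h2.gcd_eq]
        exact Nat.gcd_one_left r
    obtain ⟨σ, hσ⟩ := Char.exists_galois (p ^ a * r) k'
      (mul_ne_zero (pow_ne_zero _ hp.ne_zero) hr0.ne') hk'
    have hord : orderOf (g : G) ∣ p ^ a := by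
      rw [Subgroup.orderOf_coe, ← hP]
      exact orderOf_dvd_natCard g
    have hfix : σ (χ g) = χ g := by
      set ζ : ℂ := Complex.exp (2 * Real.pi * Complex.I / r) with hζ
      have hζr : ζ ^ r = 1 := (Complex.isPrimitiveRoot_exp r hr0.ne').pow_eq_one
      have hσζ : σ ζ = ζ := by
        rw [hσ ζ (by rw [mul_comm, pow_mul, hζr, one_pow]), ← pow_one ζ, ← pow_mul, one_mul,
          ← Nat.div_add_mod k' r, pow_add, pow_mul, hζr, one_pow, one_mul, h2,
          ← Nat.mod_add_div 1 r]
        simp [pow_add, pow_mul, hζr]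
      refine IntermediateField.adjoin_induction ℚ (p := fun x _ => σ x = x) ?_ ?_ ?_ ?_ ?_
        (hval g)
      · intro x hx
        rw [Set.mem_singleton_iff.1 hx]
        exact hσζ
      · intro q
        simp
      · intro x y _ _ hx hy
        rw [map_add, hx, hy]
      · intro x _ hx
        rw [map_inv₀, hx]
      · intro x y _ _ hx hy
        rw [map_mul, hx, hy]
    rw [Char.galois_apply_pow σ hσ hχ (hord.mul_right r)] at hfix
    rw [Subgroup.coe_pow, ← hfix]
    exact congrArg χ (pow_eq_pow_iff_modEq.2 (h1.symm.of_dvd hord))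
  obtain ⟨b, hb, hle⟩ := Char.exists_index_ker_le hp d hP (fun x : (P : Subgroup G) => χ x)
    (Char.isCharacter_res _ hχ) hd hinv
  have hbot : Char.kerSubgroup (Char.isCharacter_res (P : Subgroup G) hχ) = ⊥ :=
    le_bot_iff.1 fun g hg => Subgroup.mem_bot.2 (Subtype.ext (hfaith g hg))
  rw [hbot, Subgroup.index_bot, hP] at hb
  exact (Nat.pow_right_injective hp.two_le hb).le.trans hle

end Cfsg.Agent.S4488
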