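import Cfsg.Statements.S4491
import Cfsg.Agent.BlockChar.DegreeSum
-- import your own Cfsg.Agent.* helpers here

set_option autoImplicit false
open Cfsg

namespace Cfsg.Agent.S4491

/-- Let B be a p-block of defect d of the finite group G (relative to a maximal ideal M of the algebraic integers containing p), and let p^a be the p-part of the order of G. Then the exact power of p dividing the sum of the squares of the degrees of the irreducible characters in B is p^(2a − d). -/
theorem result {G : Type*} [Group G] [Finite G] (p : ℕ) [Fact p.Prime] (M : Ideal Cfsg.AlgInt) (hM : Cfsg.IsPModular p M) (B : Set (Cfsg.IrrCharacter G)) (hB : Cfsg.IsPBlock M B) : (∑ᶠ χ ∈ B, Cfsg.charDegree (χ : G → ℂ) ^ 2).factorization p = 2 * (Nat.card G).factorization p - Cfsg.blockDefect p B := by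
  classical
  have := Fintype.ofFinite G
  obtain ⟨h1, h2⟩ := Agent.BlockChar.redDeg_sq_sum hM hB
  set d := Cfsg.blockDefect p B with hdd
  set h := Agent.BlockChar.minVal p B with hh
  set S : ℕ := Agent.BlockChar.bsum B (fun χ => Agent.BlockChar.redDeg p B χ ^ 2) with hS
  have hcast : Agent.BlockChar.bsum B (fun χ => (Agent.BlockChar.redDeg p B χ : ℤ) ^ 2) = (S : ℤ) := by
    rw [hS, Agent.BlockChar.bsum, Agent.BlockChar.bsum, Nat.cast_sum]
    refine Finset.sum_congr rfl fun χ _ => ?_
    split_ifs <;> simp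
  rw [hcast, ← Nat.cast_pow, Int.natCast_dvd_natCast] at h1 h2
  have hS0 : S ≠ 0 := fun e => h2 (e ▸ dvd_zero _)
  have hSv : S.factorization p = d := by
    have a1 := (hM.1.pow_dvd_iff_le_factorization hS0).1 h1
    have a2 := mt (hM.1.pow_dvd_iff_le_factorization hS0).2 h2
    omega
  have hsum : ∑ᶠ χ ∈ B, Cfsg.charDegree (χ : G → ℂ) ^ 2 = (p ^ h) ^ 2 * S := by
    rw [finsum_mem_eq_finite_toFinset_sum _ (Set.toFinite B), hS, Agent.BlockChar.bsum,
      Finset.mul_sum]
    simp only [mul_ite, mul_zero]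
    rw [← Finset.sum_filter]
    refine Finset.sum_congr (by ext; simp) fun χ hχ => ?_
    rw [(Agent.BlockChar.redDeg_mul (B := B) hM.1 (Finset.mem_filter.1 hχ).2).1, mul_pow]
  obtain ⟨χ, hχ, -⟩ := Agent.BlockChar.exists_height_zero (p := p)
    (Agent.Blocks.IsPBlock.nonempty hM hB)
  have h3 := (Agent.BlockChar.minVal_le (p := p) hχ).trans (Agent.BlockChar.degree_val_le χ)
  rw [hsum, Nat.factorization_mul (pow_ne_zero _ (pow_ne_zero _ hM.1.ne_zero)) hS0,
    Finsupp.add_apply, hSv, ← pow_mul, Nat.Prime.factorization_pow hM.1, Finsupp.single_eq_same,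
    hdd, Agent.BlockChar.blockDefect_eq, hh]
  omega

end Cfsg.Agent.S4491
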