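import Cfsg.Statements.S4495
import Cfsg.Agent.Char.SelfCentralizing
-- import your own Cfsg.Agent.* helpers here

set_option autoImplicit false
open Cfsg

namespace Cfsg.Agent.S4495

/-- Let the finite group G contain an element x of prime order p with C_G(x) = ⟨x⟩, and let t be the number of conjugacy classes of elements of order p. If t ≠ p − 1 then the commutator subgroup has index at most (p − 1)/t; if t = p − 1 it has index exactly p. -/
theorem result {G : Type*} [Group G] [Finite G] (p : ℕ) (hp : p.Prime) (x : G) (hx : orderOf x = p) (hC : Subgroup.centralizer ({x} : Set G) = Subgroup.zpowers x) (t : ℕ) (ht : Nat.card {C : ConjClasses G // ∃ g ∈ C.carrier, orderOf g = p} = t) : (t ≠ p - 1 → (commutator G).index * t ≤ p - 1) ∧ (t = p - 1 → (commutator G).index = p) := by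
  haveI := Fact.mk hp
  have h : Cfsg.Agent.Char.SelfCent.Hyp p x := ⟨hx, hC⟩
  have hc := h.count
  rw [ht] at hc
  have hp2 := hp.two_le
  refine ⟨fun hne => ?_, fun heq => ?_⟩
  · have he : h.e ≠ 1 := fun e1 => hne (by rw [e1, mul_one] at hc; exact hc)
    calc (commutator G).index * t ≤ h.e * t := Nat.mul_le_mul_right _ (h.index_commutator_le he)
      _ = p - 1 := by rw [mul_comm, hc]
  · have he : h.e = 1 := by
      rw [heq] at hc
      exact Nat.eq_of_mul_eq_mul_left (n := p - 1) (by omega) (by rw [hc, mul_one])
    exact (h.commutator_of_e_eq_one he).2.1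

end Cfsg.Agent.S4495
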