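import Cfsg.Statements.S4497
import Cfsg.Agent.Char.SelfCentralizing
-- import your own Cfsg.Agent.* helpers here

set_option autoImplicit false
open Cfsg

namespace Cfsg.Agent.S4497

/-- Let the finite group G contain an element x of prime order p with C_G(x) = ⟨x⟩, let t be the number of conjugacy classes of elements of order p, and let S* = O_{p′}(G) be the largest normal subgroup of order prime to p. Then S* ≤ G′; if t ≠ p − 1 the quotient G′/S* is simple (in particular non-trivial); if t = p − 1 then G′ = S*. -/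
theorem result {G : Type*} [Group G] [Finite G] (p : ℕ) (hp : p.Prime) (x : G) (hx : orderOf x = p) (hC : Subgroup.centralizer ({x} : Set G) = Subgroup.zpowers x) (t : ℕ) (ht : Nat.card {C : ConjClasses G // ∃ g ∈ C.carrier, orderOf g = p} = t) : Cfsg.pPrimeCore p G ≤ commutator G ∧ (t ≠ p - 1 → ∀ h : ((Cfsg.pPrimeCore p G).subgroupOf (commutator G)).Normal, IsSimpleGroup (↥(commutator G) ⧸ (Cfsg.pPrimeCore p G).subgroupOf (commutator G))) ∧ (t = p - 1 → commutator G = Cfsg.pPrimeCore p G) := by
  haveI := Fact.mk hp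
  have h : Cfsg.Agent.Char.SelfCent.Hyp p x := ⟨hx, hC⟩
  have hnd : ¬ p ∣ Nat.card (Cfsg.pPrimeCore p G) := Cfsg.Agent.Core.not_dvd_card_pPrimeCore
  have hc := h.count
  rw [ht] at hc
  have hp2 := hp.two_le
  have hle := h.le_commutator _ hnd
  refine ⟨hle, fun hne hN => ?_, fun heq => ?_⟩
  · have he : h.e ≠ 1 := fun e1 => hne (by rw [e1, mul_one] at hc; exact hc)
    have hxG := h.mem_commutator_of_ne_one he
    have hnt : Nontrivial (↥(commutator G) ⧸ (Cfsg.pPrimeCore p G).subgroupOf (commutator G)) :=
      ⟨⟨((⟨x, hxG⟩ : commutator G) : ↥(commutator G) ⧸ (Cfsg.pPrimeCore p G).subgroupOf (commutator G)),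
        1, fun e => hnd ((h.dvd_card_iff _).2
          (Subgroup.mem_subgroupOf.1 ((QuotientGroup.eq_one_iff _).1 e)))⟩⟩
    refine { exists_pair_ne := hnt.exists_pair_ne, eq_bot_or_eq_top_of_normal := fun Q hQ => ?_ }
    let M' := Q.comap (QuotientGroup.mk' ((Cfsg.pPrimeCore p G).subgroupOf (commutator G)))
    have hM' : M'.Normal := hQ.comap _
    by_cases hd : p ∣ Nat.card (M'.map (commutator G).subtype)
    · right
      have hn : ∀ g ∈ commutator G, ∀ m ∈ M'.map (commutator G).subtype,
          g * m * g⁻¹ ∈ M'.map (commutator G).subtype := by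
        rintro g hg _ ⟨m, hm, rfl⟩
        exact ⟨⟨g, hg⟩ * m * ⟨g, hg⟩⁻¹, hM'.conj_mem m hm ⟨g, hg⟩, rfl⟩
      have hx' := h.mem_of_dvd_card hxG (Subgroup.map_subtype_le _) hn hd
      have htop := h.eq_commutator_of_normal (Subgroup.map_subtype_le _) hn hx'
      rw [eq_top_iff]
      intro q _
      obtain ⟨g, rfl⟩ := QuotientGroup.mk_surjective q
      obtain ⟨m, hm, hmg⟩ := htop.ge g.2
      rw [← Subtype.ext hmg]
      exact hm
    · left
      rw [Subgroup.card_map_of_injective (commutator G).subtype_injective] at hd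
      have hchar : (Cfsg.pPrimeCore p (commutator G)).Characteristic := Cfsg.Agent.Core.pPrimeCore_characteristic
      haveI : ((Cfsg.pPrimeCore p (commutator G)).map (commutator G).subtype).Normal :=
        ConjAct.normal_of_characteristic_of_normal
      have h1 : M' ≤ Cfsg.pPrimeCore p (commutator G) :=
        Cfsg.Agent.Core.le_pPrimeCore ((hp.coprime_iff_not_dvd.2 hd).symm)
      have h2 : (Cfsg.pPrimeCore p (commutator G)).map (commutator G).subtype ≤ Cfsg.pPrimeCore p G :=
        Cfsg.Agent.Core.le_pPrimeCore (by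
          rw [Subgroup.card_map_of_injective (commutator G).subtype_injective]
          exact Cfsg.Agent.Core.coprime_card_pPrimeCore)
      rw [eq_bot_iff]
      intro q hq
      obtain ⟨g, rfl⟩ := QuotientGroup.mk_surjective q
      rw [Subgroup.mem_bot, QuotientGroup.eq_one_iff, Subgroup.mem_subgroupOf]
      exact h2 ⟨g, h1 hq, rfl⟩
  · have he : h.e = 1 := by
      rw [heq] at hc
      exact Nat.eq_of_mul_eq_mul_left (n := p - 1) (by omega) (by rw [hc, mul_one])
    exact le_antisymm (Cfsg.Agent.Core.le_pPrimeCore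
      (hp.coprime_iff_not_dvd.2 (h.commutator_of_e_eq_one he).2.2).symm) hle

end Cfsg.Agent.S4497
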