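import Cfsg.Statements.S4498
import Cfsg.Agent.Blocks.TwoPrimes
import Cfsg.Agent.Char.Integral

set_option autoImplicit false
open Cfsg

namespace Cfsg.Agent.S4498

/-- Let p and q be distinct primes dividing the order of the finite group G, and suppose G has no element of order p·q. Fix maximal ideals M_p over p and M_q over q of the algebraic integers. Then the principal p-block and the principal q-block of G have a non-principal irreducible character in common. -/
theorem result {G : Type*} [Group G] [Finite G] (p q : ℕ) [Fact p.Prime] [Fact q.Prime] (hpq : p ≠ q) (hp : p ∣ Nat.card G) (hq : q ∣ Nat.card G) (hno : ∀ g : G, orderOf g ≠ p * q) (Mp Mq : Ideal Cfsg.AlgInt) (hMp : Cfsg.IsPModular p Mp) (hMq : Cfsg.IsPModular q Mq) : ∃ χ : Cfsg.IrrCharacter G, (χ : G → ℂ) ≠ (fun _ => 1) ∧ χ ∈ Cfsg.principalBlock Mp G ∧ χ ∈ Cfsg.principalBlock Mq G := by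
  obtain ⟨y, hy⟩ := exists_prime_orderOf_dvd_card' p hp
  by_contra hne
  have hsing : Cfsg.principalBlock Mp G ∩ Cfsg.principalBlock Mq G = {Blocks.triv G} := by
    ext χ
    constructor
    · rintro ⟨h1, h2⟩
      exact Subtype.ext (not_not.1 fun h => hne ⟨χ, h, h1, h2⟩)
    · rintro rfl
      exact ⟨Blocks.triv_mem_principalBlock hMp, Blocks.triv_mem_principalBlock hMq⟩
  have h := Blocks.inter_sum_dvd hpq hMp hMq hno (Blocks.isPBlock_principalBlock Mp)
    (Blocks.isPBlock_principalBlock Mq) (y := y) (by rw [hy])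
  rw [hsing, finsum_mem_singleton] at h
  simp only [Blocks.triv, one_mul] at h
  have hne0 : q ^ (Nat.card G).factorization q ≠ 0 := (pow_pos (Fact.out : q.Prime).pos _).ne'
  have h1 := Char.nat_dvd_of_isIntegral (m := 1) hne0 (by simpa using h)
  have h2 := (Fact.out : q.Prime).factorization_pos_of_dvd Nat.card_pos.ne' hq
  exact (Fact.out : q.Prime).not_dvd_one ((dvd_pow_self q h2.ne').trans h1)

end Cfsg.Agent.S4498
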