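import Cfsg.Statements.S4502
import Cfsg.Agent.BlockChar.Cyclic.McKay
-- import your own Cfsg.Agent.* helpers here

set_option autoImplicit false
open Cfsg

namespace Cfsg.Agent.S4502

/-- Let G be a finite group whose order is divisible by the prime p exactly once, and let P be a Sylow p-subgroup. Then the number of irreducible characters of G of degree not divisible by p equals the number of conjugacy classes of the normalizer of P. -/
theorem result {G : Type*} [Group G] [Finite G] (p : ℕ) [Fact p.Prime] (hdiv : p ∣ Nat.card G) (hsq : ¬ p ^ 2 ∣ Nat.card G) (P : Sylow p G) : Nat.card {χ : Cfsg.IrrCharacter G // ¬ p ∣ Cfsg.charDegree (χ : G → ℂ)} = Nat.card (ConjClasses (Subgroup.normalizer ((P : Subgroup G) : Set G))) := by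
  classical
  obtain ⟨M, hM⟩ := Cfsg.Agent.Blocks.exists_isPModular (p := p) Fact.out
  refine BlockChar.Cyclic.card_degree_prime_to hM ?_ P
  have h0 : Nat.card G ≠ 0 := Nat.card_pos.ne'
  have hp : p.Prime := Fact.out
  have h1 := hp.factorization_pos_of_dvd h0 hdiv
  have h2 : ¬ 2 ≤ (Nat.card G).factorization p := fun h =>
    hsq ((hp.pow_dvd_iff_le_factorization h0).2 h)
  omega

end Cfsg.Agent.S4502
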