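import Cfsg.Statements.S4506
import Mathlib
import Cfsg.Agent.Char.GaloisEquiv
import Cfsg.Agent.BlockChar.Defect
import Cfsg.Agent.Blocks.SectionVanish
import Cfsg.Agent.BlockThms.DefectGroup
-- import your own Cfsg.Agent.* helpers here

set_option autoImplicit false
open Cfsg

namespace Cfsg.Agent.S4506

open scoped ComplexConjugate
open Cfsg.Agent Cfsg.Agent.Blocks

/-- The sum of `y ^ j` over the `j < p ^ (b + 1)` prime to `p`. -/
theorem sum_units_pow {p b : ℕ} [Fact p.Prime] [NeZero (p ^ (b + 1))] {y : ℂ}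
    (hy : y ^ p ^ (b + 1) = 1) :
    ∃ z : ℤ, ∑ u : (ZMod (p ^ (b + 1)))ˣ, y ^ ((u : ZMod (p ^ (b + 1))).val) =
      (p : ℂ) ^ b * z := by
  classical
  have hp := (Fact.out : p.Prime)
  have hgeom : ∀ (x : ℂ) (n : ℕ), x ^ n = 1 →
      ∑ j ∈ Finset.range n, x ^ j = if x = 1 then (n : ℂ) else 0 := by
    intro x n hx
    split_ifs with h
    · simp [h]
    · rw [geom_sum_eq h, hx, sub_self, zero_div]
  have hmem : ∀ j : ℕ, j.Coprime (p ^ (b + 1)) ↔ ¬ p ∣ j := fun j => by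
    rw [Nat.coprime_pow_right_iff (Nat.succ_pos b), Nat.coprime_comm, hp.coprime_iff_not_dvd]
  have h1 : ∑ u : (ZMod (p ^ (b + 1)))ˣ, y ^ ((u : ZMod (p ^ (b + 1))).val) =
      ∑ j ∈ (Finset.range (p ^ (b + 1))).filter (fun j => ¬ p ∣ j), y ^ j := by
    refine Finset.sum_bij (fun u _ => (u : ZMod (p ^ (b + 1))).val) (fun u _ => ?_)
      (fun u _ v _ h => Units.ext (ZMod.val_injective _ h)) (fun j hj => ?_) (fun u _ => rfl)
    · rw [Finset.mem_filter, Finset.mem_range, ← hmem]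
      exact ⟨ZMod.val_lt _, ZMod.val_coe_unit_coprime u⟩
    · obtain ⟨hj1, hj2⟩ := Finset.mem_filter.1 hj
      refine ⟨ZMod.unitOfCoprime j ((hmem j).2 hj2), Finset.mem_univ _, ?_⟩
      rw [ZMod.coe_unitOfCoprime, ZMod.val_natCast, Nat.mod_eq_of_lt (Finset.mem_range.1 hj1)]
  have h2 : ∑ j ∈ (Finset.range (p ^ (b + 1))).filter (fun j => p ∣ j), y ^ j =
      ∑ i ∈ Finset.range (p ^ b), (y ^ p) ^ i := by
    symm
    refine Finset.sum_bij (fun i _ => p * i) (fun i hi => ?_)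
      (fun i _ j _ h => Nat.eq_of_mul_eq_mul_left hp.pos h) (fun j hj => ?_)
      (fun i _ => (pow_mul y p i).symm)
    · rw [Finset.mem_filter, Finset.mem_range, pow_succ']
      exact ⟨Nat.mul_lt_mul_of_pos_left (Finset.mem_range.1 hi) hp.pos, dvd_mul_right p i⟩
    · obtain ⟨hj1, i, rfl⟩ := Finset.mem_filter.1 hj
      refine ⟨i, ?_, rfl⟩
      rw [Finset.mem_range, pow_succ'] at hj1
      exact Finset.mem_range.2 (Nat.lt_of_mul_lt_mul_left hj1)
  have h3 := Finset.sum_filter_add_sum_filter_not (Finset.range (p ^ (b + 1)))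
    (fun j => p ∣ j) (fun j => y ^ j)
  refine ⟨(if y = 1 then (p : ℤ) else 0) - if y ^ p = 1 then 1 else 0, ?_⟩
  rw [h1, eq_sub_of_add_eq' h3, h2, hgeom y _ hy, hgeom (y ^ p) _ (by rw [← pow_mul, ← pow_succ']; exact hy)]
  split_ifs <;> push_cast <;> ring

theorem dvd_of_localRing {p : ℕ} {M : Ideal Cfsg.AlgInt} (hM : Cfsg.IsPModular p M) {n e : ℕ}
    (hn : n ≠ 0) {z : ℂ} (hz : Cfsg.MemLocalRing M z) (h : (n : ℂ) = (p : ℂ) ^ e * z) :
    p ^ e ∣ n := by
  by_contra hne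
  obtain ⟨f, n', hn', rfl⟩ := Nat.exists_eq_pow_mul_and_not_dvd hn p hM.1.ne_one
  have hlt : f < e := by
    by_contra hle
    exact hne ((pow_dvd_pow p (not_lt.1 hle)).mul_right n')
  refine hn' ((memLocalIdeal_natCast_iff hM n').1 ?_)
  have hp0 : (p : ℂ) ^ f ≠ 0 := pow_ne_zero _ (Nat.cast_ne_zero.2 hM.1.ne_zero)
  have : (n' : ℂ) = (p : ℂ) * ((p : ℂ) ^ (e - f - 1) * z) := by
    refine mul_left_cancel₀ hp0 ?_
    rw [← mul_assoc, ← mul_assoc, ← pow_succ, ← pow_add,
      show f + 1 + (e - f - 1) = e by omega, ← h]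
    push_cast; ring
  rw [this]
  exact memLocalIdeal_mul_right hM ((memLocalIdeal_natCast_iff hM p).2 dvd_rfl)
    ((localRing hM).mul_mem ((localRing hM).pow_mem (memLocalRing_natCast hM p) _) hz)

universe u

variable {G : Type u} [Group G] [Finite G]

/-- The exponent attached to a unit modulo `p ^ a`. -/
noncomputable def kOf {P g' : ℕ} (hco : P.Coprime g') (u : (ZMod P)ˣ) : ℕ :=
  (Nat.chineseRemainder hco (u : ZMod P).val 1).1

theorem kOf_left {P g' : ℕ} [NeZero P] (hco : P.Coprime g') (u : (ZMod P)ˣ) :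
    kOf hco u ≡ (u : ZMod P).val [MOD P] :=
  (Nat.chineseRemainder hco (u : ZMod P).val 1).2.1

theorem kOf_right {P g' : ℕ} (hco : P.Coprime g') (u : (ZMod P)ˣ) :
    kOf hco u ≡ 1 [MOD g'] :=
  (Nat.chineseRemainder hco (u : ZMod P).val 1).2.2

theorem kOf_coprime {P g' : ℕ} [NeZero P] (hco : P.Coprime g') (u : (ZMod P)ˣ) :
    (kOf hco u).Coprime (P * g') := by
  refine Nat.Coprime.mul_right ?_ ?_
  · have := (kOf_left hco u).gcd_eq
    rw [Nat.Coprime, this]
    exact ZMod.val_coe_unit_coprime u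
  · have := (kOf_right hco u).gcd_eq
    rw [Nat.Coprime, this, Nat.gcd_one_left]

theorem pow_eq_of_modEq {g : G} {k l : ℕ} (h : k ≡ l [MOD Nat.card G]) : g ^ k = g ^ l :=
  pow_eq_pow_iff_modEq.2 (h.of_dvd (orderOf_dvd_natCard g))

theorem factorization_mul_le (p : ℕ) [Fact p.Prime] (χ : Cfsg.IrrCharacter G) (r : ℕ)
    (hr : Nat.card {ψ : Cfsg.IrrCharacter G // ∃ σ : ℂ ≃+* ℂ, σ (Complex.exp (2 * Real.pi * Complex.I / ((Nat.card G / p ^ (Nat.card G).factorization p) : ℕ))) = Complex.exp (2 * Real.pi * Complex.I / ((Nat.card G / p ^ (Nat.card G).factorization p) : ℕ)) ∧ (ψ : G → ℂ) = fun g => σ ((χ : G → ℂ) g)} = r) :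
    r.factorization p + (Cfsg.charDegree (χ : G → ℂ)).factorization p ≤
        (Nat.card G).factorization p ∧
      (0 < r.factorization p → r.factorization p + (Cfsg.charDegree (χ : G → ℂ)).factorization p <
        (Nat.card G).factorization p) := by
  classical
  have := Fintype.ofFinite G
  have hp := (Fact.out : p.Prime)
  obtain ⟨M, hM⟩ := Blocks.exists_isPModular p hp
  set a := (Nat.card G).factorization p with ha
  set g' := Nat.card G / p ^ a with hg'
  set v := (Cfsg.charDegree (χ : G → ℂ)).factorization p with hv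
  have hG : p ^ a * g' = Nat.card G := Nat.ordProj_mul_ordCompl_eq_self _ _
  have hco : (p ^ a).Coprime g' :=
    (Nat.coprime_ordCompl hp Nat.card_pos.ne').pow_left a
  have hg'0 : g' ≠ 0 := fun h => Nat.card_pos.ne' (by rw [← hG, h, mul_zero])
  haveI : NeZero (p ^ a) := ⟨pow_ne_zero _ hp.ne_zero⟩
  set ζ' := Complex.exp (2 * Real.pi * Complex.I / (g' : ℕ)) with hζ'
  have hprim' : IsPrimitiveRoot ζ' g' := Complex.isPrimitiveRoot_exp g' hg'0
  have hv_le : v ≤ a := BlockChar.degree_val_le χ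
  -- the action of the units modulo `p ^ a`
  have hone : kOf hco (1 : (ZMod (p ^ a))ˣ) ≡ 1 [MOD Nat.card G] := by
    rw [← hG]
    refine (Nat.modEq_and_modEq_iff_modEq_mul hco).1 ⟨(kOf_left hco _).trans ?_, kOf_right hco _⟩
    rw [← ZMod.natCast_eq_natCast_iff]; simp
  have hmul : ∀ u w : (ZMod (p ^ a))ˣ,
      kOf hco (u * w) ≡ kOf hco u * kOf hco w [MOD Nat.card G] := by
    intro u w
    rw [← hG]
    refine (Nat.modEq_and_modEq_iff_modEq_mul hco).1 ⟨(kOf_left hco _).trans ?_,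
      (kOf_right hco _).trans ((kOf_right hco u).mul (kOf_right hco w)).symm⟩
    refine Nat.ModEq.trans ?_ ((kOf_left hco u).mul (kOf_left hco w)).symm
    rw [← ZMod.natCast_eq_natCast_iff]; simp
  letI : MulAction (ZMod (p ^ a))ˣ (Cfsg.IrrCharacter G) :=
    { smul := fun u ψ => ⟨fun g => (ψ : G → ℂ) (g ^ kOf hco u),
        Char.isIrr_comp_pow _ (hG ▸ kOf_coprime hco u) ψ.2⟩
      one_smul := fun ψ => Subtype.ext (funext fun g => by
        show (ψ : G → ℂ) (g ^ kOf hco 1) = (ψ : G → ℂ) g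
        rw [pow_eq_of_modEq hone, pow_one])
      mul_smul := fun u w ψ => Subtype.ext (funext fun g => by
        show (ψ : G → ℂ) (g ^ kOf hco (u * w)) = (ψ : G → ℂ) ((g ^ kOf hco u) ^ kOf hco w)
        rw [← pow_mul, pow_eq_of_modEq (hmul u w)]) }
  have hsmul : ∀ (u : (ZMod (p ^ a))ˣ) (g : G),
      ((u • χ : Cfsg.IrrCharacter G) : G → ℂ) g = (χ : G → ℂ) (g ^ kOf hco u) := fun _ _ => rfl
  set O := MulAction.orbit (ZMod (p ^ a))ˣ χ with hO
  have hOset : ∀ ψ : Cfsg.IrrCharacter G, (∃ σ : ℂ ≃+* ℂ, σ ζ' = ζ' ∧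
      (ψ : G → ℂ) = fun g => σ ((χ : G → ℂ) g)) ↔ ψ ∈ O := by
    intro ψ
    constructor
    · rintro ⟨σ, hσ, hψ⟩
      have hG0 : Nat.card G ≠ 0 := Nat.card_pos.ne'
      haveI : NeZero (Nat.card G) := ⟨hG0⟩
      set ζ := Complex.exp (2 * Real.pi * Complex.I / (Nat.card G : ℕ)) with hζ
      have hprim : IsPrimitiveRoot ζ (Nat.card G) := Complex.isPrimitiveRoot_exp _ hG0
      obtain ⟨k, -, hk⟩ := hprim.eq_pow_of_pow_eq_one (ξ := σ ζ)
        (by rw [← map_pow, hprim.pow_eq_one, map_one])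
      have hpow : ∀ z : ℂ, z ^ Nat.card G = 1 → σ.toRingHom z = z ^ k := by
        intro z hz
        obtain ⟨i, -, rfl⟩ := hprim.eq_pow_of_pow_eq_one hz
        show σ (ζ ^ i) = (ζ ^ i) ^ k
        rw [map_pow, ← hk, ← pow_mul, ← pow_mul, mul_comm]
      have hkco : k.Coprime (Nat.card G) :=
        (hprim.pow_iff_coprime (Nat.pos_of_ne_zero hG0) k).1
          (hk ▸ hprim.map_of_injective σ.injective)
      have hk1 : k ≡ 1 [MOD g'] := by
        have h := hpow ζ' (by rw [← hG, mul_comm, pow_mul, hprim'.pow_eq_one, one_pow])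
        rw [RingEquiv.toRingHom_eq_coe, RingEquiv.coe_toRingHom, hσ] at h
        have h2 : ζ' ^ k = ζ' ^ 1 := by rw [pow_one]; exact h.symm
        rw [hprim'.eq_orderOf]
        exact (IsOfFinOrder.pow_eq_pow_iff_modEq (hprim'.isUnit hg'0 |> fun _ =>
          isOfFinOrder_iff_pow_eq_one.2 ⟨g', Nat.pos_of_ne_zero hg'0, hprim'.pow_eq_one⟩)).1 h2
      obtain ⟨u, hu⟩ : ∃ u : (ZMod (p ^ a))ˣ, (u : ZMod (p ^ a)) = (k : ZMod (p ^ a)) :=
        ⟨ZMod.unitOfCoprime k (hkco.coprime_dvd_right ⟨g', hG.symm⟩), rfl⟩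
      refine ⟨u, Subtype.ext (funext fun g => ?_)⟩
      rw [hψ]
      show (χ : G → ℂ) (g ^ kOf hco _) = σ ((χ : G → ℂ) g)
      refine Eq.trans ?_ (Char.galois_apply_pow σ.toRingHom hpow (Char.IsIrr.isCharacter χ.2)
        (orderOf_dvd_natCard g)).symm
      refine congrArg _ (pow_eq_of_modEq ?_)
      rw [← hG]
      refine (Nat.modEq_and_modEq_iff_modEq_mul hco).1 ⟨(kOf_left hco _).trans ?_,
        (kOf_right hco _).trans hk1.symm⟩
      rw [hu, ZMod.val_natCast]
      exact Nat.mod_modEq _ _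
    · rintro ⟨u, rfl⟩
      obtain ⟨σ, hσ⟩ := Char.exists_galois_equiv (Nat.card G) (kOf hco u) Nat.card_pos.ne'
        (hG ▸ kOf_coprime hco u)
      refine ⟨σ, ?_, funext fun g => ?_⟩
      · rw [hσ ζ' (by rw [← hG, mul_comm, pow_mul, hprim'.pow_eq_one, one_pow])]
        conv_rhs => rw [← pow_one ζ']
        rw [pow_eq_pow_mod (kOf hco u) hprim'.pow_eq_one, kOf_right hco u,
          ← pow_eq_pow_mod 1 hprim'.pow_eq_one]
      · exact (Char.galois_apply_pow σ.toRingHom hσ (Char.IsIrr.isCharacter χ.2)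
          (orderOf_dvd_natCard g)).symm
  have hrO : r = Nat.card O := by
    rw [← hr]
    exact Nat.card_congr (Equiv.subtypeEquivRight hOset)
  set S := MulAction.stabilizer (ZMod (p ^ a))ˣ χ with hS
  have hidx : S.index = r := by
    rw [hS, MulAction.index_stabilizer, hrO, ← Nat.card_coe_set_eq]
  have hr0 : r ≠ 0 := hidx ▸ Subgroup.index_ne_zero_of_finite
  set e := r.factorization p with he
  obtain ⟨b, hb⟩ | ha0 : (∃ b, a = b + 1) ∨ a = 0 := by
    rcases Nat.eq_zero_or_pos a with h | h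
    · exact Or.inr h
    · exact Or.inl ⟨a - 1, by omega⟩
  swap
  · have hr1 : r ∣ 1 := by
      rw [← hidx]
      refine (Subgroup.index_dvd_card S).trans ?_
      rw [Nat.card_eq_fintype_card, ZMod.card_units_eq_totient, ha0, pow_zero, Nat.totient_one]
    have he0 : e = 0 := by rw [he, Nat.dvd_one.1 hr1, Nat.factorization_one]; rfl
    omega
  have hcard : Nat.card S * r = p ^ b * (p - 1) := by
    rw [← hidx, Subgroup.card_mul_index, Nat.card_eq_fintype_card, ZMod.card_units_eq_totient,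
      hb, Nat.totient_prime_pow_succ hp]
  -- the sum of the orbit
  set θ : G → ℂ := fun g => ∑ ψ ∈ O.toFinset, (ψ : G → ℂ) g with hθ
  have hθsum : ∀ g, ∑ u : (ZMod (p ^ a))ˣ, (χ : G → ℂ) (g ^ kOf hco u) =
      (Nat.card S : ℂ) * θ g := by
    intro g
    simp only [← hsmul]
    rw [← Finset.sum_fiberwise_of_maps_to (t := O.toFinset)
      (g := fun u : (ZMod (p ^ a))ˣ => u • χ) (fun u _ => Set.mem_toFinset.2 ⟨u, rfl⟩), hθ,
      Finset.mul_sum]
    refine Finset.sum_congr rfl fun ψ hψ => ?_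
    obtain ⟨w, rfl⟩ := Set.mem_toFinset.1 hψ
    rw [Finset.sum_congr rfl (g := fun _ => ((w • χ : Cfsg.IrrCharacter G) : G → ℂ) g)
      (fun u hu => by rw [(Finset.mem_filter.1 hu).2]), Finset.sum_const, nsmul_eq_mul]
    congr 2
    rw [← Fintype.card_subtype, ← Nat.card_eq_fintype_card]
    exact Nat.card_congr ((Equiv.mulLeft w⁻¹).subtypeEquiv fun u => by
      rw [Equiv.coe_mulLeft, hS, MulAction.mem_stabilizer_iff, mul_smul, inv_smul_eq_iff])
  have hdiv : ∀ g, ∃ z : ℂ, IsIntegral ℤ z ∧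
      ∑ u : (ZMod (p ^ a))ˣ, (χ : G → ℂ) (g ^ kOf hco u) = (p : ℂ) ^ b * z := by
    intro g
    obtain ⟨n, ρ, -, hρ⟩ := χ.2
    obtain ⟨μ, bb, -, hμ, hχ⟩ := Char.exists_eigenbasis ρ g
    have hcharu : ∀ u, (χ : G → ℂ) (g ^ kOf hco u) = ∑ i, μ i ^ kOf hco u := by
      intro u
      obtain ⟨σ, hσ⟩ := Char.exists_galois (orderOf g) (kOf hco u) (orderOf_pos g).ne'
        ((hG ▸ kOf_coprime hco u : (kOf hco u).Coprime (Nat.card G)).coprime_dvd_right
          (orderOf_dvd_natCard g))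
      rw [← Char.galois_apply_pow σ hσ (Char.IsIrr.isCharacter χ.2) dvd_rfl, ← hρ, hχ, map_sum]
      exact Finset.sum_congr rfl fun i _ => hσ _ (hμ i)
    simp only [hcharu]
    rw [Finset.sum_comm]
    obtain ⟨c₁, hc₁⟩ := Nat.chineseRemainder hco 1 0
    obtain ⟨c₂, hc₂⟩ := Nat.chineseRemainder hco 0 1
    have hc : c₁ + c₂ ≡ 1 [MOD Nat.card G] := by
      rw [← hG]
      exact (Nat.modEq_and_modEq_iff_modEq_mul hco).1 ⟨hc₁.1.add hc₂.1, hc₁.2.add hc₂.2⟩
    have key : ∀ i, ∃ z : ℂ, IsIntegral ℤ z ∧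
        ∑ u : (ZMod (p ^ a))ˣ, μ i ^ kOf hco u = (p : ℂ) ^ b * z := by
      intro i
      have hG1 : μ i ^ (p ^ a * g') = 1 := by
        obtain ⟨c, hc⟩ := orderOf_dvd_natCard g
        rw [hG, hc, pow_mul, hμ i, one_pow]
      have hmod : ∀ {k l : ℕ}, k ≡ l [MOD p ^ a * g'] → μ i ^ k = μ i ^ l := fun {k l} h => by
        rw [pow_eq_pow_mod k hG1, pow_eq_pow_mod l hG1,
          show k % (p ^ a * g') = l % (p ^ a * g') from h]
      have hu : ∀ u : (ZMod (p ^ a))ˣ,
          μ i ^ kOf hco u = (μ i ^ c₁) ^ (u : ZMod (p ^ a)).val * μ i ^ c₂ := fun u => by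
        rw [← pow_mul, ← pow_add]
        refine hmod ((Nat.modEq_and_modEq_iff_modEq_mul hco).1 ⟨?_, ?_⟩)
        · refine (kOf_left hco u).trans ?_
          simpa using ((hc₁.1.mul_right (u : ZMod (p ^ a)).val).add hc₂.1).symm
        · refine (kOf_right hco u).trans ?_
          simpa using ((hc₁.2.mul_right (u : ZMod (p ^ a)).val).add hc₂.2).symm
      have hy : (μ i ^ c₁) ^ p ^ a = 1 := by
        rw [← pow_mul]
        obtain ⟨d, hd⟩ := Nat.modEq_zero_iff_dvd.1 hc₁.2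
        rw [hd, show g' * d * p ^ a = p ^ a * g' * d by ring, pow_mul, hG1, one_pow]
      simp only [hu, ← Finset.sum_mul]
      have hint : IsIntegral ℤ (μ i) :=
        IsIntegral.of_pow (orderOf_pos g) (by rw [hμ i]; exact isIntegral_one)
      clear_value a
      subst hb
      haveI : NeZero (p ^ (b + 1)) := ⟨pow_ne_zero _ hp.ne_zero⟩
      obtain ⟨z, hz⟩ := sum_units_pow hy
      refine ⟨(z : ℂ) * μ i ^ c₂, (Blocks.isIntegral_intCast z).mul (hint.pow _), ?_⟩
      rw [hz, mul_assoc]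
    choose z hz1 hz2 using key
    refine ⟨∑ i, z i, IsIntegral.sum _ fun i _ => hz1 i, ?_⟩
    rw [Finset.mul_sum]
    exact Finset.sum_congr rfl fun i _ => hz2 i
  -- divisibility of the orbit sum
  obtain ⟨s, s', hs', hss'⟩ :=
    Nat.exists_eq_pow_mul_and_not_dvd (Nat.card_pos (α := S)).ne' p hp.ne_one
  obtain ⟨e₀, r', hr', hrr'⟩ := Nat.exists_eq_pow_mul_and_not_dvd hr0 p hp.ne_one
  have hpp : ¬ p ∣ p - 1 := fun h => by
    have := Nat.le_of_dvd (Nat.sub_pos_of_lt hp.one_lt) h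
    have := hp.pos
    omega
  have hfac : ∀ (f m : ℕ), ¬ p ∣ m → (p ^ f * m).factorization p = f := fun f m hm => by
    rw [Nat.factorization_mul (pow_ne_zero _ hp.ne_zero) (fun h => hm (by rw [h]; exact dvd_zero p))]
    simp [hp.factorization_pow, Nat.factorization_eq_zero_of_not_dvd hm]
  have hee : e₀ = e := by rw [he, hrr', hfac _ _ hr']
  have hsb : s + e = b := by
    have h := congrArg (fun n => Nat.factorization n p) hcard
    simp only [hss', hrr', hfac _ _ hpp] at h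
    rw [show p ^ s * s' * (p ^ e₀ * r') = p ^ (s + e₀) * (s' * r') by rw [pow_add]; ring,
      hfac _ _ (fun hd => (hp.dvd_mul.1 hd).elim hs' hr'), hee] at h
    exact h
  have hθdiv : ∀ g, ∃ z : ℂ, Cfsg.MemLocalRing M z ∧ θ g = (p : ℂ) ^ e * z := by
    intro g
    obtain ⟨z, hz, hsum⟩ := hdiv g
    refine ⟨z * (s' : ℂ)⁻¹, (localRing hM).mul_mem (memLocalRing_of_isIntegral hM hz)
      (memLocalRing_natCast_inv hM hs'), ?_⟩
    rw [hθsum, hss', ← hsb, pow_add] at hsum
    push_cast at hsum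
    have hps : (p : ℂ) ^ s ≠ 0 := pow_ne_zero _ (Nat.cast_ne_zero.2 hp.ne_zero)
    have hs0 : (s' : ℂ) ≠ 0 := Nat.cast_ne_zero.2 fun h => hs' (by rw [h]; exact dvd_zero p)
    refine mul_left_cancel₀ (mul_ne_zero hps hs0) (hsum.trans ?_)
    field_simp
  -- the codegree
  have hχc := Char.IsIrr.isCharacter χ.2
  have hn1 : (χ : G → ℂ) 1 = (Cfsg.charDegree (χ : G → ℂ) : ℂ) := (charDegree_cast hχc).symm
  obtain ⟨n, hn⟩ := Char.IsIrr.degree_dvd_card χ.2 hn1
  have hn0 : n ≠ 0 := fun h => Nat.card_pos.ne' (by rw [hn, h, mul_zero])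
  have hvn : v + n.factorization p = a := by
    rw [hv, ha, hn, Nat.factorization_mul (charDegree_pos χ.2).ne' hn0]; rfl
  set f : G → ℂ := fun g => θ g⁻¹ with hf
  have hfc : Cfsg.IsClassFunction G f := fun x k => by
    simp only [hf, hθ, show (k * x * k⁻¹)⁻¹ = k * x⁻¹ * k⁻¹ by group]
    exact Finset.sum_congr rfl fun ψ _ => Char.isClassFunction_of_isIrr ψ.2 _ _
  have hωf : Blocks.omega (χ : G → ℂ) f = (n : ℂ) := by
    have h1 : ∀ ψ : Cfsg.IrrCharacter G,
        ∑ g, (ψ : G → ℂ) g⁻¹ * (χ : G → ℂ) g = if χ = ψ then (Nat.card G : ℂ) else 0 := by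
      intro ψ
      have h := Char.classInner_irr χ.2 ψ.2
      rw [Cfsg.classInner, inv_mul_eq_iff_eq_mul₀ Char.card_ne_zero] at h
      rw [show (if χ = ψ then (Nat.card G : ℂ) else 0) =
        (Nat.card G : ℂ) * (if (χ : G → ℂ) = (ψ : G → ℂ) then 1 else 0) by
          simp [Subtype.ext_iff], ← h]
      refine Finset.sum_congr rfl fun g _ => ?_
      rw [← Char.IsChar.inv_eq_conj (Char.IsIrr.isCharacter ψ.2) g, mul_comm]
    rw [omega, div_eq_iff (Char.IsIrr.one_ne_zero χ.2), hn1]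
    simp only [hf, hθ, Finset.sum_mul]
    rw [Finset.sum_comm, Finset.sum_congr rfl fun ψ _ => h1 ψ, Finset.sum_ite_eq,
      if_pos (Set.mem_toFinset.2 (MulAction.mem_orbit_self χ)), hn]
    push_cast; ring
  obtain ⟨z, hz, hnz⟩ : ∃ z : ℂ, Cfsg.MemLocalRing M z ∧ (n : ℂ) = (p : ℂ) ^ e * z := by
    have : Finite (ConjClasses G) := Quotient.finite _
    have := Fintype.ofFinite (ConjClasses G)
    rw [← hωf, omega_eq_sum_classes (Char.isClassFunction_of_isIrr χ.2) hfc]
    choose w hw1 hw2 using fun C : ConjClasses G => hθdiv (C.out)⁻¹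
    refine ⟨∑ C : ConjClasses G, w C * Cfsg.centralChar (χ : G → ℂ) C.out,
      (localRing hM).sum_mem fun C _ => (localRing hM).mul_mem (hw1 C)
        (memLocalRing_centralChar hM χ.2 _), ?_⟩
    rw [Finset.mul_sum]
    refine Finset.sum_congr rfl fun C _ => ?_
    simp only [hf]
    rw [hw2]; ring
  have hen : e ≤ n.factorization p :=
    (hp.pow_dvd_iff_le_factorization hn0).1 (dvd_of_localRing hM hn0 hz hnz)
  refine ⟨by omega, fun he0 => lt_of_le_of_ne (by omega) fun heq => ?_⟩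
  -- equality: the orbit contains the block
  have hnfac : n.factorization p = e := by omega
  obtain ⟨e₁, n', hn', hnn'⟩ := Nat.exists_eq_pow_mul_and_not_dvd hn0 p hp.ne_one
  have he1 : e₁ = e := by rw [← hnfac, hnn', hfac _ _ hn']
  have hOdeg : ∀ ψ ∈ O, (ψ : G → ℂ) 1 = (χ : G → ℂ) 1 := by
    rintro _ ⟨u, rfl⟩
    show (χ : G → ℂ) ((1 : G) ^ kOf hco u) = _
    rw [one_pow]
  have hA : ∀ g, Cfsg.MemLocalRing M (Cfsg.blockCoeff O g) := by
    intro g
    have e2 : Cfsg.blockCoeff O g = (n : ℂ)⁻¹ * θ g⁻¹ := by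
      rw [Cfsg.blockCoeff, finsum_mem_eq_toFinset_sum,
        Finset.sum_congr rfl (g := fun ψ : Cfsg.IrrCharacter G =>
          (χ : G → ℂ) 1 * (ψ : G → ℂ) g⁻¹) (fun ψ hψ => by
            rw [hOdeg ψ (Set.mem_toFinset.1 hψ), Char.IsChar.inv_eq_conj
              (Char.IsIrr.isCharacter ψ.2) g]), ← Finset.mul_sum, hn, hn1, Nat.cast_mul,
        mul_inv]
      have : (Cfsg.charDegree (χ : G → ℂ) : ℂ) ≠ 0 :=
        Nat.cast_ne_zero.2 (charDegree_pos χ.2).ne'
      field_simp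
      rfl
    obtain ⟨w, hw, hwe⟩ := hθdiv g⁻¹
    rw [e2, hwe, hnn', he1, Nat.cast_mul, Nat.cast_pow, mul_inv, mul_mul_mul_comm,
      inv_mul_cancel₀ (pow_ne_zero _ (Nat.cast_ne_zero.2 hp.ne_zero)), one_mul]
    exact (localRing hM).mul_mem (memLocalRing_natCast_inv hM hn') hw
  set B := Cfsg.blockOf M (χ : G → ℂ) with hB
  have hBO : ∀ ψ ∈ B, ψ ∈ O := fun ψ hψ =>
    mem_of_sameBlock_of_memLocalRing hM hA (MulAction.mem_orbit_self χ) hψ
  have hBb : Cfsg.IsPBlock M B := isPBlock_blockOf χ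
  have hχB : χ ∈ B := mem_blockOf_self hM χ
  have hdef : Cfsg.blockDefect p B = e := by
    obtain ⟨ψ, hψ, hψ0⟩ := BlockChar.exists_height_zero (p := p) (B := B) ⟨χ, hχB⟩
    have h1 := BlockChar.minVal_le (p := p) hψ
    have hdeg : Cfsg.charDegree (ψ : G → ℂ) = Cfsg.charDegree (χ : G → ℂ) := by
      simp only [Cfsg.charDegree, hOdeg ψ (hBO ψ hψ)]
    rw [hdeg, ← hv] at h1 hψ0
    rw [BlockChar.blockDefect_eq]
    omega
  obtain ⟨D, hD⟩ := DefectThms.exists_defectGroup hM hBb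
  have hDcard : Nat.card D = p ^ e := by
    rw [BlockChar.card_defectGroup hM hBb hD, hdef]
  -- units congruent to one modulo `p ^ e` fix `χ`
  have hea : e ≤ a := by omega
  let π := Units.map (ZMod.castHom (pow_dvd_pow p hea) (ZMod (p ^ e))).toMonoidHom
  have hker : π.ker ≤ S := by
    intro u hu
    rw [hS, MulAction.mem_stabilizer_iff]
    refine Subtype.ext (funext fun g => ?_)
    rw [hsmul]
    by_cases hx : ∃ k : G, k * pPartOf p g * k⁻¹ ∈ D
    · obtain ⟨k, hk⟩ := hx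
      have hxo : orderOf (pPartOf p g) ∣ p ^ e := by
        rw [← hDcard, ← (show orderOf (k * pPartOf p g * k⁻¹) = orderOf (pPartOf p g) from
          orderOf_injective (MulAut.conj k).toMonoidHom (MulAut.conj k).injective _)]
        have h3 := orderOf_dvd_natCard (⟨_, hk⟩ : D)
        rw [← Subgroup.orderOf_coe] at h3
        exact h3
      have hyo : orderOf (pPrimePartOf p g) ∣ g' := by
        refine (Nat.Coprime.dvd_of_dvd_mul_left ?_ (hG ▸ orderOf_dvd_natCard (pPrimePartOf p g)))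
        exact Nat.Coprime.pow_right _ (hp.coprime_iff_not_dvd.2
          (not_dvd_orderOf_pPrimePartOf hp g)).symm
      have hgo : orderOf g ∣ p ^ e * g' := by
        rw [← pPartOf_mul_pPrimePartOf (p := p) hp g,
          (commute_pPartOf_pPrimePartOf (p := p) g).orderOf_mul_eq_mul_orderOf_of_coprime]
        · exact mul_dvd_mul hxo hyo
        · exact (Nat.Coprime.of_dvd hxo hyo (hco.coprime_dvd_left (pow_dvd_pow p hea)))
      have hk1 : kOf hco u ≡ 1 [MOD p ^ e * g'] := by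
        refine (Nat.modEq_and_modEq_iff_modEq_mul (hco.coprime_dvd_left (pow_dvd_pow p hea))).1
          ⟨((kOf_left hco u).of_dvd (pow_dvd_pow p hea)).trans ?_, kOf_right hco u⟩
        have hu1 := congrArg Units.val hu
        rw [← ZMod.natCast_eq_natCast_iff, Nat.cast_one]
        rw [ZMod.natCast_val]
        exact hu1
      rw [pow_eq_pow_iff_modEq.2 (hk1.of_dvd hgo), pow_one]
    · push Not at hx
      have h0 : (χ : G → ℂ) g = 0 := eq_zero_of_pPart_notMem hM hBb hD hχB hx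
      obtain ⟨σ, hσ⟩ := Char.exists_galois_pow (G := G) (kOf hco u) (hG ▸ kOf_coprime hco u)
      rw [h0, ← hσ hχc, h0, map_zero]
  have hrdvd : r ∣ p ^ (e - 1) * (p - 1) := by
    rw [← hidx]
    refine (Subgroup.index_dvd_of_le hker).trans ?_
    rw [Subgroup.index_ker]
    refine (Subgroup.card_subgroup_dvd_card _).trans ?_
    haveI : NeZero (p ^ e) := ⟨pow_ne_zero _ hp.ne_zero⟩
    rw [Nat.card_eq_fintype_card, ZMod.card_units_eq_totient, Nat.totient_prime_pow hp he0]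
  have h := (Nat.factorization_le_iff_dvd hr0 (mul_ne_zero (pow_ne_zero _ hp.ne_zero)
    (Nat.sub_ne_zero_of_lt hp.one_lt))).2 hrdvd p
  rw [hfac _ _ hpp, ← he] at h
  omega

/-- Let G be a finite group, p a prime, p^a the p-part of the order of G and g′ its p′-part. Call two irreducible characters p-conjugate when one is obtained from the other by applying a field automorphism of ℂ that fixes the g′-th roots of unity, and let r be the number of characters p-conjugate to the irreducible character χ (χ included). Then the exponent of p in r·χ(1) is at most a; and if p^a divides r·χ(1) then p^a already divides χ(1). -/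
theorem result {G : Type*} [Group G] [Finite G] (p : ℕ) (hp : p.Prime) (χ : Cfsg.IrrCharacter G) (r : ℕ) (hr : Nat.card {ψ : Cfsg.IrrCharacter G // ∃ σ : ℂ ≃+* ℂ, σ (Complex.exp (2 * Real.pi * Complex.I / ((Nat.card G / p ^ (Nat.card G).factorization p) : ℕ))) = Complex.exp (2 * Real.pi * Complex.I / ((Nat.card G / p ^ (Nat.card G).factorization p) : ℕ)) ∧ (ψ : G → ℂ) = fun g => σ ((χ : G → ℂ) g)} = r) : (r * Cfsg.charDegree (χ : G → ℂ)).factorization p ≤ (Nat.card G).factorization p ∧ (p ^ (Nat.card G).factorization p ∣ r * Cfsg.charDegree (χ : G → ℂ) → p ^ (Nat.card G).factorization p ∣ Cfsg.charDegree (χ : G → ℂ)) := by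
  haveI := Fact.mk hp
  obtain ⟨h1, h2⟩ := factorization_mul_le p χ r hr
  have hd : Cfsg.charDegree (χ : G → ℂ) ≠ 0 := (charDegree_pos χ.2).ne'
  have hr0 : r ≠ 0 := by
    intro h0
    rw [h0] at hr
    have hone : ∃ σ : ℂ ≃+* ℂ, σ (Complex.exp (2 * Real.pi * Complex.I / ((Nat.card G / p ^ (Nat.card G).factorization p) : ℕ))) = Complex.exp (2 * Real.pi * Complex.I / ((Nat.card G / p ^ (Nat.card G).factorization p) : ℕ)) ∧ (χ : G → ℂ) = fun g => σ ((χ : G → ℂ) g) :=
      ⟨RingEquiv.refl ℂ, rfl, rfl⟩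
    rcases Nat.card_eq_zero.1 hr with h | h
    · exact h.false ⟨χ, hone⟩
    · exact absurd (Subtype.finite) h.not_finite
  have hmul : (r * Cfsg.charDegree (χ : G → ℂ)).factorization p =
      r.factorization p + (Cfsg.charDegree (χ : G → ℂ)).factorization p := by
    rw [Nat.factorization_mul hr0 hd]; rfl
  refine ⟨hmul ▸ h1, fun hdvd => (hp.pow_dvd_iff_le_factorization hd).2 ?_⟩
  have h3 := (hp.pow_dvd_iff_le_factorization (mul_ne_zero hr0 hd)).1 hdvd
  rw [hmul] at h3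
  rcases Nat.eq_zero_or_pos (r.factorization p) with h | h
  · omega
  · have := h2 h
    omega

end Cfsg.Agent.S4506
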