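import Cfsg.Statements.S4507
import Cfsg.Agent.BlockChar.Cyclic.PConjugate
-- import your own Cfsg.Agent.* helpers here

set_option autoImplicit false
open Cfsg

namespace Cfsg.Agent.S4507

/-- Let G be a finite group whose order g is divisible by the prime p exactly once, g′ = g/p, and fix a maximal ideal M of the algebraic integers containing p. Call two irreducible characters p-conjugate when a field automorphism of ℂ fixing the g′-th roots of unity carries one to the other. Let B be a p-block of positive defect (its defect group is a Sylow p-subgroup). Then B contains a subset Y (the exceptional family) such that: Y is a full p-conjugacy class (its members are pairwise p-conjugate and every p-conjugate of a member of Y lies in Y); every member of B outside Y is p-conjugate only to itself; the size t of Y divides p − 1 and B has exactly t + (p − 1)/t members; and there are signs δ_χ = ±1 (χ ∈ B) such that for every p-regular element x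 and every θ ∈ Y, Σ_{χ ∈ B ∖ Y} δ_χ χ(x) + δ_θ θ(x) = 0. -/
theorem result {G : Type*} [Group G] [Finite G] (p : ℕ) [Fact p.Prime] (M : Ideal Cfsg.AlgInt) (hM : Cfsg.IsPModular p M) (hdiv : p ∣ Nat.card G) (hsq : ¬ p ^ 2 ∣ Nat.card G) (B : Set (Cfsg.IrrCharacter G)) (hB : Cfsg.IsPBlock M B) (hd : 0 < Cfsg.blockDefect p B) : ∃ Y : Set (Cfsg.IrrCharacter G), Y ⊆ B ∧ Y.Nonempty ∧ (∀ θ ∈ Y, ∀ ψ : Cfsg.IrrCharacter G, (∃ σ : ℂ ≃+* ℂ, σ (Complex.exp (2 * Real.pi * Complex.I / ((Nat.card G / p ^ (Nat.card G).factorization p) : ℕ))) = Complex.exp (2 * Real.pi * Complex.I / ((Nat.card G / p ^ (Nat.card G).factorization p) : ℕ)) ∧ (ψ : G → ℂ) = fun g => σ ((θ : G → ℂ) g)) ↔ ψ ∈ Y) ∧ (∀ χ ∈ B, χ ∉ Y → ∀ ψ : Cfsg.IrrCharacter G, (∃ σ : ℂ ≃+* ℂ, σ (Complex.exp (2 * Real.pi * Complex.I / ((Nat.card G / p ^ (Nat.card G).factorization p) : ℕ))) = Complex.exp (2 * Real.pi * Complex.I / ((Nat.card G / p ^ (Nat.card G).factorization p) : ℕ)) ∧ (ψ : G → ℂ)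 = fun g => σ ((χ : G → ℂ) g)) → ψ = χ) ∧ Nat.card Y ∣ p - 1 ∧ Nat.card B = Nat.card Y + (p - 1) / Nat.card Y ∧ ∃ δ : Cfsg.IrrCharacter G → ℤ, (∀ χ ∈ B, δ χ = 1 ∨ δ χ = -1) ∧ ∀ x : G, ¬ p ∣ orderOf x → ∀ θ ∈ Y, (∑ᶠ χ ∈ B \ Y, (δ χ : ℂ) * (χ : G → ℂ) x) + (δ θ : ℂ) * (θ : G → ℂ) x = 0 := by
  classical
  have := Fintype.ofFinite G
  have hp : p.Prime := Fact.out
  have hG0 : Nat.card G ≠ 0 := Nat.card_pos.ne'
  have ha : (Nat.card G).factorization p = 1 := by
    have h1 := hp.factorization_pos_of_dvd hG0 hdiv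
    have h2 : ¬ 2 ≤ (Nat.card G).factorization p := fun h =>
      hsq ((hp.pow_dvd_iff_le_factorization hG0).2 h)
    omega
  obtain ⟨D, hBD⟩ := DefectThms.exists_defectGroup hM hB
  have hle : Cfsg.blockDefect p B ≤ 1 := by rw [BlockChar.blockDefect_eq, ha]; omega
  have hD : Nat.card D = p := by
    rw [BlockChar.card_defectGroup hM hB hBD, show Cfsg.blockDefect p B = 1 by omega, pow_one]
  obtain ⟨X, Y, v, ε, e, hXY, hdis, he, hX, hY, hv, hε, hrel, hfix, htrans⟩ :=
    BlockChar.Cyclic.exists_exceptional hM ha hB hBD hD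
  have hg' : Nat.card G / p ^ (Nat.card G).factorization p = Nat.card G / p := by rw [ha, pow_one]
  have hYne : Y.Nonempty := Set.nonempty_coe_sort.1 (Nat.card_pos_iff.1 (Nat.pos_of_ne_zero fun h => by
    rw [h, mul_zero] at hY
    have := hp.two_le
    omega)).1
  have hmemX : ∀ χ ∈ B, χ ∉ Y → χ ∈ X := fun χ hχ hn =>
    (show χ ∈ X ∪ Y from hXY ▸ hχ).resolve_right hn
  refine ⟨Y, hXY ▸ Set.subset_union_right, hYne, fun θ hθ ψ => ?_, fun χ hχ hn ψ hψ => ?_,
    ⟨e, ?_⟩, ?_, fun χ => if χ ∈ Y then ε else v χ, fun χ hχ => ?_, fun x hx θ hθ => ?_⟩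
  · rw [BlockChar.Cyclic.exists_pConj_iff hp θ ψ]
    constructor
    · rintro ⟨k, hk, hk1, hψ⟩
      exact (hfix k θ ψ hk (hg' ▸ hk1) hψ).2 hθ
    · intro hψ
      obtain ⟨k, hk, hk1, h⟩ := htrans θ hθ ψ hψ
      exact ⟨k, hk, by rw [hg']; exact hk1, h⟩
  · obtain ⟨k, hk, hk1, h⟩ := (BlockChar.Cyclic.exists_pConj_iff hp χ ψ).1 hψ
    exact (hfix k χ ψ hk (hg' ▸ hk1) h).1 (hmemX χ hχ hn)
  · rw [mul_comm]; exact hY.symm
  · have hYpos : 0 < Nat.card Y := Nat.card_pos_iff.2 ⟨hYne.to_subtype, inferInstance⟩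
    rw [hXY, Nat.card_coe_set_eq, Set.ncard_union_eq hdis (Set.toFinite _) (Set.toFinite _),
      ← Nat.card_coe_set_eq, ← Nat.card_coe_set_eq, hX, ← hY, Nat.mul_div_cancel _ hYpos, add_comm]
  · dsimp only
    split_ifs with h
    · exact hε
    · exact hv χ (hmemX χ hχ h)
  · have hdiff : B \ Y = X := by
      rw [hXY, Set.union_sdiff_right, hdis.sdiff_eq_left]
    dsimp only
    rw [hdiff, if_pos hθ, add_comm, ← hrel θ hθ x hx]
    congr 1
    refine finsum_mem_congr rfl fun χ hχ => ?_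
    rw [if_neg fun h => Set.disjoint_left.1 hdis hχ h]

end Cfsg.Agent.S4507
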