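import Mathlib
import Cfsg.Statements.S4508
import Cfsg.Agent.BlockThms.SelfCentralPrime.DegreeSub

set_option autoImplicit false
open Cfsg

namespace Cfsg.Agent.S4508

open Cfsg.Agent Cfsg.Agent.BlockThms.SelfCentralPrime


/-- Let the finite group G contain an element x of prime order p with C_G(x) = ⟨x⟩, and let t be the number of conjugacy classes of elements of order p. If G has an irreducible character of degree p − 1, then t is even or the commutator subgroup has even index. -/
theorem result {G : Type*} [Group G] [Finite G] (p : ℕ) (hp : p.Prime) (x : G) (hx : orderOf x = p) (hC : Subgroup.centralizer ({x} : Set G) = Subgroup.zpowers x) (t : ℕ) (ht : Nat.card {C : ConjClasses G // ∃ g ∈ C.carrier, orderOf g = p} = t) (χ : Cfsg.IrrCharacter G) (hχ : Cfsg.charDegree (χ : G → ℂ) + 1 = p) : Even t ∨ Even (commutator G).index := by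
  classical
  have := Fintype.ofFinite G
  have := Fact.mk hp
  obtain ⟨P, hP⟩ := exists_sylow hp hx hC
  have hcard : Nat.card (P : Subgroup G) = p := by rw [hP, Nat.card_zpowers, hx]
  have hS : BlockThms.OrderP.Setup P ((Subgroup.centralizer (P : Set G)).relIndex
      (Subgroup.normalizer (P : Set G))) := ⟨hcard, rfl⟩
  have hCP : Subgroup.centralizer (P : Set G) = (P : Subgroup G) := by
    have hxP : x ∈ (P : Subgroup G) := hP ▸ Subgroup.mem_zpowers x
    have hx1 : x ≠ 1 := fun h => hp.ne_one (by rw [← hx, h, orderOf_one])
    rw [← hS.centralizer_eq hxP hx1, hC, hP]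
  have hcl := card_classes hS hCP
  rw [ht] at hcl
  by_cases hp2 : p = 2
  · subst hp2
    right
    have hcyc : IsCyclic (P : Subgroup G) := by rw [hP]; infer_instance
    have hc := HSub.hasNormalPComplement_of_cyclic P (fun q hq _ => hq.two_le) hcyc
    obtain ⟨N, hN, hcop, k, hk⟩ := Fusion.hasNormalPComplement_iff_exists.1 hc
    have h2G : 2 ∣ Nat.card G := hx ▸ orderOf_dvd_natCard x
    have hidx : N.index = 2 := by
      have hk1 : k ≤ 1 := by
        have h2 := hS.factorization.2
        rw [← N.card_mul_index, hk, Nat.factorization_mul Nat.card_pos.ne' (pow_ne_zero _ two_ne_zero),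
          Finsupp.add_apply, Nat.prime_two.factorization_pow, Finsupp.single_eq_same] at h2
        omega
      have hk0 : k ≠ 0 := fun h => by
        rw [← N.card_mul_index, hk, h, pow_zero, mul_one] at h2G
        exact (Nat.prime_two.coprime_iff_not_dvd.1 hcop.symm) h2G
      rw [hk, show k = 1 by omega, pow_one]
    refine even_iff_two_dvd.2 (hidx ▸ Subgroup.index_dvd_of_le ?_)
    rw [commutator_def, Subgroup.commutator_le]
    intro a _ b _
    rw [commutatorElement_def]
    simp only [Subgroup.mul_mem_iff_of_index_two hidx, inv_mem_iff]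
    tauto
  obtain ⟨M, hM⟩ := Blocks.exists_isPModular p hp
  exact even_or_even hS hCP hp2 hχ hM hcl

end Cfsg.Agent.S4508
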