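import Cfsg.Statements.S4509
import Cfsg.Agent.Char.SelfCentralizing
-- import your own Cfsg.Agent.* helpers here

set_option autoImplicit false
open Cfsg

namespace Cfsg.Agent.S4509

/-- Let the finite group G contain an element x of prime order p with C_G(x) = ⟨x⟩; let t be the number of conjugacy classes of elements of order p and 1 + n·p the number of subgroups of order p. Then G has a normal subgroup of order 1 + n·p if and only if either t = p − 1, or t < p − 1 and G″ ≠ G′. Moreover, if t = p − 1 then G′ has order 1 + n·p and G/G′ is cyclic of order p; and if t < p − 1 and G″ ≠ G′ then G″ has order 1 + n·p and G′ has order p·(1 + n·p). -/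
theorem result {G : Type*} [Group G] [Finite G] (p : ℕ) (hp : p.Prime) (x : G) (hx : orderOf x = p) (hC : Subgroup.centralizer ({x} : Set G) = Subgroup.zpowers x) (t : ℕ) (ht : Nat.card {C : ConjClasses G // ∃ g ∈ C.carrier, orderOf g = p} = t) (n : ℕ) (hn : Nat.card {H : Subgroup G // Nat.card H = p} = 1 + n * p) : ((∃ S : Subgroup G, S.Normal ∧ Nat.card S = 1 + n * p) ↔ (t = p - 1 ∨ (t < p - 1 ∧ derivedSeries G 2 ≠ derivedSeries G 1))) ∧ (t = p - 1 → Nat.card (commutator G) = 1 + n * p ∧ IsCyclic (G ⧸ commutator G) ∧ (commutator G).index = p) ∧ (t < p - 1 → derivedSeries G 2 ≠ derivedSeries G 1 → Nat.card (derivedSeries G 2) = 1 + n * p ∧ Nat.card (commutator G) = p * (1 + n * p)) := by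
  haveI := Fact.mk hp
  have h : Cfsg.Agent.Char.SelfCent.Hyp p x := ⟨hx, hC⟩
  have hc := h.count
  rw [ht] at hc
  have hp2 := hp.two_le
  have he : t = p - 1 → h.e = 1 := fun heq => by
    rw [heq] at hc
    exact Nat.eq_of_mul_eq_mul_left (n := p - 1) (by omega) (by rw [hc, mul_one])
  have he' : t < p - 1 → h.e ≠ 1 := fun hlt e1 => by
    rw [e1, mul_one] at hc; omega
  refine ⟨⟨?_, ?_⟩, fun heq => ?_, fun hlt hne => ?_⟩
  · rintro ⟨S, hS, hcard⟩
    have hle : t ≤ p - 1 := hc ▸ Nat.le_mul_of_pos_right t h.e_pos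
    rcases hle.eq_or_lt with heq | hlt
    · exact Or.inl heq
    refine Or.inr ⟨hlt, fun heq => ?_⟩
    have hnd : ¬ p ∣ Nat.card S := by
      rw [hcard, Nat.dvd_add_left (dvd_mul_left p n)]
      exact hp.not_dvd_one
    have h2 := h.derivedSeries_two_le S (h.sup_eq_top_of_card S hnd (hcard.trans hn.symm))
    rw [heq, derivedSeries_one] at h2
    exact hnd ((h.dvd_card_iff S).2 (h2 (h.mem_commutator_of_ne_one (he' hlt))))
  · rintro (heq | ⟨hlt, hne⟩)
    · exact ⟨commutator G, inferInstance, (h.commutator_of_e_eq_one (he heq)).1.trans hn⟩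
    · exact ⟨derivedSeries G 2, derivedSeries_normal G 2, (h.card_derived (he' hlt) hne).1.trans hn⟩
  · obtain ⟨h1, h2, -⟩ := h.commutator_of_e_eq_one (he heq)
    exact ⟨h1.trans hn, isCyclic_of_prime_card (p := p) h2, h2⟩
  · exact hn ▸ h.card_derived (he' hlt) hne

end Cfsg.Agent.S4509
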