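import Cfsg.Statements.S4511
import Cfsg.Agent.Blocks.Rank

set_option autoImplicit false
open Cfsg

namespace Cfsg.Agent.S4511

/-- Brauer's count of the irreducible characters in a block by subsections. Let M be a maximal ideal of the algebraic integers containing the prime p, B a p-block of the finite group G, and X a set of representatives of the conjugacy classes of p-elements of G (elements of p-power order, the identity included: every p-element is conjugate to exactly one member of X). Then the number of irreducible characters in B is the sum, over x ∈ X and over the blocks b of C_G(x) that induce B, of the p-regular rank of b (the number of irreducible Brauer characters of b, here the dimension of the span of the restrictions of the members of b to the p-regular elements of C_G(x)). -/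
theorem result {G : Type*} [Group G] [Finite G] (p : ℕ) (M : Ideal Cfsg.AlgInt) (hM : Cfsg.IsPModular p M)
    (B : Set (Cfsg.IrrCharacter G)) (hB : Cfsg.IsPBlock M B) (X : Finset G)
    (hX : ∀ x ∈ X, ∃ k : ℕ, orderOf x = p ^ k)
    (hXrep : ∀ g : G, (∃ k : ℕ, orderOf g = p ^ k) → ∃! x, x ∈ X ∧ IsConj g x) :
    Nat.card B = ∑ x ∈ X, ∑ᶠ b ∈ {b : Set (Cfsg.IrrCharacter ↥(Subgroup.centralizer ({x} : Set G))) | Cfsg.IsInducedBlock M (Subgroup.centralizer ({x} : Set G)) b B},
      Cfsg.blockRank p b := by
  classical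
  have := Fintype.ofFinite G
  have hp := hM.1
  set S := B.toFinite.toFinset with hS
  set F : G → ℂ := fun g => ∑ χ ∈ S, (χ : G → ℂ) g * starRingEnd ℂ ((χ : G → ℂ) g) with hFdef
  have hFc : Cfsg.IsClassFunction G F := fun g k => by
    simp only [hFdef]
    exact Finset.sum_congr rfl fun χ _ => by rw [Char.isClassFunction_of_isIrr χ.2 g k]
  have h1 : ∑ g, F g = (Nat.card G : ℂ) * (Nat.card B : ℂ) := by
    simp only [hFdef]
    rw [Finset.sum_comm, Finset.sum_congr rfl (g := fun _ => (Nat.card G : ℂ)) fun χ _ => ?_,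
      Finset.sum_const, nsmul_eq_mul, hS, ← Set.ncard_eq_toFinset_card,
      ← Nat.card_coe_set_eq, mul_comm]
    rw [Finset.sum_congr rfl fun g _ => mul_comm ((χ : G → ℂ) g) _, Blocks.sum_conj_mul_eq,
      if_pos rfl]
  rw [Blocks.sum_by_sections hp hXrep hFc] at h1
  have h2 : ∀ x ∈ X, ((Subgroup.centralizer ({x} : Set G)).index : ℂ) *
      ∑ g ∈ Finset.univ.filter (fun g => Blocks.pPartOf p g = x), F g = (Nat.card G : ℂ) *
      ((∑ᶠ b ∈ {b : Set (Cfsg.IrrCharacter ↥(Subgroup.centralizer ({x} : Set G))) |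
        Cfsg.IsInducedBlock M (Subgroup.centralizer ({x} : Set G)) b B},
          Cfsg.blockRank p b : ℕ) : ℂ) := by
    intro x hxX
    set C := Subgroup.centralizer ({x} : Set G) with hC
    set 𝒜 := {b : Set (Cfsg.IrrCharacter C) | Cfsg.IsInducedBlock M C b B} with h𝒜
    have hx := hX x hxX
    obtain ⟨k, hk⟩ := hx
    have hP : IsPGroup p (Subgroup.zpowers x) :=
      IsPGroup.of_card (n := k) (by rw [Nat.card_zpowers, hk])
    have hH' : ∀ c : G, c ∈ C ↔ ∀ u ∈ Subgroup.zpowers x, u * c = c * u := by
      intro c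
      rw [hC, Blocks.mem_centralizer_iff_comm]
      exact ⟨fun h u ⟨i, hi⟩ => hi ▸ ((show Commute x c from h).zpow_left i).eq,
        fun h => h x (Subgroup.mem_zpowers x)⟩
    have hU : Blocks.inducing M C B = ⋃₀ 𝒜 := by
      ext ψ
      constructor
      · intro h
        exact ⟨_, (Blocks.mem_inducing_iff hM hP hH' hB (Blocks.isPBlock_blockOf ψ)
          (Blocks.mem_blockOf_self hM ψ)).1 h, Blocks.mem_blockOf_self hM ψ⟩
      · rintro ⟨b, hb, hψ⟩
        exact (Blocks.mem_inducing_iff hM hP hH' hB hb.1 hψ).2 hb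
    have hdisj : 𝒜.PairwiseDisjoint id := fun b hb b' hb' hne => Set.disjoint_left.2
      fun ψ h h' => hne ((Blocks.IsPBlock.eq_blockOf hM hb.1 h).trans
        (Blocks.IsPBlock.eq_blockOf hM hb'.1 h').symm)
    have h3 : ∑ g ∈ Finset.univ.filter (fun g => Blocks.pPartOf p g = x), F g =
        (Nat.card C : ℂ) * ∑ b ∈ 𝒜.toFinite.toFinset, (Cfsg.blockRank p b : ℂ) := by
      rw [Blocks.sum_pPart_fiber hp ⟨k, hk⟩ F, Finset.mul_sum,
        Finset.sum_congr rfl fun b hb =>
          Blocks.card_mul_blockRank hM (𝒜.toFinite.mem_toFinset.1 hb).1,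
        Finset.sum_comm]
      refine Finset.sum_congr rfl fun s _ => ?_
      by_cases hs : p ∣ orderOf s
      · simp [hs]
      · simp only [if_neg hs]
        have h := Blocks.section_identity hM ⟨k, hk⟩ (Blocks.mem_centralizer_iff_comm x) hB hs hs
        rw [finsum_mem_eq_finite_toFinset_sum _ B.toFinite, hU,
          finsum_mem_sUnion hdisj 𝒜.toFinite (fun b _ => b.toFinite),
          finsum_mem_eq_finite_toFinset_sum _ 𝒜.toFinite] at h
        exact h
    rw [h3, ← mul_assoc, ← Nat.cast_mul, Subgroup.index_mul_card,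
      finsum_mem_eq_finite_toFinset_sum _ 𝒜.toFinite, Nat.cast_sum]
  rw [Finset.sum_congr rfl h2, ← Finset.mul_sum, ← Nat.cast_sum] at h1
  exact_mod_cast (mul_left_cancel₀ (Nat.cast_ne_zero.2 Nat.card_pos.ne') h1).symm

end Cfsg.Agent.S4511
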