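import Cfsg.Statements.S4512
import Cfsg.Agent.BlockChar.KleinRank
import Cfsg.Agent.S0948
-- import your own Cfsg.Agent.* helpers here

set_option autoImplicit false
open Cfsg

namespace Cfsg.Agent.S4512

/-- If G is a finite group with a Sylow 2-subgroup that is a Klein four-group and a single conjugacy class of involutions, then its principal 2-block (relative to a maximal ideal M of the algebraic integers containing 2) has 2-regular rank 3: the restrictions of its irreducible characters to the elements of odd order span a space of dimension 3 (it has three irreducible Brauer characters). -/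
theorem result {G : Type*} [Group G] [Finite G] (M : Ideal Cfsg.AlgInt) (hM : Cfsg.IsPModular 2 M) (P : Sylow 2 G)
    (hP : Nat.card P = 4) (hexp : ∀ x : P, x * x = 1)
    (hone : ∀ s t : G, orderOf s = 2 → orderOf t = 2 → IsConj s t) :
    Cfsg.blockRank 2 (Cfsg.principalBlock M G) = 3 := by
  classical
  have := Fintype.ofFinite G
  have hexp2 : Monoid.exponent (P : Subgroup G) = 2 := by
    have hdvd : Monoid.exponent (P : Subgroup G) ∣ 2 :=
      Monoid.exponent_dvd_of_forall_pow_eq_one fun z => by rw [sq]; exact hexp z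
    refine ((Nat.dvd_prime Nat.prime_two).1 hdvd).resolve_left fun h1 => ?_
    have := Monoid.exp_eq_one_iff.1 h1
    have := Finite.card_le_one_iff_subsingleton.2 this
    rw [hP] at this
    omega
  obtain ⟨ζ₂, ζ₃, ζ₄, ε, -, h2, h3, h23, h24, h34, hB, hval, -⟩ :=
    Agent.S0948.result M hM P { card_four := hP, exponent_two := hexp2 } hone
  refine Agent.BlockChar.blockRank_principal_klein hM P hP hexp hone ?_
  let χ₀ : Cfsg.IrrCharacter G := ⟨fun _ => 1, Agent.Char.isIrrCharacter_one⟩
  obtain ⟨z, hz⟩ := exists_prime_orderOf_dvd_card' (G := G) 2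
    (((hP ▸ (by norm_num : (2 : ℕ) ∣ 4)) : 2 ∣ Nat.card (P : Subgroup G)).trans
      (Subgroup.card_subgroup_dvd_card _))
  have h40 : χ₀ ≠ ζ₄ := fun e => by
    have h := (hval z hz).2.2
    rw [← e] at h
    norm_num [χ₀] at h
  have hs : Cfsg.principalBlock M G = (({χ₀, ζ₂, ζ₃, ζ₄} : Finset (Cfsg.IrrCharacter G)) : Set _) := by
    rw [hB]
    ext χ
    simp [χ₀, Subtype.ext_iff]
  rw [hs, Nat.card_coe_set_eq, Set.ncard_coe_finset]
  have e2 : χ₀ ≠ ζ₂ := fun e => h2 (congrArg Subtype.val e).symm
  have e3 : χ₀ ≠ ζ₃ := fun e => h3 (congrArg Subtype.val e).symm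
  simp [e2, e3, h40, h23, h24, h34]

end Cfsg.Agent.S4512
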