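import Cfsg.Statements.S4514
import Cfsg.Agent.EqualDrop.Forward
import Cfsg.Agent.EqualDrop.Reverse
import Cfsg.Agent.BlockThms.NormalCor
import Cfsg.Agent.Core.PCore

set_option autoImplicit false
open Cfsg

namespace Cfsg.Agent.S4514

open Cfsg.Agent Cfsg.Agent.Blocks

/-- The principal blocks of a group and of its quotient by a subgroup of odd order. -/
theorem drop_quotient_iff {G : Type*} [Group G] [Fintype G] {M : Ideal Cfsg.AlgInt}
    (hM : Cfsg.IsPModular 2 M) (N : Subgroup G) [N.Normal] [Fintype (G ⧸ N)]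
    (hN : ¬ 2 ∣ Nat.card N) (u : G) (k : ℂ) :
    (∀ χ : Cfsg.IrrCharacter G, χ ∈ Cfsg.principalBlock M G → (χ : G → ℂ) ≠ (fun _ => 1) →
        (χ : G → ℂ) 1 - (χ : G → ℂ) u = k) ↔
      ∀ χ ∈ EqualDrop.prinRest M (G ⧸ N),
        (χ : G ⧸ N → ℂ) 1 - (χ : G ⧸ N → ℂ) (u : G ⧸ N) = k := by
  constructor
  · intro h χ hχ
    obtain ⟨hB, hne⟩ := EqualDrop.mem_prinRest.1 hχ
    exact h ⟨_, Char.isIrrCharacter_mk N χ.2⟩
      (BlockThms.sameBlock_comp_mk N hM (triv (G ⧸ N)) χ hB) fun e => hne (funext fun x => by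
        obtain ⟨g, rfl⟩ := QuotientGroup.mk_surjective x
        exact congrFun e g)
  · intro h χ hχ hne
    obtain ⟨ψ, he, hψ⟩ := BlockThms.exists_inflated N hM hN (triv (G ⧸ N)) χ hχ
    have := h ψ (EqualDrop.mem_prinRest.2 ⟨hψ, fun e => hne (by rw [he, e]; rfl)⟩)
    rw [he]
    exact this

/-- In a group of order two the drop at the involution is two. -/
theorem drop_of_card_two {Q : Type*} [Group Q] [Fintype Q] (hQ : Nat.card Q = 2) {v : Q}
    (hv : v ≠ 1) (χ : Cfsg.IrrCharacter Q) (hχ : (χ : Q → ℂ) ≠ fun _ => 1) :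
    (χ : Q → ℂ) 1 - (χ : Q → ℂ) v = 2 := by
  classical
  have h1 := Char.second_orthogonality (1 : Q) v
  have h3 := Char.sum_sq_degree (G := Q)
  rw [if_neg (by rw [isConj_one_right]; exact hv)] at h1
  rw [hQ, ← Finset.add_sum_erase _ _ (Finset.mem_univ (triv Q))] at h3
  rw [← Finset.add_sum_erase _ _ (Finset.mem_univ (triv Q))] at h1
  simp only [EqualDrop.degree_eq] at h1 h3
  rw [show ((triv Q : Cfsg.IrrCharacter Q) : Q → ℂ) v = 1 from rfl,
    show Cfsg.charDegree ((triv Q : Cfsg.IrrCharacter Q) : Q → ℂ) = 1 from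
      Blocks.charDegree_eq (by simp [triv]), Nat.cast_one] at h1
  rw [show Cfsg.charDegree ((triv Q : Cfsg.IrrCharacter Q) : Q → ℂ) = 1 from
      Blocks.charDegree_eq (by simp [triv]), Nat.cast_one, one_pow] at h3
  set E := Finset.univ.erase (triv Q) with hE
  have h3' : ∑ ψ ∈ E, Cfsg.charDegree (ψ : Q → ℂ) ^ 2 = 1 := by
    have : ((∑ ψ ∈ E, Cfsg.charDegree (ψ : Q → ℂ) ^ 2 : ℕ) : ℂ) = ((1 : ℕ) : ℂ) := by
      push_cast at h3 ⊢
      linear_combination h3
    exact_mod_cast this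
  have hpos : ∀ ψ : Cfsg.IrrCharacter Q, 1 ≤ Cfsg.charDegree (ψ : Q → ℂ) ^ 2 := fun ψ => by
    obtain ⟨d, hd0, -, hd⟩ := EqualDrop.exists_degree ψ
    rw [hd]
    exact Nat.one_le_pow _ _ hd0
  have hcard : E.card ≤ 1 := by
    have h := Finset.card_nsmul_le_sum E (fun ψ => Cfsg.charDegree (ψ : Q → ℂ) ^ 2) 1
      fun ψ _ => hpos ψ
    rw [h3', smul_eq_mul, mul_one] at h
    exact h
  have hmem : χ ∈ E := Finset.mem_erase.2 ⟨fun e => hχ (congrArg Subtype.val e), Finset.mem_univ _⟩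
  have hsing : E = {χ} := Finset.eq_singleton_iff_unique_mem.2
    ⟨hmem, fun ψ hψ => Finset.card_le_one.1 hcard ψ hψ χ hmem⟩
  rw [hsing, Finset.sum_singleton] at h1 h3'
  have hd : Cfsg.charDegree (χ : Q → ℂ) = 1 := by
    simpa using h3'
  rw [hd, Nat.cast_one, one_mul, map_one, one_mul] at h1
  have h4 : (χ : Q → ℂ) v = -1 := by
    have := congrArg (starRingEnd ℂ) h1
    simp only [map_add, map_one, map_zero, Complex.conj_conj] at this
    linear_combination this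
  rw [EqualDrop.degree_eq, hd, h4]
  norm_num


/-- Let G be a finite group, u an element of G, and fix a maximal ideal M of the algebraic integers containing 2 (defining the 2-blocks). There is a complex number k with χ(1) − χ(u) = k for every non-principal irreducible character χ in the principal 2-block if and only if one of the following holds: u lies in O(G); or G/O(G) has order 2 and u ∉ O(G); or G/O(G) ≅ PSL(2, 2ⁿ) for some n ≥ 2, u ∉ O(G) and u² ∈ O(G). -/
theorem result {G : Type*} [Group G] [Finite G] (M : Ideal Cfsg.AlgInt) (hM : Cfsg.IsPModular 2 M) (u : G) :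
    (∃ k : ℂ, ∀ χ : Cfsg.IrrCharacter G, χ ∈ Cfsg.principalBlock M G → (χ : G → ℂ) ≠ (fun _ => 1) →
        (χ : G → ℂ) 1 - (χ : G → ℂ) u = k) ↔
      (u ∈ Cfsg.oddCore G ∨ (Nat.card (G ⧸ Cfsg.oddCore G) = 2 ∧ u ∉ Cfsg.oddCore G) ∨
        (∃ (F : Type) (_ : Field F) (_ : Fintype F) (n : ℕ), 2 ≤ n ∧ Fintype.card F = 2 ^ n ∧
          Nonempty (G ⧸ Cfsg.oddCore G ≃* Matrix.ProjectiveSpecialLinearGroup (Fin 2) F) ∧ u ∉ Cfsg.oddCore G ∧ u ^ 2 ∈ Cfsg.oddCore G)) := by
  have : Fact (Nat.Prime 2) := ⟨Nat.prime_two⟩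
  have := Fintype.ofFinite G
  set N := Cfsg.oddCore G with hNdef
  have hN : ¬ 2 ∣ Nat.card N :=
    Nat.prime_two.coprime_iff_not_dvd.1 (Core.coprime_card_pPrimeCore (G := G) (p := 2)).symm
  have := Fintype.ofFinite (G ⧸ N)
  simp only [drop_quotient_iff hM N hN u]
  constructor
  · rintro ⟨k, hk⟩
    by_cases hu : u ∈ N
    · exact Or.inl hu
    right
    have hv : (u : G ⧸ N) ≠ 1 := fun e => hu ((QuotientGroup.eq_one_iff u).1 e)
    rcases EqualDrop.forward hM (Core.pPrimeCore_quotient_eq_bot (p := 2) (G := G)) hv hk with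
      h | ⟨F, hF, hFfin, n, hn, hcard, hiso, hsq⟩
    · exact Or.inl ⟨h, hu⟩
    · refine Or.inr ⟨F, hF, hFfin, n, hn, hcard, hiso, hu, ?_⟩
      rw [← QuotientGroup.eq_one_iff, pow_two]
      exact hsq
  · rintro (hu | ⟨hc, hu⟩ | ⟨F, hF, hFfin, n, hn, hcard, ⟨e⟩, hu, hu2⟩)
    · refine ⟨0, fun χ _ => ?_⟩
      rw [(QuotientGroup.eq_one_iff u).2 hu, sub_self]
    · exact ⟨2, fun χ hχ => drop_of_card_two hc (fun e => hu ((QuotientGroup.eq_one_iff u).1 e)) χ
        (EqualDrop.mem_prinRest.1 hχ).2⟩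
    · refine ⟨(2 : ℂ) ^ n, fun χ hχ => ?_⟩
      refine EqualDrop.drop_of_psl hn hcard e χ (EqualDrop.mem_prinRest.1 hχ).2
        (orderOf_eq_prime ?_ fun e => hu ((QuotientGroup.eq_one_iff u).1 e))
      exact (QuotientGroup.eq_one_iff _).2 hu2

end Cfsg.Agent.S4514
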