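import Cfsg.Statements.S4518
import Cfsg.Agent.Char.Clifford
import Cfsg.Agent.Char.Galois
-- import your own Cfsg.Agent.* helpers here

set_option autoImplicit false
open Cfsg

namespace Cfsg.Agent.S4518

/-- Let N be a normal subgroup of the finite group G whose index is not divisible by the prime p, and let k be coprime to the order of G with k ^ (p ^ e) ≡ 1 modulo the order of G for some e (so g ↦ g ^ k induces a field automorphism of p-power order on character values). If an irreducible character χ of G satisfies χ (g ^ k) = χ g for all g, then every irreducible constituent θ of the restriction of χ to N satisfies θ (n ^ k) = θ n for all n. -/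
theorem result {G : Type*} [Group G] [Fintype G] (p : ℕ) [Fact p.Prime] (N : Subgroup G) [N.Normal] [Fintype N] (hidx : ¬ p ∣ N.index) (k e : ℕ) (hk : Nat.Coprime k (Nat.card G)) (hke : k ^ (p ^ e) ≡ 1 [MOD Nat.card G]) (χ : Cfsg.IrrCharacter G) (hχ : ∀ g : G, (χ : G → ℂ) (g ^ k) = (χ : G → ℂ) g) (θ : Cfsg.IrrCharacter N) (hθ : Cfsg.classInner (fun n : N => (χ : G → ℂ) n) (θ : N → ℂ) ≠ 0) : ∀ n : N, (θ : N → ℂ) (n ^ k) = (θ : N → ℂ) n := by
  classical
  obtain ⟨σ, hσ⟩ := Char.exists_galois (Nat.card G) k Nat.card_pos.ne' hk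
  have hN : ∀ (ψ : N → ℂ), Cfsg.IsCharacter N ψ → ∀ n : N, σ (ψ n) = ψ (n ^ k) := fun ψ hψ n =>
    Char.galois_apply_pow σ hσ hψ ((orderOf_dvd_natCard n).trans (Subgroup.card_subgroup_dvd_card N))
  let O := Char.orbit (G := G) (θ : N → ℂ)
  have hirr : ∀ ψ ∈ O, Cfsg.IsIrrCharacter N ψ := fun ψ hψ => by
    obtain ⟨g, rfl⟩ := Char.mem_orbit.1 hψ
    exact Char.isIrr_conjFun g θ.2
  have hmem : ∀ ψ ∈ O, (fun n => σ (ψ n)) ∈ O := by
    intro ψ hψ
    obtain ⟨g, rfl⟩ := Char.mem_orbit.1 hψ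
    have hcf := Char.isClassFunction_of_isIrr χ.2
    have h1 : classInner (fun n : N => (χ : G → ℂ) n) (Char.conjFun g (θ : N → ℂ)) ≠ 0 := by
      have := Char.classInner_conjFun g (fun n : N => (χ : G → ℂ) n) (θ : N → ℂ)
      rw [Char.conjFun_res g hcf] at this
      rwa [this]
    refine Char.constituent_mem_orbit χ.2 θ.2 (Char.isIrr_map σ (hirr _ hψ)) hθ ?_
    have h2 := Char.classInner_map σ (χ := fun n : N => (χ : G → ℂ) n)
      (Char.IsIrr.isCharacter (hirr _ hψ))
    have h3 : (fun n : N => σ ((χ : G → ℂ) n)) = fun n : N => (χ : G → ℂ) n := funext fun n => by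
      rw [Char.galois_apply_pow σ hσ (Char.IsIrr.isCharacter χ.2) (orderOf_dvd_natCard (n : G)), hχ]
    rw [h3] at h2
    rw [h2]
    exact (map_ne_zero σ).2 h1
  let f : O → O := fun ψ => ⟨_, hmem ψ ψ.2⟩
  have hf : Function.Injective f := fun a b hab => Subtype.ext (funext fun n =>
    σ.injective (congrFun (congrArg Subtype.val hab) n))
  let π : Equiv.Perm O := Equiv.ofBijective f (Finite.injective_iff_bijective.1 hf)
  have hit : ∀ (j : ℕ) (ψ : O) (n : N), (((π ^ j) ψ : O) : N → ℂ) n = (ψ : N → ℂ) (n ^ k ^ j) := by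
    intro j
    induction j with
    | zero => intro ψ n; simp
    | succ j ih =>
      intro ψ n
      rw [pow_succ, Equiv.Perm.mul_apply, ih]
      show σ ((ψ : N → ℂ) (n ^ k ^ j)) = _
      rw [hN _ (Char.IsIrr.isCharacter (hirr _ ψ.2)), ← pow_mul, ← pow_succ]
  have hπ : π ^ p ^ e = 1 := Equiv.ext fun ψ => Subtype.ext (funext fun n => by
    rw [hit, Equiv.Perm.one_apply, pow_eq_pow_iff_modEq.2 (hke.of_dvd
      ((orderOf_dvd_natCard n).trans (Subgroup.card_subgroup_dvd_card N))), pow_one])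
  have hcard : ¬ p ∣ Nat.card O := by
    rw [Nat.card_eq_finsetCard, Char.card_orbit]
    exact fun h => hidx (h.trans (Subgroup.index_dvd_of_le
      (Char.le_inertia (Char.isClassFunction_of_isIrr θ.2))))
  obtain ⟨φ, hφ⟩ := Equiv.Perm.exists_fixed_point_of_prime (p := p) (n := e)
    (by rwa [← Nat.card_eq_fintype_card]) hπ
  have hfix : ∀ n : N, (φ : N → ℂ) (n ^ k) = (φ : N → ℂ) n := fun n => by
    have h := hit 1 φ n
    rw [pow_one, pow_one, hφ] at h
    exact h.symm
  obtain ⟨g, hg⟩ := Char.mem_orbit.1 φ.2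
  have hback : (θ : N → ℂ) = Char.conjFun g⁻¹ (φ : N → ℂ) := by
    rw [← hg, Char.conjFun_inv_cancel]
  intro n
  rw [hback]
  simp only [Char.conjFun_apply]
  refine Eq.trans (congrArg _ (Subtype.ext ?_)) (hfix _)
  simp only [SubmonoidClass.coe_pow, conj_pow]

end Cfsg.Agent.S4518
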