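import Cfsg.Statements.S4530
import Cfsg.Agent.Blocks.Tame2.Main

set_option autoImplicit false
open Cfsg

namespace Cfsg.Agent.S4530

/-- Let B be a 2-block of the finite group G (relative to a maximal ideal M of the algebraic integers containing 2) whose defect group D is generalized quaternion of order 2 ^ n, n ≥ 3. Then its 2-regular rank l is between 1 and 3, the number of irreducible characters in B is l + 2 ^ (n - 2) + 2, exactly four members have height zero, and every other member has height one or height n - 2; when n ≥ 4 exactly 2 ^ (n - 2) - 1 members have height one. -/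
theorem result {G : Type*} [Group G] [Finite G] (M : Ideal Cfsg.AlgInt) (hM : Cfsg.IsPModular 2 M) (B : Set (Cfsg.IrrCharacter G)) (hB : Cfsg.IsPBlock M B) (D : Subgroup G) (hD : Cfsg.IsDefectGroup 2 M B D) (n : ℕ) (hn : 3 ≤ n) (hq : Nonempty (D ≃* QuaternionGroup (2 ^ (n - 2)))) : 1 ≤ Cfsg.blockRank 2 B ∧ Cfsg.blockRank 2 B ≤ 3 ∧ Nat.card B = Cfsg.blockRank 2 B + 2 ^ (n - 2) + 2 ∧ Nat.card {χ : Cfsg.IrrCharacter G // χ ∈ B ∧ Cfsg.blockHeight 2 B (χ : G → ℂ) = 0} = 4 ∧ (∀ χ ∈ B, Cfsg.blockHeight 2 B (χ : G → ℂ) = 0 ∨ Cfsg.blockHeight 2 B (χ : G → ℂ) = 1 ∨ Cfsg.blockHeight 2 B (χ : G → ℂ) = n - 2) ∧ (4 ≤ n → Nat.card {χ : Cfsg.IrrCharacter G // χ ∈ B ∧ Cfsg.blockHeight 2 B (χ : G → ℂ) = 1} = 2 ^ (n - 2) - 1) := by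
  obtain ⟨a, rfl⟩ : ∃ a, n = a + 3 := ⟨n - 3, by omega⟩
  obtain ⟨iso⟩ := hq
  have e : a + 3 - 2 = a + 1 := by omega
  rw [e] at iso ⊢
  obtain ⟨e₀, hmax⟩ := Cfsg.Agent.BrauerPairs.exists_maximal_on hM hB hD
  obtain ⟨u, t, sh⟩ := Cfsg.Agent.Blocks.Tame2.exists_shape_quaternion (a := a) (D := D) iso
  have hQ : (-1 : ℤ) = -1 ∧ t * t = u ^ 2 ^ (a + 1) := sh.hcase.resolve_right fun h => by
    have h1 : (0 : ℤ) < 2 ^ (a + 1) := by positivity
    have := h.2.1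
    omega
  obtain ⟨Q, r, c, -, hl, hl1, hsum, -, hc, -, hcard, h4, hht, hone⟩ :=
    Cfsg.Agent.Blocks.Tame2.invariants hM hmax sh
  have hc0 := hc hQ
  refine ⟨hl1, by omega, by omega, h4, hht, fun h4n => hone (by omega)⟩

end Cfsg.Agent.S4530
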