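import Cfsg.Statements.S4531
import Cfsg.Agent.BlockChar.Tame.Solvable
-- import your own Cfsg.Agent.* helpers here

set_option autoImplicit false
open Cfsg

namespace Cfsg.Agent.S4531

/-- Let the finite group G have a 2-block B (relative to a maximal ideal M of the algebraic integers containing 2) of 2-regular rank three (three irreducible Brauer characters) whose defect group D is dihedral of order 2 ^ n with n ≥ 3 or semidihedral. Then the centre of G has odd order and G is not solvable. -/
theorem result {G : Type*} [Group G] [Finite G] (M : Ideal Cfsg.AlgInt) (hM : Cfsg.IsPModular 2 M) (B : Set (Cfsg.IrrCharacter G)) (hB : Cfsg.IsPBlock M B) (D : Subgroup G) (hD : Cfsg.IsDefectGroup 2 M B D) (hD' : (∃ n : ℕ, 3 ≤ n ∧ Nonempty (D ≃* DihedralGroup (2 ^ (n - 1)))) ∨ Cfsg.IsQuasiDihedral D) (hl : Cfsg.blockRank 2 B = 3) : Odd (Nat.card (Subgroup.center G)) ∧ ¬ Group.IsSolvable G := by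
  obtain ⟨x, y, N, h⟩ : ∃ x y N, Cfsg.Agent.BlockChar.Tame.IsTame D x y N := by
    rcases hD' with ⟨n, hn, ⟨e⟩⟩ | hq
    · obtain ⟨x, y, h, -⟩ := Cfsg.Agent.BlockChar.Tame.exists_tame_of_dihedral hn e
      exact ⟨x, y, _, h⟩
    · exact Cfsg.Agent.BlockChar.Tame.exists_tame_of_quasiDihedral hq
  refine ⟨?_, fun hsol => ?_⟩
  · refine Nat.not_even_iff_odd.1 fun he => ?_
    have : Fact (Nat.Prime 2) := ⟨Nat.prime_two⟩
    obtain ⟨z, hz⟩ := exists_prime_orderOf_dvd_card' (G := Subgroup.center G) 2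
      (even_iff_two_dvd.1 he)
    rw [← Subgroup.orderOf_coe] at hz
    have hz1 : (z : G) ≠ 1 := fun e => by rw [e, orderOf_one] at hz; omega
    have hz2 : (z : G) * z = 1 := by rw [← pow_two, ← hz, pow_orderOf_eq_one]
    have := Cfsg.Agent.BlockChar.Tame.rank_le_two_of_central hM hB hD h z.2 hz1 hz2
    omega
  · have := hsol
    have := Cfsg.Agent.BlockChar.Tame.rank_le_two_of_solvable hM _ G le_rfl B hB D hD x y N h
    omega

end Cfsg.Agent.S4531
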