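import Cfsg.Statements.S4540
import Cfsg.Agent.Blocks.Star.MajorBound

set_option autoImplicit false
open Cfsg

namespace Cfsg.Agent.S4540

/-- Let B be a 2-block of the finite group G (relative to a maximal ideal M of the algebraic integers containing 2) of defect d with defect group D. Let z be an element of D commuting with every element of D, and let b be a block of the centralizer C of z with defect group D that induces B (a major subsection (z, b)). If b has 2-regular rank at most three, then 3·k(B) ≤ 3·k₀(B) + 2·Σ 2 ^ h(χ), where k(B) is the number of members of B, k₀(B) the number of members of height zero, and the sum runs over the members χ of B of positive height h(χ); this bound is at most 3·2 ^ d, so in particular B contains at most 2 ^ d irreducible characters. -/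
theorem result {G : Type*} [Group G] [Finite G] (M : Ideal Cfsg.AlgInt) (hM : Cfsg.IsPModular 2 M) (B : Set (Cfsg.IrrCharacter G)) (hB : Cfsg.IsPBlock M B) (D : Subgroup G) (hD : Cfsg.IsDefectGroup 2 M B D) (z : G) (hzD : z ∈ D) (hzc : ∀ d ∈ D, d * z = z * d) (b : Set (Cfsg.IrrCharacter ↥(Subgroup.centralizer ({z} : Set G)))) (hb : Cfsg.IsInducedBlock M (Subgroup.centralizer ({z} : Set G)) b B) (hbD : Cfsg.IsDefectGroup 2 M b (D.subgroupOf (Subgroup.centralizer ({z} : Set G)))) (hl : Cfsg.blockRank 2 b ≤ 3) : 3 * Nat.card B ≤ 3 * Nat.card {χ : Cfsg.IrrCharacter G // χ ∈ B ∧ Cfsg.blockHeight 2 B (χ : G → ℂ) = 0} + 2 * (∑ᶠ χ ∈ {χ : Cfsg.IrrCharacter G | χ ∈ B ∧ 1 ≤ Cfsg.blockHeight 2 B (χ : G → ℂ)}, 2 ^ Cfsg.blockHeight 2 B (χ : G → ℂ)) ∧ 3 * Nat.card {χ : Cfsg.IrrCharacter G // χ ∈ B ∧ Cfsg.blockHeight 2 B (χ : G → ℂ) = 0} + 2 * (∑ᶠ χ ∈ {χ : Cfsg.IrrCharacter G | χ ∈ B ∧ 1 ≤ Cfsg.blockHeight 2 B (χ : G → ℂ)}, 2 ^ Cfsg.blockHeight 2 B (χ :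 G → ℂ)) ≤ 3 * 2 ^ Cfsg.blockDefect 2 B := by
  classical
  haveI := Fact.mk Nat.prime_two
  haveI := Fintype.ofFinite G
  haveI := Fintype.ofFinite (Subgroup.centralizer ({z} : Set G))
  have hH : ∀ a : G, a ∈ Subgroup.centralizer ({z} : Set G) ↔ z * a = a * z := fun a =>
    Subgroup.mem_centralizer_singleton_iff.trans ⟨Eq.symm, Eq.symm⟩
  have hcard := Cfsg.Agent.BlockChar.card_defectGroup hM hB hD
  have hP : IsPGroup 2 D := IsPGroup.of_card hcard
  obtain ⟨k, hk⟩ := IsPGroup.iff_orderOf.1 hP ⟨z, hzD⟩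
  rw [Subgroup.orderOf_mk] at hk
  have hle : D ≤ Subgroup.centralizer ({z} : Set G) := fun d hd => (hH d).2 (hzc d hd).symm
  have hd : Cfsg.blockDefect 2 b = Cfsg.blockDefect 2 B := by
    refine Nat.pow_right_injective (le_refl 2) ?_
    show 2 ^ Cfsg.blockDefect 2 b = 2 ^ Cfsg.blockDefect 2 B
    rw [← hcard, ← Cfsg.Agent.BlockChar.card_defectGroup hM hb.1 hbD]
    exact Nat.card_congr (Subgroup.subgroupOfEquivOfLe hle).toEquiv
  have h := Cfsg.Agent.Blocks.Star.major_rank_le_three hM hH ⟨k, hk⟩ hb hd hl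
  rw [show Nat.card {χ : Cfsg.IrrCharacter G // χ ∈ B ∧ Cfsg.blockHeight 2 B (χ : G → ℂ) = 0} =
      (B.toFinite.toFinset.filter fun χ : Cfsg.IrrCharacter G =>
        Cfsg.blockHeight 2 B (χ : G → ℂ) = 0).card by
    rw [Nat.card_eq_fintype_card, Fintype.card_subtype]
    congr 1
    ext χ
    simp, finsum_mem_eq_sum_of_inter_support_eq _ (t := B.toFinite.toFinset.filter
      fun χ : Cfsg.IrrCharacter G => 1 ≤ Cfsg.blockHeight 2 B (χ : G → ℂ)) (by ext; simp)]
  refine ⟨?_, h⟩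
  rw [Nat.card_coe_set_eq, Set.ncard_eq_toFinset_card _ B.toFinite]
  have e := Finset.card_filter_add_card_filter_not (s := B.toFinite.toFinset)
    (fun χ : Cfsg.IrrCharacter G => Cfsg.blockHeight 2 B (χ : G → ℂ) = 0)
  have h2 : 2 * (B.toFinite.toFinset.filter fun χ : Cfsg.IrrCharacter G =>
      1 ≤ Cfsg.blockHeight 2 B (χ : G → ℂ)).card ≤
      ∑ χ ∈ B.toFinite.toFinset.filter (fun χ : Cfsg.IrrCharacter G =>
        1 ≤ Cfsg.blockHeight 2 B (χ : G → ℂ)), 2 ^ Cfsg.blockHeight 2 B (χ : G → ℂ) := by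
    rw [mul_comm, ← smul_eq_mul, ← Finset.sum_const]
    exact Finset.sum_le_sum fun χ hχ => Nat.le_self_pow
      (Nat.one_le_iff_ne_zero.1 (Finset.mem_filter.1 hχ).2) 2
  rw [show B.toFinite.toFinset.filter (fun χ : Cfsg.IrrCharacter G =>
      ¬ Cfsg.blockHeight 2 B (χ : G → ℂ) = 0) = B.toFinite.toFinset.filter
      (fun χ : Cfsg.IrrCharacter G => 1 ≤ Cfsg.blockHeight 2 B (χ : G → ℂ)) from
    Finset.filter_congr fun χ _ => Nat.one_le_iff_ne_zero.symm] at e
  omega

end Cfsg.Agent.S4540
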