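import Cfsg.Statements.S4549
import Cfsg.Agent.GalSigma.Basic
import Cfsg.Agent.BlockThms.NormalCor
import Cfsg.Agent.Char.RealOddTools
import Cfsg.Agent.Core.Frattini
import Cfsg.Agent.Fusion.Tate
-- import your own Cfsg.Agent.* helpers here

set_option autoImplicit false
open Cfsg

namespace Cfsg.Agent.S4549

/-- Let G be a finite group and M a maximal ideal of the algebraic integers containing 2. Let k be a natural number with g ^ k = g ^ 3 for every 2-element g and g ^ k = g for every element g of odd order (such k exist); an irreducible character χ is unchanged by g ↦ g ^ k exactly when it is fixed by the field automorphism that cubes the 2-power roots of unity and fixes the roots of unity of odd order. Then G has a normal 2-complement if and only if every member χ of the principal 2-block of odd degree with χ (g ^ k) = χ g for all g has degree one. -/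
theorem result {G : Type*} [Group G] [Finite G] (M : Ideal Cfsg.AlgInt) (hM : Cfsg.IsPModular 2 M) (k : ℕ) (hk₁ : ∀ g : G, (∃ j : ℕ, orderOf g = 2 ^ j) → g ^ k = g ^ 3) (hk₂ : ∀ g : G, Odd (orderOf g) → g ^ k = g) : Cfsg.HasNormalPComplement 2 G ↔ ∀ χ ∈ Cfsg.principalBlock M G, Odd (Cfsg.charDegree (χ : G → ℂ)) → (∀ g : G, (χ : G → ℂ) (g ^ k) = (χ : G → ℂ) g) → Cfsg.charDegree (χ : G → ℂ) = 1 := by
  classical
  have := Fintype.ofFinite G
  have := Fact.mk hM.1
  constructor
  · intro hG χ hχ hodd _
    obtain ⟨N, hN, hc, e, he⟩ := Fusion.hasNormalPComplement_iff_exists.1 hG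
    have hNp : ¬ 2 ∣ Nat.card N := (Nat.Prime.coprime_iff_not_dvd hM.1).1 hc.symm
    rw [BlockThms.principalBlock_eq_of_normal_complement hM N hNp ⟨e, he⟩] at hχ
    obtain ⟨φ, hφ, hval⟩ := Char.IsIrr.exists_quotient N χ.2 hχ
    have hq : IsPGroup 2 (G ⧸ N) := IsPGroup.of_card (n := e) (by
      rw [← Subgroup.index_eq_card, he])
    have hd : charDegree φ = charDegree (χ : G → ℂ) := by
      simp only [charDegree, hval 1, QuotientGroup.mk_one]
    have := Fintype.ofFinite (G ⧸ N)
    obtain ⟨f, hf⟩ := Char.RealOddSylow.exists_hom_of_odd hq hφ (hd.symm ▸ hodd)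
    rw [← hd, hf]
    simp [charDegree, Char.RealOddSylow.lin]
  · intro h
    obtain ⟨P⟩ := (inferInstance : Nonempty (Sylow 2 G))
    have := Fintype.ofFinite (P : Subgroup G)
    refine Fusion.hasNormalPComplement_of_inf_pResidual_le_frattini P fun x hx => ?_
    refine ⟨⟨x, hx.1⟩, ?_, rfl⟩
    by_contra hx'
    obtain ⟨K, hK, hxK⟩ : ∃ K : Subgroup (P : Subgroup G), IsCoatom K ∧
        (⟨x, hx.1⟩ : (P : Subgroup G)) ∉ K := by
      by_contra hne
      push Not at hne
      exact hx' (Subgroup.mem_iInf.2 fun K => Subgroup.mem_iInf.2 fun hK => hne K hK)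
    obtain ⟨-, hK2⟩ := Core.index_eq_of_isCoatom P.2 hK
    -- the sign character with kernel `K`
    let lam : (P : Subgroup G) →* ℂˣ :=
      MonoidHom.mk' (fun v => if v ∈ K then 1 else -1) fun v w => by
        simp only [Subgroup.mul_mem_iff_of_index_two hK2]
        by_cases h1 : v ∈ K <;> by_cases h2 : w ∈ K <;> simp [h1, h2]
    have hl : ∀ v, lam v ^ 2 = 1 := fun v => by
      simp only [lam, MonoidHom.mk'_apply]
      split_ifs <;> simp
    obtain ⟨χ, hχB, hodd, hfix, m, hm, hinner⟩ := GalSigma.exists_fixed hM hk₁ hk₂ P lam hl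
    have h1 := h χ hχB hodd hfix
    obtain ⟨f, hf⟩ := Char.IsChar.exists_hom (Char.IsIrr.isCharacter χ.2) (by
      rw [(CharArith.irr_degree_spec χ).1, h1, Nat.cast_one])
    have heq : ∀ v : (P : Subgroup G), f v = lam v := by
      have hfun : (fun v : (P : Subgroup G) => ((f.comp (P : Subgroup G).subtype) v : ℂ)) =
          fun v => (lam v : ℂ) := by
        by_contra hne
        have h0 := Char.classInner_irr_ne (Char.isIrrCharacter_hom
          (f.comp (P : Subgroup G).subtype)) (Char.isIrrCharacter_hom lam) hne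
        rw [hf] at hinner
        have hm0 : (m : ℂ) = 0 := hinner.symm.trans h0
        exact Nat.not_even_iff_odd.2 hm (by simp [Nat.cast_eq_zero.1 hm0])
      exact fun v => Units.ext (congrFun hfun v)
    -- a homomorphism to a 2-group that does not kill `x`
    let o := (P : Subgroup G).index
    let g : G →* ℂˣ := (powMonoidHom o).comp f
    have hg : IsPGroup 2 g.range := by
      rintro ⟨_, y, rfl⟩
      refine ⟨(Nat.card G).factorization 2, Subtype.ext ?_⟩
      show g y ^ _ = 1
      show (f y ^ o) ^ _ = 1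
      rw [← pow_mul, ← P.card_eq_multiplicity, mul_comm, Subgroup.card_mul_index, ← map_pow,
        pow_card_eq_one', map_one]
    have hker := Fusion.pResidual_le_ker g.rangeRestrict hg hx.2
    rw [MonoidHom.ker_rangeRestrict, MonoidHom.mem_ker] at hker
    have hx1 : f x = -1 := by
      rw [heq ⟨x, hx.1⟩]
      simp [lam, hxK]
    have ho : Odd o := Nat.odd_iff.2 (Nat.two_dvd_ne_zero.1 P.not_dvd_index)
    have : (-1 : ℂˣ) = 1 := by
      have h2 : f x ^ o = 1 := hker
      rwa [hx1, ho.neg_one_pow] at h2
    exact absurd (congrArg Units.val this) (by norm_num)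

end Cfsg.Agent.S4549
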