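import Cfsg.Statements.S4550
import Cfsg.Agent.BlockChar.Parity
import Cfsg.Agent.Char.Galois
import Mathlib.GroupTheory.Perm.Cycle.Type
import Mathlib.FieldTheory.Finite.Basic
-- import your own Cfsg.Agent.* helpers here

set_option autoImplicit false
open Cfsg

namespace Cfsg.Agent.S4550

/-- Let G be a finite group of even order and M a maximal ideal of the algebraic integers containing 2. Let k be a natural number with g ^ k = g ^ 3 for every 2-element g and g ^ k = g for every element g of odd order (such k exist); an irreducible character χ is unchanged by g ↦ g ^ k exactly when it is fixed by the field automorphism that cubes the 2-power roots of unity and fixes the roots of unity of odd order. Then the number of members χ of the principal 2-block of odd degree with χ (g ^ k) = χ g for all g is even. -/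
theorem result {G : Type*} [Group G] [Finite G] (M : Ideal Cfsg.AlgInt) (hM : Cfsg.IsPModular 2 M) (hev : Even (Nat.card G)) (k : ℕ) (hk₁ : ∀ g : G, (∃ j : ℕ, orderOf g = 2 ^ j) → g ^ k = g ^ 3) (hk₂ : ∀ g : G, Odd (orderOf g) → g ^ k = g) : Even (Nat.card {χ : Cfsg.IrrCharacter G // χ ∈ Cfsg.principalBlock M G ∧ Odd (Cfsg.charDegree (χ : G → ℂ)) ∧ ∀ g : G, (χ : G → ℂ) (g ^ k) = (χ : G → ℂ) g}) := by
  classical
  have := Fintype.ofFinite G
  haveI := Fact.mk hM.1
  set B := Cfsg.principalBlock M G with hBdef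
  have hB : Cfsg.IsPBlock M B := Agent.Blocks.isPBlock_principalBlock M
  -- `k` is prime to the order
  have hk : k.Coprime (Nat.card G) := by
    refine Nat.coprime_of_dvd fun r hr hrk hrG => ?_
    haveI := Fact.mk hr
    obtain ⟨g, hg⟩ := exists_prime_orderOf_dvd_card' (G := G) r hrG
    have h1 : g ^ k = 1 := by rw [← orderOf_dvd_iff_pow_eq_one, hg]; exact hrk
    rcases eq_or_ne r 2 with rfl | hr2
    · rw [hk₁ g ⟨1, by simpa using hg⟩, ← orderOf_dvd_iff_pow_eq_one, hg] at h1
      exact absurd h1 (by decide)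
    · rw [hk₂ g (hg ▸ hr.odd_of_ne_two hr2)] at h1
      rw [h1, orderOf_one] at hg
      exact hr.one_lt.ne hg
  let a := (Nat.card G).factorization 2
  have hper : ∀ g : G, g ^ (k ^ 2 ^ a) = g := by
    intro g
    set u := Agent.Blocks.pPartOf 2 g
    set s := Agent.Blocks.pPrimePartOf 2 g
    have hs : Odd (orderOf s) := Nat.odd_iff.2 (Nat.two_dvd_ne_zero.1
      (Agent.Blocks.not_dvd_orderOf_pPrimePartOf hM.1 g))
    have hs' : ∀ j : ℕ, s ^ (k ^ j) = s := fun j => by
      induction j with
      | zero => simp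
      | succ j ih => rw [pow_succ, pow_mul, ih, hk₂ s hs]
    obtain ⟨e, he⟩ := Agent.Blocks.orderOf_pPartOf hM.1 g
    have hu' : ∀ j : ℕ, u ^ (k ^ j) = u ^ (3 ^ j) := fun j => by
      induction j with
      | zero => simp
      | succ j ih =>
        have hord : ∃ i, orderOf (u ^ 3 ^ j) = 2 ^ i := by
          obtain ⟨i, -, hi⟩ := (Nat.dvd_prime_pow Nat.prime_two).1
            (show orderOf (u ^ 3 ^ j) ∣ 2 ^ e by rw [← he]; exact orderOf_pow_dvd (x := u) (3 ^ j))
          exact ⟨i, hi⟩
        rw [pow_succ, pow_mul, ih, hk₁ _ hord, ← pow_mul, ← pow_succ]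
    have hu : u ^ (3 ^ 2 ^ a) = u := by
      conv_rhs => rw [← pow_one u]
      refine pow_eq_pow_iff_modEq.2 ?_
      show 3 ^ 2 ^ a ≡ 1 [MOD orderOf u]
      rw [he]
      have hea : e ≤ a := by
        have h := Nat.factorization_le_iff_dvd (orderOf_pos u).ne' (Nat.card_pos (α := G)).ne'
        have := h.2 (orderOf_dvd_natCard u) 2
        rwa [he, Nat.Prime.factorization_pow Nat.prime_two, Finsupp.single_eq_same] at this
      have h3 := Nat.ModEq.pow_totient (x := 3) (n := 2 ^ e)
        ((by decide : Nat.Coprime 3 2).pow_right e)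
      obtain ⟨c, hc⟩ : (2 ^ e).totient ∣ 2 ^ a := by
        rcases Nat.eq_zero_or_pos e with h0 | h0
        · simp [h0]
        · rw [Nat.totient_prime_pow Nat.prime_two h0]
          simpa using Nat.pow_dvd_pow 2 (show e - 1 ≤ a by omega)
      rw [hc, pow_mul]
      simpa using h3.pow c
    have hus : u * s = g := Agent.Blocks.pPartOf_mul_pPrimePartOf hM.1 g
    conv_lhs => rw [← hus]
    rw [(Agent.Blocks.commute_pPartOf_pPrimePartOf g).mul_pow, hs', hu', hu, hus]
  -- the action on the odd degree members of the principal block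
  let S := {χ : Cfsg.IrrCharacter G // χ ∈ B ∧ Odd (Cfsg.charDegree (χ : G → ℂ))}
  let σ₀ : Cfsg.IrrCharacter G → Cfsg.IrrCharacter G :=
    fun χ => ⟨fun g => (χ : G → ℂ) (g ^ k), Agent.Char.isIrr_comp_pow k hk χ.2⟩
  have hdeg : ∀ χ : Cfsg.IrrCharacter G,
      Cfsg.charDegree (σ₀ χ : G → ℂ) = Cfsg.charDegree (χ : G → ℂ) := fun χ => by
    simp [Cfsg.charDegree, σ₀]
  have hcent : ∀ g : G, (Subgroup.centralizer ({g ^ k} : Set G)).index =
      (Subgroup.centralizer ({g} : Set G)).index := fun g => by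
    have hkj : (k ^ (2 ^ a - 1)) * k = k ^ 2 ^ a := by
      rw [← pow_succ, Nat.sub_add_cancel Nat.one_le_two_pow]
    congr 1
    ext x
    simp only [Subgroup.mem_centralizer_iff, Set.mem_singleton_iff, forall_eq]
    refine ⟨fun h => ?_, fun h => (show Commute g x from h).pow_left k⟩
    have := (show Commute (g ^ k) x from h).pow_left (k ^ (2 ^ a - 1))
    rwa [← pow_mul, Nat.mul_comm, hkj, hper] at this
  have hσB : ∀ χ ∈ B, σ₀ χ ∈ B := fun χ hχ g => by
    have h := (Agent.Blocks.IsPBlock.sameBlock hM hB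
      (Agent.Blocks.triv_mem_principalBlock hM) hχ) (g ^ k)
    simpa [Cfsg.centralChar, σ₀, Agent.Blocks.triv, hcent] using h
  let σf : S → S := fun χ => ⟨σ₀ χ.1, hσB _ χ.2.1, (hdeg χ.1).symm ▸ χ.2.2⟩
  have hiter : ∀ (j : ℕ) (χ : S) (g : G),
      ((σf^[j] χ).1 : G → ℂ) g = (χ.1 : G → ℂ) (g ^ k ^ j) := by
    intro j
    induction j with
    | zero => intro χ g; simp
    | succ j ih =>
      intro χ g
      rw [Function.iterate_succ_apply, ih]
      show (χ.1 : G → ℂ) ((g ^ k ^ j) ^ k) = _
      rw [← pow_mul, ← pow_succ]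
  have hid : σf^[2 ^ a] = id := funext fun χ => Subtype.ext (Subtype.ext (funext fun g => by
    rw [hiter, hper]; rfl))
  have hbij : Function.Bijective σf := by
    refine ⟨fun x y hxy => ?_, fun y => ⟨σf^[2 ^ a - 1] y, ?_⟩⟩
    · have : σf^[2 ^ a - 1 + 1] x = σf^[2 ^ a - 1 + 1] y := by
        rw [Function.iterate_succ_apply, Function.iterate_succ_apply, hxy]
      rwa [Nat.sub_add_cancel Nat.one_le_two_pow, hid] at this
    · rw [← Function.iterate_succ_apply' σf, Nat.succ_eq_add_one,
        Nat.sub_add_cancel Nat.one_le_two_pow, hid]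
      rfl
  let π : Equiv.Perm S := Equiv.ofBijective σf hbij
  have hπ : π ^ 2 ^ a = 1 := Equiv.ext fun x => by
    rw [← Equiv.Perm.iterate_eq_pow]
    show σf^[2 ^ a] x = x
    rw [hid]; rfl
  have hfix := Equiv.Perm.card_compl_support_modEq hπ
  -- the number of odd degree members is even
  have hSeven : Even (Fintype.card S) := by
    haveI := Fact.mk Nat.prime_two
    obtain ⟨t, ht⟩ := exists_prime_orderOf_dvd_card' (G := G) 2 (even_iff_two_dvd.1 hev)
    have htsing : ¬ Cfsg.IsPRegular 2 t := fun h => h (ht ▸ dvd_rfl)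
    have hw := Agent.BlockChar.sum_block_degree_mul_eq_zero hM hB htsing
    have hsq : Cfsg.MemLocalIdeal M ((∑ χ : Cfsg.IrrCharacter G,
        if χ ∈ B then Cfsg.charDegree (χ : G → ℂ) ^ 2 else 0 : ℕ) : ℂ) := by
      rw [show (((∑ χ : Cfsg.IrrCharacter G,
          if χ ∈ B then Cfsg.charDegree (χ : G → ℂ) ^ 2 else 0) : ℕ) : ℂ) =
          ∑ χ : Cfsg.IrrCharacter G, if χ ∈ B then
            (χ : G → ℂ) 1 * ((χ : G → ℂ) 1 - (χ : G → ℂ) t) else 0 by
        conv_lhs => rw [← sub_zero ((_ : ℕ) : ℂ), ← hw, Nat.cast_sum, ← Finset.sum_sub_distrib]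
        refine Finset.sum_congr rfl fun χ _ => ?_
        split_ifs
        · rw [(Agent.CharArith.irr_degree_spec χ).1]; push_cast; ring
        · simp]
      refine Agent.Blocks.memLocalIdeal_sum hM _ fun χ _ => ?_
      split_ifs
      · refine Agent.Blocks.memLocalIdeal_mul_left hM
          (Agent.Blocks.memLocalRing_char hM (Agent.Char.IsIrr.isCharacter χ.2) 1) ?_
        simpa using Agent.Blocks.memLocalIdeal_neg
          (Agent.Blocks.memLocalIdeal_char_sub_degree hM (Agent.Char.IsIrr.isCharacter χ.2)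
            (g := t) ⟨1, by simpa using ht⟩)
      · exact Agent.Blocks.memLocalIdeal_zero hM
    have h2 := (Agent.Blocks.memLocalIdeal_natCast_iff hM _).1 hsq
    rw [← ZMod.natCast_eq_zero_iff_even]
    rw [← ZMod.natCast_eq_zero_iff, Nat.cast_sum] at h2
    rw [← h2, Fintype.card_subtype, Finset.card_filter, Nat.cast_sum]
    refine Finset.sum_congr rfl fun χ _ => ?_
    by_cases h : χ ∈ B
    · rcases Nat.even_or_odd (Cfsg.charDegree (χ : G → ℂ)) with ho | ho
      · rw [if_pos h, if_neg fun hh => (Nat.not_odd_iff_even.2 ho) hh.2, Nat.cast_pow,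
          ZMod.natCast_eq_zero_iff_even.2 ho]
        simp
      · rw [if_pos h, if_pos ⟨h, ho⟩, Nat.cast_pow, ZMod.natCast_eq_one_iff_odd.2 ho]
        simp
    · rw [if_neg h, if_neg fun hh => h hh.1]
  have hcard : Nat.card {χ : Cfsg.IrrCharacter G // χ ∈ Cfsg.principalBlock M G ∧
      Odd (Cfsg.charDegree (χ : G → ℂ)) ∧ ∀ g : G, (χ : G → ℂ) (g ^ k) = (χ : G → ℂ) g} =
      π.supportᶜ.card := by
    rw [← Nat.card_eq_finsetCard]
    refine Nat.card_congr ?_
    refine
      { toFun := fun χ => ⟨⟨χ.1, χ.2.1, χ.2.2.1⟩, ?_⟩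
        invFun := fun x => ⟨x.1.1, x.1.2.1, x.1.2.2, fun g => ?_⟩
        left_inv := fun χ => rfl
        right_inv := fun x => rfl }
    · rw [Finset.mem_compl, Equiv.Perm.notMem_support]
      exact Subtype.ext (Subtype.ext (funext χ.2.2.2))
    · have h := x.2
      rw [Finset.mem_compl, Equiv.Perm.notMem_support] at h
      exact congrFun (congrArg (fun y : S => (y.1 : G → ℂ)) h) g
  rw [hcard, Nat.even_iff]
  exact Eq.trans hfix (Nat.even_iff.1 hSeven)

end Cfsg.Agent.S4550
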