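import Mathlib
import Cfsg.Agent.BlockThms.Normal
import Cfsg.Agent.Char.Gallagher
import Cfsg.Agent.BlockChar.Galois

set_option autoImplicit false
set_option linter.style.haveILetI false
open Cfsg

namespace Cfsg.Agent.S4551

open Cfsg.Agent Cfsg.Agent.Blocks Cfsg.Agent.Char
open scoped ComplexConjugate

universe u

variable {G : Type u} [Group G] [Fintype G] {p : ℕ} {M : Ideal Cfsg.AlgInt}

/-- A character of average one with nonnegative values and no zero is constantly one. -/
theorem eq_one_of_avg_one {δ : G → ℂ} (hδ : IsCharacter G δ)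
    (hre : ∀ g, ∃ r : ℝ, 0 < r ∧ δ g = (r : ℂ)) (hsum : ∑ g, δ g = (Nat.card G : ℂ)) :
    δ 1 = 1 := by
  classical
  choose r hr0 hr using hre
  have hint : IsIntegral ℤ (∏ g, δ g) :=
    IsIntegral.prod _ fun g _ => IsChar.isIntegral hδ g
  obtain ⟨m, hm⟩ := BlockChar.exists_int_of_galois_fixed hint fun ψ => by
    obtain ⟨k, hk, hkψ⟩ := BlockChar.exists_pow_galois (G := G) ψ
    have e : (⟨∏ g, δ g, BlockChar.mem_qBar_of_isIntegral hint⟩ : BlockChar.QBar) =
        ∏ g, (⟨δ g, BlockChar.mem_qBar_of_isIntegral (IsChar.isIntegral hδ g)⟩ : BlockChar.QBar) :=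
      Subtype.ext (by simp)
    rw [e, map_prod, Finset.prod_congr rfl fun g _ => hkψ δ hδ g _]
    exact Equiv.prod_comp (powCoprime (G := G) hk.symm) δ
  have hprodR : ((∏ g, r g : ℝ) : ℂ) = ∏ g, δ g := by simp [hr]
  have hpos : (0 : ℝ) < ∏ g, r g := Finset.prod_pos fun g _ => hr0 g
  have hmr : ((∏ g, r g : ℝ)) = (m : ℝ) := by exact_mod_cast hprodR.trans hm
  have hm1 : (1 : ℝ) ≤ (m : ℝ) := by
    rw [hmr] at hpos
    exact_mod_cast (Int.add_one_le_iff.2 (by exact_mod_cast hpos) : (0 : ℤ) + 1 ≤ m)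
  have hlog : 0 ≤ ∑ g, Real.log (r g) := by
    rw [← Real.log_prod (fun g _ => (hr0 g).ne'), hmr]
    exact Real.log_nonneg hm1
  have hsumr : ∑ g, (r g - 1) = 0 := by
    have : ((∑ g, r g : ℝ) : ℂ) = (Nat.card G : ℂ) := by rw [← hsum]; simp [hr]
    have h2 : ∑ g, r g = (Nat.card G : ℝ) := by exact_mod_cast this
    rw [Finset.sum_sub_distrib, h2, Finset.sum_const, Finset.card_univ, nsmul_eq_mul, mul_one,
      ← Nat.card_eq_fintype_card, sub_self]
  have hle : ∀ g, Real.log (r g) ≤ r g - 1 := fun g => Real.log_le_sub_one_of_pos (hr0 g)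
  have hzero : ∑ g, (r g - 1 - Real.log (r g)) = 0 := by
    refine le_antisymm ?_ (Finset.sum_nonneg fun g _ => sub_nonneg.2 (hle g))
    rw [Finset.sum_sub_distrib, hsumr]
    linarith
  have h1 := (Finset.sum_eq_zero_iff_of_nonneg fun g _ => sub_nonneg.2 (hle g)).1 hzero 1
    (Finset.mem_univ 1)
  have hr1 : r 1 = 1 := by
    by_contra hne
    have := Real.log_lt_sub_one_of_pos (hr0 1) hne
    linarith
  rw [hr 1, hr1, Complex.ofReal_one]

omit [Fintype G] in
/-- A root of unity of order prime to `p` congruent to one is one. -/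
theorem eq_one_of_congr (hM : Cfsg.IsPModular p M) {m : ℕ} (hm : ¬ p ∣ m) {z : ℂ}
    (hz : z ^ m = 1) (h : Cfsg.MemLocalIdeal M (z - 1)) : z = 1 := by
  have hm0 : m ≠ 0 := fun e => hm (e ▸ dvd_zero p)
  have hzi : IsIntegral ℤ z := IsIntegral.of_pow (Nat.pos_of_ne_zero hm0) (hz ▸ isIntegral_one)
  let x : Cfsg.AlgInt := ⟨z, hzi⟩
  have hxm : x ^ m = 1 := Subtype.ext hz
  have hmem : x - 1 ∈ M := (memLocalIdeal_coe_iff hM (x - 1)).1 h
  exact congrArg Subtype.val (eq_of_sub_mem_of_pow_eq_one hM hm hxm (one_pow m) hmem)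

variable {N : Subgroup G} [N.Normal] [Fintype N]

theorem mem_principalBlock_iff {K : Type u} [Group K] [Finite K] (χ : IrrCharacter K) :
    χ ∈ Cfsg.principalBlock M K ↔ Cfsg.SameBlock M (fun _ : K => (1 : ℂ)) (χ : K → ℂ) := Iff.rfl

/-- A character of the principal block does not vanish on the centralizer of a Sylow subgroup. -/
theorem apply_ne_zero [Fact p.Prime] (hM : Cfsg.IsPModular p M) (P : Sylow p G)
    {χ : IrrCharacter G} (hχ : χ ∈ Cfsg.principalBlock M G) {c : G}
    (hc : c ∈ Subgroup.centralizer ((P : Subgroup G) : Set G)) : (χ : G → ℂ) c ≠ 0 := by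
  intro h0
  have h := hχ c
  rw [Cfsg.centralChar, Cfsg.centralChar, h0, mul_zero, zero_div, sub_zero, mul_one, div_one,
    memLocalIdeal_natCast_iff hM] at h
  refine P.not_dvd_index (h.trans (Subgroup.index_dvd_of_le fun u hu => ?_))
  exact Subgroup.mem_centralizer_singleton_iff.2 (Subgroup.mem_centralizer_iff.1 hc u hu)

/-- **Restriction from the principal block is irreducible.** -/
theorem res_irr [Fact p.Prime] (hM : Cfsg.IsPModular p M) (P : Sylow p G)
    (hsup : N ⊔ Subgroup.centralizer ((P : Subgroup G) : Set G) = ⊤) {χ : IrrCharacter G}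
    (hχ : χ ∈ Cfsg.principalBlock M G) : IsIrrCharacter N (fun n : N => (χ : G → ℂ) n) := by
  classical
  have hc := IsIrr.isCharacter χ.2
  have hψ := isCharacter_mul hc (isCharacter_conj hc)
  set ψ : G → ℂ := (χ : G → ℂ) * fun x => conj ((χ : G → ℂ) x) with hψd
  set δ : G → ℂ := fun g => (Nat.card N : ℂ)⁻¹ * ∑ n : N, ψ ((n : G) * g) with hδd
  have hδ : IsCharacter G δ := isCharacter_avg N hψ
  have hre : ∀ g, ∃ r : ℝ, 0 < r ∧ δ g = (r : ℂ) := by
    intro g
    refine ⟨(Nat.card N : ℝ)⁻¹ * ∑ n : N, Complex.normSq ((χ : G → ℂ) ((n : G) * g)), ?_, ?_⟩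
    · refine mul_pos (inv_pos.2 (Nat.cast_pos.2 Nat.card_pos)) ?_
      obtain ⟨n, hn, c, hcC, hg⟩ := Subgroup.mem_sup_of_normal_left.1
        (hsup ▸ Subgroup.mem_top g : g ∈ N ⊔ Subgroup.centralizer ((P : Subgroup G) : Set G))
      refine Finset.sum_pos' (fun m _ => Complex.normSq_nonneg _)
        ⟨⟨n⁻¹, inv_mem hn⟩, Finset.mem_univ _, Complex.normSq_pos.2 ?_⟩
      rw [← hg, inv_mul_cancel_left]
      exact apply_ne_zero hM P hχ hcC
    · simp [hδd, hψd, Complex.mul_conj]
  have hsum : ∑ g, δ g = (Nat.card G : ℂ) := by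
    have h1 : ∀ n : N, ∑ g, ψ ((n : G) * g) = (Nat.card G : ℂ) := fun n => by
      rw [Fintype.sum_equiv (Equiv.mulLeft (n : G)) (fun g => ψ ((n : G) * g)) ψ fun g => rfl]
      have h2 := classInner_irr_self χ.2
      rw [classInner, inv_mul_eq_one₀ Char.card_ne_zero] at h2
      exact h2.symm
    simp only [hδd, ← Finset.mul_sum]
    rw [Finset.sum_comm, Finset.sum_congr rfl fun n _ => h1 n, Finset.sum_const, Finset.card_univ,
      nsmul_eq_mul, ← Nat.card_eq_fintype_card (α := N), inv_mul_cancel_left₀ Char.card_ne_zero]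
  rw [isIrr_iff_norm_one (isCharacter_res N hc)]
  have := eq_one_of_avg_one hδ hre hsum
  simpa [hδd, hψd, classInner] using this

/-- Members of the principal block with the same restriction are equal. -/
theorem eq_of_res_eq [Fact p.Prime] (hM : Cfsg.IsPModular p M) (hidx : ¬ p ∣ N.index)
    (P : Sylow p G) (hsup : N ⊔ Subgroup.centralizer ((P : Subgroup G) : Set G) = ⊤)
    {χ χ' : IrrCharacter G} (hχ : χ ∈ Cfsg.principalBlock M G)
    (hχ' : χ' ∈ Cfsg.principalBlock M G) (he : ∀ n : N, (χ : G → ℂ) n = (χ' : G → ℂ) n) :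
    χ = χ' := by
  classical
  have hN := res_irr hM P hsup hχ (N := N)
  have hne : classInner (fun n : N => (χ' : G → ℂ) n) (fun n : N => (χ : G → ℂ) n) ≠ 0 := by
    rw [show (fun n : N => (χ' : G → ℂ) n) = fun n : N => (χ : G → ℂ) n from
      funext fun n => (he n).symm, classInner_irr_self hN]
    exact one_ne_zero
  obtain ⟨hβ, hker, hprod⟩ := (gallagher N χ.2 hN χ'.2).1 hne
  set β := galEta N (χ : G → ℂ) (χ' : G → ℂ)
  have hβ1 : β 1 = 1 := by
    have h1 := congrFun hprod 1
    rw [Pi.mul_apply, show (χ' : G → ℂ) 1 = (χ : G → ℂ) 1 from (he 1).symm] at h1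
    exact (mul_eq_right₀ (IsIrr.one_ne_zero χ.2)).1 h1.symm
  obtain ⟨f, hf⟩ := IsChar.exists_hom (IsIrr.isCharacter hβ) hβ1
  refine Subtype.ext (funext fun g => ?_)
  have hfg : f g = 1 := by
    obtain ⟨n, hn, c, hcC, hg⟩ := Subgroup.mem_sup_of_normal_left.1
      (hsup ▸ Subgroup.mem_top g : g ∈ N ⊔ Subgroup.centralizer ((P : Subgroup G) : Set G))
    have hfn : ∀ m ∈ N, f m = 1 := fun m hm => by
      have h := hker m hm
      rw [hβ1, hf] at h
      exact Units.val_eq_one.1 h
    have hfc : (f c) ^ N.index = 1 := by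
      rw [← map_pow]
      exact hfn _ (N.pow_index_mem c)
    rw [← hg, map_mul, hfn n hn, one_mul]
    apply Units.ext
    rw [Units.val_one]
    refine eq_one_of_congr hM hidx (by rw [← Units.val_pow_eq_pow_val, hfc, Units.val_one]) ?_
    -- both central characters are congruent to the class length at `c`
    have h1 := hχ c
    have h2 := hχ' c
    have h3 := memLocalIdeal_sub hM h1 h2
    have hunit : ¬ Cfsg.MemLocalIdeal M (Cfsg.centralChar (χ : G → ℂ) c) := by
      intro hI
      have h := memLocalIdeal_add hM h1 hI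
      rw [sub_add_cancel, Cfsg.centralChar, mul_one, div_one, memLocalIdeal_natCast_iff hM] at h
      refine P.not_dvd_index (h.trans (Subgroup.index_dvd_of_le fun u hu => ?_))
      exact Subgroup.mem_centralizer_singleton_iff.2 (Subgroup.mem_centralizer_iff.1 hcC u hu)
    have h4 : Cfsg.MemLocalIdeal M (Cfsg.centralChar (χ : G → ℂ) c * ((f c : ℂ) - 1)) := by
      have e : Cfsg.centralChar (χ' : G → ℂ) c = (f c : ℂ) * Cfsg.centralChar (χ : G → ℂ) c := by
        rw [Cfsg.centralChar, Cfsg.centralChar, congrFun hprod c, congrFun hprod 1, Pi.mul_apply,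
          Pi.mul_apply, hβ1, one_mul, hf]
        ring
      rw [e] at h3
      convert h3 using 1
      ring
    exact (memLocalIdeal_of_mul hM (memLocalRing_centralChar hM χ.2 c)
      ((localRing hM).sub_mem (memLocalRing_of_isIntegral hM (by have := IsChar.isIntegral (IsIrr.isCharacter hβ) c; rwa [hf] at this))
        (localRing hM).one_mem) h4).resolve_left hunit
  rw [congrFun hprod g, Pi.mul_apply, congrFun hf g, hfg, Units.val_one, one_mul]

/-- Let N be a normal subgroup of the finite group G of index prime to p, P a Sylow p-subgroup of G with G = N·C_G(P), and M a maximal ideal of the algebraic integers containing p. Then restriction to N is a bijection from the principal p-block of G onto the principal p-block of N: every member of the principal block of G restricts to a member of the principal block of N, and every member of the principal block of N is the restriction of exactly one member of the principal block of G. -/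
theorem result {G : Type*} [Group G] [Finite G] (p : ℕ) [Fact p.Prime] (M : Ideal Cfsg.AlgInt) (hM : Cfsg.IsPModular p M) (N : Subgroup G) [N.Normal] (hidx : ¬ p ∣ N.index) (P : Sylow p G) (hsup : N ⊔ Subgroup.centralizer ((P : Subgroup G) : Set G) = ⊤) : (∀ χ ∈ Cfsg.principalBlock M G, ∃ θ ∈ Cfsg.principalBlock M ↥N, ∀ n : N, (χ : G → ℂ) n = (θ : N → ℂ) n) ∧ ∀ θ ∈ Cfsg.principalBlock M ↥N, ∃! χ : Cfsg.IrrCharacter G, χ ∈ Cfsg.principalBlock M G ∧ ∀ n : N, (χ : G → ℂ) n = (θ : N → ℂ) n := by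
  classical
  have := Fintype.ofFinite G
  have := Fintype.ofFinite N
  have htrivN : (⟨fun _ => 1, isIrrCharacter_one⟩ : IrrCharacter N) ∈ Cfsg.principalBlock M N :=
    triv_mem_principalBlock hM
  have htrivG : (⟨fun _ => 1, isIrrCharacter_one⟩ : IrrCharacter G) ∈ Cfsg.principalBlock M G :=
    triv_mem_principalBlock hM
  have hdown : ∀ χ ∈ Cfsg.principalBlock M G, ∃ θ ∈ Cfsg.principalBlock M N,
      ∀ n : N, (χ : G → ℂ) n = (θ : N → ℂ) n := by
    intro χ hχ
    let θ : IrrCharacter N := ⟨fun n : N => (χ : G → ℂ) n, res_irr hM P hsup hχ⟩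
    obtain ⟨g, hg⟩ := BlockThms.exists_conj_sameBlock (N := N) hM
      (χ := ⟨fun _ => 1, isIrrCharacter_one⟩) (χ' := χ) hχ
      (θ := ⟨fun _ => 1, isIrrCharacter_one⟩) (ψ := θ)
      (by rw [classInner_irr_self isIrrCharacter_one]; exact one_ne_zero)
      (by rw [classInner_irr_self θ.2]; exact one_ne_zero)
    exact ⟨θ, hg, fun n => rfl⟩
  refine ⟨hdown, fun θ hθ => ?_⟩
  set B := Cfsg.principalBlock M G with hBd
  set S := B.toFinite.toFinset with hS
  have hB : Cfsg.IsPBlock M B := isPBlock_principalBlock M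
  set e : N → ℂ := fun n => Cfsg.blockCoeff B (n : G) with he
  have hecl : IsClassFunction N e := fun a k => isClassFunction_blockCoeff B (a : G) (k : G)
  have hval : ∀ ξ : N → ℂ, ∑ n : N, e n * ξ n = (Nat.card G : ℂ)⁻¹ *
      ∑ χ ∈ S, (χ : G → ℂ) 1 * ((Nat.card N : ℂ) *
        classInner ξ (fun n : N => (χ : G → ℂ) n)) := by
    intro ξ
    simp only [he, Cfsg.blockCoeff, finsum_mem_eq_finite_toFinset_sum _ B.toFinite, classInner,
      mul_inv_cancel_left₀ Char.card_ne_zero, Finset.mul_sum, Finset.sum_mul]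
    rw [Finset.sum_comm]
    exact Finset.sum_congr rfl fun χ _ => Finset.sum_congr rfl fun n _ => by ring
  -- the trivial character alone lies over the trivial character
  have hω1 : ∑ n : N, e n * 1 = (N.index : ℂ)⁻¹ := by
    rw [hval, Finset.sum_eq_single (⟨fun _ => 1, isIrrCharacter_one⟩ : IrrCharacter G)]
    · have h1 : classInner (fun _ : N => (1 : ℂ)) (fun _ : N => (1 : ℂ)) = 1 :=
        classInner_irr_self isIrrCharacter_one
      rw [h1, ← Subgroup.card_mul_index N, Nat.cast_mul]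
      field_simp [(Char.card_ne_zero : (Nat.card N : ℂ) ≠ 0)]
    · intro χ hχS hne
      have hχ : χ ∈ B := B.toFinite.mem_toFinset.1 hχS
      rw [classInner_irr_ne isIrrCharacter_one (res_irr hM P hsup hχ) fun e' => hne
        (eq_of_res_eq hM hidx P hsup hχ htrivG fun n => (congrFun e' n).symm), mul_zero, mul_zero]
    · exact fun h => absurd (B.toFinite.mem_toFinset.2 htrivG) h
  obtain ⟨χ, hχB, hχθ⟩ : ∃ χ ∈ B,
      classInner (θ : N → ℂ) (fun n : N => (χ : G → ℂ) n) ≠ 0 := by
    by_contra! hno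
    have h0 : ∑ n : N, e n * (θ : N → ℂ) n = 0 := by
      rw [hval, Finset.sum_eq_zero fun χ hχ => by
        rw [hno χ (B.toFinite.mem_toFinset.1 hχ), mul_zero, mul_zero], mul_zero]
    have h := memLocalIdeal_omega_sub hM isIrrCharacter_one θ.2 hecl
      (fun n => memLocalRing_blockCoeff hM hB _) hθ
    rw [omega, omega, h0, zero_div, sub_zero, div_one, hω1] at h
    have h1 := memLocalIdeal_mul_left hM (memLocalRing_natCast hM N.index) h
    rw [mul_inv_cancel₀ (Nat.cast_ne_zero.2 Subgroup.index_ne_zero_of_finite)] at h1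
    exact not_memLocalIdeal_one hM h1
  have heq : ∀ n : N, (χ : G → ℂ) n = (θ : N → ℂ) n := fun n => by
    by_contra hne
    exact hχθ (classInner_irr_ne θ.2 (res_irr hM P hsup hχB) fun e' => hne (congrFun e' n).symm)
  exact ⟨χ, ⟨hχB, heq⟩, fun χ' hχ' => eq_of_res_eq hM hidx P hsup hχ'.1 hχB
    fun n => (hχ'.2 n).trans (heq n).symm⟩

end Cfsg.Agent.S4551
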