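import Cfsg.Statements.S4552
import Cfsg.Agent.BlockChar.SignCoherence.Automizer
import Cfsg.Agent.BlockChar.SignCoherence.Main
import Cfsg.Agent.BrauerPairs.FirstMain
import Cfsg.Agent.BlockChar.Cyclic.Main
-- import your own Cfsg.Agent.* helpers here

set_option autoImplicit false
open Cfsg

namespace Cfsg.Agent.S4552

/-- Let B be a 2-block of the finite group G (relative to a maximal ideal M of the algebraic integers containing 2) whose defect group D is the direct product of two cyclic groups of the same order 2 ^ m, m ≥ 2. Then either B has 2-regular rank one and exactly 4 ^ m irreducible characters, or B has 2-regular rank three and exactly (4 ^ m + 8) / 3 irreducible characters. -/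
theorem result {G : Type*} [Group G] [Finite G] (M : Ideal Cfsg.AlgInt) (hM : Cfsg.IsPModular 2 M) (B : Set (Cfsg.IrrCharacter G)) (hB : Cfsg.IsPBlock M B) (D : Subgroup G) (hD : Cfsg.IsDefectGroup 2 M B D) (m : ℕ) (hm : 2 ≤ m) (hiso : Nonempty (D ≃* Multiplicative (ZMod (2 ^ m) × ZMod (2 ^ m)))) : (Cfsg.blockRank 2 B = 1 ∧ Nat.card B = 4 ^ m) ∨ (Cfsg.blockRank 2 B = 3 ∧ 3 * Nat.card B = 4 ^ m + 8) := by
  haveI := Fact.mk hM.1
  obtain ⟨e⟩ := hiso
  obtain ⟨c, hmax⟩ := Cfsg.Agent.BrauerPairs.exists_maximal_on hM hB hD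
  have hT : ∀ g : G, g ∈ Cfsg.Agent.BlockChar.Cyclic.pairStab (⟨D, c⟩ : Cfsg.BrauerPairIdx G) ↔
      BrauerPairs.conjPair g ⟨D, c⟩ = ⟨D, c⟩ := fun _ => Iff.rfl
  obtain ⟨h13, hfree⟩ := Cfsg.Agent.BlockChar.SignCoherence.free_homocyclic_pair hM hmax
    (by omega : 1 ≤ m) e _ hT
  have hcard : Nat.card D = 4 ^ m := by
    rw [Nat.card_congr e.toEquiv, Nat.card_congr Multiplicative.toAdd, Nat.card_prod, Nat.card_zmod,
      ← mul_pow]
    norm_num
  have hab : ∀ x ∈ D, ∀ y ∈ D, x * y = y * x := fun x hx y hy =>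
    congrArg Subtype.val (e.injective (by rw [map_mul, map_mul, mul_comm]) :
      (⟨x, hx⟩ : D) * ⟨y, hy⟩ = ⟨y, hy⟩ * ⟨x, hx⟩)
  have hD1 : D ≠ ⊥ := fun h => by
    rw [h, Subgroup.card_bot] at hcard
    have := Nat.one_lt_pow (by omega : m ≠ 0) (by norm_num : 1 < 4)
    omega
  obtain ⟨k, hk, hkP, h0, hle, heq⟩ :=
    Cfsg.Agent.BlockChar.SignCoherence.counts hM hmax hab hD1 _ hT hfree
  rw [hcard] at hkP
  rcases h13 with h1 | h3
  · rw [h1] at hkP heq
    have := heq (by norm_num)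
    exact Or.inl ⟨this, by omega⟩
  · rw [h3] at hkP heq
    have := heq le_rfl
    exact Or.inr ⟨this, by omega⟩

end Cfsg.Agent.S4552
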