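import Cfsg.Statements.S4560
import Cfsg.Agent.SnSmallChar.Witness
-- import your own Cfsg.Agent.* helpers here

set_option autoImplicit false
open Cfsg

namespace Cfsg.Agent.S4560

/-- For n ≥ 7 the alternating group on n letters has an irreducible character that vanishes at some 2-element and is the restriction of an irreducible character of the symmetric group, and an irreducible character that vanishes at some element of order 3 and is the restriction of an irreducible character of the symmetric group. -/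
theorem result (n : ℕ) (hn : 7 ≤ n) : (∃ χ : Cfsg.IrrCharacter (alternatingGroup (Fin n)), (∃ x : alternatingGroup (Fin n), (∃ j : ℕ, orderOf x = 2 ^ j) ∧ (χ : alternatingGroup (Fin n) → ℂ) x = 0) ∧ ∃ ψ : Cfsg.IrrCharacter (Equiv.Perm (Fin n)), ∀ x : alternatingGroup (Fin n), (ψ : Equiv.Perm (Fin n) → ℂ) x = (χ : alternatingGroup (Fin n) → ℂ) x) ∧ (∃ χ : Cfsg.IrrCharacter (alternatingGroup (Fin n)), (∃ y : alternatingGroup (Fin n), orderOf y = 3 ∧ (χ : alternatingGroup (Fin n) → ℂ) y = 0) ∧ ∃ ψ : Cfsg.IrrCharacter (Equiv.Perm (Fin n)), ∀ x : alternatingGroup (Fin n), (ψ : Equiv.Perm (Fin n) → ℂ) x = (χ : alternatingGroup (Fin n) → ℂ) x) := by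
  classical
  obtain ⟨hA1, hA2, hA3⟩ := SnSmallChar.isIrr (G := alternatingGroup (Fin n)) hn (SnSmallChar.tuples_alternating hn)
  obtain ⟨hP1, hP2, hP3⟩ := SnSmallChar.isIrr (G := Equiv.Perm (Fin n)) hn (SnSmallChar.tuples_perm hn)
  have key : ∀ (P : alternatingGroup (Fin n) → Prop) (g : alternatingGroup (Fin n)), P g →
      (SnSmallChar.fixN (n := n) g = 1 ∨ SnSmallChar.twoN (n := n) g = 0 ∧
        (SnSmallChar.fixN (n := n) g = 0 ∨ SnSmallChar.fixN (n := n) g = 2 ∨
          SnSmallChar.fixN (n := n) g = 3)) →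
      ∃ χ : Cfsg.IrrCharacter (alternatingGroup (Fin n)),
        (∃ x : alternatingGroup (Fin n), P x ∧ (χ : alternatingGroup (Fin n) → ℂ) x = 0) ∧
        ∃ ψ : Cfsg.IrrCharacter (Equiv.Perm (Fin n)), ∀ x : alternatingGroup (Fin n),
          (ψ : Equiv.Perm (Fin n) → ℂ) x = (χ : alternatingGroup (Fin n) → ℂ) x := by
    intro P g hg hval
    rcases hval with h | ⟨h0, h | h | h⟩
    · exact ⟨⟨_, hA1⟩, ⟨g, hg, by simp [SnSmallChar.std, h]⟩, ⟨_, hP1⟩, fun x => rfl⟩
    · exact ⟨⟨_, hA2⟩, ⟨g, hg, by simp [SnSmallChar.sp, h, h0]⟩, ⟨_, hP2⟩, fun x => rfl⟩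
    · exact ⟨⟨_, hA3⟩, ⟨g, hg, by norm_num [SnSmallChar.lam, h, h0]⟩, ⟨_, hP3⟩, fun x => rfl⟩
    · exact ⟨⟨_, hA2⟩, ⟨g, hg, by norm_num [SnSmallChar.sp, h, h0]⟩, ⟨_, hP2⟩, fun x => rfl⟩
  refine ⟨?_, ?_⟩
  · -- a `2`-element
    rcases Nat.even_or_odd n with ⟨r, hr⟩ | ⟨r, hr⟩
    · -- parts four and eight
      obtain ⟨k, hk, hf⟩ : ∃ k : ℕ, 2 ≤ k ∧ (n = 4 * k ∨ n = 4 * k + 2) := by
        rcases Nat.even_or_odd r with ⟨k, hk⟩ | ⟨k, hk⟩
        · exact ⟨k, by omega, by omega⟩
        · exact ⟨k, by omega, by omega⟩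
      obtain ⟨m, hms, hm2, hmc⟩ : ∃ m : Multiset ℕ, m.sum = 4 * k ∧ (∀ a ∈ m, a = 4 ∨ a = 8) ∧
          Even (m.sum + m.card) := by
        rcases Nat.even_or_odd k with hev | hod
        · refine ⟨Multiset.replicate k 4, by simp [mul_comm], fun a ha => Or.inl (Multiset.eq_of_mem_replicate ha), ?_⟩
          simp [Nat.even_add, hev]
        · obtain ⟨c, hc⟩ := hod
          refine ⟨8 ::ₘ Multiset.replicate (k - 2) 4, by simp; omega, fun a ha => ?_, ?_⟩
          · rcases Multiset.mem_cons.1 ha with h | h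
            · exact Or.inr h
            · exact Or.inl (Multiset.eq_of_mem_replicate h)
          · simp only [Multiset.sum_cons, Multiset.sum_replicate, Multiset.card_cons, Multiset.card_replicate, smul_eq_mul]; rw [Nat.even_iff]; omega
      obtain ⟨g, -, hfix, hord, htwo⟩ := SnSmallChar.exists_even (n := n) m (by omega)
        (fun a ha => by rcases hm2 a ha with h | h <;> omega) hmc
      obtain ⟨j, hj⟩ := SnSmallChar.lcm_dvd_pow (m := m) (j := 3)
        (fun a ha => by rcases hm2 a ha with rfl | rfl <;> norm_num)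
      refine key _ g ⟨j, hord.trans hj⟩ (Or.inr ⟨htwo fun a ha => by
        rcases hm2 a ha with h | h <;> omega, ?_⟩)
      rw [hfix, hms]; omega
    · obtain ⟨m, hms, hm2, hmc⟩ : ∃ m : Multiset ℕ, m.sum = 2 * r ∧ (∀ a ∈ m, a = 2 ∨ a = 4) ∧
          Even (m.sum + m.card) := by
        rcases Nat.even_or_odd r with hev | hod
        · refine ⟨Multiset.replicate r 2, by simp [mul_comm], fun a ha => Or.inl (Multiset.eq_of_mem_replicate ha), ?_⟩
          simp [Nat.even_add, hev]
        · obtain ⟨c, hc⟩ := hod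
          refine ⟨4 ::ₘ Multiset.replicate (r - 2) 2, by simp; omega, fun a ha => ?_, ?_⟩
          · rcases Multiset.mem_cons.1 ha with h | h
            · exact Or.inr h
            · exact Or.inl (Multiset.eq_of_mem_replicate h)
          · simp only [Multiset.sum_cons, Multiset.sum_replicate, Multiset.card_cons, Multiset.card_replicate, smul_eq_mul]; rw [Nat.even_iff]; omega
      obtain ⟨g, -, hfix, hord, -⟩ := SnSmallChar.exists_even (n := n) m (by omega)
        (fun a ha => by rcases hm2 a ha with h | h <;> omega) hmc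
      obtain ⟨j, hj⟩ := SnSmallChar.lcm_dvd_pow (m := m) (j := 2)
        (fun a ha => by rcases hm2 a ha with rfl | rfl <;> norm_num)
      refine key _ g ⟨j, hord.trans hj⟩ (Or.inl ?_)
      rw [hfix, hms]; omega
  · -- an element of order three
    set k := (n - 1) / 3
    obtain ⟨g, -, hfix, hord, htwo⟩ := SnSmallChar.exists_even (n := n) (Multiset.replicate k 3)
      (by simp; omega) (fun a ha => by rw [Multiset.eq_of_mem_replicate ha]; norm_num)
      (by rw [Multiset.sum_replicate, Multiset.card_replicate, smul_eq_mul, Nat.even_iff]; omega)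
    have hlcm : (Multiset.replicate k 3).lcm = 3 := by
      refine Nat.dvd_antisymm (Multiset.lcm_dvd.2 fun a ha => (Multiset.eq_of_mem_replicate ha) ▸ dvd_rfl)
        (Multiset.dvd_lcm (Multiset.mem_replicate.2 ⟨by omega, rfl⟩))
    refine key _ g (hord.trans hlcm) ?_
    rw [Multiset.sum_replicate, smul_eq_mul] at hfix
    by_cases h1 : SnSmallChar.fixN (n := n) g = 1
    · exact Or.inl h1
    · refine Or.inr ⟨htwo fun a ha => by rw [Multiset.eq_of_mem_replicate ha]; norm_num, ?_⟩
      omega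

end Cfsg.Agent.S4560
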