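import Cfsg.Statements.S4563
import Cfsg.Agent.Char.RamifiedSylow
import Cfsg.Agent.Char.PowerOrbit
import Cfsg.Agent.Core.Complements
-- import your own Cfsg.Agent.* helpers here

set_option autoImplicit false
open Cfsg

namespace Cfsg.Agent.S4563

/-- Let χ be an irreducible character of the finite group H that is fully ramified over the normal subgroup Z: the restriction of χ to Z is e times an irreducible character of Z with e ^ 2 equal to the index of Z. If K is a proper normal subgroup of H containing Z and χ is induced from a character of K, then H/K is solvable; in particular, if K is solvable then so is H. -/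
theorem result {H : Type*} [Group H] [Fintype H] (Z : Subgroup H) [Z.Normal] (χ : Cfsg.IrrCharacter H) (hfr : ∃ (θ : Cfsg.IrrCharacter ↥Z) (e : ℕ), e ^ 2 = Z.index ∧ ∀ z : ↥Z, (χ : H → ℂ) z = (e : ℂ) * (θ : ↥Z → ℂ) z) (K : Subgroup H) [K.Normal] [Fintype K] (hZK : Z ≤ K) (hK : K ≠ ⊤) (φ : ↥K → ℂ) (hφ : Cfsg.IsCharacter ↥K φ) (hind : Cfsg.indFun K φ = (χ : H → ℂ)) : Group.IsSolvable (H ⧸ K) ∧ (Group.IsSolvable ↥K → Group.IsSolvable H) := by
  classical
  let := Fintype.ofFinite Z
  obtain ⟨θ, e, he, hres⟩ := hfr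
  have hφi : IsIrrCharacter K φ := Char.isIrr_of_indFun hφ (hind ▸ χ.2)
  have hsol : Group.IsSolvable (H ⧸ K) := by
    refine Core.isSolvable_of_complements fun p hp => ?_
    have := Fact.mk hp
    obtain ⟨Q⟩ := (inferInstance : Nonempty (Sylow p H))
    obtain ⟨M, hM⟩ := Char.exists_complement_of_ramified Z θ.2 χ.2 he hres K hZK p Q
      (Or.inr ⟨φ, hφi, hind⟩)
    refine ⟨M, ?_⟩
    rw [hM.symm.index_eq_card]
    exact (Q.mapSurjective (QuotientGroup.mk'_surjective K)).card_eq_multiplicity
  refine ⟨hsol, fun hKs => ?_⟩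
  exact (Group.isSolvable_iff_subgroup_quotient K).2 ⟨hKs, hsol⟩

end Cfsg.Agent.S4563
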