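import Cfsg.Statements.S4564
import Cfsg.Agent.Char.RamifiedSylow
-- import your own Cfsg.Agent.* helpers here

set_option autoImplicit false
open Cfsg

namespace Cfsg.Agent.S4564

/-- Let χ be an irreducible character of the finite group H that is fully ramified over the normal subgroup Z: the restriction of χ to Z is e times an irreducible character of Z with e ^ 2 equal to the index of Z. Let K be a normal subgroup of H containing Z and P a cyclic Sylow p-subgroup of H/K. Then P has a complement in H/K: a subgroup meeting P trivially whose product with P is the whole group. -/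
theorem result {H : Type*} [Group H] [Finite H] (Z : Subgroup H) [Z.Normal] (χ : Cfsg.IrrCharacter H) (hfr : ∃ (θ : Cfsg.IrrCharacter ↥Z) (e : ℕ), e ^ 2 = Z.index ∧ ∀ z : ↥Z, (χ : H → ℂ) z = (e : ℂ) * (θ : ↥Z → ℂ) z) (K : Subgroup H) [K.Normal] (hZK : Z ≤ K) (p : ℕ) [Fact p.Prime] (P : Sylow p (H ⧸ K)) (hcyc : IsCyclic P) : ∃ M : Subgroup (H ⧸ K), M.IsComplement' (P : Subgroup (H ⧸ K)) := by
  classical
  let := Fintype.ofFinite H
  let := Fintype.ofFinite Z
  obtain ⟨θ, e, he, hres⟩ := hfr
  obtain ⟨Q₀⟩ := (inferInstance : Nonempty (Sylow p H))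
  obtain ⟨c, hc⟩ := MulAction.exists_smul_eq (H ⧸ K)
    (Q₀.mapSurjective (QuotientGroup.mk'_surjective K)) P
  obtain ⟨g, rfl⟩ := QuotientGroup.mk_surjective c
  have hmap : ((g • Q₀ : Sylow p H) : Subgroup H).map (QuotientGroup.mk' K) =
      (P : Subgroup (H ⧸ K)) := by
    rw [← hc]
    ext y
    simp only [Sylow.coe_subgroup_smul, Subgroup.mem_map, Subgroup.mem_pointwise_smul_iff_inv_smul_mem,
      Sylow.coe_mapSurjective]
    constructor
    · rintro ⟨x, hx, rfl⟩
      exact ⟨_, hx, by simp⟩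
    · rintro ⟨x, hx, hxy⟩
      refine ⟨g * x * g⁻¹, by simpa [mul_assoc] using hx, ?_⟩
      simp only [QuotientGroup.mk'_apply, QuotientGroup.mk_mul, QuotientGroup.mk_inv] at hxy ⊢
      simp [hxy, mul_assoc]
  obtain ⟨M, hM⟩ := Char.exists_complement_of_ramified Z θ.2 χ.2 he hres K hZK p (g • Q₀)
    (Or.inl (by rw [hmap]; exact hcyc))
  exact ⟨M, hmap ▸ hM⟩

end Cfsg.Agent.S4564
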