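import Cfsg.Statements.S4565
import Cfsg.Agent.Char.Gallagher
import Cfsg.Agent.Char.Induced
import Cfsg.Agent.Char.Linear
import Cfsg.Agent.S0886
-- import your own Cfsg.Agent.* helpers here

set_option autoImplicit false
open Cfsg

namespace Cfsg.Agent.S4565

/-- Let χ be an irreducible character of the finite group H that is fully ramified over the normal subgroup Z: the restriction of χ to Z is e times an irreducible character of Z with e ^ 2 equal to the index of Z. If Z ≠ H, then H/Z has no cyclic subgroup that is its own centralizer. -/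
theorem result {H : Type*} [Group H] [Finite H] (Z : Subgroup H) [Z.Normal] (χ : Cfsg.IrrCharacter H) (hfr : ∃ (θ : Cfsg.IrrCharacter ↥Z) (e : ℕ), e ^ 2 = Z.index ∧ ∀ z : ↥Z, (χ : H → ℂ) z = (e : ℂ) * (θ : ↥Z → ℂ) z) (hZ : Z ≠ ⊤) (C : Subgroup (H ⧸ Z)) (hC : IsCyclic C) : Subgroup.centralizer (C : Set (H ⧸ Z)) ≠ C := by
  classical
  intro hCC
  let := Fintype.ofFinite H
  let := Fintype.ofFinite Z
  obtain ⟨θ, e, he, hres⟩ := hfr
  obtain ⟨c, rfl⟩ := (Subgroup.isCyclic_iff_exists_zpowers_eq_top _).1 hC
  obtain ⟨x, rfl⟩ := QuotientGroup.mk_surjective c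
  set q := QuotientGroup.mk' Z with hq
  set A := (Subgroup.zpowers (x : H ⧸ Z)).comap q with hA
  let := Fintype.ofFinite A
  have hxA : x ∈ A := Subgroup.mem_zpowers (x : H ⧸ Z)
  have hZA : Z ≤ A := fun z hz => by
    show q z ∈ Subgroup.zpowers (x : H ⧸ Z)
    rw [show q z = 1 from (QuotientGroup.eq_one_iff z).2 hz]
    exact Subgroup.one_mem _
  have hxZ : x ∉ Z := fun h => hZ <| by
    refine eq_top_iff.2 fun y _ => (QuotientGroup.eq_one_iff y).1 ?_
    have hx1 : (x : H ⧸ Z) = 1 := (QuotientGroup.eq_one_iff x).2 h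
    rw [hx1, Subgroup.zpowers_one_eq_bot] at hCC
    have : (y : H ⧸ Z) ∈ (⊥ : Subgroup (H ⧸ Z)) := hCC ▸ Subgroup.mem_centralizer_iff.2
      fun z hz => by
        have hz1 : z = 1 := Subgroup.mem_bot.1 hz
        simp [hz1]
    exact Subgroup.mem_bot.1 this
  -- the only character over `θ`
  have he0 : e ≠ 0 := fun h => Subgroup.index_ne_zero_of_finite (H := Z) (by rw [← he, h]; rfl)
  have hθχ : classInner (indFun Z (θ : Z → ℂ)) (χ : H → ℂ) = (e : ℂ) := by
    rw [Char.classInner_indFun_left Z _ (Char.isClassFunction_of_isIrr χ.2),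
      show (fun z : Z => (χ : H → ℂ) z) = (e : ℂ) • (θ : Z → ℂ) from funext hres,
      Char.classInner_smul_right, Char.classInner_irr_self θ.2, map_natCast, mul_one]
  have hind : indFun Z (θ : Z → ℂ) = (e : ℂ) • (χ : H → ℂ) := by
    have hI := Char.isCharacter_indFun Z (Char.IsIrr.isCharacter θ.2)
    have hR : IsCharacter H (indFun Z (θ : Z → ℂ) - (e : ℂ) • (χ : H → ℂ)) := by
      refine Char.isCharacter_iff.2 ⟨fun g k => ?_, fun ξ => ?_⟩
      · simp only [Pi.sub_apply, Pi.smul_apply, Char.isClassFunction_indFun Z (θ : Z → ℂ) g k,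
          Char.isClassFunction_of_isIrr χ.2 g k]
      · rw [Char.classInner_sub_left, Char.classInner_smul_left, Char.classInner_irrChar]
        split_ifs with hξ
        · exact ⟨0, by rw [← hξ, hθχ]; simp⟩
        · obtain ⟨k, hk⟩ := Char.classInner_isCharacter_eq_natCast hI (Char.IsIrr.isCharacter ξ.2)
          exact ⟨k, by rw [hk, mul_zero, sub_zero]⟩
    refine sub_eq_zero.1 ((Char.IsChar.eq_zero_iff hR).2 ?_)
    rw [Pi.sub_apply, Pi.smul_apply, Char.indFun_apply_one, ← he,
      show (χ : H → ℂ) 1 = (e : ℂ) * (θ : Z → ℂ) 1 from hres 1, smul_eq_mul]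
    push_cast
    ring
  have hvan : ∀ g : H, g ∉ Z → (χ : H → ℂ) g = 0 := fun g hg => by
    have h := congrFun hind g
    rw [Char.indFun_apply_of_normal (H := Z) _ hg, Pi.smul_apply, smul_eq_mul] at h
    exact (mul_eq_zero.1 h.symm).resolve_left (Nat.cast_ne_zero.2 he0)
  have honly : ∀ ψ : IrrCharacter H, ψ ≠ χ →
      classInner (θ : Z → ℂ) (fun z : Z => (ψ : H → ℂ) z) = 0 := fun ψ hψ => by
    rw [← Char.classInner_indFun_left Z _ (Char.isClassFunction_of_isIrr ψ.2), hind,
      Char.classInner_smul_left, Char.classInner_irrChar, if_neg hψ.symm, mul_zero]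
  have hinv : ∀ (g : H) (z : Z), (θ : Z → ℂ) ⟨g * z * g⁻¹, (inferInstance : Z.Normal).conj_mem z z.2 g⟩ =
      (θ : Z → ℂ) z := fun g z => by
    apply mul_left_cancel₀ (Nat.cast_ne_zero.2 he0 : (e : ℂ) ≠ 0)
    rw [← hres, ← hres]
    exact Char.isClassFunction_of_isIrr χ.2 (z : H) g
  -- extend to the preimage of `C`
  let Z' := Z.subgroupOf A
  let := Fintype.ofFinite Z'
  let eZ : Z' ≃* Z := Subgroup.subgroupOfEquivOfLe hZA
  have hcyc : IsCyclic (A ⧸ Z') := by
    let f : A →* Subgroup.zpowers (x : H ⧸ Z) := q.subgroupComap _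
    let g : A ⧸ Z' →* Subgroup.zpowers (x : H ⧸ Z) :=
      QuotientGroup.lift Z' f fun a ha => Subtype.ext ((QuotientGroup.eq_one_iff (a : H)).2 ha)
    refine isCyclic_of_injective g ((injective_iff_map_eq_one g).2 fun a => ?_)
    obtain ⟨a, rfl⟩ := QuotientGroup.mk_surjective a
    intro ha
    rw [QuotientGroup.eq_one_iff]
    exact (QuotientGroup.eq_one_iff (a : H)).1 (congrArg Subtype.val ha)
  obtain ⟨ξ, hξ, hξZ⟩ := S0886.result Z' hcyc (fun z => (θ : Z → ℂ) (eZ z))
    ((Char.isIrrCharacter_comp_equiv eZ).2 θ.2) (fun a z => hinv (a : H) (eZ z))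
  have hξres : IsIrrCharacter Z' (fun z : Z' => ξ z) := by
    rw [funext hξZ]
    exact (Char.isIrrCharacter_comp_equiv eZ).2 θ.2
  -- the class function
  set η : A → ℂ := fun a => if q (a : H) = (x : H ⧸ Z) then ξ a else 0 with hη
  set φ := indFun A η with hφ
  set xA : A := ⟨x, hxA⟩
  have hφ0 : φ = 0 := by
    refine Char.classFun_eq_zero (Char.isClassFunction_indFun A η) fun ψ => ?_
    rw [hφ, Char.classInner_indFun_left A η (Char.isClassFunction_of_isIrr ψ.2)]
    have hsum : classInner η (fun a : A => (ψ : H → ℂ) a) = (Nat.card A : ℂ)⁻¹ *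
        ∑ z : Z', ξ ((z : A) * xA) * (starRingEnd ℂ) ((ψ : H → ℂ) ((z : A) * xA : A)) := by
      simp only [classInner, hη, ite_mul, zero_mul, ← Finset.sum_filter]
      congr 1
      symm
      refine Finset.sum_bij (fun z _ => (z : A) * xA) (fun z _ => ?_) ?_ (fun a ha => ?_) fun z _ => rfl
      · have hz : q ((z : A) : H) = 1 := (QuotientGroup.eq_one_iff _).2 z.2
        rw [Finset.mem_filter]
        refine ⟨Finset.mem_univ _, ?_⟩
        show q (((z : A) : H) * x) = _
        rw [map_mul, hz, one_mul]
        rfl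
      · exact fun z _ z' _ h => Subtype.ext (mul_right_cancel h)
      · rw [Finset.mem_filter] at ha
        refine ⟨⟨a * xA⁻¹, Subgroup.mem_subgroupOf.2 ((QuotientGroup.eq_one_iff _).1 ?_)⟩,
          Finset.mem_univ _, by simp⟩
        show q ((a : H) * x⁻¹) = 1
        rw [map_mul, map_inv, ha.2]
        exact mul_inv_cancel _
    rw [hsum]
    by_cases hψ : ψ = χ
    · subst hψ
      refine mul_eq_zero_of_right _ (Finset.sum_eq_zero fun z _ => ?_)
      rw [hvan _ fun h => hxZ ?_, map_zero, mul_zero]
      simpa [xA] using (Z.mul_mem_cancel_left (z.2 : ((z : A) : H) ∈ Z)).1 h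
    · have hψA := Char.isCharacter_res A (Char.IsIrr.isCharacter ψ.2)
      obtain ⟨m, -, hm, -⟩ := Char.IsChar.exists_mult hψA
      refine mul_eq_zero_of_right _ ?_
      have hgal : ∀ a : IrrCharacter A, m a ≠ 0 →
          ∑ z : Z', ξ ((z : A) * xA) * (starRingEnd ℂ) ((a : A → ℂ) ((z : A) * xA)) = 0 := by
        intro a ha
        have hz : classInner (fun z : Z' => (a : A → ℂ) z) (fun z : Z' => ξ z) = 0 := by
          have h0 := honly ψ hψ
          rw [← Char.classInner_conj_symm, map_eq_zero] at h0
          have h1 : classInner (fun z : Z' => (ψ : H → ℂ) ((z : A) : H)) (fun z : Z' => ξ z) = 0 := by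
            rw [funext hξZ, ← h0]
            simp only [classInner]
            rw [Nat.card_congr eZ.toEquiv]
            congr 1
            exact Fintype.sum_equiv eZ.toEquiv _ _ fun z => rfl
          rw [show (fun z : Z' => (ψ : H → ℂ) ((z : A) : H)) =
              ∑ b : IrrCharacter A, (m b : ℂ) • fun z : Z' => (b : A → ℂ) z from
            funext fun z => by
              have h2 := congrFun hm (z : A)
              simp only [Finset.sum_apply, Pi.smul_apply] at h2 ⊢
              exact h2,
            Char.classInner_sum_left] at h1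
          simp only [Char.classInner_smul_left] at h1
          have hnat : ∀ b : IrrCharacter A, ∃ k : ℕ,
              classInner (fun z : Z' => (b : A → ℂ) z) (fun z : Z' => ξ z) = k := fun b =>
            Char.classInner_isCharacter_eq_natCast (Char.isCharacter_res Z' (Char.IsIrr.isCharacter b.2))
              (Char.IsIrr.isCharacter hξres)
          choose k hk using hnat
          simp only [hk] at h1
          norm_cast at h1
          rw [hk]
          have h3 := Finset.sum_eq_zero_iff.1 h1 a (Finset.mem_univ a)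
          exact_mod_cast (Nat.mul_eq_zero.1 h3).resolve_left ha
        have h4 := congrArg (starRingEnd ℂ) (congrFun ((Char.gallagher Z' hξ hξres a.2).2 hz) xA)
        simp only [Char.galEta, map_mul, map_inv₀, map_natCast, map_sum, Complex.conj_conj,
          Pi.zero_apply, map_zero, mul_eq_zero, inv_eq_zero] at h4
        rw [← h4.resolve_left Char.card_ne_zero]
        exact Finset.sum_congr rfl fun z _ => mul_comm _ _
      calc ∑ z : Z', ξ ((z : A) * xA) * (starRingEnd ℂ) ((ψ : H → ℂ) ((z : A) * xA : A))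
          = ∑ z : Z', ∑ b : IrrCharacter A, (m b : ℂ) *
              (ξ ((z : A) * xA) * (starRingEnd ℂ) ((b : A → ℂ) ((z : A) * xA))) := by
            refine Finset.sum_congr rfl fun z _ => ?_
            rw [congrFun hm ((z : A) * xA)]
            simp only [Finset.sum_apply, Pi.smul_apply, smul_eq_mul, map_sum, map_mul, map_natCast,
              Finset.mul_sum]
            exact Finset.sum_congr rfl fun b _ => by ring
        _ = 0 := by
            rw [Finset.sum_comm]
            refine Finset.sum_eq_zero fun b _ => ?_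
            rw [← Finset.mul_sum]
            by_cases hb : m b = 0
            · simp [hb]
            · rw [hgal b hb, mul_zero]
  -- evaluation
  have hφval : ∀ a : A, q (a : H) = (x : H ⧸ Z) → φ a = ξ a := by
    intro a ha
    have hterm : ∀ h : H, Cfsg.extendByZero A η (h⁻¹ * a * h) = if h ∈ A then ξ a else 0 := by
      intro h
      split_ifs with hh
      · have hmem : h⁻¹ * a * h ∈ A := A.mul_mem (A.mul_mem (A.inv_mem hh) a.2) hh
        rw [Char.extendByZero_of_mem A η hmem, hη]
        have hc : q (h⁻¹ * a * h) = (x : H ⧸ Z) := by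
          obtain ⟨k, hk⟩ := Subgroup.mem_zpowers_iff.1 (hh : q h ∈ Subgroup.zpowers (x : H ⧸ Z))
          rw [map_mul, map_mul, map_inv, ha, ← hk]
          group
        simp only [hc, if_true]
        exact Char.classFun_isConj (Char.isClassFunction_of_isIrr hξ)
          (isConj_iff.2 ⟨⟨h, hh⟩, Subtype.ext (by simp [mul_assoc])⟩)
      · by_cases hmem : h⁻¹ * a * h ∈ A
        · rw [Char.extendByZero_of_mem A η hmem, hη]
          refine if_neg fun hc => hh ?_
          show q h ∈ Subgroup.zpowers (x : H ⧸ Z)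
          rw [← hCC, Subgroup.mem_centralizer_iff]
          intro y hy
          obtain ⟨k, rfl⟩ := Subgroup.mem_zpowers_iff.1 hy
          rw [map_mul, map_mul, map_inv, ha] at hc
          have hcomm : Commute (q h) (x : H ⧸ Z) := by
            show q h * (x : H ⧸ Z) = (x : H ⧸ Z) * q h
            calc q h * (x : H ⧸ Z) = q h * ((q h)⁻¹ * (x : H ⧸ Z) * q h) := by rw [hc]
              _ = _ := by group
          exact (hcomm.zpow_right k).eq.symm
        · exact Char.extendByZero_of_not_mem A η hmem
    rw [hφ, Char.indFun_apply, Finset.sum_congr rfl fun h _ => hterm h, ← Finset.sum_filter,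
      Finset.sum_const, nsmul_eq_mul, ← Fintype.card_subtype, ← Nat.card_eq_fintype_card, ← mul_assoc]
    show (Nat.card A : ℂ)⁻¹ * (Nat.card A : ℂ) * ξ a = ξ a
    rw [inv_mul_cancel₀ Char.card_ne_zero, one_mul]
  have hzero : ∀ z : Z', ξ ((z : A) * xA) = 0 := fun z => by
    have hz : q ((z : A) : H) = 1 := (QuotientGroup.eq_one_iff _).2 z.2
    have h := hφval ((z : A) * xA) (by
      show q (((z : A) : H) * x) = _
      rw [map_mul, hz, one_mul]
      rfl)
    rw [hφ0] at h
    exact h.symm
  have h := Char.avg_normSq_eq_one Z' hξ hξres xA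
  simp [hzero] at h

end Cfsg.Agent.S4565
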