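import Cfsg.Statements.S4566
import Cfsg.Agent.CharArith.Basic
-- import your own Cfsg.Agent.* helpers here

set_option autoImplicit false
open Cfsg

namespace Cfsg.Agent.S4566

/-- Let N be a central subgroup of the finite group G, ψ a faithful irreducible (hence degree-one) character of N, and χ an irreducible character of G whose restriction to N contains ψ. If g ∈ G and some x ∈ G has commutator x⁻¹ g⁻¹ x g in N but different from 1, then χ g = 0. -/
theorem result {G : Type*} [Group G] [Fintype G] (N : Subgroup G) [Fintype N] (hN : N ≤ Subgroup.center G) (ψ : Cfsg.IrrCharacter ↥N) (hfaith : ∀ n : ↥N, (ψ : ↥N → ℂ) n = (ψ : ↥N → ℂ) 1 → n = 1) (χ : Cfsg.IrrCharacter G) (hover : Cfsg.classInner (fun n : ↥N => (χ : G → ℂ) n) (ψ : ↥N → ℂ) ≠ 0) (g x : G) (hcomm : x⁻¹ * g⁻¹ * x * g ∈ N) (hne : x⁻¹ * g⁻¹ * x * g ≠ 1) : (χ : G → ℂ) g = 0 := by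
  obtain ⟨n, ρ, hρ, hχ⟩ := χ.2
  have hn : (n : ℂ) ≠ 0 := by
    intro h
    apply Char.IsIrr.one_ne_zero χ.2
    rw [← hχ, ρ.char_one, Module.finrank_fin_fun, h]
  have hscal : ∀ z : ↥N, ∃ c : ℂ, ρ (z : G) = c • (LinearMap.id : (Fin n → ℂ) →ₗ[ℂ] (Fin n → ℂ)) := by
    intro z
    classical
    let f : G → ℂ := fun g => if g = (z : G) then 1 else 0
    have hf : Cfsg.IsClassFunction G f := by
      intro g k
      have hz := Subgroup.mem_center_iff.1 (hN z.2)
      simp only [f]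
      refine if_congr ?_ rfl rfl
      constructor
      · intro e
        calc g = k⁻¹ * (k * g * k⁻¹) * k := by group
          _ = k⁻¹ * (z : G) * k := by rw [e]
          _ = (z : G) := by rw [mul_assoc, ← hz k, inv_mul_cancel_left]
      · intro e
        rw [e, hz k, mul_inv_cancel_right]
    obtain ⟨c, hc, -⟩ := Char.sum_smul_rep_eq_scalar ρ hρ hf
    refine ⟨c, ?_⟩
    rw [← hc]
    simp [f, ite_smul]
  choose c hc using hscal
  have hcχ : ∀ (z : ↥N) (g : G), (χ : G → ℂ) ((z : G) * g) = c z * (χ : G → ℂ) g := by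
    intro z g
    rw [← hχ]
    show LinearMap.trace ℂ _ (ρ ((z : G) * g)) = c z * LinearMap.trace ℂ _ (ρ g)
    rw [map_mul, hc z]
    show LinearMap.trace ℂ _ ((c z • (1 : Module.End ℂ (Fin n → ℂ))) * ρ g) = _
    rw [smul_mul_assoc, one_mul, map_smul, smul_eq_mul]
  have hres : ∀ z : ↥N, (χ : G → ℂ) (z : G) = c z * n := by
    intro z
    have := hcχ z 1
    rwa [mul_one, ← hχ, ρ.char_one, Module.finrank_fin_fun, hχ] at this
  let f : ↥N →* ℂ :=
    { toFun := c
      map_one' := mul_right_cancel₀ hn (by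
        rw [← hres, one_mul, OneMemClass.coe_one, ← hχ, ρ.char_one, Module.finrank_fin_fun])
      map_mul' := fun a b => mul_right_cancel₀ hn (by
        rw [← hres, Subgroup.coe_mul, hcχ, hres, mul_assoc]) }
  have hcψ : (ψ : ↥N → ℂ) = fun z => c z := by
    by_contra hne
    apply hover
    have hirr : Cfsg.IsIrrCharacter ↥N (fun z => ((f.toHomUnits z : ℂˣ) : ℂ)) :=
      Char.isIrrCharacter_hom f.toHomUnits
    have h0 := Char.classInner_irr_ne hirr ψ.2 (fun e => hne e.symm)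
    have e : (fun z : ↥N => (χ : G → ℂ) (z : G)) = (n : ℂ) • (fun z => ((f.toHomUnits z : ℂˣ) : ℂ)) := by
      funext z
      rw [hres, Pi.smul_apply, smul_eq_mul, mul_comm]
      rfl
    rw [e, Char.classInner_smul_left, h0, mul_zero]
  set z : ↥N := ⟨x⁻¹ * g⁻¹ * x * g, hcomm⟩ with hz
  have hcz : c z ≠ 1 := by
    intro h
    apply hne
    have h1 : (ψ : ↥N → ℂ) z = (ψ : ↥N → ℂ) 1 := by
      rw [hcψ]
      exact h.trans f.map_one.symm
    exact congrArg Subtype.val (hfaith z h1)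
  have h1 := hcχ z g⁻¹
  rw [show (z : G) * g⁻¹ = x⁻¹ * g⁻¹ * x⁻¹⁻¹ by simp only [hz]; group,
    Char.isClassFunction_of_isIrr χ.2 g⁻¹ x⁻¹] at h1
  have h2 : (χ : G → ℂ) g⁻¹ = 0 := by
    by_contra h0
    exact hcz (mul_right_cancel₀ h0 (by rw [one_mul, ← h1]))
  rwa [Char.IsChar.inv_eq_conj (Char.IsIrr.isCharacter χ.2), map_eq_zero] at h2

end Cfsg.Agent.S4566
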