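import Cfsg.Statements.S4567
import Cfsg.Agent.Char.ClassAlg
import Cfsg.Agent.Char.Ortho
import Cfsg.Agent.Char.Linear
import Cfsg.Agent.Char.Induced
-- import your own Cfsg.Agent.* helpers here

set_option autoImplicit false
open Cfsg

namespace Cfsg.Agent.S4567

/-- Let N be a central subgroup of the finite group G and ψ a faithful irreducible (hence degree-one) character of N. Call a coset g N special when every x ∈ G whose commutator x⁻¹ g⁻¹ x g lies in N actually commutes with g (this depends only on the coset). Then the number of irreducible characters of G whose restriction to N contains ψ equals the number of conjugacy classes of G/N consisting of special cosets. -/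
theorem result {G : Type*} [Group G] [Fintype G] (N : Subgroup G) [N.Normal] [Fintype N] (hN : N ≤ Subgroup.center G) (ψ : Cfsg.IrrCharacter ↥N) (hfaith : ∀ n : ↥N, (ψ : ↥N → ℂ) n = (ψ : ↥N → ℂ) 1 → n = 1) : Nat.card {χ : Cfsg.IrrCharacter G // Cfsg.classInner (fun n : ↥N => (χ : G → ℂ) n) (ψ : ↥N → ℂ) ≠ 0} = Nat.card {C : ConjClasses (G ⧸ N) // ∃ g : G, ConjClasses.mk (g : G ⧸ N) = C ∧ ∀ x : G, x⁻¹ * g⁻¹ * x * g ∈ N → x * g = g * x} := by
  classical
  obtain ⟨f, hf⟩ : ∃ f : ↥N →* ℂˣ, (ψ : ↥N → ℂ) = fun n => (f n : ℂ) :=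
    Cfsg.Agent.Char.IsChar.exists_hom (Cfsg.Agent.Char.IsIrr.isCharacter ψ.2)
      (Cfsg.Agent.Char.IsIrr.degree_one_of_comm ψ.2 fun a b =>
        Subtype.ext (Subgroup.mem_center_iff.1 (hN b.2) a))
  have hfi : ∀ n, (f n : ℂ) = 1 → n = 1 := fun n hn => hfaith n (by simp [hf, hn])
  have hcen : ∀ (χ : Cfsg.IrrCharacter G) (g : G) (n : ↥N),
      (χ : G → ℂ) 1 * (χ : G → ℂ) (g * n) = (χ : G → ℂ) n * (χ : G → ℂ) g := by
    rintro ⟨_, d, ρ, hρ, rfl⟩ g n
    obtain ⟨c, hc, hc'⟩ := Cfsg.Agent.Char.commute_eq_scalar ρ hρ (ρ n) fun a => by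
      rw [← map_mul, ← map_mul, (Subgroup.mem_center_iff.1 (hN n.2) a)]
    show ρ.character 1 * LinearMap.trace ℂ _ (ρ (g * n)) = LinearMap.trace ℂ _ (ρ n) * ρ.character g
    rw [ρ.char_one, ← hc', map_mul, hc, mul_smul_comm, map_smul, smul_eq_mul,
      ← Module.End.one_eq_id, mul_one, Representation.character]
    ring
  have hover : ∀ χ : Cfsg.IrrCharacter G,
      Cfsg.classInner (fun n : ↥N => (χ : G → ℂ) n) (ψ : ↥N → ℂ) ≠ 0 →
      ∀ (g : G) (n : ↥N), (χ : G → ℂ) (g * n) = (f n : ℂ) * (χ : G → ℂ) g := by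
    intro χ h g n
    have hne := Cfsg.Agent.Char.IsIrr.one_ne_zero χ.2
    have key : (χ : G → ℂ) n * (starRingEnd ℂ) (f n : ℂ) = (χ : G → ℂ) 1 := by
      apply mul_right_cancel₀ h
      simp only [Cfsg.classInner, hf, Finset.mul_sum]
      conv_rhs => rw [← Equiv.sum_comp (Equiv.mulLeft n)]
      refine Finset.sum_congr rfl fun m _ => ?_
      simp only [Equiv.coe_mulLeft, Subgroup.coe_mul, map_mul, Units.val_mul]
      have := hcen χ n m
      linear_combination (-(Nat.card ↥N : ℂ)⁻¹ * (starRingEnd ℂ) (f n : ℂ) * (starRingEnd ℂ) (f m : ℂ)) * this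
    have hu : (f n : ℂ) * (starRingEnd ℂ) (f n : ℂ) = 1 := by
      rw [← Cfsg.Agent.Char.IsChar.inv_eq_conj (Cfsg.Agent.Char.isCharacter_hom f), ← Units.val_mul,
        ← map_mul, mul_inv_cancel, map_one, Units.val_one]
    apply mul_left_cancel₀ hne
    rw [hcen]
    linear_combination ((f n : ℂ) * (χ : G → ℂ) g) * key - ((χ : G → ℂ) n * (χ : G → ℂ) g) * hu
  have hcoef : ∀ F : G → ℂ, (∀ (g : G) (n : ↥N), F (g * n) = (f n : ℂ) * F g) →
      ∀ χ : Cfsg.IrrCharacter G, Cfsg.classInner F (χ : G → ℂ) ≠ 0 →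
      Cfsg.classInner (fun n : ↥N => (χ : G → ℂ) n) (ψ : ↥N → ℂ) ≠ 0 := by
    intro F hF χ h
    have hn : ∀ n : ↥N, (χ : G → ℂ) n = (χ : G → ℂ) 1 * (f n : ℂ) := by
      intro n
      have key : (f n : ℂ) * (starRingEnd ℂ) ((χ : G → ℂ) n) = (starRingEnd ℂ) ((χ : G → ℂ) 1) := by
        apply mul_right_cancel₀ h
        simp only [Cfsg.classInner, Finset.mul_sum]
        conv_rhs => rw [← Equiv.sum_comp (Equiv.mulRight (n : G))]
        refine Finset.sum_congr rfl fun m _ => ?_
        simp only [Equiv.coe_mulRight, hF]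
        have := congrArg (starRingEnd ℂ) (hcen χ m n)
        simp only [map_mul] at this
        linear_combination (-(Nat.card G : ℂ)⁻¹ * (f n : ℂ) * F m) * this
      have hu : (f n : ℂ) * (starRingEnd ℂ) (f n : ℂ) = 1 := by
        rw [← Cfsg.Agent.Char.IsChar.inv_eq_conj (Cfsg.Agent.Char.isCharacter_hom f), ← Units.val_mul,
          ← map_mul, mul_inv_cancel, map_one, Units.val_one]
      have key' := congrArg (starRingEnd ℂ) key
      simp only [map_mul, Complex.conj_conj] at key'
      linear_combination (f n : ℂ) * key' - (χ : G → ℂ) n * hu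
    have heq : (fun n : ↥N => (χ : G → ℂ) n) = (χ : G → ℂ) 1 • (ψ : ↥N → ℂ) := by
      funext n; simp [hn, hf]
    rw [heq, Cfsg.Agent.Char.classInner_smul_left, Cfsg.Agent.Char.classInner_irr_self ψ.2, mul_one]
    exact Cfsg.Agent.Char.IsIrr.one_ne_zero χ.2
  let I := {χ : Cfsg.IrrCharacter G //
    Cfsg.classInner (fun n : ↥N => (χ : G → ℂ) n) (ψ : ↥N → ℂ) ≠ 0}
  let J := {C : ConjClasses (G ⧸ N) // ∃ g : G, ConjClasses.mk (g : G ⧸ N) = C ∧
    ∀ x : G, x⁻¹ * g⁻¹ * x * g ∈ N → x * g = g * x}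
  haveI : Finite (ConjClasses (G ⧸ N)) := Finite.of_surjective _ ConjClasses.mk_surjective
  haveI : Fintype I := Fintype.ofFinite _
  haveI : Fintype J := Fintype.ofFinite _
  let r : J → G := fun C => C.2.choose
  have hr : ∀ C : J, ConjClasses.mk (r C : G ⧸ N) = C.1 := fun C => C.2.choose_spec.1
  have hrs : ∀ C : J, ∀ x : G, x⁻¹ * (r C)⁻¹ * x * r C ∈ N → x * r C = r C * x :=
    fun C => C.2.choose_spec.2
  let L : (I → ℂ) →ₗ[ℂ] (J → ℂ) :=
    { toFun := fun c C => ∑ χ : I, c χ * (χ.1 : G → ℂ) (r C)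
      map_add' := fun c d => funext fun C => by simp [add_mul, Finset.sum_add_distrib]
      map_smul' := fun a c => funext fun C => by simp [Finset.mul_sum, mul_assoc] }
  have hinj : Function.Injective L := by
    rw [← LinearMap.ker_eq_bot, LinearMap.ker_eq_bot']
    intro c hc
    let F : G → ℂ := fun g => ∑ χ : I, c χ * (χ.1 : G → ℂ) g
    have hF : Cfsg.IsClassFunction G F := fun g k => Finset.sum_congr rfl fun χ _ => by
      rw [Cfsg.Agent.Char.isClassFunction_of_isIrr χ.1.2 g k]
    have hFn : ∀ (g : G) (n : ↥N), F (g * n) = (f n : ℂ) * F g := fun g n => by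
      simp only [F, Finset.mul_sum]
      exact Finset.sum_congr rfl fun χ _ => by rw [hover χ.1 χ.2 g n]; ring
    have hF0 : ∀ g, F g = 0 := by
      intro g
      by_cases hs : ∀ x : G, x⁻¹ * g⁻¹ * x * g ∈ N → x * g = g * x
      · let C : J := ⟨ConjClasses.mk (g : G ⧸ N), g, rfl, hs⟩
        obtain ⟨k, hk⟩ := isConj_iff.1 (ConjClasses.mk_eq_mk_iff_isConj.1 (hr C))
        obtain ⟨k, rfl⟩ := QuotientGroup.mk_surjective k
        rw [← QuotientGroup.mk_inv, ← QuotientGroup.mk_mul, ← QuotientGroup.mk_mul,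
          QuotientGroup.eq] at hk
        have h0 : F (r C) = 0 := congrFun hc C
        have := hFn (k * r C * k⁻¹) ⟨_, hk⟩
        rwa [hF, h0, mul_zero, Subtype.coe_mk, mul_inv_cancel_left] at this
      · push Not at hs
        obtain ⟨x, hx, hxg⟩ := hs
        have hn : (⟨x⁻¹ * g⁻¹ * x * g, hx⟩ : ↥N) ≠ 1 := fun e => hxg (by
          have e' : x⁻¹ * g⁻¹ * x * g = 1 := congrArg Subtype.val e
          calc x * g = g * x * (x⁻¹ * g⁻¹ * x * g) := by group
            _ = g * x := by rw [e', mul_one])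
        have h1 := hFn (x⁻¹ * g * x) ⟨_, hx⟩
        have h2 : F (x⁻¹ * g * x) = F g := by simpa using hF g x⁻¹
        rw [h2, show x⁻¹ * g * x * (x⁻¹ * g⁻¹ * x * g) = g by group] at h1
        by_contra h0
        exact hn (hfi _ ((mul_eq_right₀ h0).1 h1.symm))
    funext χ
    exact Fintype.linearIndependent_iff.1
      (Cfsg.Agent.Char.linearIndependent_irr.comp (Subtype.val : I → _) Subtype.val_injective) c
      (funext fun g => by simpa [F] using hF0 g) χ
  have hsurj : Function.Surjective L := by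
    let F : J → G → ℂ := fun C y =>
      ∑ h : G, ∑ n : ↥N, if h * r C * h⁻¹ * n = y then (f n : ℂ) else 0
    have hFc : ∀ C, Cfsg.IsClassFunction G (F C) := by
      intro C y k
      simp only [F]
      refine Fintype.sum_equiv (Equiv.mulLeft k⁻¹) _ _ fun h => Finset.sum_congr rfl fun n _ => ?_
      refine if_congr ?_ rfl rfl
      rw [Equiv.coe_mulLeft]
      have hn := Subgroup.mem_center_iff.1 (hN n.2) k⁻¹
      constructor
      · intro e
        calc k⁻¹ * h * r C * (k⁻¹ * h)⁻¹ * (n : G)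
            = k⁻¹ * (h * r C * h⁻¹ * n) * k := by
              rw [mul_inv_rev, inv_inv]
              have := Subgroup.mem_center_iff.1 (hN n.2) k
              simp only [mul_assoc, this]
          _ = y := by rw [e]; group
      · intro e
        calc h * r C * h⁻¹ * (n : G) = k * (k⁻¹ * h * r C * (k⁻¹ * h)⁻¹ * n) * k⁻¹ := by
              rw [mul_inv_rev, inv_inv]
              simp only [mul_assoc, ← hn, mul_inv_cancel_left, inv_mul_cancel_left]
          _ = k * y * k⁻¹ := by rw [e]
    have hFn : ∀ C (g : G) (m : ↥N), F C (g * m) = (f m : ℂ) * F C g := by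
      intro C g m
      simp only [F, Finset.mul_sum]
      refine Finset.sum_congr rfl fun h _ => ?_
      refine (Fintype.sum_equiv (Equiv.mulRight m) _ _ fun n => ?_).symm
      simp only [Equiv.coe_mulRight, Subgroup.coe_mul, map_mul, Units.val_mul, mul_ite, mul_zero]
      refine if_congr ?_ (mul_comm _ _) rfl
      rw [← mul_assoc, mul_left_inj]
    have hFr : ∀ C, F C (r C) ≠ 0 := by
      intro C
      have : F C (r C) = (Finset.univ.filter fun hn : G × ↥N =>
          hn.1 * r C * hn.1⁻¹ * hn.2 = r C).card := by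
        rw [← Finset.sum_boole, Fintype.sum_prod_type]
        refine Finset.sum_congr rfl fun h _ => Finset.sum_congr rfl fun n _ => ?_
        split_ifs with e
        · have hn : (n : G) = h * (r C)⁻¹ * h⁻¹ * r C := by
            calc (n : G) = (h * r C * h⁻¹)⁻¹ * (h * r C * h⁻¹ * n) := by group
              _ = _ := by rw [e]; group
          have hc := hrs C h⁻¹ (by rw [inv_inv]; exact hn ▸ n.2)
          have : n = 1 := Subtype.ext (by
            rw [hn, mul_assoc (h * (r C)⁻¹), hc]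
            simp [mul_assoc])
          simp [this]
        · rfl
      rw [this, Nat.cast_ne_zero, ← Nat.pos_iff_ne_zero, Finset.card_pos]
      exact ⟨(1, 1), by simp⟩
    have hFne : ∀ C D, C ≠ D → F C (r D) = 0 := by
      intro C D hne
      refine Finset.sum_eq_zero fun h _ => Finset.sum_eq_zero fun n _ => if_neg fun e => hne ?_
      apply Subtype.ext
      rw [← hr C, ← hr D, ConjClasses.mk_eq_mk_iff_isConj, isConj_iff]
      refine ⟨(h : G ⧸ N), ?_⟩
      rw [← e, QuotientGroup.mk_mul, (QuotientGroup.eq_one_iff (n : G)).2 n.2, mul_one,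
        QuotientGroup.mk_mul, QuotientGroup.mk_mul, QuotientGroup.mk_inv]
    have hex : ∀ C, ∀ D, L (fun χ => Cfsg.classInner (F C) (χ.1 : G → ℂ)) D = F C (r D) := by
      intro C D
      conv_rhs => rw [Cfsg.Agent.Char.classFun_expansion (hFc C)]
      simp only [Finset.sum_apply, Pi.smul_apply, smul_eq_mul]
      show ∑ χ : I, Cfsg.classInner (F C) (χ.1 : G → ℂ) * (χ.1 : G → ℂ) (r D) = _
      rw [← Finset.sum_subtype (Finset.univ.filter fun χ : Cfsg.IrrCharacter G =>
        Cfsg.classInner (fun n : ↥N => (χ : G → ℂ) n) (ψ : ↥N → ℂ) ≠ 0) (fun χ => by simp)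
        (fun χ => Cfsg.classInner (F C) (χ : G → ℂ) * (χ : G → ℂ) (r D))]
      refine Finset.sum_subset (Finset.subset_univ _) fun χ _ hχ => ?_
      simp only [Finset.mem_filter, Finset.mem_univ, true_and, not_not] at hχ
      by_contra h0
      exact hcoef (F C) (hFn C) χ (left_ne_zero_of_mul h0) hχ
    intro v
    refine ⟨∑ C : J, (v C / F C (r C)) • fun χ : I => Cfsg.classInner (F C) (χ.1 : G → ℂ), ?_⟩
    funext D
    rw [map_sum, Finset.sum_apply, Finset.sum_eq_single D
      (fun C _ hC => by rw [map_smul, Pi.smul_apply, hex, hFne C D hC, smul_zero])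
      (fun h => absurd (Finset.mem_univ D) h), map_smul, Pi.smul_apply, hex, smul_eq_mul,
      div_mul_cancel₀ _ (hFr D)]
  have h := (LinearEquiv.ofBijective L ⟨hinj, hsurj⟩).finrank_eq
  rwa [Module.finrank_pi, Module.finrank_pi, ← Nat.card_eq_fintype_card,
    ← Nat.card_eq_fintype_card] at h

end Cfsg.Agent.S4567
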