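import Cfsg.Statements.S4574
import Cfsg.Agent.Char.Zero
import Cfsg.Agent.CharArith.Basic
-- import your own Cfsg.Agent.* helpers here

set_option autoImplicit false
open Cfsg

namespace Cfsg.Agent.S4574

/-- Let χ be an irreducible character of the finite group G, of degree d, and let Z(χ) be the set of elements g with |χ g| = d (the centre of χ). Then χ vanishes on at least (d ^ 2 - 1) · |Z(χ)| elements of G, with equality when every value |χ g| is 0, 1 or d. -/
theorem result {G : Type*} [Group G] [Fintype G] [DecidableEq G] (χ : G → ℂ) (hχ : Cfsg.IsIrrCharacter G χ) : (Cfsg.charDegree χ ^ 2 - 1) * (Finset.univ.filter (fun g : G => ‖χ g‖ = (Cfsg.charDegree χ : ℝ))).card ≤ (Finset.univ.filter (fun g : G => χ g = 0)).card ∧ ((∀ g : G, ‖χ g‖ = 0 ∨ ‖χ g‖ = 1 ∨ ‖χ g‖ = (Cfsg.charDegree χ : ℝ)) → (Cfsg.charDegree χ ^ 2 - 1) * (Finset.univ.filter (fun g : G => ‖χ g‖ = (Cfsg.charDegree χ : ℝ))).card = (Finset.univ.filter (fun g : G => χ g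 = 0)).card) := by
  classical
  have hc := Agent.Char.IsIrr.isCharacter hχ
  set d := Cfsg.charDegree χ with hd
  set Z := Finset.univ.filter (fun g : G => ‖χ g‖ = (d : ℝ)) with hZ
  set N := Finset.univ.filter (fun g : G => χ g = 0) with hN
  set S := Finset.univ.filter (fun g : G => ‖χ g‖ ≠ (d : ℝ) ∧ χ g ≠ 0) with hS
  obtain ⟨n, hn, hn1⟩ := Agent.Char.IsIrr.degree hχ
  have hd0 : 0 < d := by rw [hd, Cfsg.charDegree, hn1]; simpa using hn
  let ψ : G → ℂ := fun g => χ g * (starRingEnd ℂ) (χ g)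
  have hψ : Cfsg.IsCharacter G ψ := Agent.Char.isCharacter_mul hc (Agent.Char.isCharacter_conj hc)
  have hval : ∀ g, ψ g = ((‖χ g‖ ^ 2 : ℝ) : ℂ) := fun g => by
    simp only [ψ]
    rw [Complex.mul_conj, Complex.normSq_eq_norm_sq]
  have hre : ∀ g, (ψ g).re = ‖χ g‖ ^ 2 := fun g => by rw [hval, Complex.ofReal_re]
  -- the three pieces
  have hsplit : ∀ F : G → ℝ, ∑ g, F g = (∑ g ∈ Z, F g) + (∑ g ∈ N, F g) + ∑ g ∈ S, F g := fun F => by
    simp only [hZ, hN, hS, Finset.sum_filter, ← Finset.sum_add_distrib]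
    refine Finset.sum_congr rfl fun g _ => ?_
    by_cases h0 : χ g = 0
    · have : ‖χ g‖ ≠ (d : ℝ) := by
        rw [h0, norm_zero]
        exact (Nat.cast_pos.2 hd0).ne
      rw [if_neg this, if_pos h0, if_neg fun hh => hh.2 h0, zero_add, add_zero]
    · by_cases h1 : ‖χ g‖ = (d : ℝ) <;> simp [h0, h1]
  have hcount : (Nat.card G : ℝ) = (Z.card : ℝ) + (N.card : ℝ) + (S.card : ℝ) := by
    have := hsplit fun _ => 1
    simpa [Nat.card_eq_fintype_card] using this
  have htot : ∑ g, (ψ g).re = (Nat.card G : ℝ) := by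
    have h1 := Agent.Char.classInner_irr_self hχ
    rw [Cfsg.classInner, inv_mul_eq_iff_eq_mul₀ (Nat.cast_ne_zero.2 Nat.card_pos.ne'), mul_one] at h1
    rw [← Complex.re_sum, h1]
    simp
  have hZsum : ∑ g ∈ Z, (ψ g).re = (Z.card : ℝ) * (d : ℝ) ^ 2 := by
    rw [Finset.sum_congr rfl (g := fun _ => (d : ℝ) ^ 2) (fun g hg => by
      rw [hre, (Finset.mem_filter.1 hg).2]), Finset.sum_const, nsmul_eq_mul]
  have hNsum : ∑ g ∈ N, (ψ g).re = 0 := Finset.sum_eq_zero fun g hg => by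
    rw [hre, (Finset.mem_filter.1 hg).2]; simp
  have hgal : ∀ x ∈ S, ∀ k : ℕ, k.Coprime (Nat.card G) → x ^ k ∈ S := by
    intro x hx k hk
    obtain ⟨-, hxd, hx0⟩ := Finset.mem_filter.1 hx
    refine Finset.mem_filter.2 ⟨Finset.mem_univ _, fun hk1 => ?_, fun hk0 => ?_⟩
    · obtain ⟨m, ρ, hρ, rfl⟩ := hχ
      have hdm : (d : ℝ) = (Module.finrank ℂ (Fin m → ℂ) : ℝ) := by
        rw [hd, Cfsg.charDegree, ρ.char_one]; simp
      rw [hdm, Agent.Char.norm_character_eq_iff] at hk1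
      rw [hdm, ne_eq, Agent.Char.norm_character_eq_iff] at hxd
      obtain ⟨ω, hω⟩ := hk1
      refine hxd ?_
      obtain ⟨l, hl⟩ : ∃ l : ℕ, (x ^ k) ^ l = x :=
        (exists_pow_eq_self_of_coprime
          (hk.coprime_dvd_right (orderOf_dvd_natCard x)))
      refine ⟨ω ^ l, ?_⟩
      rw [← hl, map_pow, hω, smul_pow, ← Module.End.one_eq_id, one_pow]
    · obtain ⟨σ, hσ⟩ := Agent.Char.exists_galois_pow (G := G) k hk
      exact hx0 (σ.injective (by rw [hσ hc, hk0, map_zero]))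
  have hpos : ∀ x ∈ S, (ψ x).im = 0 ∧ 0 < (ψ x).re := fun x hx => by
    obtain ⟨-, -, hx0⟩ := Finset.mem_filter.1 hx
    exact ⟨by rw [hval, Complex.ofReal_im], by rw [hre]; positivity⟩
  have hb := Agent.Char.card_le_sum_of_galois_closed hψ S hgal hpos
  have key := hsplit fun g => (ψ g).re
  rw [htot, hZsum, hNsum, hcount] at key
  have hd2 : 1 ≤ d ^ 2 := Nat.one_le_pow _ _ hd0
  refine ⟨?_, fun h => ?_⟩
  · rw [← Nat.cast_le (α := ℝ)]
    push_cast [Nat.cast_sub hd2]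
    nlinarith
  · have hSsum : ∑ g ∈ S, (ψ g).re = (S.card : ℝ) := by
      rw [Finset.sum_congr rfl (g := fun _ => (1 : ℝ)) (fun g hg => ?_)]
      · simp
      · obtain ⟨-, hgd, hg0⟩ := Finset.mem_filter.1 hg
        rcases h g with h' | h' | h'
        · exact absurd (norm_eq_zero.1 h') hg0
        · rw [hre, h']; norm_num
        · exact absurd h' hgd
    rw [← Nat.cast_inj (R := ℝ)]
    push_cast [Nat.cast_sub hd2]
    nlinarith

end Cfsg.Agent.S4574
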