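import Cfsg.Statements.S4580
import Cfsg.Agent.BlockChar.ConjBlock
import Cfsg.Agent.Char.Gallagher
import Cfsg.Agent.Char.Linear
import Cfsg.Agent.BlockThms.Eta

set_option autoImplicit false
open Cfsg

namespace Cfsg.Agent.S4580

/-- Let N be a normal subgroup of the finite group G, M a maximal ideal of the algebraic integers containing 2, and θ a real-valued irreducible character of N of odd degree that extends to G (some irreducible character of G restricts to θ). Then θ has an extension to G lying in the principal 2-block of G. -/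
theorem result {G : Type*} [Group G] [Finite G] (N : Subgroup G) [N.Normal] (M : Ideal Cfsg.AlgInt) (hM : Cfsg.IsPModular 2 M) (θ : Cfsg.IrrCharacter N) (hreal : ∀ n : N, ((θ : N → ℂ) n).im = 0) (hodd : Odd (Cfsg.charDegree (θ : N → ℂ))) (hext : ∃ η : Cfsg.IrrCharacter G, ∀ n : N, (η : G → ℂ) n = (θ : N → ℂ) n) :
    ∃ η : Cfsg.IrrCharacter G, (∀ n : N, (η : G → ℂ) n = (θ : N → ℂ) n) ∧ η ∈ Cfsg.principalBlock M G := by
  classical
  haveI : Fintype G := Fintype.ofFinite G
  haveI : Fintype N := Fintype.ofFinite N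
  obtain ⟨η, hη⟩ := hext
  have hN : Cfsg.IsIrrCharacter N (fun n : N => (η : G → ℂ) n) := by
    rw [show (fun n : N => (η : G → ℂ) n) = (θ : N → ℂ) from funext hη]; exact θ.2
  have hreal' : ∀ n : N, (Agent.Char.conjIrr η : G → ℂ) n = (η : G → ℂ) n := fun n => by
    rw [Agent.Char.conjIrr_apply, hη, Complex.conj_eq_iff_im, hreal]
  have hne : Cfsg.classInner (fun n : N => (Agent.Char.conjIrr η : G → ℂ) n)
      (fun n : N => (η : G → ℂ) n) ≠ 0 := by
    rw [show (fun n : N => (Agent.Char.conjIrr η : G → ℂ) n) = fun n : N => (η : G → ℂ) n from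
      funext hreal']
    have := (Agent.Char.classInner_irrChar (⟨_, hN⟩ : Cfsg.IrrCharacter N) ⟨_, hN⟩).trans
      (if_pos rfl)
    exact this ▸ one_ne_zero
  obtain ⟨hli, hker, hprod⟩ :=
    (Agent.Char.gallagher N η.2 hN (Agent.Char.conjIrr η).2).1 hne
  have hη1 : (η : G → ℂ) 1 ≠ 0 := Agent.Char.IsIrr.one_ne_zero η.2
  have h1 : Agent.Char.galEta N (η : G → ℂ) (Agent.Char.conjIrr η : G → ℂ) 1 = 1 := by
    have h := congrFun hprod 1
    rw [Pi.mul_apply, show ((Agent.Char.conjIrr η : Cfsg.IrrCharacter G) : G → ℂ) 1 = (η : G → ℂ) 1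
      by simpa using hreal' 1] at h
    exact mul_right_cancel₀ hη1 (by rw [one_mul, ← h])
  obtain ⟨f, hf⟩ := Agent.Char.IsChar.exists_hom (Agent.Char.IsIrr.isCharacter hli) h1
  rw [hf] at hprod hker
  simp only [map_one, Units.val_one] at hker
  set m := Nat.card G / 2 ^ (Nat.card G).factorization 2 with hm
  have hmodd : Odd m := by
    rw [← Nat.not_even_iff_odd, even_iff_two_dvd]
    exact Nat.not_dvd_ordCompl Nat.prime_two Nat.card_pos.ne'
  obtain ⟨k, hk⟩ := hmodd
  set μ : G →* ℂˣ := f ^ (k + 1) with hμ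
  have hμN : ∀ n ∈ N, ((μ n : ℂˣ) : ℂ) = ((μ 1 : ℂˣ) : ℂ) := fun n hn => by
    have : f n = 1 := Units.ext (by rw [hker n hn, Units.val_one])
    simp [hμ, this]
  set ψ : Cfsg.IrrCharacter G := ⟨_, Agent.Char.isIrr_mul_of_res_irr N η.2 hN
    (Agent.Char.isIrrCharacter_hom μ) hμN⟩ with hψ
  have hψval : ∀ g, (ψ : G → ℂ) g = ((μ g : ℂˣ) : ℂ) * (η : G → ℂ) g := fun g => rfl
  refine ⟨ψ, fun n => by rw [hψval, hη, hμN n n.2, map_one, Units.val_one, one_mul], ?_⟩
  have hodd' : Odd (Cfsg.charDegree (ψ : G → ℂ)) := by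
    rwa [show Cfsg.charDegree (ψ : G → ℂ) = Cfsg.charDegree (θ : N → ℂ) from
      Agent.Blocks.charDegree_eq (by
        rw [hψval, map_one, Units.val_one, one_mul]
        exact ((hη 1).trans (Agent.CharArith.irr_degree_spec θ).1))]
  have hB := Agent.Blocks.isPBlock_blockOf (M := M) ψ
  have hmem : ψ ∈ Cfsg.blockOf M (ψ : G → ℂ) := Agent.Blocks.mem_blockOf_self hM ψ
  rw [← Agent.BlockChar.eq_principalBlock_of_conj_stable hM hB hmem hodd' ?_]
  · exact hmem
  intro φ hφ
  -- the conjugate of `ψ` differs by a linear character of two-power order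
  have hsame : Cfsg.SameBlock M (ψ : G → ℂ) (Agent.Char.conjIrr ψ : G → ℂ) := by
    intro g
    have hu : Cfsg.MemLocalIdeal M ((((f g)⁻¹ : ℂˣ) ^ m : ℂˣ) - 1 : ℂ) := by
      have h2 : ((((f g)⁻¹ : ℂˣ) ^ m : ℂˣ) : ℂ) ^ 2 ^ (Nat.card G).factorization 2 = 1 := by
        rw [← Units.val_pow_eq_pow_val, ← pow_mul,
          show m * 2 ^ (Nat.card G).factorization 2 = Nat.card G by
            rw [mul_comm, hm]; exact Nat.ordProj_mul_ordCompl_eq_self _ 2,
          ← map_inv, ← map_pow, pow_card_eq_one', map_one, Units.val_one]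
      exact (Agent.Blocks.memLocalIdeal_coe_iff hM _).2 (Agent.Blocks.sub_one_mem_of_pow_prime_pow hM
        (z := ⟨_, Agent.Blocks.isIntegral_of_pow_eq_one (pow_pos two_pos _) h2⟩)
        (Subtype.ext (by simpa using h2)))
    have e : Cfsg.centralChar (Agent.Char.conjIrr ψ : G → ℂ) g =
        ((((f g)⁻¹ : ℂˣ) ^ m : ℂˣ) : ℂ) * Cfsg.centralChar (ψ : G → ℂ) g := by
      have hc : ∀ x, (Agent.Char.conjIrr ψ : G → ℂ) x =
          ((((f x)⁻¹ : ℂˣ) ^ m : ℂˣ) : ℂ) * (ψ : G → ℂ) x := by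
        intro x
        have hxu : (starRingEnd ℂ) ((μ x : ℂˣ) : ℂ) = (((μ x)⁻¹ : ℂˣ) : ℂ) := by
          have hx1 : ((μ x : ℂˣ) : ℂ) ^ Nat.card G = 1 := by
            rw [← Units.val_pow_eq_pow_val, ← map_pow, pow_card_eq_one', map_one, Units.val_one]
          rw [Units.val_inv_eq_inv_val, Complex.inv_eq_conj
            (Complex.norm_eq_one_of_pow_eq_one hx1 Nat.card_pos.ne')]
        rw [Agent.Char.conjIrr_apply, hψval, map_mul, hxu,
          ← Agent.Char.conjIrr_apply, congrFun hprod x, Pi.mul_apply,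
          ← mul_assoc, ← mul_assoc]
        congr 1
        rw [← Units.val_mul, ← Units.val_mul]
        congr 1
        simp only [hμ, MonoidHom.pow_apply, inv_pow, hk]
        rw [inv_mul_eq_iff_eq_mul, ← mul_assoc, eq_comm, mul_comm, ← mul_assoc, ← pow_add,
          ← div_eq_mul_inv, div_eq_iff_eq_mul, ← pow_succ', show k + 1 + (k + 1) = 2 * k + 1 + 1 by omega]
      simp only [Cfsg.centralChar, hc, map_one, inv_one, one_pow, Units.val_one, one_mul]
      ring
    rw [e]
    have h := Agent.Blocks.memLocalIdeal_mul_right hM hu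
      (Agent.Blocks.memLocalRing_centralChar hM ψ.2 g)
    simpa [sub_mul] using Agent.Blocks.memLocalIdeal_neg h
  refine Agent.Blocks.IsPBlock.mem_of_sameBlock hM hB hmem fun g => ?_
  have h := Agent.Blocks.IsPBlock.sameBlock hM hB hmem hφ g⁻¹
  rw [← Agent.BlockChar.centralChar_conjIrr, ← Agent.BlockChar.centralChar_conjIrr] at h
  simpa using Agent.Blocks.memLocalIdeal_add hM (hsame g) h

end Cfsg.Agent.S4580
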