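import Cfsg.Statements.S4581
import Cfsg.Agent.Char.RealOddSylow

set_option autoImplicit false
open Cfsg

namespace Cfsg.Agent.S4581

/-- Let G be a finite solvable group, P a Sylow 2-subgroup and N its normalizer. Then G and N have the same number of real-valued irreducible characters of odd degree; and every odd-degree irreducible character of G is real-valued exactly when the derived subgroup of P equals the Frattini subgroup of P and P is its own normalizer in G. -/
theorem result {G : Type*} [Group G] [Finite G] [Group.IsSolvable G] (P : Sylow 2 G) :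
    Nat.card {χ : Cfsg.IrrCharacter G // (∀ g : G, ((χ : G → ℂ) g).im = 0) ∧ Odd (Cfsg.charDegree (χ : G → ℂ))} =
      Nat.card {ψ : Cfsg.IrrCharacter (Subgroup.normalizer ((P : Subgroup G) : Set G)) // (∀ g, ((ψ : Subgroup.normalizer ((P : Subgroup G) : Set G) → ℂ) g).im = 0) ∧ Odd (Cfsg.charDegree (ψ : Subgroup.normalizer ((P : Subgroup G) : Set G) → ℂ))} ∧
    ((∀ χ : Cfsg.IrrCharacter G, Odd (Cfsg.charDegree (χ : G → ℂ)) → ∀ g : G, ((χ : G → ℂ) g).im = 0) ↔
      (commutator (P : Subgroup G) = frattini (P : Subgroup G) ∧ Subgroup.normalizer ((P : Subgroup G) : Set G) = (P : Subgroup G))) := by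
  classical
  have : Fintype G := Fintype.ofFinite G
  have : Fintype (P : Subgroup G) := Fintype.ofFinite _
  have : Fintype (Subgroup.normalizer ((P : Subgroup G) : Set G)) := Fintype.ofFinite _
  have : Fact (Nat.Prime 2) := ⟨Nat.prime_two⟩
  set N := Subgroup.normalizer ((P : Subgroup G) : Set G)
  have hle : (P : Subgroup G) ≤ N := Subgroup.le_normalizer
  let ι : (P : Subgroup G) →* G := (P : Subgroup G).subtype
  let ιN : (P : Subgroup G) →* N := Subgroup.inclusion hle
  have hι : Function.Injective ι := Subtype.val_injective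
  have hιN : Function.Injective ιN := Subgroup.inclusion_injective hle
  have hodd : Odd (P : Subgroup G).index :=
    Nat.odd_iff.2 (Nat.two_dvd_ne_zero.1 P.not_dvd_index)
  have hodd' : Odd ι.range.index := by rwa [Subgroup.range_subtype]
  have hoddN : Odd ιN.range.index := by
    rw [Subgroup.inclusion_range hle]
    exact hodd.of_dvd_nat (Subgroup.relIndex_dvd_index_of_le hle)
  have hsolN : Group.IsSolvable N := inferInstance
  have hset : Agent.Char.RealOddSylow.conjSetoid ι = Agent.Char.RealOddSylow.conjSetoid ιN := by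
    refine Setoid.ext fun a b => ⟨?_, ?_⟩
    · rintro ⟨g, α, hα, e⟩
      have hg : g ∈ N := by
        refine Subgroup.mem_normalizer_iff.2 fun h => ⟨fun hh => ?_, fun hh => ?_⟩
        · have := hα ⟨h, hh⟩
          show g * h * g⁻¹ ∈ (P : Subgroup G)
          have h2 : g * h * g⁻¹ = (α ⟨h, hh⟩ : G) := this.symm
          rw [h2]
          exact SetLike.coe_mem _
        · have h1 := hα (α.symm ⟨g * h * g⁻¹, hh⟩)
          rw [α.apply_symm_apply] at h1
          have h2 : h = (α.symm ⟨g * h * g⁻¹, hh⟩ : G) := mul_left_cancel (mul_right_cancel h1)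
          rw [h2]
          exact SetLike.coe_mem _
      exact ⟨⟨g, hg⟩, α, fun x => Subtype.ext (hα x), e⟩
    · rintro ⟨g, α, hα, e⟩
      exact ⟨(g : G), α, fun x => congrArg Subtype.val (hα x), e⟩
  refine ⟨?_, ?_⟩
  · have h1 := Agent.Char.RealOddSylow.card_RO (ι := ι) inferInstance hι P.isPGroup' hodd'
    have h2 := Agent.Char.RealOddSylow.card_RO (ι := ιN) hsolN hιN P.isPGroup' hoddN
    rw [hset, ← h2] at h1
    exact h1
  have hSN : Agent.Char.RealOddSylow.SelfNormalizing ι ↔ N = (P : Subgroup G) := by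
    constructor
    · intro h
      refine le_antisymm (fun g hg => ?_) hle
      obtain ⟨x, rfl⟩ := h g fun x => ⟨⟨_, (Subgroup.mem_normalizer_iff.1 hg x).1 x.2⟩, rfl⟩
      exact x.2
    · intro h g hg
      have hgN : g ∈ N := by
        refine (Sylow.smul_eq_iff_mem_normalizer).1 (Sylow.ext (Subgroup.eq_of_le_of_card_ge ?_ ?_))
        · rw [Sylow.coe_subgroup_smul]
          rintro - ⟨x, hx, rfl⟩
          obtain ⟨y, hy⟩ := hg ⟨x, hx⟩
          show g * x * g⁻¹ ∈ (P : Subgroup G)
          have h2 : g * x * g⁻¹ = (y : G) := hy.symm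
          rw [h2]
          exact y.2
        · rw [Sylow.coe_subgroup_smul]
          exact le_of_eq (Nat.card_congr (Subgroup.equivSMul (MulAut.conj g) _).toEquiv)
      rw [h] at hgN
      exact ⟨⟨g, hgN⟩, rfl⟩
  rw [← Agent.Char.RealOddSylow.linReal_iff P.isPGroup', ← hSN]
  constructor
  · intro h
    exact (Agent.Char.RealOddSylow.of_allReal_aux _ inferInstance le_rfl ι hι P.isPGroup' hodd'
      fun χ hχ ho => h ⟨χ, hχ⟩ ho).symm
  · intro h χ ho
    exact Agent.Char.RealOddSylow.allReal_aux _ inferInstance le_rfl ι hι P.isPGroup' hodd' h.2 h.1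
      χ χ.2 ho

end Cfsg.Agent.S4581
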