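import Cfsg.Statements.S4582
import Mathlib.GroupTheory.Transfer
import Mathlib.GroupTheory.Abelianization.Defs
-- import your own Cfsg.Agent.* helpers here

set_option autoImplicit false
open Cfsg

namespace Cfsg.Agent.S4582

/-- Let N be a normal subgroup of the finite group G, P a Sylow 2-subgroup of G and Q = P ∩ N. Suppose that P/QP' and Q/Q' are elementary abelian (every square of an element of P lies in the subgroup generated by Q and the derived subgroup of P, and every square of an element of Q lies in the derived subgroup of Q), and that the commutator factor group N/N' has odd order. Then P/P' is elementary abelian. -/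
theorem result {G : Type*} [Group G] [Finite G] (N : Subgroup G) [N.Normal] (P : Sylow 2 G)
    (hP : ∀ x ∈ (P : Subgroup G), x ^ 2 ∈ ((P : Subgroup G) ⊓ N) ⊔ ⁅(P : Subgroup G), (P : Subgroup G)⁆)
    (hQ : ∀ x ∈ (P : Subgroup G) ⊓ N, x ^ 2 ∈ ⁅(P : Subgroup G) ⊓ N, (P : Subgroup G) ⊓ N⁆)
    (hodd : Odd (Nat.card (Abelianization N))) :
    ∀ x ∈ (P : Subgroup G), x ^ 2 ∈ ⁅(P : Subgroup G), (P : Subgroup G)⁆ := by
  classical
  set H : Subgroup G := N ⊔ (P : Subgroup G) with hH
  have hPH : (P : Subgroup G) ≤ H := le_sup_right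
  have hNH : N ≤ H := le_sup_left
  set K : Subgroup H := (P : Subgroup G).subgroupOf H with hK
  let e : K ≃* (P : Subgroup G) := Subgroup.subgroupOfEquivOfLe hPH
  let ϕ : K →* Abelianization (P : Subgroup G) := Abelianization.of.comp e.toMonoidHom
  have hϕ : ∀ (k : K) (y : (P : Subgroup G)), ((k : H) : G) = (y : G) → ϕ k = Abelianization.of y := by
    intro k y h
    show Abelianization.of (e k) = _
    congr 1
    exact Subtype.ext h
  -- derived subgroup of P versus commutator in G
  have hder : ∀ y : (P : Subgroup G), Abelianization.of y = 1 ↔ (y : G) ∈ ⁅(P : Subgroup G), (P : Subgroup G)⁆ := by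
    intro y
    rw [← Subgroup.map_subtype_commutator, ← MonoidHom.mem_ker, Abelianization.ker_of]
    exact (Subgroup.mem_map_iff_mem (Subgroup.subtype_injective _)).symm
  have hQsq : ∀ y : (P : Subgroup G), (y : G) ∈ N → (Abelianization.of y) ^ 2 = 1 := by
    intro y hy
    rw [← map_pow, hder]
    exact Subgroup.commutator_mono inf_le_left inf_le_left (hQ y ⟨y.2, hy⟩)
  haveI : Finite (Abelianization (P : Subgroup G)) :=
    Finite.of_surjective Abelianization.of QuotientGroup.mk_surjective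
  haveI : Finite (Abelianization N) :=
    Finite.of_surjective Abelianization.of QuotientGroup.mk_surjective
  set V : H →* Abelianization (P : Subgroup G) := MonoidHom.transfer ϕ with hV
  obtain ⟨a, ha⟩ : ∃ a, Nat.card (Abelianization (P : Subgroup G)) = 2 ^ a := by
    have h2 : IsPGroup 2 (Abelianization (P : Subgroup G)) :=
      P.isPGroup'.of_surjective Abelianization.of QuotientGroup.mk_surjective
    exact IsPGroup.iff_card.mp h2
  have hcop : ∀ m : ℕ, Odd m → ∀ z : Abelianization (P : Subgroup G), z ^ m = 1 → z = 1 := by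
    intro m hm z hz
    have h2 : z ^ (2 ^ a) = 1 := ha ▸ pow_card_eq_one'
    have hc : Nat.Coprime m (2 ^ a) := Nat.Coprime.pow_right _ (Nat.coprime_two_right.mpr hm)
    have h3 := pow_gcd_eq_one.mpr ⟨hz, h2⟩
    rwa [hc, pow_one] at h3
  have hVN : ∀ h : H, (h : G) ∈ N → V h = 1 := by
    intro h hh
    let g : Abelianization N →* Abelianization (P : Subgroup G) :=
      Abelianization.lift (V.comp (Subgroup.inclusion hNH))
    have h1 : V h = g (Abelianization.of ⟨h, hh⟩) := by
      simp only [g, Abelianization.lift_apply_of, MonoidHom.comp_apply]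
      congr 1
    apply hcop _ hodd
    rw [h1, ← map_pow, pow_card_eq_one', map_one]
  intro x hx
  -- V (x²) = 1
  have hx2 : V ⟨x, hPH hx⟩ ^ 2 = 1 := by
    rw [← map_pow]
    have hmem : x ^ 2 ∈ ((P : Subgroup G) ⊓ N) ⊔ ⁅(P : Subgroup G), (P : Subgroup G)⁆ := hP x hx
    have hle : ((P : Subgroup G) ⊓ N) ⊔ ⁅(P : Subgroup G), (P : Subgroup G)⁆ ≤ V.ker.map H.subtype := by
      refine sup_le (fun q hq => ⟨⟨q, hNH hq.2⟩, hVN _ hq.2, rfl⟩) ?_
      rw [Subgroup.commutator_le]
      intro c hc d hd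
      refine ⟨(⟨c, hPH hc⟩ : H) * ⟨d, hPH hd⟩ * (⟨c, hPH hc⟩ : H)⁻¹ * (⟨d, hPH hd⟩ : H)⁻¹, ?_, ?_⟩
      · show V _ = 1
        simp only [map_mul, map_inv, mul_inv_cancel_comm, mul_inv_cancel]
      · simp [commutatorElement_def]
    obtain ⟨z, hz, hzx⟩ := hle hmem
    have : z = ⟨x, hPH hx⟩ ^ 2 := Subtype.ext hzx
    exact this ▸ hz
  haveI : Fintype (Quotient (MulAction.orbitRel (Subgroup.zpowers (⟨x, hPH hx⟩ : H)) (H ⧸ K))) :=
    Fintype.ofFinite _
  set b : Abelianization (P : Subgroup G) := Abelianization.of ⟨x, hx⟩ with hb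
  have hcalc : V ⟨x, hPH hx⟩ ^ 2 = (b ^ 2) ^ K.index := by
    rw [hV, MonoidHom.transfer_eq_prod_quotient_orbitRel_zpowers_quot, ← Finset.prod_pow,
      Subgroup.index_eq_sum_minimalPeriod K (⟨x, hPH hx⟩ : H), ← Finset.prod_pow_eq_pow_sum]
    refine Finset.prod_congr rfl fun q _ => ?_
    generalize Function.minimalPeriod ((⟨x, hPH hx⟩ : H) • ·) q.out = m,
      QuotientGroup.out_conj_pow_minimalPeriod_mem K (⟨x, hPH hx⟩ : H) q.out = hm
    generalize q.out.out = t at hm ⊢
    obtain ⟨n, hn, p', hp', hnp⟩ := Subgroup.mem_sup_of_normal_left.mp t.2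
    have hy : n⁻¹ * x ^ m * n ∈ (P : Subgroup G) := by
      have h0 : ((t⁻¹ * ⟨x, hPH hx⟩ ^ m * t : H) : G) ∈ (P : Subgroup G) := hm
      have := mul_mem (mul_mem hp' h0) (inv_mem hp')
      convert this using 1
      simp only [Subgroup.coe_mul, Subgroup.coe_inv, SubmonoidClass.coe_pow]
      rw [← hnp]; group
    let w : (P : Subgroup G) := ⟨p', hp'⟩
    let y : (P : Subgroup G) := ⟨n⁻¹ * x ^ m * n, hy⟩
    have e1 : ϕ ⟨_, hm⟩ = Abelianization.of (w⁻¹ * y * w) := by
      apply hϕ
      simp only [w, y, Subgroup.coe_mul, Subgroup.coe_inv, SubmonoidClass.coe_pow]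
      rw [← hnp]; group
    let u : (P : Subgroup G) := (⟨x, hx⟩ : (P : Subgroup G)) ^ m
    have hu : ((u⁻¹ * y : (P : Subgroup G)) : G) ∈ N := by
      show (x ^ m)⁻¹ * (n⁻¹ * x ^ m * n) ∈ N
      rw [show (x ^ m)⁻¹ * (n⁻¹ * x ^ m * n) = ((x ^ m)⁻¹ * n⁻¹ * (x ^ m)⁻¹⁻¹) * n by group]
      exact mul_mem (‹N.Normal›.conj_mem _ (inv_mem hn) _) hn
    have e2 : Abelianization.of y ^ 2 = (b ^ m) ^ 2 := by
      have := hQsq _ hu
      rw [map_mul, map_inv, mul_pow, inv_pow, inv_mul_eq_one] at this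
      rw [← this, hb, map_pow]
    rw [e1, map_mul, map_mul, map_inv, inv_mul_cancel_comm, e2, ← pow_mul, ← pow_mul, mul_comm]
  have hidx : Odd K.index := by
    have h1 : K.index ∣ (P : Subgroup G).index := Subgroup.relIndex_dvd_index_of_le hPH
    have h2 : Odd (P : Subgroup G).index := by
      rw [Nat.odd_iff, ← Nat.two_dvd_ne_zero]
      exact P.not_dvd_index
    exact h2.of_dvd_nat h1
  have hfin := hcop _ hidx _ (hcalc.symm.trans hx2)
  rw [hb, ← map_pow, hder] at hfin
  exact hfin

end Cfsg.Agent.S4582
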