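import Cfsg.Statements.S4583
import Cfsg.Agent.BlockChar.PrincipalOver
-- import your own Cfsg.Agent.* helpers here

set_option autoImplicit false
open Cfsg

namespace Cfsg.Agent.S4583

/-- Let N be a normal subgroup of the finite group G, p a prime, M a maximal ideal of the algebraic integers containing p, and P a Sylow p-subgroup of G. Let θ be an irreducible character of N of degree prime to p lying in the principal p-block of N, and suppose θ extends to the subgroup NP (some irreducible character of NP restricts to θ). Then some irreducible character χ of G of degree prime to p in the principal p-block of G lies over θ (θ is a constituent of the restriction of χ to N). -/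
theorem result {G : Type*} [Group G] [Finite G] (N : Subgroup G) [N.Normal] (p : ℕ) [Fact p.Prime] (M : Ideal Cfsg.AlgInt) (hM : Cfsg.IsPModular p M) (P : Sylow p G)
    (θ : Cfsg.IrrCharacter N) (hθ : θ ∈ Cfsg.principalBlock M N) (hdeg : ¬ p ∣ Cfsg.charDegree (θ : N → ℂ))
    (hext : ∃ η : Cfsg.IrrCharacter ↥(N ⊔ (P : Subgroup G)), ∀ n : N, (η : ↥(N ⊔ (P : Subgroup G)) → ℂ) (Subgroup.inclusion le_sup_left n) = (θ : N → ℂ) n) :
    ∃ χ : Cfsg.IrrCharacter G, χ ∈ Cfsg.principalBlock M G ∧ ¬ p ∣ Cfsg.charDegree (χ : G → ℂ) ∧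
      haveI := Fintype.ofFinite N; Cfsg.classInner (fun n : N => (χ : G → ℂ) n) (θ : N → ℂ) ≠ 0 := by
  classical
  obtain ⟨η, hη⟩ := hext
  letI := Fintype.ofFinite G
  letI := Fintype.ofFinite N
  letI := Fintype.ofFinite ↥(N ⊔ (P : Subgroup G))
  refine BlockChar.exists_over_extendible hM N (N ⊔ (P : Subgroup G)) le_sup_left
    (fun h => P.not_dvd_index (h.trans (Subgroup.index_dvd_of_le le_sup_right))) (fun y hy hyN => ?_)
    θ hθ hdeg η hη
  have hmem : QuotientGroup.mk' N y ∈ (P : Subgroup G).map (QuotientGroup.mk' N) := by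
    have := Subgroup.mem_map_of_mem (QuotientGroup.mk' N) hy
    rwa [Subgroup.map_sup, (Subgroup.map_eq_bot_iff N).2 (QuotientGroup.ker_mk' N).ge, bot_sup_eq]
      at this
  obtain ⟨x, hx, hxy⟩ := hmem
  obtain ⟨k, hk⟩ := IsPGroup.iff_orderOf.1 P.2 ⟨x, hx⟩
  rw [Subgroup.orderOf_mk] at hk
  have h1 : orderOf (QuotientGroup.mk' N y) ∣ p ^ k := by
    rw [← hxy, ← hk]
    exact orderOf_map_dvd _ x
  obtain ⟨j, -, hj⟩ := (Nat.dvd_prime_pow (Fact.out : p.Prime)).1 h1
  refine dvd_trans ?_ (orderOf_map_dvd (QuotientGroup.mk' N) y)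
  rw [hj]
  refine dvd_pow_self p ?_
  rintro rfl
  rw [pow_zero, orderOf_eq_one_iff, QuotientGroup.mk'_apply, QuotientGroup.eq_one_iff] at hj
  exact hyN hj

end Cfsg.Agent.S4583
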