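import Cfsg.Statements.S4584
import Cfsg.Agent.Char.ClassBound
import Mathlib
-- import your own Cfsg.Agent.* helpers here

set_option autoImplicit false
open Cfsg

namespace Cfsg.Agent.S4584

/-- Let p be a prime and P a group of order p^4. Then the derived subgroup P' has order p if and only if the centre Z(P) has index p^2 in P. -/
theorem result {P : Type*} [Group P] [Finite P] (p : ℕ) [Fact p.Prime] (hP : Nat.card P = p ^ 4) :
    Nat.card (commutator P) = p ↔ (Subgroup.center P).index = p ^ 2 := by
  have hp : p.Prime := Fact.out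
  have hPg : IsPGroup p P := IsPGroup.of_card hP
  constructor
  · intro hc
    have hle : ∀ x : P, (Subgroup.centralizer ({x} : Set P)).index ≤ p := fun x => by
      rw [← Cfsg.Agent.Char.card_isConj_eq_index, ← hc]
      refine Nat.card_le_card_of_injective (fun y => (⟨(y : P) * x⁻¹, ?_⟩ : commutator P))
        (fun y z e => Subtype.ext (mul_right_cancel (congrArg Subtype.val e)))
      obtain ⟨c, hy⟩ := isConj_iff.1 y.2
      rw [← hy, commutator_def]
      exact Subgroup.commutator_mem_commutator (Subgroup.mem_top c) (Subgroup.mem_top x)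
    have hnab : Subgroup.center P ≠ ⊤ := fun h => by
      have h1 : commutator P = ⊥ := by
        rw [commutator_def, Subgroup.commutator_eq_bot_iff_le_centralizer]
        intro a _
        exact Subgroup.mem_centralizer_iff.2 fun b _ => Subgroup.mem_center_iff.1 (h ▸ Subgroup.mem_top a) b
      rw [h1, Subgroup.card_bot] at hc
      exact hp.ne_one hc.symm
    obtain ⟨x, -, hx⟩ := SetLike.exists_of_lt (lt_of_le_of_ne le_top hnab)
    have hidx : ∀ x : P, x ∉ Subgroup.center P → (Subgroup.centralizer ({x} : Set P)).index = p := by
      intro x hx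
      obtain ⟨k, hk⟩ := hPg.index (Subgroup.centralizer ({x} : Set P))
      have h := hle x
      rw [hk] at h ⊢
      rcases k with _ | _ | k
      · exact absurd (Subgroup.mem_center_iff.2 fun b => Subgroup.mem_centralizer_singleton_iff.1
          ((Subgroup.index_eq_one.1 (by rw [hk, pow_zero])) ▸ Subgroup.mem_top b)) hx
      · rw [zero_add, pow_one]
      · have := Nat.pow_lt_pow_right hp.one_lt (show 1 < k + 1 + 1 by omega)
        rw [pow_one] at this; omega
    set C := Subgroup.centralizer ({x} : Set P)
    have hCi : C.index = p := hidx x hx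
    obtain ⟨y, -, hy⟩ := SetLike.exists_of_lt (lt_top_iff_ne_top.2 fun h : C = ⊤ => by
      rw [h, Subgroup.index_top] at hCi; exact hp.ne_one hCi.symm)
    have hxC : x ∈ C := Subgroup.mem_centralizer_singleton_iff.2 rfl
    have hyZ : y ∉ Subgroup.center P := fun h => hy (Subgroup.mem_centralizer_singleton_iff.2
      ((Subgroup.mem_center_iff.1 h x).symm))
    set D := C ⊓ Subgroup.centralizer ({y} : Set P)
    have hxD : x ∉ D := fun h => hy (Subgroup.mem_centralizer_singleton_iff.2
      (Subgroup.mem_centralizer_singleton_iff.1 h.2).symm)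
    have hCcard : Nat.card C = p ^ 3 := by
      have h := Subgroup.card_mul_index C
      rw [hCi, hP, pow_succ p 3] at h
      exact Nat.eq_of_mul_eq_mul_right hp.pos h
    have hDi : D.relIndex C = p := by
      obtain ⟨k, hk⟩ := (hPg.to_subgroup C).index (D.subgroupOf C)
      have h1 : D.relIndex C ∣ p := by
        have h2 : D.relIndex C ≤ p := by
          show (C ⊓ Subgroup.centralizer ({y} : Set P)).relIndex C ≤ p
          refine le_trans ?_ (hle y)
          rw [Subgroup.inf_relIndex_left, ← Subgroup.relIndex_top_right (Subgroup.centralizer ({y} : Set P))]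
          exact Subgroup.relIndex_le_of_le_right le_top (by simpa using Subgroup.index_ne_zero_of_finite)
        change D.relIndex C = _ at hk
        rw [hk] at h2 ⊢
        rcases k with _ | _ | k
        · simp
        · simp
        · have := Nat.pow_lt_pow_right hp.one_lt (show 1 < k + 1 + 1 by omega)
          rw [pow_one] at this; omega
      rcases (Nat.dvd_prime hp).1 h1 with h | h
      · exact absurd (Subgroup.relIndex_eq_one.1 h hxC) hxD
      · exact h
    have hDcard : Nat.card D = p ^ 2 := by
      have h := Subgroup.card_mul_index (D.subgroupOf C)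
      rw [Nat.card_congr (Subgroup.subgroupOfEquivOfLe (show D ≤ C from inf_le_left)).toEquiv,
        show (D.subgroupOf C).index = p from hDi, hCcard, pow_succ p 2] at h
      exact Nat.eq_of_mul_eq_mul_right hp.pos h
    have hDab : IsMulCommutative D := IsPGroup.isMulCommutative_of_card_eq_prime_sq hDcard
    have hsup : ∀ (A B : Subgroup P) (z : P), z ∈ B → z ∉ A → A.relIndex B = p → A ≤ B →
        B ≤ A ⊔ Subgroup.zpowers z := by
      intro A B z hz hz' hi hAB
      have h1 : (A ⊔ Subgroup.zpowers z).relIndex B ∣ p :=
        hi ▸ Subgroup.relIndex_dvd_of_le_left _ le_sup_left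
      rcases (Nat.dvd_prime hp).1 h1 with h | h
      · exact Subgroup.relIndex_eq_one.1 h
      · refine absurd ?_ hz'
        have h2 := Subgroup.relIndex_mul_relIndex A (A ⊔ Subgroup.zpowers z) B le_sup_left
          (sup_le hAB (Subgroup.zpowers_le.2 hz))
        rw [h, hi] at h2
        exact Subgroup.relIndex_eq_one.1 (Nat.eq_of_mul_eq_mul_right hp.pos (h2.trans (one_mul p).symm))
          (Subgroup.mem_sup_right (Subgroup.mem_zpowers z))
    have hDZ : D ≤ Subgroup.center P := by
      intro d hd
      have h1 : D ⊔ Subgroup.zpowers x ≤ Subgroup.centralizer ({d} : Set P) :=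
        sup_le (fun e he => Subgroup.mem_centralizer_singleton_iff.2
          (congrArg Subtype.val (hDab.is_comm.comm (⟨e, he⟩ : D) ⟨d, hd⟩)))
          (Subgroup.zpowers_le.2 (Subgroup.mem_centralizer_singleton_iff.2
            (Subgroup.mem_centralizer_singleton_iff.1 hd.1).symm))
      have h2 : C ≤ Subgroup.centralizer ({d} : Set P) :=
        (hsup D C x hxC hxD hDi inf_le_left).trans h1
      have h3 : (⊤ : Subgroup P) ≤ Subgroup.centralizer ({d} : Set P) :=
        (hsup C ⊤ y (Subgroup.mem_top y) hy (by rw [Subgroup.relIndex_top_right, hCi]) le_top).trans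
          (sup_le h2 (Subgroup.zpowers_le.2 (Subgroup.mem_centralizer_singleton_iff.2
            (Subgroup.mem_centralizer_singleton_iff.1 hd.2).symm)))
      exact Subgroup.mem_center_iff.2 fun b =>
        Subgroup.mem_centralizer_singleton_iff.1 (h3 (Subgroup.mem_top b))
    have h4 : p ^ 2 ≤ Nat.card (Subgroup.center P) :=
      hDcard ▸ Nat.le_of_dvd Nat.card_pos (Subgroup.card_dvd_of_le hDZ)
    obtain ⟨k, hk⟩ := hPg.index (Subgroup.center P)
    have h5 : 2 ≤ k := by
      by_contra h
      refine hnab ?_
      rw [eq_top_iff]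
      intro a _
      have hcyc : IsCyclic (P ⧸ Subgroup.center P) := by
        rcases k with _ | _ | k
        · exact @isCyclic_of_subsingleton _ _ (Finite.card_le_one_iff_subsingleton.1
            (le_of_eq (by rw [← Subgroup.index_eq_card, hk, pow_zero])))
        · exact isCyclic_of_prime_card (p := p) (by rw [← Subgroup.index_eq_card, hk, zero_add, pow_one])
        · omega
      exact Subgroup.mem_center_iff.2 fun b =>
        commutative_of_cyclic_center_quotient (QuotientGroup.mk' (Subgroup.center P)) (by simp) b a
    have h6 := Subgroup.card_mul_index (Subgroup.center P)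
    rw [hk, hP] at h6
    have h7 : p ^ k ≤ p ^ 2 := Nat.le_of_mul_le_mul_left
      ((Nat.mul_le_mul_right _ h4).trans (le_of_eq (h6.trans (pow_add p 2 2)))) (pow_pos hp.pos 2)
    rw [hk, show k = 2 from le_antisymm ((Nat.pow_le_pow_iff_right hp.one_lt).1 h7) h5]
  · intro hZ
    set Z := Subgroup.center P
    have hne : Z ≠ ⊤ := fun h => by
      rw [h, Subgroup.index_top] at hZ
      have := Nat.one_lt_pow two_ne_zero hp.one_lt
      omega
    obtain ⟨a, -, ha⟩ := SetLike.exists_of_lt (lt_of_le_of_ne le_top hne)
    set A := Z ⊔ Subgroup.zpowers a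
    have haA : a ∈ A := Subgroup.mem_sup_right (Subgroup.mem_zpowers a)
    have hAab : A ≤ Subgroup.centralizer ({a} : Set P) :=
      sup_le (fun z hz => Subgroup.mem_centralizer_singleton_iff.2 (Subgroup.mem_center_iff.1 hz a).symm)
        (Subgroup.zpowers_le.2 (Subgroup.mem_centralizer_singleton_iff.2 rfl))
    have hAtop : A ≠ ⊤ := fun h => ha (Subgroup.mem_center_iff.2 fun b =>
      Subgroup.mem_centralizer_singleton_iff.1 (hAab (h ▸ Subgroup.mem_top b)))
    obtain ⟨b, -, hb⟩ := SetLike.exists_of_lt (lt_of_le_of_ne le_top hAtop)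
    have hAi : A.index = p := by
      have h1 := Subgroup.relIndex_mul_index (show Z ≤ A from le_sup_left)
      obtain ⟨j, hj⟩ := hPg.index A
      obtain ⟨i, hi⟩ := (hPg.to_subgroup A).index (Z.subgroupOf A)
      change Z.relIndex A = _ at hi
      rw [hi, hj, hZ, ← pow_add] at h1
      have := Nat.pow_right_injective hp.two_le h1
      rcases j with _ | j
      · exact absurd (Subgroup.index_eq_one.1 (by rw [hj, pow_zero])) hAtop
      rcases i with _ | i
      · exact absurd (Subgroup.relIndex_eq_one.1 (by rw [hi, pow_zero]) haA) ha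
      rw [hj, show j = 0 by omega, zero_add, pow_one]
    have hgen : A ⊔ Subgroup.zpowers b = ⊤ := by
      rcases (Nat.dvd_prime hp).1 (hAi ▸ Subgroup.index_dvd_of_le
        (show A ≤ A ⊔ Subgroup.zpowers b from le_sup_left)) with h | h
      · exact Subgroup.index_eq_one.1 h
      · exact absurd (Subgroup.relIndex_eq_one.1 (show A.relIndex (A ⊔ Subgroup.zpowers b) = 1 by
          have h2 := Subgroup.relIndex_mul_index (show A ≤ A ⊔ Subgroup.zpowers b from le_sup_left)
          rw [h, hAi] at h2
          exact Nat.eq_of_mul_eq_mul_right hp.pos (h2.trans (one_mul p).symm))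
          (Subgroup.mem_sup_right (Subgroup.mem_zpowers b))) hb
    set c := a * b * a⁻¹ * b⁻¹
    have hcom : ∀ u v : P, u * v * u⁻¹ * v⁻¹ ∈ Z := by
      have hcm : ∀ x y : P ⧸ Z, x * y = y * x :=
        (IsPGroup.isMulCommutative_of_card_eq_prime_sq (p := p) (G := P ⧸ Z)
          (by rw [← Subgroup.index_eq_card, hZ])).is_comm.comm
      intro u v
      rw [← QuotientGroup.eq_one_iff]
      rw [QuotientGroup.mk_mul, QuotientGroup.mk_mul, QuotientGroup.mk_mul, QuotientGroup.mk_inv,
        QuotientGroup.mk_inv, hcm (u : P ⧸ Z) v, mul_inv_cancel_right, mul_inv_cancel]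
    have hcZ : c ∈ Z := hcom a b
    have hcne : c ≠ 1 := fun h => by
      refine ha (Subgroup.mem_center_iff.2 fun g => ?_)
      have h1 : a * b = b * a := by
        have := mul_inv_eq_one.1 h
        exact mul_inv_eq_iff_eq_mul.1 this
      have : (⊤ : Subgroup P) ≤ Subgroup.centralizer ({a} : Set P) :=
        hgen ▸ sup_le hAab (Subgroup.zpowers_le.2 (Subgroup.mem_centralizer_singleton_iff.2 h1.symm))
      exact Subgroup.mem_centralizer_singleton_iff.1 (this (Subgroup.mem_top g))
    have hcp : c ^ p = 1 := by
      have hbp : a ^ p ∈ Z := by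
        have hi : Z.relIndex A = p := by
          have h1 := Subgroup.relIndex_mul_index (show Z ≤ A from le_sup_left)
          rw [hAi, hZ, sq] at h1
          exact Nat.eq_of_mul_eq_mul_right hp.pos h1
        have h2 := pow_card_eq_one' (G := A ⧸ Z.subgroupOf A) (x := ((⟨a, haA⟩ : A) : A ⧸ Z.subgroupOf A))
        rw [← Subgroup.index_eq_card, show (Z.subgroupOf A).index = p from hi,
          ← QuotientGroup.mk_pow, QuotientGroup.eq_one_iff] at h2
        exact h2
      have hck : ∀ k : ℕ, a ^ k * b = c ^ k * (b * a ^ k) := by
        intro k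
        induction k with
        | zero => simp
        | succ k ih =>
          have hca : Commute a (c ^ k) :=
            Subgroup.mem_center_iff.1 (Subgroup.pow_mem _ hcZ k) a
          rw [pow_succ' a, mul_assoc, ih, ← mul_assoc a, hca.eq, mul_assoc, ← mul_assoc a b,
            show a * b = c * (b * a) by simp [c, mul_assoc], pow_succ c]
          simp only [mul_assoc]
      have := hck p
      rw [← Subgroup.mem_center_iff.1 hbp b] at this
      exact mul_eq_right.1 this.symm
    have hord : orderOf c = p := orderOf_eq_prime hcp hcne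
    have hle : commutator P ≤ Subgroup.zpowers c := by
      have hn : (Subgroup.zpowers c).Normal := ⟨fun z hz g => by
        have hzZ : z ∈ Z := (Subgroup.zpowers_le.2 hcZ) hz
        rw [Subgroup.mem_center_iff.1 hzZ g, mul_inv_cancel_right]; exact hz⟩
      set f := QuotientGroup.mk' (Subgroup.zpowers c)
      have hab : Commute (f a) (f b) := by
        have h1 : f c = 1 := (QuotientGroup.eq_one_iff c).2 (Subgroup.mem_zpowers c)
        simp only [c, map_mul, map_inv] at h1
        exact mul_inv_eq_iff_eq_mul.1 (mul_inv_eq_one.1 h1)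
      have hall : ∀ g h : P, Commute (f g) (f h) := by
        have h1 : ∀ g, Commute (f a) (f g) := fun g => by
          have : (⊤ : Subgroup P) ≤ (Subgroup.centralizer ({f a} : Set _)).comap f :=
            hgen ▸ sup_le (fun z hz => Subgroup.mem_centralizer_singleton_iff.2
              (by rw [← map_mul, ← map_mul, Subgroup.mem_centralizer_singleton_iff.1 (hAab hz)]))
              (Subgroup.zpowers_le.2 (Subgroup.mem_centralizer_singleton_iff.2 hab.symm.eq))
          exact (Subgroup.mem_centralizer_singleton_iff.1 (this (Subgroup.mem_top g))).symm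
        have h2 : ∀ g, Commute (f b) (f g) := fun g => by
          have : (⊤ : Subgroup P) ≤ (Subgroup.centralizer ({f b} : Set _)).comap f :=
            hgen ▸ sup_le (sup_le (fun z hz => Subgroup.mem_centralizer_singleton_iff.2
              (by rw [← map_mul, ← map_mul, Subgroup.mem_center_iff.1 hz b]))
              (Subgroup.zpowers_le.2 (Subgroup.mem_centralizer_singleton_iff.2 (h1 b).eq)))
              (Subgroup.zpowers_le.2 (Subgroup.mem_centralizer_singleton_iff.2 rfl))
          exact (Subgroup.mem_centralizer_singleton_iff.1 (this (Subgroup.mem_top g))).symm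
        intro g h
        have : (⊤ : Subgroup P) ≤ (Subgroup.centralizer ({f h} : Set _)).comap f :=
          hgen ▸ sup_le (sup_le (fun z hz => Subgroup.mem_centralizer_singleton_iff.2
            (by rw [← map_mul, ← map_mul, Subgroup.mem_center_iff.1 hz h]))
            (Subgroup.zpowers_le.2 (Subgroup.mem_centralizer_singleton_iff.2 (h1 h).eq)))
            (Subgroup.zpowers_le.2 (Subgroup.mem_centralizer_singleton_iff.2 (h2 h).eq))
        exact Subgroup.mem_centralizer_singleton_iff.1 (this (Subgroup.mem_top g))
      rw [commutator_def, Subgroup.commutator_le]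
      intro g _ h _
      rw [← QuotientGroup.eq_one_iff]
      show f (g * h * g⁻¹ * h⁻¹) = 1
      simp only [map_mul, map_inv]
      rw [(hall g h).eq, mul_inv_cancel_right, mul_inv_cancel]
    have hge : Subgroup.zpowers c ≤ commutator P := by
      rw [Subgroup.zpowers_le, commutator_def]
      exact Subgroup.commutator_mem_commutator (Subgroup.mem_top a) (Subgroup.mem_top b)
    rw [le_antisymm hle hge, Nat.card_zpowers, hord]

end Cfsg.Agent.S4584
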