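import Cfsg.Statements.S4585
import Cfsg.Agent.MaxClass.OddP

set_option autoImplicit false
open Cfsg

namespace Cfsg.Agent.S4585

open scoped commutatorElement

/-- Let p be a prime and P a group of order p^4. Then P' has index p^2 in P if and only if P has maximal nilpotency class, that is, nilpotency class exactly 3. -/
theorem result {P : Type*} [Group P] [Finite P] (p : ℕ) [Fact p.Prime] (hP : Nat.card P = p ^ 4) :
    (commutator P).index = p ^ 2 ↔ Group.nilpotencyClass P = 3 := by
  have hpp : p.Prime := Fact.out
  have hG : IsPGroup p P := IsPGroup.of_card hP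
  have hnil := hG.isNilpotent
  set γ := (⊤ : Subgroup P).lowerCentralSeries with hγ
  have hγ1 : γ 1 = commutator P := Subgroup.top_lowerCentralSeries_one
  have hP' := (commutator P).card_mul_index
  rw [hP] at hP'
  have hne_of : γ 2 ≠ ⊥ → commutator P ≠ ⊥ := fun h hb => h (le_bot_iff.1
    ((Subgroup.lowerCentralSeries_antitone _ (show 1 ≤ 2 by norm_num)).trans (hγ1.trans hb).le))
  have hc2 : commutator P ≠ ⊥ → Nat.card (commutator P) ≤ p ^ 2 := fun h => by
    have h1 := Nat.le_of_dvd (Nat.pos_of_ne_zero Subgroup.index_ne_zero_of_finite) (MaxClass.sq_dvd_index_commutator hG h)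
    have h2 : Nat.card (commutator P) * p ^ 2 ≤ p ^ 2 * p ^ 2 := by
      rw [← pow_add]; exact (Nat.mul_le_mul_left _ h1).trans hP'.le
    exact Nat.le_of_mul_le_mul_right h2 (pow_pos hpp.pos 2)
  have h3 : γ 3 = ⊥ := by
    by_contra h
    have h2 : γ 2 ≠ ⊥ := fun hb => h (le_bot_iff.1
      ((Subgroup.lowerCentralSeries_antitone _ (show 2 ≤ 3 by norm_num)).trans hb.le))
    have s1 := MaxClass.lcs_step hG 1 (by rw [← hγ, hγ1]; exact hne_of h2)
    have s2 := MaxClass.lcs_step hG 2 (hγ ▸ h2)
    rw [← hγ] at s1 s2
    rw [hγ1] at s1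
    have := hc2 (hne_of h2)
    have h4 : 1 < Nat.card (γ 3) := (Subgroup.one_lt_card_iff_ne_bot _).2 h
    have h5 := Nat.mul_le_mul_left p (Nat.mul_le_mul_left p (show 2 ≤ Nat.card (γ 3) by omega))
    have h6 := Nat.mul_le_mul_left p s2
    have h7 : p * (p * 2) = p ^ 2 * 2 := by ring
    have := Nat.one_le_pow 2 p hpp.pos
    nlinarith
  have hiff : Group.nilpotencyClass P = 3 ↔ γ 2 ≠ ⊥ := by
    rw [Ne, hγ, lowerCentralSeries_eq_bot_iff_nilpotencyClass_le]
    have := lowerCentralSeries_eq_bot_iff_nilpotencyClass_le.1 h3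
    omega
  rw [hiff]
  constructor
  · intro hi h2
    rw [hi] at hP'
    have hcard : Nat.card (commutator P) = p ^ 2 :=
      Nat.eq_of_mul_eq_mul_right (pow_pos hpp.pos 2) (hP'.trans (pow_add p 2 2))
    have hne : commutator P ≠ ⊥ := fun hb => by
      rw [hb, Subgroup.card_bot] at hcard
      have := Nat.one_lt_pow two_ne_zero hpp.one_lt
      omega
    have hcen : commutator P ≤ Subgroup.center P := by
      intro c hc
      rw [Subgroup.mem_center_iff]
      intro g
      have : ⁅c, g⁆ ∈ γ 2 := by
        rw [hγ, Subgroup.lowerCentralSeries_succ]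
        exact Subgroup.commutator_mem_commutator (by rw [← hγ, hγ1]; exact hc) (Subgroup.mem_top g)
      rw [h2, Subgroup.mem_bot, commutatorElement_eq_one_iff_mul_comm] at this
      exact this.symm
    have hna : ¬ IsMulCommutative P := fun hc => hne (le_bot_iff.1 (by
      rw [_root_.commutator_def, Subgroup.commutator_le]
      intro x _ y _
      rw [Subgroup.mem_bot, commutatorElement_eq_one_iff_mul_comm]
      exact hc.is_comm.comm x y))
    have hZeq : commutator P = Subgroup.center P := by
      refine Subgroup.eq_of_le_of_card_ge hcen ?_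
      have h1 := MaxClass.sq_le_index_center hG hna
      have h2 := (Subgroup.center P).card_mul_index
      rw [hP] at h2
      rw [hcard]
      refine Nat.le_of_mul_le_mul_right (c := p ^ 2) ?_ (pow_pos hpp.pos 2)
      rw [← pow_add]
      exact (Nat.mul_le_mul_left _ h1).trans h2.le
    have hexp : ∀ x : P, x ^ p ∈ Subgroup.center P := by
      intro x
      rw [← hZeq, ← QuotientGroup.eq_one_iff, QuotientGroup.mk_pow, ← orderOf_dvd_iff_pow_eq_one]
      obtain ⟨j, hj, hjo⟩ := (Nat.dvd_prime_pow hpp).1 (by
        rw [← hi]; exact _root_.orderOf_dvd_natCard (x : P ⧸ commutator P) :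
          orderOf (x : P ⧸ commutator P) ∣ p ^ 2)
      rw [hjo]
      rcases (by omega : j = 0 ∨ j = 1 ∨ j = 2) with rfl | rfl | rfl
      · simp
      · simp
      · exfalso
        exact MaxClass.not_isCyclic_quotient_commutator hG hne
          (isCyclic_of_orderOf_eq_card _ (hjo.trans hi.symm))
    have hcomm : ∀ x y : P, ⁅x, y⁆ ^ p = 1 := by
      intro x y
      have hc : Commute ⁅x, y⁆ y := (Subgroup.mem_center_iff.1 (hcen (by
        rw [_root_.commutator_def]; exact Subgroup.commutator_mem_commutator (Subgroup.mem_top x) (Subgroup.mem_top y))) y).symm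
      have he : x * y * x⁻¹ = ⁅x, y⁆ * y := by rw [commutatorElement_def]; group
      have h1 : x * y ^ p * x⁻¹ = ⁅x, y⁆ ^ p * y ^ p := by rw [← conj_pow, he, hc.mul_pow]
      rw [Subgroup.mem_center_iff.1 (hexp y) x, mul_inv_cancel_right] at h1
      exact mul_eq_right.1 h1.symm
    obtain ⟨a, ha⟩ : ∃ a, a ∉ commutator P := by
      by_contra! h
      rw [show commutator P = ⊤ from eq_top_iff.2 fun v _ => h v, Subgroup.index_top] at hi
      exact absurd hi.symm (Nat.one_lt_pow two_ne_zero hpp.one_lt).ne'
    set K := commutator P ⊔ Subgroup.zpowers a with hK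
    obtain ⟨b, hb⟩ : ∃ b, b ∉ K := by
      by_contra! h
      have htop : Subgroup.zpowers a = ⊤ := Core.eq_top_of_sup_frattini Core.commutator_le_frattini
        (by rw [sup_comm]; exact eq_top_iff.2 fun v _ => h v)
      refine hna ⟨⟨fun x y => ?_⟩⟩
      obtain ⟨i, rfl⟩ := Subgroup.mem_zpowers_iff.1 (htop ▸ Subgroup.mem_top x : x ∈ Subgroup.zpowers a)
      obtain ⟨l, rfl⟩ := Subgroup.mem_zpowers_iff.1 (htop ▸ Subgroup.mem_top y : y ∈ Subgroup.zpowers a)
      exact ((Commute.refl a).zpow_zpow i l).eq
    have hgen : commutator P ⊔ Subgroup.closure {a, b} = ⊤ := by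
      set L := commutator P ⊔ Subgroup.closure {a, b}
      have hKL : K ≤ L := sup_le_sup_left (Subgroup.zpowers_le.2 (Subgroup.subset_closure (by simp))) _
      have hbL : b ∈ L := le_sup_right (a := commutator P) (Subgroup.subset_closure (by simp))
      have hcK : commutator P < K := lt_of_le_of_ne le_sup_left fun e =>
        ha (e ▸ le_sup_right (a := commutator P) (Subgroup.mem_zpowers a))
      have hKlt : K < L := lt_of_le_of_ne hKL fun e => hb (e ▸ hbL)
      obtain ⟨u, hu⟩ := IsPGroup.iff_card.1 (hG.to_subgroup K)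
      obtain ⟨v, hv⟩ := IsPGroup.iff_card.1 (hG.to_subgroup L)
      have h2u : 2 < u := by
        by_contra hh
        exact hcK.ne (Subgroup.eq_of_le_of_card_ge hcK.le (by rw [hu, hcard]; exact Nat.pow_le_pow_right hpp.pos (by omega)))
      have huv : u < v := by
        by_contra hh
        exact hKlt.ne (Subgroup.eq_of_le_of_card_ge hKlt.le (by rw [hu, hv]; exact Nat.pow_le_pow_right hpp.pos (by omega)))
      exact Subgroup.eq_top_of_le_card _ (by rw [hv, hP]; exact Nat.pow_le_pow_right hpp.pos (by omega))
    have htop : Subgroup.closure {a, b} = ⊤ :=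
      Core.eq_top_of_sup_frattini Core.commutator_le_frattini (by rw [sup_comm]; exact hgen)
    set N := Subgroup.zpowers ⁅a, b⁆
    have hab : ⁅a, b⁆ ∈ commutator P := by
      rw [_root_.commutator_def]; exact Subgroup.commutator_mem_commutator (Subgroup.mem_top a) (Subgroup.mem_top b)
    have hNn : N.Normal := ⟨fun n hn g => by rw [Subgroup.mem_center_iff.1 (Subgroup.zpowers_le.2 (hcen hab) hn) g, mul_inv_cancel_right]; exact hn⟩
    have hle : commutator P ≤ N := by
      rw [_root_.commutator_def, Subgroup.commutator_le]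
      intro x hx0 y hy0
      clear hx0 hy0
      rw [← QuotientGroup.eq_one_iff (N := N), ← QuotientGroup.mk'_apply, map_commutatorElement,
        commutatorElement_eq_one_iff_mul_comm]
      set π := QuotientGroup.mk' N
      have hpab : Commute (π a) (π b) := by
        rw [← commutatorElement_eq_one_iff_commute, ← map_commutatorElement]
        exact (QuotientGroup.eq_one_iff _).2 (Subgroup.mem_zpowers _)
      have h1 : ∀ v : P, Commute (π a) (π v) ∧ Commute (π b) (π v) := by
        intro v
        have hv : v ∈ Subgroup.closure {a, b} := htop ▸ Subgroup.mem_top v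
        induction hv using Subgroup.closure_induction with
        | mem w hw =>
          rcases hw with rfl | rfl
          exacts [⟨Commute.refl _, hpab.symm⟩, ⟨hpab, Commute.refl _⟩]
        | one => rw [map_one]; exact ⟨Commute.one_right _, Commute.one_right _⟩
        | mul w w' _ _ hw hw' => rw [map_mul]; exact ⟨hw.1.mul_right hw'.1, hw.2.mul_right hw'.2⟩
        | inv w _ hw => rw [map_inv]; exact ⟨hw.1.inv_right, hw.2.inv_right⟩
      have h2 : Commute (π x) (π y) := by
        have hx : x ∈ Subgroup.closure {a, b} := htop ▸ Subgroup.mem_top x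
        induction hx using Subgroup.closure_induction with
        | mem w hw => rcases hw with rfl | rfl; exacts [(h1 y).1, (h1 y).2]
        | one => rw [map_one]; exact Commute.one_left _
        | mul w w' _ _ hw hw' => rw [map_mul]; exact hw.mul_left hw'
        | inv w _ hw => rw [map_inv]; exact hw.inv_left
      exact h2.eq
    have h4 := Subgroup.card_le_of_le hle
    rw [hcard, Nat.card_zpowers] at h4
    have h5 := Nat.le_of_dvd hpp.pos (orderOf_dvd_iff_pow_eq_one.2 (hcomm a b))
    have := hpp.two_le
    have : p ^ 2 ≤ p := h4.trans h5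
    nlinarith
  · intro h2
    have hne := hne_of h2
    have s1 := MaxClass.lcs_step hG 1 (by rw [← hγ, hγ1]; exact hne)
    rw [← hγ, hγ1] at s1
    have h4 : 1 < Nat.card (γ 2) := (Subgroup.one_lt_card_iff_ne_bot _).2 h2
    obtain ⟨j, hj⟩ := hG.index (commutator P)
    obtain ⟨i, hi⟩ := IsPGroup.iff_card.1 (hG.to_subgroup (commutator P))
    have hj2 : 2 ≤ j := by
      have := MaxClass.sq_dvd_index_commutator hG hne
      rw [hj] at this
      exact (Nat.pow_dvd_pow_iff_le_right hpp.one_lt).1 this
    have hi2 : 2 ≤ i := by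
      by_contra hh
      have h6 := Nat.pow_le_pow_right hpp.pos (show i ≤ 1 by omega)
      rw [hi] at s1
      have := hpp.two_le
      simp only [pow_one] at h6
      nlinarith
    rw [hj, hi, ← pow_add] at hP'
    have := Nat.pow_right_injective hpp.two_le hP'
    rw [hj, show j = 2 by omega]

end Cfsg.Agent.S4585
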