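import Cfsg.Statements.S4586
import Mathlib
-- import your own Cfsg.Agent.* helpers here

set_option autoImplicit false
open Cfsg

namespace Cfsg.Agent.S4586

/-- Let p be a prime, P a finite p-group and N a normal subgroup of P of index p. For x ∈ P write c(x) for the number of elements n of N whose commutator x n x⁻¹ n⁻¹ lies in the derived subgroup N' (so c(x)/#N' is the order of the centralizer of x acting on N/N'). Then [P : P'] = p² if and only if c(x) = p·#N' for every x ∈ P outside N, and also if and only if c(x) = p·#N' for some x ∈ P outside N. -/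
theorem result {P : Type*} [Group P] [Finite P] (p : ℕ) [Fact p.Prime] (hP : IsPGroup p P) (N : Subgroup P) [N.Normal] (hN : N.index = p) :
    ((commutator P).index = p ^ 2 ↔ ∀ x : P, x ∉ N →
        Nat.card {n : N // x * n * x⁻¹ * (n : P)⁻¹ ∈ (commutator N).map N.subtype} = p * Nat.card (commutator N)) ∧
    ((commutator P).index = p ^ 2 ↔ ∃ x : P, x ∉ N ∧
        Nat.card {n : N // x * n * x⁻¹ * (n : P)⁻¹ ∈ (commutator N).map N.subtype} = p * Nat.card (commutator N)) := by
  classical
  have hp : p.Prime := Fact.out
  let Nc : Subgroup P := (commutator N).map N.subtype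
  have hNc : Nc.Normal := by
    have : Nc = ⁅N, N⁆ := by
      show (commutator N).map N.subtype = _
      rw [commutator_def, Subgroup.map_commutator, ← MonoidHom.range_eq_map, Subgroup.range_subtype]
    rw [this]; exact Subgroup.commutator_normal N N
  have hNcN : Nc ≤ N := Subgroup.map_subtype_le _
  have hcardNc : Nat.card Nc = Nat.card (commutator N) :=
    Subgroup.card_map_of_injective N.subtype_injective
  let f := QuotientGroup.mk' Nc
  have hNab : ∀ n m : N, Commute (f n) (f m) := fun n m => by
    have h1 : f ((n : P) * m * (n : P)⁻¹ * (m : P)⁻¹) = 1 := (QuotientGroup.eq_one_iff _).2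
      ⟨n * m * n⁻¹ * m⁻¹, by
        rw [commutator_def]; exact Subgroup.commutator_mem_commutator (Subgroup.mem_top n) (Subgroup.mem_top m),
        by simp⟩
    simp only [map_mul, map_inv] at h1
    exact mul_inv_eq_iff_eq_mul.1 (mul_inv_eq_one.1 h1)
  have key : ∀ x : P, x ∉ N →
      ((commutator P).index = p ^ 2 ↔
        Nat.card {n : N // x * n * x⁻¹ * (n : P)⁻¹ ∈ (commutator N).map N.subtype} =
          p * Nat.card (commutator N)) := by
    intro x hx
    let d : N →* P ⧸ Nc := MonoidHom.mk' (fun n => f (x * n * x⁻¹ * (n : P)⁻¹)) fun n m => by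
      have h1 := hNab n ⟨x * m * x⁻¹ * (m : P)⁻¹,
        N.mul_mem (Subgroup.Normal.conj_mem inferInstance _ m.2 x) (N.inv_mem m.2)⟩
      simp only [Subgroup.coe_mul]
      calc f (x * ((n : P) * m) * x⁻¹ * ((n : P) * m)⁻¹)
          = f (x * n * x⁻¹ * (n : P)⁻¹) *
            (f n * f (x * m * x⁻¹ * (m : P)⁻¹) * (f n)⁻¹) := by
              simp only [map_mul, map_inv]; group
        _ = _ := by rw [h1.eq, mul_inv_cancel_right]
    have hker : Nat.card {n : N // x * n * x⁻¹ * (n : P)⁻¹ ∈ (commutator N).map N.subtype} =
        Nat.card d.ker :=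
      Nat.card_congr (Equiv.subtypeEquivRight fun n => by
        rw [MonoidHom.mem_ker]; exact (QuotientGroup.eq_one_iff (N := Nc) _).symm)
    have hgen : N ⊔ Subgroup.zpowers x = ⊤ := by
      rcases (Nat.dvd_prime hp).1 (hN ▸ Subgroup.index_dvd_of_le
        (show N ≤ N ⊔ Subgroup.zpowers x from le_sup_left)) with h | h
      · exact Subgroup.index_eq_one.1 h
      · exact absurd (Subgroup.relIndex_eq_one.1 (show N.relIndex (N ⊔ Subgroup.zpowers x) = 1 by
          have h2 := Subgroup.relIndex_mul_index (show N ≤ N ⊔ Subgroup.zpowers x from le_sup_left)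
          rw [h, hN] at h2
          exact Nat.eq_of_mul_eq_mul_right hp.pos (h2.trans (one_mul p).symm))
          (Subgroup.mem_sup_right (Subgroup.mem_zpowers x))) hx
    have hrange : d.range = (commutator P).map f := by
      refine le_antisymm ?_ ?_
      · rintro _ ⟨n, rfl⟩
        refine Subgroup.mem_map_of_mem f ?_
        rw [commutator_def]
        exact Subgroup.commutator_mem_commutator (Subgroup.mem_top x) (Subgroup.mem_top (n : P))
      · have hRn : d.range.Normal := by
          rw [← Subgroup.normalizer_eq_top_iff, eq_top_iff]
          intro z _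
          obtain ⟨g, rfl⟩ := QuotientGroup.mk'_surjective Nc z
          have h1 : ∀ g : P, g ∈ N → ∀ r ∈ d.range, f g * r * (f g)⁻¹ = r := by
            rintro g hg _ ⟨n, rfl⟩
            have h2 := hNab ⟨g, hg⟩ ⟨x * n * x⁻¹ * (n : P)⁻¹,
              N.mul_mem (Subgroup.Normal.conj_mem inferInstance _ n.2 x) (N.inv_mem n.2)⟩
            show f g * f (x * n * x⁻¹ * (n : P)⁻¹) * (f g)⁻¹ = _
            rw [h2.eq, mul_inv_cancel_right]
            rfl
          have h3 : (⊤ : Subgroup P) ≤ (Subgroup.normalizer (d.range : Set _)).comap f := by
            rw [← hgen]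
            refine sup_le (fun g hg => ?_) (Subgroup.zpowers_le.2 ?_)
            · show f g ∈ Subgroup.normalizer (d.range : Set _)
              rw [Subgroup.mem_normalizer_iff]
              intro r
              constructor
              · intro hr; rw [h1 g hg r hr]; exact hr
              · intro hr
                have := h1 g⁻¹ (N.inv_mem hg) _ hr
                rw [map_inv] at this
                have e : r = f g * r * (f g)⁻¹ := by
                  simpa [mul_assoc] using this
                exact e ▸ hr
            · show f x ∈ Subgroup.normalizer (d.range : Set _)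
              suffices he : d.range.map (MulAut.conj (f x)).toMonoidHom = d.range by
                rw [Subgroup.mem_normalizer_iff]
                intro r
                have := Subgroup.mem_map_iff_mem (K := d.range) (f := (MulAut.conj (f x)).toMonoidHom)
                  (MulAut.conj (f x)).injective (x := r)
                rw [he] at this
                exact this.symm
              refine Subgroup.eq_of_le_of_card_ge ?_ ?_
              · rintro _ ⟨_, ⟨n, rfl⟩, rfl⟩
                refine ⟨⟨x * n * x⁻¹, Subgroup.Normal.conj_mem inferInstance _ n.2 x⟩, ?_⟩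
                show f (x * (x * n * x⁻¹) * x⁻¹ * (x * n * x⁻¹)⁻¹) =
                  f x * f (x * n * x⁻¹ * (n : P)⁻¹) * (f x)⁻¹
                simp only [map_mul, map_inv]; group
              · exact le_of_eq (Subgroup.card_map_of_injective (MulAut.conj (f x)).injective).symm
          exact h3 (Subgroup.mem_top g)
        set q := QuotientGroup.mk' d.range
        have hqx : ∀ n : N, Commute (q (f x)) (q (f n)) := fun n => by
          have h1 : q (d n) = 1 := (QuotientGroup.eq_one_iff _).2 ⟨n, rfl⟩
          simp only [d, MonoidHom.mk'_apply, map_mul, map_inv] at h1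
          exact mul_inv_eq_iff_eq_mul.1 (mul_inv_eq_one.1 h1)
        let qf := q.comp f
        have hallN : ∀ (n : N) (g : P), Commute (qf n) (qf g) := fun n g => by
          have : (⊤ : Subgroup P) ≤ (Subgroup.centralizer ({qf n} : Set _)).comap qf :=
            hgen ▸ sup_le (fun m hm => Subgroup.mem_centralizer_singleton_iff.2
              ((hNab ⟨m, hm⟩ n).map q).eq)
              (Subgroup.zpowers_le.2 (Subgroup.mem_centralizer_singleton_iff.2 (hqx n).eq))
          exact (Subgroup.mem_centralizer_singleton_iff.1 (this (Subgroup.mem_top g))).symm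
        have hall : ∀ g h : P, Commute (qf g) (qf h) := fun g h => by
          have hx' : ∀ g, Commute (qf x) (qf g) := fun g => by
            have : (⊤ : Subgroup P) ≤ (Subgroup.centralizer ({qf x} : Set _)).comap qf :=
              hgen ▸ sup_le (fun m hm => Subgroup.mem_centralizer_singleton_iff.2
                (hallN ⟨m, hm⟩ x).eq)
                (Subgroup.zpowers_le.2 (Subgroup.mem_centralizer_singleton_iff.2 rfl))
            exact (Subgroup.mem_centralizer_singleton_iff.1 (this (Subgroup.mem_top g))).symm
          have : (⊤ : Subgroup P) ≤ (Subgroup.centralizer ({qf h} : Set _)).comap qf :=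
            hgen ▸ sup_le (fun m hm => Subgroup.mem_centralizer_singleton_iff.2
              (hallN ⟨m, hm⟩ h).eq)
              (Subgroup.zpowers_le.2 (Subgroup.mem_centralizer_singleton_iff.2 (hx' h).eq))
          exact Subgroup.mem_centralizer_singleton_iff.1 (this (Subgroup.mem_top g))
        rw [Subgroup.map_le_iff_le_comap, commutator_def, Subgroup.commutator_le]
        intro g _ h _
        refine (QuotientGroup.eq_one_iff (N := d.range) _).1 ?_
        show qf (g * h * g⁻¹ * h⁻¹) = 1
        simp only [map_mul, map_inv]
        rw [(hall g h).eq, mul_inv_cancel_right, mul_inv_cancel]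
    have hNcP : Nc ≤ commutator P := by
      show (commutator N).map N.subtype ≤ _
      rw [commutator_def, commutator_def, Subgroup.map_commutator]
      exact Subgroup.commutator_mono le_top le_top
    have h1 : Nat.card ((commutator P).map f) * Nat.card Nc = Nat.card (commutator P) := by
      have h1 := Subgroup.card_mul_index (f.comp (commutator P).subtype).ker
      rw [Subgroup.index_ker, MonoidHom.range_comp, Subgroup.range_subtype, ← MonoidHom.comap_ker,
        QuotientGroup.ker_mk', ← Subgroup.subgroupOf,
        Nat.card_congr (Subgroup.subgroupOfEquivOfLe hNcP).toEquiv, mul_comm] at h1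
      exact h1
    have h2 : Nat.card d.ker * Nat.card d.range = Nat.card N := by
      rw [← Subgroup.index_ker, Subgroup.card_mul_index]
    have h3 : Nat.card N * p = Nat.card P := hN ▸ Subgroup.card_mul_index N
    have h4 : Nat.card (commutator P) * (commutator P).index = Nat.card P :=
      Subgroup.card_mul_index _
    rw [hker, ← hcardNc]
    have hpos : 0 < Nat.card (commutator P) := Nat.card_pos
    have hNcpos : 0 < Nat.card Nc := Nat.card_pos
    rw [hrange] at h2
    have h5 : Nat.card d.ker * Nat.card (commutator P) * p =
        Nat.card Nc * (Nat.card (commutator P) * (commutator P).index) := by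
      rw [h4, ← h3, ← h2, ← h1]; ring
    have h6 : Nat.card d.ker * p = Nat.card Nc * (commutator P).index := by
      refine Nat.eq_of_mul_eq_mul_left hpos ?_
      linarith
    constructor
    · intro h
      rw [h] at h6
      refine Nat.eq_of_mul_eq_mul_right hp.pos ?_
      rw [h6]; ring
    · intro h
      rw [h] at h6
      refine Nat.eq_of_mul_eq_mul_left hNcpos ?_
      rw [← h6]; ring
  obtain ⟨x₀, -, hx₀⟩ := SetLike.exists_of_lt (lt_top_iff_ne_top.2 fun h : N = ⊤ => by
    rw [h, Subgroup.index_top] at hN; exact hp.ne_one hN.symm)
  exact ⟨⟨fun h x hx => (key x hx).1 h, fun h => (key x₀ hx₀).2 (h x₀ hx₀)⟩,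
    ⟨fun h => ⟨x₀, hx₀, (key x₀ hx₀).1 h⟩, fun ⟨x, hx, h⟩ => (key x hx).2 h⟩⟩

end Cfsg.Agent.S4586
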