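import Cfsg.Statements.S4587
import Cfsg.Agent.S3865
import Cfsg.Agent.PrimReduce.Socle
import Cfsg.Agent.Fusion.Tate
import Cfsg.Agent.Thompson.Stable
import Cfsg.Agent.Fusion.PGroup
import Cfsg.Agent.Core.Frattini

set_option autoImplicit false
open Cfsg

namespace Cfsg.Agent.S4587

open Subgroup
open scoped commutatorElement
open Cfsg.Agent.PrimReduce (Factors rest cj_le_rest)
open Cfsg.Agent.ExtremelyPrim (cj mem_cj cj_one cj_cj conj_mem_cj card_cj)

variable {G : Type*} [Group G] [Finite G] {p : ℕ} [hp : Fact p.Prime]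

omit [Finite G] in
theorem factors_cj {N T : Subgroup G} (F : Factors N T) (h : G) : Factors N (cj h T) where
  normal := F.normal
  le := F.cj_le h
  simple := by
    haveI := F.simple
    exact MulEquiv.isSimpleGroup (((MulAut.conj h⁻¹).subgroupMap (cj h T)).trans
      (MulEquiv.subgroupCongr (map_comap_eq_self_of_surjective (MulAut.conj h⁻¹).surjective T)))
  nonab := fun hc => F.nonab fun a b => Subtype.ext (by
    have := congrArg Subtype.val (hc ⟨h * a * h⁻¹, conj_mem_cj a.2⟩ ⟨h * b * h⁻¹, conj_mem_cj b.2⟩)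
    simp only [Subgroup.coe_mul] at this ⊢
    have h1 : h * ((a : G) * b) * h⁻¹ = h * ((b : G) * a) * h⁻¹ := by
      calc _ = h * a * h⁻¹ * (h * b * h⁻¹) := by group
        _ = h * b * h⁻¹ * (h * a * h⁻¹) := this
        _ = _ := by group
    exact mul_left_cancel (mul_right_cancel h1))
  stable := fun n hn g => by rw [cj_cj g h, F.stable n hn]
  sup := by
    rw [F.sup]
    refine le_antisymm (iSup_le fun g => ?_) (iSup_le fun g => ?_)
    · refine le_trans ?_ (le_iSup (fun g => cj g (cj h T)) (g * h⁻¹))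
      rw [cj_cj, inv_mul_cancel_right]
    · rw [cj_cj]; exact le_iSup (fun g => cj g T) _
  comm := fun g k hne => by
    rw [cj_cj, cj_cj] at hne ⊢
    exact F.comm _ _ hne
  disj := fun g hne => by
    rw [cj_cj] at hne ⊢
    refine le_bot_iff.1 fun x hx => mem_bot.2 ?_
    obtain ⟨hx1, hx2⟩ := mem_inf.1 hx
    have hy : h⁻¹ * x * h ∈ T ⊓ cj (h⁻¹ * (g * h)) T := mem_inf.2
      ⟨mem_cj.1 hx1, by rw [← cj_cj, mem_cj]; simpa [mul_assoc] using hx2⟩
    rw [F.disj (h⁻¹ * (g * h)) (fun e => hne (by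
      conv_rhs => rw [← e, cj_cj, mul_inv_cancel_left])), mem_bot] at hy
    calc x = h * (h⁻¹ * x * h) * h⁻¹ := by group
      _ = 1 := by rw [hy]; group

/-- A nontrivial subgroup of a nilpotent subgroup `X` is not inside its commutator with `X`. -/
theorem eq_bot_of_le_commutator {X A : Subgroup G} (hX : IsPGroup p X) (hA : A ≤ X) (h : A ≤ ⁅A, X⁆) :
    A = ⊥ := by
  haveI := hX.isNilpotent
  set A' := A.subgroupOf X
  have hmap : (⁅A', (⊤ : Subgroup X)⁆).map X.subtype = ⁅A, X⁆ := by
    rw [map_commutator, ← MonoidHom.range_eq_map, range_subtype, map_subgroupOf_eq_of_le hA]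
  have h' : A' ≤ ⁅A', (⊤ : Subgroup X)⁆ := by
    rw [← map_le_map_iff_of_injective X.subtype_injective, hmap, map_subgroupOf_eq_of_le hA]
    exact h
  have hall : ∀ k, A' ≤ (⊤ : Subgroup X).lowerCentralSeries k := by
    intro k
    induction k with
    | zero => simp
    | succ k ih =>
      refine h'.trans ?_
      rw [Subgroup.lowerCentralSeries_succ]
      exact commutator_mono ih le_rfl
  obtain ⟨k, hk⟩ := Subgroup.nilpotent_iff_lowerCentralSeries.1 this
  have hb := hall k
  rw [hk, le_bot_iff] at hb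
  rw [← map_subgroupOf_eq_of_le hA]
  show A'.map X.subtype = ⊥
  rw [hb, Subgroup.map_bot]

theorem card_sup_of_disjoint {A B : Subgroup G} (hn : B ≤ normalizer (A : Set G)) (h : A ⊓ B = ⊥) :
    Nat.card ↥(A ⊔ B) = Nat.card A * Nat.card B := by
  rw [← Nat.card_prod]
  refine (Nat.card_congr (Equiv.ofBijective (fun ab : A × B => (⟨(ab.1 : G) * ab.2,
    mul_mem (mem_sup_left ab.1.2) (mem_sup_right ab.2.2)⟩ : ↥(A ⊔ B))) ⟨?_, ?_⟩)).symm
  · intro x y e
    exact Subgroup.mul_injective_of_disjoint (disjoint_iff.2 h)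
      (congrArg (fun w : ↥(A ⊔ B) => (w : G)) e)
  · intro v
    have hv : (v : G) ∈ ((A ⊔ B : Subgroup G) : Set G) := v.2
    rw [Subgroup.coe_mul_of_right_le_normalizer_left A B hn] at hv
    obtain ⟨a, ha, b, hb, e⟩ := Set.mem_mul.1 hv
    exact ⟨⟨⟨a, ha⟩, ⟨b, hb⟩⟩, Subtype.ext e⟩

theorem norm_of_comm {A B : Subgroup G} (h : ∀ a ∈ A, ∀ b ∈ B, a * b = b * a) : B ≤ normalizer (A : Set G) :=
  fun b hb => centralizer_le_normalizer _ (mem_centralizer_iff.2 fun a ha => h a ha b hb)

theorem comm_of_card_le {A : Subgroup G} (hA : IsPGroup p A)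
    (h : Nat.card A ≤ p * Nat.card ↥(⁅A, A⁆)) : ∀ a ∈ A, ∀ b ∈ A, a * b = b * a := by
  by_cases hb : commutator A = ⊥
  · intro a ha b hb'
    have h1 : ⁅(⟨a, ha⟩ : A), ⟨b, hb'⟩⁆ ∈ commutator A := commutator_mem_commutator (mem_top _) (mem_top _)
    rw [hb, mem_bot, commutatorElement_eq_one_iff_mul_comm] at h1
    exact congrArg (fun w : A => (w : G)) h1
  exfalso
  have h2 := MaxClass.sq_dvd_index_commutator hA hb
  have h3 : Nat.card ↥(commutator A) = Nat.card ↥(⁅A, A⁆) := by
    rw [← card_map_of_injective A.subtype_injective, map_subtype_commutator]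
  have h4 := (commutator A).card_mul_index
  have h5 := Nat.le_of_dvd (Nat.pos_of_ne_zero index_ne_zero_of_finite) h2
  rw [← h3] at h
  have h6 := Nat.card_pos (α := ↥(commutator A))
  have := hp.out.two_le
  nlinarith

theorem card_le_of_lt {X : Subgroup G} (hX : IsPGroup p X) {A B : Subgroup G} (hAB : A ≤ B)
    (hB : B ≤ X) (hne : A ≠ B) : p * Nat.card A ≤ Nat.card B := by
  obtain ⟨i, hi⟩ := IsPGroup.iff_card.1 (hX.to_le (hAB.trans hB))
  obtain ⟨j, hj⟩ := IsPGroup.iff_card.1 (hX.to_le hB)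
  have h1 : Nat.card A < Nat.card B :=
    lt_of_le_of_ne (card_le_of_le hAB) fun e => hne (eq_of_le_of_card_ge hAB e.ge)
  rw [hi, hj] at h1 ⊢
  rw [← pow_succ']
  exact Nat.pow_le_pow_right hp.out.pos ((Nat.pow_lt_pow_iff_right hp.out.one_lt).1 h1)

/-- An element outside an abelian maximal subgroup of index `p` when `[X : X'] = p ^ 2`. -/
theorem cent_sq {X D : Subgroup G} (hD : D ≤ X) (hDc : ∀ a ∈ D, ∀ b ∈ D, a * b = b * a)
    (hP1 : ⁅X, X⁆ ≤ D) (hDi : Nat.card D * p = Nat.card X)
    (hab : Nat.card ↥(⁅X, X⁆) * p ^ 2 = Nat.card X) (x : G) (hx : x ∈ X) (hxD : x ∉ D) :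
    Nat.card ↥(X ⊓ centralizer ({x} : Set G)) = p ^ 2 := by
  have hconj : ∀ g ∈ X, ∀ d ∈ D, g * d * g⁻¹ ∈ D := fun g hg d hd => by
    have h1 : ⁅g, d⁆ ∈ D := hP1 (commutator_mem_commutator hg (hD hd))
    have := D.mul_mem h1 hd
    rwa [commutatorElement_def, inv_mul_cancel_right] at this
  have hcomD : ∀ d : D, ⁅x, (d : G)⁆ ∈ D := fun d => hP1 (commutator_mem_commutator hx (hD d.2))
  let φ : D →* D :=
    { toFun := fun d => ⟨⁅x, (d : G)⁆, hcomD d⟩
      map_one' := Subtype.ext (by simp)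
      map_mul' := fun d e => Subtype.ext (by
        show ⁅x, (d : G) * e⁆ = ⁅x, (d : G)⁆ * ⁅x, (e : G)⁆
        have h1 := hDc _ d.2 _ (hcomD e)
        rw [show ⁅x, (d : G) * e⁆ = ⁅x, (d : G)⁆ * ((d : G) * ⁅x, (e : G)⁆ * (d : G)⁻¹) by
          simp only [commutatorElement_def]; group, h1, mul_inv_cancel_right]) }
  set I := φ.range.map D.subtype with hI
  have hIle : I ≤ ⁅X, X⁆ := by
    rintro _ ⟨_, ⟨d, rfl⟩, rfl⟩
    exact commutator_mem_commutator hx (hD d.2)
  have hgen : X ≤ zpowers x ⊔ D := by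
    have hle : zpowers x ⊔ D ≤ X := sup_le (zpowers_le.2 hx) hD
    have hXp : Nat.card D < Nat.card ↥(zpowers x ⊔ D) :=
      lt_of_le_of_ne (card_le_of_le le_sup_right) fun e =>
        hxD ((eq_of_le_of_card_ge le_sup_right e.ge).symm ▸ mem_sup_left (mem_zpowers x))
    obtain ⟨c, hc⟩ := card_dvd_of_le (le_sup_right : D ≤ zpowers x ⊔ D)
    obtain ⟨c', hc'⟩ := card_dvd_of_le hle
    have hcp : c ∣ p := ⟨c', Nat.eq_of_mul_eq_mul_left (Nat.card_pos (α := D))
      (by rw [hDi, hc', hc]; ring)⟩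
    rcases (Nat.dvd_prime hp.out).1 hcp with rfl | rfl
    · omega
    · exact (eq_of_le_of_card_ge hle (by rw [hc, hDi])).ge
  -- modulo I everything commutes
  have hIx : ∀ d ∈ D, ⁅x, d⁆ ∈ I := fun d hd => ⟨φ ⟨d, hd⟩, ⟨_, rfl⟩, rfl⟩
  have hIinv : ∀ g ∈ zpowers x ⊔ D, ∀ i ∈ I, g * i * g⁻¹ ∈ I := by
    have hx' : ∀ i ∈ I, x * i * x⁻¹ ∈ I := by
      rintro _ ⟨_, ⟨d, rfl⟩, rfl⟩
      show x * ⁅x, (d : G)⁆ * x⁻¹ ∈ I
      rw [show x * ⁅x, (d : G)⁆ * x⁻¹ = ⁅x, x * (d : G) * x⁻¹⁆ by simp only [commutatorElement_def]; group]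
      exact hIx _ (hconj x hx _ d.2)
    have hd' : ∀ d ∈ D, ∀ i ∈ I, d * i * d⁻¹ ∈ I := by
      rintro d hd _ ⟨w, hw, rfl⟩
      rw [hDc d hd _ (show (D.subtype w : G) ∈ D from w.2), mul_inv_cancel_right]
      exact ⟨w, hw, rfl⟩
    intro g hg
    have h1 : zpowers x ⊔ D ≤ normalizer (I : Set G) := sup_le
      (zpowers_le.2 (mem_normalizer_iff.2 fun i => ⟨hx' i, fun h => by
        have hn : ∀ k : ℕ, ∀ i ∈ I, x ^ k * i * (x ^ k)⁻¹ ∈ I := by
          intro k
          induction k with
          | zero => simp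
          | succ k ih =>
            intro i hi
            have := hx' _ (ih i hi)
            rw [pow_succ']
            simpa [mul_assoc] using this
        have h2 := hn (orderOf x - 1) _ h
        rw [← inv_eq_of_mul_eq_one_left (show x ^ (orderOf x - 1) * x = 1 by
          rw [← pow_succ, Nat.sub_add_cancel (orderOf_pos x), pow_orderOf_eq_one])] at h2
        simpa [mul_assoc] using h2⟩))
      (fun d hd => mem_normalizer_iff.2 fun i => ⟨hd' d hd i, fun h => by
        have := hd' d⁻¹ (inv_mem hd) _ h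
        simpa [mul_assoc] using this⟩)
    intro i hi
    exact (mem_normalizer_iff.1 (h1 hg) i).1 hi
  have hXI : ⁅X, X⁆ ≤ I := by
    haveI : (I.subgroupOf X).Normal := ⟨fun i hi g => mem_subgroupOf.2 (hIinv g (hgen g.2) _ (mem_subgroupOf.1 hi))⟩
    set π := QuotientGroup.mk' (I.subgroupOf X) with hπ
    set x' : X := ⟨x, hx⟩
    have hcx : ∀ d : X, (d : G) ∈ D → Commute (π x') (π d) := fun d hd => by
      rw [← commutatorElement_eq_one_iff_commute, ← map_commutatorElement]
      exact (QuotientGroup.eq_one_iff _).2 (mem_subgroupOf.2 (hIx _ hd))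
    have hzc : ∀ a : X, ∀ b : X, Commute (π a) (π b) := by
      have key : ∀ a : X, Commute (π x') (π a) ∧ ∀ d : X, (d : G) ∈ D → Commute (π d) (π a) := by
        intro a
        haveI : (D.subgroupOf X).Normal := ⟨fun d hd g => mem_subgroupOf.2 (hconj g g.2 _ (mem_subgroupOf.1 hd))⟩
        have ha : a ∈ zpowers x' ⊔ D.subgroupOf X := by
          have h2 : (a : G) ∈ zpowers x ⊔ D := hgen a.2
          rw [← map_subgroupOf_eq_of_le hD, show zpowers x = (zpowers x').map X.subtype from
            (MonoidHom.map_zpowers X.subtype x').symm, ← Subgroup.map_sup] at h2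
          obtain ⟨a', ha', e⟩ := h2
          exact X.subtype_injective e ▸ ha'
        obtain ⟨w, hw, d, hd, rfl⟩ := mem_sup_of_normal_right.1 ha
        obtain ⟨k, rfl⟩ := mem_zpowers_iff.1 hw
        rw [map_mul, map_zpow]
        refine ⟨((Commute.refl _).zpow_right k).mul_right (hcx d (mem_subgroupOf.1 hd)), fun e he => ?_⟩
        refine ((hcx e he).symm.zpow_right k).mul_right ?_
        rw [← commutatorElement_eq_one_iff_commute, ← map_commutatorElement,
          commutatorElement_eq_one_iff_mul_comm.2 (Subtype.ext (hDc _ he _ (mem_subgroupOf.1 hd))), map_one]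
      intro a b
      haveI : (D.subgroupOf X).Normal := ⟨fun d hd g => mem_subgroupOf.2 (hconj g g.2 _ (mem_subgroupOf.1 hd))⟩
      have ha : a ∈ zpowers x' ⊔ D.subgroupOf X := by
        have h2 : (a : G) ∈ zpowers x ⊔ D := hgen a.2
        rw [← map_subgroupOf_eq_of_le hD, show zpowers x = (zpowers x').map X.subtype from
          (MonoidHom.map_zpowers X.subtype x').symm, ← Subgroup.map_sup] at h2
        obtain ⟨a', ha', e⟩ := h2
        exact X.subtype_injective e ▸ ha'
      obtain ⟨w, hw, d, hd, rfl⟩ := mem_sup_of_normal_right.1 ha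
      obtain ⟨k, rfl⟩ := mem_zpowers_iff.1 hw
      rw [map_mul, map_zpow]
      exact ((key b).1.zpow_left k).mul_left ((key b).2 d (mem_subgroupOf.1 hd))
    rw [commutator_le]
    intro a ha b hb
    have h1 := commutatorElement_eq_one_iff_commute.2 (hzc ⟨a, ha⟩ ⟨b, hb⟩)
    rw [← map_commutatorElement] at h1
    exact mem_subgroupOf.1 ((QuotientGroup.eq_one_iff _).1 h1)
  have hrange : Nat.card φ.range = Nat.card ↥(⁅X, X⁆) := by
    rw [← le_antisymm hIle hXI, hI, card_map_of_injective D.subtype_injective]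
  have hk := φ.ker.card_mul_index
  rw [index_ker, hrange] at hk
  have hkp : Nat.card φ.ker = p := by
    refine Nat.eq_of_mul_eq_mul_right (Nat.mul_pos (Nat.card_pos (α := ↥(⁅X, X⁆))) hp.out.pos) ?_
    rw [← mul_assoc, hk, hDi, ← hab]; ring
  set C := X ⊓ centralizer ({x} : Set G) with hC
  have hker : φ.ker.map D.subtype = D ⊓ C := by
    ext d
    simp only [mem_map, MonoidHom.mem_ker, hC, mem_inf, mem_centralizer_singleton_iff]
    constructor
    · rintro ⟨a, ha, rfl⟩
      exact ⟨a.2, hD a.2, (commutatorElement_eq_one_iff_mul_comm.1 (congrArg Subtype.val ha)).symm⟩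
    · rintro ⟨hdD, -, hc⟩
      exact ⟨⟨d, hdD⟩, Subtype.ext (commutatorElement_eq_one_iff_mul_comm.2 hc.symm), rfl⟩
  have hDC : Nat.card ↥(D ⊓ C) = p := by rw [← hker, card_map_of_injective D.subtype_injective, hkp]
  haveI : (D.subgroupOf X).Normal := ⟨fun d hd g => mem_subgroupOf.2 (hconj g g.2 _ (mem_subgroupOf.1 hd))⟩
  have hCX : C ≤ X := inf_le_left
  have hrel : D.relIndex C ∣ p := by
    rw [← relIndex_subgroupOf hCX]
    refine (relIndex_dvd_index_of_normal (D.subgroupOf X) _).trans (dvd_of_eq ?_)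
    have h1 := (D.subgroupOf X).card_mul_index
    rw [Nat.card_congr (subgroupOfEquivOfLe hD).toEquiv, ← hDi] at h1
    exact Nat.eq_of_mul_eq_mul_left Nat.card_pos h1
  have hrel1 : D.relIndex C ≠ 1 := fun e =>
    hxD (relIndex_eq_one.1 e (mem_inf.2 ⟨hx, mem_centralizer_singleton_iff.2 rfl⟩))
  have h1 : Nat.card ↥(D ⊓ C) * D.relIndex C = Nat.card C := by
    rw [← inf_relIndex_right, ← relIndex_bot_left, ← relIndex_bot_left]
    exact relIndex_mul_relIndex ⊥ _ C bot_le inf_le_right
  rw [hDC, ((Nat.dvd_prime hp.out).1 hrel).resolve_left hrel1] at h1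
  rw [← h1, pow_two]

/-- The Sylow intersection with a non-simple non-abelian minimal normal subgroup is abelian. -/
theorem inf_comm_of_factors (P : Sylow p G) {n : ℕ} (hn : Nat.card (P : Subgroup G) = p ^ n) (h3 : 3 ≤ n)
    {R T : Subgroup G} (F : Factors R T) (hTR : T ≠ R) (hpR : p ∣ Nat.card R)
    (hcen : ∀ z ∈ R, (∀ r ∈ R, z * r = r * z) → z = 1)
    (hab : Nat.card ↥(⁅(P : Subgroup G), (P : Subgroup G)⁆) * p ^ 2 = Nat.card (P : Subgroup G))
    (hD : ((P : Subgroup G) ≤ R ∨ (⁅(P : Subgroup G), (P : Subgroup G)⁆ ≤ R ∧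
      Nat.card ↥((P : Subgroup G) ⊓ R) * p = Nat.card (P : Subgroup G)))) :
    ¬ (P : Subgroup G) ≤ R ∧ ∀ a ∈ (P : Subgroup G) ⊓ R, ∀ b ∈ (P : Subgroup G) ⊓ R, a * b = b * a := by
  haveI hRn : R.Normal := F.normal
  set X := (P : Subgroup G) with hX
  set D := X ⊓ R with hDdef
  have hXp : IsPGroup p X := P.isPGroup'
  have hDrel : ¬ p ∣ D.relIndex R := by
    rw [hDdef, inf_relIndex_right]; exact Thompson.not_dvd_relIndex_sylow P R
  let S : Sylow p R := IsPGroup.toSylow (P := X.subgroupOf R)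
    (hXp.comap_of_injective R.subtype R.subtype_injective) (Thompson.not_dvd_relIndex_sylow P R)
  have hS : (S : Subgroup R) = X.subgroupOf R := rfl
  have hsub : ∀ U : Subgroup G, U ≤ R → (∀ r ∈ R, ∀ u ∈ U, r * u * r⁻¹ ∈ U) → ¬ p ∣ (X ⊓ U).relIndex U := by
    intro U hU hUn
    haveI : (U.subgroupOf R).Normal := ⟨fun u hu r => mem_subgroupOf.2 (hUn r r.2 _ (mem_subgroupOf.1 hu))⟩
    have h1 := Thompson.not_dvd_relIndex_sylow S (U.subgroupOf R)
    rwa [hS, relIndex_subgroupOf hU, ← inf_relIndex_right] at h1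
  -- the data of one factor
  have hdata : ∀ h : G, X ⊓ cj h T ≠ ⊥ ∧ X ⊓ rest (cj h T) ≠ ⊥ ∧
      ∀ d ∈ D, ∃ a ∈ X ⊓ cj h T, ∃ b ∈ X ⊓ rest (cj h T), d = a * b := by
    intro h
    have Fh := factors_cj F h
    set U := cj h T with hUdef
    set W := rest U with hWdef
    set A := X ⊓ U
    set B := X ⊓ W
    have hAU := hsub U Fh.le (fun r hr u hu => Fh.conj_mem_of_mem hr hu)
    have hBW := hsub W Fh.rest_le (fun r hr u hu => Fh.conj_mem_rest hr hu)
    have hcardT : ∀ g, Nat.card (cj g T) = Nat.card T := fun g => card_cj g T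
    have hUR : U ⊔ W = R := le_antisymm (sup_le Fh.le Fh.rest_le) fun r hr => by
      obtain ⟨t, ht, w, hw, rfl⟩ := Fh.exists_mul hr
      exact mul_mem (mem_sup_left ht) (mem_sup_right hw)
    have hnUW : W ≤ normalizer (U : Set G) := Fh.rest_le_centralizer.trans (centralizer_le_normalizer _)
    have hcardR : Nat.card R = Nat.card U * Nat.card W := by
      rw [← hUR]
      exact card_sup_of_disjoint hnUW Fh.inf_rest
    have hAcard : Nat.card A * A.relIndex U = Nat.card U := by
      rw [← relIndex_bot_left, ← relIndex_bot_left]; exact relIndex_mul_relIndex _ _ _ bot_le inf_le_right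
    have hBcard : Nat.card B * B.relIndex W = Nat.card W := by
      rw [← relIndex_bot_left, ← relIndex_bot_left]; exact relIndex_mul_relIndex _ _ _ bot_le inf_le_right
    have hpT : p ∣ Nat.card T := by
      by_contra hpT
      obtain ⟨r, hr⟩ := exists_prime_orderOf_dvd_card' (G := R) p hpR
      have hall : ∀ g, (r : G) ∈ rest (cj g T) := fun g => by
        obtain ⟨t, ht, w, hw, e⟩ := (factors_cj F g).exists_mul r.2
        have hc : Commute t w := (factors_cj F g).commute ht hw
        have h1 : (t * w) ^ p = 1 := by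
          rw [← e, ← SubmonoidClass.coe_pow, ← hr, pow_orderOf_eq_one, OneMemClass.coe_one]
        rw [hc.mul_pow] at h1
        have h2 : t ^ p ∈ cj g T ⊓ rest (cj g T) := mem_inf.2 ⟨pow_mem ht p, by
          rw [eq_inv_of_mul_eq_one_left h1]; exact inv_mem (pow_mem hw p)⟩
        rw [(factors_cj F g).inf_rest, mem_bot] at h2
        have h3 : orderOf (⟨t, ht⟩ : cj g T) = 1 := by
          rcases (Nat.dvd_prime hp.out).1 (orderOf_dvd_of_pow_eq_one (Subtype.ext h2 : (⟨t, ht⟩ : cj g T) ^ p = 1)) with h | h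
          · exact h
          · exact absurd (hcardT g ▸ h ▸ orderOf_dvd_natCard _) hpT
        rw [orderOf_eq_one_iff] at h3
        have h4 : t = 1 := congrArg Subtype.val h3
        rw [e, h4, one_mul]
        exact hw
      have hr1 : (r : G) = 1 := hcen _ r.2 (fun w hw => by
        have hle : R ≤ centralizer ({(r : G)} : Set G) := by
          conv_lhs => rw [F.sup]
          exact iSup_le fun g t ht => mem_centralizer_singleton_iff.2 ((factors_cj F g).commute ht (hall g))
        exact (mem_centralizer_singleton_iff.1 (hle hw)).symm)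
      rw [← Subgroup.orderOf_coe, hr1, orderOf_one] at hr
      exact hp.out.ne_one hr.symm
    have hA0 : A ≠ ⊥ := fun e => hAU (by
      rw [show X ⊓ U = A from rfl, e, relIndex_bot_left, hUdef, hcardT]; exact hpT)
    have hUne : U ≠ R := fun e => by
      refine hTR (eq_of_le_of_card_ge F.le ?_)
      rw [← e, hUdef, hcardT]
    obtain ⟨g, hg⟩ := Fh.exists_other hUne
    have hB0 : B ≠ ⊥ := fun e => hBW (by
      rw [show X ⊓ W = B from rfl, e, relIndex_bot_left]
      refine (?_ : p ∣ Nat.card (cj g U)).trans (card_dvd_of_le (cj_le_rest hg))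
      rw [cj_cj, hcardT]; exact hpT)
    refine ⟨hA0, hB0, ?_⟩
    have hBA : B ≤ normalizer (A : Set G) := fun b hb => centralizer_le_normalizer _
      (mem_centralizer_iff.2 fun a ha => Fh.commute (mem_inf.1 ha).2 (mem_inf.1 hb).2)
    have hABD : A ⊔ B ≤ D := sup_le (le_inf inf_le_left (inf_le_right.trans Fh.le))
      (le_inf inf_le_left (inf_le_right.trans Fh.rest_le))
    have hcAB : Nat.card ↥(A ⊔ B) = Nat.card A * Nat.card B := by
      have hinf : A ⊓ B = ⊥ := le_bot_iff.1 (Fh.inf_rest ▸ inf_le_inf inf_le_right inf_le_right)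
      exact card_sup_of_disjoint (fun b hb => centralizer_le_normalizer _
        (mem_centralizer_iff.2 fun a ha => Fh.commute (mem_inf.1 ha).2 (mem_inf.1 hb).2)) hinf
    have hDeq : A ⊔ B = D := by
      refine eq_of_le_of_card_ge hABD (Nat.le_of_dvd Nat.card_pos ?_)
      obtain ⟨i, hi⟩ := IsPGroup.iff_card.1 (hXp.to_le (inf_le_left : D ≤ X))
      have h1 : Nat.card D ∣ Nat.card ↥(A ⊔ B) * (A.relIndex U * B.relIndex W) := by
        rw [hcAB, mul_mul_mul_comm, hAcard, hBcard, ← hcardR]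
        exact card_dvd_of_le inf_le_right
      rw [hi] at h1 ⊢
      exact (((hp.out.coprime_iff_not_dvd.2 fun hd =>
        (hp.out.dvd_mul.1 hd).elim hAU hBW)).pow_left i).dvd_of_dvd_mul_right h1
    intro d hd
    have hd' : d ∈ ((A ⊔ B : Subgroup G) : Set G) := by rw [hDeq]; exact hd
    rw [Subgroup.coe_mul_of_right_le_normalizer_left A B hBA] at hd'
    obtain ⟨a, ha, b, hb, e⟩ := Set.mem_mul.1 hd'
    exact ⟨a, ha, b, hb, e.symm⟩
  have hABinj : ∀ h : G, ∀ a ∈ cj h T, ∀ b ∈ rest (cj h T), a * b ∈ cj h T → b = 1 := by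
    intro h a ha b hb hab'
    have h1 : b ∈ cj h T ⊓ rest (cj h T) := mem_inf.2 ⟨by simpa using mul_mem (inv_mem ha) hab', hb⟩
    rwa [(factors_cj F h).inf_rest, mem_bot] at h1
  -- the case of an invariant factor
  have hfixed : ∀ h : G, (∀ x ∈ X, cj x (cj h T) = cj h T) →
      (∀ d ∈ X, ∀ e ∈ X, ⁅d, e⁆ ∈ ⁅D, X⁆) → Nat.card D ≤ p * Nat.card ↥(⁅X, X⁆) → False := by
    intro h hinv hgen hcard
    have Fh := factors_cj F h
    obtain ⟨hA0, hB0, hdec⟩ := hdata h
    set U := cj h T with hUdef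
    set W := rest U with hWdef
    set A := X ⊓ U
    set B := X ⊓ W
    have hWinv : ∀ x ∈ X, ∀ w ∈ W, x * w * x⁻¹ ∈ W := by
      intro x hx w hw
      have hle : W ≤ W.comap (MulAut.conj x).toMonoidHom := iSup_le fun g a ha => mem_comap.2 (by
        refine (cj_le_rest (T := U) (g := x * g.1) ?_) ?_
        · intro e
          refine g.2 ?_
          have h2 : cj x⁻¹ (cj (x * g.1) U) = cj x⁻¹ U := by rw [e]
          rw [cj_cj, inv_mul_cancel_left] at h2
          rw [h2]
          conv_lhs => rw [← hinv x hx, cj_cj, inv_mul_cancel, cj_one]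
        · rw [← cj_cj]; exact conj_mem_cj ha)
      simpa using hle hw
    have hA' : ⁅A, X⁆ ≤ A := by
      rw [commutator_le]
      intro a ha x hx
      refine mem_inf.2 ⟨?_, ?_⟩
      · rw [commutatorElement_def]
        exact mul_mem (mul_mem (mul_mem (mem_inf.1 ha).1 hx) (inv_mem (mem_inf.1 ha).1)) (inv_mem hx)
      · rw [commutatorElement_def, mul_assoc, mul_assoc, ← mul_assoc x]
        refine mul_mem (mem_inf.1 ha).2 ?_
        have h2 := conj_mem_cj (g := x) (inv_mem (mem_inf.1 ha).2)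
        rwa [hinv x hx] at h2
    have hB' : ⁅B, X⁆ ≤ B := by
      rw [commutator_le]
      intro b hb x hx
      refine mem_inf.2 ⟨?_, ?_⟩
      · rw [commutatorElement_def]
        exact mul_mem (mul_mem (mul_mem (mem_inf.1 hb).1 hx) (inv_mem (mem_inf.1 hb).1)) (inv_mem hx)
      · rw [commutatorElement_def, mul_assoc, mul_assoc, ← mul_assoc x]
        exact mul_mem (mem_inf.1 hb).2 (hWinv x hx _ (inv_mem (mem_inf.1 hb).2))
    have hP1 : ⁅X, X⁆ ≤ ⁅A, X⁆ ⊔ ⁅B, X⁆ := by
      refine (commutator_le.2 fun d hd e he => hgen d hd e he).trans (commutator_le.2 fun d hd x hx => ?_)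
      obtain ⟨a, ha, b, hb, rfl⟩ := hdec d hd
      have hbx : ⁅b, x⁆ ∈ ⁅B, X⁆ := commutator_mem_commutator hb hx
      rw [show ⁅a * b, x⁆ = ⁅a, ⁅b, x⁆⁆ * ⁅b, x⁆ * ⁅a, x⁆ by simp only [commutatorElement_def]; group]
      exact mul_mem (mul_mem (mem_sup_left (commutator_mem_commutator ha
        (mem_inf.1 (hB' hbx)).1)) (mem_sup_right hbx)) (mem_sup_left (commutator_mem_commutator ha hx))
    have hdecomp : ∀ v ∈ ⁅A, X⁆ ⊔ B, ∃ a ∈ ⁅A, X⁆, ∃ b ∈ B, v = a * b := by
      intro v hv
      have hn : B ≤ normalizer ((⁅A, X⁆ : Subgroup G) : Set G) := fun b hb => centralizer_le_normalizer _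
        (mem_centralizer_iff.2 fun a ha => Fh.commute (mem_inf.1 (hA' ha)).2 (mem_inf.1 hb).2)
      have hv' : v ∈ ((⁅A, X⁆ ⊔ B : Subgroup G) : Set G) := hv
      rw [Subgroup.coe_mul_of_right_le_normalizer_left _ B hn] at hv'
      obtain ⟨a, ha, b, hb, e⟩ := Set.mem_mul.1 hv'
      exact ⟨a, ha, b, hb, e.symm⟩
    set K := ⁅A, X⁆ ⊔ B with hK
    have hKD : K ≤ D := sup_le (hA'.trans (le_inf inf_le_left (inf_le_right.trans Fh.le)))
      (le_inf inf_le_left (inf_le_right.trans Fh.rest_le))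
    have hP1K : ⁅X, X⁆ ≤ K := hP1.trans (sup_le_sup_left hB' _)
    have hne : ⁅X, X⁆ ≠ K := by
      intro e
      refine hB0 (eq_bot_of_le_commutator hXp inf_le_left fun b hb => ?_)
      have hb' : b ∈ ⁅A, X⁆ ⊔ ⁅B, X⁆ := hP1 (e ▸ mem_sup_right hb)
      have hn : ⁅B, X⁆ ≤ normalizer ((⁅A, X⁆ : Subgroup G) : Set G) := fun b hb => centralizer_le_normalizer _
        (mem_centralizer_iff.2 fun a ha => Fh.commute (mem_inf.1 (hA' ha)).2 (mem_inf.1 (hB' hb)).2)
      have hv' : b ∈ ((⁅A, X⁆ ⊔ ⁅B, X⁆ : Subgroup G) : Set G) := hb'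
      rw [Subgroup.coe_mul_of_right_le_normalizer_left _ _ hn] at hv'
      obtain ⟨a, ha, c, hc, rfl⟩ := Set.mem_mul.1 hv'
      have h1 : a ∈ U ⊓ W := mem_inf.2 ⟨(mem_inf.1 (hA' ha)).2, by
        simpa using mul_mem (mem_inf.1 hb).2 (inv_mem (mem_inf.1 (hB' hc)).2)⟩
      rw [Fh.inf_rest, mem_bot] at h1
      rw [h1, one_mul]
      exact hc
    have h1 := card_le_of_lt hXp hP1K (hKD.trans inf_le_left) hne
    have hKeq : K = D := eq_of_le_of_card_ge hKD (hcard.trans h1)
    refine hA0 (eq_bot_of_le_commutator hXp inf_le_left fun a ha => ?_)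
    obtain ⟨a', ha', b, hb, e⟩ := hdecomp a (hKeq.symm ▸ mem_inf.2 ⟨(mem_inf.1 ha).1, Fh.le (mem_inf.1 ha).2⟩)
    rw [e, hABinj h a' (mem_inf.1 (hA' ha')).2 b (mem_inf.1 hb).2 (e ▸ (mem_inf.1 ha).2), mul_one]
    exact ha'
  rcases hD with hPR | ⟨hP1R, hDi⟩
  · -- P ≤ R
    exfalso
    have hDX : D = X := inf_eq_left.2 hPR
    obtain ⟨hA0, hB0, hdec⟩ := hdata 1
    have F1 := factors_cj F 1
    set U := cj 1 T with hUdef
    set W := rest U with hWdef
    set A := X ⊓ U
    set B := X ⊓ W
    have hcomm : ∀ a ∈ A, ∀ b ∈ B, a * b = b * a := fun a ha b hb => F1.commute (mem_inf.1 ha).2 (mem_inf.1 hb).2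
    have hXX : ⁅X, X⁆ ≤ ⁅A, A⁆ ⊔ ⁅B, B⁆ := by
      rw [commutator_le]
      intro d hd e he
      obtain ⟨a, ha, b, hb, rfl⟩ := hdec d (hDX.symm ▸ hd)
      obtain ⟨a', ha', b', hb', rfl⟩ := hdec e (hDX.symm ▸ he)
      have e1 : ⁅a * b, a' * b'⁆ = ⁅a, a'⁆ * ⁅b, b'⁆ := by
        have c1 := hcomm a' ha' b hb
        have c2 := hcomm a ha b' hb'
        have c3 : ∀ u ∈ B, ∀ v ∈ A, Commute u v := fun u hu v hv => (hcomm v hv u hu).symm
        have hu1 := c3 b hb
        have hu2 := c3 b' hb'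
        simp only [commutatorElement_def, mul_inv_rev]
        calc a * b * (a' * b') * (b⁻¹ * a⁻¹) * (b'⁻¹ * a'⁻¹)
            = a * (b * a') * b' * b⁻¹ * a⁻¹ * b'⁻¹ * a'⁻¹ := by group
          _ = a * (a' * b) * b' * b⁻¹ * a⁻¹ * b'⁻¹ * a'⁻¹ := by rw [c1]
          _ = a * a' * (b * b' * b⁻¹ * a⁻¹) * b'⁻¹ * a'⁻¹ := by group
          _ = a * a' * (a⁻¹ * (b * b' * b⁻¹)) * b'⁻¹ * a'⁻¹ := by
              rw [(c3 _ (mul_mem (mul_mem hb hb') (inv_mem hb)) a⁻¹ (inv_mem ha)).eq]
          _ = a * a' * a⁻¹ * ((b * b' * b⁻¹ * b'⁻¹) * a'⁻¹) := by group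
          _ = a * a' * a⁻¹ * (a'⁻¹ * (b * b' * b⁻¹ * b'⁻¹)) := by
              rw [(c3 _ (mul_mem (mul_mem (mul_mem hb hb') (inv_mem hb)) (inv_mem hb')) a'⁻¹ (inv_mem ha')).eq]
          _ = a * a' * a⁻¹ * a'⁻¹ * (b * b' * b⁻¹ * b'⁻¹) := by group
      rw [e1]
      exact mul_mem (mem_sup_left (commutator_mem_commutator ha ha')) (mem_sup_right (commutator_mem_commutator hb hb'))
    have hle : ∀ (A B : Subgroup G), A ≤ X → B ≤ X → A ⊓ B = ⊥ → (∀ a ∈ A, ∀ b ∈ B, a * b = b * a) → Nat.card X ≤ Nat.card A * Nat.card B →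
        ⁅X, X⁆ ≤ ⁅A, A⁆ ⊔ B → ⁅X, X⁆ ≠ ⁅A, A⁆ ⊔ B → ⁅A, A⁆ ≤ A → Nat.card A ≤ p := by
      intro A B hA hB hinf hcomm hXc h1 h2 hAA
      have h3 := card_le_of_lt hXp h1 (sup_le (hAA.trans hA) hB) h2
      have h4 := card_sup_of_disjoint (norm_of_comm fun a ha b hb => hcomm a (hAA ha) b hb)
        (le_bot_iff.1 (hinf ▸ inf_le_inf_right _ hAA) : ⁅A, A⁆ ⊓ B = ⊥)
      rw [h4] at h3
      have h5 : Nat.card A ≤ p * Nat.card ↥(⁅A, A⁆) := by
        refine Nat.le_of_mul_le_mul_right ?_ (Nat.card_pos (α := B))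
        calc Nat.card A * Nat.card B ≤ p ^ 2 * Nat.card ↥(⁅X, X⁆) := by
              rw [mul_comm (p ^ 2), hab]
              rw [← card_sup_of_disjoint (norm_of_comm hcomm) hinf]
              exact card_le_of_le (sup_le hA hB)
          _ = p * (p * Nat.card ↥(⁅X, X⁆)) := by ring
          _ ≤ p * (Nat.card ↥(⁅A, A⁆) * Nat.card B) := Nat.mul_le_mul_left p h3
          _ = _ := by ring
      have hc := comm_of_card_le (hXp.to_le hA) h5
      have hb : ⁅A, A⁆ = ⊥ := le_bot_iff.1 (commutator_le.2 fun a ha b hb =>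
        mem_bot.2 (commutatorElement_eq_one_iff_mul_comm.2 (hc a ha b hb)))
      rwa [hb, card_bot, mul_one] at h5
    have hinf : A ⊓ B = ⊥ := le_bot_iff.1 (F1.inf_rest ▸ inf_le_inf inf_le_right inf_le_right)
    have hAA : ⁅A, A⁆ ≤ A := commutator_le.2 fun a ha b hb => by
      rw [commutatorElement_def]; exact mul_mem (mul_mem (mul_mem ha hb) (inv_mem ha)) (inv_mem hb)
    have hBB : ⁅B, B⁆ ≤ B := commutator_le.2 fun a ha b hb => by
      rw [commutatorElement_def]; exact mul_mem (mul_mem (mul_mem ha hb) (inv_mem ha)) (inv_mem hb)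
    have hcardX : Nat.card X ≤ Nat.card A * Nat.card B := by
      rw [← Nat.card_prod]
      refine Nat.card_le_card_of_surjective (fun ab : A × B => (⟨(ab.1 : G) * ab.2,
        mul_mem (mem_inf.1 ab.1.2).1 (mem_inf.1 ab.2.2).1⟩ : X)) fun d => ?_
      obtain ⟨a, ha, b, hb, e⟩ := hdec d (hDX.symm ▸ d.2)
      exact ⟨⟨⟨a, ha⟩, ⟨b, hb⟩⟩, Subtype.ext e.symm⟩
    have hkill : ∀ (A B : Subgroup G), A ≤ X → B ≤ X → B ≠ ⊥ → ⁅A, A⁆ ≤ A → ⁅B, B⁆ ≤ B → A ⊓ B = ⊥ →
        (∀ a ∈ A, ∀ b ∈ B, a * b = b * a) → ⁅X, X⁆ ≤ ⁅A, A⁆ ⊔ ⁅B, B⁆ → ⁅X, X⁆ ≠ ⁅A, A⁆ ⊔ B := by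
      intro A B hA hB hB0 hAA hBB hinf hcomm h e
      refine hB0 (eq_bot_of_le_commutator hXp hB (le_trans ?_ (commutator_mono le_rfl hB)))
      intro b hb
      have hb' : b ∈ ⁅A, A⁆ ⊔ ⁅B, B⁆ := h (e ▸ mem_sup_right hb)
      have hn : ⁅B, B⁆ ≤ normalizer ((⁅A, A⁆ : Subgroup G) : Set G) := fun b hb => centralizer_le_normalizer _
        (mem_centralizer_iff.2 fun a ha => hcomm a (hAA ha) b (hBB hb))
      have hv' : b ∈ ((⁅A, A⁆ ⊔ ⁅B, B⁆ : Subgroup G) : Set G) := hb'
      rw [Subgroup.coe_mul_of_right_le_normalizer_left _ _ hn] at hv'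
      obtain ⟨a, ha, c, hc, rfl⟩ := Set.mem_mul.1 hv'
      have h1 : a ∈ A ⊓ B := mem_inf.2 ⟨hAA ha, by simpa using mul_mem hb (inv_mem (hBB hc))⟩
      rw [hinf, mem_bot] at h1
      rw [h1, one_mul]
      exact hc
    have h1 := hle A B inf_le_left inf_le_left hinf hcomm hcardX (hXX.trans (sup_le_sup_left hBB _))
      (hkill A B inf_le_left inf_le_left hB0 hAA hBB hinf hcomm hXX) hAA
    have h2 := hle B A inf_le_left inf_le_left (inf_comm A B ▸ hinf) (fun a ha b hb => (hcomm b hb a ha).symm) (by rwa [mul_comm])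
      (hXX.trans (sup_comm ⁅A, A⁆ ⁅B, B⁆ ▸ sup_le_sup_left hAA _))
      (hkill B A inf_le_left inf_le_left hA0 hBB hAA (inf_comm A B ▸ hinf) (fun a ha b hb => (hcomm b hb a ha).symm)
        (sup_comm ⁅A, A⁆ ⁅B, B⁆ ▸ hXX)) hBB
    have h4 : p ^ n ≤ p ^ 2 := by
      rw [← hn, pow_two]; exact hcardX.trans (Nat.mul_le_mul h1 h2)
    rw [Nat.pow_le_pow_iff_right hp.out.one_lt] at h4
    omega
  · have hnPR : ¬ X ≤ R := fun h => by
      rw [hDdef, inf_eq_left.2 h] at hDi
      exact (Nat.lt_mul_iff_one_lt_right Nat.card_pos).2 hp.out.one_lt |>.ne hDi.symm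
    refine ⟨hnPR, ?_⟩
    have hDX : D ≤ X := inf_le_left
    have hP1D : ⁅X, X⁆ ≤ D := le_inf (commutator_le.2 fun a ha b hb => by
      rw [commutatorElement_def]; exact mul_mem (mul_mem (mul_mem ha hb) (inv_mem ha)) (inv_mem hb)) hP1R
    have hP1c : Nat.card ↥(⁅X, X⁆) * p = Nat.card D := Nat.eq_of_mul_eq_mul_right hp.out.pos
      (by rw [hDi, ← hab]; ring)
    obtain ⟨g, hg, hgR⟩ : ∃ g ∈ X, g ∉ R := by
      by_contra! hall
      exact hnPR hall
    have hgen : X ≤ zpowers g ⊔ D := by
      have hle : zpowers g ⊔ D ≤ X := sup_le (zpowers_le.2 hg) hDX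
      have h := card_le_of_lt hXp (le_sup_right : D ≤ zpowers g ⊔ D) hle fun e =>
        hgR (mem_inf.1 (e.symm ▸ mem_sup_left (mem_zpowers g) : g ∈ D)).2
      exact (eq_of_le_of_card_ge hle (by rw [← hDi, mul_comm]; exact h)).ge
    have hconjD : ∀ x ∈ X, ∀ d ∈ D, x * d * x⁻¹ ∈ D := fun x hx d hd => mem_inf.2
      ⟨mul_mem (mul_mem hx (mem_inf.1 hd).1) (inv_mem hx), hRn.conj_mem _ (mem_inf.1 hd).2 x⟩
    have hgen' : ∀ x ∈ X, ∃ k : ℤ, ∃ d ∈ D, x = g ^ k * d := by
      intro x hx
      have hn' : zpowers g ≤ normalizer (D : Set G) := zpowers_le.2 (mem_normalizer_iff.2 fun v =>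
        ⟨hconjD g hg v, fun h => by
          simpa [mul_assoc] using hconjD g⁻¹ (inv_mem hg) _ h⟩)
      have hx' : x ∈ ((zpowers g ⊔ D : Subgroup G) : Set G) := hgen hx
      rw [Subgroup.coe_mul_of_left_le_normalizer_right (zpowers g) D hn'] at hx'
      obtain ⟨w, hw, d, hd, e⟩ := Set.mem_mul.1 hx'
      obtain ⟨k, rfl⟩ := mem_zpowers_iff.1 hw
      exact ⟨k, d, hd, e.symm⟩
    have hgp : g ^ p ∈ D := by
      haveI : (D.subgroupOf X).Normal := ⟨fun d hd x => mem_subgroupOf.2 (hconjD x x.2 _ (mem_subgroupOf.1 hd))⟩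
      have h := pow_index_mem (D.subgroupOf X) ⟨g, hg⟩
      have hi : (D.subgroupOf X).index = p := by
        have h1 := (D.subgroupOf X).card_mul_index
        rw [Nat.card_congr (subgroupOfEquivOfLe hDX).toEquiv, ← hDi] at h1
        exact Nat.eq_of_mul_eq_mul_left Nat.card_pos h1
      rw [hi] at h
      exact mem_subgroupOf.1 h
    -- each factor gives an abelian image of D
    have habA : ∀ h : G, ∀ a ∈ X ⊓ cj h T, ∀ b ∈ X ⊓ cj h T, a * b = b * a := by
      intro h
      have Fh := factors_cj F h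
      obtain ⟨hA0, hB0, hdec⟩ := hdata h
      set U := cj h T with hUdef
      set W := rest U with hWdef
      set A := X ⊓ U
      set B := X ⊓ W
      by_cases hfix : cj g U = U
      · exfalso
        refine hfixed h (fun x hx => ?_) (fun d hd e he => ?_) (by rw [← hP1c, mul_comm])
        · obtain ⟨k, d, hd, rfl⟩ := hgen' x hx
          rw [← cj_cj, F.stable d (mem_inf.1 hd).2 h]
          have hall : ∀ m : ℕ, cj (g ^ m) U = U := fun m => by
            induction m with
            | zero => rw [pow_zero, cj_one]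
            | succ m ih => rw [pow_succ, ← cj_cj, hfix, ih]
          have hmem : g ^ k ∈ Submonoid.powers g := by
            rw [mem_powers_iff_mem_zpowers]; exact zpow_mem (mem_zpowers g) k
          obtain ⟨m, hm⟩ := hmem
          rw [← hm]
          exact hall m
        · obtain ⟨i, d', hd', rfl⟩ := hgen' d hd
          obtain ⟨j, e', he', rfl⟩ := hgen' e he
          haveI : (⁅D, X⁆.subgroupOf X).Normal := by
            haveI : (D.subgroupOf X).Normal := ⟨fun d hd x => mem_subgroupOf.2 (hconjD x x.2 _ (mem_subgroupOf.1 hd))⟩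
            have h5 : ⁅D, X⁆.subgroupOf X = ⁅D.subgroupOf X, (⊤ : Subgroup X)⁆ := by
              rw [← (map_injective X.subtype_injective).eq_iff, map_commutator, map_subgroupOf_eq_of_le hDX,
                ← MonoidHom.range_eq_map, range_subtype, map_subgroupOf_eq_of_le]
              exact commutator_le.2 fun a ha b hb => by
                rw [commutatorElement_def]
                exact mul_mem (mul_mem (mul_mem (hDX ha) hb) (inv_mem (hDX ha))) (inv_mem hb)
            rw [h5]; infer_instance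
          set π := QuotientGroup.mk' (⁅D, X⁆.subgroupOf X)
          have hcen' : ∀ (u : X), (u : G) ∈ D → ∀ v : X, Commute (π u) (π v) := fun u hu v => by
            rw [← commutatorElement_eq_one_iff_commute, ← map_commutatorElement]
            exact (QuotientGroup.eq_one_iff _).2 (mem_subgroupOf.2 (commutator_mem_commutator hu v.2))
          set g' : X := ⟨g, hg⟩
          have e1 : Commute (π (g' ^ i * ⟨d', hDX hd'⟩)) (π (g' ^ j * ⟨e', hDX he'⟩)) := by
            rw [map_mul, map_mul, map_zpow, map_zpow]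
            refine Commute.mul_left ?_ ?_
            · exact ((Commute.refl _).zpow_zpow i j).mul_right ((hcen' _ he' g').symm.zpow_left i)
            · exact ((hcen' _ hd' g').zpow_right j).mul_right (hcen' _ hd' _)
          rw [← commutatorElement_eq_one_iff_commute, ← map_commutatorElement] at e1
          have h6 := mem_subgroupOf.1 ((QuotientGroup.eq_one_iff _).1 e1)
          exact h6
      · -- the orbit of the factor under g
        have hmove : ∀ i : ℕ, 0 < i → i < p → cj (g ^ i) U ≠ U := by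
          intro i hi0 hip e
          refine hfix ?_
          have hp' : cj (g ^ p) U = U := by
            rw [hUdef]; exact F.stable _ (mem_inf.1 hgp).2 h
          let St : Subgroup G :=
            { carrier := {x | cj x U = U}
              one_mem' := cj_one U
              mul_mem' := fun {a b} ha hb => by
                show cj (a * b) U = U
                rw [← cj_cj, hb, ha]
              inv_mem' := fun {a} ha => by
                show cj a⁻¹ U = U
                conv_lhs => rw [← ha, cj_cj, inv_mul_cancel, cj_one] }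
          have h7 : g ^ (Nat.gcd i p) ∈ St := pow_gcd_eq_one_aux St g e hp'
          rwa [Nat.Coprime.gcd_eq_one ((hp.out.coprime_iff_not_dvd.2 fun hd =>
            absurd (Nat.le_of_dvd hi0 hd) (by omega)).symm), pow_one] at h7
        set J0 := ⁅A, A⁆ ⊔ B with hJ0
        have hAA : ⁅A, A⁆ ≤ A := commutator_le.2 fun a ha b hb => by
          rw [commutatorElement_def]; exact mul_mem (mul_mem (mul_mem ha hb) (inv_mem ha)) (inv_mem hb)
        have hJD : J0 ≤ D := sup_le (hAA.trans (le_inf inf_le_left (inf_le_right.trans Fh.le)))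
          (le_inf inf_le_left (inf_le_right.trans Fh.rest_le))
        have hJc : ∀ d ∈ D, ∀ e ∈ D, ⁅d, e⁆ ∈ J0 := by
          intro d hd e he
          obtain ⟨a, ha, b, hb, rfl⟩ := hdec d hd
          obtain ⟨a', ha', b', hb', rfl⟩ := hdec e he
          have hcm : ∀ u ∈ W, ∀ v ∈ U, v * u = u * v := fun u hu v hv => Fh.commute hv hu
          haveI : (J0.subgroupOf D).Normal := by
            refine ⟨fun u hu v => mem_subgroupOf.2 ?_⟩
            have hu' : (u : G) ∈ J0 := mem_subgroupOf.1 hu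
            obtain ⟨va, hva, vb, hvb, hv⟩ := hdec v v.2
            have hle : J0 ≤ J0.comap (MulAut.conj (v : G)).toMonoidHom := by
              refine sup_le (commutator_le.2 fun x hx y hy => mem_comap.2 (mem_sup_left ?_))
                (fun w hw => mem_comap.2 (mem_sup_right ?_))
              · rw [map_commutatorElement]
                exact commutator_mem_commutator
                  (mem_inf.2 ⟨mul_mem (mul_mem (hDX v.2) (mem_inf.1 hx).1) (inv_mem (hDX v.2)),
                    Fh.conj_mem_of_mem (mem_inf.1 v.2).2 (mem_inf.1 hx).2⟩)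
                  (mem_inf.2 ⟨mul_mem (mul_mem (hDX v.2) (mem_inf.1 hy).1) (inv_mem (hDX v.2)),
                    Fh.conj_mem_of_mem (mem_inf.1 v.2).2 (mem_inf.1 hy).2⟩)
              · exact mem_inf.2 ⟨mul_mem (mul_mem (hDX v.2) (mem_inf.1 hw).1) (inv_mem (hDX v.2)),
                  Fh.conj_mem_rest (mem_inf.1 v.2).2 (mem_inf.1 hw).2⟩
            exact hle hu'
          set π := QuotientGroup.mk' (J0.subgroupOf D)
          have hkill : ∀ u : D, (u : G) ∈ B → π u = 1 := fun u hu =>
            (QuotientGroup.eq_one_iff _).2 (mem_subgroupOf.2 (mem_sup_right hu))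
          have hBD : B ≤ D := le_inf inf_le_left (inf_le_right.trans Fh.rest_le)
          have hAD : A ≤ D := le_inf inf_le_left (inf_le_right.trans Fh.le)
          have h8 : π ⁅(⟨a, hAD ha⟩ : D) * ⟨b, hBD hb⟩, ⟨a', hAD ha'⟩ * ⟨b', hBD hb'⟩⁆ = 1 := by
            rw [map_commutatorElement, map_mul, map_mul, hkill ⟨b, hBD hb⟩ hb, hkill ⟨b', hBD hb'⟩ hb',
              mul_one, mul_one, ← map_commutatorElement]
            exact (QuotientGroup.eq_one_iff _).2 (mem_subgroupOf.2 (mem_sup_left (commutator_mem_commutator ha ha')))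
          exact mem_subgroupOf.1 ((QuotientGroup.eq_one_iff _).1 h8)
        haveI : (J0.subgroupOf D).Normal := ⟨fun u hu v => mem_subgroupOf.2 (by
          have h1 := hJc v v.2 u u.2
          have h2 := mul_mem h1 (mem_subgroupOf.1 hu)
          rw [commutatorElement_def, inv_mul_cancel_right] at h2
          simpa using h2)⟩
        set Q := D ⧸ J0.subgroupOf D
        letI : CommGroup Q :=
          { mul_comm := fun x y => by
              obtain ⟨x, rfl⟩ := QuotientGroup.mk'_surjective (J0.subgroupOf D) x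
              obtain ⟨y, rfl⟩ := QuotientGroup.mk'_surjective (J0.subgroupOf D) y
              refine commutatorElement_eq_one_iff_mul_comm.1 ?_
              rw [← map_commutatorElement]
              exact (QuotientGroup.eq_one_iff _).2 (mem_subgroupOf.2 (hJc _ x.2 _ y.2)) }
        set π : D →* Q := QuotientGroup.mk' (J0.subgroupOf D) with hπ
        let c : ℕ → D →* D := fun i =>
          { toFun := fun d => ⟨g ^ i * d * (g ^ i)⁻¹, hconjD _ (pow_mem hg i) _ d.2⟩
            map_one' := Subtype.ext (by simp)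
            map_mul' := fun x y => Subtype.ext (by
              show g ^ i * ((x : G) * y) * (g ^ i)⁻¹ = g ^ i * x * (g ^ i)⁻¹ * (g ^ i * y * (g ^ i)⁻¹)
              group) }
        let ψ : D →* Q := ∏ i ∈ Finset.range p, π.comp (c i)
        have hψ : ∀ d, ψ d = ∏ i ∈ Finset.range p, π (c i d) := fun d => by
          simp [ψ, MonoidHom.finsetProd_apply]
        have hc0 : ∀ d, c 0 d = d := fun d => Subtype.ext (by simp [c])
        have hshift : ∀ d, ψ (c 1 d) = ψ d := by
          intro d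
          rw [hψ, hψ]
          have e : ∀ i, c i (c 1 d) = c (i + 1) d := fun i => Subtype.ext (by
            show g ^ i * (g ^ 1 * (d : G) * (g ^ 1)⁻¹) * (g ^ i)⁻¹ = g ^ (i + 1) * d * (g ^ (i + 1))⁻¹
            rw [pow_one, pow_succ]; group)
          simp only [e]
          have h2 := Finset.prod_range_succ' (fun i => π (c i d)) p
          rw [Finset.prod_range_succ] at h2
          have h3 : π (c p d) = π (c 0 d) := by
            have : c p d = (⟨g ^ p, hgp⟩ : D) * d * (⟨g ^ p, hgp⟩ : D)⁻¹ := Subtype.ext rfl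
            rw [hc0, this, map_mul, map_mul, map_inv, mul_comm (π (⟨g ^ p, hgp⟩ : D)), mul_inv_cancel_right]
          rw [h3] at h2
          exact (mul_right_cancel h2).symm
        have hψinv : ∀ x ∈ X, ∀ d : D, ∀ hd : x * (d : G) * x⁻¹ ∈ D, ψ ⟨_, hd⟩ = ψ d := by
          let St : Subgroup G :=
            { carrier := {x | x ∈ X ∧ ∀ d : D, ∀ hd : x * (d : G) * x⁻¹ ∈ D, ψ ⟨_, hd⟩ = ψ d}
              one_mem' := ⟨one_mem _, fun d hd => congrArg ψ (Subtype.ext (by simp))⟩
              mul_mem' := fun {x y} hx hy => ⟨mul_mem hx.1 hy.1, fun d hd => by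
                have h1 := hy.2 d (hconjD y hy.1 _ d.2)
                have h2 := hx.2 ⟨_, hconjD y hy.1 _ d.2⟩ (hconjD x hx.1 _ (hconjD y hy.1 _ d.2))
                rw [← h1, ← h2]
                exact congrArg ψ (Subtype.ext (by
                  show x * y * (d : G) * (x * y)⁻¹ = x * (y * d * y⁻¹) * x⁻¹
                  group))⟩
              inv_mem' := fun {x} hx => ⟨inv_mem hx.1, fun d hd => by
                have h1 := hx.2 ⟨_, hd⟩ (hconjD x hx.1 _ hd)
                rw [← h1]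
                exact congrArg ψ (Subtype.ext (by
                  show x * (x⁻¹ * (d : G) * x⁻¹⁻¹) * x⁻¹ = d
                  group))⟩ }
          have hle : zpowers g ⊔ D ≤ St := by
            refine sup_le (zpowers_le.2 ⟨hg, fun d hd => ?_⟩) fun e he => ⟨hDX he, fun d hd => ?_⟩
            · rw [← hshift d]
              exact congrArg ψ (Subtype.ext (by simp [c]))
            · rw [show (⟨e * (d : G) * e⁻¹, hd⟩ : D) = (⟨e, he⟩ : D) * d * (⟨e, he⟩ : D)⁻¹ from rfl,
                map_mul, map_mul, map_inv, mul_comm (ψ (⟨e, he⟩ : D)), mul_inv_cancel_right]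
          exact fun x hx => (hle (hgen hx)).2
        have hXker : ⁅X, X⁆ ≤ ψ.ker.map D.subtype := by
          have hstep : ⁅D, X⁆ ≤ ψ.ker.map D.subtype := commutator_le.2 fun d hd x hx => by
            refine ⟨(⟨d, hd⟩ : D) * ⟨x * ((⟨d, hd⟩ : D)⁻¹ : D) * x⁻¹, hconjD x hx _ (inv_mem hd)⟩, ?_, ?_⟩
            · rw [SetLike.mem_coe, MonoidHom.mem_ker, map_mul, hψinv x hx, map_inv, mul_inv_cancel]
            · show d * (x * d⁻¹ * x⁻¹) = ⁅d, x⁆
              rw [commutatorElement_def]; group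
          refine (commutator_le.2 fun d hd e he => ?_).trans hstep
          obtain ⟨i, d', hd', rfl⟩ := hgen' d hd
          obtain ⟨j, e', he', rfl⟩ := hgen' e he
          haveI : (⁅D, X⁆.subgroupOf X).Normal := by
            haveI : (D.subgroupOf X).Normal := ⟨fun d hd x => mem_subgroupOf.2 (hconjD x x.2 _ (mem_subgroupOf.1 hd))⟩
            have h5 : ⁅D, X⁆.subgroupOf X = ⁅D.subgroupOf X, (⊤ : Subgroup X)⁆ := by
              rw [← (map_injective X.subtype_injective).eq_iff, map_commutator, map_subgroupOf_eq_of_le hDX,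
                ← MonoidHom.range_eq_map, range_subtype, map_subgroupOf_eq_of_le]
              exact commutator_le.2 fun a ha b hb => by
                rw [commutatorElement_def]
                exact mul_mem (mul_mem (mul_mem (hDX ha) hb) (inv_mem (hDX ha))) (inv_mem hb)
            rw [h5]; infer_instance
          set π' := QuotientGroup.mk' (⁅D, X⁆.subgroupOf X)
          have hcen' : ∀ (u : X), (u : G) ∈ D → ∀ v : X, Commute (π' u) (π' v) := fun u hu v => by
            rw [← commutatorElement_eq_one_iff_commute, ← map_commutatorElement]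
            exact (QuotientGroup.eq_one_iff _).2 (mem_subgroupOf.2 (commutator_mem_commutator hu v.2))
          set g' : X := ⟨g, hg⟩
          have e1 : Commute (π' (g' ^ i * ⟨d', hDX hd'⟩)) (π' (g' ^ j * ⟨e', hDX he'⟩)) := by
            rw [map_mul, map_mul, map_zpow, map_zpow]
            refine Commute.mul_left ?_ ?_
            · exact ((Commute.refl _).zpow_zpow i j).mul_right ((hcen' _ he' g').symm.zpow_left i)
            · exact ((hcen' _ hd' g').zpow_right j).mul_right (hcen' _ hd' _)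
          rw [← commutatorElement_eq_one_iff_commute, ← map_commutatorElement] at e1
          have h6 := mem_subgroupOf.1 ((QuotientGroup.eq_one_iff _).1 e1)
          exact h6
        have hsurj : Function.Surjective ψ := by
          intro q
          obtain ⟨d, rfl⟩ := QuotientGroup.mk'_surjective (J0.subgroupOf D) q
          obtain ⟨a, ha, b, hb, hab'⟩ := hdec d d.2
          have hAD : A ≤ D := le_inf inf_le_left (inf_le_right.trans Fh.le)
          refine ⟨⟨a, hAD ha⟩, ?_⟩
          rw [hψ, Finset.prod_eq_single 0 ?_ (fun h0 => absurd (Finset.mem_range.2 hp.out.pos) h0), hc0]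
          · rw [hπ, QuotientGroup.mk'_eq_mk']
            exact ⟨⟨b, le_inf inf_le_left (inf_le_right.trans Fh.rest_le) hb⟩,
              mem_subgroupOf.2 (mem_sup_right hb), Subtype.ext hab'.symm⟩
          · intro i hi hi0
            refine (QuotientGroup.eq_one_iff _).2 (mem_subgroupOf.2 (mem_sup_right (mem_inf.2 ⟨?_, ?_⟩)))
            · exact mul_mem (mul_mem (pow_mem hg i) (mem_inf.1 ha).1) (inv_mem (pow_mem hg i))
            · exact cj_le_rest (hmove i (Nat.pos_of_ne_zero hi0) (Finset.mem_range.1 hi))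
                (conj_mem_cj (mem_inf.1 ha).2)
        have h9 : Nat.card Q ∣ p := by
          rw [← Nat.card_congr (MonoidHom.ofInjective (f := MonoidHom.id Q) fun _ _ h => h).toEquiv.symm]
          have hd1 : ψ.ker.index = Nat.card Q := by
            rw [index_ker, MonoidHom.range_eq_top.2 hsurj, card_top]
          rw [Nat.card_congr (MonoidHom.ofInjective (f := MonoidHom.id Q) fun _ _ h => h).toEquiv.symm, ← hd1]
          have h10 := card_dvd_of_le hXker
          rw [card_map_of_injective D.subtype_injective] at h10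
          obtain ⟨t, ht⟩ := h10
          have h11 := ψ.ker.card_mul_index
          rw [ht, ← hP1c, mul_assoc] at h11
          exact ⟨t, by rw [← Nat.eq_of_mul_eq_mul_left Nat.card_pos h11, mul_comm]⟩
        refine comm_of_card_le (hXp.to_le inf_le_left) ?_
        have h12 : Nat.card D ≤ p * Nat.card J0 := by
          have h13 := (J0.subgroupOf D).card_mul_index
          rw [Nat.card_congr (subgroupOfEquivOfLe hJD).toEquiv, index_eq_card] at h13
          rw [← h13, mul_comm p]
          exact Nat.mul_le_mul_left _ (Nat.le_of_dvd hp.out.pos h9)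
        have hinf : A ⊓ B = ⊥ := le_bot_iff.1 (Fh.inf_rest ▸ inf_le_inf inf_le_right inf_le_right)
        have h14 : Nat.card A * Nat.card B ≤ Nat.card D := by
          rw [← card_sup_of_disjoint (fun b hb => centralizer_le_normalizer _
            (mem_centralizer_iff.2 fun a ha => Fh.commute (mem_inf.1 ha).2 (mem_inf.1 hb).2)) hinf]
          exact card_le_of_le (sup_le (le_inf inf_le_left (inf_le_right.trans Fh.le))
            (le_inf inf_le_left (inf_le_right.trans Fh.rest_le)))
        have h15 := card_sup_of_disjoint (norm_of_comm fun a ha b hb =>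
          Fh.commute (mem_inf.1 (hAA ha)).2 (mem_inf.1 hb).2)
          (le_bot_iff.1 (hinf ▸ inf_le_inf_right _ hAA) : ⁅A, A⁆ ⊓ B = ⊥)
        rw [hJ0, h15, ← mul_assoc] at h12
        exact Nat.le_of_mul_le_mul_right (h14.trans h12) Nat.card_pos
    intro d hd e he
    refine commutatorElement_eq_one_iff_mul_comm.1 (hcen _ ?_ ?_)
    · rw [commutatorElement_def]
      exact mul_mem (mul_mem (mul_mem (mem_inf.1 hd).2 (mem_inf.1 he).2) (inv_mem (mem_inf.1 hd).2))
        (inv_mem (mem_inf.1 he).2)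
    · intro r hr
      have hle : R ≤ centralizer ({⁅d, e⁆} : Set G) := by
        conv_lhs => rw [F.sup]
        refine iSup_le fun h t ht => mem_centralizer_singleton_iff.2 ?_
        obtain ⟨-, -, hdec⟩ := hdata h
        obtain ⟨a, ha, b, hb, rfl⟩ := hdec d hd
        obtain ⟨a', ha', b', hb', rfl⟩ := hdec e he
        have Fh := factors_cj F h
        have hc := habA h a ha a' ha'
        have hW : ∀ u ∈ rest (cj h T), ∀ v ∈ cj h T, Commute u v := fun u hu v hv => (Fh.commute hv hu).symm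
        set C := centralizer ({t} : Set G) with hC
        have hbC : b ∈ C := mem_centralizer_singleton_iff.2 (hW b (mem_inf.1 hb).2 t ht).eq
        have hb'C : b' ∈ C := mem_centralizer_singleton_iff.2 (hW b' (mem_inf.1 hb').2 t ht).eq
        have e2 : ⁅a * b, a' * b'⁆ = ⁅a, a'⁆ * ⁅b, b'⁆ := by
          have c1 : b * a' = a' * b := (hW b (mem_inf.1 hb).2 a' (mem_inf.1 ha').2).eq
          simp only [commutatorElement_def, mul_inv_rev]
          calc a * b * (a' * b') * (b⁻¹ * a⁻¹) * (b'⁻¹ * a'⁻¹)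
              = a * (b * a') * b' * b⁻¹ * a⁻¹ * b'⁻¹ * a'⁻¹ := by group
            _ = a * (a' * b) * b' * b⁻¹ * a⁻¹ * b'⁻¹ * a'⁻¹ := by rw [c1]
            _ = a * a' * (b * b' * b⁻¹ * a⁻¹) * b'⁻¹ * a'⁻¹ := by group
            _ = a * a' * (a⁻¹ * (b * b' * b⁻¹)) * b'⁻¹ * a'⁻¹ := by
                rw [(hW _ (mul_mem (mul_mem (mem_inf.1 hb).2 (mem_inf.1 hb').2) (inv_mem (mem_inf.1 hb).2))
                  a⁻¹ (inv_mem (mem_inf.1 ha).2)).eq]
            _ = a * a' * a⁻¹ * ((b * b' * b⁻¹ * b'⁻¹) * a'⁻¹) := by group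
            _ = a * a' * a⁻¹ * (a'⁻¹ * (b * b' * b⁻¹ * b'⁻¹)) := by
                rw [(hW _ (mul_mem (mul_mem (mul_mem (mem_inf.1 hb).2 (mem_inf.1 hb').2) (inv_mem (mem_inf.1 hb).2))
                  (inv_mem (mem_inf.1 hb').2)) a'⁻¹ (inv_mem (mem_inf.1 ha').2)).eq]
            _ = a * a' * a⁻¹ * a'⁻¹ * (b * b' * b⁻¹ * b'⁻¹) := by group
        rw [e2, commutatorElement_eq_one_iff_mul_comm.2 hc, one_mul]
        have h16 : ⁅b, b'⁆ ∈ C := by
          rw [commutatorElement_def]; exact mul_mem (mul_mem (mul_mem hbC hb'C) (inv_mem hbC)) (inv_mem hb'C)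
        exact (mem_centralizer_singleton_iff.1 h16).symm
      exact (mem_centralizer_singleton_iff.1 (hle hr)).symm
where
  pow_gcd_eq_one_aux {G : Type _} [Group G] (S : Subgroup G) (g : G) {i j : ℕ} (hi : g ^ i ∈ S)
      (hj : g ^ j ∈ S) : g ^ Nat.gcd i j ∈ S := by
    rw [← zpow_natCast, Nat.gcd_eq_gcd_ab, zpow_add, zpow_mul, zpow_mul, zpow_natCast, zpow_natCast]
    exact mul_mem (zpow_mem hi _) (zpow_mem hj _)

theorem normal_of_elements {R : Subgroup G} [R.Normal] (K : Subgroup R)
    (hK : ∀ v : R, v ∈ K ↔ ¬ p ∣ orderOf v) : (K.map R.subtype).Normal := ⟨by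
  rintro _ ⟨v, hv, rfl⟩ g
  refine ⟨⟨g * v * g⁻¹, Subgroup.Normal.conj_mem inferInstance _ v.2 g⟩, ?_, rfl⟩
  rw [SetLike.mem_coe, hK, ← Subgroup.orderOf_coe, ← (SemiconjBy.conj_mk g (v : G)).orderOf_eq,
    Subgroup.orderOf_coe, ← hK]
  exact hv⟩

/-- Let G be a finite group, p a prime and P a Sylow p-subgroup of order at least p². Assume that G has no nontrivial normal subgroup of order prime to p, that the derived subgroup P' of P contains no nontrivial normal subgroup of G, and that G is not almost simple (there is no non-abelian simple normal subgroup of G with trivial centralizer). Then [P : P'] = p² if and only if some p-element x of G has centralizer whose order has p-part exactly p². -/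
theorem result {G : Type*} [Group G] [Finite G] (p : ℕ) [Fact p.Prime] (P : Sylow p G) (hbig : p ^ 2 ∣ Nat.card G) (hcore : Cfsg.pPrimeCore p G = ⊥)
    (hcore' : (⁅(P : Subgroup G), (P : Subgroup G)⁆).normalCore = ⊥) (hnas : ¬ ∃ S : Subgroup G, S.Normal ∧ IsSimpleGroup S ∧ ¬ IsMulCommutative S ∧ Subgroup.centralizer (S : Set G) = ⊥) :
    (⁅(P : Subgroup G), (P : Subgroup G)⁆).relIndex (P : Subgroup G) = p ^ 2 ↔
      ∃ x : G, (∃ k : ℕ, orderOf x = p ^ k) ∧ (Nat.card (Subgroup.centralizer ({x} : Set G))).factorization p = 2 := by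
  have hpp : p.Prime := Fact.out
  set X := (P : Subgroup G) with hX
  have hXp : IsPGroup p X := P.isPGroup'
  obtain ⟨n, hn⟩ := IsPGroup.iff_card.1 hXp
  have hn2 : 2 ≤ n := by
    rw [← X.card_mul_index, hn] at hbig
    exact (Nat.pow_dvd_pow_iff_le_right hpp.one_lt).1
      (((hpp.coprime_iff_not_dvd.2 P.not_dvd_index).pow_left 2).dvd_of_dvd_mul_right hbig)
  set P1 := ⁅X, X⁆ with hP1
  have hP1X : P1 ≤ X := commutator_le.2 fun a ha b hb => by
    rw [commutatorElement_def]; exact mul_mem (mul_mem (mul_mem ha hb) (inv_mem ha)) (inv_mem hb)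
  have hrelcard : Nat.card P1 * P1.relIndex X = Nat.card X := by
    rw [← relIndex_bot_left, ← relIndex_bot_left]; exact relIndex_mul_relIndex _ _ _ bot_le hP1X
  have habel : n = 2 → P1 = ⊥ := fun e => by
    have hc : IsMulCommutative X := IsPGroup.isMulCommutative_of_card_eq_prime_sq (hn.trans (by rw [e]))
    exact le_bot_iff.1 (commutator_le.2 fun a ha b hb => mem_bot.2 (commutatorElement_eq_one_iff_mul_comm.2
      (congrArg (fun w : X => (w : G)) (hc.is_comm.comm ⟨a, ha⟩ ⟨b, hb⟩))))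
  constructor
  · intro hab'
    have hab : Nat.card P1 * p ^ 2 = Nat.card X := by rw [← hab']; exact hrelcard
    rcases eq_or_lt_of_le hn2 with h2 | hn3
    · refine ⟨1, ⟨0, by simp⟩, S3865.factorization_eq_two Nat.card_pos.ne' ?_ ?_⟩
      · rw [h2, ← hn]
        exact card_dvd_of_le fun g _ => mem_centralizer_singleton_iff.2 (by simp)
      · intro hd
        have h := hd.trans (card_subgroup_dvd_card _)
        rw [← X.card_mul_index, hn] at h
        have h3 := (Nat.pow_dvd_pow_iff_le_right hpp.one_lt).1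
          (((hpp.coprime_iff_not_dvd.2 P.not_dvd_index).pow_left 3).dvd_of_dvd_mul_right h)
        omega
    -- every minimal normal subgroup meets P outside P'
    have hclaim : ∀ R : Subgroup G, Core.IsMinNormal R → ¬ X ⊓ R ≤ P1 := by
      intro R hR hle
      haveI := hR.normal
      have hfr : R ⊓ X ≤ (frattini X).map X.subtype := by
        rw [inf_comm]
        refine hle.trans ?_
        haveI := hXp.isNilpotent
        rw [hP1, ← map_subtype_commutator]
        exact map_mono Core.commutator_le_frattini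
      obtain ⟨Q, K, hKn, hKc⟩ := Fusion.hasNormalPComplement_of_normal_inf_le_frattini P R hfr
      have hKnd : ¬ p ∣ Nat.card K := hKc.index_eq_card ▸ Q.not_dvd_index
      have hKmem : ∀ v : R, v ∈ K ↔ ¬ p ∣ orderOf v := fun v => by
        refine ⟨fun hv hd => hKnd (hd.trans (Subgroup.orderOf_dvd_natCard K hv)), fun hv => ?_⟩
        haveI := hKn
        obtain ⟨i, hi⟩ := IsPGroup.iff_card.1 Q.isPGroup'
        have h1 : orderOf (QuotientGroup.mk' K v) ∣ p ^ i := by
          rw [← hi, ← hKc.symm.index_eq_card, index_eq_card]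
          exact orderOf_dvd_natCard _
        have h2 : orderOf (QuotientGroup.mk' K v) = 1 := Nat.eq_one_of_dvd_coprimes
          ((hpp.coprime_iff_not_dvd.2 hv).pow_left i) h1 (orderOf_map_dvd _ v)
        exact (QuotientGroup.eq_one_iff v).1 (orderOf_eq_one_iff.1 h2)
      have hKb : K = ⊥ := by
        have hle' : K.map R.subtype ≤ Cfsg.pPrimeCore p G := le_sSup ⟨normal_of_elements K hKmem, by
          rw [card_map_of_injective R.subtype_injective]
          exact (hpp.coprime_iff_not_dvd.2 hKnd).symm⟩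
        rw [hcore, le_bot_iff] at hle'
        exact (map_eq_bot_iff_of_injective K R.subtype_injective).1 hle'
      have hQtop : (Q : Subgroup R) = ⊤ := isComplement'_bot_left.1 (hKb ▸ hKc)
      have hRp : IsPGroup p R := by
        intro v
        obtain ⟨k, hk⟩ := Q.isPGroup' ⟨v, hQtop.symm ▸ mem_top v⟩
        exact ⟨k, congrArg Subtype.val hk⟩
      obtain ⟨S, hS⟩ := hRp.exists_le_sylow
      obtain ⟨g, hg⟩ := MulAction.exists_smul_eq G S P
      have hRX : R ≤ X := fun r hr => by
        rw [hX, ← hg, Sylow.coe_subgroup_smul, mem_smul_pointwise_iff_exists]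
        exact ⟨g⁻¹ * r * g, hS (by simpa using hR.normal.conj_mem r hr g⁻¹), by
          simp [mul_assoc]⟩
      have h3 : R ≤ P1.normalCore := normal_le_normalCore.2 ((inf_eq_right.2 hRX).symm.le.trans hle)
      rw [hcore', le_bot_iff] at h3
      exact hR.ne_bot h3
    have hshape : ∀ R : Subgroup G, Core.IsMinNormal R →
        X ≤ R ∨ (P1 ≤ R ∧ Nat.card ↥(X ⊓ R) * p = Nat.card X) := by
      intro R hR
      by_cases hXR : X ≤ R
      · exact Or.inl hXR
      right
      haveI := hR.normal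
      haveI := hXp.isNilpotent
      set D := X ⊓ R with hD
      set D' := R.subgroupOf X with hD'
      have hDmap : D'.map X.subtype = D := by rw [hD', subgroupOf_map_subtype, inf_comm, hD]
      have hC : commutator X ≤ frattini X := Core.commutator_le_frattini
      have hD't : D' ≠ ⊤ := fun e => hXR (subgroupOf_eq_top.1 e)
      have hEt : D' ⊔ commutator X ≠ ⊤ := fun e =>
        hD't (frattini_nongenerating (eq_top_iff.2 (e.symm.le.trans (sup_le_sup_left hC _))))
      have hCE : commutator X ≠ D' ⊔ commutator X := fun e => hclaim R hR (by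
        rw [hP1, ← map_subtype_commutator, ← hD, ← hDmap, e]
        exact map_mono le_sup_left)
      have hCcard : Nat.card (commutator X) = Nat.card P1 := by
        rw [← card_map_of_injective X.subtype_injective, map_subtype_commutator]
      have hi : (D' ⊔ commutator X).index = p := by
        have h2 := relIndex_mul_index (le_sup_right : commutator X ≤ D' ⊔ commutator X)
        have h3 : (commutator X).index = p ^ 2 := by
          have h4 := (commutator X).card_mul_index
          rw [hCcard, ← hab] at h4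
          exact Nat.eq_of_mul_eq_mul_left Nat.card_pos h4
        rw [h3] at h2
        obtain ⟨i, hi, hi'⟩ := (Nat.dvd_prime_pow hpp).1
          (show (D' ⊔ commutator X).index ∣ p ^ 2 from h2 ▸ dvd_mul_left _ _)
        rcases (by omega : i = 0 ∨ i = 1 ∨ i = 2) with rfl | rfl | rfl
        · exact absurd (index_eq_one.1 (by rw [hi', pow_zero])) hEt
        · rw [hi', pow_one]
        · rw [hi'] at h2
          exact absurd (le_antisymm le_sup_right (relIndex_eq_one.1
            (Nat.eq_of_mul_eq_mul_right (pow_pos hpp.pos 2) (h2.trans (one_mul _).symm)))) hCE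
      obtain ⟨g, hg⟩ : ∃ g, g ∉ D' ⊔ commutator X := by
        by_contra! hall
        exact hEt ((eq_top_iff' _).2 hall)
      have hlt : (zpowers g ⊔ (D' ⊔ commutator X)) = ⊤ := by
        refine index_eq_one.1 ?_
        have hd : (zpowers g ⊔ (D' ⊔ commutator X)).index ∣ p := hi ▸ index_dvd_of_le le_sup_right
        refine ((Nat.dvd_prime hpp).1 hd).resolve_right fun e => hg ?_
        have h5 := relIndex_mul_index (le_sup_right : D' ⊔ commutator X ≤ zpowers g ⊔ (D' ⊔ commutator X))
        rw [e, hi] at h5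
        exact relIndex_eq_one.1 (Nat.eq_of_mul_eq_mul_right hpp.pos (h5.trans (one_mul p).symm))
          (mem_sup_left (mem_zpowers g))
      have hgD : zpowers g ⊔ D' = ⊤ := frattini_nongenerating (eq_top_iff.2 (by
        rw [← hlt, ← sup_assoc]; exact sup_le_sup_left hC _))
      have hCD : commutator X ≤ D' := by
        have hcyc : IsCyclic (X ⧸ D') := by
          refine ⟨⟨QuotientGroup.mk' D' g, fun q => ?_⟩⟩
          obtain ⟨v, rfl⟩ := QuotientGroup.mk'_surjective D' q
          obtain ⟨w, hw, d, hd, rfl⟩ := mem_sup_of_normal_right.1 (hgD.symm ▸ mem_top v : v ∈ zpowers g ⊔ D')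
          obtain ⟨k, rfl⟩ := mem_zpowers_iff.1 hw
          refine mem_zpowers_iff.2 ⟨k, ?_⟩
          rw [map_mul, map_zpow, show QuotientGroup.mk' D' d = 1 from (QuotientGroup.eq_one_iff d).2 hd, mul_one]
        exact Subgroup.Normal.quotient_commutative_iff_commutator_le.1 IsCyclic.isMulCommutative
      refine ⟨?_, ?_⟩
      · rw [hP1, ← map_subtype_commutator]
        exact (map_mono hCD).trans (hDmap.le.trans inf_le_right)
      · rw [← hDmap, card_map_of_injective X.subtype_injective]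
        rw [sup_eq_left.2 hCD] at hi
        rw [← hi]
        exact D'.card_mul_index
    have hnt : Nontrivial G := by
      by_contra hh
      rw [not_nontrivial_iff_subsingleton] at hh
      rw [Nat.card_eq_one_iff_unique.2 ⟨hh, ⟨1⟩⟩, Nat.dvd_one] at hbig
      exact (Nat.one_lt_pow two_ne_zero hpp.one_lt).ne' hbig
    obtain ⟨R, hR⟩ := Core.exists_isMinNormal (G := G)
    haveI := hR.normal
    have hcard3 : Nat.card P1 * p ^ 2 ≠ p ^ 2 * 1 := by
      rw [hab, hn, mul_one]
      intro e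
      have := Nat.pow_right_injective hpp.two_le e
      omega
    have hP1ne : P1 ≠ ⊥ := fun e => hcard3 (by rw [e, card_bot, one_mul, mul_one])
    have huniq : ∀ R₂ : Subgroup G, Core.IsMinNormal R₂ → R₂ = R := by
      intro R₂ hR₂
      by_contra hne
      haveI := hR₂.normal
      have hinf : R ⊓ R₂ = ⊥ := by
        rcases hR₂.le_or_inf_eq_bot R with h | h
        · rcases hR.le_or_inf_eq_bot R₂ with h' | h'
          · exact absurd (le_antisymm h h') hne
          · exact h'
        · rw [inf_comm]; exact h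
      rcases hshape R hR with h1 | ⟨-, h1⟩
      · exact hclaim R₂ hR₂ ((inf_le_inf_right R₂ h1).trans (hinf.le.trans bot_le))
      rcases hshape R₂ hR₂ with h2 | ⟨-, h2⟩
      · exact hclaim R hR (((inf_comm X R).le.trans (inf_le_inf_left R h2)).trans (hinf.le.trans bot_le))
      have hn' : X ⊓ R₂ ≤ normalizer ((X ⊓ R : Subgroup G) : Set G) := fun v hv =>
        mem_normalizer_iff.2 fun w => ⟨fun hw => mem_inf.2
          ⟨mul_mem (mul_mem (mem_inf.1 hv).1 (mem_inf.1 hw).1) (inv_mem (mem_inf.1 hv).1),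
            hR.normal.conj_mem _ (mem_inf.1 hw).2 v⟩, fun hw => mem_inf.2
          ⟨by simpa [mul_assoc] using mul_mem (mul_mem (inv_mem (mem_inf.1 hv).1) (mem_inf.1 hw).1) (mem_inf.1 hv).1,
            by simpa [mul_assoc] using hR.normal.conj_mem _ (mem_inf.1 hw).2 v⁻¹⟩⟩
      have h3 := card_sup_of_disjoint hn' (le_bot_iff.1 (hinf ▸ inf_le_inf inf_le_right inf_le_right))
      have h4 : Nat.card ↥(X ⊓ R) * Nat.card ↥(X ⊓ R₂) ≤ Nat.card X :=
        h3 ▸ card_le_of_le (sup_le inf_le_left inf_le_left)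
      obtain ⟨i, hi⟩ := IsPGroup.iff_card.1 (hXp.to_le (inf_le_left : X ⊓ R ≤ X))
      obtain ⟨j, hj⟩ := IsPGroup.iff_card.1 (hXp.to_le (inf_le_left : X ⊓ R₂ ≤ X))
      rw [hi, hn, ← pow_succ] at h1
      rw [hj, hn, ← pow_succ] at h2
      have h1' := Nat.pow_right_injective hpp.two_le h1
      have h2' := Nat.pow_right_injective hpp.two_le h2
      rw [hi, hj, hn, ← pow_add, Nat.pow_le_pow_iff_right hpp.one_lt] at h4
      omega
    have hpR : p ∣ Nat.card R := by
      by_contra hd
      have h5 : R ≤ Cfsg.pPrimeCore p G := le_sSup ⟨hR.normal, (hpp.coprime_iff_not_dvd.2 hd).symm⟩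
      rw [hcore, le_bot_iff] at h5
      exact hR.ne_bot h5
    suffices h : ¬ X ≤ R ∧ P1 ≤ R ∧ Nat.card ↥(X ⊓ R) * p = Nat.card X ∧
        ∀ a ∈ X ⊓ R, ∀ b ∈ X ⊓ R, a * b = b * a by
      obtain ⟨hXR, hP1R, hDi, hDc⟩ := h
      obtain ⟨x, hx, hxR⟩ : ∃ x ∈ X, x ∉ R := by
        by_contra! hall
        exact hXR hall
      have hA := cent_sq inf_le_left hDc (le_inf hP1X hP1R) hDi hab x hx (fun h => hxR (mem_inf.1 h).2)
      obtain ⟨y, hy, hy'⟩ := S3865.witness P hn R
        (fun g hg k hk => hP1R (commutator_mem_commutator hg hk)) ⟨x, hx⟩ hxR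
        (by rw [← S3865.card_inf_centralizer_eq X ⟨x, hx⟩]; exact hA)
      obtain ⟨i, hi⟩ := IsPGroup.iff_orderOf.1 hXp ⟨y, hy⟩
      exact ⟨y, ⟨i, by rw [← hi, Subgroup.orderOf_mk]⟩, hy'⟩
    by_cases hRab : IsMulCommutative R
    · have hc : ∀ a b : R, a * b = b * a := hRab.is_comm.comm
      let K : Subgroup R :=
        { carrier := {v | ¬ p ∣ orderOf v}
          one_mem' := by simp [hpp.ne_one]
          mul_mem' := fun {a b} ha hb hd =>
            (hpp.dvd_mul.1 (hd.trans (Commute.orderOf_mul_dvd_mul_orderOf (hc a b)))).elim ha hb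
          inv_mem' := fun {a} ha => by simpa using ha }
      have hKb : K.map R.subtype ≤ Cfsg.pPrimeCore p G := le_sSup ⟨normal_of_elements K (fun v => Iff.rfl), by
        rw [card_map_of_injective R.subtype_injective]
        refine (hpp.coprime_iff_not_dvd.2 fun hd => ?_).symm
        obtain ⟨v, hv⟩ := exists_prime_orderOf_dvd_card' (G := K) p hd
        exact v.2 (by rw [Subgroup.orderOf_coe, hv])⟩
      rw [hcore, le_bot_iff, map_eq_bot_iff_of_injective _ R.subtype_injective] at hKb
      have hRp : IsPGroup p R := IsPGroup.iff_orderOf.2 fun v => by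
        refine ⟨(orderOf v).factorization p, ?_⟩
        have h6 : v ^ (p ^ (orderOf v).factorization p) ∈ K := fun hd => by
          rw [orderOf_pow' v (pow_ne_zero _ hpp.ne_zero),
            Nat.gcd_eq_right (Nat.ordProj_dvd (orderOf v) p)] at hd
          exact Nat.not_dvd_ordCompl hpp (orderOf_pos v).ne' hd
        rw [hKb, mem_bot, ← orderOf_dvd_iff_pow_eq_one] at h6
        exact Nat.dvd_antisymm h6 (Nat.ordProj_dvd _ _)
      obtain ⟨S, hS⟩ := hRp.exists_le_sylow
      obtain ⟨g, hg⟩ := MulAction.exists_smul_eq G S P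
      have hRX : R ≤ X := fun r hr => by
        rw [hX, ← hg, Sylow.coe_subgroup_smul, mem_smul_pointwise_iff_exists]
        exact ⟨g⁻¹ * r * g, hS (by simpa using hR.normal.conj_mem r hr g⁻¹), by simp [mul_assoc]⟩
      have hDc : ∀ a ∈ X ⊓ R, ∀ b ∈ X ⊓ R, a * b = b * a := fun a ha b hb =>
        congrArg (fun w : R => (w : G)) (hc ⟨a, (mem_inf.1 ha).2⟩ ⟨b, (mem_inf.1 hb).2⟩)
      have hXR : ¬ X ≤ R := fun h => hP1ne (le_bot_iff.1 (commutator_le.2 fun a ha b hb => mem_bot.2
        (commutatorElement_eq_one_iff_mul_comm.2 (hDc a (mem_inf.2 ⟨ha, h ha⟩) b (mem_inf.2 ⟨hb, h hb⟩)))))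
      obtain ⟨h7, h8⟩ := (hshape R hR).resolve_left hXR
      exact ⟨hXR, h7, h8, hDc⟩
    · obtain ⟨T, F⟩ := PrimReduce.exists_factors hR hRab
      have hTR : T ≠ R := by
        rintro rfl
        refine hnas ⟨T, hR.normal, F.simple, hRab, ?_⟩
        by_contra hC
        haveI : (centralizer (T : Set G)).Normal := normal_centralizer (H := T)
        obtain ⟨R₂, hR₂, hR₂C⟩ : ∃ R₂, Core.IsMinNormal R₂ ∧ R₂ ≤ centralizer (T : Set G) := by
          obtain ⟨M, hM, hMm⟩ := Core.exists_isMinNormal_le hC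
          exact ⟨M, hMm, hM⟩
        rw [huniq R₂ hR₂] at hR₂C
        exact hRab ⟨⟨fun a b => Subtype.ext (mem_centralizer_iff.1 (hR₂C b.2) a a.2)⟩⟩
      have hcen : ∀ z ∈ R, (∀ r ∈ R, z * r = r * z) → z = 1 := fun z hz hzc => by
        haveI : (centralizer (R : Set G)).Normal := normal_centralizer (H := R)
        rcases hR.le_or_inf_eq_bot (centralizer (R : Set G)) with h | h
        · exact absurd ⟨⟨fun a b => Subtype.ext (mem_centralizer_iff.1 (h b.2) a a.2)⟩⟩ hRab
        · have : z ∈ R ⊓ centralizer (R : Set G) :=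
            mem_inf.2 ⟨hz, mem_centralizer_iff.2 fun r hr => (hzc r hr).symm⟩
          rwa [h, mem_bot] at this
      obtain ⟨hXR, hDc⟩ := inf_comm_of_factors P hn hn3 F hTR hpR hcen hab
        ((hshape R hR).imp id id)
      obtain ⟨h7, h8⟩ := (hshape R hR).resolve_left hXR
      exact ⟨hXR, h7, h8, hDc⟩
  · rintro ⟨x, ⟨i, hi⟩, hfac⟩
    rcases eq_or_lt_of_le hn2 with h2 | hn3
    · rw [habel h2.symm, relIndex_bot_left, hn, ← h2]
    have hd2 : p ^ 2 ∣ Nat.card (centralizer ({x} : Set G)) :=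
      (hpp.pow_dvd_iff_le_factorization Nat.card_pos.ne').2 hfac.ge
    obtain ⟨Q', hQ'⟩ := Sylow.exists_subgroup_card_pow_prime p hd2
    set Q := Q'.map (centralizer ({x} : Set G)).subtype with hQdef
    have hQc : Nat.card Q = p ^ 2 := by rw [card_map_of_injective (subtype_injective _), hQ']
    have hxQp : IsPGroup p ↥(Q ⊔ zpowers x) := by
      refine IsPGroup.to_sup_of_normal_right' (IsPGroup.of_card hQc)
        (IsPGroup.of_card (show Nat.card (zpowers x) = p ^ i by rw [Nat.card_zpowers, hi])) ?_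
      refine le_trans (fun g hg => mem_centralizer_iff.2 fun v hv => ?_) (centralizer_le_normalizer _)
      obtain ⟨k, rfl⟩ := mem_zpowers_iff.1 hv
      exact ((show Commute x g from (mem_centralizer_singleton_iff.1 (map_subtype_le _ hg)).symm).zpow_left k).eq
    obtain ⟨S, hS⟩ := hxQp.exists_le_sylow
    obtain ⟨g, hg⟩ := MulAction.exists_smul_eq G S P
    have hin : ∀ v ∈ Q ⊔ zpowers x, g * v * g⁻¹ ∈ X := fun v hv => by
      rw [hX, ← hg, Sylow.coe_subgroup_smul, mem_smul_pointwise_iff_exists]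
      exact ⟨v, hS hv, rfl⟩
    set w : X := ⟨g * x * g⁻¹, hin x (mem_sup_right (mem_zpowers x))⟩
    have hA : Nat.card (centralizer ({w} : Set X)) = p ^ 2 := by
      rw [← S3865.card_inf_centralizer_eq X w]
      refine le_antisymm ?_ ?_
      · obtain ⟨j, hj⟩ := IsPGroup.iff_card.1
          (hXp.to_le (inf_le_left : X ⊓ centralizer ({(w : G)} : Set G) ≤ X))
        rw [hj]
        refine Nat.pow_le_pow_right hpp.pos ?_
        rw [← hfac, ← hpp.pow_dvd_iff_le_factorization Nat.card_pos.ne', ← hj,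
          ← card_map_of_injective (f := (MulAut.conj g⁻¹).toMonoidHom) (MulAut.conj g⁻¹).injective]
        refine card_dvd_of_le ?_
        rintro _ ⟨v, hv, rfl⟩
        refine mem_centralizer_singleton_iff.2 ?_
        have h7 : v * (g * x * g⁻¹) = g * x * g⁻¹ * v := mem_centralizer_singleton_iff.1 (mem_inf.1 hv).2
        show g⁻¹ * v * g⁻¹⁻¹ * x = x * (g⁻¹ * v * g⁻¹⁻¹)
        calc g⁻¹ * v * g⁻¹⁻¹ * x = g⁻¹ * (v * (g * x * g⁻¹)) * g := by group
          _ = g⁻¹ * (g * x * g⁻¹ * v) * g := by rw [h7]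
          _ = _ := by group
      · rw [← hQc, ← card_map_of_injective (f := (MulAut.conj g).toMonoidHom) (MulAut.conj g).injective]
        refine card_le_of_le ?_
        rintro _ ⟨v, hv, rfl⟩
        refine mem_inf.2 ⟨hin v (mem_sup_left hv), mem_centralizer_singleton_iff.2 ?_⟩
        show g * v * g⁻¹ * (g * x * g⁻¹) = g * x * g⁻¹ * (g * v * g⁻¹)
        calc g * v * g⁻¹ * (g * x * g⁻¹) = g * (v * x) * g⁻¹ := by group
          _ = g * (x * v) * g⁻¹ := by rw [mem_centralizer_singleton_iff.1 (map_subtype_le _ hv)]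
          _ = _ := by group
    have hcl := MaxClass.class_of_selfcent_sq n X hn (centralizer ({w} : Set X)) hA
      (centralizer_le (Set.singleton_subset_iff.2 (mem_centralizer_singleton_iff.2 rfl)))
    have hM : MaxClass.TwoStep.MCl p n X := ⟨hn3, hn, hcl⟩
    have h1 := hM.cardL (i := 1) le_rfl
    have hPc : Nat.card P1 = p ^ (n - 1 - 1) := by
      rw [← h1, ← card_map_of_injective X.subtype_injective]
      congr 1
      show _ = ↥(((⁅(⊤ : Subgroup ↥X), (⊤ : Subgroup ↥X)⁆ : Subgroup ↥X)).map X.subtype)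
      rw [map_commutator, ← MonoidHom.range_eq_map, range_subtype]
    rw [hPc, hn] at hrelcard
    refine Nat.eq_of_mul_eq_mul_left (pow_pos hpp.pos (n - 1 - 1)) (hrelcard.trans ?_)
    rw [← pow_add]; congr 1; omega

end Cfsg.Agent.S4587
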