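import Cfsg.Statements.S4593
import Cfsg.Agent.Invol.Isolated
import Cfsg.Agent.Invol.ZStar
import Cfsg.Agent.Fusion.Transfer
import Cfsg.Agent.Coprime.Basic

set_option autoImplicit false
open Cfsg

namespace Cfsg.Agent.S4593

open Subgroup in
theorem mem_range_of_sq {G : Type*} [Group G] [Finite G] (hZ : Subgroup.center G = ⊥)
    (hcore : Cfsg.pPrimeCore 2 G = ⊥) (P : Sylow 2 G) (hab : IsMulCommutative (P : Subgroup G))
    (β : MulAut G) (h2 : ∃ j : ℕ, β ^ 2 ^ j = 1) (hfix : ∀ x ∈ (P : Subgroup G), β x = x)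
    (hsq : β * β ∈ (MulAut.conj : G →* MulAut G).range) :
    β ∈ (MulAut.conj : G →* MulAut G).range := by
  classical
  by_contra hnot
  set c : G →* MulAut G := MulAut.conj with hc
  have hcinj : Function.Injective c := by
    intro a b h
    have : a⁻¹ * b ∈ Subgroup.center G := by
      refine Subgroup.mem_center_iff.2 fun y => ?_
      have h' : a * y * a⁻¹ = b * y * b⁻¹ := DFunLike.congr_fun h y
      calc y * (a⁻¹ * b) = a⁻¹ * (a * y * a⁻¹) * b := by group
        _ = a⁻¹ * b * y := by rw [h']; group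
    rw [hZ, Subgroup.mem_bot, inv_mul_eq_one] at this
    exact this
  have hnorm : ∀ (φ : MulAut G) (x : G), φ * c x * φ⁻¹ = c (φ x) := by
    intro φ x
    ext y
    simp [hc, MulAut.mul_apply, MulAut.inv_def]
  set K : Subgroup (MulAut G) := c.range ⊔ zpowers β with hK
  have hcK : ∀ x : G, c x ∈ K := fun x => mem_sup_left ⟨x, rfl⟩
  set b : K := ⟨β, mem_sup_right (mem_zpowers β)⟩ with hb
  let ι : G →* K := c.codRestrict K hcK
  set I : Subgroup K := ι.range with hI
  have hιinj : Function.Injective ι := fun x y h => hcinj (congrArg Subtype.val h)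
  haveI hIn : I.Normal := by
    refine ⟨?_⟩
    rintro _ ⟨x, rfl⟩ k
    exact ⟨(k : MulAut G) x, Subtype.ext (hnorm k x).symm⟩
  have hbI : b ∉ I := fun ⟨x, hx⟩ => hnot ⟨x, congrArg Subtype.val hx⟩
  have hbbI : b * b ∈ I := by
    obtain ⟨x, hx⟩ := hsq
    exact ⟨x, Subtype.ext hx⟩
  have hidx : I.index = 2 := by
    refine Subgroup.index_eq_two_iff.2 ⟨b, fun k => ?_⟩
    have hcl : ∀ z : MulAut G, z ∈ K → z ∈ c.range ∨ z * β ∈ c.range := by
      have hzp : zpowers β ≤ normalizer (c.range : Set (MulAut G)) := by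
        haveI : c.range.Normal := ⟨by rintro _ ⟨x, rfl⟩ k; exact ⟨k x, (hnorm k x).symm⟩⟩
        exact le_normalizer_of_normal
      intro z hz
      obtain ⟨n, hn, w, hw, rfl⟩ := (Cfsg.Agent.Coprime.mem_sup_of_le_normalizer hzp).1 hz
      obtain ⟨i, rfl⟩ := mem_zpowers_iff.1 hw
      rcases Int.even_or_odd i with ⟨m, rfl⟩ | ⟨m, rfl⟩
      · refine Or.inl (c.range.mul_mem hn ?_)
        rw [← two_mul, zpow_mul, zpow_two]
        exact c.range.zpow_mem hsq m
      · refine Or.inr ?_
        rw [mul_assoc, ← zpow_add_one, show 2 * m + 1 + 1 = 2 * (m + 1) by ring, zpow_mul, zpow_two]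
        exact c.range.mul_mem hn (c.range.zpow_mem hsq _)
    have hmem : ∀ z : K, z ∈ I ↔ (z : MulAut G) ∈ c.range := fun z =>
      ⟨fun ⟨x, hx⟩ => ⟨x, congrArg Subtype.val hx⟩, fun ⟨x, hx⟩ => ⟨x, Subtype.ext hx⟩⟩
    rcases hcl k k.2 with h | h
    · refine Or.inr ⟨(hmem k).2 h, fun h' => hbI ?_⟩
      exact ((I.mul_mem_cancel_left ((hmem k).2 h)).1 h')
    · refine Or.inl ⟨(hmem (k * b)).2 h, fun h' => hbI ?_⟩
      exact ((I.mul_mem_cancel_left h').1 ((hmem (k * b)).2 h))
  have hcardK : Nat.card K = Nat.card G * 2 := by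
    rw [← I.card_mul_index, hidx, ← Nat.card_congr (MonoidHom.ofInjective hιinj).toEquiv]
  -- the Sylow subgroup
  set T : Subgroup K := (P : Subgroup G).map ι ⊔ zpowers b with hT
  have hTcomm : IsMulCommutative T := by
    have hgen : ∀ u ∈ ((P : Subgroup G).map ι : Set K) ∪ {b},
        ∀ v ∈ ((P : Subgroup G).map ι : Set K) ∪ {b}, u * v = v * u := by
      have hbc : ∀ x ∈ (P : Subgroup G), b * ι x = ι x * b := by
        intro x hx
        apply Subtype.ext
        change β * c x = c x * β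
        have h := hnorm β x
        rw [hfix x hx] at h
        exact mul_inv_eq_iff_eq_mul.1 h
      rintro u (⟨x, hx, rfl⟩ | rfl) v (⟨y, hy, rfl⟩ | rfl)
      · rw [← map_mul, ← map_mul]
        exact congrArg ι (congrArg Subtype.val (hab.is_comm.comm (⟨x, hx⟩ : (P : Subgroup G)) ⟨y, hy⟩))
      · exact (hbc x hx).symm
      · exact hbc y hy
      · rfl
    have hTeq : T = Subgroup.closure (((P : Subgroup G).map ι : Set K) ∪ {b}) := by
      rw [hT, Subgroup.closure_union, Subgroup.closure_eq, zpowers_eq_closure]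
    rw [hTeq]
    exact Subgroup.isMulCommutative_closure hgen
  have hbord : ∃ i, b ^ 2 ^ i = 1 := by
    obtain ⟨i, hi⟩ := h2
    exact ⟨i, Subtype.ext hi⟩
  have hbp : IsPGroup 2 (zpowers b) := by
    obtain ⟨i, hi⟩ := hbord
    obtain ⟨k, -, hk⟩ := (Nat.dvd_prime_pow Nat.prime_two).1 (orderOf_dvd_of_pow_eq_one hi)
    exact IsPGroup.of_card (by rw [Nat.card_zpowers, hk])
  have hTp : IsPGroup 2 T := (P.2.map ι).to_sup_of_normal_right' hbp (by
    intro z hz
    have hcom : ∀ y ∈ T, z * y * z⁻¹ = y := fun y hy => by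
      have := congrArg Subtype.val (hTcomm.is_comm.comm (⟨z, mem_sup_left hz⟩ : T) ⟨y, hy⟩)
      change z * y = y * z at this
      rw [this, mul_inv_cancel_right]
    refine mem_normalizer_iff.2 fun y => ⟨fun hy => by rw [hcom y (mem_sup_right hy)]; exact hy,
      fun hy => ?_⟩
    have h2 := hcom _ (mem_sup_right hy)
    have h1 : z * y * z⁻¹ = y := mul_left_cancel (a := z) (mul_right_cancel (b := z⁻¹) h2)
    rwa [h1] at hy)
  obtain ⟨R, hTR⟩ := hTp.exists_le_sylow
  have hRT : (R : Subgroup K) = T := by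
    refine (eq_of_le_of_card_ge hTR ?_).symm
    have hlt : (P : Subgroup G).map ι < T := by
      refine lt_of_le_of_ne le_sup_left fun h => hbI ?_
      obtain ⟨x, -, hx⟩ : b ∈ (P : Subgroup G).map ι := h ▸ mem_sup_right (mem_zpowers b)
      exact ⟨x, hx⟩
    have h1 : Nat.card ((P : Subgroup G).map ι) < Nat.card T :=
      Set.Finite.card_lt_card (Set.toFinite _) hlt
    rw [card_map_of_injective hιinj, P.card_eq_multiplicity] at h1
    obtain ⟨e, he⟩ := IsPGroup.iff_card.1 hTp
    rw [R.card_eq_multiplicity, hcardK, Nat.factorization_mul Nat.card_pos.ne' two_ne_zero,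
      Finsupp.add_apply, Nat.prime_two.factorization_self, he]
    rw [he] at h1
    exact Nat.pow_le_pow_right (by norm_num) ((Nat.pow_lt_pow_iff_right (by norm_num)).1 h1)
  have hRab : IsMulCommutative (R : Subgroup K) := hRT ▸ hTcomm
  set N := normalizer ((R : Subgroup K) : Set K) with hN
  -- the odd core of `K` is trivial
  have hOK : Cfsg.oddCore K = ⊥ := by
    set O := Cfsg.oddCore K
    have hodd : ¬ 2 ∣ Nat.card O := Cfsg.Agent.Core.not_dvd_card_pPrimeCore (p := 2) (G := K)
    have hOI : O ≤ I := by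
      intro x hx
      have hsqI := Subgroup.sq_mem_of_index_two hidx x
      have ho : Odd (orderOf x) := by
        rw [Nat.odd_iff, ← Nat.two_dvd_ne_zero]
        exact fun h => hodd (h.trans (by
          exact (orderOf_coe (⟨x, hx⟩ : O)) ▸ orderOf_dvd_natCard (⟨x, hx⟩ : O)))
      obtain ⟨m, hm⟩ := ho
      have : x = (x ^ 2) ^ (m + 1) := by
        rw [← pow_mul, show 2 * (m + 1) = orderOf x + 1 by omega, pow_succ, pow_orderOf_eq_one,
          one_mul]
      rw [this]
      exact I.pow_mem hsqI _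
    have hOn : (O.comap ι).Normal := Subgroup.Normal.comap inferInstance ι
    have hle : O.comap ι ≤ Cfsg.pPrimeCore 2 G := by
      refine Cfsg.Agent.Core.le_pPrimeCore ((Nat.prime_two.coprime_iff_not_dvd.2 ?_).symm)
      intro h
      refine hodd (h.trans ?_)
      rw [← card_map_of_injective (K := O.comap ι) hιinj]
      exact card_dvd_of_le (map_comap_le _ _)
    rw [hcore, le_bot_iff] at hle
    refine (eq_bot_iff_forall _).2 fun x hx => ?_
    obtain ⟨y, rfl⟩ := hOI hx
    have : y ∈ O.comap ι := hx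
    rw [hle, mem_bot] at this
    rw [this, map_one]
  -- an involution of `R` fixed by `N` is central
  have hcent : ∀ w ∈ (R : Subgroup K), orderOf w = 2 → (∀ n ∈ N, n * w * n⁻¹ = w) →
      ∀ k : K, k * w = w * k := by
    intro w hw ho hNw k
    have hiso : Cfsg.IsIsolatedInvolution w :=
      Cfsg.Agent.Invol.isolated_of_sylow R ho fun g hg => by
        obtain ⟨n, hn, hne⟩ :=
          Cfsg.Agent.Fusion.exists_mem_normalizer_conj_of_isMulCommutative R hRab hw g hg
        exact hne.symm.trans (hNw n hn)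
    have h := Cfsg.Agent.Invol.zstar hiso k
    rw [hOK, mem_bot, mul_inv_eq_one, mul_inv_eq_iff_eq_mul] at h
    exact h.symm
  -- the norm of `b`
  haveI : ((R : Subgroup K).subgroupOf N).Normal := normal_in_normalizer
  letI : CommGroup (R : Subgroup K) :=
    { (inferInstance : Group (R : Subgroup K)) with mul_comm := hRab.is_comm.comm }
  have hbR : b ∈ (R : Subgroup K) := by rw [hRT]; exact mem_sup_right (mem_zpowers b)
  let φ : N → (R : Subgroup K) := fun n =>
    ⟨(n : K) * b * (n : K)⁻¹, (mem_normalizer_iff.1 n.2 b).1 hbR⟩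
  have hφ : ∀ n : N, ∀ r ∈ (R : Subgroup K).subgroupOf N, φ (n * r) = φ n := by
    intro n r hr
    apply Subtype.ext
    have hcomm := congrArg Subtype.val (hRab.is_comm.comm
      (⟨(r : K), hr⟩ : (R : Subgroup K)) ⟨b, hbR⟩)
    change (r : K) * b = b * r at hcomm
    change (n : K) * r * b * ((n : K) * r)⁻¹ = n * b * (n : K)⁻¹
    rw [mul_assoc (n : K) r b, hcomm]
    group
  let Q := N ⧸ (R : Subgroup K).subgroupOf N
  haveI : Fintype Q := Fintype.ofFinite Q
  let ψ : Q → (R : Subgroup K) := fun q => φ q.out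
  have hψ : ∀ n : N, ψ (n : Q) = φ n := by
    intro n
    obtain ⟨r, hr⟩ := QuotientGroup.mk_out_eq_mul ((R : Subgroup K).subgroupOf N) n
    change φ _ = _
    rw [hr]
    exact hφ n r r.2
  set a : (R : Subgroup K) := ∏ q : Q, ψ q with ha
  have haN : ∀ n ∈ N, n * (a : K) * n⁻¹ = a := by
    intro n hn
    let conjn : (R : Subgroup K) →* (R : Subgroup K) :=
      ((MulAut.conj n).toMonoidHom.comp (R : Subgroup K).subtype).codRestrict _
        fun r => (mem_normalizer_iff.1 hn r).1 r.2
    have h1 : conjn a = a := by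
      rw [ha, map_prod]
      refine Fintype.prod_equiv (Equiv.mulLeft (((⟨n, hn⟩ : N)) : Q)) _ _ fun q => ?_
      obtain ⟨m, rfl⟩ := QuotientGroup.mk_surjective q
      rw [hψ, Equiv.coe_mulLeft]
      change _ = ψ ((⟨n, hn⟩ * m : N) : Q)
      rw [hψ]
      apply Subtype.ext
      change n * ((m : K) * b * (m : K)⁻¹) * n⁻¹ = n * (m : K) * b * (n * (m : K))⁻¹
      group
    exact congrArg Subtype.val h1
  have hqodd : ¬ 2 ∣ Fintype.card Q := by
    rw [← Nat.card_eq_fintype_card, ← index_eq_card]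
    intro h
    have h3 : (R : Subgroup K).relIndex N ∣ (R : Subgroup K).index :=
      relIndex_dvd_index_of_le le_normalizer
    exact R.not_dvd_index (h.trans h3)
  have haI : (a : K) ∉ I := by
    intro h
    let ε : (R : Subgroup K) →* K ⧸ I := (QuotientGroup.mk' I).comp (R : Subgroup K).subtype
    letI : CommGroup (K ⧸ I) :=
      haveI : Fact (Nat.Prime 2) := ⟨Nat.prime_two⟩
      haveI hcyc : IsCyclic (K ⧸ I) := isCyclic_of_prime_card (p := 2) (by rw [← index_eq_card, hidx])
      hcyc.commGroup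
    have h1 : ε a = ((b : K ⧸ I)) ^ Fintype.card Q := by
      rw [ha, map_prod, ← Finset.card_univ, ← Finset.prod_const]
      refine Finset.prod_congr rfl fun q _ => ?_
      obtain ⟨m, rfl⟩ := QuotientGroup.mk_surjective q
      rw [hψ]
      change (((m : K) * b * (m : K)⁻¹ : K) : K ⧸ I) = (b : K ⧸ I)
      rw [QuotientGroup.eq]
      have h2 : (m : K) * b⁻¹ * (m : K)⁻¹ * b ∈ I := by
        rw [← QuotientGroup.eq_one_iff]
        simp [mul_comm]
      simpa [mul_assoc] using h2
    have h2 : ε a = 1 := (QuotientGroup.eq_one_iff _).2 h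
    obtain ⟨m, hm⟩ : Odd (Fintype.card Q) := Nat.odd_iff.2 (Nat.two_dvd_ne_zero.1 hqodd)
    rw [h1, hm, pow_succ, pow_mul, pow_two, ← QuotientGroup.mk_mul,
      (QuotientGroup.eq_one_iff (b * b)).2 hbbI, one_pow, one_mul, QuotientGroup.eq_one_iff] at h2
    exact hbI h2
  have ha2 : orderOf (a : K) = 2 := by
    obtain ⟨i, hi⟩ := IsPGroup.iff_orderOf.1 R.2 a
    rw [← orderOf_coe] at hi
    rcases i with _ | _ | i
    · exact absurd (orderOf_eq_one_iff.1 hi ▸ one_mem I) haI
    · simpa using hi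
    exfalso
    set w := (a : K) ^ 2 ^ (i + 1) with hw
    have hwo : orderOf w = 2 := by
      rw [hw, orderOf_pow_of_dvd (by positivity) (hi ▸ pow_dvd_pow 2 (Nat.le_succ _)), hi,
        Nat.pow_div (Nat.le_succ _) (by norm_num)]
      simp
    have hwI : w ∈ I := by
      rw [hw, pow_succ', pow_mul]
      exact I.pow_mem (Subgroup.sq_mem_of_index_two hidx _) _
    have hwc := hcent w ((R : Subgroup K).pow_mem a.2 _) hwo fun n hn => by
      rw [hw, ← conj_pow, haN n hn]
    obtain ⟨x, hx⟩ := hwI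
    have hxz : x ∈ Subgroup.center G := Subgroup.mem_center_iff.2 fun y => hιinj (by
      rw [map_mul, map_mul, hx]; exact hwc (ι y))
    rw [hZ, mem_bot] at hxz
    rw [hxz, map_one] at hx
    rw [← hx, orderOf_one] at hwo
    omega
  have hac := hcent a a.2 ha2 haN
  have h1 : ∀ y : G, ((a : K) : MulAut G) y = y := by
    intro y
    apply hcinj
    rw [← hnorm]
    have h := congrArg Subtype.val (hac (ι y))
    change c y * ((a : K) : MulAut G) = ((a : K) : MulAut G) * c y at h
    rw [← h, mul_inv_cancel_right]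
  have : (a : K) = 1 := Subtype.ext (MulEquiv.ext h1)
  rw [this, orderOf_one] at ha2
  omega


/-- Let G be a finite group with trivial centre and no nontrivial normal subgroup of odd order, whose Sylow 2-subgroups are abelian, and let P be a Sylow 2-subgroup. Every automorphism of G of 2-power order that fixes P elementwise is inner. -/
theorem result {G : Type*} [Group G] [Finite G] (hZ : Subgroup.center G = ⊥) (hcore : Cfsg.pPrimeCore 2 G = ⊥) (P : Sylow 2 G) (hab : IsMulCommutative (P : Subgroup G))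
    (α : MulAut G) (h2 : ∃ j : ℕ, orderOf α = 2 ^ j) (hfix : ∀ x ∈ (P : Subgroup G), α x = x) :
    ∃ g : G, ∀ x : G, α x = g * x * g⁻¹ := by
  have key : ∀ β : MulAut G, (∃ j : ℕ, β ^ 2 ^ j = 1) → (∀ x ∈ (P : Subgroup G), β x = x) →
      β * β ∈ (MulAut.conj : G →* MulAut G).range → β ∈ (MulAut.conj : G →* MulAut G).range :=
    fun β h1 h2 h3 => mem_range_of_sq hZ hcore P hab β h1 h2 h3
  obtain ⟨j, hj⟩ := h2
  have main : ∀ i : ℕ, ∀ β : MulAut G, β ^ 2 ^ i = 1 → (∀ x ∈ (P : Subgroup G), β x = x) →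
      β ∈ (MulAut.conj : G →* MulAut G).range := by
    intro i
    induction i with
    | zero => intro β h1 _; rw [pow_zero, pow_one] at h1; exact h1 ▸ one_mem _
    | succ i ih =>
      intro β h1 h2
      refine key β ⟨i + 1, h1⟩ h2 (ih _ ?_ fun x hx => by rw [MulAut.mul_apply, h2 x hx, h2 x hx])
      rw [← pow_two, ← pow_mul, ← pow_succ']
      exact h1
  obtain ⟨g, hg⟩ := main j α (hj ▸ pow_orderOf_eq_one α) hfix
  exact ⟨g, fun x => by rw [← hg, MulAut.conj_apply]⟩

end Cfsg.Agent.S4593
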