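import Cfsg.Statements.S4602
import Cfsg.Agent.Layer.PConstraint
import Cfsg.Agent.Coprime.Basic
-- import your own Cfsg.Agent.* helpers here

set_option autoImplicit false
open Cfsg

namespace Cfsg.Agent.S4602

/-- Let G be a finite p-solvable group and q a prime different from p. Some Sylow p-subgroup of G normalizes some Sylow q-subgroup of G if and only if q does not divide the order of G/O_{p'}(G), the quotient by the largest normal subgroup of order prime to p. -/
theorem result {G : Type*} [Group G] [Finite G] (p q : ℕ) [Fact p.Prime] [Fact q.Prime] (hpq : p ≠ q) (hsolv : Cfsg.IsPSolvable p G) :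
    (∃ (P : Sylow p G) (Q : Sylow q G), (P : Subgroup G) ≤ Subgroup.normalizer ((Q : Subgroup G) : Set G)) ↔ ¬ q ∣ (Cfsg.pPrimeCore p G).index := by
  set N := Cfsg.pPrimeCore p G with hN
  constructor
  · rintro ⟨P, Q, hPQ⟩ hq
    set f := QuotientGroup.mk' N
    have hfs : Function.Surjective f := QuotientGroup.mk'_surjective N
    have hO : Cfsg.pPrimeCore p (G ⧸ N) = ⊥ := Core.pPrimeCore_quotient_eq_bot
    have hself := Layer.pCoreSelfCentral_of_isPSolvable (Layer.isPSolvable_of_surjective hsolv hfs) hO
    set P' := P.mapSurjective hfs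
    set Q' := Q.mapSurjective hfs
    set R := Cfsg.pCore p (G ⧸ N)
    have hRP : R ≤ (P' : Subgroup (G ⧸ N)) := Core.pCore_le_sylow P'
    have hn : (P' : Subgroup (G ⧸ N)) ≤ Subgroup.normalizer ((Q' : Subgroup (G ⧸ N)) : Set (G ⧸ N)) := by
      rw [Sylow.coe_mapSurjective, Sylow.coe_mapSurjective]
      exact (Subgroup.map_mono hPQ).trans (Subgroup.le_normalizer_map f)
    have hd : R ⊓ (Q' : Subgroup (G ⧸ N)) = ⊥ :=
      disjoint_iff.mp (IsPGroup.disjoint_of_ne p q hpq R _ Core.pCore_isPGroup Q'.isPGroup')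
    have hQC : (Q' : Subgroup (G ⧸ N)) ≤ R := by
      refine le_trans ?_ hself
      intro x hx
      refine Coprime.mem_centralizer_of_mem_normalizer (hRP.trans hn) ?_ hx ?_
      · rw [inf_comm]; exact hd
      · exact (Subgroup.le_normalizer_of_normal (H := R)) (x := x) (Subgroup.mem_top x)
    have hQb : (Q' : Subgroup (G ⧸ N)) = ⊥ := by
      rw [← hd, inf_eq_right.mpr hQC]
    have := Q'.not_dvd_index
    rw [hQb, Subgroup.index_bot, ← Subgroup.index_eq_card] at this
    exact this hq
  · intro hq
    obtain ⟨P⟩ : Nonempty (Sylow p G) := inferInstance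
    have hcop : (Nat.card (P : Subgroup G)).Coprime (Nat.card N) :=
      Layer.coprime_card_of_isPGroup P.isPGroup' Core.coprime_card_pPrimeCore
    obtain ⟨Q, hQ⟩ := Coprime.exists_invariant_sylow (A := (P : Subgroup G)) (K := N)
      Subgroup.le_normalizer_of_normal hcop (Or.inl (Layer.isSolvable_of_isPGroup P.isPGroup')) q
    have hni : ¬ q ∣ ((Q : Subgroup N).map N.subtype).index := by
      rw [Subgroup.index_map_subtype]
      exact (Fact.out : q.Prime).not_dvd_mul Q.not_dvd_index hq
    exact ⟨P, (Q.isPGroup'.map N.subtype).toSylow hni, hQ⟩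

end Cfsg.Agent.S4602
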