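import Cfsg.Statements.S4607
import Cfsg.Agent.BlockChar.CardTwo
-- import your own Cfsg.Agent.* helpers here

set_option autoImplicit false
open Cfsg

namespace Cfsg.Agent.S4607

/-- Let G be a finite group, p a prime, M a maximal ideal of the algebraic integers containing p, and B a p-block of G with defect group D. Then B contains exactly two irreducible characters if and only if D has order 2. -/
theorem result {G : Type*} [Group G] [Finite G] (p : ℕ) [Fact p.Prime] (M : Ideal Cfsg.AlgInt) (hM : Cfsg.IsPModular p M) (B : Set (Cfsg.IrrCharacter G)) (hB : Cfsg.IsPBlock M B) (D : Subgroup G) (hD : Cfsg.IsDefectGroup p M B D) : Nat.card B = 2 ↔ Nat.card D = 2 := by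
  have := Fact.mk (show p.Prime from hM.1)
  have hcard := Agent.BlockChar.card_defectGroup hM hB hD
  constructor
  · intro hk
    rcases Nat.eq_zero_or_pos (Cfsg.blockDefect p B) with hd | hd
    · exfalso
      classical
      have := Fintype.ofFinite G
      obtain ⟨χ, hχ, hv⟩ := Agent.BlockChar.exists_height_zero (p := p)
        (Agent.Blocks.IsPBlock.nonempty hM hB)
      rw [Agent.BlockChar.blockDefect_eq] at hd
      have hle := Agent.BlockChar.degree_val_le (p := p) χ
      have hndvd : ¬ p ∣ Nat.card G / Cfsg.charDegree (χ : G → ℂ) := by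
        intro hdvd
        have hdvd' := Agent.CharArith.charDegree_dvd_card χ.2
        have h1 : ((Nat.card G / Cfsg.charDegree (χ : G → ℂ))).factorization p = 0 := by
          rw [Nat.factorization_div hdvd', Finsupp.tsub_apply]
          omega
        have h2 : Nat.card G / Cfsg.charDegree (χ : G → ℂ) ≠ 0 := fun h0 => by
          have := Nat.div_mul_cancel hdvd'
          rw [h0, zero_mul] at this
          exact Nat.card_pos.ne' this.symm
        have := hM.1.factorization_pos_of_dvd h2 hdvd
        omega
      rw [Agent.Blocks.IsPBlock.eq_blockOf hM hB hχ,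
        Agent.BlockThms.blockOf_eq_singleton hM χ hndvd, Nat.card_coe_set_eq,
        Set.ncard_singleton] at hk
      omega
    · obtain ⟨rfl, h1⟩ := Agent.BlockChar.eq_two_of_card_eq_two hM hB hk hd
      rw [hcard, h1, pow_one]
  · intro h
    rw [hcard] at h
    have hd : Cfsg.blockDefect p B ≠ 0 := fun h0 => by rw [h0, pow_zero] at h; omega
    have hp2 : p = 2 := (Nat.prime_dvd_prime_iff_eq hM.1 Nat.prime_two).1 (h ▸ dvd_pow_self p hd)
    subst hp2
    have h1 : Cfsg.blockDefect 2 B = 1 :=
      Nat.pow_right_injective le_rfl (h.trans (pow_one 2).symm)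
    exact (Agent.BlockChar.card_eq_two_of_defect_one_two hM hB h1).1

end Cfsg.Agent.S4607
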