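import Cfsg.Statements.S4608
import Cfsg.Agent.BlockChar.CentreFive.AbelianEight
import Cfsg.Agent.BlockChar.CentreFive.Numeric

set_option autoImplicit false
open Cfsg

namespace Cfsg.Agent.S4608

/-- Let G be a finite group, p a prime, M a maximal ideal of the algebraic integers containing p, and B a p-block of G with defect group D. If B has p-regular rank one and exactly five irreducible characters, then D is cyclic of order 5, or D has order 8 and is non-abelian (dihedral or quaternion). -/
theorem result {G : Type*} [Group G] [Finite G] (p : ℕ) [Fact p.Prime] (M : Ideal Cfsg.AlgInt) (hM : Cfsg.IsPModular p M) (B : Set (Cfsg.IrrCharacter G)) (hB : Cfsg.IsPBlock M B) (D : Subgroup G) (hD : Cfsg.IsDefectGroup p M B D)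
    (hl : Cfsg.blockRank p B = 1) (hk : Nat.card B = 5) :
    (Nat.card D = 5) ∨ (Nat.card D = 8 ∧ ¬ IsMulCommutative D) := by
  have hcard := BlockChar.card_defectGroup hM hB hD
  rcases BlockChar.CentreFive.pow_defect_five hM hB hl hk with h5 | h8
  · exact Or.inl (hcard.trans h5)
  refine Or.inr ⟨hcard.trans h8, fun hab => ?_⟩
  have hp : p = 2 := by
    have hd : Cfsg.blockDefect p B ≠ 0 := fun h0 => by rw [h0, pow_zero] at h8; omega
    have h2 : p ∣ 2 ^ 3 := by
      rw [show (2 : ℕ) ^ 3 = 8 by norm_num, ← h8]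
      exact dvd_pow_self p hd
    exact (Nat.prime_dvd_prime_iff_eq hM.1 Nat.prime_two).1 (hM.1.dvd_of_dvd_pow h2)
  subst hp
  exact BlockChar.CentreFive.false_of_abelian_eight hM hB hD
    (fun x hx y hy => congrArg Subtype.val (hab.is_comm.comm (⟨x, hx⟩ : D) ⟨y, hy⟩))
    (hcard.trans h8) hl hk

end Cfsg.Agent.S4608
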