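import Cfsg.Statements.S4609
import Cfsg.Agent.ThreeCharBlock.Reduction
import Cfsg.Agent.S4607

set_option autoImplicit false
open Cfsg

namespace Cfsg.Agent.S4609

/-- Let G be a finite group, p a prime, M a maximal ideal of the algebraic integers containing p, and B a p-block of G with defect group D containing exactly three irreducible characters. Suppose the number of height-zero characters of B equals the number of height-zero characters of its Brauer correspondent b, the block of N_G(D) with defect group D inducing B (as the Alperin–McKay conjecture predicts). Then D has order 3. -/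
theorem result {G : Type*} [Group G] [Finite G] (p : ℕ) [Fact p.Prime] (M : Ideal Cfsg.AlgInt) (hM : Cfsg.IsPModular p M) (B : Set (Cfsg.IrrCharacter G)) (hB : Cfsg.IsPBlock M B) (D : Subgroup G) (hD : Cfsg.IsDefectGroup p M B D) (hk : Nat.card B = 3)
    (b : Set (Cfsg.IrrCharacter (Subgroup.normalizer (D : Set G)))) (hbB : Cfsg.IsInducedBlock M (Subgroup.normalizer (D : Set G)) b B)
    (hbD : Cfsg.IsDefectGroup p M b (D.subgroupOf (Subgroup.normalizer (D : Set G))))
    (hAM : Nat.card {χ : Cfsg.IrrCharacter G // χ ∈ B ∧ Cfsg.blockHeight p B (χ : G → ℂ) = 0} =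
           Nat.card {ψ : Cfsg.IrrCharacter (Subgroup.normalizer (D : Set G)) // ψ ∈ b ∧ Cfsg.blockHeight p b (ψ : Subgroup.normalizer (D : Set G) → ℂ) = 0}) :
    Nat.card D = 3 := by
  classical
  have := Fintype.ofFinite G
  have := Fintype.ofFinite (Subgroup.normalizer (D : Set G))
  have hcardD := Agent.BlockChar.card_defectGroup hM hB hD
  have hsub : Nat.card {χ : Cfsg.IrrCharacter G // χ ∈ B ∧ Cfsg.blockHeight p B (χ : G → ℂ) = 0} ≤
      Nat.card B :=
    Nat.card_le_card_of_injective (fun χ => (⟨χ.1, χ.2.1⟩ : B))
      fun χ χ' h => Subtype.ext (congrArg (fun z : B => z.1) h)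
  have h3 := ThreeCharBlock.card_le_three_of_height_zero hM hbB.1 hbD
    (hAM ▸ hsub.trans hk.le)
  rw [Nat.card_congr (Subgroup.subgroupOfEquivOfLe
    (Subgroup.le_normalizer (H := D))).toEquiv] at h3
  have h2 : Nat.card D ≠ 2 := fun h => by
    have := (S4607.result p M hM B hB D hD).2 h
    omega
  have h1 : Nat.card D ≠ 1 := fun h => by
    rw [hcardD] at h
    have hd : Cfsg.blockDefect p B = 0 := by
      by_contra h0
      exact (Fact.out : p.Prime).ne_one ((pow_eq_one_iff.1 h).resolve_right h0)
    obtain ⟨χ, hχ, hv⟩ := Agent.BlockChar.exists_height_zero (p := p)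
      (Agent.Blocks.IsPBlock.nonempty hM hB)
    rw [Agent.BlockChar.blockDefect_eq] at hd
    rw [Agent.Blocks.IsPBlock.eq_blockOf hM hB hχ,
      Agent.Blocks.NormalDefect.blockOf_eq_singleton_of_val hM χ (by omega), Nat.card_coe_set_eq,
      Set.ncard_singleton] at hk
    omega
  have hpos : 0 < Nat.card D := Nat.card_pos
  omega

end Cfsg.Agent.S4609
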