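import Cfsg.Statements.S4610
import Cfsg.Agent.BlockDisjoint.Main

set_option autoImplicit false
open Cfsg

namespace Cfsg.Agent.S4610

open Cfsg.Agent

variable {G : Type*} [Group G] [Finite G]

/-- If the index of the centraliser of `x` is a power of `p` then a Sylow `p`-subgroup containing
`x` is transitive on the conjugates of `x`. -/
theorem exists_sylow_transitive (p : ℕ) [Fact p.Prime] (x : G) (hx : ∃ k, orderOf x = p ^ k)
    (hidx : ∃ k, (Subgroup.centralizer ({x} : Set G)).index = p ^ k) :
    ∃ P : Sylow p G, x ∈ P ∧ ∀ g : G, ∃ c ∈ P, g * x * g⁻¹ = c * x * c⁻¹ := by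
  set H := Subgroup.centralizer ({x} : Set G) with hH
  have hxH : x ∈ H := Subgroup.mem_centralizer_singleton_iff.2 rfl
  obtain ⟨R⟩ : Nonempty (Sylow p H) := inferInstance
  have hxR : (⟨x, hxH⟩ : H) ∈ (R : Subgroup H) := by
    have hz : IsPGroup p (Subgroup.zpowers (⟨x, hxH⟩ : H)) := by
      obtain ⟨k, hk⟩ := hx
      exact IsPGroup.of_card (n := k) (by rw [Nat.card_zpowers, ← Subgroup.orderOf_coe]; exact hk)
    have hn : (Subgroup.zpowers (⟨x, hxH⟩ : H)).Normal := ⟨fun n hn g => by
      obtain ⟨i, rfl⟩ := Subgroup.mem_zpowers_iff.1 hn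
      have : g * (⟨x, hxH⟩ : H) * g⁻¹ = ⟨x, hxH⟩ :=
        Subtype.ext (mul_inv_eq_iff_eq_mul.2 (Subgroup.mem_centralizer_singleton_iff.1 g.2))
      rw [← conj_zpow, this]
      exact Subgroup.zpow_mem_zpowers _ _⟩
    exact hz.le_sylow_of_normal R (Subgroup.mem_zpowers _)
  obtain ⟨P, hRP⟩ := (R.isPGroup'.map H.subtype).exists_le_sylow
  refine ⟨P, hRP ⟨_, hxR, rfl⟩, ?_⟩
  let f : (P : Subgroup G) ⧸ H.subgroupOf (P : Subgroup G) → G ⧸ H :=
    Quotient.map' (fun c => (c : G)) (fun a b h => by
      rw [QuotientGroup.leftRel_apply] at h ⊢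
      exact h)
  have hinj : Function.Injective f := by
    intro a b hab
    induction a using Quotient.inductionOn' with
    | _ a =>
      induction b using Quotient.inductionOn' with
      | _ b =>
        exact Quotient.sound' (by
          rw [QuotientGroup.leftRel_apply]
          exact Subgroup.mem_subgroupOf.2 (QuotientGroup.eq.1
            (show (((a : G) : G ⧸ H)) = ((b : G) : G ⧸ H) from hab)))
  have hcard : Nat.card ((P : Subgroup G) ⧸ H.subgroupOf (P : Subgroup G)) = Nat.card (G ⧸ H) := by
    obtain ⟨k, hk⟩ := hidx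
    have hp : p.Prime := Fact.out
    have h1 := Subgroup.card_eq_card_quotient_mul_card_subgroup (H.subgroupOf (P : Subgroup G))
    have h2 : Nat.card (H.subgroupOf (P : Subgroup G)) = p ^ (Nat.card H).factorization p := by
      rw [← R.card_eq_multiplicity]
      refine le_antisymm ?_ ?_
      · let e : ↥(H.subgroupOf (P : Subgroup G)) →* H :=
          { toFun := fun a => ⟨((a : (P : Subgroup G)) : G), a.2⟩
            map_one' := rfl
            map_mul' := fun _ _ => rfl }
        have he : Function.Injective e := fun a b h =>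
          Subtype.ext (Subtype.ext (congrArg (fun z : H => (z : G)) h))
        obtain ⟨R', hR'⟩ := (IsPGroup.of_surjective ((P.isPGroup'.to_subgroup
          (H.subgroupOf (P : Subgroup G)))) e.rangeRestrict
          e.rangeRestrict_surjective).exists_le_sylow
        calc Nat.card ↥(H.subgroupOf (P : Subgroup G)) = Nat.card e.range :=
              Nat.card_congr (MonoidHom.ofInjective he).toEquiv
          _ ≤ Nat.card R' := Subgroup.card_le_of_le hR'
          _ = Nat.card R := by rw [R'.card_eq_multiplicity, R.card_eq_multiplicity]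
      · exact Nat.card_le_card_of_injective
          (fun a : R => (⟨⟨((a : H) : G), hRP ⟨_, a.2, rfl⟩⟩, (a : H).2⟩ :
            H.subgroupOf (P : Subgroup G)))
          (fun a b h => Subtype.ext (Subtype.ext (congrArg (fun z : H.subgroupOf (P : Subgroup G) =>
            ((z : (P : Subgroup G)) : G)) h)))
    rw [← Subgroup.index_eq_card H, hk]
    have h3 : (Nat.card G).factorization p = (Nat.card H).factorization p + k := by
      rw [← Subgroup.card_mul_index H, hk, Nat.factorization_mul Nat.card_pos.ne'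
        (pow_ne_zero _ hp.ne_zero), Finsupp.add_apply, hp.factorization_pow, Finsupp.single_eq_same]
    rw [P.card_eq_multiplicity, h2, h3, pow_add, mul_comm] at h1
    exact Nat.eq_of_mul_eq_mul_right (pow_pos hp.pos _) h1.symm
  have hsurj := hinj.surjective_of_finite (Finite.equivFinOfCardEq hcard |>.trans
    (Finite.equivFin _).symm)
  intro g
  obtain ⟨a, ha⟩ := hsurj (QuotientGroup.mk g)
  induction a using Quotient.inductionOn' with
  | _ c =>
    refine ⟨c, c.2, ?_⟩
    have hm : (c : G)⁻¹ * g ∈ H := QuotientGroup.eq.1 ha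
    have hm' := Subgroup.mem_centralizer_singleton_iff.1 hm
    calc g * x * g⁻¹ = (c : G) * (((c : G)⁻¹ * g) * x) * g⁻¹ := by group
      _ = (c : G) * (x * ((c : G)⁻¹ * g)) * g⁻¹ := by rw [hm']
      _ = (c : G) * x * (c : G)⁻¹ := by group

theorem forward (p : ℕ) [Fact p.Prime] (P : Sylow p G)
    (hidx : ∀ x : G, (∃ k, orderOf x = p ^ k) →
      ∀ q : ℕ, q.Prime → q ≠ p → ¬ q ∣ (Subgroup.centralizer ({x} : Set G)).index) :
    (P : Subgroup G).Normal ∧ (P : Subgroup G) ⊔ Cfsg.pPrimeCore p G = ⊤ := by
  have hp : p.Prime := Fact.out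
  have hpow : ∀ x : G, (∃ k, orderOf x = p ^ k) →
      ∃ k, (Subgroup.centralizer ({x} : Set G)).index = p ^ k := fun x hx =>
    ⟨_, Nat.eq_prime_pow_of_unique_prime_dvd Subgroup.index_ne_zero_of_finite fun {d} hd hdi => by
      by_contra hne
      exact hidx x hx d hd hne hdi⟩
  have hord : ∀ {S : Sylow p G} {x : G}, x ∈ S → ∃ k, orderOf x = p ^ k := fun {S x} hx => by
    obtain ⟨k, hk⟩ := IsPGroup.iff_orderOf.1 S.isPGroup' ⟨x, hx⟩
    exact ⟨k, by rw [← hk, ← Subgroup.orderOf_coe]⟩
  -- the Sylow subgroup is normal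
  have hPn : (P : Subgroup G).Normal := by
    refine ⟨fun x hx g => ?_⟩
    obtain ⟨Q, hxQ, hQ⟩ := exists_sylow_transitive p x (hord hx) (hpow x (hord hx))
    have hcl : Subgroup.normalClosure ({x} : Set G) ≤ (Q : Subgroup G) := by
      refine (Subgroup.closure_le _).2 fun y hy => ?_
      obtain ⟨z, hz, hzy⟩ := Group.mem_conjugatesOfSet_iff.1 hy
      rw [Set.mem_singleton_iff.1 hz] at hzy
      obtain ⟨k, rfl⟩ := isConj_iff.1 hzy
      obtain ⟨c, hc, e⟩ := hQ k
      rw [e]
      exact Q.mul_mem (Q.mul_mem hc hxQ) (Q.inv_mem hc)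
    have hgx : g * x * g⁻¹ ∈ Subgroup.normalClosure ({x} : Set G) :=
      (Subgroup.normalClosure_normal.conj_mem x (Subgroup.subset_normalClosure (Set.mem_singleton x)) g)
    exact (Q.isPGroup'.to_le hcl).le_sylow_of_normal P hgx
  refine ⟨hPn, ?_⟩
  -- every Sylow subgroup for another prime centralises P
  have hcent : ∀ (q : ℕ) [Fact q.Prime], q ≠ p → ∀ Q : Sylow q G,
      (Q : Subgroup G) ≤ Subgroup.centralizer ((P : Subgroup G) : Set G) := by
    intro q _ hq Q
    set D : Subgroup (P : Subgroup G) :=
      (Subgroup.centralizer ((Q : Subgroup G) : Set G)).subgroupOf (P : Subgroup G) with hD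
    have hcover : ∀ x : (P : Subgroup G), ∃ c : (P : Subgroup G), c * x * c⁻¹ ∈ D := by
      intro x
      obtain ⟨S, hxS, hS⟩ := exists_sylow_transitive p (x : G) (hord x.2) (hpow _ (hord x.2))
      obtain ⟨R⟩ : Nonempty (Sylow q (Subgroup.centralizer ({(x : G)} : Set G))) := inferInstance
      have hR : (Nat.card G).factorization q =
          (Nat.card ↥(Subgroup.centralizer ({(x : G)} : Set G))).factorization q := by
        rw [← Subgroup.card_mul_index (Subgroup.centralizer ({(x : G)} : Set G)),
          Nat.factorization_mul Nat.card_pos.ne' Subgroup.index_ne_zero_of_finite,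
          Finsupp.add_apply, Nat.factorization_eq_zero_of_not_dvd (hidx _ (hord x.2) q Fact.out hq),
          add_zero]
      let R' : Sylow q G := Sylow.ofCard ((R : Subgroup _).map
          (Subgroup.centralizer ({(x : G)} : Set G)).subtype) (by
        rw [Subgroup.card_map_of_injective (Subgroup.subtype_injective _), R.card_eq_multiplicity,
          hR])
      obtain ⟨g, hg⟩ := MulAction.exists_smul_eq G R' Q
      obtain ⟨c, hc, e⟩ := hS g
      have hcP : c ∈ (P : Subgroup G) := by
        have : (S : Subgroup G) = P := by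
          letI := Sylow.unique_of_normal P hPn
          rw [Subsingleton.elim S P]
        exact this ▸ hc
      refine ⟨⟨c, hcP⟩, ?_⟩
      rw [hD, Subgroup.mem_subgroupOf]
      show c * (x : G) * c⁻¹ ∈ _
      rw [← e, Subgroup.mem_centralizer_iff]
      intro y hy
      rw [← hg] at hy
      obtain ⟨z, hz, rfl⟩ : ∃ z ∈ (R' : Subgroup G), g * z * g⁻¹ = y := by
        obtain ⟨z, hz, e'⟩ := hy
        exact ⟨z, hz, by simpa [MulAut.smul_def] using e'⟩
      obtain ⟨w, -, rfl⟩ := hz
      have hw := Subgroup.mem_centralizer_singleton_iff.1 w.2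
      show g * (w : G) * g⁻¹ * (g * (x : G) * g⁻¹) = g * (x : G) * g⁻¹ * (g * (w : G) * g⁻¹)
      calc g * (w : G) * g⁻¹ * (g * (x : G) * g⁻¹) = g * ((w : G) * (x : G)) * g⁻¹ := by group
        _ = g * ((x : G) * (w : G)) * g⁻¹ := by rw [hw]
        _ = _ := by group
    have htop : D = ⊤ := by
      by_contra hne
      obtain ⟨m, hm, hDm⟩ := (eq_top_or_exists_le_coatom D).resolve_left hne
      haveI : Group.IsNilpotent (P : Subgroup G) := P.isPGroup'.isNilpotent
      haveI := Subgroup.NormalizerCondition.normal_of_coatom m Group.normalizerCondition_of_isNilpotent hm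
      refine hm.1 (eq_top_iff.2 fun x _ => ?_)
      obtain ⟨c, hc⟩ := hcover x
      have := (inferInstance : m.Normal).conj_mem _ (hDm hc) c⁻¹
      simpa [mul_assoc] using this
    intro y hy
    rw [Subgroup.mem_centralizer_iff]
    intro z hz
    have : (⟨z, hz⟩ : (P : Subgroup G)) ∈ D := by rw [htop]; trivial
    rw [hD, Subgroup.mem_subgroupOf, Subgroup.mem_centralizer_iff] at this
    exact (this y hy).symm
  haveI := hPn
  obtain ⟨K, hK⟩ := Subgroup.exists_right_complement'_of_coprime (N := (P : Subgroup G))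
    P.card_coprime_index
  have hKcard : Nat.card K = (P : Subgroup G).index :=
    (Subgroup.IsComplement'.index_eq_card hK.symm).symm
  have hpK : ¬ p ∣ Nat.card K := hKcard ▸ P.not_dvd_index
  set C := Subgroup.centralizer ((P : Subgroup G) : Set G)
  have hKC : K ≤ C := by
    have hd : Nat.card K ∣ Nat.card ↥(C.subgroupOf K) := by
      refine (Nat.factorization_prime_le_iff_dvd Nat.card_pos.ne' Nat.card_pos.ne').1 fun q hq => ?_
      haveI := Fact.mk hq
      by_cases hqK : q ∣ Nat.card K
      · have hqp : q ≠ p := fun e => hpK (e ▸ hqK)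
        obtain ⟨R⟩ : Nonempty (Sylow q K) := inferInstance
        obtain ⟨Q, hRQ⟩ := (R.isPGroup'.map K.subtype).exists_le_sylow
        have hRC : (R : Subgroup K) ≤ C.subgroupOf K := fun y hy =>
          hcent q hqp Q (hRQ ⟨y, hy, rfl⟩)
        have h := Subgroup.card_dvd_of_le hRC
        rw [R.card_eq_multiplicity] at h
        exact (hq.pow_dvd_iff_le_factorization Nat.card_pos.ne').1 h
      · rw [Nat.factorization_eq_zero_of_not_dvd hqK]
        exact Nat.zero_le _
    exact Subgroup.subgroupOf_eq_top.1 (Subgroup.eq_top_of_le_card _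
      (Nat.le_of_dvd Nat.card_pos hd))
  have hKn : K.Normal := by
    rw [← Subgroup.normalizer_eq_top_iff, eq_top_iff, ← hK.sup_eq_top, sup_le_iff]
    refine ⟨fun c hc => ?_, Subgroup.le_normalizer⟩
    rw [Subgroup.mem_normalizer_iff]
    intro k
    have key : ∀ z ∈ K, c * z * c⁻¹ = z := fun z hz => by
      rw [Subgroup.mem_centralizer_iff.1 (hKC hz) c hc, mul_inv_cancel_right]
    refine ⟨fun h => by rw [key k h]; exact h, fun h => ?_⟩
    have h1 := key _ h
    have : c * k * c⁻¹ = k := by
      have h2 := congrArg (fun z => c⁻¹ * z * c) h1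
      simp only [mul_assoc, inv_mul_cancel_left, inv_mul_cancel, mul_one] at h2
      simpa [mul_assoc] using h2
    rwa [this] at h
  rw [eq_top_iff, ← hK.sup_eq_top]
  exact sup_le_sup_left
    (le_sSup (show K ∈ {H : Subgroup G | H.Normal ∧ (Nat.card H).Coprime p} from
      ⟨hKn, (hp.coprime_iff_not_dvd.2 hpK).symm⟩)) _


/-- Let G be a finite group and p a prime dividing its order; fix for every prime r a maximal ideal M r of the algebraic integers containing r. Then, for every prime q ≠ p dividing the order of G, the principal p-block and the principal q-block of G have only the principal character in common, if and only if a Sylow p-subgroup P of G is normal and G is generated by P and its largest normal subgroup of order prime to p (that is, G is the direct product of P and that subgroup). -/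
theorem result {G : Type*} [Group G] [Finite G] (p : ℕ) [Fact p.Prime] (hp : p ∣ Nat.card G) (M : ℕ → Ideal Cfsg.AlgInt) (hM : ∀ r : ℕ, r.Prime → Cfsg.IsPModular r (M r)) (P : Sylow p G) :
    (∀ q : ℕ, q.Prime → q ≠ p → q ∣ Nat.card G →
        ∀ χ : Cfsg.IrrCharacter G, χ ∈ Cfsg.principalBlock (M p) G → χ ∈ Cfsg.principalBlock (M q) G → (χ : G → ℂ) = fun _ => 1) ↔
      ((P : Subgroup G).Normal ∧ (P : Subgroup G) ⊔ Cfsg.pPrimeCore p G = ⊤) := by
  classical
  have := Fintype.ofFinite G
  have hpp : p.Prime := Fact.out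
  constructor
  · intro hdis
    refine forward p P fun x hx q hq hqp => ?_
    haveI := Fact.mk hq
    by_cases hqG : q ∣ Nat.card G
    · have h := BlockDisjoint.factorization_centralizer (hM p hpp) (hM q hq) hqp.symm
        (fun χ h1 h2 => hdis q hq hqp hqG χ h1 h2) hx
      rw [← Subgroup.card_mul_index (Subgroup.centralizer ({x} : Set G)),
        Nat.factorization_mul Nat.card_pos.ne' Subgroup.index_ne_zero_of_finite,
        Finsupp.add_apply] at h
      exact fun hd => (hq.factorization_pos_of_dvd Subgroup.index_ne_zero_of_finite hd).ne'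
        (by omega)
    · exact fun hd => hqG (hd.trans (Subgroup.index_dvd_card _))
  · rintro ⟨hPn, htop⟩ q hq hqp - χ h1 h2
    haveI := hPn
    haveI := Fact.mk hq
    have hK : ∀ g ∈ Cfsg.pPrimeCore p G, (χ : G → ℂ) g = (χ : G → ℂ) 1 := fun g hg =>
      Invol.principal_trivial_on (hM p hpp) _ Core.not_dvd_card_pPrimeCore h1 hg
    have hPq : ¬ q ∣ Nat.card (P : Subgroup G) := by
      rw [P.card_eq_multiplicity]
      exact fun h => hqp ((Nat.prime_dvd_prime_iff_eq hq hpp).1 (hq.dvd_of_dvd_pow h))
    have hP : ∀ g ∈ (P : Subgroup G), (χ : G → ℂ) g = (χ : G → ℂ) 1 := fun g hg =>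
      Invol.principal_trivial_on (hM q hq) _ hPq h2 hg
    have hall : ∀ g : G, (χ : G → ℂ) g = (χ : G → ℂ) 1 := by
      intro g
      have hle : (P : Subgroup G) ⊔ Cfsg.pPrimeCore p G ≤
          Char.kerSubgroup (Char.IsIrr.isCharacter χ.2) :=
        sup_le (fun g hg => hP g hg) (fun g hg => hK g hg)
      exact hle (htop.symm ▸ Subgroup.mem_top g)
    obtain ⟨n, hn0, hn⟩ := Char.IsIrr.degree χ.2
    have h := (Char.classInner_irrChar χ χ).trans (if_pos rfl)
    simp only [Cfsg.classInner, hall, hn, Complex.conj_natCast, Finset.sum_const, Finset.card_univ,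
      nsmul_eq_mul, ← Nat.card_eq_fintype_card] at h
    rw [← mul_assoc, inv_mul_cancel₀ (Nat.cast_ne_zero.2 Nat.card_pos.ne'), one_mul] at h
    have hn1 : n = 1 := Nat.eq_one_of_mul_eq_one_right (by exact_mod_cast h)
    funext g
    rw [hall, hn, hn1, Nat.cast_one]

end Cfsg.Agent.S4610
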