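import Cfsg.Statements.S4611
import Mathlib
import Cfsg.Agent.Blocks.PrincipalPSolvable
import Cfsg.Agent.Fusion.SolvablePSolvable
import Cfsg.Agent.Char.Linear
import Cfsg.Agent.Char.Ortho
-- import your own Cfsg.Agent.* helpers here

set_option autoImplicit false
open Cfsg

namespace Cfsg.Agent.S4611

/-- Let G be a finite solvable group and π a nonempty set of primes, each dividing the order of G; fix for each p in π a maximal ideal M p of the algebraic integers containing p. Then the only irreducible character lying in the principal p-block for every p in π is the principal character if and only if G is generated by the subgroups O_{p'}(G), p in π (the largest normal subgroups of order prime to p). -/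
theorem result {G : Type*} [Group G] [Finite G] [Group.IsSolvable G] (π : Set ℕ) (hπ : ∀ p ∈ π, p.Prime ∧ p ∣ Nat.card G) (hne : π.Nonempty) (M : ℕ → Ideal Cfsg.AlgInt) (hM : ∀ p ∈ π, Cfsg.IsPModular p (M p)) :
    (∀ χ : Cfsg.IrrCharacter G, (∀ p ∈ π, χ ∈ Cfsg.principalBlock (M p) G) → (χ : G → ℂ) = fun _ => 1) ↔
      ⨆ p ∈ π, Cfsg.pPrimeCore p G = ⊤ := by
  classical
  have := Fintype.ofFinite G
  have := hne
  have hmem : ∀ p ∈ π, ∀ χ : Cfsg.IrrCharacter G, χ ∈ Cfsg.principalBlock (M p) G ↔
      ∀ n ∈ Cfsg.pPrimeCore p G, (χ : G → ℂ) n = (χ : G → ℂ) 1 := by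
    intro p hp χ
    haveI := Fact.mk (hπ p hp).1
    exact Blocks.mem_principalBlock_iff_of_isPSolvable (hM p hp)
      (Fusion.isPSolvable_of_isSolvable G) χ
  constructor
  · intro h
    by_contra hN
    set N := ⨆ p ∈ π, Cfsg.pPrimeCore p G with hNdef
    haveI : N.Normal := by
      refine ⟨fun n hn g => ?_⟩
      have hle : N ≤ N.comap (MulAut.conj g).toMonoidHom := by
        refine iSup₂_le fun p hp x hx => ?_
        exact le_iSup₂ (f := fun p (_ : p ∈ π) => Cfsg.pPrimeCore p G) p hp
          ((inferInstance : (Cfsg.pPrimeCore p G).Normal).conj_mem x hx g)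
      exact hle hn
    haveI : Nontrivial (G ⧸ N) := QuotientGroup.nontrivial_iff.2 hN
    have : Finite (ConjClasses (G ⧸ N)) := Quotient.finite _
    haveI : Nontrivial (ConjClasses (G ⧸ N)) := by
      obtain ⟨x, hx⟩ := exists_ne (1 : G ⧸ N)
      refine ⟨⟨ConjClasses.mk x, ConjClasses.mk 1, fun e => hx ?_⟩⟩
      exact isConj_one_left.1 (ConjClasses.mk_eq_mk_iff_isConj.1 e)
    obtain ⟨φ, hφ⟩ : ∃ φ : Cfsg.IrrCharacter (G ⧸ N), φ ≠ Blocks.triv (G ⧸ N) := by
      have hlt : 1 < Nat.card (Cfsg.IrrCharacter (G ⧸ N)) := by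
        rw [Char.card_irrCharacter]; exact Finite.one_lt_card
      haveI : Finite (Cfsg.IrrCharacter (G ⧸ N)) := Nat.finite_of_card_ne_zero (by omega)
      haveI := Finite.one_lt_card_iff_nontrivial.1 hlt
      exact exists_ne _
    let χ : Cfsg.IrrCharacter G := ⟨_, Char.isIrrCharacter_mk N φ.2⟩
    have hχ := h χ fun p hp => (hmem p hp χ).2 fun n hn => by
      show (φ : G ⧸ N → ℂ) (n : G ⧸ N) = (φ : G ⧸ N → ℂ) ((1 : G) : G ⧸ N)
      rw [(QuotientGroup.eq_one_iff n).2
        (le_iSup₂ (f := fun p (_ : p ∈ π) => Cfsg.pPrimeCore p G) p hp hn), QuotientGroup.mk_one]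
    refine hφ (Subtype.ext (funext fun q => ?_))
    obtain ⟨g, rfl⟩ := QuotientGroup.mk_surjective q
    exact congrFun hχ g
  · intro hN χ hχ
    have hc := Char.IsIrr.isCharacter χ.2
    have hker : ∀ g, (χ : G → ℂ) g = (χ : G → ℂ) 1 := by
      intro g
      have hle : (⨆ p ∈ π, Cfsg.pPrimeCore p G) ≤ Char.kerSubgroup hc :=
        iSup₂_le fun p hp n hn => (hmem p hp χ).1 (hχ p hp) n hn
      rw [hN] at hle
      exact hle (Subgroup.mem_top g)
    obtain ⟨n, -, hn⟩ := Char.IsIrr.degree χ.2
    have hself := Char.classInner_irr_self χ.2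
    rw [Cfsg.classInner, inv_mul_eq_iff_eq_mul₀ Char.card_ne_zero, mul_one] at hself
    simp only [hker, hn, Complex.conj_natCast, Finset.sum_const, Finset.card_univ, nsmul_eq_mul,
      ← Nat.card_eq_fintype_card] at hself
    have h1 : Nat.card G * (n * n) = Nat.card G := by exact_mod_cast hself
    have h2 : n * n = 1 := by
      have := Nat.card_pos (α := G)
      exact Nat.eq_of_mul_eq_mul_left this (h1.trans (mul_one _).symm)
    funext g
    rw [hker, hn, Nat.eq_one_of_mul_eq_one_right h2, Nat.cast_one]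

end Cfsg.Agent.S4611
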