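import Cfsg.Statements.S4613
import Cfsg.Agent.SylOpp.SL
import Cfsg.Agent.SylOpp.Classical
import Cfsg.Agent.SylOpp.Exceptional

set_option autoImplicit false
open Cfsg

namespace Cfsg.Agent.S4613

/-- Let G be a finite simple group of Lie type in characteristic p and α an automorphism of G of order prime to p that fixes some Sylow p-subgroup of G elementwise. Then α is the identity. -/
theorem result {G : Type*} [Group G] [Finite G] [IsSimpleGroup G] (p : ℕ) [Fact p.Prime] (hG : Cfsg.IsLieTypeChar p G) (α : MulAut G) (hα : ¬ p ∣ orderOf α) (U : Sylow p G) (hfix : ∀ x ∈ (U : Subgroup G), α x = x) : α = 1 := by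
  suffices hgood : SylOpp.Good p G from SylOpp.eq_one hgood α hα U hfix
  rcases hG with h | h | h | h | h | h | h | h | h | h | h
  · obtain ⟨F, _, _, _, n, hn, -, ⟨e⟩⟩ := h
    exact SylOpp.good_of_equiv e.symm (SylOpp.good_psl p hn)
  · obtain ⟨F, _, _, _, m, hm, -, ⟨e⟩⟩ := h
    exact SylOpp.good_of_equiv e.symm (SylOpp.good_psp p m (by omega))
  · obtain ⟨F, _, _, _, n, q, hF, hn, -, ⟨e⟩⟩ := h
    exact SylOpp.good_of_equiv e.symm (SylOpp.good_psu p n q (by omega) hF)
  · obtain ⟨F, _, _, _, m, hm, hodd, ⟨e⟩⟩ := h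
    exact SylOpp.good_of_equiv e.symm (SylOpp.good_omega_odd p hodd m (by omega))
  · obtain ⟨F, _, _, _, m, hm, ⟨e⟩⟩ := h
    exact SylOpp.good_of_equiv e.symm (SylOpp.good_omega_plus p m (by omega) (Or.inr (by omega)))
  · obtain ⟨F, _, _, _, m, a, b, hm, hab, ⟨e⟩⟩ := h
    exact SylOpp.good_of_equiv e.symm (SylOpp.good_omega_minus p (m - 1) (by omega) a b hab)
  · exact SylOpp.good_exceptional h
  · exact SylOpp.good_twisted h
  · obtain ⟨rfl, h⟩ := h
    exact SylOpp.good_suzuki h
  · obtain ⟨rfl, h⟩ := h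
    exact SylOpp.good_ree_two h
  · obtain ⟨rfl, h⟩ := h
    exact SylOpp.good_ree_three h

end Cfsg.Agent.S4613
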