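import Cfsg.Statements.S4620
import Cfsg.Agent.Core.PCore
import Cfsg.Agent.Coprime.Tools

set_option autoImplicit false
open scoped Pointwise
open Cfsg

namespace Cfsg.Agent.S4620

open scoped Pointwise

/-- If a normal subgroup has a non-trivial p-subgroup normalised by it, the p-core is non-trivial. -/
theorem eq_bot_of_normalized {H : Type*} [Group H] [Finite H] {p : ℕ} [Fact p.Prime]
    (hOp : Cfsg.pCore p H = ⊥) {A : Subgroup H} [A.Normal] {Q : Subgroup H} (hQA : Q ≤ A)
    (hQ : IsPGroup p Q) (hAQ : A ≤ Subgroup.normalizer (Q : Set H)) : Q = ⊥ := by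
  have : (Q.subgroupOf A).Normal := (Subgroup.normal_subgroupOf_iff_le_normalizer hQA).2 hAQ
  have h1 : Q.subgroupOf A ≤ Cfsg.pCore p A :=
    Core.le_pCore (hQ.comap_of_injective A.subtype A.subtype_injective)
  have h2 := (Subgroup.map_mono (f := A.subtype) h1).trans ((Core.map_pCore_normal A).le.trans inf_le_left)
  rw [hOp, Subgroup.map_subgroupOf_eq_of_le hQA] at h2
  exact le_bot_iff.1 h2

open Subgroup in
/-- Two commuting subgroups of order divisible by `p` in a group with TI Sylow subgroups. -/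
theorem exists_normalized {H : Type*} [Group H] [Finite H] {p : ℕ} [hp : Fact p.Prime] (P : Sylow p H)
    (hTI : ∀ g : H, g ∉ normalizer ((P : Subgroup H) : Set H) →
      (P : Subgroup H) ⊓ (MulAut.conj g • (P : Subgroup H)) = ⊥)
    {A B : Subgroup H} (hA : p ∣ Nat.card A) (hB : p ∣ Nat.card B)
    (hcomm : ∀ a ∈ A, ∀ b ∈ B, a * b = b * a) :
    ∃ Q : Subgroup H, Q ≤ A ∧ Q ≠ ⊥ ∧ IsPGroup p Q ∧ A ≤ normalizer (Q : Set H) := by
  obtain ⟨b, hb⟩ := exists_prime_orderOf_dvd_card' p hB
  have hbH : orderOf (b : H) = p := (orderOf_coe b).trans hb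
  obtain ⟨P', hbP'⟩ := (IsPGroup.of_card (n := 1) (by rw [Nat.card_zpowers, hbH, pow_one]) :
    IsPGroup p (zpowers (b : H))).exists_le_sylow
  obtain ⟨h, hh⟩ := MulAction.exists_smul_eq H P P'
  have hP' : (P' : Subgroup H) = MulAut.conj h • (P : Subgroup H) := by
    rw [← hh]; rfl
  have hTI' : ∀ g : H, g ∉ normalizer ((P' : Subgroup H) : Set H) →
      (P' : Subgroup H) ⊓ (MulAut.conj g • (P' : Subgroup H)) = ⊥ := by
    intro g hg
    have hn : h⁻¹ * g * h ∉ normalizer ((P : Subgroup H) : Set H) := by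
      intro hn
      apply hg
      apply Coprime.mem_normalizer_of_conj_smul_eq
      rw [hP', ← Coprime.conj_mul_smul, show g * h = h * (h⁻¹ * g * h) by group,
        Coprime.conj_mul_smul, Coprime.conj_smul_eq_self_of_mem_normalizer hn]
    have := congrArg (fun S => MulAut.conj h • S) (hTI _ hn)
    rw [hP', ← Coprime.conj_mul_smul g h, show g * h = h * (h⁻¹ * g * h) by group,
      Coprime.conj_mul_smul, ← smul_inf]
    simpa using this
  have hAN : A ≤ normalizer ((P' : Subgroup H) : Set H) := by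
    intro a ha
    by_contra hn
    have hmem : (b : H) ∈ (P' : Subgroup H) ⊓ (MulAut.conj a • (P' : Subgroup H)) := by
      refine ⟨hbP' (mem_zpowers _), Coprime.mem_conj_smul.2 ?_⟩
      have : a⁻¹ * (b : H) * a = b := by rw [mul_assoc, ← hcomm a ha b b.2, inv_mul_cancel_left]
      rw [this]
      exact hbP' (mem_zpowers _)
    rw [hTI' a hn, mem_bot] at hmem
    rw [hmem, orderOf_one] at hbH
    exact hp.out.ne_one hbH.symm
  refine ⟨A ⊓ (P' : Subgroup H), inf_le_left, ?_, P'.isPGroup'.to_le inf_le_right,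
    Coprime.le_normalizer_inf le_normalizer hAN⟩
  obtain ⟨a, ha⟩ := exists_prime_orderOf_dvd_card' p hA
  have haH : orderOf (a : H) = p := (orderOf_coe a).trans ha
  have hz : IsPGroup p (zpowers (a : H)) :=
    IsPGroup.of_card (n := 1) (by rw [Nat.card_zpowers, haH, pow_one])
  have haP : (a : H) ∈ (P' : Subgroup H) := by
    have hmem : (a : H) ∈ zpowers (a : H) ⊓ normalizer ((P' : Subgroup H) : Set H) :=
      ⟨mem_zpowers _, hAN a.2⟩
    exact ((hz.inf_normalizer_sylow P').le hmem).2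
  intro e
  have : (a : H) ∈ A ⊓ (P' : Subgroup H) := ⟨a.2, haP⟩
  rw [e, mem_bot] at this
  rw [this, orderOf_one] at haH
  exact hp.out.ne_one haH.symm

theorem dvd_card_of_normal {H : Type*} [Group H] [Finite H] {p : ℕ} [hp : Fact p.Prime]
    (hOp' : Cfsg.pPrimeCore p H = ⊥) {A : Subgroup H} [A.Normal] (hA : A ≠ ⊥) : p ∣ Nat.card A := by
  by_contra h
  exact hA (le_bot_iff.1 (hOp' ▸ Core.le_pPrimeCore ((hp.out.coprime_iff_not_dvd.2 h).symm)))

/-- Let H be a finite group with no nontrivial normal p-subgroup and no nontrivial normal subgroup of order prime to p, whose Sylow p-subgroup P is nontrivial and a trivial-intersection set (P meets its conjugates by elements outside N_H(P) trivially). Then H has a unique minimal normal subgroup N; N is non-abelian simple with trivial centralizer in H (so H embeds in Aut(N)), and a Sylow p-subgroup of N is again a nontrivial trivial-intersection set in N. -/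
theorem result {H : Type*} [Group H] [Finite H] (p : ℕ) [Fact p.Prime] (hOp : Cfsg.pCore p H = ⊥) (hOp' : Cfsg.pPrimeCore p H = ⊥) (P : Sylow p H) (hP1 : (P : Subgroup H) ≠ ⊥)
    (hTI : ∀ g : H, g ∉ Subgroup.normalizer ((P : Subgroup H) : Set H) → (P : Subgroup H) ⊓ (MulAut.conj g • (P : Subgroup H)) = ⊥) :
    ∃ N : Subgroup H, N.Normal ∧ N ≠ ⊥ ∧ (∀ K : Subgroup H, K.Normal → K ≠ ⊥ → N ≤ K) ∧
      IsSimpleGroup N ∧ ¬ IsMulCommutative N ∧ Subgroup.centralizer (N : Set H) = ⊥ ∧
      ∀ Q : Sylow p N, (Q : Subgroup N) ≠ ⊥ ∧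
        ∀ n : N, n ∉ Subgroup.normalizer ((Q : Subgroup N) : Set N) → (Q : Subgroup N) ⊓ (MulAut.conj n • (Q : Subgroup N)) = ⊥ := by
  classical
  have hp := (Fact.out : p.Prime)
  -- no commuting pair of a non-trivial normal subgroup with anything of order divisible by p
  have nocomm : ∀ A B : Subgroup H, A.Normal → B.Normal → A ≠ ⊥ → B ≠ ⊥ →
      ¬ ∀ a ∈ A, ∀ b ∈ B, a * b = b * a := by
    intro A B hA hB hA1 hB1 hc
    obtain ⟨Q, hQA, hQ1, hQ, hAQ⟩ := exists_normalized P hTI (dvd_card_of_normal hOp' hA1)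
      (dvd_card_of_normal hOp' hB1) hc
    exact hQ1 (eq_bot_of_normalized hOp hQA hQ hAQ)
  have hH : (⊤ : Subgroup H) ≠ ⊥ := fun e => hP1 (le_bot_iff.1 (e ▸ le_top))
  obtain ⟨N, ⟨hNn, hN1⟩, hNmin⟩ := (Set.toFinite {N : Subgroup H | N.Normal ∧ N ≠ ⊥}).exists_minimalFor id _
    ⟨⊤, inferInstance, hH⟩
  have := hNn
  have hmin : ∀ K : Subgroup H, K.Normal → K ≠ ⊥ → K ≤ N → K = N := fun K hK hK1 hKN =>
    le_antisymm hKN (hNmin (j := K) ⟨hK, hK1⟩ hKN)
  have hOpN : Cfsg.pCore p N = ⊥ := (Subgroup.map_eq_bot_iff_of_injective _ N.subtype_injective).1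
    (le_bot_iff.1 (hOp ▸ (Core.map_pCore_normal N).le.trans inf_le_left))
  have hOpN' : Cfsg.pPrimeCore p N = ⊥ := (Subgroup.map_eq_bot_iff_of_injective _ N.subtype_injective).1
    (le_bot_iff.1 (hOp' ▸ (Core.map_pPrimeCore_normal N).le.trans inf_le_left))
  have hnab : ¬ IsMulCommutative N := fun h =>
    nocomm N N hNn hNn hN1 hN1 fun a ha b hb => congrArg Subtype.val (h.is_comm.comm ⟨a, ha⟩ ⟨b, hb⟩)
  have hNt : Nontrivial N := (Subgroup.nontrivial_iff_ne_bot N).2 hN1
  refine ⟨N, hNn, hN1, ?_, ?_, hnab, ?_, ?_⟩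
  · intro K hK hK1
    by_contra hle
    have hd : N ⊓ K = ⊥ := by
      by_contra hd
      exact hle (hmin (N ⊓ K) inferInstance hd inf_le_left ▸ inf_le_right)
    exact nocomm N K hNn hK hN1 hK1 fun a ha b hb =>
      (Subgroup.commute_of_normal_of_disjoint N K hNn hK (disjoint_iff.2 hd) a b ha hb).eq
  · refine IsSimpleGroup.mk fun K hK => ?_
    by_contra hne
    push Not at hne
    obtain ⟨hK1, hK2⟩ := hne
    obtain ⟨S, ⟨hSn, hS1, hSK⟩, hSmin⟩ :=
      (Set.toFinite {S : Subgroup N | S.Normal ∧ S ≠ ⊥ ∧ S ≤ K}).exists_minimalFor id _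
        ⟨K, hK, hK1, le_rfl⟩
    have := hSn
    by_cases hall : ∀ g : H, S.map (MulAut.conjNormal g : MulAut N).toMonoidHom = S
    · have hnS : (S.map N.subtype).Normal := ⟨by
        rintro _ ⟨x, hx, rfl⟩ g
        refine ⟨MulAut.conjNormal g x, ?_, MulAut.conjNormal_apply g x⟩
        rw [SetLike.mem_coe, ← hall g]
        exact ⟨x, hx, rfl⟩⟩
      have he := hmin _ hnS (fun e => hS1 ((Subgroup.map_eq_bot_iff_of_injective _ N.subtype_injective).1 e))
        (Subgroup.map_subtype_le S)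
      refine hK2 (top_le_iff.1 (le_trans ?_ hSK))
      intro x _
      have : (x : H) ∈ S.map N.subtype := he.symm ▸ x.2
      exact (Subgroup.mem_map_iff_mem N.subtype_injective).1 this
    push Not at hall
    obtain ⟨g, hg⟩ := hall
    set T : Subgroup N := S.map (MulAut.conjNormal g : MulAut N).toMonoidHom with hT
    have hTn : T.Normal := hSn.map _ (MulAut.conjNormal g : MulAut N).surjective
    have hd : S ⊓ T = ⊥ := by
      by_contra hd
      have hle : S ≤ S ⊓ T := hSmin (j := S ⊓ T) ⟨inferInstance, hd, inf_le_left.trans hSK⟩ inf_le_left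
      refine hg (Subgroup.eq_of_le_of_card_ge (hle.trans inf_le_right) ?_).symm
      exact (Nat.card_congr (S.equivMapOfInjective _
        (MulAut.conjNormal g : MulAut N).injective).toEquiv).ge
    have hT1 : T ≠ ⊥ := fun e => hS1
      ((Subgroup.map_eq_bot_iff_of_injective _ (MulAut.conjNormal g : MulAut N).injective).1 e)
    have hcard : ∀ U : Subgroup N, Nat.card (U.map N.subtype : Subgroup H) = Nat.card U := fun U =>
      Nat.card_congr (U.equivMapOfInjective _ N.subtype_injective).toEquiv.symm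
    obtain ⟨Q, hQS, hQ1, hQ, hSQ⟩ := exists_normalized P hTI
      (A := S.map N.subtype) (B := T.map N.subtype)
      ((hcard S).symm ▸ dvd_card_of_normal hOpN' hS1) ((hcard T).symm ▸ dvd_card_of_normal hOpN' hT1) (by
        rintro _ ⟨a, ha, rfl⟩ _ ⟨b, hb, rfl⟩
        exact congrArg Subtype.val
          (Subgroup.commute_of_normal_of_disjoint S T hSn hTn (disjoint_iff.2 hd) a b ha hb).eq)
    have hQN : Q ≤ N := hQS.trans (Subgroup.map_subtype_le S)
    have hQ' : Q.subgroupOf N ≤ S := fun x hx =>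
      (Subgroup.mem_map_iff_mem N.subtype_injective).1 (hQS (Subgroup.mem_subgroupOf.1 hx))
    have := eq_bot_of_normalized hOpN hQ' (hQ.comap_of_injective N.subtype N.subtype_injective) (by
      intro s hs
      rw [Subgroup.mem_normalizer_iff]
      intro x
      exact (Subgroup.mem_normalizer_iff.1 (hSQ ⟨s, hs, rfl⟩) (x : H)))
    exact hQ1 (by rw [← Subgroup.map_subgroupOf_eq_of_le hQN, this, Subgroup.map_bot])
  · by_contra hC
    have hN' : N ≤ Subgroup.centralizer (N : Set H) := by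
      by_contra hle
      have hd : N ⊓ Subgroup.centralizer (N : Set H) = ⊥ := by
        by_contra hd
        exact hle ((hmin _ inferInstance hd inf_le_left).ge.trans inf_le_right)
      exact nocomm N _ hNn inferInstance hN1 hC fun a ha b hb => Subgroup.mem_centralizer_iff.1 hb a ha
    exact nocomm N N hNn hNn hN1 hN1 fun a ha b hb => Subgroup.mem_centralizer_iff.1 (hN' hb) a ha
  · intro Q
    have hQ1 : (Q : Subgroup N) ≠ ⊥ := Q.ne_bot_of_dvd_card (dvd_card_of_normal hOp' hN1)
    refine ⟨hQ1, fun n hn => ?_⟩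
    obtain ⟨P', hP'⟩ := (Q.isPGroup'.map N.subtype).exists_le_sylow
    have hQeq : (P' : Subgroup H).subgroupOf N = (Q : Subgroup N) :=
      Q.is_maximal' (P'.isPGroup'.comap_of_injective N.subtype N.subtype_injective)
        (fun x hx => Subgroup.mem_subgroupOf.2 (hP' ⟨x, hx, rfl⟩))
    have hn' : (n : H) ∉ Subgroup.normalizer ((P' : Subgroup H) : Set H) := by
      intro h
      apply hn
      rw [← hQeq, Subgroup.mem_normalizer_iff]
      intro x
      exact Subgroup.mem_normalizer_iff.1 h (x : H)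
    obtain ⟨h, hh⟩ := MulAction.exists_smul_eq H P P'
    have hPP : (P' : Subgroup H) = MulAut.conj h • (P : Subgroup H) := by rw [← hh]; rfl
    rw [eq_bot_iff]
    rintro x ⟨hx1, hx2⟩
    have hh' : h⁻¹ * (n : H) * h ∉ Subgroup.normalizer ((P : Subgroup H) : Set H) := by
      intro hm
      apply hn'
      apply Coprime.mem_normalizer_of_conj_smul_eq
      rw [hPP, ← Coprime.conj_mul_smul, show (n : H) * h = h * (h⁻¹ * (n : H) * h) by group,
        Coprime.conj_mul_smul, Coprime.conj_smul_eq_self_of_mem_normalizer hm]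
    have e1 : h⁻¹ * (x : H) * h ∈ (P : Subgroup H) := by
      rw [← Coprime.mem_conj_smul, ← hPP]
      exact Subgroup.mem_subgroupOf.1 (hQeq.symm ▸ hx1)
    have e2 : h⁻¹ * (x : H) * h ∈ MulAut.conj (h⁻¹ * (n : H) * h) • (P : Subgroup H) := by
      rw [Coprime.mem_conj_smul]
      have : n⁻¹ * x * n ∈ (P' : Subgroup H).subgroupOf N := hQeq.symm ▸ Coprime.mem_conj_smul.1 hx2
      have h2 : (n : H)⁻¹ * (x : H) * n ∈ MulAut.conj h • (P : Subgroup H) := by
        rw [← hPP]
        simpa [Subgroup.mem_subgroupOf] using this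
      rw [Coprime.mem_conj_smul] at h2
      simpa [mul_assoc] using h2
    have := (hTI _ hh').le (Subgroup.mem_inf.2 ⟨e1, e2⟩)
    rw [Subgroup.mem_bot] at this ⊢
    refine Subtype.ext ?_
    calc (x : H) = h * (h⁻¹ * (x : H) * h) * h⁻¹ := by group
      _ = 1 := by rw [this]; group

end Cfsg.Agent.S4620
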