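import Cfsg.Statements.S4623
import Mathlib

set_option autoImplicit false
open Cfsg

namespace Cfsg.Agent.S4623

open Equiv

section Step

variable (p m r : ℕ) [NeZero p]

/-- `m` blocks of size `p` and `r` further points. -/
abbrev Pts := (Fin m × ZMod p) ⊕ Fin r

/-- Translations in the blocks. -/
def blockHom : Multiplicative (Fin m → ZMod p) →* Perm (Pts p m r) where
  toFun f :=
    Equiv.sumCongr
      { toFun := fun x => (x.1, x.2 + Multiplicative.toAdd f x.1)
        invFun := fun x => (x.1, x.2 - Multiplicative.toAdd f x.1)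
        left_inv := fun x => by simp
        right_inv := fun x => by simp } 1
  map_one' := by
    refine Equiv.ext fun x => ?_
    rcases x with ⟨i, a⟩ | j <;> simp
  map_mul' f g := by
    refine Equiv.ext fun x => ?_
    rcases x with ⟨i, a⟩ | j
    · simp [add_left_comm, add_comm]
    · simp

theorem blockHom_inl (f : Multiplicative (Fin m → ZMod p)) (i : Fin m) (a : ZMod p) :
    blockHom p m r f (Sum.inl (i, a)) = Sum.inl (i, a + Multiplicative.toAdd f i) := rfl

/-- Permutations of the blocks. -/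
def liftHom : Perm (Fin m) →* Perm (Pts p m r) where
  toFun s := Equiv.sumCongr (Equiv.prodCongrLeft fun _ : ZMod p => s) 1
  map_one' := by
    refine Equiv.ext fun x => ?_
    rcases x with ⟨i, a⟩ | j <;> simp
  map_mul' s t := by
    refine Equiv.ext fun x => ?_
    rcases x with ⟨i, a⟩ | j <;> simp

theorem liftHom_inl (s : Perm (Fin m)) (i : Fin m) (a : ZMod p) :
    liftHom p m r s (Sum.inl (i, a)) = Sum.inl (s i, a) := rfl

theorem lift_conj (s : Perm (Fin m)) (f : Multiplicative (Fin m → ZMod p)) :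
    liftHom p m r s * blockHom p m r f =
      blockHom p m r (Multiplicative.ofAdd fun i => Multiplicative.toAdd f (s.symm i)) *
        liftHom p m r s := by
  refine Equiv.ext fun x => ?_
  rcases x with ⟨i, a⟩ | j
  · simp [blockHom_inl, liftHom_inl]
  · rfl

theorem block_pow (f : Multiplicative (Fin m → ZMod p)) : blockHom p m r f ^ p = 1 := by
  rw [← map_pow]
  convert map_one (blockHom p m r)
  refine Multiplicative.toAdd.injective ?_
  funext i
  rw [toAdd_pow, Pi.smul_apply, toAdd_one, Pi.zero_apply, nsmul_eq_mul, ZMod.natCast_self, zero_mul]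

theorem mem_products {Q : Subgroup (Perm (Fin m))} {S : Set (Perm (Fin m))}
    (hS : Subgroup.closure S = Q) {x : Perm (Pts p m r)}
    (hx : x ∈ Subgroup.closure (Set.range (blockHom p m r) ∪ liftHom p m r '' S)) :
    ∃ f, ∃ s ∈ Q, x = blockHom p m r f * liftHom p m r s := by
  induction hx using Subgroup.closure_induction with
  | mem x hx =>
    rcases hx with ⟨f, rfl⟩ | ⟨s, hs, rfl⟩
    · exact ⟨f, 1, Q.one_mem, by rw [map_one, mul_one]⟩
    · exact ⟨1, s, hS ▸ Subgroup.subset_closure hs, by rw [map_one, one_mul]⟩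
  | one => exact ⟨1, 1, Q.one_mem, by rw [map_one, map_one, mul_one]⟩
  | mul x y _ _ hx hy =>
    obtain ⟨f, s, hs, rfl⟩ := hx
    obtain ⟨g, t, ht, rfl⟩ := hy
    refine ⟨f * Multiplicative.ofAdd (fun i => Multiplicative.toAdd g (s.symm i)), s * t,
      Q.mul_mem hs ht, ?_⟩
    rw [map_mul, map_mul, mul_assoc, ← mul_assoc (liftHom p m r s), lift_conj]
    simp only [mul_assoc]
  | inv x _ hx =>
    obtain ⟨f, s, hs, rfl⟩ := hx
    refine ⟨Multiplicative.ofAdd fun i => Multiplicative.toAdd f⁻¹ (s⁻¹.symm i), s⁻¹,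
      Q.inv_mem hs, ?_⟩
    rw [← lift_conj, mul_inv_rev, map_inv, map_inv]

theorem products_inj {f g : Multiplicative (Fin m → ZMod p)} {s t : Perm (Fin m)}
    (h : blockHom p m r f * liftHom p m r s = blockHom p m r g * liftHom p m r t) :
    f = g ∧ s = t := by
  have h' : ∀ i, s i = t i ∧ Multiplicative.toAdd f (s i) = Multiplicative.toAdd g (t i) := fun i => by
    have := congrArg (fun e : Perm (Pts p m r) => e (Sum.inl (i, 0))) h
    simpa [blockHom_inl, liftHom_inl] using this
  refine ⟨Multiplicative.toAdd.injective (funext fun i => ?_), Equiv.ext fun i => (h' i).1⟩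
  obtain ⟨j, rfl⟩ := s.surjective i
  conv_rhs => rw [(h' j).1]
  exact (h' j).2

theorem sign_lift (s : Perm (Fin m)) : Perm.sign (liftHom p m r s) = Perm.sign s ^ p := by
  show Perm.sign (Equiv.sumCongr (Equiv.prodCongrLeft fun _ : ZMod p => s) 1) = _
  rw [Perm.sign_sumCongr, map_one, mul_one, Perm.sign_prodCongrLeft, Finset.prod_const,
    Finset.card_univ, ZMod.card]

end Step

variable (p : ℕ) [hp : Fact p.Prime]

/-- A Sylow subgroup generated by elements of order dividing `p`, and so is its even part. -/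
theorem exists_generators : ∀ n : ℕ, ∃ S T : Set (Perm (Fin n)),
    (∀ x ∈ S, x ^ p = 1) ∧ (∀ x ∈ T, x ^ p = 1) ∧
    Nat.card (Subgroup.closure S) = p ^ padicValNat p n.factorial ∧
    Subgroup.closure T = Subgroup.closure S ⊓ alternatingGroup (Fin n) := by
  intro n
  induction n using Nat.strong_induction_on with
  | _ n IH =>
  have hp' : p.Prime := hp.out
  haveI : NeZero p := ⟨hp'.ne_zero⟩
  rcases Nat.eq_zero_or_pos n with rfl | hn
  · refine ⟨∅, ∅, by simp, by simp, ?_, by simp⟩
    simp
  obtain ⟨m, hm⟩ : ∃ m, m = n / p := ⟨_, rfl⟩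
  obtain ⟨r, hr⟩ : ∃ r, r = n % p := ⟨_, rfl⟩
  obtain ⟨S, -, hS, -, hSc, -⟩ := IH m (hm ▸ Nat.div_lt_self hn hp'.one_lt)
  set S₁ := Set.range (blockHom p m r) ∪ liftHom p m r '' S with hS₁
  have hpow : ∀ x ∈ S₁, x ^ p = 1 := by
    rintro x (⟨f, rfl⟩ | ⟨s, hs, rfl⟩)
    · exact block_pow p m r f
    · rw [← map_pow, hS s hs, map_one]
  set W := Subgroup.closure S₁ with hW
  have hcard : Nat.card W = p ^ padicValNat p n.factorial := by
    have hmem : ∀ z : Multiplicative (Fin m → ZMod p) × Subgroup.closure S,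
        blockHom p m r z.1 * liftHom p m r z.2 ∈ W := fun z => by
      refine W.mul_mem (Subgroup.subset_closure (Or.inl ⟨_, rfl⟩)) ?_
      have h1 : liftHom p m r z.2 ∈ (Subgroup.closure S).map (liftHom p m r) := ⟨_, z.2.2, rfl⟩
      rw [MonoidHom.map_closure] at h1
      exact Subgroup.closure_mono Set.subset_union_right h1
    have hbij : Function.Bijective fun z => (⟨_, hmem z⟩ : W) := by
      constructor
      · intro z z' h
        obtain ⟨h1, h2⟩ := products_inj p m r (congrArg Subtype.val h)
        exact Prod.ext h1 (Subtype.ext h2)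
      · rintro ⟨x, hx⟩
        obtain ⟨f, s, hs, rfl⟩ := mem_products p m r rfl hx
        exact ⟨(f, ⟨s, hs⟩), rfl⟩
    rw [← Nat.card_eq_of_bijective _ hbij, Nat.card_prod, hSc]
    have h1 : Nat.card (Multiplicative (Fin m → ZMod p)) = p ^ m := by
      rw [Nat.card_congr Multiplicative.toAdd, Nat.card_fun, Nat.card_zmod, Nat.card_fin]
    rw [h1, ← pow_add]
    congr 1
    have h2 : padicValNat p n.factorial = padicValNat p (p * m).factorial := by
      conv_lhs => rw [← Nat.div_add_mod n p, ← hm]
      exact padicValNat_factorial_mul_add m (Nat.mod_lt n hp'.pos)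
    rw [h2, padicValNat_factorial_mul, add_comm]
  -- the even part
  obtain ⟨T₁, hT₁, hT₁c⟩ : ∃ T₁ : Set (Perm (Pts p m r)), (∀ x ∈ T₁, x ^ p = 1) ∧
      Subgroup.closure T₁ = W ⊓ alternatingGroup (Pts p m r) := by
    refine ⟨{x ∈ S₁ | Perm.sign x = 1}, fun x hx => hpow x hx.1, le_antisymm ?_ fun x hx => ?_⟩
    · refine (Subgroup.closure_le _).2 fun x hx => ⟨Subgroup.subset_closure hx.1, ?_⟩
      exact Perm.mem_alternatingGroup.2 hx.2
    · obtain ⟨hxW, hxA⟩ := Subgroup.mem_inf.1 hx
      rw [Perm.mem_alternatingGroup] at hxA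
      rcases hp'.eq_two_or_odd' with h2 | hodd
      · obtain ⟨f, s, hs, rfl⟩ := mem_products p m r rfl hxW
        have hsl : ∀ t : Perm (Fin m), Perm.sign (liftHom p m r t) = 1 := fun t => by
          rw [sign_lift, h2, Int.units_sq]
        rw [map_mul, hsl, mul_one] at hxA
        refine Subgroup.mul_mem _ (Subgroup.subset_closure
          (show blockHom p m r f ∈ {x ∈ S₁ | Perm.sign x = 1} from ⟨Or.inl ⟨f, rfl⟩, hxA⟩)) ?_
        have h1 : liftHom p m r s ∈ (Subgroup.closure S).map (liftHom p m r) := ⟨_, hs, rfl⟩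
        rw [MonoidHom.map_closure] at h1
        refine Subgroup.closure_mono ?_ h1
        rintro _ ⟨t, ht, rfl⟩
        exact ⟨Or.inr ⟨t, ht, rfl⟩, hsl t⟩
      · have hsub : S₁ ⊆ {x ∈ S₁ | Perm.sign x = 1} := fun y hy => ⟨hy, by
          have := congrArg Perm.sign (hpow y hy)
          rwa [map_pow, map_one, Int.units_pow_eq_pow_mod_two, Nat.odd_iff.1 hodd, pow_one] at this⟩
        exact Subgroup.closure_mono hsub hxW
  -- transport
  obtain ⟨e⟩ : Nonempty (Pts p m r ≃ Fin n) := by
    refine ⟨Fintype.equivFinOfCardEq ?_⟩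
    rw [Fintype.card_sum, Fintype.card_prod, Fintype.card_fin, Fintype.card_fin, ZMod.card,
      mul_comm, hm, hr, Nat.div_add_mod]
  set c : Perm (Pts p m r) ≃* Perm (Fin n) := e.permCongrHom with hc
  refine ⟨c '' S₁, c '' T₁, ?_, ?_, ?_, ?_⟩
  · rintro _ ⟨x, hx, rfl⟩
    rw [← map_pow, hpow x hx, map_one]
  · rintro _ ⟨x, hx, rfl⟩
    rw [← map_pow, hT₁ x hx, map_one]
  · rw [show c '' S₁ = c.toMonoidHom '' S₁ from rfl, ← MonoidHom.map_closure,
      Subgroup.card_map_of_injective c.injective, ← hW, hcard]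
  · rw [show c '' S₁ = c.toMonoidHom '' S₁ from rfl, show c '' T₁ = c.toMonoidHom '' T₁ from rfl,
      ← MonoidHom.map_closure, ← MonoidHom.map_closure, hT₁c, Subgroup.map_inf _ _ _ c.injective]
    congr 1
    ext x
    constructor
    · rintro ⟨y, hy, rfl⟩
      rw [Perm.mem_alternatingGroup]
      exact (Perm.sign_permCongr e y).trans (Perm.mem_alternatingGroup.1 hy)
    · intro hx
      refine ⟨c.symm x, ?_, c.apply_symm_apply x⟩
      rw [SetLike.mem_coe, Perm.mem_alternatingGroup]
      refine (Perm.sign_permCongr e (c.symm x)).symm.trans ?_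
      exact (congrArg Perm.sign (c.apply_symm_apply x)).trans (Perm.mem_alternatingGroup.1 hx)

/-- A subgroup generated by elements of order dividing `p` has elementary abelian quotient. -/
theorem pow_mem_commutator {H : Type*} [Group H] (K : Subgroup H) (S : Set H)
    (hS : ∀ x ∈ S, x ^ p = 1) (hK : Subgroup.closure S = K) (x : K) :
    x ^ p ∈ commutator K := by
  subst hK
  rw [← Abelianization.ker_of (Subgroup.closure S), MonoidHom.mem_ker, map_pow]
  obtain ⟨x, hx⟩ := x
  induction hx using Subgroup.closure_induction with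
  | mem y hy =>
    rw [← map_pow]
    convert map_one Abelianization.of
    exact Subtype.ext (hS y hy)
  | one => exact (congrArg (· ^ p) (map_one Abelianization.of)).trans (one_pow p)
  | mul y z hy hz ihy ihz =>
    rw [show (⟨y * z, _⟩ : Subgroup.closure S) = ⟨y, hy⟩ * ⟨z, hz⟩ from rfl, map_mul, mul_pow,
      ihy, ihz, one_mul]
  | inv y hy ih =>
    rw [show (⟨y⁻¹, _⟩ : Subgroup.closure S) = (⟨y, hy⟩ : Subgroup.closure S)⁻¹ from rfl, map_inv,
      inv_pow, ih, inv_one]


/-- For every prime p and every n, a Sylow p-subgroup P of the symmetric group on n letters has P/P' elementary abelian (the p-th power of every element of P lies in the derived subgroup of P), and the same holds for a Sylow p-subgroup of the alternating group on n letters. -/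
theorem result (p : ℕ) [Fact p.Prime] (n : ℕ) (P : Sylow p (Equiv.Perm (Fin n))) (Q : Sylow p (alternatingGroup (Fin n))) :
    (∀ x : (P : Subgroup (Equiv.Perm (Fin n))), x ^ p ∈ commutator (P : Subgroup (Equiv.Perm (Fin n)))) ∧
    (∀ x : (Q : Subgroup (alternatingGroup (Fin n))), x ^ p ∈ commutator (Q : Subgroup (alternatingGroup (Fin n)))) := by
  classical
  obtain ⟨S, T, hS, hT, hc, hTc⟩ := exists_generators p n
  set W := Subgroup.closure S with hW
  have hcard : Nat.card W = p ^ (Nat.card (Equiv.Perm (Fin n))).factorization p := by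
    rw [Nat.card_perm, Nat.card_fin, Nat.factorization_def _ Fact.out, hc]
  let W' : Sylow p (Equiv.Perm (Fin n)) := Sylow.ofCard W hcard
  constructor
  · intro x
    obtain ⟨g, hg⟩ := MulAction.exists_smul_eq (Equiv.Perm (Fin n)) W' P
    refine pow_mem_commutator p _ ((fun y => g * y * g⁻¹) '' S) ?_ ?_ x
    · rintro _ ⟨y, hy, rfl⟩
      rw [conj_pow, hS y hy, mul_one, mul_inv_cancel]
    · rw [← hg, Sylow.coe_subgroup_smul, Subgroup.pointwise_smul_def]
      show Subgroup.closure ((MulAut.conj g).toMonoidHom '' S) =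
        (Subgroup.closure S).map (MulAut.conj g).toMonoidHom
      exact (MonoidHom.map_closure _ S).symm
  · intro x
    obtain ⟨P', hP'⟩ := (Q.isPGroup'.map (alternatingGroup (Fin n)).subtype).exists_le_sylow
    obtain ⟨g, hg⟩ := MulAction.exists_smul_eq (Equiv.Perm (Fin n)) W' P'
    have hsub : (Q : Subgroup (alternatingGroup (Fin n))).map (alternatingGroup (Fin n)).subtype = (P' : Subgroup (Equiv.Perm (Fin n))) ⊓ (alternatingGroup (Fin n)) := by
      refine le_antisymm (le_inf hP' (Subgroup.map_subtype_le _)) fun y hy => ?_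
      have h1 : (Q : Subgroup (alternatingGroup (Fin n))) = (P' : Subgroup (Equiv.Perm (Fin n))).comap (alternatingGroup (Fin n)).subtype :=
        (Q.is_maximal' (P'.isPGroup'.comap_of_injective _ (alternatingGroup (Fin n)).subtype_injective)
          (Subgroup.map_le_iff_le_comap.1 hP')).symm
      exact ⟨⟨y, hy.2⟩, h1 ▸ hy.1, rfl⟩
    have hgen : Subgroup.closure ((fun y => g * y * g⁻¹) '' T) =
        (Q : Subgroup (alternatingGroup (Fin n))).map (alternatingGroup (Fin n)).subtype := by
      rw [hsub, ← hg, Sylow.coe_subgroup_smul, Subgroup.pointwise_smul_def]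
      show Subgroup.closure ((MulAut.conj g).toMonoidHom '' T) =
        (Subgroup.closure S).map (MulAut.conj g).toMonoidHom ⊓ (alternatingGroup (Fin n))
      rw [← MonoidHom.map_closure, hTc, Subgroup.map_inf _ _ _ (MulAut.conj g).injective]
      congr 1
      exact Subgroup.Normal.map_conj_eq (H := alternatingGroup (Fin n)) g
    obtain ⟨T', hT', hT'c⟩ : ∃ T' : Set (alternatingGroup (Fin n)), (∀ y ∈ T', y ^ p = 1) ∧
        Subgroup.closure T' = (Q : Subgroup (alternatingGroup (Fin n))) := by
      refine ⟨(alternatingGroup (Fin n)).subtype ⁻¹' ((fun y => g * y * g⁻¹) '' T), ?_, ?_⟩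
      · rintro y ⟨z, hz, e⟩
        refine Subtype.ext ?_
        rw [Subgroup.coe_pow, show (y : Equiv.Perm (Fin n)) = g * z * g⁻¹ from e.symm, conj_pow,
          hT z hz, mul_one, mul_inv_cancel, Subgroup.coe_one]
      · refine Subgroup.map_injective (alternatingGroup (Fin n)).subtype_injective ?_
        rw [MonoidHom.map_closure, Set.image_preimage_eq_of_subset, hgen]
        rintro _ ⟨z, hz, rfl⟩
        have hzA : z ∈ (alternatingGroup (Fin n)) := ((le_of_eq hTc) (Subgroup.subset_closure hz)).2
        exact ⟨⟨_, (inferInstance : (alternatingGroup (Fin n)).Normal).conj_mem z hzA g⟩, rfl⟩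
    exact pow_mem_commutator p _ T' hT' hT'c x

end Cfsg.Agent.S4623
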