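import Cfsg.Statements.S4625
import Cfsg.Agent.LieSylowTwo.Classical
import Cfsg.Agent.LieSylowTwo.Exceptional

set_option autoImplicit false
open Cfsg

namespace Cfsg.Agent.S4625

/-- Let G be a finite simple group of Lie type in characteristic 2, not counting the Tits group ²F₄(2)′. Then a Sylow 2-subgroup P of G has P/P' elementary abelian: the square of every element of P lies in the derived subgroup of P. -/
theorem result {G : Type*} [Group G] [Finite G] [IsSimpleGroup G] (hG : Cfsg.IsLieTypeChar 2 G) (P : Sylow 2 G) :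
    ∀ x : (P : Subgroup G), x ^ 2 ∈ commutator (P : Subgroup G) := by
  revert P
  show LieSylowTwo.Good G
  rcases hG with h | h | h | h | h | h | h | h | h | h | h
  · obtain ⟨F, _, _, _, n, -, -, ⟨e⟩⟩ := h
    exact LieSylowTwo.good_of_surjective e.symm.toMonoidHom e.symm.surjective (LieSylowTwo.good_psl n)
  · obtain ⟨F, _, _, _, m, -, -, ⟨e⟩⟩ := h
    exact LieSylowTwo.good_of_surjective e.symm.toMonoidHom e.symm.surjective (LieSylowTwo.good_psp m)
  · obtain ⟨F, _, _, _, n, q, hF, hn, -, ⟨e⟩⟩ := h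
    exact LieSylowTwo.good_of_surjective e.symm.toMonoidHom e.symm.surjective
      (LieSylowTwo.good_psu n q (by omega) hF)
  · obtain ⟨F, _, _, _, m, -, hodd, -⟩ := h
    obtain ⟨f, -, hf⟩ := FiniteField.card F 2
    exact absurd (hf ▸ hodd) (by simp [Nat.odd_pow_iff f.ne_zero, Nat.odd_iff])
  · obtain ⟨F, _, _, _, m, hm, ⟨e⟩⟩ := h
    obtain ⟨j, rfl⟩ : ∃ j, m = j + 1 := ⟨m - 1, by omega⟩
    exact LieSylowTwo.good_of_surjective e.symm.toMonoidHom e.symm.surjective
      (LieSylowTwo.good_omega_plus j (by omega))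
  · obtain ⟨F, _, _, _, m, a, b, hm, hab, ⟨e⟩⟩ := h
    exact LieSylowTwo.good_of_surjective e.symm.toMonoidHom e.symm.surjective
      (LieSylowTwo.good_omega_minus (m - 1) (by omega) a b hab)
  · obtain ⟨F, _, _, _, h⟩ := h
    exact LieSylowTwo.good_exceptional (F := F) (h.imp_left And.right)
  · obtain ⟨K, _, _, _, q, hq, h⟩ := h
    exact LieSylowTwo.good_twisted hq h
  · obtain ⟨F, _, _, m, hm, hF, ⟨e⟩⟩ := h.2
    exact LieSylowTwo.good_of_surjective e.symm.toMonoidHom e.symm.surjective (LieSylowTwo.good_suzuki hm hF)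
  · obtain ⟨F, _, _, m, hm, hF, ⟨e⟩⟩ := h.2
    haveI : CharP F 2 := Chev.ReeF4.charP_two hF
    exact LieSylowTwo.good_of_surjective e.symm.toMonoidHom e.symm.surjective (LieSylowTwo.good_ree hm hF)
  · exact absurd h.1 (by norm_num)

end Cfsg.Agent.S4625
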