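import Cfsg.Statements.S4626
import Cfsg.Agent.CharArith.Central
import Cfsg.Agent.Char.Linear
import Mathlib.GroupTheory.Sylow
import Mathlib.RingTheory.Coprime.Lemmas
-- import your own Cfsg.Agent.* helpers here

set_option autoImplicit false
open Cfsg

namespace Cfsg.Agent.S4626

/-- Let G be a finite group, p a prime, M a maximal ideal of the algebraic integers containing p, P a Sylow p-subgroup of G and N a normal subgroup of index prime to p containing the centralizer C_G(P). Then every irreducible character of G whose kernel contains N lies in the principal p-block of G. -/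
theorem result {G : Type*} [Group G] [Finite G] (p : ℕ) [Fact p.Prime] (M : Ideal Cfsg.AlgInt) (hM : Cfsg.IsPModular p M) (P : Sylow p G) (N : Subgroup G) [N.Normal] (hidx : ¬ p ∣ N.index)
    (hC : Subgroup.centralizer ((P : Subgroup G) : Set G) ≤ N) (χ : Cfsg.IrrCharacter G) (hker : ∀ n ∈ N, (χ : G → ℂ) n = (χ : G → ℂ) 1) :
    χ ∈ Cfsg.principalBlock M G := by
  classical
  have hp : p.Prime := Fact.out
  have := Fintype.ofFinite G
  set d := Cfsg.charDegree (χ : G → ℂ) with hd
  have hχ1 : (χ : G → ℂ) 1 = (d : ℂ) := (CharArith.irr_degree_spec χ).1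
  obtain ⟨-, hMax, hpM⟩ := hM
  have hone : (1 : Cfsg.AlgInt) ∉ M := fun h => hMax.ne_top (M.eq_top_iff_one.2 h)
  obtain ⟨φ, hφ, he⟩ := Char.IsIrr.exists_quotient N χ.2 hker
  have hdφ : d = Cfsg.charDegree φ := by
    simp only [hd, Cfsg.charDegree, he 1, QuotientGroup.mk_one]
  have hpd : ¬ p ∣ d := fun h => hidx (by
    rw [Subgroup.index_eq_card]
    exact (hdφ ▸ h).trans (CharArith.charDegree_dvd_card hφ))
  have hdM : (d : Cfsg.AlgInt) ∉ M := by
    intro h
    obtain ⟨u, v, huv⟩ := Int.isCoprime_iff_gcd_eq_one.2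
      (show Int.gcd (p : ℤ) (d : ℤ) = 1 from hp.coprime_iff_not_dvd.2 hpd)
    refine hone ?_
    have h1 := M.add_mem (M.mul_mem_left (u : Cfsg.AlgInt) hpM) (M.mul_mem_left (v : Cfsg.AlgInt) h)
    rw [← Int.cast_natCast, ← Int.cast_natCast (n := d), ← Int.cast_mul, ← Int.cast_mul,
      ← Int.cast_add, huv, Int.cast_one] at h1
    exact h1
  show Cfsg.SameBlock M (fun _ : G => (1 : ℂ)) (χ : G → ℂ)
  intro g
  set C := Subgroup.centralizer ({g} : Set G) with hC'
  by_cases hdvd : p ∣ C.index
  · obtain ⟨w, hw⟩ := hdvd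
    refine ⟨(p : Cfsg.AlgInt) * ((w : Cfsg.AlgInt) * ((d : Cfsg.AlgInt) -
      ⟨(χ : G → ℂ) g, Char.IsChar.isIntegral (Char.IsIrr.isCharacter χ.2) g⟩)), d,
      M.mul_mem_right _ hpM, hdM, ?_⟩
    simp only [Cfsg.centralChar, hχ1, ← hC', hw, Nat.cast_mul]
    push_cast
    have hd0 : (d : ℂ) ≠ 0 := Nat.cast_ne_zero.2 (CharArith.irr_degree_spec χ).2.ne'
    field_simp
  · obtain ⟨R⟩ := Sylow.nonempty (p := p) (G := C)
    have hRcard : Nat.card ((R : Subgroup C).map C.subtype) = p ^ (Nat.card G).factorization p := by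
      rw [Nat.card_congr ((R : Subgroup C).equivMapOfInjective _ C.subtype_injective).toEquiv.symm,
        R.card_eq_multiplicity]
      congr 1
      rw [← C.card_mul_index, Nat.factorization_mul Nat.card_pos.ne' Subgroup.index_ne_zero_of_finite,
        Finsupp.add_apply, Nat.factorization_eq_zero_of_not_dvd hdvd, add_zero]
    let R' : Sylow p G := Sylow.ofCard ((R : Subgroup C).map C.subtype) hRcard
    obtain ⟨x, hx⟩ := MulAction.exists_smul_eq G R' P
    have hgC : x * g * x⁻¹ ∈ Subgroup.centralizer ((P : Subgroup G) : Set G) := by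
      rw [Subgroup.mem_centralizer_iff]
      intro y hy
      rw [← hx, Sylow.coe_subgroup_smul, SetLike.mem_coe,
        Subgroup.mem_pointwise_smul_iff_inv_smul_mem] at hy
      obtain ⟨c, -, hc⟩ := Subgroup.mem_map.1 hy
      have hcc : (c : G) * g = g * (c : G) := Subgroup.mem_centralizer_singleton_iff.1 c.2
      have hy' : y = x * (c : G) * x⁻¹ := by
        rw [show (c : G) = x⁻¹ * y * x by simpa [MulAut.smul_def] using hc]
        group
      rw [hy']
      calc x * (c : G) * x⁻¹ * (x * g * x⁻¹) = x * ((c : G) * g) * x⁻¹ := by group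
        _ = x * (g * (c : G)) * x⁻¹ := by rw [hcc]
        _ = x * g * x⁻¹ * (x * (c : G) * x⁻¹) := by group
    have hg1 : (χ : G → ℂ) g = (χ : G → ℂ) 1 := by
      rw [← Char.isClassFunction_of_isIrr χ.2 g x]
      exact hker _ (hC hgC)
    refine ⟨0, 1, M.zero_mem, hone, ?_⟩
    simp [Cfsg.centralChar, hg1, Char.IsIrr.one_ne_zero χ.2]

end Cfsg.Agent.S4626
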