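import Cfsg.Agent.G2Zorn.InvolCentralizer
import Cfsg.Agent.GroupSub.GL2Two
import Mathlib.GroupTheory.Sylow
import Mathlib.GroupTheory.Abelianization.Defs

/-!
The abelianisation of a Sylow 2-subgroup of G₂(q), q odd, is elementary abelian.
-/

set_option autoImplicit false

namespace Cfsg.Agent.S4632

open Matrix Cfsg.Agent.G2Zorn
open scoped commutatorElement
open Cfsg.Agent.GroupSub (exists_parts)

variable {F : Type*} [Field F]

local notation "G" => GL (Fin 2) F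
local notation:1024 "↥ₘ" A:1024 => ((A : GL (Fin 2) F) : Matrix (Fin 2) (Fin 2) F)

open GroupSub.GL2Two in
theorem exists_det_neg_one [Fintype F] (hF : Odd (Fintype.card F)) :
    ∃ m ∈ QK F, (↥ₘ m).det = -1 := by
  classical
  have : Fact (Nat.Prime 2) := ⟨Nat.prime_two⟩
  obtain ⟨a, b, hab⟩ := @FiniteField.exists_root_sum_quadratic F _ _ _
    (Polynomial.X ^ 2 : Polynomial F) (Polynomial.X ^ 2 - Polynomial.C (-1 : F))
    (Polynomial.degree_X_pow 2) (Polynomial.degree_X_pow_sub_C (by decide) _) (Nat.odd_iff.1 hF)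
  simp at hab
  let m₀ : G := Matrix.GeneralLinearGroup.mkOfDetNeZero !![a, -b; b, a]
    (by rw [det_fin_two_of]; intro e; exact one_ne_zero (show (1 : F) = 0 by linear_combination hab - e))
  have hm : ↥ₘ m₀ = !![a, -b; b, a] := rfl
  have hd : (↥ₘ m₀).det = -1 := by rw [hm, det_fin_two_of]; linear_combination hab
  obtain ⟨zp, w, hzw, hz, hw, -, ⟨k, hk⟩, r, hr, hwr⟩ := exists_parts 2 m₀
  refine ⟨zp, ⟨Subgroup.zpowers_le.2 (mem_cJ.2 (by simp [hm])) hz, k, hk⟩, ?_⟩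
  have e1 : (↥ₘ zp).det ^ 2 ^ k = 1 := by rw [← Matrix.det_pow, ← Units.val_pow_eq_pow_val, hk]; simp
  have e2 : (↥ₘ w).det ^ r = 1 := by rw [← Matrix.det_pow, ← Units.val_pow_eq_pow_val, hwr]; simp
  have e3 : (↥ₘ zp).det * (↥ₘ w).det = -1 := by rw [← Matrix.det_mul, ← Units.val_mul, ← hzw, hd]
  have h2k : Even (2 ^ (k + 1)) := by simp [Nat.even_pow]
  have e4 : (↥ₘ w).det ^ 2 ^ (k + 1) = 1 := by
    have := congrArg (· ^ 2 ^ (k + 1)) e3
    simp only [mul_pow] at this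
    rw [show (↥ₘ zp).det ^ 2 ^ (k + 1) = 1 by rw [pow_succ, pow_mul, e1, one_pow], one_mul,
      h2k.neg_one_pow] at this
    exact this
  have e5 : (↥ₘ w).det = 1 :=
    orderOf_eq_one_iff.1 (Nat.eq_one_of_dvd_coprimes (Nat.Coprime.pow_left (k + 1) hr)
      (orderOf_dvd_of_pow_eq_one e4) (orderOf_dvd_of_pow_eq_one e2))
  rwa [e5, mul_one] at e3

open GroupSub.GL2Two in
variable (F) in
/-- The 2-subgroup of the pairs. -/
noncomputable def PX : Subgroup (G × G) := ((Qs F).prod (Qs F)) ⊓ Xg F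

variable (F) in
/-- Its image. -/
noncomputable def P0 : Subgroup (GL (Fin 8) F) := (PX F).map Φ

open GroupSub.GL2Two

theorem mem_PX {A B : G} (hA : A ∈ Qs F) (hB : B ∈ Qs F) (hd : (↥ₘ A).det = (↥ₘ B).det) :
    (A, B) ∈ PX F :=
  ⟨⟨hA, hB⟩, mem_Xg.2 hd⟩

theorem isPGroup_P0 : IsPGroup 2 (P0 F) := by
  have hPX : IsPGroup 2 (PX F) := by
    rintro ⟨⟨A, B⟩, hAB⟩
    obtain ⟨i, hi⟩ := isPGroup_Qs (F := F) ⟨A, hAB.1.1⟩
    obtain ⟨j, hj⟩ := isPGroup_Qs (F := F) ⟨B, hAB.1.2⟩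
    have hi' : A ^ 2 ^ i = 1 := congrArg Subtype.val hi
    have hj' : B ^ 2 ^ j = 1 := congrArg Subtype.val hj
    refine ⟨i + j, Subtype.ext ?_⟩
    show (A, B) ^ 2 ^ (i + j) = 1
    rw [Prod.pow_mk, pow_add, pow_mul, hi', mul_comm (2 ^ i), pow_mul, hj', one_pow, one_pow]
    rfl
  exact hPX.map Φ

theorem P0_le : P0 F ≤ Lie.G2 F := by
  rintro _ ⟨p, hp, rfl⟩
  exact Φ_mem hp.2

theorem negOne_mem_Qs : (-1 : G) ∈ Qs F := by
  have h : GroupSub.GL2Two.J F * GroupSub.GL2Two.J F = (-1 : G) := by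
    refine Units.ext ?_
    ext a b; fin_cases a <;> fin_cases b <;>
      simp [Matrix.mul_apply, Matrix.vecMul, dotProduct, Fin.sum_univ_two]
  rw [← h]
  exact Or.inl (mul_mem J_mem_QK J_mem_QK)

theorem z_mem_P0 : z F ∈ P0 F := by
  rw [z, P0]
  exact Subgroup.mem_map_of_mem Φ (mem_PX (one_mem _) negOne_mem_Qs (mem_Xg.1 negOne_mem_Xg))

theorem J_det : (↥ₘ(GroupSub.GL2Two.J F)).det = 1 := by simp

theorem eM_det : (↥ₘ(eM F)).det = -1 := by simp

variable [Fintype F]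

theorem eq_of_central (hF : Odd (Fintype.card F)) (h2 : (2 : F) ≠ 0) {x : GL (Fin 8) F}
    (hx : x ∈ P0 F) (hc : ∀ y ∈ P0 F, x * y = y * x) : x = 1 ∨ x = z F := by
  obtain ⟨⟨A, B⟩, ⟨⟨hA, hB⟩, hAB⟩, rfl⟩ := hx
  obtain ⟨m, hm, hmd⟩ := exists_det_neg_one hF
  have hem : eM F * m ∈ Qs F := mul_mem eM_mem_Qs (Or.inl hm)
  have hemd : (↥ₘ(eM F * m)).det = 1 := by rw [Units.val_mul, Matrix.det_mul, eM_det, hmd]; ring
  have key : ∀ {A B : G}, (∀ w ∈ Qs F, (↥ₘ w).det = 1 → Φ (A, B) * Φ (w, 1) = Φ (w, 1) * Φ (A, B)) →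
      ∃ a : F, ↥ₘ A = Matrix.scalar (Fin 2) a := by
    intro A B h
    have hcomm : ∀ w ∈ Qs F, (↥ₘ w).det = 1 → A * w = w * A := fun w hw hd => by
      have h1 := h w hw hd
      rw [← map_mul, ← map_mul, ← inv_mul_eq_one, ← map_inv, ← map_mul] at h1
      have h2 := fst_eq_snd h1
      simp only [Prod.fst_mul, Prod.fst_inv, Prod.snd_mul, Prod.snd_inv, one_mul, mul_one,
        inv_mul_cancel] at h2
      exact inv_mul_eq_one.1 h2
    have hJ := hcomm _ (Or.inl J_mem_QK) J_det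
    refine scalar_of_comm h2 hJ ?_
    have hAm : A * m = m * A := cJ_comm (Subgroup.mem_centralizer_singleton_iff.2 hJ) hm.1
    have h1 := hcomm _ hem hemd
    rw [← mul_assoc, mul_assoc (eM F) m A, ← hAm, ← mul_assoc] at h1
    exact mul_right_cancel h1
  obtain ⟨a, ha⟩ := key (A := A) (B := B) fun w hw hd => hc _
    ⟨(w, 1), mem_PX hw (one_mem _) (by rw [hd]; simp), rfl⟩
  have hsw : ∀ w ∈ Qs F, (↥ₘ w).det = 1 → B * w = w * B := fun w hw hd => by
    have h1 := hc _ ⟨(1, w), mem_PX (one_mem _) hw (by rw [hd]; simp), rfl⟩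
    rw [← map_mul, ← map_mul, ← inv_mul_eq_one, ← map_inv, ← map_mul] at h1
    have h2 := fst_eq_snd h1
    simp only [Prod.fst_mul, Prod.fst_inv, Prod.snd_mul, Prod.snd_inv, one_mul, mul_one,
      inv_mul_cancel] at h2
    exact inv_mul_eq_one.1 h2.symm
  obtain ⟨b, hb⟩ : ∃ b : F, ↥ₘ B = Matrix.scalar (Fin 2) b := by
    have hJ := hsw _ (Or.inl J_mem_QK) J_det
    refine scalar_of_comm h2 hJ ?_
    have hAm : B * m = m * B := cJ_comm (Subgroup.mem_centralizer_singleton_iff.2 hJ) hm.1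
    have h1 := hsw _ hem hemd
    rw [← mul_assoc, mul_assoc (eM F) m B, ← hAm, ← mul_assoc] at h1
    exact mul_right_cancel h1
  have hd := mem_Xg.1 hAB
  simp only [ha, hb] at hd
  simp [Matrix.scalar_apply, Matrix.det_diagonal] at hd
  rcases (sq_eq_sq_iff_eq_or_eq_neg).1 hd with hd | hd
  · left
    have : B = A := Units.ext (by rw [ha, hb, hd])
    rw [this]
    exact Φ_scalar_pair ha
  · right
    have hBA : B = A * (-1) := Units.ext (by
      simp only [Units.val_mul, Units.val_neg, Units.val_one, mul_neg, mul_one, ha, hb, hd, map_neg, neg_neg])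
    rw [hBA, show (A, A * (-1)) = (A, A) * ((1 : G), (-1 : G)) by simp, map_mul, Φ_scalar_pair ha, one_mul]
    rfl

theorem exists_sylow (hF : Odd (Fintype.card F)) (h2 : (2 : F) ≠ 0) :
    ∃ S : Sylow 2 (Lie.G2 F), (S : Subgroup (Lie.G2 F)) = (P0 F).subgroupOf (Lie.G2 F) := by
  classical
  have : Fact (Nat.Prime 2) := ⟨Nat.prime_two⟩
  have hX : ¬ 2 ∣ (PX F).relIndex (Xg F) := by
    obtain ⟨S, hS⟩ := exists_sylow_eq_Qs (F := F) h2
    have hW : ¬ 2 ∣ ((Qs F).prod (Qs F)).index := by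
      rw [Subgroup.index_prod, ← hS, Nat.prime_two.dvd_mul]
      exact fun h => h.elim S.not_dvd_index S.not_dvd_index
    intro h
    refine hW ?_
    set W := (Qs F).prod (Qs F)
    rw [PX, Subgroup.inf_relIndex_right] at h
    have hn : (Xg F).Normal := by unfold Xg; infer_instance
    have hdvd : (Xg F).relIndex W ∣ (Xg F).index := Subgroup.relIndex_dvd_index_of_normal _ _
    obtain ⟨t, ht⟩ := hdvd
    have e1 := Subgroup.relIndex_mul_index (inf_le_left : W ⊓ Xg F ≤ W)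
    have e2 := Subgroup.relIndex_mul_index (inf_le_right : W ⊓ Xg F ≤ Xg F)
    rw [Subgroup.inf_relIndex_right, ← e1, inf_comm, Subgroup.inf_relIndex_right, ht] at e2
    have hpos : (Xg F).relIndex W ≠ 0 := Subgroup.index_ne_zero_of_finite
    have e3 : W.relIndex (Xg F) * t = W.index := by
      refine mul_left_cancel₀ hpos ?_
      rw [← e2]; ring
    exact e3 ▸ h.mul_right t
  set G2' := Lie.G2 F
  set H := (P0 F).subgroupOf G2' with hH
  have hHp : IsPGroup 2 H := isPGroup_P0.comap_of_injective _ (Subgroup.subtype_injective _)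
  set C := (Lie.G2 F ⊓ Subgroup.centralizer ({z F} : Set (GL (Fin 8) F))) with hC
  have hPC : ¬ 2 ∣ (P0 F).relIndex C := by
    have hmap : (Xg F).map Φ = C := by
      refine le_antisymm ?_ ?_
      · rintro _ ⟨p, hp, rfl⟩
        exact ⟨Φ_mem hp, Subgroup.mem_centralizer_singleton_iff.2 (commute_z p)⟩
      · rintro g ⟨hg, hgz⟩
        obtain ⟨p, hp, rfl⟩ := exists_preimage h2 hg (Subgroup.mem_centralizer_singleton_iff.1 hgz)
        exact ⟨p, hp, rfl⟩
    intro h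
    refine hX (h.trans ?_)
    rw [← hmap, P0]
    have e := Subgroup.index_map_dvd ((PX F).subgroupOf (Xg F)) (MonoidHom.subgroupMap_surjective Φ (Xg F))
    have e' : ((PX F).subgroupOf (Xg F)).map (Φ.subgroupMap (Xg F)) =
        ((PX F).map Φ).subgroupOf ((Xg F).map Φ) := by
      ext ⟨y, hy⟩
      constructor
      · rintro ⟨⟨p, hp⟩, hpP, e⟩
        exact ⟨p, hpP, congrArg Subtype.val e⟩
      · rintro ⟨p, hp, e⟩
        exact ⟨⟨p, hp.2⟩, hp, Subtype.ext e⟩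
    rw [e'] at e
    exact e
  have hN : Subgroup.normalizer (H : Set G2') ≤
      (Subgroup.centralizer ({z F} : Set (GL (Fin 8) F))).subgroupOf G2' := by
    intro n hn
    rw [Subgroup.mem_subgroupOf, Subgroup.mem_centralizer_singleton_iff]
    let zz : G2' := ⟨z F, P0_le z_mem_P0⟩
    have hzH : zz ∈ H := z_mem_P0
    have h1 : (n : GL (Fin 8) F) * z F * (n : GL (Fin 8) F)⁻¹ ∈ P0 F :=
      (Subgroup.mem_normalizer_iff.1 hn zz).1 hzH
    have h3 : ∀ y ∈ P0 F, (n : GL (Fin 8) F) * z F * (n : GL (Fin 8) F)⁻¹ * y =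
        y * ((n : GL (Fin 8) F) * z F * (n : GL (Fin 8) F)⁻¹) := fun y hy => by
      have hy' := (Subgroup.mem_normalizer_iff.1 (inv_mem hn) ⟨y, P0_le hy⟩).1 hy
      obtain ⟨p, -, hp⟩ : (n : GL (Fin 8) F)⁻¹ * y * (n : GL (Fin 8) F) ∈ P0 F := by
        simpa [hH, Subgroup.mem_subgroupOf] using hy'
      have hcz : (n : GL (Fin 8) F)⁻¹ * y * (n : GL (Fin 8) F) * z F =
          z F * ((n : GL (Fin 8) F)⁻¹ * y * (n : GL (Fin 8) F)) := hp ▸ commute_z p
      calc (n : GL (Fin 8) F) * z F * (n : GL (Fin 8) F)⁻¹ * y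
          = (n : GL (Fin 8) F) * (z F * ((n : GL (Fin 8) F)⁻¹ * y * (n : GL (Fin 8) F))) *
              (n : GL (Fin 8) F)⁻¹ := by group
        _ = (n : GL (Fin 8) F) * ((n : GL (Fin 8) F)⁻¹ * y * (n : GL (Fin 8) F) * z F) *
              (n : GL (Fin 8) F)⁻¹ := by rw [hcz]
        _ = _ := by group
    rcases eq_of_central hF h2 h1 h3 with e | e
    · exfalso
      exact z_ne_one h2 (conj_eq_one_iff.1 e)
    · exact mul_inv_eq_iff_eq_mul.1 e
  have hrel : ¬ 2 ∣ H.relIndex (Subgroup.normalizer (H : Set G2')) := by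
    intro h
    refine hPC (h.trans ?_)
    have e : H.relIndex ((Subgroup.centralizer ({z F} : Set (GL (Fin 8) F))).subgroupOf G2') =
        (P0 F).relIndex C := by
      rw [hH, hC, Subgroup.subgroupOf, Subgroup.relIndex_comap, Subgroup.subgroupOf_map_subtype,
        inf_comm]
    rw [← e, ← Subgroup.relIndex_mul_relIndex _ _ _ Subgroup.le_normalizer hN]
    exact dvd_mul_right _ _
  obtain ⟨n, hn⟩ := IsPGroup.iff_card.1 hHp
  have hidx : ¬ 2 ∣ H.index := fun h => by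
    have e := Sylow.card_quotient_normalizer_modEq_card_quotient hn
    refine hrel ?_
    have h0 : Nat.card (G2' ⧸ H) ≡ 0 [MOD 2] := Nat.modEq_zero_iff_dvd.2 h
    exact Nat.modEq_zero_iff_dvd.1 (e.trans h0)
  exact ⟨hHp.toSylow hidx, rfl⟩

theorem sq_mem (hF : Odd (Fintype.card F)) (h2 : (2 : F) ≠ 0) :
    ∀ x ∈ P0 F, x * x ∈ ⁅P0 F, P0 F⁆ := by
  obtain ⟨m, hm, hmd⟩ := exists_det_neg_one hF
  have hem : eM F * m ∈ Qs F := mul_mem eM_mem_Qs (Or.inl hm)
  have hemd : (↥ₘ(eM F * m)).det = 1 := by rw [Units.val_mul, Matrix.det_mul, eM_det, hmd]; ring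
  have hc1 : ∀ k ∈ QK F, Φ (k * (eM F * k⁻¹ * eM F), 1) ∈ ⁅P0 F, P0 F⁆ ∧
      Φ (1, k * (eM F * k⁻¹ * eM F)) ∈ ⁅P0 F, P0 F⁆ := by
    intro k hk
    have hkk : Φ (k, k) ∈ P0 F := Subgroup.mem_map_of_mem Φ (mem_PX (Or.inl hk) (Or.inl hk) rfl)
    have e : ⁅k, eM F * m⁆ = k * (eM F * k⁻¹ * eM F) := by
      have hkm : m * k⁻¹ = k⁻¹ * m := cJ_comm hm.1 (inv_mem hk.1)
      rw [commutatorElement_def, _root_.mul_inv_rev, eM_inv]
      calc k * (eM F * m) * k⁻¹ * (m⁻¹ * eM F) = k * (eM F * (m * k⁻¹) * m⁻¹ * eM F) := by group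
        _ = _ := by rw [hkm]; group
    constructor
    · have h := Subgroup.commutator_mem_commutator hkk
        (Subgroup.mem_map_of_mem Φ (mem_PX hem (one_mem _) (by rw [hemd]; simp) : (eM F * m, 1) ∈ PX F))
      rw [← map_commutatorElement] at h
      have e' : ⁅(k, k), (eM F * m, (1 : G))⁆ = (k * (eM F * k⁻¹ * eM F), 1) := by
        rw [← e]; refine Prod.ext ?_ ?_ <;> simp [commutatorElement_def]
      rwa [e'] at h
    · have h := Subgroup.commutator_mem_commutator hkk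
        (Subgroup.mem_map_of_mem Φ (mem_PX (one_mem _) hem (by rw [hemd]; simp) : (1, eM F * m) ∈ PX F))
      rw [← map_commutatorElement] at h
      have e' : ⁅(k, k), ((1 : G), eM F * m)⁆ = (1, k * (eM F * k⁻¹ * eM F)) := by
        rw [← e]; refine Prod.ext ?_ ?_ <;> simp [commutatorElement_def]
      rwa [e'] at h
  have hkey : ∀ A ∈ Qs F, ∃ c u : G, (Φ (c, 1) ∈ ⁅P0 F, P0 F⁆ ∧ Φ (1, c) ∈ ⁅P0 F, P0 F⁆) ∧
      A * A = c * u ∧ ∃ ε : F, (ε = 1 ∨ ε = -1) ∧
        ↥ₘ u = Matrix.scalar (Fin 2) (ε * (↥ₘ A).det) := by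
    intro A hA
    rcases hA with hA | hA
    · refine ⟨_, eM F * A * eM F * A, hc1 A hA, ?_, 1, Or.inl rfl, by rw [one_mul, conj_eM_mul hA.1]⟩
      calc A * A = A * ((eM F * A * eM F)⁻¹ * (eM F * A * eM F)) * A := by rw [inv_mul_cancel, mul_one]
        _ = _ := by rw [_root_.mul_inv_rev, _root_.mul_inv_rev, eM_inv]; group
    · refine ⟨1, A * A, ⟨by rw [Prod.mk_one_one, map_one]; exact one_mem _,
        by rw [Prod.mk_one_one, map_one]; exact one_mem _⟩, (one_mul _).symm, -1, Or.inr rfl, ?_⟩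
      have e : A * A = eM F * (eM F * A) * eM F * (eM F * A) := by
        rw [← mul_assoc (eM F) (eM F), eM_sq, one_mul, mul_assoc A, ← mul_assoc (eM F) (eM F), eM_sq, one_mul]
      rw [e, conj_eM_mul hA.1, Units.val_mul (eM F), Matrix.det_mul, eM_det]
  have hz : z F ∈ ⁅P0 F, P0 F⁆ := by
    have e : GroupSub.GL2Two.J F * (eM F * (GroupSub.GL2Two.J F)⁻¹ * eM F) = (-1 : G) := by
      have : eM F * (GroupSub.GL2Two.J F)⁻¹ * eM F = GroupSub.GL2Two.J F := by
        refine eq_of_inv_mul_eq_one' ?_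
        refine Units.ext ?_
        rw [show (eM F * (GroupSub.GL2Two.J F)⁻¹ * eM F)⁻¹ = eM F * GroupSub.GL2Two.J F * eM F by
          rw [_root_.mul_inv_rev, _root_.mul_inv_rev, inv_inv, eM_inv, mul_assoc]]
        rw [Units.val_mul, conj_eM_entries (Subgroup.mem_centralizer_singleton_iff.2 rfl)]
        ext a b
        fin_cases a <;> fin_cases b <;> simp [Matrix.mul_apply, Matrix.vecMul, dotProduct, Fin.sum_univ_two]
      rw [this]
      refine Units.ext ?_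
      ext a b; fin_cases a <;> fin_cases b <;>
        simp [Matrix.mul_apply, Matrix.vecMul, dotProduct, Fin.sum_univ_two]
    have h := (hc1 _ J_mem_QK).2
    rwa [e] at h
  rintro _ ⟨⟨A, B⟩, ⟨⟨hA, hB⟩, hAB⟩, rfl⟩
  obtain ⟨c, u, ⟨hc, -⟩, eA, ε, hε, hu⟩ := hkey A hA
  obtain ⟨c', v, ⟨-, hc'⟩, eB, ε', hε', hv⟩ := hkey B hB
  have hd := mem_Xg.1 hAB
  have hsplit : Φ (A, B) * Φ (A, B) = Φ (c, 1) * Φ (1, c') * Φ (u, v) := by
    simp only [← map_mul, Prod.mk_mul_mk, one_mul, mul_one, eA, eB]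
  rw [hsplit]
  refine mul_mem (mul_mem hc hc') ?_
  by_cases hεε : ε = ε'
  · have : u = v := Units.ext (by rw [hu, hv, hεε, hd])
    rw [this, Φ_scalar_pair hv]
    exact one_mem _
  · have hne : ε' = -ε := by rcases hε with rfl | rfl <;> rcases hε' with rfl | rfl <;> simp_all
    have : v = u * (-1) := Units.ext (by
      simp only [Units.val_mul, Units.val_neg, Units.val_one, mul_neg, mul_one, hu, hv, hne, ← map_neg, neg_mul, hd])
    rw [this, show (u, u * (-1)) = (u, u) * ((1 : G), (-1 : G)) by simp, map_mul, Φ_scalar_pair hu, one_mul]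
    exact hz
where
  eq_of_inv_mul_eq_one' {a b : G} (h : a⁻¹ * b = 1) : a = b := inv_mul_eq_one.1 h

/-- The statement. -/
theorem result {F : Type*} [Field F] [Fintype F] (hF : Odd (Fintype.card F)) (P : Sylow 2 (Cfsg.Lie.G2 F)) : ∀ x : (P : Subgroup (Cfsg.Lie.G2 F)), x ^ 2 ∈ commutator (P : Subgroup (Cfsg.Lie.G2 F)) := by
  classical
  have : Fact (Nat.Prime 2) := ⟨Nat.prime_two⟩
  have h2 : (2 : F) ≠ 0 := Ring.two_ne_zero (fun h => by
    have h' := FiniteField.even_card_iff_char_two.1 h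
    rw [Nat.odd_iff] at hF
    omega)
  obtain ⟨S, hS⟩ := exists_sylow hF h2
  obtain ⟨g, hg⟩ := MulAction.exists_smul_eq (Lie.G2 F) S P
  set c : GL (Fin 8) F →* GL (Fin 8) F := (MulAut.conj (g : GL (Fin 8) F)).toMonoidHom
  have hmap : (P : Subgroup (Lie.G2 F)).map (Lie.G2 F).subtype = (P0 F).map c := by
    rw [← hg, Sylow.coe_subgroup_smul, hS]
    ext y
    constructor
    · rintro ⟨w, ⟨v, hv, rfl⟩, rfl⟩
      exact ⟨(v : GL (Fin 8) F), hv, rfl⟩
    · rintro ⟨v, hv, rfl⟩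
      exact ⟨_, ⟨⟨v, P0_le hv⟩, hv, rfl⟩, rfl⟩
  rintro ⟨x, hx⟩
  have hxm : (x : GL (Fin 8) F) ∈ (P0 F).map c := hmap ▸ ⟨x, hx, rfl⟩
  obtain ⟨y, hy, hyx⟩ := hxm
  have h := Subgroup.mem_map_of_mem c (sq_mem hF h2 y hy)
  rw [Subgroup.map_commutator, ← hmap, ← Subgroup.map_commutator, map_mul, hyx] at h
  have h' : x * x ∈ ⁅(P : Subgroup (Lie.G2 F)), (P : Subgroup (Lie.G2 F))⁆ :=
    (Subgroup.mem_map_iff_mem (Subgroup.subtype_injective _)).1 h
  rw [← Subgroup.map_subtype_commutator] at h'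
  refine (Subgroup.mem_map_iff_mem (Subgroup.subtype_injective _)).1 ?_
  rw [pow_two]
  exact h'

end Cfsg.Agent.S4632
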