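import Cfsg.Statements.S4634
import Cfsg.Agent.BlockChar.Cyclic.Semidirect
import Cfsg.Agent.CharArith.Basic
-- import your own Cfsg.Agent.* helpers here

set_option autoImplicit false
open Cfsg

namespace Cfsg.Agent.S4634

/-- Let B be a block of the finite group G relative to a maximal ideal M of the algebraic integers containing the prime p, with a nontrivial cyclic defect group P, let c be a block of C_G(P) inducing B, T the stabilizer of c in N_G(P) and e the index of C_G(P) in T. Let F be any finite group of order #P · e having a cyclic subgroup Q of order #P that is its own centralizer (F is then the semidirect product of Q by a cyclic group of order e acting faithfully). Then there is a perfect isometry from the set of all irreducible characters of F onto B whose signs agree on all the characters of F that do not contain Q in their kernel. -/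
theorem result {G : Type*} [Group G] [Finite G] (p : ℕ) [Fact p.Prime] (M : Ideal Cfsg.AlgInt) (hM : Cfsg.IsPModular p M) (B : Set (Cfsg.IrrCharacter G)) (hB : Cfsg.IsPBlock M B) (P : Subgroup G) (hPD : Cfsg.IsDefectGroup p M B P) (hP1 : P ≠ ⊥) (hcyc : IsCyclic P) (c : Set (Cfsg.IrrCharacter (Subgroup.centralizer (P : Set G)))) (hc : Cfsg.IsInducedBlock M (Subgroup.centralizer (P : Set G)) c B) (T : Subgroup G) (hT : ∀ g : G, g ∈ T ↔ (g ∈ Subgroup.normalizer (P : Set G) ∧ Cfsg.StabilizesBlock (Subgroup.centralizer (P : Set G)) c g)) (e : ℕ) (he : (Subgroup.centralizer (P : Set G)).relIndex T = e) (F : Type*) [Group F] [Finite F] (hF : Nat.card F = Nat.card P * e) (Q : Subgroup F) (hQ : IsCyclic Q) (hQcard : Nat.card Q = Nat.card P) (hQC : Subgroup.centralizer (Q : Set F) = Q) : ∃ (I : Cfsg.IrrCharacter F → Cfsg.IrrCharacter G) (ε : Cfsg.IrrCharacter F → ℤ), Cfsg.IsPerfectIsometry p M (Set.univ : Set (Cfsg.IrrCharacter F)) B I ε ∧ ∀ η η' : Cfsg.IrrCharacter F, (∃ x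 ∈ Q, (η : F → ℂ) x ≠ (η : F → ℂ) 1) → (∃ x ∈ Q, (η' : F → ℂ) x ≠ (η' : F → ℂ) 1) → ε η = ε η' := by
  classical
  have := Fintype.ofFinite G
  have := Fintype.ofFinite F
  have hmax := BlockChar.Cyclic.maximal_of_isInducedBlock hM hPD hc
  have hp := hM.1
  have hdvd := BlockChar.Cyclic.relIndex_dvd hM hmax hcyc hT hP1
  obtain ⟨e', he'⟩ : ∃ e', e' = (Subgroup.centralizer (P : Set G)).relIndex T := ⟨_, rfl⟩
  rw [← he'] at hdvd
  obtain rfl : e' = e := he'.trans he
  obtain ⟨k, hk⟩ := hmax.1.1.1.exists_card_eq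
  obtain ⟨hQn, cF, hmaxF, hTF, heF⟩ :=
    BlockChar.Cyclic.semidirect_setup hM hQ (hQcard.trans hk) hdvd (by rw [hF, hQcard]) hQC
  have hQ1 : Q ≠ ⊥ := fun h => hP1 (Subgroup.card_eq_one.1 (by rw [← hQcard, h, Subgroup.card_bot]))
  have hd' := BlockChar.Cyclic.nonempty_isoData hM hmaxF hQ hTF hQ1
  rw [heF] at hd'
  obtain ⟨h'⟩ := hd'
  have hG := BlockChar.Cyclic.nonempty_isoData hM hmax hcyc hT hP1
  rw [he] at hG
  obtain ⟨h⟩ := hG
  have hφ := BlockChar.Cyclic.exists_inertial_match hp hcyc hk h.pos hdvd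
    (mulEquivOfCyclicCardEq hQcard) h.α h.orderOf_α h'.α
    (orderOf_dvd_iff_pow_eq_one.1 h'.orderOf_α.dvd)
  obtain ⟨I, σ, hiso, hXs, hY⟩ := BlockChar.Cyclic.perfect_isometry h h' hM (mulEquivOfCyclicCardEq hQcard)
    (BlockChar.Cyclic.comm_of_cyclic hQ) hφ
  refine ⟨I, σ, hiso, fun η η' hη hη' => ?_⟩
  have hcard : Nat.card (Cfsg.IrrCharacter F) = e' + Nat.card h'.Y := by
    have h1 : (h'.X ∪ h'.Y).ncard = Nat.card (Cfsg.IrrCharacter F) :=
      (congrArg Set.ncard h'.union.symm).trans (Set.ncard_univ _)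
    rw [← h1, Set.ncard_union_eq h'.disjoint (Set.toFinite _) (Set.toFinite _),
      ← Nat.card_coe_set_eq, ← Nat.card_coe_set_eq]
    exact congrArg (· + _) h'.card_X
  obtain ⟨L, hLcard, hL⟩ : ∃ L : Finset (Cfsg.IrrCharacter F), L.card = e' ∧
      ∀ l ∈ L, (l : F → ℂ) 1 = 1 ∧ ∀ x ∈ Q, (l : F → ℂ) x = (l : F → ℂ) 1 := by
    have hcomm : ∀ a b : F ⧸ Q, a * b = b * a := by
      intro a b
      induction a using QuotientGroup.induction_on with
      | H a =>
        induction b using QuotientGroup.induction_on with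
        | H b =>
          rw [← QuotientGroup.mk_mul, ← QuotientGroup.mk_mul, QuotientGroup.eq]
          conv => rw [← hQC]
          rw [Subgroup.mem_centralizer_iff]
          intro x hx
          have h1 : (MulAut.conjNormal (H := Q)) ((a * b)⁻¹ * (b * a)) = 1 := by
            simp only [map_mul, map_inv]
            refine (IsCyclic.mulAutMulEquiv (G := Q)).injective ?_
            simp only [map_mul, map_inv, map_one]
            rw [mul_comm (IsCyclic.mulAutMulEquiv Q ((MulAut.conjNormal (H := Q)) b))]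
            exact inv_mul_cancel _
          have h2 := congrArg Subtype.val (DFunLike.congr_fun h1 ⟨x, hx⟩)
          rw [MulAut.conjNormal_apply, MulAut.one_apply, mul_inv_eq_iff_eq_mul] at h2
          exact h2.symm
    let φ : Cfsg.IrrCharacter (F ⧸ Q) → Cfsg.IrrCharacter F := fun χ =>
      ⟨fun g => (χ : F ⧸ Q → ℂ) (QuotientGroup.mk' Q g),
        Char.isIrrCharacter_comp _ (QuotientGroup.mk'_surjective Q) χ.2⟩
    have hφi : Function.Injective φ := fun a b hab => Subtype.ext (funext fun x => by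
      obtain ⟨g, rfl⟩ := QuotientGroup.mk'_surjective Q x
      exact congrArg (fun l : Cfsg.IrrCharacter F => (l : F → ℂ) g) hab)
    refine ⟨Finset.univ.image φ, ?_, fun l hl => ?_⟩
    · rw [Finset.card_image_of_injective _ hφi, Finset.card_univ, ← Nat.card_eq_fintype_card,
        Char.card_irrCharacter, Nat.card_congr (@ConjClasses.mkEquiv (F ⧸ Q)
          { (inferInstance : Group (F ⧸ Q)) with mul_comm := hcomm }).symm]
      refine mul_left_cancel₀ (Nat.card_pos (α := Q)).ne' ?_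
      rw [← hQcard] at hF
      exact (Q.card_mul_index).trans hF
    · obtain ⟨χ, -, rfl⟩ := Finset.mem_image.1 hl
      refine ⟨?_, fun x hx => ?_⟩
      · show (χ : F ⧸ Q → ℂ) (QuotientGroup.mk' Q 1) = 1
        rw [map_one]
        exact Char.IsIrr.degree_one_of_comm χ.2 hcomm
      · show (χ : F ⧸ Q → ℂ) (QuotientGroup.mk' Q x) = (χ : F ⧸ Q → ℂ) (QuotientGroup.mk' Q 1)
        rw [map_one, QuotientGroup.mk'_apply, (QuotientGroup.eq_one_iff x).2 hx]
  have hnotL : ∀ w : Cfsg.IrrCharacter F, (∃ x ∈ Q, (w : F → ℂ) x ≠ (w : F → ℂ) 1) → w ∉ L :=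
    fun w ⟨x, hxQ, hne⟩ hw => hne ((hL w hw).2 x hxQ)
  have hmem : ∀ w : Cfsg.IrrCharacter F, w ∈ h'.X ∨ w ∈ h'.Y := fun w =>
    (h'.union ▸ Set.mem_univ w : w ∈ h'.X ∪ h'.Y)
  by_cases he1 : e' = 1
  · -- every sign equals the product of the two signs of the exceptional characters
    suffices hall : ∀ w, σ w = h.eps * h'.eps from (hall η).trans (hall η').symm
    have hP : 1 < Nat.card P := (Subgroup.one_lt_card_iff_ne_bot P).2 hP1
    obtain ⟨I', σ', hiso', hX', hY'⟩ : ∃ I' σ', (I' = I ∧ σ' = σ) ∧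
        (∀ χ ∈ h'.X, I' χ ∈ h.X ∧ σ' χ = h.sgn (I' χ) * h'.sgn χ) ∧ ∀ ψ ∈ h'.Y, σ' ψ = h.eps * h'.eps :=
      ⟨I, σ, ⟨rfl, rfl⟩, hXs, fun ψ hψ => (hY ψ hψ).2⟩
    obtain ⟨rfl, rfl⟩ := hiso'
    intro w
    rcases hmem w with hw | hw
    · rw [(hX' w hw).2, h.sgn_eq_neg_eps hp he1 hP (hX' w hw).1,
        h'.sgn_eq_neg_eps hp he1 (by rw [hQcard]; exact hP) hw, neg_mul_neg]
    · exact hY' w hw
  -- at most one character is non-trivial on `Q`, or they are all exceptional
  by_cases heq : η = η'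
  · rw [heq]
  suffices hX : ∀ w : Cfsg.IrrCharacter F, w ∈ h'.X → w ∈ L by
    have hYη : ∀ w : Cfsg.IrrCharacter F, (∃ x ∈ Q, (w : F → ℂ) x ≠ (w : F → ℂ) 1) → w ∈ h'.Y :=
      fun w hw => (hmem w).resolve_left fun hx => hnotL w hw (hX w hx)
    rw [(hY η (hYη η hη)).2, (hY η' (hYη η' hη')).2]
  have hY2 : 1 < Nat.card h'.Y := by
    have h3 : (insert η (insert η' L)).card = e' + 2 := by
      rw [Finset.card_insert_of_notMem, Finset.card_insert_of_notMem (hnotL η' hη'), hLcard]
      simp [heq, hnotL η hη]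
    have h4 := Finset.card_le_univ (insert η (insert η' L))
    rw [h3, ← Nat.card_eq_fintype_card, hcard] at h4
    omega
  have hfree := BlockChar.Cyclic.inertial_free hM hQ hmaxF hTF
  obtain ⟨g, hg⟩ : ∃ g : F, g ∉ Q := by
    by_contra! hall
    have htop : Q = ⊤ := eq_top_iff.2 fun g _ => hall g
    rw [← hQcard, htop, Subgroup.card_top] at hF
    exact he1 (mul_left_cancel₀ Nat.card_pos.ne' (hF.symm.trans (mul_one _).symm))
  have htriv : ∀ l : Cfsg.IrrCharacter F, (l : F → ℂ) 1 = 1 → ∀ x ∈ Q, (l : F → ℂ) x = 1 := by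
    intro l hl x hx
    have hmul := CharArith.linear_mul (Char.IsIrr.isCharacter l.2) hl
    let f : Q → Q := fun a => ⟨g * (a : F) * g⁻¹ * (a : F)⁻¹,
      mul_mem (hQn.conj_mem _ a.2 g) (inv_mem a.2)⟩
    have hf : Function.Injective f := by
      intro a b hab
      have h1 : g * (a : F) * g⁻¹ * (a : F)⁻¹ = g * (b : F) * g⁻¹ * (b : F)⁻¹ := congrArg Subtype.val hab
      have hcm := BlockChar.Cyclic.comm_of_cyclic hQ
      have h2 : g * ((b : F)⁻¹ * a) * g⁻¹ = (b : F)⁻¹ * a := by
        calc g * ((b : F)⁻¹ * a) * g⁻¹ = (g * (b : F) * g⁻¹)⁻¹ * (g * (a : F) * g⁻¹ * (a : F)⁻¹) * a := by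
              group
          _ = (g * (b : F) * g⁻¹)⁻¹ * (g * (b : F) * g⁻¹ * (b : F)⁻¹) * a := by rw [h1]
          _ = _ := by group
      by_contra hne
      refine hg ?_
      rw [← hQC]
      refine hfree g trivial _ (mul_mem (inv_mem b.2) a.2) (fun h3 => hne ?_) h2
      exact Subtype.ext (inv_mul_eq_one.1 h3).symm
    obtain ⟨a, ha⟩ := Finite.injective_iff_surjective.1 hf ⟨x, hx⟩
    rw [← show g * (a : F) * g⁻¹ * (a : F)⁻¹ = x from congrArg Subtype.val ha, hmul, hmul, hmul,
      mul_comm ((l : F → ℂ) g), mul_assoc ((l : F → ℂ) a), ← hmul g g⁻¹, mul_inv_cancel, hl, mul_one,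
      ← hmul, mul_inv_cancel, hl]
  have hLY : ∀ l ∈ L, l ∈ h'.X := by
    intro l hl
    refine (hmem l).resolve_right fun hlY => ?_
    obtain ⟨l', hl', hne⟩ := (Set.one_lt_ncard_iff_nontrivial.1
      (by rwa [← Nat.card_coe_set_eq])).exists_ne l
    refine hne (Subtype.ext (funext fun z => ?_))
    have hregular : ∀ s : F, ¬ p ∣ orderOf s → (l' : F → ℂ) s = (l : F → ℂ) s := fun s hs => by
      have h1 := (h'.relation l' hl' s hs).trans (h'.relation l hlY s hs).symm
      rw [add_left_inj] at h1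
      exact mul_left_cancel₀ (Int.cast_ne_zero.2 (by rcases h'.sign with s | s <;> omega)) h1
    have hl1 : (l' : F → ℂ) 1 = 1 := (hregular 1 (by simp [hp.ne_one])).trans (hL l hl).1
    have hzQ : Blocks.pPartOf p z ∈ Q := by
      rw [← QuotientGroup.eq_one_iff, ← orderOf_eq_one_iff]
      obtain ⟨j, hj⟩ := Blocks.orderOf_pPartOf hp z
      have h1 : orderOf ((Blocks.pPartOf p z : F) : F ⧸ Q) ∣ p ^ j :=
        hj ▸ orderOf_map_dvd (QuotientGroup.mk' Q) _
      have h2 : orderOf ((Blocks.pPartOf p z : F) : F ⧸ Q) ∣ e' := by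
        have h3 : Nat.card (F ⧸ Q) = e' := mul_left_cancel₀ (Nat.card_pos (α := Q)).ne'
          ((Q.card_mul_index).trans (by rw [hF, hQcard]))
        exact h3 ▸ orderOf_dvd_natCard _
      have hpe : ¬ p ∣ e' := fun hd => by
        have := Nat.le_of_dvd (by have := hp.two_le; omega) (hd.trans hdvd); have := hp.two_le; omega
      exact Nat.eq_one_of_dvd_coprimes ((hp.coprime_iff_not_dvd.2 hpe).pow_left j) h1 h2
    have hs := Blocks.not_dvd_orderOf_pPrimePartOf hp z
    rw [← Blocks.pPartOf_mul_pPrimePartOf hp z, CharArith.linear_mul (Char.IsIrr.isCharacter l'.2) hl1,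
      CharArith.linear_mul (Char.IsIrr.isCharacter l.2) (hL l hl).1, htriv l' hl1 _ hzQ,
      htriv l (hL l hl).1 _ hzQ, hregular _ hs]
  intro w hw
  have hXL : (Set.toFinite h'.X).toFinset = L := (Finset.eq_of_subset_of_card_le
    (fun l hl => (Set.Finite.mem_toFinset _).2 (hLY l hl)) (le_of_eq (by
      rw [← Set.ncard_eq_toFinset_card, ← Nat.card_coe_set_eq, h'.card_X, hLcard]))).symm
  rw [← hXL]
  exact (Set.Finite.mem_toFinset _).2 hw

end Cfsg.Agent.S4634
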