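import Cfsg.Statements.S4636
import Mathlib.GroupTheory.Perm.Cycle.Type
-- import your own Cfsg.Agent.* helpers here

set_option autoImplicit false
open scoped Pointwise
open Cfsg

namespace Cfsg.Agent.S4636

/-- Let P be a nontrivial cyclic p-subgroup of the finite group G and Z its subgroup of order p. For every x outside N_G(Z), P meets its conjugate xPx⁻¹ trivially; consequently N_G(Q) ≤ N_G(Z) for every nontrivial subgroup Q of P. -/
theorem result {G : Type*} [Group G] [Finite G] (p : ℕ) [Fact p.Prime] (P : Subgroup G) (hP : IsPGroup p P) (hP1 : P ≠ ⊥) (hcyc : IsCyclic P) (Z : Subgroup G) (hZ : Z ≤ P) (hZcard : Nat.card Z = p) : (∀ x : G, x ∉ Subgroup.normalizer (Z : Set G) → P ⊓ MulAut.conj x • P = ⊥) ∧ ∀ Q : Subgroup G, Q ≤ P → Q ≠ ⊥ → Subgroup.normalizer (Q : Set G) ≤ Subgroup.normalizer (Z : Set G) := by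
  classical
  have hpp : p.Prime := Fact.out
  have hZ1 : ∀ Q : Subgroup G, Q ≤ P → Q ≠ ⊥ → Z ≤ Q := by
    intro Q hQP hQ
    have hQp : IsPGroup p Q := hP.to_le hQP
    obtain ⟨n, hn⟩ := IsPGroup.iff_card.mp hQp
    have hn0 : n ≠ 0 := by
      rintro rfl
      exact hQ (Subgroup.card_eq_one.mp hn)
    obtain ⟨z, hz⟩ := exists_prime_orderOf_dvd_card' (G := Q) p (hn ▸ dvd_pow_self p hn0)
    have hle : Subgroup.zpowers (z : G) ≤ Q := Subgroup.zpowers_le.mpr z.2
    have hcard : Nat.card (Subgroup.zpowers (z : G)) = p := by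
      rw [Nat.card_zpowers, Subgroup.orderOf_coe, hz]
    have : Z = Subgroup.zpowers (z : G) := by
      haveI := hcyc
      refine (Subgroup.eq_of_le_of_card_ge (fun y hy => ?_) (by rw [hcard, hZcard])).symm
      -- every element of order dividing p lies in Z
      have hyP : y ∈ P := hle.trans hQP hy
      have hyp : (⟨y, hyP⟩ : P) ^ p = 1 := by
        apply Subtype.ext
        have h2 := pow_card_eq_one' (G := Subgroup.zpowers (z : G)) (x := ⟨y, hy⟩)
        rw [hcard] at h2
        simpa using congrArg Subtype.val h2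
      by_contra hyZ
      letI := Fintype.ofFinite P
      have hbound := IsCyclic.card_pow_eq_one_le (α := P) hpp.pos
      let S : Finset P := Finset.univ.filter fun a => (a : G) ∈ Z
      have hS : S.card = p := by
        rw [← Fintype.card_subtype, ← Nat.card_eq_fintype_card, ← hZcard]
        exact Nat.card_congr (Subgroup.subgroupOfEquivOfLe hZ).toEquiv
      have hnot : (⟨y, hyP⟩ : P) ∉ S := by simpa [S] using hyZ
      have hsub : insert (⟨y, hyP⟩ : P) S ⊆ Finset.univ.filter fun a : P => a ^ p = 1 := by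
        intro a ha
        rcases Finset.mem_insert.mp ha with rfl | ha
        · simpa using hyp
        · simp only [S, Finset.mem_filter, Finset.mem_univ, true_and] at ha ⊢
          have h2 := pow_card_eq_one' (G := Z) (x := ⟨a, ha⟩)
          rw [hZcard] at h2
          apply Subtype.ext
          simpa using congrArg Subtype.val h2
      have := (Finset.card_le_card hsub).trans hbound
      rw [Finset.card_insert_of_notMem hnot, hS] at this
      omega
    exact this ▸ hle
  have h1 : ∀ x : G, x ∉ Subgroup.normalizer (Z : Set G) → P ⊓ MulAut.conj x • P = ⊥ := by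
    intro x hx
    by_contra h
    apply hx
    have hZx : Z ≤ MulAut.conj x • P := (hZ1 _ inf_le_left h).trans inf_le_right
    have hle : (MulAut.conj x)⁻¹ • Z ≤ P := Subgroup.subset_pointwise_smul_iff.mp hZx
    have hcard : Nat.card ((MulAut.conj x)⁻¹ • Z : Subgroup G) = p := by
      rw [← hZcard]
      exact (Nat.card_congr (Subgroup.equivSMul _ Z).toEquiv).symm
    have hne : (MulAut.conj x)⁻¹ • Z ≠ ⊥ := by
      intro h0
      rw [h0, Subgroup.card_bot] at hcard
      exact hpp.one_lt.ne hcard
    have heq : Z = (MulAut.conj x)⁻¹ • Z :=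
      Subgroup.eq_of_le_of_card_ge (hZ1 _ hle hne) (by rw [hcard, hZcard])
    have heq' : MulAut.conj x • Z = Z := by
      conv_lhs => rw [heq]
      rw [smul_inv_smul]
    rw [Subgroup.mem_normalizer_iff]
    intro z
    conv_rhs => rw [← heq', Subgroup.mem_pointwise_smul_iff_inv_smul_mem]
    simp [MulAut.smul_def, mul_assoc]
  refine ⟨h1, fun Q hQP hQ g hg => ?_⟩
  by_contra hg'
  apply hQ
  rw [← le_bot_iff, ← h1 g hg']
  refine le_inf hQP fun y hy => ?_
  rw [Subgroup.mem_pointwise_smul_iff_inv_smul_mem]
  apply hQP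
  have h := (Subgroup.mem_normalizer_iff''.mp hg y).mp hy
  simpa [MulAut.smul_def, mul_assoc] using h

end Cfsg.Agent.S4636
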