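import Cfsg.Statements.S4642
import Cfsg.Agent.Blocks.PrimeCoreBlock

set_option autoImplicit false
open Cfsg

namespace Cfsg.Agent.S4642

/-- Let G be a finite group, p a prime, M a maximal ideal of the algebraic integers containing p, K the largest normal subgroup of G of order prime to p, and L the preimage in G of the largest normal p-subgroup of G/K. Let Q be a Sylow p-subgroup of L and suppose C_G(Q) ≤ L. Let θ be an irreducible character of K invariant under conjugation by every element of G, and let B be the set of irreducible characters of G whose restriction to K contains θ. Then B is a block of G, every Sylow p-subgroup of G is a defect group of B, and B is of principal type: for every p-subgroup R of G exactly one block of C_G(R) induces B. -/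
theorem result {G : Type*} [Group G] [Fintype G] (p : ℕ) [Fact p.Prime] (M : Ideal Cfsg.AlgInt) (hM : Cfsg.IsPModular p M) (K : Subgroup G) (hK : K = Cfsg.pPrimeCore p G) [Fintype K] (L : Subgroup G) (hL : L = Cfsg.pPrimePCore p G) (Q : Subgroup G) (hQL : Q ≤ L) (hQp : IsPGroup p Q) (hQS : ¬ p ∣ Q.relIndex L) (hCQ : Subgroup.centralizer (Q : Set G) ≤ L) (θ : Cfsg.IrrCharacter K) (hθ : ∀ g : G, Cfsg.IsConjCharOf K g (θ : K → ℂ) (θ : K → ℂ)) (B : Set (Cfsg.IrrCharacter G)) (hBdef : ∀ χ : Cfsg.IrrCharacter G, χ ∈ B ↔ Cfsg.classInner (fun k : K => (χ : G → ℂ) k) (θ : K → ℂ) ≠ 0) : Cfsg.IsPBlock M B ∧ (∀ S : Sylow p G, Cfsg.IsDefectGroup p M B S) ∧ ∀ R : Subgroup G, IsPGroup p R → ∃! f : Set (Cfsg.IrrCharacter (Subgroup.centralizer (R : Set G))), Cfsg.IsInducedBlock M (Subgroup.centralizer (R : Set G)) f B := by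
  classical
  haveI : K.Normal := hK ▸ Core.pPrimeCore_normal
  have hcon : Cfsg.IsPConstrained p G := by
    subst hL
    haveI : (Cfsg.pPrimePCore p G).Normal := @Subgroup.normal_of_characteristic _ _ _
      Coprime.pPrimePCore_characteristic
    set L := Cfsg.pPrimePCore p G
    intro P
    let Q' : Sylow p L := (hQp.comap_of_injective L.subtype L.subtype_injective).toSylow hQS
    obtain ⟨g, hg⟩ := MulAction.exists_smul_eq L Q' P
    intro x hx
    have hconj : (g : G)⁻¹ * x * g ∈ L := by
      refine hCQ (Subgroup.mem_centralizer_iff.2 fun y hy => ?_)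
      have hy' : g * ⟨y, hQL hy⟩ * g⁻¹ ∈ (P : Subgroup L) := by
        rw [← hg, Sylow.coe_subgroup_smul]
        exact Subgroup.mem_map.2 ⟨⟨y, hQL hy⟩, Subgroup.mem_subgroupOf.2 hy, rfl⟩
      have h1 := Subgroup.mem_centralizer_iff.1 hx _ (Subgroup.mem_map_of_mem L.subtype hy')
      simp only [Subgroup.coe_subtype, Subgroup.coe_mul, Subgroup.coe_inv] at h1
      calc y * ((g : G)⁻¹ * x * g) = (g : G)⁻¹ * (((g : G) * y * (g : G)⁻¹) * x) * g := by group
        _ = (g : G)⁻¹ * (x * ((g : G) * y * (g : G)⁻¹)) * g := by rw [h1]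
        _ = (g : G)⁻¹ * x * g * y := by group
    simpa [mul_assoc] using L.mul_mem (L.mul_mem g.2 hconj) (L.inv_mem g.2)
  have hinv : ∀ g : G, Char.conjFun g (θ : K → ℂ) = θ := fun g => funext fun n => by
    rw [Char.conjFun_apply]
    exact hθ g n _ rfl
  obtain ⟨B', hB', hiff, hsyl, -, -⟩ :=
    Blocks.exists_invariant_block_of_pConstrained hM hcon hK θ hinv
  obtain rfl : B' = B := Set.ext fun χ => (hiff χ).trans (hBdef χ).symm
  exact ⟨hB', hsyl, fun R hR =>
    Blocks.existsUnique_inducing_of_pConstrained hM hcon hK θ hinv hB' hBdef hR⟩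

end Cfsg.Agent.S4642
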