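import Cfsg.Statements.S4645
import Cfsg.Agent.BlockChar.Cyclic.Transport
-- import your own Cfsg.Agent.* helpers here

set_option autoImplicit false
open Cfsg

namespace Cfsg.Agent.S4645

/-- Let B be a block of the finite group G relative to a maximal ideal M of the algebraic integers containing the prime p, with a nontrivial cyclic defect group P; let c be a block of C_G(P) inducing B and T the stabilizer of c in N_G(P). Let Q be a nontrivial subgroup of P (so C_G(P) ≤ C_G(Q)), f the block of C_G(Q) induced by c inside C_G(Q), and T' the stabilizer of f in N_G(Q). Then T' = T·C_G(Q), the index of C_G(Q) in T' equals the index of C_G(P) in T, f has p-regular rank 1, and f is a nilpotent block of C_G(Q). -/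
theorem result {G : Type*} [Group G] [Finite G] (p : ℕ) [Fact p.Prime] (M : Ideal Cfsg.AlgInt) (hM : Cfsg.IsPModular p M) (B : Set (Cfsg.IrrCharacter G)) (hB : Cfsg.IsPBlock M B) (P : Subgroup G) (hPD : Cfsg.IsDefectGroup p M B P) (hP1 : P ≠ ⊥) (hcyc : IsCyclic P) (c : Set (Cfsg.IrrCharacter (Subgroup.centralizer (P : Set G)))) (hc : Cfsg.IsInducedBlock M (Subgroup.centralizer (P : Set G)) c B) (T : Subgroup G) (hT : ∀ g : G, g ∈ T ↔ (g ∈ Subgroup.normalizer (P : Set G) ∧ Cfsg.StabilizesBlock (Subgroup.centralizer (P : Set G)) c g)) (Q : Subgroup G) (hQP : Q ≤ P) (hQ1 : Q ≠ ⊥) (f : Set (Cfsg.IrrCharacter (Subgroup.centralizer (Q : Set G)))) (hf : Cfsg.IsInducedBlockIn M (Subgroup.centralizer (Q : Set G)) (Subgroup.centralizer (P : Set G)) c f) (T' : Subgroup G) (hT' : ∀ g : G, g ∈ T' ↔ (g ∈ Subgroup.normalizer (Q : Set G) ∧ Cfsg.StabilizesBlock (Subgroup.centralizer (Q : Set G)) f g)) : T' = T ⊔ Subgroup.centralizer (Q : Set G) ∧ (Subgroup.centralizer (Q : Set G)).relIndex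 T' = (Subgroup.centralizer (P : Set G)).relIndex T ∧ Cfsg.blockRank p f = 1 ∧ Cfsg.IsNilpotentBlock p M f := by
  classical
  have : M.IsMaximal := hM.2.1
  have := Fintype.ofFinite G
  have hmax := BlockChar.Cyclic.maximal_of_isInducedBlock hM hPD hc
  have hCK : Subgroup.centralizer (P : Set G) ≤ Subgroup.centralizer (Q : Set G) :=
    Subgroup.centralizer_le hQP
  have hPK : P ≤ Subgroup.centralizer (Q : Set G) :=
    (BlockChar.Cyclic.le_centralizer_of_cyclic hcyc).trans hCK
  obtain ⟨f₀, hle, hn⟩ := BlockChar.Cyclic.exists_local_pair hM hmax hcyc hQP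
  have := Fintype.ofFinite (Subgroup.centralizer (Q : Set G))
  have hmaxK := BlockChar.Cyclic.maximal_local hM hmax hn hPK hCK
  obtain rfl : f = f₀ := BrauerPairs.block_unique hM
    (BlockChar.pair_of_isInducedBlock hM hmaxK.1.1.1
      (BlockChar.Cyclic.isInducedBlock_resBlock hPK hCK hf)) hmaxK.1
  have hfP : Cfsg.IsPBlock M f := hn.1.2
  have hcycK : IsCyclic (P.subgroupOf (Subgroup.centralizer (Q : Set G))) :=
    (Subgroup.subgroupOfEquivOfLe hPK).isCyclic.2 hcyc
  obtain ⟨x, hxQ, hx1⟩ := Q.bot_or_exists_ne_one.resolve_left hQ1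
  have hfree := BlockChar.Cyclic.inertial_free hM hcyc hmax hT
  have hTQ : T ≤ Subgroup.normalizer (Q : Set G) := fun g hg =>
    BlockChar.Cyclic.mem_normalizer_of_le_cyclic hcyc hQP ((hT g).1 hg).1
  have hCT : Subgroup.centralizer (P : Set G) ≤ T :=
    (BrauerPairs.stabilizer_props hM hmax.1.1.2 hT).2.1
  have hTK : T ⊓ Subgroup.centralizer (Q : Set G) = Subgroup.centralizer (P : Set G) := by
    refine le_antisymm (fun g hg => hfree g hg.1 x (hQP hxQ) hx1 ?_) (le_inf hCT hCK)
    rw [← Subgroup.mem_centralizer_iff.1 hg.2 x hxQ, mul_inv_cancel_right]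
  obtain ⟨-, hKT', -⟩ := BrauerPairs.stabilizer_props hM hfP hT'
  obtain ⟨hfac, hidx⟩ := BrauerPairs.stabilizer_factor hM hmax
    (BlockChar.Cyclic.comm_of_cyclic hcyc) hfP hle hT' hT
  rw [inf_eq_left.2 hTQ, hTK] at hidx
  have hTT' : T ≤ T' := fun y hy => by
    refine (hT' y).2 ((BrauerPairs.conjPair_eq_iff hM hfP y).1 ?_)
    have h1 : BrauerPairs.PairLE p M (BrauerPairs.conjPair y ⟨Q, f⟩)
        (BrauerPairs.conjPair y ⟨P, c⟩) := BrauerPairs.le_conjPair hM hle y
    rw [(BrauerPairs.conjPair_eq_iff hM hmax.1.1.2 y).2 ((hT y).1 hy)] at h1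
    exact BrauerPairs.pair_unique hM hmax.1.1 h1 hle (BrauerPairs.map_conj_eq (hTQ hy))
  have hloc : ∀ g : Subgroup.centralizer (Q : Set G),
      g ∈ Subgroup.normalizer ((P.subgroupOf (Subgroup.centralizer (Q : Set G)) :
        Subgroup (Subgroup.centralizer (Q : Set G))) : Set (Subgroup.centralizer (Q : Set G))) →
      Cfsg.StabilizesBlock (Subgroup.centralizer ((P.subgroupOf (Subgroup.centralizer (Q : Set G)) :
        Subgroup (Subgroup.centralizer (Q : Set G))) : Set (Subgroup.centralizer (Q : Set G))))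
        (BrauerPairs.resBlock hPK hCK c) g →
      g ∈ Subgroup.centralizer ((P.subgroupOf (Subgroup.centralizer (Q : Set G)) :
        Subgroup (Subgroup.centralizer (Q : Set G))) : Set (Subgroup.centralizer (Q : Set G))) := by
    intro g hgN hgst
    obtain ⟨h1, h2⟩ := BlockChar.Cyclic.stab_of_local_stab hM hmax.1.1.2 hPK hCK hgN hgst
    have hgC : (g : G) ∈ Subgroup.centralizer (P : Set G) := by
      rw [← hTK]
      exact ⟨(hT _).2 ⟨h1, h2⟩, g.2⟩
    rw [Subgroup.mem_centralizer_iff]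
    intro u hu
    exact Subtype.ext (Subgroup.mem_centralizer_iff.1 hgC (u : G) hu)
  refine ⟨le_antisymm (fun g hg => ?_) (sup_le hTT' hKT'), hidx, ?_, ?_⟩
  · obtain ⟨y, hy, z, hz, rfl⟩ := hfac g hg
    exact mul_mem (Subgroup.mem_sup_left hy) (Subgroup.mem_sup_right hz)
  · rw [BlockChar.Cyclic.blockRank_eq_relIndex hM hmaxK hcycK
      (BlockChar.Cyclic.mem_pairStab hM hmaxK.1.1.2), Subgroup.relIndex_eq_one]
    intro g hg
    obtain ⟨h1, h2⟩ := (BlockChar.Cyclic.mem_pairStab hM hmaxK.1.1.2 g).1 hg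
    exact hloc g h1 h2
  · exact (BrauerPairs.nilpotent_iff_of_abelian hM hmaxK
      (BlockChar.Cyclic.comm_of_cyclic hcycK)).2 hloc

end Cfsg.Agent.S4645
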