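import Cfsg.Statements.S4647
import Cfsg.Agent.Blocks.MinimalDim
import Cfsg.Agent.BrauerPairs.Basic

set_option autoImplicit false
open Cfsg

namespace Cfsg.Agent.S4647

/-- Let B be a block of the finite group G relative to a maximal ideal M of the algebraic integers containing the prime p, p^a the p-part of the order of G and p^d the order of a defect group D of B. If Σ_{χ ∈ B} χ(1)² = p^(2a−d) (the least possible value), then B is nilpotent. -/
theorem result {G : Type*} [Group G] [Finite G] (p : ℕ) [Fact p.Prime] (M : Ideal Cfsg.AlgInt) (hM : Cfsg.IsPModular p M) (B : Set (Cfsg.IrrCharacter G)) (hB : Cfsg.IsPBlock M B) (D : Subgroup G) (hD : Cfsg.IsDefectGroup p M B D) (a d : ℕ) (ha : (Nat.card G).factorization p = a) (hd : Nat.card D = p ^ d) (hmin : ∑ᶠ χ ∈ B, Cfsg.charDegree (χ : G → ℂ) ^ 2 = p ^ (2 * a - d)) : Cfsg.IsNilpotentBlock p M B := by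
  have := Fintype.ofFinite G
  refine ⟨hB, fun Q e hpair x hx _ hreg => ?_⟩
  obtain ⟨⟨hQ, he⟩, -, hocc⟩ := hpair
  obtain ⟨P, hQP⟩ := hQ.exists_le_sylow
  have : Fintype (Subgroup.centralizer (Q : Set G)) := Fintype.ofFinite _
  obtain ⟨ξ, hξ⟩ := Blocks.IsPBlock.nonempty hM he
  obtain ⟨y, hyC, hy⟩ : ∃ y ∈ Subgroup.centralizer (Q : Set G),
      ¬ Cfsg.MemLocalIdeal M (Cfsg.blockCoeff B y) := by
    by_contra hcon
    simp only [not_exists, not_and, not_not] at hcon
    have h0 := BrauerPairs.brauerOmega_congr hM (f := Cfsg.blockCoeff B) (h := 0)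
      (fun k _ z => Blocks.isClassFunction_blockCoeff B z k)
      (fun _ _ _ => rfl) (fun z hz => by simpa using hcon z hz) ξ
    have hz : Cfsg.brauerOmega Q (0 : G → ℂ) (ξ : Subgroup.centralizer (Q : Set G) → ℂ) = 0 := by
      rw [Cfsg.brauerOmega, finsum_eq_sum_of_fintype]
      exact Finset.sum_eq_zero fun a _ => by simp
    rw [hz, sub_zero] at h0
    have h1 := Blocks.memLocalIdeal_sub hM h0 (hocc ξ hξ)
    rw [sub_sub_cancel] at h1
    exact Blocks.not_memLocalIdeal_one hM h1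
  have hh : ∀ q ∈ Q, x⁻¹ * q * x ∈ (P : Subgroup G) := fun q hq => by
    refine hQP ?_
    have := (Subgroup.mem_normalizer_iff.1 (inv_mem hx) q).1 hq
    rwa [inv_inv] at this
  rw [← ha] at hmin
  obtain ⟨w, hw, hconj⟩ := Blocks.MinimalDim.exists_sylow_element hM hB hD P hd hmin hQP hyC hy hh
  set C := Subgroup.centralizer (Q : Set G)
  set N := Subgroup.normalizer (Q : Set G)
  have hwN : w ∈ N := by
    have hmap : Set.MapsTo (fun q : G => w⁻¹ * q * w) (Q : Set G) (Q : Set G) := fun q hq => by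
      show w⁻¹ * q * w ∈ Q
      rw [← hconj q hq]
      have := (Subgroup.mem_normalizer_iff.1 (inv_mem hx) q).1 hq
      rwa [inv_inv] at this
    have : w⁻¹ ∈ N := Subgroup.mem_normalizer_fintype fun q hq => by
      rw [inv_inv]; exact hmap hq
    simpa using inv_mem this
  have hmem : x * w⁻¹ ∈ C := by
    rw [Subgroup.mem_centralizer_iff]
    intro q hq
    calc q * (x * w⁻¹) = x * (x⁻¹ * q * x) * w⁻¹ := by group
      _ = x * (w⁻¹ * q * w) * w⁻¹ := by rw [hconj q hq]
      _ = x * w⁻¹ * q := by group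
  haveI hCn : (C.subgroupOf N).Normal := inferInstance
  let π := QuotientGroup.mk' (C.subgroupOf N)
  have heq : π ⟨x, hx⟩ = π ⟨w, hwN⟩ := by
    rw [← div_eq_one, ← map_div]
    refine (QuotientGroup.eq_one_iff _).2 ?_
    rw [Subgroup.mem_subgroupOf]
    simpa [div_eq_mul_inv] using hmem
  obtain ⟨n, hn⟩ := P.2 ⟨w, hw⟩
  have hord : orderOf (π ⟨x, hx⟩) ∣ p ^ n := by
    refine orderOf_dvd_of_pow_eq_one ?_
    rw [heq, ← map_pow]
    have e : (⟨w, hwN⟩ : N) ^ p ^ n = 1 := Subtype.ext (by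
      simpa using congrArg Subtype.val hn)
    rw [e, map_one]
  have hord' : orderOf (π ⟨x, hx⟩) ∣ orderOf x := by
    refine (orderOf_map_dvd π ⟨x, hx⟩).trans ?_
    rw [Subgroup.orderOf_mk]
  have hone : π ⟨x, hx⟩ = 1 := by
    rw [← orderOf_eq_one_iff]
    exact Nat.eq_one_of_dvd_coprimes
      ((((Fact.out : p.Prime).coprime_iff_not_dvd).2 hreg).pow_left n) hord hord'
  exact Subgroup.mem_subgroupOf.1 ((QuotientGroup.eq_one_iff _).1 hone)

end Cfsg.Agent.S4647
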