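import Cfsg.Statements.S4649
import Cfsg.Agent.BlockChar.Cyclic.Main
-- import your own Cfsg.Agent.* helpers here

set_option autoImplicit false
open Cfsg

namespace Cfsg.Agent.S4649

/-- A block with cyclic defect group, of a finite group relative to a maximal ideal M of the algebraic integers containing the prime p, is nilpotent if and only if its p-regular rank is 1 (it has a unique irreducible Brauer character). -/
theorem result {G : Type*} [Group G] [Finite G] (p : ℕ) [Fact p.Prime] (M : Ideal Cfsg.AlgInt) (hM : Cfsg.IsPModular p M) (B : Set (Cfsg.IrrCharacter G)) (hB : Cfsg.IsPBlock M B) (P : Subgroup G) (hPD : Cfsg.IsDefectGroup p M B P) (hcyc : IsCyclic P) : Cfsg.IsNilpotentBlock p M B ↔ Cfsg.blockRank p B = 1 := by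
  classical
  have : M.IsMaximal := hM.2.1
  have := Fintype.ofFinite G
  obtain ⟨c, hmax⟩ := BrauerPairs.exists_maximal_on hM hB hPD
  rw [BrauerPairs.nilpotent_iff_of_abelian hM hmax (BlockChar.Cyclic.comm_of_cyclic hcyc),
    BlockChar.Cyclic.blockRank_eq_relIndex hM hmax hcyc
      (BlockChar.Cyclic.mem_pairStab hM hmax.1.1.2), Subgroup.relIndex_eq_one]
  constructor
  · intro h x hx
    obtain ⟨h1, h2⟩ := (BlockChar.Cyclic.mem_pairStab hM hmax.1.1.2 x).1 hx
    exact h x h1 h2
  · intro h x h1 h2
    exact h ((BlockChar.Cyclic.mem_pairStab hM hmax.1.1.2 x).2 ⟨h1, h2⟩)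

end Cfsg.Agent.S4649
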