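import Cfsg.Statements.S4651
import Cfsg.Agent.Blocks.SectionRank
import Cfsg.Agent.Blocks.NormalChains

set_option autoImplicit false
open Cfsg

namespace Cfsg.Agent.S4651

/-- An alternating-sum identity over chains of p-subgroups (the character-count form behind the chain reformulation of Alperin's weight conjecture, which holds unconditionally for the difference k − l). Let b be a block of the finite group G relative to a maximal ideal M of the algebraic integers containing the prime p. Consider the nonempty chains s = {Q_0 < Q_1 < ⋯ < Q_m} of nontrivial p-subgroups of G in which every member is normal in the largest member; let N_G(s) be the intersection of the normalizers of the members (the stabilizer of the chain), and let b_s be the set of irreducible characters of N_G(s) lying in blocks of N_G(s) that induce b. Then #G · (k(b) − l(b)) equals the sum over all such chains s of (−1)^m · #N_G(s) · (k(b_s) − l(b_s)), where k counts irreducible characters and l is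 the p-regular rank; equivalently, k(b) − l(b) is the alternating sum of k(b_s) − l(b_s) over representatives of the conjugacy classes of such chains. -/
theorem result {G : Type*} [Group G] [Finite G] (p : ℕ) [Fact p.Prime] (M : Ideal Cfsg.AlgInt) (hM : Cfsg.IsPModular p M) (b : Set (Cfsg.IrrCharacter G)) (hb : Cfsg.IsPBlock M b) : (Nat.card G : ℤ) * ((Nat.card b : ℤ) - (Cfsg.blockRank p b : ℤ)) = ∑ᶠ s ∈ {s : Finset (Subgroup G) | s.Nonempty ∧ (∀ Q ∈ s, ∀ R ∈ s, Q ≤ R ∨ R ≤ Q) ∧ (∀ Q ∈ s, Q ≠ ⊥ ∧ IsPGroup p Q) ∧ ∃ T ∈ s, ∀ Q ∈ s, Q ≤ T ∧ T ≤ Subgroup.normalizer ((Q : Subgroup G) : Set G)}, (-1 : ℤ) ^ (s.card - 1) * (Nat.card (((⨅ Q ∈ s, Subgroup.normalizer ((Q : Subgroup G) : Set G) : Subgroup G))) : ℤ) * ((Nat.card {ψ : Cfsg.IrrCharacter (((⨅ Q ∈ s, Subgroup.normalizer ((Q : Subgroup G) : Set G) : Subgroup G))) | ∃ β : Set (Cfsg.IrrCharacter (((⨅ Q ∈ s, Subgroup.normalizer ((Q : Subgroup G) : Set G) : Subgroup G)))), ψ ∈ β ∧ Cfsg.IsInducedBlock M (((⨅ Q ∈ s, Subgroup.normalizer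 ((Q : Subgroup G) : Set G) : Subgroup G))) β b} : ℤ) - (Cfsg.blockRank p {ψ : Cfsg.IrrCharacter (((⨅ Q ∈ s, Subgroup.normalizer ((Q : Subgroup G) : Set G) : Subgroup G))) | ∃ β : Set (Cfsg.IrrCharacter (((⨅ Q ∈ s, Subgroup.normalizer ((Q : Subgroup G) : Set G) : Subgroup G)))), ψ ∈ β ∧ Cfsg.IsInducedBlock M (((⨅ Q ∈ s, Subgroup.normalizer ((Q : Subgroup G) : Set G) : Subgroup G))) β b} : ℤ)) := by
  classical
  have := Fintype.ofFinite G
  have : Fact p.Prime := ⟨hM.1⟩
  obtain ⟨χ₀, hχ₀⟩ := Agent.Blocks.IsPBlock.nonempty hM hb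
  set X := Finset.univ.filter (fun x : G => x ≠ 1 ∧ ∃ k : ℕ, orderOf x = p ^ k) with hX
  set f : Subgroup G → ℂ := fun L =>
    @Agent.Blocks.overReg G _ p M ↥L _ (Fintype.ofFinite ↥L) L.subtype (χ₀ : G → ℂ) with hf
  set C := (Set.toFinite {s : Finset (Subgroup G) | Agent.Blocks.NormalChains.IsNChain p s}).toFinset
    with hCdef
  have hC : ∀ s, s ∈ C ↔ Agent.Blocks.NormalChains.IsNChain p s :=
    fun s => Set.Finite.mem_toFinset _
  -- one chain
  have hN : ∀ N : Subgroup G,
      (Nat.card N : ℂ) * ((Nat.card {ψ : Cfsg.IrrCharacter N | ∃ β : Set (Cfsg.IrrCharacter N),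
          ψ ∈ β ∧ Cfsg.IsInducedBlock M N β b} : ℂ) -
        (Cfsg.blockRank p {ψ : Cfsg.IrrCharacter N | ∃ β : Set (Cfsg.IrrCharacter N),
          ψ ∈ β ∧ Cfsg.IsInducedBlock M N β b} : ℂ)) =
      ∑ x ∈ X.filter (fun x => x ∈ N), f (N ⊓ Subgroup.centralizer ({x} : Set G)) := by
    intro N
    haveI : Fintype N := Fintype.ofFinite N
    have hset : {ψ : Cfsg.IrrCharacter N | ∃ β : Set (Cfsg.IrrCharacter N),
        ψ ∈ β ∧ Cfsg.IsInducedBlock M N β b} = Agent.Blocks.over M N.subtype (χ₀ : G → ℂ) :=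
      Set.ext fun ψ => (Agent.Blocks.mem_over_subtype_iff hM N hb hχ₀ ψ).symm
    rw [hset, Agent.Blocks.card_mul_card_sub_blockRank hM]
    refine Finset.sum_bij (fun x _ => (x : G)) (fun x hx => ?_) (fun a _ c _ e => Subtype.ext e)
      (fun g hg => ?_) (fun x hx => ?_)
    · simp only [hX, Finset.mem_filter, Finset.mem_univ, true_and] at hx ⊢
      obtain ⟨h1, k, hk⟩ := hx
      exact ⟨⟨fun e => h1 (Subtype.ext e), k, by rw [Subgroup.orderOf_coe]; exact hk⟩, x.2⟩
    · simp only [hX, Finset.mem_filter, Finset.mem_univ, true_and] at hg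
      obtain ⟨⟨h1, k, hk⟩, hgN⟩ := hg
      refine ⟨⟨g, hgN⟩, ?_, rfl⟩
      simp only [Finset.mem_filter, Finset.mem_univ, true_and]
      exact ⟨fun e => h1 (congrArg Subtype.val e), k, by rwa [Subgroup.orderOf_mk]⟩
    · letI : Fintype ↥(N ⊓ Subgroup.centralizer ({(x : G)} : Set G)) := Fintype.ofFinite _
      refine Agent.Blocks.overReg_eq_of_range Subtype.val_injective
        (Subtype.val_injective.comp Subtype.val_injective) ?_ _
      rw [Subgroup.range_subtype]
      ext g
      simp only [MonoidHom.mem_range, MonoidHom.coe_comp, Function.comp_apply, Subgroup.mem_inf,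
        Subgroup.coe_subtype, Agent.Blocks.mem_centralizer_iff_comm]
      constructor
      · rintro ⟨⟨a, ha⟩, rfl⟩
        exact ⟨a.2, congrArg Subtype.val ((Agent.Blocks.mem_centralizer_iff_comm x a).1 ha)⟩
      · rintro ⟨hgN, hgx⟩
        exact ⟨⟨⟨g, hgN⟩, (Agent.Blocks.mem_centralizer_iff_comm x _).2 (Subtype.ext hgx)⟩, rfl⟩
  -- the whole group
  have hG : (Nat.card G : ℂ) * ((Nat.card b : ℂ) - (Cfsg.blockRank p b : ℂ)) =
      ∑ x ∈ X, f (Subgroup.centralizer ({x} : Set G)) := by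
    have h := Agent.Blocks.card_mul_card_sub_blockRank hM (MonoidHom.id G) (χ₀ : G → ℂ)
    rw [Agent.Blocks.over_id hM hb hχ₀] at h
    rw [h]
    refine Finset.sum_congr rfl fun x _ => ?_
    simp only [hf, MonoidHom.id_comp]
    congr!
  have key : ((Nat.card G : ℤ) * ((Nat.card b : ℤ) - (Cfsg.blockRank p b : ℤ)) : ℂ) =
      ∑ s ∈ C, (-1 : ℂ) ^ (s.card - 1) * ((Nat.card (Agent.Blocks.NormalChains.stab s) : ℂ) *
        ((Nat.card {ψ : Cfsg.IrrCharacter (Agent.Blocks.NormalChains.stab s) |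
            ∃ β : Set (Cfsg.IrrCharacter (Agent.Blocks.NormalChains.stab s)),
            ψ ∈ β ∧ Cfsg.IsInducedBlock M (Agent.Blocks.NormalChains.stab s) β b} : ℂ) -
          (Cfsg.blockRank p {ψ : Cfsg.IrrCharacter (Agent.Blocks.NormalChains.stab s) |
            ∃ β : Set (Cfsg.IrrCharacter (Agent.Blocks.NormalChains.stab s)),
            ψ ∈ β ∧ Cfsg.IsInducedBlock M (Agent.Blocks.NormalChains.stab s) β b} : ℂ))) := by
    push_cast
    rw [hG]
    simp only [hN, Finset.mul_sum, Finset.sum_filter, mul_ite, mul_zero]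
    rw [Finset.sum_comm]
    refine Finset.sum_congr rfl fun x hx => ?_
    rw [← Finset.sum_filter]
    obtain ⟨-, hx1, hxo⟩ := Finset.mem_filter.1 hx
    exact (Agent.Blocks.NormalChains.sum_chains hxo hx1 C hC f).symm
  apply Int.cast_injective (α := ℂ)
  rw [finsum_mem_eq_finite_toFinset_sum _ (Set.toFinite _)]
  push_cast at key ⊢
  rw [key]
  refine Finset.sum_congr ?_ fun s _ => ?_
  · rw [hCdef]
    rfl
  · rw [mul_assoc]
    rfl

end Cfsg.Agent.S4651
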