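import Cfsg.Statements.S4652
import Cfsg.Agent.Blocks.SectionVanish

set_option autoImplicit false
open Cfsg

namespace Cfsg.Agent.S4652

/-- Fix a prime p and a maximal ideal M of the algebraic integers containing p. The defect groups of the principal p-block of a finite group G are exactly the Sylow p-subgroups of G: a subgroup D is a defect group of the principal block if and only if D is a Sylow p-subgroup. -/
theorem result {G : Type*} [Group G] [Fintype G] (p : ℕ) [Fact p.Prime] (M : Ideal Cfsg.AlgInt) (hM : Cfsg.IsPModular p M) (D : Subgroup G) : Cfsg.IsDefectGroup p M (Cfsg.principalBlock M G) D ↔ ∃ S : Sylow p G, (S : Subgroup G) = D := by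
  classical
  have hB := Blocks.isPBlock_principalBlock (G := G) M
  have hd : Cfsg.blockDefect p (Cfsg.principalBlock M G) = (Nat.card G).factorization p := by
    have h1 := BlockChar.minVal_le (p := p) (Blocks.triv_mem_principalBlock (G := G) hM)
    rw [Blocks.charDegree_eq (n := 1) (by simp [Blocks.triv]), Nat.factorization_one] at h1
    have h2 : BlockChar.minVal p (Cfsg.principalBlock M G) = 0 := by simpa using h1
    rw [BlockChar.blockDefect_eq, h2, Nat.sub_zero]
  have hcard : ∀ E, Cfsg.IsDefectGroup p M (Cfsg.principalBlock M G) E →
      Nat.card E = p ^ (Nat.card G).factorization p := fun E hE =>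
    (BlockChar.card_defectGroup hM hB hE).trans (by rw [hd])
  constructor
  · intro hD
    exact ⟨Sylow.ofCard D (hcard D hD), rfl⟩
  · rintro ⟨S, rfl⟩
    obtain ⟨E, hE⟩ := DefectThms.exists_defectGroup hM hB
    obtain ⟨k, hk⟩ := MulAction.exists_smul_eq G (Sylow.ofCard E (hcard E hE)) S
    rw [← hk]
    exact DefectThms.isDefectGroup_conj hE k

end Cfsg.Agent.S4652
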