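import Cfsg.Statements.S4656
import Cfsg.Agent.Blocks.Subpairs

set_option autoImplicit false
open Cfsg

namespace Cfsg.Agent.S4656

/-- Fix a prime p and a maximal ideal M of the algebraic integers containing p. Let (P, e) be a Brauer pair of the finite group G and Q a normal subgroup of P. Then there is exactly one p-block f of C_G(Q) that is stable under conjugation by P and such that e occurs in the Brauer-map image at P of the idempotent of f; that is, exactly one f with (Q, f) normally below (P, e). -/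
theorem result {G : Type*} [Group G] [Fintype G] (p : ℕ) [Fact p.Prime] (M : Ideal Cfsg.AlgInt) (hM : Cfsg.IsPModular p M) (P Q : Subgroup G) (e : Set (Cfsg.IrrCharacter (Subgroup.centralizer (P : Set G)))) (hPe : Cfsg.IsBrauerPair p M P e) (hQP : Q ≤ P) (hPN : P ≤ Subgroup.normalizer (Q : Set G)) : ∃! f : Set (Cfsg.IrrCharacter (Subgroup.centralizer (Q : Set G))), Cfsg.IsNormalSubpair p M Q f P e := by
  classical
  obtain ⟨hP, he⟩ := hPe
  obtain ⟨ξ, hξ⟩ := Blocks.IsPBlock.nonempty hM he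
  have hmap : ∀ u ∈ P, Q.map (MulAut.conj u).toMonoidHom = Q := fun u hu => Subgroup.ext fun r =>
    ⟨by
      rintro ⟨q, hq, rfl⟩
      exact (Subgroup.mem_normalizer_iff.1 (hPN hu) q).1 hq, fun hr =>
      ⟨u⁻¹ * r * u, (Subgroup.mem_normalizer_iff.1 (hPN hu) _).2 (by simpa [mul_assoc] using hr),
        by simp [mul_assoc]⟩⟩
  have hPK := fun u (hu : u ∈ P) => BlockChar.mem_centralizer_iff_conj (hmap u hu)
  have hC : ∀ a : G, a ∈ Subgroup.centralizer (P : Set G) ↔ ∀ u ∈ P, u * a = a * u :=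
    fun a => Subgroup.mem_centralizer_iff
  have hCK : Subgroup.centralizer (P : Set G) ≤ Subgroup.centralizer (Q : Set G) :=
    Subgroup.centralizer_le hQP
  obtain ⟨f, ⟨⟨hf, hfix⟩, hone⟩, huniq⟩ :=
    Blocks.existsUnique_stable_block hM hP hPK hC hCK ξ
  have hω : ∀ f' : Set (Cfsg.IrrCharacter (Subgroup.centralizer (Q : Set G))),
      ∀ ξ' : Cfsg.IrrCharacter (Subgroup.centralizer (P : Set G)),
      Cfsg.brauerOmega P (Cfsg.subgroupBlockCoeff (Subgroup.centralizer (Q : Set G)) f')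
          (ξ' : Subgroup.centralizer (P : Set G) → ℂ) =
        Blocks.omega (ξ' : Subgroup.centralizer (P : Set G) → ℂ)
          fun a => Cfsg.blockCoeff f' ⟨(a : G), hCK a.2⟩ := by
    intro f' ξ'
    rw [Blocks.brauerOmega_eq_omega]
    congr 1
    funext a
    simp only [Cfsg.subgroupBlockCoeff]
    exact dif_pos (hCK a.2)
  refine ⟨f, ⟨⟨hP.to_le hQP, hf⟩, ⟨hP, he⟩, hQP, hPN, fun x hx => ?_, fun ξ' hξ' => ?_⟩, ?_⟩
  · refine ⟨Subgroup.mem_normalizer_iff.2 (hPK x hx), fun χ hχ => ?_⟩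
    refine ⟨Blocks.twistChar (BlockChar.conjIso _ _ x⁻¹ (hPK x⁻¹ (inv_mem hx))) χ, ?_,
      fun k k' hk => ?_⟩
    · exact Eq.subset (hfix ⟨x⁻¹, inv_mem hx⟩) (Set.mem_image_of_mem _ hχ)
    · show (χ : Subgroup.centralizer (Q : Set G) → ℂ) _ = _
      refine congrArg (χ : Subgroup.centralizer (Q : Set G) → ℂ) (Subtype.ext ?_)
      show x⁻¹ * (k' : G) * x⁻¹⁻¹ = k
      rw [hk]; group
  · rw [hω]
    have hcl : Cfsg.IsClassFunction (Subgroup.centralizer (P : Set G))
        fun a => Cfsg.blockCoeff f ⟨(a : G), hCK a.2⟩ := fun a k => by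
      have e : (⟨((k * a * k⁻¹ : Subgroup.centralizer (P : Set G)) : G), hCK (k * a * k⁻¹).2⟩ :
          Subgroup.centralizer (Q : Set G)) =
          ⟨(k : G), hCK k.2⟩ * ⟨(a : G), hCK a.2⟩ * (⟨(k : G), hCK k.2⟩)⁻¹ :=
        Subtype.ext (by simp)
      show Cfsg.blockCoeff f _ = Cfsg.blockCoeff f _
      rw [e, Blocks.isClassFunction_blockCoeff f]
    have := Blocks.memLocalIdeal_add hM (Blocks.memLocalIdeal_omega_sub hM ξ'.2 ξ.2 hcl
      (fun a => Blocks.memLocalRing_blockCoeff hM hf _)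
      (Blocks.IsPBlock.sameBlock hM he hξ' hξ)) hone
    simpa using this
  · rintro f' ⟨⟨-, hf'⟩, -, -, -, hst, hone'⟩
    refine huniq f' ⟨⟨hf', fun u => ?_⟩, by rw [← hω]; exact hone' ξ hξ⟩
    refine Set.eq_of_subset_of_ncard_le ?_ (le_of_eq (Set.ncard_image_of_injective _
      (Function.LeftInverse.injective (g := Blocks.twistChar (BlockChar.conjIso _ _ (u : G)
        (hPK _ u.2)).symm) fun χ => by
          simpa using Blocks.twistChar_symm (BlockChar.conjIso _ _ (u : G) (hPK _ u.2)).symm χ)).symm)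
      f'.toFinite
    rintro _ ⟨χ, hχ, rfl⟩
    obtain ⟨χ', hχ', hconj⟩ := (hst _ (inv_mem u.2)).2 χ hχ
    refine (?_ : Blocks.twistChar _ χ = χ') ▸ hχ'
    refine Subtype.ext (funext fun a => ?_)
    rw [Blocks.twistChar_apply]
    refine (hconj _ a ?_).symm
    show (a : G) = (u : G)⁻¹ * ((u : G) * a * (u : G)⁻¹) * (u : G)⁻¹⁻¹
    group

end Cfsg.Agent.S4656
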