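import Cfsg.Statements.S4657
import Cfsg.Agent.Blocks.BrauerChar

set_option autoImplicit false
open Cfsg

namespace Cfsg.Agent.S4657

/-- Fix a prime p and a maximal ideal M of the algebraic integers containing p. Every Brauer pair (P, e) of the finite group G is a Brauer pair of exactly one p-block B of G. -/
theorem result {G : Type*} [Group G] [Fintype G] (p : ℕ) [Fact p.Prime] (M : Ideal Cfsg.AlgInt) (hM : Cfsg.IsPModular p M) (P : Subgroup G) (e : Set (Cfsg.IrrCharacter (Subgroup.centralizer (P : Set G)))) (hPe : Cfsg.IsBrauerPair p M P e) : ∃! B : Set (Cfsg.IrrCharacter G), Cfsg.IsBrauerPairOf p M B P e := by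
  classical
  have hH : ∀ a : G, a ∈ Subgroup.centralizer (P : Set G) ↔ ∀ u ∈ P, u * a = a * u :=
    fun a => Subgroup.mem_centralizer_iff
  obtain ⟨hP, he⟩ := hPe
  obtain ⟨ξ, hξ⟩ := Blocks.IsPBlock.nonempty hM he
  obtain ⟨B, ⟨hB, hB'⟩, huniq⟩ := (Blocks.isCenHom_res hM hP hH ξ).existsUnique_block hM
  refine ⟨B, ⟨⟨hP, he⟩, hB, fun ξ' hξ' => ?_⟩, fun B' hB'' => ?_⟩
  · obtain ⟨χ, hχ⟩ := Blocks.IsPBlock.nonempty hM hB
    have hc := Blocks.isClassFunction_blockCoeff B
    have hR := Blocks.memLocalRing_blockCoeff hM hB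
    rw [Blocks.brauerOmega_eq_omega]
    have h1 := Blocks.memLocalIdeal_omega_sub hM ξ'.2 ξ.2 (Blocks.isClassFunction_res _ hc)
      (fun a => hR _) (Blocks.IsPBlock.sameBlock hM he hξ' hξ)
    have h2 := hB' χ hχ _ hc hR
    rw [Blocks.omega_blockCoeff, if_pos hχ] at h2
    simpa using Blocks.memLocalIdeal_add hM h1 h2
  · refine huniq B' ⟨hB''.2.1, fun χ hχ f hf hfR => ?_⟩
    obtain ⟨χ', hχ', hiff⟩ := Blocks.inducing_zero_or_one hM hP hH hB''.2.1 ξ
    have hmem : ξ ∈ Blocks.inducing M (Subgroup.centralizer (P : Set G)) B' := fun hd => by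
      have h1 := hB''.2.2 ξ hξ
      rw [Blocks.brauerOmega_eq_omega] at h1
      exact Blocks.not_memLocalIdeal_one hM (by simpa using Blocks.memLocalIdeal_sub hM hd h1)
    have := Blocks.memLocalIdeal_add hM (hχ' f hf hfR)
      (Blocks.memLocalIdeal_omega_sub hM χ'.2 χ.2 hf hfR
        (Blocks.IsPBlock.sameBlock hM hB''.2.1 (hiff.2 hmem) hχ))
    simpa using this

end Cfsg.Agent.S4657
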