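import Cfsg.Statements.S4664
import Cfsg.Agent.Blocks.Projection

set_option autoImplicit false
open Cfsg

namespace Cfsg.Agent.S4664

/-- Fix a prime p and a maximal ideal M of the algebraic integers containing p, and let B be a p-block of the finite group G. Let m be the p'-part of the order of G and η = exp(2πi/m). Then every coefficient of the idempotent of B lies in the cyclotomic field ℚ(η). -/
theorem result {G : Type*} [Group G] [Fintype G] (p : ℕ) [Fact p.Prime] (M : Ideal Cfsg.AlgInt) (hM : Cfsg.IsPModular p M) (B : Set (Cfsg.IrrCharacter G)) (hB : Cfsg.IsPBlock M B) (g : G) : Cfsg.blockCoeff B g ∈ IntermediateField.adjoin ℚ ({Complex.exp (2 * Real.pi * Complex.I / ((Nat.card G / p ^ (Nat.card G).factorization p : ℕ) : ℂ))} : Set ℂ) := by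
  classical
  have hp : p.Prime := Fact.out
  set m : ℕ := Nat.card G / p ^ (Nat.card G).factorization p with hm
  set F := IntermediateField.adjoin ℚ
    ({Complex.exp (2 * Real.pi * Complex.I / (m : ℂ))} : Set ℂ) with hF
  have hη : Complex.exp (2 * Real.pi * Complex.I / (m : ℂ)) ∈ F :=
    IntermediateField.subset_adjoin ℚ _ rfl
  clear_value F
  by_cases hg : p ∣ orderOf g
  · rw [Blocks.blockCoeff_eq_zero_of_dvd hM hB hg]; exact F.zero_mem
  have hm0 : m ≠ 0 := (Nat.ordCompl_pos p Nat.card_pos.ne').ne'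
  have hdvd : orderOf g ∣ m := by
    refine Nat.Coprime.dvd_of_dvd_mul_left
      ((hp.coprime_iff_not_dvd.2 hg).pow_left ((Nat.card G).factorization p)).symm ?_
    rw [hm, Nat.ordProj_mul_ordCompl_eq_self]
    exact orderOf_dvd_natCard g
  have key : ∀ χ : Cfsg.IrrCharacter G, ∀ x : G, orderOf x ∣ m → (χ : G → ℂ) x ∈ F := by
    intro χ x hx
    obtain ⟨n, ρ, hρ⟩ := Char.IsIrr.isCharacter χ.2
    obtain ⟨μ, b, -, hμ, hχ⟩ := Char.exists_eigenbasis ρ x
    rw [← hρ, hχ]
    refine sum_mem fun i _ => ?_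
    have h1 : μ i ^ m = 1 := by
      obtain ⟨c, hc⟩ := hx
      rw [hc, pow_mul, hμ, one_pow]
    have : NeZero m := ⟨hm0⟩
    obtain ⟨j, -, hj⟩ := (Complex.isPrimitiveRoot_exp m hm0).eq_pow_of_pow_eq_one h1
    rw [← hj]
    exact pow_mem hη j
  rw [Blocks.blockCoeff_eq_sum]
  refine F.mul_mem (F.inv_mem (natCast_mem F _)) (sum_mem fun χ _ => ?_)
  split_ifs
  · refine F.mul_mem (key χ 1 (by simp)) ?_
    rw [← Char.IsChar.inv_eq_conj (Char.IsIrr.isCharacter χ.2)]
    exact key χ g⁻¹ (by rwa [orderOf_inv])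
  · exact F.zero_mem

end Cfsg.Agent.S4664
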