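import Cfsg.Statements.S4665
import Cfsg.Agent.CharArith.Basic
import Mathlib.GroupTheory.Sylow
-- import your own Cfsg.Agent.* helpers here

set_option autoImplicit false
open Cfsg

namespace Cfsg.Agent.S4665

/-- Fix a prime p, a maximal ideal M of the algebraic integers containing p, and a p-block B of the finite group G, and let p^a be the p-part of the order of G. Let χ be an integer combination of the irreducible characters in B. If the function that agrees with χ on p-regular elements and vanishes on p-singular elements is again an integer combination of the irreducible characters in B, then p^a divides χ(1). -/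
theorem result {G : Type*} [Group G] [Fintype G] (p : ℕ) [Fact p.Prime] (M : Ideal Cfsg.AlgInt) (hM : Cfsg.IsPModular p M) (B : Set (Cfsg.IrrCharacter G)) (hB : Cfsg.IsPBlock M B) (χ : G → ℂ) (hχ : (∃ n : Cfsg.IrrCharacter G → ℤ, ∀ g : G, χ g = ∑ᶠ ψ ∈ B, (n ψ : ℂ) * (ψ : G → ℂ) g)) (h0 : (∃ n : Cfsg.IrrCharacter G → ℤ, ∀ g : G, Cfsg.pRegularPart p χ g = ∑ᶠ ψ ∈ B, (n ψ : ℂ) * (ψ : G → ℂ) g)) : ∃ k : ℤ, χ 1 = (p ^ (Nat.card G).factorization p : ℂ) * k := by
  classical
  obtain ⟨n, hn⟩ := h0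
  obtain ⟨P⟩ := Sylow.nonempty (p := p) (G := G)
  have hP : Nat.card (P : Subgroup G) = p ^ (Nat.card G).factorization p := P.card_eq_multiplicity
  set θ : G → ℂ := Cfsg.pRegularPart p χ with hθ
  have hval : ∀ y : (P : Subgroup G), θ (y : G) = if y = 1 then χ 1 else 0 := by
    intro y
    simp only [hθ, Cfsg.pRegularPart]
    rcases eq_or_ne y 1 with rfl | hy
    · simp [Cfsg.IsPRegular, (Fact.out : p.Prime).ne_one]
    · obtain ⟨k, hk⟩ := IsPGroup.iff_orderOf.mp P.isPGroup' y
      have hk0 : k ≠ 0 := fun h => hy (orderOf_eq_one_iff.1 (by rw [hk, h, pow_zero]))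
      rw [if_neg hy, if_neg (fun h => h (by rw [Subgroup.orderOf_coe, hk]; exact dvd_pow_self p hk0))]
  have hm : ∀ ψ : Cfsg.IrrCharacter G, ∃ m : ℕ,
      ∑ y : (P : Subgroup G), (ψ : G → ℂ) (y : G) = (Nat.card (P : Subgroup G) : ℂ) * m := by
    intro ψ
    obtain ⟨m, hm⟩ := Char.classInner_isCharacter_eq_natCast
      (Char.isCharacter_res (P : Subgroup G) (Char.IsIrr.isCharacter ψ.2))
      (Char.isCharacter_one (G := (P : Subgroup G)))
    refine ⟨m, ?_⟩
    simp only [Cfsg.classInner, map_one, mul_one] at hm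
    rw [← hm, ← mul_assoc, mul_inv_cancel₀ (Char.card_ne_zero (G := (P : Subgroup G))), one_mul]
  choose m hm using hm
  refine ⟨∑ᶠ ψ ∈ B, n ψ * (m ψ : ℤ), ?_⟩
  have h1 : ∑ y : (P : Subgroup G), θ (y : G) = χ 1 := by
    simp only [hval]
    exact Fintype.sum_ite_eq' 1 (fun _ => χ 1)
  rw [← h1]
  have hBfin : B.Finite := Set.toFinite B
  simp only [finsum_mem_eq_finite_toFinset_sum _ hBfin] at hn ⊢
  simp only [hn]
  rw [Finset.sum_comm, Int.cast_sum, Finset.mul_sum]
  refine Finset.sum_congr rfl fun ψ _ => ?_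
  rw [← Finset.mul_sum, hm ψ, hP, Nat.cast_pow, Int.cast_mul, Int.cast_natCast]
  ring

end Cfsg.Agent.S4665
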