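import Cfsg.Statements.S4666
import Cfsg.Agent.BlockChar.RegInner
import Cfsg.Agent.Blocks.Projection

set_option autoImplicit false
open Cfsg

namespace Cfsg.Agent.S4666

/-- Fix a prime p and a maximal ideal M of the algebraic integers containing p, and a p-block B of the finite group G of defect d. For every integer combination χ of the irreducible characters in B, p^d times the function that agrees with χ on p-regular elements and vanishes elsewhere is again an integer combination of the irreducible characters in B. -/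
theorem result {G : Type*} [Group G] [Fintype G] (p : ℕ) [Fact p.Prime] (M : Ideal Cfsg.AlgInt) (hM : Cfsg.IsPModular p M) (B : Set (Cfsg.IrrCharacter G)) (hB : Cfsg.IsPBlock M B) (χ : G → ℂ) (hχ : (∃ n : Cfsg.IrrCharacter G → ℤ, ∀ g : G, χ g = ∑ᶠ ψ ∈ B, (n ψ : ℂ) * (ψ : G → ℂ) g)) : (∃ n : Cfsg.IrrCharacter G → ℤ, ∀ g : G, (p ^ Cfsg.blockDefect p B : ℂ) * Cfsg.pRegularPart p χ g = ∑ᶠ ψ ∈ B, (n ψ : ℂ) * (ψ : G → ℂ) g) := by
  classical
  obtain ⟨n, hn⟩ := hχ
  have hk : ∀ φ ψ : Cfsg.IrrCharacter G, ∃ k : ℤ, φ ∈ B → Agent.BlockChar.regM p B φ ψ = (k : ℂ) := by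
    intro φ ψ
    by_cases hφ : φ ∈ B
    · obtain ⟨k, hk⟩ := Agent.BlockChar.exists_int_regM hM hφ ψ
      exact ⟨k, fun _ => hk⟩
    · exact ⟨0, fun h => absurd h hφ⟩
  choose k hk using hk
  set S := (Set.toFinite B).toFinset with hS
  refine ⟨fun ψ => ∑ φ ∈ S, n φ * k φ ψ, fun g => ?_⟩
  rw [Agent.Blocks.pRegularPart_apply, hn, finsum_mem_eq_finite_toFinset_sum _ (Set.toFinite B),
    finsum_mem_eq_finite_toFinset_sum _ (Set.toFinite B)]
  simp only [Int.cast_sum, Int.cast_mul, Finset.sum_mul]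
  rw [Finset.sum_comm, mul_ite, mul_zero, Finset.mul_sum]
  have hrow : ∀ φ ∈ S, ∑ ψ ∈ S, (n φ : ℂ) * (k φ ψ : ℂ) * (ψ : G → ℂ) g =
      (n φ : ℂ) * (if p ∣ orderOf g then 0 else (p ^ Cfsg.blockDefect p B : ℂ) * (φ : G → ℂ) g) := by
    intro φ hφ
    have hφB := (Set.toFinite B).mem_toFinset.1 hφ
    have h := Agent.BlockChar.sum_regM_mul hM hB hφB g
    rw [← Finset.sum_filter, show (Finset.univ.filter fun ψ => ψ ∈ B) = S by ext; simp [hS]] at h
    rw [Finset.sum_congr rfl fun ψ _ => show (n φ : ℂ) * (k φ ψ : ℂ) * (ψ : G → ℂ) g =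
      (n φ : ℂ) * (Agent.BlockChar.regM p B φ ψ * (ψ : G → ℂ) g) by rw [hk φ ψ hφB]; ring,
      ← Finset.mul_sum, h]
    by_cases hd : p ∣ orderOf g <;> simp [Cfsg.IsPRegular, hd]
  rw [Finset.sum_congr rfl hrow]
  by_cases hd : p ∣ orderOf g
  · simp [hd]
  · simp only [if_neg hd]
    exact Finset.sum_congr rfl fun φ _ => by ring

end Cfsg.Agent.S4666
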