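import Cfsg.Statements.S4667
import Cfsg.Agent.Blocks.Projection

set_option autoImplicit false
open Cfsg

namespace Cfsg.Agent.S4667

/-- Fix a prime p and a maximal ideal M of the algebraic integers containing p, and a p-block B of the finite group G. The p-regular rank of B (the number of irreducible Brauer characters in B) times the order of G equals the sum over the p-regular elements x of G of Σ_{χ ∈ B} χ(x) χ(x⁻¹) (written with the restriction of χ to p-regular elements, which vanishes at p-singular x). -/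
theorem result {G : Type*} [Group G] [Fintype G] (p : ℕ) [Fact p.Prime] (M : Ideal Cfsg.AlgInt) (hM : Cfsg.IsPModular p M) (B : Set (Cfsg.IrrCharacter G)) (hB : Cfsg.IsPBlock M B) : (Nat.card G : ℂ) * (Cfsg.blockRank p B : ℂ) = ∑ x : G, ∑ᶠ χ ∈ B, Cfsg.pRegularPart p (χ : G → ℂ) x * (χ : G → ℂ) x⁻¹ := by
  classical
  let ev : Cfsg.IrrCharacter G → ((G → ℂ) →ₗ[ℂ] ℂ) := fun χ =>
    { toFun := fun f => Cfsg.classInner f (χ : G → ℂ)
      map_add' := fun f g => Char.classInner_add_left _ _ _
      map_smul' := fun c f => Char.classInner_smul_left _ _ _ }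
  set S := B.toFinite.toFinset with hS
  let P : (G → ℂ) →ₗ[ℂ] (G → ℂ) :=
    ∑ χ ∈ S, (ev χ).smulRight (Cfsg.pRegularPart p (χ : G → ℂ))
  set V := Submodule.span ℂ
    ((fun χ : Cfsg.IrrCharacter G => Cfsg.pRegularPart p (χ : G → ℂ)) '' B) with hV
  have hP : ∀ f, P f = ∑ χ ∈ S,
      Cfsg.classInner f (χ : G → ℂ) • Cfsg.pRegularPart p (χ : G → ℂ) := by
    intro f
    simp [P, ev]
  have hfix : ∀ χ : Cfsg.IrrCharacter G, χ ∈ B →
      P (Cfsg.pRegularPart p (χ : G → ℂ)) = Cfsg.pRegularPart p (χ : G → ℂ) := by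
    intro χ hχ
    rw [hP]
    conv_rhs => rw [Blocks.pRegularPart_eq_sum hM hB hχ]
    funext x
    have e := congrFun (Blocks.pRegularPart_eq_sum hM hB hχ) x
    simp only [Finset.sum_apply, Pi.smul_apply, smul_eq_mul, ite_apply, Pi.zero_apply] at e ⊢
    rw [← Finset.sum_filter, show Finset.univ.filter (· ∈ B) = S by ext; simp [hS]] at e ⊢
    by_cases hx : p ∣ orderOf x
    · rw [Blocks.pRegularPart_apply, if_pos hx] at e
      rw [← e]
      exact Finset.sum_eq_zero fun φ _ => by rw [Blocks.pRegularPart_apply, if_pos hx, mul_zero]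
    · exact Finset.sum_congr rfl fun φ _ => by rw [Blocks.pRegularPart_apply p (φ : G → ℂ), if_neg hx]
  have hproj : LinearMap.IsProj V P := by
    refine ⟨fun f => ?_, fun f hf => ?_⟩
    · rw [hP]
      exact V.sum_mem fun χ hχ => V.smul_mem _
        (Submodule.subset_span ⟨χ, B.toFinite.mem_toFinset.1 hχ, rfl⟩)
    · induction hf using Submodule.span_induction with
      | mem x hx =>
        obtain ⟨χ, hχ, rfl⟩ := hx
        exact hfix χ hχ
      | zero => simp
      | add a b _ _ ha hb => simp [ha, hb]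
      | smul c a _ ha => simp [ha]
  have htr := hproj.trace
  simp only [P, map_sum, LinearMap.trace_smulRight] at htr
  rw [Cfsg.blockRank, ← hV, ← htr, Finset.mul_sum]
  simp only [finsum_mem_eq_finite_toFinset_sum _ B.toFinite]
  rw [Finset.sum_comm]
  refine Finset.sum_congr rfl fun χ _ => ?_
  show (Nat.card G : ℂ) * Cfsg.classInner (Cfsg.pRegularPart p (χ : G → ℂ)) (χ : G → ℂ) = _
  rw [Cfsg.classInner, ← mul_assoc,
    mul_inv_cancel₀ (Nat.cast_ne_zero.2 Nat.card_pos.ne'), one_mul]
  exact Finset.sum_congr rfl fun x _ => by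
    rw [Char.IsChar.inv_eq_conj (Char.IsIrr.isCharacter χ.2)]

end Cfsg.Agent.S4667
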