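import Cfsg.Statements.S4671
import Cfsg.Agent.Blocks.KnorrCover

set_option autoImplicit false
open Cfsg

namespace Cfsg.Agent.S4671

/-- Fix a prime p and a maximal ideal M of the algebraic integers containing p. Let N be a normal subgroup of the finite group G, B a p-block of G and P a defect group of B. Then there is a p-block c of N, stable under conjugation by P and covered by B (some member of B has a constituent in c on restriction to N), such that P ∩ N is a defect group of c. -/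
theorem result {G : Type*} [Group G] [Fintype G] (p : ℕ) [Fact p.Prime] (M : Ideal Cfsg.AlgInt) (hM : Cfsg.IsPModular p M) (N : Subgroup G) [N.Normal] [Fintype N] (B : Set (Cfsg.IrrCharacter G)) (hB : Cfsg.IsPBlock M B) (P : Subgroup G) (hP : Cfsg.IsDefectGroup p M B P) : ∃ c : Set (Cfsg.IrrCharacter N), Cfsg.IsPBlock M c ∧ (∀ x ∈ P, Cfsg.StabilizesBlock N c x) ∧ (∃ χ ∈ B, ∃ θ ∈ c, Cfsg.classInner (fun n : N => (χ : G → ℂ) n) (θ : N → ℂ) ≠ 0) ∧ Cfsg.IsDefectGroup p M c ((P ⊓ N).subgroupOf N) := by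
  classical
  obtain ⟨χ, hχ⟩ := Blocks.IsPBlock.nonempty hM hB
  obtain ⟨η, hη⟩ := Char.exists_constituent_res (N := N) χ.2
  have hb := Blocks.isPBlock_blockOf (M := M) η
  have hηb := Blocks.mem_blockOf_self hM η
  obtain ⟨Q, hQ⟩ := DefectThms.exists_defectGroup hM hb
  obtain ⟨D, hD, hDN, hDst⟩ :=
    Blocks.exists_defectGroup_inf_eq hM hb hQ hB ⟨χ, hχ, η, hηb, hη⟩
  obtain ⟨g, rfl⟩ := DefectThms.exists_defectGroup_conj hM hB hD hP
  have hN : ∀ y, y ∈ N ↔ g * y * g⁻¹ ∈ N := fun y =>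
    ⟨fun h => (inferInstance : N.Normal).conj_mem y h g, fun h => by
      simpa [mul_assoc] using (inferInstance : N.Normal).conj_mem _ h g⁻¹⟩
  set φ := BlockChar.conjIso N N g hN with hφ
  refine ⟨BrauerPairs.mapBlock φ (Cfsg.blockOf M (η : N → ℂ)),
    BrauerPairs.isPBlock_mapBlock φ hb, fun x hx => ?_, ⟨χ, hχ, ?_⟩, ?_⟩
  · refine ⟨?_, fun θ hθ => ?_⟩
    · rw [Subgroup.normalizer_eq_top N]; exact Subgroup.mem_top x
    obtain ⟨d, hd, rfl⟩ := hx
    simp only [MulEquiv.coe_toMonoidHom, MulAut.conj_apply]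
    refine ⟨⟨_, Char.isIrr_conjFun (g * d * g⁻¹)⁻¹ θ.2⟩, ?_, fun k k' hk => ?_⟩
    · refine hDst d⁻¹ (D.inv_mem hd) _ hθ (BrauerPairs.compIrr φ
        ⟨_, Char.isIrr_conjFun (g * d * g⁻¹)⁻¹ θ.2⟩) fun n => ?_
      show (θ : N → ℂ) _ = (θ : N → ℂ) _
      refine congrArg (θ : N → ℂ) (Subtype.ext ?_)
      show (g * d * g⁻¹)⁻¹ * (g * (n : G) * g⁻¹) * (g * d * g⁻¹)⁻¹⁻¹ = g * (d⁻¹ * n * d⁻¹⁻¹) * g⁻¹
      group
    · show Char.conjFun _ (θ : N → ℂ) k' = (θ : N → ℂ) k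
      rw [Char.conjFun_apply]
      refine congrArg (θ : N → ℂ) (Subtype.ext ?_)
      show (g * d * g⁻¹)⁻¹ * (k' : G) * (g * d * g⁻¹)⁻¹⁻¹ = k
      rw [hk]; group
  · refine ⟨BrauerPairs.compIrr φ.symm η, ?_, ?_⟩
    · show BrauerPairs.compIrr φ (BrauerPairs.compIrr φ.symm η) ∈ Cfsg.blockOf M (η : N → ℂ)
      rwa [show BrauerPairs.compIrr φ (BrauerPairs.compIrr φ.symm η) = η from
        (BrauerPairs.compIrrEquiv φ.symm).symm_apply_apply η]
    · have : (BrauerPairs.compIrr φ.symm η : N → ℂ) = Char.conjFun g⁻¹ (η : N → ℂ) :=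
        funext fun n => congrArg (η : N → ℂ) (Subtype.ext (by
          show g⁻¹ * (n : G) * g = g⁻¹ * (n : G) * g⁻¹⁻¹
          rw [inv_inv]))
      rwa [this, ← Char.conjFun_res g⁻¹ (Char.isClassFunction_of_isIrr χ.2),
        Char.classInner_conjFun]
  · convert BrauerPairs.isDefectGroup_mapBlock φ hQ hM.1 using 1
    ext ⟨y, hy⟩
    rw [Subgroup.mem_subgroupOf, Subgroup.mem_inf]
    constructor
    · rintro ⟨⟨d, hd, he⟩, -⟩
      simp only [MulEquiv.coe_toMonoidHom, MulAut.conj_apply] at he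
      have hdN : d ∈ N := (hN d).2 (by rw [he]; exact hy)
      obtain ⟨q, hq, rfl⟩ := (hDN.le ⟨hd, hdN⟩ : d ∈ Q.map N.subtype)
      exact ⟨q, hq, Subtype.ext he⟩
    · rintro ⟨q, hq, he⟩
      refine ⟨⟨q, (hDN.ge ⟨q, hq, rfl⟩).1, ?_⟩, hy⟩
      exact congrArg Subtype.val he

end Cfsg.Agent.S4671
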