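import Cfsg.Statements.S4673
import Cfsg.Agent.Blocks.PPowerStabilizer

set_option autoImplicit false
open Cfsg

namespace Cfsg.Agent.S4673

/-- Fix a prime p and a maximal ideal M of the algebraic integers containing p. Let N ≤ L be normal subgroups of the finite group G with L/N a p-group, let B be a p-block of G covering the p-block c of N (some member of B has a constituent in c on restriction to N), and suppose that N contains a defect group of B. Then the stabilizer T of c in G satisfies T ∩ L = N. -/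
theorem result {G : Type*} [Group G] [Fintype G] (p : ℕ) [Fact p.Prime] (M : Ideal Cfsg.AlgInt) (hM : Cfsg.IsPModular p M) (N L : Subgroup G) [N.Normal] [L.Normal] [Fintype N] (hNL : N ≤ L) (hLN : ∃ k : ℕ, (N.subgroupOf L).index = p ^ k) (B : Set (Cfsg.IrrCharacter G)) (hB : Cfsg.IsPBlock M B) (c : Set (Cfsg.IrrCharacter N)) (hc : Cfsg.IsPBlock M c) (hcov : (∃ χ ∈ B, ∃ θ ∈ c, Cfsg.classInner (fun n : N => (χ : G → ℂ) n) (θ : N → ℂ) ≠ 0)) (hD : ∃ D : Subgroup G, Cfsg.IsDefectGroup p M B D ∧ D ≤ N) (T : Subgroup G) (hT : ∀ x : G, x ∈ T ↔ Cfsg.StabilizesBlock N c x) : T ⊓ L = N := by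
  classical
  have hNn : N.Normal := inferInstance
  ext x
  refine ⟨fun hx => ?_, fun hx => ⟨(hT x).2 ?_, hNL hx⟩⟩
  · obtain ⟨hxT, hxL⟩ := hx
    obtain ⟨χ, hχ, θ, hθ, hcon⟩ := hcov
    obtain ⟨D, hD, hDN⟩ := hD
    have := Fintype.ofFinite L
    have := Fintype.ofFinite (N.subgroupOf L)
    haveI : (N.subgroupOf L).Normal := hNn.subgroupOf L
    obtain ⟨η, hη, hηθ⟩ := Blocks.exists_constituent_over hNL χ θ hcon
    have hb := Blocks.isPBlock_blockOf (M := M) η
    have hηb := Blocks.mem_blockOf_self hM η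
    obtain ⟨Q, hQ⟩ := DefectThms.exists_defectGroup hM hb
    obtain ⟨D₁, hD₁, hD₁L, -⟩ :=
      Blocks.exists_defectGroup_inf_eq hM hb hQ hB ⟨χ, hχ, η, hηb, hη⟩
    obtain ⟨k, hk⟩ := DefectThms.exists_defectGroup_conj hM hB hD hD₁
    have hQN : Q ≤ N.subgroupOf L := by
      intro q hq
      have h1 : (q : G) ∈ D₁ := (hD₁L.ge ⟨q, hq, rfl⟩).1
      rw [← hk] at h1
      obtain ⟨y, hy, he⟩ := h1
      rw [Subgroup.mem_subgroupOf, ← he]
      exact hNn.conj_mem y (hDN hy) k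
    set e := Subgroup.subgroupOfEquivOfLe hNL
    have hc' := BrauerPairs.isPBlock_mapBlock (M := M) e.symm hc
    have hmem : BrauerPairs.compIrr e θ ∈ BrauerPairs.mapBlock e.symm c := by
      show BrauerPairs.compIrr e.symm (BrauerPairs.compIrr e θ) ∈ c
      rwa [show BrauerPairs.compIrr e.symm (BrauerPairs.compIrr e θ) = θ from
        (BrauerPairs.compIrrEquiv e).symm_apply_apply θ]
    have h := Blocks.stabilizer_le_of_pPower hM hLN hc' hb
      ⟨η, hηb, _, hmem, hηθ⟩ hQ hQN (g := ⟨x, hxL⟩) fun φ hφ φ' he => ?_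
    · exact h
    obtain ⟨χ', hχ', hconj⟩ := ((hT x⁻¹).1 (T.inv_mem hxT)).2 _ hφ
    show BrauerPairs.compIrr e.symm φ' ∈ c
    convert hχ' using 1
    refine Subtype.ext (funext fun n => ?_)
    rw [hconj ⟨x * n * x⁻¹, hNn.conj_mem n n.2 x⟩ n
      (show (n : G) = x⁻¹ * (x * n * x⁻¹) * x⁻¹⁻¹ by group)]
    exact he (e.symm n)
  · refine ⟨Subgroup.le_normalizer hx, fun φ hφ => ⟨φ, hφ, fun k k' e => ?_⟩⟩
    rw [show k' = ⟨x, hx⟩ * k * ⟨x, hx⟩⁻¹ from Subtype.ext e]
    exact Char.isClassFunction_of_isIrr φ.2 _ _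

end Cfsg.Agent.S4673
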