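import Cfsg.Statements.S4683
import Cfsg.Agent.Blocks.Rank

set_option autoImplicit false
open Cfsg

namespace Cfsg.Agent.S4683

/-- Fix a prime p and a maximal ideal M of the algebraic integers containing p, a p-block B of the finite group G, a p-element u and a p-block e of C = C_G(u) such that (⟨u⟩, e) is a Brauer pair of B (a Brauer element of B). For χ ∈ B let χ_u be the e-part of the class function c ↦ χ(u c) on C and χ_u' the e-part of c ↦ χ(u⁻¹ c). Then the sum over χ ∈ B and over the p-regular elements s of C of χ_u(s)·χ_u'(s⁻¹) equals the order of C times the p-regular rank of e (the number of irreducible Brauer characters of e). -/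
theorem result {G : Type*} [Group G] [Fintype G] (p : ℕ) [Fact p.Prime] (M : Ideal Cfsg.AlgInt) (hM : Cfsg.IsPModular p M) (B : Set (Cfsg.IrrCharacter G)) (u : G) (hu : ∃ k : ℕ, orderOf u = p ^ k) (e : Set (Cfsg.IrrCharacter (Subgroup.centralizer (Subgroup.zpowers u : Set G)))) (hBe : Cfsg.IsBrauerPairOf p M B (Subgroup.zpowers u) e) : ∑ᶠ χ ∈ B, ∑ᶠ s : Subgroup.centralizer (Subgroup.zpowers u : Set G), Cfsg.pRegularPart p (Cfsg.blockPart e (fun c : Subgroup.centralizer (Subgroup.zpowers u : Set G) => (χ : G → ℂ) (u * c))) s * Cfsg.blockPart e (fun c : Subgroup.centralizer (Subgroup.zpowers u : Set G) => (χ : G → ℂ) (u⁻¹ * c)) s⁻¹ = (Nat.card (Subgroup.centralizer (Subgroup.zpowers u : Set G)) : ℂ) * (Cfsg.blockRank p e : ℂ) := by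
  classical
  have hB : Cfsg.IsPBlock M B := hBe.2.1
  have he : Cfsg.IsPBlock M e := hBe.1.2
  have hH : ∀ a : G, a ∈ (Subgroup.centralizer (Subgroup.zpowers u : Set G)) ↔ u * a = a * u := by
    intro a
    rw [Subgroup.mem_centralizer_iff]
    exact ⟨fun h => h u (Subgroup.mem_zpowers u),
      fun h v ⟨i, hi⟩ => hi ▸ ((show Commute u a from h).zpow_left i).eq⟩
  have hsub : ∀ ψ ∈ e, ψ ∈ Blocks.inducing M (Subgroup.centralizer (Subgroup.zpowers u : Set G)) B := by
    intro ψ hψ hd
    have h1 := hBe.2.2 ψ hψ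
    have e1 : Cfsg.brauerOmega (Subgroup.zpowers u) (Cfsg.blockCoeff B) (ψ : (Subgroup.centralizer (Subgroup.zpowers u : Set G)) → ℂ) =
        Blocks.omega (ψ : (Subgroup.centralizer (Subgroup.zpowers u : Set G)) → ℂ) fun a : (Subgroup.centralizer (Subgroup.zpowers u : Set G)) => Cfsg.blockCoeff B (a : G) := by
      rw [Cfsg.brauerOmega, finsum_eq_sum_of_fintype, Blocks.omega, Finset.sum_div]
    rw [e1] at h1
    exact Blocks.not_memLocalIdeal_one hM (by simpa using Blocks.memLocalIdeal_sub hM hd h1)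
  set W : (Subgroup.centralizer (Subgroup.zpowers u : Set G)) → (Subgroup.centralizer (Subgroup.zpowers u : Set G)) → ℂ := fun y c => ∑ᶠ ψ ∈ e, (ψ : (Subgroup.centralizer (Subgroup.zpowers u : Set G)) → ℂ) y * starRingEnd ℂ ((ψ : (Subgroup.centralizer (Subgroup.zpowers u : Set G)) → ℂ) c) with hW
  have hWsymm : ∀ y c, starRingEnd ℂ (W y c) = W c y := fun y c => by
    simp only [hW, finsum_mem_eq_finite_toFinset_sum _ (Set.toFinite e), map_sum, map_mul,
      Complex.conj_conj]
    exact Finset.sum_congr rfl fun ψ _ => mul_comm _ _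
  have hW0 : ∀ y c : (Subgroup.centralizer (Subgroup.zpowers u : Set G)), ¬ p ∣ orderOf y → p ∣ orderOf c → W y c = 0 := fun y c hy hc =>
    Blocks.weak_orthogonality hM he hy hc
  have hn : (Nat.card (Subgroup.centralizer (Subgroup.zpowers u : Set G)) : ℂ) ≠ 0 := Nat.cast_ne_zero.2 Nat.card_pos.ne'
  -- the Brauer kernel reproduces the kernel of `e`
  have hproj : ∀ (y c' : (Subgroup.centralizer (Subgroup.zpowers u : Set G))), ∑ c, W y c *
      ∑ᶠ φ ∈ Blocks.inducing M (Subgroup.centralizer (Subgroup.zpowers u : Set G)) B, (φ : (Subgroup.centralizer (Subgroup.zpowers u : Set G)) → ℂ) c * starRingEnd ℂ ((φ : (Subgroup.centralizer (Subgroup.zpowers u : Set G)) → ℂ) c') =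
        (Nat.card (Subgroup.centralizer (Subgroup.zpowers u : Set G)) : ℂ) * W y c' := by
    intro y c'
    simp only [hW, finsum_mem_eq_finite_toFinset_sum _ (Set.toFinite e),
      finsum_mem_eq_finite_toFinset_sum _ (Set.toFinite (Blocks.inducing M (Subgroup.centralizer (Subgroup.zpowers u : Set G)) B))]
    simp only [Finset.sum_mul_sum]
    rw [Finset.sum_comm, Finset.mul_sum]
    refine Finset.sum_congr rfl fun ψ hψ => ?_
    rw [Finset.sum_comm, Finset.sum_eq_single_of_mem ψ
      ((Set.Finite.mem_toFinset _).2 (hsub ψ ((Set.Finite.mem_toFinset _).1 hψ))) fun φ _ hne => ?_]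
    · rw [Finset.sum_congr rfl (g := fun c : (Subgroup.centralizer (Subgroup.zpowers u : Set G)) => ((ψ : (Subgroup.centralizer (Subgroup.zpowers u : Set G)) → ℂ) y * starRingEnd ℂ ((ψ : (Subgroup.centralizer (Subgroup.zpowers u : Set G)) → ℂ) c')) *
        (starRingEnd ℂ ((ψ : (Subgroup.centralizer (Subgroup.zpowers u : Set G)) → ℂ) c) * (ψ : (Subgroup.centralizer (Subgroup.zpowers u : Set G)) → ℂ) c)) (fun c _ => by ring), ← Finset.mul_sum,
        Blocks.sum_conj_mul_eq, if_pos rfl]
      ring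
    · rw [Finset.sum_congr rfl (g := fun c : (Subgroup.centralizer (Subgroup.zpowers u : Set G)) => ((ψ : (Subgroup.centralizer (Subgroup.zpowers u : Set G)) → ℂ) y * starRingEnd ℂ ((φ : (Subgroup.centralizer (Subgroup.zpowers u : Set G)) → ℂ) c')) *
        (starRingEnd ℂ ((ψ : (Subgroup.centralizer (Subgroup.zpowers u : Set G)) → ℂ) c) * (φ : (Subgroup.centralizer (Subgroup.zpowers u : Set G)) → ℂ) c)) (fun c _ => by ring), ← Finset.mul_sum,
        Blocks.sum_conj_mul_eq, if_neg hne, mul_zero]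
  rw [Blocks.card_mul_blockRank hM he, finsum_mem_eq_finite_toFinset_sum _ B.toFinite]
  rw [Finset.sum_congr rfl fun χ _ => finsum_eq_sum_of_fintype _]
  rw [Finset.sum_comm]
  refine Finset.sum_congr rfl fun s _ => ?_
  by_cases hs : p ∣ orderOf s
  · rw [if_pos hs]
    exact Finset.sum_eq_zero fun χ _ => by rw [Blocks.pRegularPart_apply, if_pos hs, zero_mul]
  rw [if_neg hs]
  show _ = W s s
  have e2 : ∀ χ : Cfsg.IrrCharacter G,
      Cfsg.pRegularPart p (Cfsg.blockPart e fun c : (Subgroup.centralizer (Subgroup.zpowers u : Set G)) => (χ : G → ℂ) (u * c)) s *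
        Cfsg.blockPart e (fun c : (Subgroup.centralizer (Subgroup.zpowers u : Set G)) => (χ : G → ℂ) (u⁻¹ * c)) s⁻¹ =
      (Nat.card (Subgroup.centralizer (Subgroup.zpowers u : Set G)) : ℂ)⁻¹ * (Nat.card (Subgroup.centralizer (Subgroup.zpowers u : Set G)) : ℂ)⁻¹ * ∑ c' : (Subgroup.centralizer (Subgroup.zpowers u : Set G)), starRingEnd ℂ (W s c') *
        ∑ c : (Subgroup.centralizer (Subgroup.zpowers u : Set G)), W s c * ((χ : G → ℂ) (u * (c : G)) *
          starRingEnd ℂ ((χ : G → ℂ) (u * (c' : G)))) := by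
    intro χ
    rw [Blocks.pRegularPart_apply, if_neg hs, Blocks.blockPart_eq_kernel e,
      Blocks.blockPart_eq_kernel e]
    have e3 : ∑ c : (Subgroup.centralizer (Subgroup.zpowers u : Set G)), (χ : G → ℂ) (u⁻¹ * (c : G)) * W s⁻¹ c =
        starRingEnd ℂ (∑ c : (Subgroup.centralizer (Subgroup.zpowers u : Set G)), (χ : G → ℂ) (u * (c : G)) * W s c) := by
      rw [map_sum]
      refine Fintype.sum_equiv (Equiv.inv (Subgroup.centralizer (Subgroup.zpowers u : Set G))) _ _ fun c => ?_
      rw [Equiv.inv_apply, map_mul, hWsymm,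
        ← Char.IsChar.inv_eq_conj (Char.IsIrr.isCharacter χ.2), mul_inv_rev, Subgroup.coe_inv,
        inv_inv, show (c : G) * u⁻¹ = u⁻¹ * (c : G) from
          ((show Commute u (c : G) from (hH _).1 c.2).inv_left).eq.symm]
      congr 1
      simp only [hW]
      exact finsum_congr fun ψ => finsum_congr fun _ => by
        rw [Char.IsChar.inv_eq_conj (Char.IsIrr.isCharacter ψ.2),
          Char.IsChar.inv_eq_conj (Char.IsIrr.isCharacter ψ.2), mul_comm]
    show (Nat.card (Subgroup.centralizer (Subgroup.zpowers u : Set G)) : ℂ)⁻¹ * (∑ c : (Subgroup.centralizer (Subgroup.zpowers u : Set G)), (χ : G → ℂ) (u * (c : G)) * W s c) *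
      ((Nat.card (Subgroup.centralizer (Subgroup.zpowers u : Set G)) : ℂ)⁻¹ * ∑ c : (Subgroup.centralizer (Subgroup.zpowers u : Set G)), (χ : G → ℂ) (u⁻¹ * (c : G)) * W s⁻¹ c) = _
    rw [e3, map_sum, mul_mul_mul_comm, Finset.sum_mul_sum, Finset.sum_comm]
    simp only [map_mul, Finset.mul_sum]
    exact Finset.sum_congr rfl fun c' _ => Finset.sum_congr rfl fun c _ => by ring
  simp only [e2]
  rw [← Finset.mul_sum, Finset.sum_comm]
  have e4 : ∀ c' : (Subgroup.centralizer (Subgroup.zpowers u : Set G)), ∑ χ ∈ B.toFinite.toFinset, starRingEnd ℂ (W s c') *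
      ∑ c : (Subgroup.centralizer (Subgroup.zpowers u : Set G)), W s c * ((χ : G → ℂ) (u * (c : G)) * starRingEnd ℂ ((χ : G → ℂ) (u * (c' : G)))) =
      (Nat.card (Subgroup.centralizer (Subgroup.zpowers u : Set G)) : ℂ) * (W s c' * starRingEnd ℂ (W s c')) := by
    intro c'
    rw [← Finset.mul_sum, Finset.sum_comm]
    simp only [← Finset.mul_sum]
    by_cases hc' : p ∣ orderOf c'
    · simp [hW0 s c' hs hc']
    rw [← mul_assoc, ← hproj s c', mul_comm]
    congr 1
    refine Finset.sum_congr rfl fun c _ => ?_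
    by_cases hc : p ∣ orderOf c
    · simp [hW0 s c hs hc]
    · rw [← Blocks.section_identity hM hu hH hB hc hc',
        finsum_mem_eq_finite_toFinset_sum _ B.toFinite]
  simp only [e4, ← Finset.mul_sum]
  have e5 : ∑ c' : (Subgroup.centralizer (Subgroup.zpowers u : Set G)), W s c' * starRingEnd ℂ (W s c') = (Nat.card (Subgroup.centralizer (Subgroup.zpowers u : Set G)) : ℂ) * W s s := by
    simp only [hWsymm]
    simp only [hW, finsum_mem_eq_finite_toFinset_sum _ (Set.toFinite e), Finset.sum_mul_sum]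
    rw [Finset.sum_comm, Finset.mul_sum]
    refine Finset.sum_congr rfl fun ψ hψ => ?_
    rw [Finset.sum_comm, Finset.sum_eq_single_of_mem ψ hψ fun φ _ hne => ?_]
    · rw [Finset.sum_congr rfl (g := fun c : (Subgroup.centralizer (Subgroup.zpowers u : Set G)) => ((ψ : (Subgroup.centralizer (Subgroup.zpowers u : Set G)) → ℂ) s * starRingEnd ℂ ((ψ : (Subgroup.centralizer (Subgroup.zpowers u : Set G)) → ℂ) s)) *
        (starRingEnd ℂ ((ψ : (Subgroup.centralizer (Subgroup.zpowers u : Set G)) → ℂ) c) * (ψ : (Subgroup.centralizer (Subgroup.zpowers u : Set G)) → ℂ) c)) (fun c _ => by ring), ← Finset.mul_sum,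
        Blocks.sum_conj_mul_eq, if_pos rfl]
      ring
    · rw [Finset.sum_congr rfl (g := fun c : (Subgroup.centralizer (Subgroup.zpowers u : Set G)) => ((ψ : (Subgroup.centralizer (Subgroup.zpowers u : Set G)) → ℂ) s * starRingEnd ℂ ((φ : (Subgroup.centralizer (Subgroup.zpowers u : Set G)) → ℂ) s)) *
        (starRingEnd ℂ ((ψ : (Subgroup.centralizer (Subgroup.zpowers u : Set G)) → ℂ) c) * (φ : (Subgroup.centralizer (Subgroup.zpowers u : Set G)) → ℂ) c)) (fun c _ => by ring), ← Finset.mul_sum,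
        Blocks.sum_conj_mul_eq, if_neg hne, mul_zero]
  rw [e5]
  field_simp

end Cfsg.Agent.S4683
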