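import Cfsg.Statements.S4694
import Cfsg.Agent.BrauerPairs.DefectZeroQuotient
import Cfsg.Agent.BrauerPairs.Local
-- import your own Cfsg.Agent.* helpers here

set_option autoImplicit false
open Cfsg

namespace Cfsg.Agent.S4694

/-- Fix a prime p and a maximal ideal M of the algebraic integers containing p, a p-block B of the finite group G and a Brauer pair (Q, e) of B. Let T be the stabilizer of e in N_G(Q) and suppose that (Q, e) carries a weight: the block of T whose idempotent is that of e contains an irreducible character χ that is constant on the cosets of Q and whose degree has p-part equal to the p-part of the index of Q in T. Then Z(Q) is a defect group of e as a block of C_G(Q), and Q is the largest normal p-subgroup of T: every p-subgroup of T normalized by T lies in Q. -/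
theorem result {G : Type*} [Group G] [Fintype G] (p : ℕ) [Fact p.Prime] (M : Ideal Cfsg.AlgInt) (hM : Cfsg.IsPModular p M) (B : Set (Cfsg.IrrCharacter G)) (Q : Subgroup G) (e : Set (Cfsg.IrrCharacter (Subgroup.centralizer (Q : Set G)))) (hQe : Cfsg.IsBrauerPairOf p M B Q e) (T : Subgroup G) (hT : ∀ y : G, y ∈ T ↔ y ∈ Subgroup.normalizer (Q : Set G) ∧ Cfsg.StabilizesBlock (Subgroup.centralizer (Q : Set G)) e y) (F' : Set (Cfsg.IrrCharacter T)) (hF' : Cfsg.IsPBlock M F') (hF'e : ∀ t : T, Cfsg.blockCoeff F' t = Cfsg.subgroupBlockCoeff (Subgroup.centralizer (Q : Set G)) e (t : G)) (χ : Cfsg.IrrCharacter T) (hχ : χ ∈ F') (hχQ : ∀ q : G, q ∈ Q → ∀ t : T, ∀ t' : T, (t' : G) = q * (t : G) → (χ : T → ℂ) t' = (χ : T → ℂ) t) (hdeg : (Cfsg.charDegree (χ : T → ℂ)).factorization p + (Nat.card Q).factorization p = (Nat.card T).factorization p) : Cfsg.IsDefectGroup p M e ((Q ⊓ Subgroup.centralizer (Q : Set G)).subgroupOf (Subgroup.centralizer (Q : Set G))) ∧ ∀ R : Subgroup G, R ≤ T → IsPGroup p R → (∀ t ∈ T, t ∈ Subgroup.normalizer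 (R : Set G)) → R ≤ Q := by
  classical
  have he := hQe.1.2
  have hQT : Q ≤ T := fun q hq => (hT q).2 ⟨Subgroup.le_normalizer hq,
    (BrauerPairs.stabilizesBlock_iff hM (Subgroup.le_normalizer hq) he).2 fun k hk x => by
      rw [Set.mem_singleton_iff.1 hk]
      exact BrauerPairs.isInv_sbc_of_mem_centralizer Q e q hq x⟩
  have hCN : Subgroup.centralizer (Q : Set G) ≤ Subgroup.normalizer (Q : Set G) :=
    Subgroup.centralizer_le_normalizer _
  have hCT : Subgroup.centralizer (Q : Set G) ≤ T := fun c hc => (hT c).2 ⟨hCN hc,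
    (BrauerPairs.stabilizesBlock_iff hM (hCN hc) he).2 fun k hk x => by
      rw [Set.mem_singleton_iff.1 hk]
      exact BrauerPairs.isInv_sbc e c hc x⟩
  have : (Q.subgroupOf T).Normal :=
    (Subgroup.normal_subgroupOf_iff_le_normalizer hQT).2 fun t ht => ((hT t).1 ht).1
  have hQp : IsPGroup p (Q.subgroupOf T) :=
    hQe.1.1.comap_of_injective _ (Subgroup.subtype_injective T)
  have hcard : Nat.card (Q.subgroupOf T) = Nat.card Q :=
    Nat.card_congr (Subgroup.subgroupOfEquivOfLe hQT).toEquiv
  have htriv : ∀ q ∈ Q.subgroupOf T, (χ : T → ℂ) q = (χ : T → ℂ) 1 := fun q hq =>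
    hχQ (q : G) (Subgroup.mem_subgroupOf.1 hq) 1 q (by simp)
  refine ⟨?_, fun R hRT hR hRn => ?_⟩
  · have hD := BrauerPairs.isDefectGroup_of_defect_zero_quotient (Q.subgroupOf T) hM hQp hχ
      (BrauerPairs.isPBlock_resBlock hQT hCT he)
      (fun t => by rw [hF'e, BrauerPairs.sbc_resBlock hQT hCT]) htriv (by rw [hcard]; exact hdeg)
    have h := BrauerPairs.isDefectGroup_mapBlock (BrauerPairs.centIso hQT hCT) hD hM.1
    rw [show BrauerPairs.mapBlock (BrauerPairs.centIso hQT hCT)
      (BrauerPairs.resBlock hQT hCT e) = e from BrauerPairs.upBlock_resBlock hQT hCT e] at h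
    convert h using 1
    ext c
    constructor
    · intro hc
      refine ⟨(BrauerPairs.centIso hQT hCT).symm c, ⟨Subgroup.mem_subgroupOf.2 ?_, ?_⟩,
        (BrauerPairs.centIso hQT hCT).apply_symm_apply c⟩
      · exact hc.1
      · exact ((BrauerPairs.centIso hQT hCT).symm c).2
    · rintro ⟨z, hz, rfl⟩
      exact ⟨Subgroup.mem_subgroupOf.1 hz.1, (BrauerPairs.centIso hQT hCT z).2⟩
  · have : (R.subgroupOf T).Normal := (Subgroup.normal_subgroupOf_iff_le_normalizer hRT).2 hRn
    have h := BrauerPairs.le_of_defect_zero_quotient (Q.subgroupOf T) hM hQp htriv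
      (by rw [hcard]; exact hdeg) (R.subgroupOf T)
      (hR.comap_of_injective _ (Subgroup.subtype_injective T))
    exact fun r hr => Subgroup.mem_subgroupOf.1 (h (show (⟨r, hRT hr⟩ : T) ∈ R.subgroupOf T from hr))

end Cfsg.Agent.S4694
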