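import Cfsg.Statements.S4695
import Cfsg.Agent.BlockChar.Cyclic.Main
-- import your own Cfsg.Agent.* helpers here

set_option autoImplicit false
open Cfsg

namespace Cfsg.Agent.S4695

/-- Let p be a prime, M a maximal ideal of the algebraic integers containing p, and B a p-block of the finite group G whose defect group D is cyclic of order p^a with a ≥ 1. Let C = C_G(D), let b be a block of C inducing B, let T be the stabilizer of b in N_G(D) (the elements g of N_G(D) such that the g-conjugate of every member of b is again in b), and let e be the index of C in T (the inertial index of B). Then the p-regular rank of B (the dimension of the span of the restrictions of its members to the p-regular elements, classically the number l(B) of irreducible Brauer characters in B) equals e. -/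
theorem result {G : Type*} [Group G] [Finite G] (p : ℕ) [Fact p.Prime] (M : Ideal Cfsg.AlgInt) (hM : Cfsg.IsPModular p M) (D : Subgroup G) (hD : IsCyclic D) (a : ℕ) (ha : 1 ≤ a) (hDa : Nat.card D = p ^ a) (B : Set (Cfsg.IrrCharacter G)) (hB : Cfsg.IsPBlock M B) (hBD : Cfsg.IsDefectGroup p M B D) (b : Set (Cfsg.IrrCharacter (Subgroup.centralizer (D : Set G)))) (hind : Cfsg.IsInducedBlock M (Subgroup.centralizer (D : Set G)) b B) (T : Subgroup G) (hT : ∀ g : G, g ∈ T ↔ (g ∈ Subgroup.normalizer (D : Set G) ∧ ∀ θ ∈ b, ∀ θ' : Cfsg.IrrCharacter (Subgroup.centralizer (D : Set G)), (∀ h h' : Subgroup.centralizer (D : Set G), (h' : G) = g * h * g⁻¹ → (θ' : Subgroup.centralizer (D : Set G) → ℂ) h' = (θ : Subgroup.centralizer (D : Set G) → ℂ) h) → θ' ∈ b)) (e : ℕ) (he : (Subgroup.centralizer (D : Set G)).relIndex T = e) : Cfsg.blockRank p B = e := by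
  classical
  have : M.IsMaximal := hM.2.1
  have := Fintype.ofFinite G
  have hmax := BlockChar.Cyclic.maximal_of_isInducedBlock hM hBD hind
  rw [← he]
  refine BlockChar.Cyclic.blockRank_eq_relIndex hM hmax hD fun g => ?_
  rw [hT g]
  refine and_congr_right fun hgN => ?_
  have h := BrauerPairs.mem_centralizer_iff_of_mem_normalizer hgN
  obtain ⟨φ, hφ⟩ : ∃ φ, φ = BlockChar.conjIso (Subgroup.centralizer (D : Set G))
      (Subgroup.centralizer (D : Set G)) g h := ⟨_, rfl⟩
  have hφval : ∀ k k' : Subgroup.centralizer (D : Set G), (k' : G) = g * (k : G) * g⁻¹ →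
      φ k = k' := fun k k' hk => by
    subst hφ
    exact Subtype.ext hk.symm
  constructor
  · intro hst
    refine ⟨Subgroup.mem_normalizer_iff.2 h, fun χ hχ => ?_⟩
    have hc : ∀ k k' : Subgroup.centralizer (D : Set G), (k' : G) = g * (k : G) * g⁻¹ →
        (BrauerPairs.compIrr φ.symm χ : _ → ℂ) k' = (χ : _ → ℂ) k := fun k k' hk => by
      rw [BrauerPairs.compIrr_apply, ← hφval k k' hk, MulEquiv.symm_apply_apply]
    exact ⟨_, hst χ hχ _ hc, hc⟩
  · rintro ⟨-, hst⟩ θ hθ θ' hθ'
    obtain ⟨χ', hχ', hc⟩ := hst θ hθ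
    have : θ' = χ' := Subtype.ext (funext fun k' => by
      have hk : (k' : G) = g * ((φ.symm k' : Subgroup.centralizer (D : Set G)) : G) * g⁻¹ := by
        conv_lhs => rw [← MulEquiv.apply_symm_apply φ k']
        rw [hφ]
        rfl
      exact (hθ' _ k' hk).trans (hc _ k' hk).symm)
    exact this ▸ hχ'

end Cfsg.Agent.S4695
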