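import Cfsg.Statements.S4697
import Cfsg.Agent.Blocks.Star.AbelianRankTwoMain

set_option autoImplicit false
open Cfsg

namespace Cfsg.Agent.S4697

/-- Let p be a prime, M a maximal ideal of the algebraic integers containing p, and B a p-block of the finite group G with an abelian defect group D of order p^d. If D has rank 2 (its least number of generators is 2) then B contains at most p^d irreducible characters; if D has rank 3 then the number k of irreducible characters in B satisfies k^3 ≤ p^(5d). -/
theorem result {G : Type*} [Group G] [Finite G] (p : ℕ) [Fact p.Prime] (M : Ideal Cfsg.AlgInt) (hM : Cfsg.IsPModular p M) (B : Set (Cfsg.IrrCharacter G)) (hB : Cfsg.IsPBlock M B) (D : Subgroup G) (hBD : Cfsg.IsDefectGroup p M B D) (hab : IsMulCommutative D) (d : ℕ) (hDd : Nat.card D = p ^ d) : (Group.rank D = 2 → Nat.card B ≤ p ^ d) ∧ (Group.rank D = 3 → Nat.card B ^ 3 ≤ p ^ (5 * d)) := by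
  classical
  have := Fintype.ofFinite G
  have habD : ∀ g ∈ D, ∀ h ∈ D, g * h = h * g := fun g hg h hh =>
    congrArg Subtype.val (hab.is_comm.comm ⟨g, hg⟩ ⟨h, hh⟩)
  have himg : ∀ S : Finset D, Subgroup.closure (S : Set D) = (⊤ : Subgroup D) →
      D = Subgroup.closure (D.subtype '' (S : Set D)) := fun S hS => by
    rw [← MonoidHom.map_closure, hS, ← MonoidHom.range_eq_map, Subgroup.range_subtype]
  refine ⟨fun hr => ?_, fun hr => ?_⟩
  · obtain ⟨S, hSc, hS⟩ := Group.rank_spec D
    rw [hr] at hSc
    obtain ⟨a, y, -, rfl⟩ := Finset.card_eq_two.1 hSc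
    have hg := himg _ hS
    rw [Finset.coe_pair, Set.image_pair] at hg
    exact (Cfsg.Agent.Blocks.Star.card_le_of_two_generated hM hB hBD hg
      (habD a a.2 y y.2)).trans_eq hDd
  · obtain ⟨S, hSc, hS⟩ := Group.rank_spec D
    rw [hr] at hSc
    obtain ⟨a, y, z, -, -, -, rfl⟩ := Finset.card_eq_three.1 hSc
    have hg := himg _ hS
    rw [Finset.coe_insert, Finset.coe_pair, Set.image_insert_eq, Set.image_pair] at hg
    exact (Cfsg.Agent.Blocks.Star.card_pow_three_le_of_three_generated hM hB hBD habD hg).trans_eq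
      (by rw [hDd, ← pow_mul, mul_comm])

end Cfsg.Agent.S4697
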