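import Cfsg.Statements.S4702
import Cfsg.Agent.Zassenhaus.EvenSharp

set_option autoImplicit false
open Cfsg

namespace Cfsg.Agent.S4702

/-- Let G be a triply transitive permutation group on a finite set of odd size m ≥ 3 in which only the identity fixes three or more points. Then m = 2^a + 1 for some a ≥ 1 and G is isomorphic to SL(2, 2^a). -/
theorem result {α : Type*} [Fintype α] [DecidableEq α] (hm : 3 ≤ Fintype.card α) (hodd : Odd (Fintype.card α)) (G : Subgroup (Equiv.Perm α)) (h3 : MulAction.IsMultiplyPretransitive G α 3) (hfix : ∀ g : G, 3 ≤ Nat.card (MulAction.fixedBy α g) → g = 1) : ∃ a : ℕ, 1 ≤ a ∧ Fintype.card α = 2 ^ a + 1 ∧ ∃ (F : Type) (_ : Field F) (_ : Fintype F), Fintype.card F = 2 ^ a ∧ Nonempty (G ≃* Matrix.SpecialLinearGroup (Fin 2) F) := by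
  classical
  have hn3 : 3 ≤ Nat.card α := by rwa [Nat.card_eq_fintype_card]
  have C := Zassenhaus.zctx_of_three h3 hn3 fun g x y z h1 h2 h4 hx hy hz => by
    refine hfix g ?_
    calc 3 = ({x, y, z} : Finset α).card := by rw [Finset.card_eq_three.2 ⟨x, y, z, h1, h4, h2, rfl⟩]
      _ = Nat.card ↥(↑({x, y, z} : Finset α) : Set α) := by
        rw [Nat.card_coe_set_eq, Set.ncard_coe_finset]
      _ ≤ Nat.card (MulAction.fixedBy α g) := Nat.card_mono (Set.toFinite _) fun w hw => by
        simp only [Finset.coe_insert, Finset.coe_singleton, Set.mem_insert_iff,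
          Set.mem_singleton_iff] at hw
        rcases hw with rfl | rfl | rfl
        exacts [hx, hy, hz]
  obtain ⟨a, K, iK, iFK, ha, hK, hn, he, -⟩ := C.identify_even hn3
    (by rwa [Nat.card_eq_fintype_card]) (Zassenhaus.exists_map_three h3)
  rw [Nat.card_eq_fintype_card] at hn
  exact ⟨a, ha, hn, K, iK, iFK, hK, he⟩

end Cfsg.Agent.S4702
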