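import Cfsg.Statements.S4708
import Cfsg.Agent.Blocks.CoveringAll
import Cfsg.Agent.Char.Glauberman.Basic
import Cfsg.Agent.BlockThms.Normal

set_option autoImplicit false
open Cfsg

namespace Cfsg.Agent.S4708

/-- Let p be a prime, M a maximal ideal of the algebraic integers containing p, G a finite group and H a normal subgroup. Write λ(X) for the sum of the squares of the degrees of the irreducible characters in the principal p-block of a group X. Then λ(H) ≤ λ(G) ≤ [G : H]·λ(H). -/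
theorem result {G : Type*} [Group G] [Finite G] (p : ℕ) [Fact p.Prime] (M : Ideal Cfsg.AlgInt) (hM : Cfsg.IsPModular p M) (H : Subgroup G) [H.Normal] : (∑ᶠ θ ∈ Cfsg.principalBlock M H, Cfsg.charDegree (θ : H → ℂ) ^ 2) ≤ (∑ᶠ χ ∈ Cfsg.principalBlock M G, Cfsg.charDegree (χ : G → ℂ) ^ 2) ∧ (∑ᶠ χ ∈ Cfsg.principalBlock M G, Cfsg.charDegree (χ : G → ℂ) ^ 2) ≤ H.index * ∑ᶠ θ ∈ Cfsg.principalBlock M H, Cfsg.charDegree (θ : H → ℂ) ^ 2 := by
  classical
  have := Fintype.ofFinite G
  have := Fintype.ofFinite H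
  set BG := Cfsg.principalBlock M G with hBG
  set bH := Cfsg.principalBlock M H with hbH
  have hBp : Cfsg.IsPBlock M BG := Blocks.isPBlock_principalBlock M
  have hbp : Cfsg.IsPBlock M bH := Blocks.isPBlock_principalBlock M
  let oneG : IrrCharacter G := ⟨fun _ => 1, Char.isIrrCharacter_one⟩
  let oneH : IrrCharacter H := ⟨fun _ => 1, Char.isIrrCharacter_one⟩
  have h1G : oneG ∈ BG := Blocks.sameBlock_refl hM _
  have h1H : oneH ∈ bH := Blocks.sameBlock_refl hM _
  have h11 : Cfsg.classInner (fun n : H => (oneG : G → ℂ) n) (oneH : H → ℂ) ≠ 0 := by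
    show Cfsg.classInner (oneH : H → ℂ) (oneH : H → ℂ) ≠ 0
    rw [Char.classInner_irr_self oneH.2]
    exact one_ne_zero
  have hmem : ∀ χ ∈ BG, ∀ θ : IrrCharacter H, Char.Glauberman.mult H χ θ ≠ 0 → θ ∈ bH := by
    intro χ hχ θ hne
    obtain ⟨g, hg⟩ := BlockThms.exists_conj_sameBlock (N := H) hM (χ := oneG) (χ' := χ)
      (Blocks.IsPBlock.sameBlock hM hBp h1G hχ) h11 (ψ := θ)
      (by rw [Char.Glauberman.mult_spec]; exact_mod_cast hne)
    exact hg
  have hdG : ∀ χ : IrrCharacter G, (χ : G → ℂ) 1 = (Cfsg.charDegree (χ : G → ℂ) : ℂ) := fun χ => by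
    obtain ⟨n, -, hn⟩ := Char.IsIrr.degree χ.2
    rw [Blocks.charDegree_eq hn, hn]
  have hdH : ∀ θ : IrrCharacter H, (θ : H → ℂ) 1 = (Cfsg.charDegree (θ : H → ℂ) : ℂ) := fun θ => by
    obtain ⟨n, -, hn⟩ := Char.IsIrr.degree θ.2
    rw [Blocks.charDegree_eq hn, hn]
  set d : IrrCharacter G → ℕ := fun χ => Cfsg.charDegree (χ : G → ℂ) with hd
  set e : IrrCharacter H → ℕ := fun θ => Cfsg.charDegree (θ : H → ℂ) with he
  set SG := Finset.univ.filter (· ∈ BG) with hSG
  set SH := Finset.univ.filter (· ∈ bH) with hSH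
  rw [finsum_mem_eq_sum_of_inter_support_eq _ (t := SG) (by simp [hSG]),
    finsum_mem_eq_sum_of_inter_support_eq _ (t := SH) (by simp [hSH])]
  have hres : ∀ χ ∈ SG, d χ = ∑ θ ∈ SH, Char.Glauberman.mult H χ θ * e θ := by
    intro χ hχ
    have h := Char.Glauberman.res_eq_sum H χ 1
    simp only [OneMemClass.coe_one, hdG, hdH, ← Nat.cast_mul, ← Nat.cast_sum, Nat.cast_inj] at h
    simp only [hd, he, h]
    refine (Finset.sum_subset (Finset.subset_univ _) fun θ _ hθ => ?_).symm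
    rw [hSG, Finset.mem_filter] at hχ
    rw [hSH, Finset.mem_filter] at hθ
    by_contra hne
    exact hθ ⟨Finset.mem_univ _, hmem χ hχ.2 θ fun h0 => hne (by rw [h0, zero_mul])⟩
  have hind : ∀ θ : IrrCharacter H, ∑ χ : IrrCharacter G, Char.Glauberman.mult H χ θ * d χ = H.index * e θ := by
    intro θ
    have hexp := congrFun (Char.classFun_expansion (Char.isClassFunction_indFun H (θ : H → ℂ))) 1
    have hm : ∀ χ : IrrCharacter G,
        Cfsg.classInner (Cfsg.indFun H (θ : H → ℂ)) (χ : G → ℂ) = (Char.Glauberman.mult H χ θ : ℂ) := fun χ => by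
      rw [Char.classInner_indFun_left H _ (Char.isClassFunction_of_isIrr χ.2),
        ← Char.classInner_conj_symm, Char.Glauberman.mult_spec, map_natCast]
    simp only [Finset.sum_apply, Pi.smul_apply, smul_eq_mul, hm, Char.indFun_apply_one, hdG, hdH,
      ← Nat.cast_mul, ← Nat.cast_sum, Nat.cast_inj] at hexp
    exact hexp.symm
  constructor
  · calc ∑ θ ∈ SH, e θ ^ 2 ≤ ∑ θ ∈ SH, ∑ χ ∈ SG, (Char.Glauberman.mult H χ θ * e θ) ^ 2 := by
          refine Finset.sum_le_sum fun θ hθ => ?_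
          obtain ⟨χ, hχ, hne⟩ := Blocks.exists_over_of_covering hM hbp hBp
            ⟨oneG, h1G, oneH, h1H, h11⟩ (Finset.mem_filter.1 hθ).2
          rw [Char.Glauberman.mult_spec, Nat.cast_ne_zero] at hne
          refine le_trans (Nat.pow_le_pow_left (Nat.le_mul_of_pos_left _ (Nat.pos_of_ne_zero hne)) 2)
            (Finset.single_le_sum (f := fun χ => (Char.Glauberman.mult H χ θ * e θ) ^ 2)
              (fun _ _ => Nat.zero_le _) (Finset.mem_filter.2 ⟨Finset.mem_univ _, hχ⟩))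
      _ = ∑ χ ∈ SG, ∑ θ ∈ SH, (Char.Glauberman.mult H χ θ * e θ) ^ 2 := Finset.sum_comm
      _ ≤ ∑ χ ∈ SG, d χ ^ 2 := Finset.sum_le_sum fun χ hχ => by
          rw [hres χ hχ]
          exact Finset.sum_sq_le_sq_sum_of_nonneg fun _ _ => Nat.zero_le _
  · calc ∑ χ ∈ SG, d χ ^ 2 = ∑ χ ∈ SG, ∑ θ ∈ SH, Char.Glauberman.mult H χ θ * d χ * e θ := by
          refine Finset.sum_congr rfl fun χ hχ => ?_
          rw [sq]
          conv_lhs => arg 2; rw [hres χ hχ]
          rw [Finset.mul_sum]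
          exact Finset.sum_congr rfl fun θ _ => by ring
      _ = ∑ θ ∈ SH, (∑ χ ∈ SG, Char.Glauberman.mult H χ θ * d χ) * e θ := by
          rw [Finset.sum_comm]
          simp [Finset.sum_mul]
      _ ≤ ∑ θ ∈ SH, H.index * e θ * e θ := Finset.sum_le_sum fun θ _ => by
          rw [← hind θ]
          exact Nat.mul_le_mul_right _ (Finset.sum_le_sum_of_subset (Finset.subset_univ _))
      _ = H.index * ∑ θ ∈ SH, e θ ^ 2 := by
          rw [Finset.mul_sum]
          exact Finset.sum_congr rfl fun θ _ => by ring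

end Cfsg.Agent.S4708
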