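import Cfsg.Statements.S4711
import Cfsg.Agent.Blocks.PermPrincipal
import Cfsg.Agent.OddLocal.PLengthOne
import Cfsg.Agent.OddLocal.PLengthData
import Cfsg.Agent.BlockThms.Normal
import Cfsg.Agent.Core.PCore

set_option autoImplicit false
open Cfsg

namespace Cfsg.Agent.S4711

/-- Let p be a prime, M a maximal ideal of the algebraic integers containing p, G a finite group, P a Sylow p-subgroup and N = N_G(P). Then G has p-length 1 (G = O_{p',p,p'}(G)) if and only if every irreducible character in the principal p-block of G restricts to an irreducible character of N. -/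
theorem result {G : Type*} [Group G] [Finite G] (p : ℕ) [Fact p.Prime] (M : Ideal Cfsg.AlgInt) (hM : Cfsg.IsPModular p M) (P : Sylow p G) : Cfsg.PLengthLE p 1 G ↔ ∀ χ ∈ Cfsg.principalBlock M G, Cfsg.IsIrrCharacter ↥(Subgroup.normalizer ((P : Subgroup G) : Set G)) (fun n : ↥(Subgroup.normalizer ((P : Subgroup G) : Set G)) => (χ : G → ℂ) n) := by
  have := Fintype.ofFinite G
  have hp : p.Prime := Fact.out
  constructor
  · intro hpl χ hχ
    set O := Cfsg.pPrimeCore p G
    have hO : ¬ p ∣ Nat.card O := Core.not_dvd_card_pPrimeCore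
    letI := Fintype.ofFinite O
    have htriv : ∀ n ∈ O, (χ : G → ℂ) n = (χ : G → ℂ) 1 :=
      BlockThms.trivial_on_of_sameBlock hM hO (χ := Blocks.triv G) hχ (fun _ _ => rfl)
    obtain ⟨φ, hφ, hχφ⟩ := Char.IsIrr.exists_quotient O χ.2 htriv
    set N := Subgroup.normalizer ((P : Subgroup G) : Set G)
    have hsurj : Function.Surjective ((QuotientGroup.mk' O).comp N.subtype) := by
      intro q
      obtain ⟨g, rfl⟩ := QuotientGroup.mk'_surjective O q
      have hg : g ∈ N ⊔ O := by
        rw [sup_comm, OddLocal.pPrimeCore_sup_normalizer hpl P]; trivial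
      rw [← SetLike.mem_coe, Subgroup.mul_normal] at hg
      obtain ⟨n, hn, o, ho, rfl⟩ := hg
      refine ⟨⟨n, hn⟩, ?_⟩
      show QuotientGroup.mk' O n = QuotientGroup.mk' O (n * o)
      rw [map_mul, (QuotientGroup.eq_one_iff o).2 ho |> fun h : QuotientGroup.mk' O o = 1 => h,
        mul_one]
    have h1 := Char.isIrrCharacter_comp _ hsurj hφ
    rw [show (fun n : N => (χ : G → ℂ) n) = fun n : N => φ (((QuotientGroup.mk' O).comp N.subtype) n)
      from funext fun n => hχφ n]
    exact h1
  · intro h
    set L := Subgroup.normalClosure ((P : Subgroup G) : Set G)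
    obtain ⟨Q, K, hK, hKQ⟩ := Blocks.exists_normal_complement_series hM P h
    haveI := hK
    have hcard : (Nat.card K).Coprime p := by
      rw [← hKQ.index_eq_card]
      exact (hp.coprime_iff_not_dvd.2 (Q.not_dvd_index)).symm
    have hKle : K ≤ Cfsg.pPrimeCore p L := Core.le_pPrimeCore hcard
    refine OddLocal.pLengthLE_one_of_series (A := (Cfsg.pPrimeCore p L).map L.subtype) (B := L)
      ?_ ?_ ?_
    · rw [Subgroup.card_map_of_injective L.subtype_injective]
      exact Core.coprime_card_pPrimeCore
    · intro x hx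
      obtain ⟨n, hn⟩ : ∃ n : ℕ, K.index = p ^ n := by
        obtain ⟨n, hn⟩ := IsPGroup.iff_card.1 Q.2
        exact ⟨n, by rw [hKQ.symm.index_eq_card, hn]⟩
      refine ⟨n, ⟨⟨x, hx⟩ ^ p ^ n, hKle ?_, by simp⟩⟩
      rw [← hn]
      exact Subgroup.pow_index_mem K _
    · intro hd
      have hle : (P : Subgroup G) ≤ L := Subgroup.subset_normalClosure
      exact P.not_dvd_index (dvd_trans hd (Subgroup.index_dvd_of_le hle))

end Cfsg.Agent.S4711
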