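import Cfsg.Statements.S4714
import Mathlib
import Cfsg.Agent.BlockThms.CentralProduct
-- import your own Cfsg.Agent.* helpers here

set_option autoImplicit false
open Cfsg

namespace Cfsg.Agent.S4714

open scoped ComplexConjugate
open Cfsg.Agent Cfsg.Agent.Blocks
open Cfsg.Agent.BlockThms hiding classInd conv omega IsClass exists_isPModular omega_conv

universe u

variable {G : Type u} [Group G] [Fintype G] {p : ℕ} {M : Ideal Cfsg.AlgInt} {P : Subgroup G}
  [P.Normal]

/-- On p-regular elements the characters of a block with defect group `P`, `G = P C(P)`, are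
proportional to the canonical character. -/
theorem proportional [Fact p.Prime] (hM : Cfsg.IsPModular p M) (hP : IsPGroup p P)
    (hG : P ⊔ Subgroup.centralizer (P : Set G) = ⊤) {B : Set (Cfsg.IrrCharacter G)}
    (hB : Cfsg.IsPBlock M B) {θ : Cfsg.IrrCharacter G} (hθB : θ ∈ B)
    (hθP : ∀ x ∈ P, (θ : G → ℂ) x = (θ : G → ℂ) 1)
    (hdeg : (Cfsg.charDegree (θ : G → ℂ)).factorization p = P.index.factorization p)
    (χ : Cfsg.IrrCharacter G) (hχ : χ ∈ B) (y : G) (hy : Cfsg.IsPRegular p y) :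
    (χ : G → ℂ) y * (θ : G → ℂ) 1 = (χ : G → ℂ) 1 * (θ : G → ℂ) y := by
  classical
  have hp := hM.1
  set n := Cfsg.charDegree (θ : G → ℂ) with hn
  have hn1 : (θ : G → ℂ) 1 = (n : ℂ) := (charDegree_cast (Char.IsIrr.isCharacter θ.2)).symm
  obtain ⟨φ, hφi, hφ⟩ := Char.IsIrr.exists_quotient P θ.2 hθP
  let φ' : Cfsg.IrrCharacter (G ⧸ P) := ⟨φ, hφi⟩
  have : Fintype (G ⧸ P) := Fintype.ofFinite _
  have hφ1 : φ 1 = (n : ℂ) := by rw [← hn1, hφ 1, QuotientGroup.mk_one]
  have hCidx := DefectThms.index_centralizer_pow (p := p) hP hG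
  have hregC : ∀ {y : G}, Cfsg.IsPRegular p y → y ∈ Subgroup.centralizer (P : Set G) := fun h =>
    DefectThms.regular_mem_centralizer hP hG h
  have hsing : Cfsg.blockOf M (φ : G ⧸ P → ℂ) = {φ'} := by
    refine blockOf_eq_singleton hM φ' ?_
    obtain ⟨c, hc⟩ : n ∣ P.index := Char.IsIrr.degree_dvd_card hφi hφ1
    rw [show Cfsg.charDegree (φ' : G ⧸ P → ℂ) = n from charDegree_eq (n := n) hφ1,
      show Nat.card (G ⧸ P) = n * c from hc, Nat.mul_div_cancel_left _ (charDegree_pos θ.2)]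
    intro hpc
    have hc0 : c ≠ 0 := fun h => Subgroup.index_ne_zero_of_finite (by rw [hc, h, mul_zero])
    rw [hc, Nat.factorization_mul (show n ≠ 0 from (charDegree_pos θ.2).ne') hc0,
      Finsupp.add_apply] at hdeg
    have := Nat.Prime.factorization_pos_of_dvd hp hc0 hpc
    omega
  set f := eta p (χ : G → ℂ) with hf
  set F := push P f with hF
  have hFc : Cfsg.IsClassFunction (G ⧸ P) F :=
    isClassFunction_push P (isClassFunction_eta (Char.isClassFunction_of_isIrr χ.2))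
  have hom : ∀ ψ : Cfsg.IrrCharacter (G ⧸ P), ψ ≠ φ' →
      Blocks.omega (ψ : G ⧸ P → ℂ) F = 0 := by
    intro ψ hψ
    rw [hF, ← omega_comp_mk]
    refine omega_eta_eq_zero (χ := χ)
      (ψ := ⟨_, Char.isIrrCharacter_mk P ψ.2⟩) hM fun hs => hψ ?_
    have hs' : Cfsg.SameBlock M (θ : G → ℂ) fun g => (ψ : G ⧸ P → ℂ) (g : G ⧸ P) :=
      sameBlock_trans hM (IsPBlock.sameBlock hM hB hθB hχ) hs
    rw [show (θ : G → ℂ) = fun g : G => φ (g : G ⧸ P) from funext hφ] at hs'
    have hmem : ψ ∈ Cfsg.blockOf M (φ : G ⧸ P → ℂ) :=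
      (sameBlock_quotient_iff P hM hP hCidx φ' ψ).2 hs'
    rwa [hsing, Set.mem_singleton_iff] at hmem
  have hval : ∀ y : G, Cfsg.IsPRegular p y → F (y : G ⧸ P) = conj ((χ : G → ℂ) y) := by
    intro y hy
    rw [hF]
    simp only [push]
    rw [Finset.sum_eq_single y]
    · rw [if_pos rfl, hf, eta_of_regular _ hy]
    · intro x _ hx
      split_ifs with hxq
      · rw [hf, eta_of_singular _]
        intro hxr
        refine hx ?_
        have hu : y⁻¹ * x ∈ P := by rw [← QuotientGroup.eq]; exact hxq.symm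
        have hcomm : Commute (y⁻¹ * x) y := Subgroup.mem_centralizer_iff.1 (hregC hy) _ hu
        obtain ⟨k, hk⟩ := (IsPGroup.iff_orderOf.1 hP) ⟨_, hu⟩
        rw [Subgroup.orderOf_mk] at hk
        have hpp := parts_mul hp hcomm ⟨k, hk⟩ hy
        rw [hcomm.eq, mul_inv_cancel_left] at hpp
        exact (inv_mul_eq_one.1 (hpp.1.symm.trans ((pPartOf_eq_one_iff hp x).2 hxr))).symm
      · rfl
    · simp
  set K := (Nat.card (G ⧸ P) : ℂ)⁻¹ * ((n : ℂ) * Blocks.omega (φ : G ⧸ P → ℂ) F) with hK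
  have hy' : ∀ z : G, Cfsg.IsPRegular p z → conj ((χ : G → ℂ) z) = K * conj ((θ : G → ℂ) z) := by
    intro z hz
    rw [← hval z hz, apply_eq_sum_omega hFc, Finset.sum_eq_single φ'
      (fun ψ _ hψ => by rw [hom ψ hψ, mul_zero, zero_mul]) (by simp), hφ z, hK,
      show (φ' : G ⧸ P → ℂ) = φ from rfl, hφ1]
    ring
  have h1 := hy' 1 (by rw [Cfsg.IsPRegular, orderOf_one]; exact hp.not_dvd_one)
  apply (starRingEnd ℂ).injective
  rw [map_mul, map_mul, h1, hy' y hy]
  ring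

/-- Let p be a prime, M a maximal ideal of the algebraic integers containing p, D a p-subgroup of the finite group G with G = D·C_G(D), and B a p-block with defect group D. Let χ be a member of B having D in its kernel (there is exactly one, the canonical character of B). Then the irreducible characters in B are exactly the functions θ on G for which there is an irreducible character ζ of D such that θ(yx) = ζ(y)χ(x) whenever y ∈ D, x has order prime to p and x commutes with y, and θ(z) = 0 whenever the p-part of z does not lie in D. -/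
theorem result {G : Type*} [Group G] [Finite G] (p : ℕ) [Fact p.Prime] (M : Ideal Cfsg.AlgInt) (hM : Cfsg.IsPModular p M) (D : Subgroup G) (hD : IsPGroup p D) (hG : D ⊔ Subgroup.centralizer (D : Set G) = ⊤) (B : Set (Cfsg.IrrCharacter G)) (hB : Cfsg.IsPBlock M B) (hBD : Cfsg.IsDefectGroup p M B D) (χ : Cfsg.IrrCharacter G) (hχ : χ ∈ B) (hχD : ∀ y ∈ D, (χ : G → ℂ) y = (χ : G → ℂ) 1) : (∀ θ : Cfsg.IrrCharacter G, θ ∈ B ↔ ∃ ζ : Cfsg.IrrCharacter D, (∀ (y : D) (x : G), ¬ p ∣ orderOf x → Commute (y : G) x → (θ : G → ℂ) ((y : G) * x) = (ζ : D → ℂ) y * (χ : G → ℂ) x) ∧ (∀ z : G, (∀ y : G, Cfsg.IsPPart p z y → y ∉ D) → (θ : G → ℂ) z = 0)) ∧ ∀ ζ : Cfsg.IrrCharacter D, ∃ θ ∈ B, (∀ (y : D) (x : G), ¬ p ∣ orderOf x → Commute (y : G) x → (θ : G → ℂ) ((y : G) * x) = (ζ : D → ℂ) y * (χ : G → ℂ) x) ∧ (∀ z : G, (∀ y : G, Cfsg.IsPPart p z y → y ∉ D) → (θ : G → ℂ) z = 0) := by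
  classical
  have := Fintype.ofFinite G
  have := Fintype.ofFinite D
  have : D.Normal := by
    rw [← Subgroup.normalizer_eq_top_iff, eq_top_iff, ← hG]
    exact sup_le Subgroup.le_normalizer (Subgroup.centralizer_le_normalizer _)
  have hp := hM.1
  obtain ⟨θ₀, hθ₀B, hθ₀P, huniq, hdeg, e, he⟩ := DefectThms.central_product hM hD hG hB hBD
  obtain rfl : χ = θ₀ := huniq χ hχ hχD
  have hvan : ∀ θ ∈ B, ∀ z : G, (∀ y : G, Cfsg.IsPPart p z y → y ∉ D) →
      ((θ : Cfsg.IrrCharacter G) : G → ℂ) z = 0 := fun θ hθ z hz =>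
    DefectThms.char_eq_zero_of_pPart_notMem hM hB hBD hθ fun k hk =>
      hz _ (isPPart_pPartOf hp z) (by
        simpa [mul_assoc] using (inferInstance : D.Normal).conj_mem _ hk k⁻¹)
  have hform : ∀ ζ : Cfsg.IrrCharacter D, ∀ (y : D) (x : G), ¬ p ∣ orderOf x →
      Commute (y : G) x →
      ((e.symm ζ : Cfsg.IrrCharacter G) : G → ℂ) ((y : G) * x) =
        (ζ : D → ℂ) y * (χ : G → ℂ) x := by
    intro ζ y x hx _
    obtain ⟨h1, h2⟩ := he (e.symm ζ)
    rw [Equiv.apply_symm_apply] at h1 h2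
    have h3 := DefectThms.char_mul_eq hG (e.symm ζ : Cfsg.IrrCharacter G) ζ h1 y
      (DefectThms.regular_mem_centralizer hD hG hx)
    have h4 := proportional hM hD hG hB hθ₀B hθ₀P hdeg _ (e.symm ζ).2 x hx
    rw [h2] at h4
    refine mul_left_cancel₀ (mul_ne_zero (Char.IsIrr.one_ne_zero ζ.2)
      (Char.IsIrr.one_ne_zero χ.2)) ?_
    linear_combination (χ : G → ℂ) 1 * h3 + (ζ : D → ℂ) y * h4
  refine ⟨fun θ => ⟨fun hθ => ⟨e ⟨θ, hθ⟩, ?_, hvan θ hθ⟩, ?_⟩,
    fun ζ => ⟨_, (e.symm ζ).2, hform ζ, hvan _ (e.symm ζ).2⟩⟩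
  · have h := hform (e ⟨θ, hθ⟩)
    rw [Equiv.symm_apply_apply] at h
    exact h
  · rintro ⟨ζ, h1, h2⟩
    suffices θ = (e.symm ζ : Cfsg.IrrCharacter G) by rw [this]; exact (e.symm ζ).2
    refine Subtype.ext (funext fun g => ?_)
    by_cases hg : pPartOf p g ∈ D
    · have hreg : ¬ p ∣ orderOf (pPrimePartOf p g) := not_dvd_orderOf_pPrimePartOf hp g
      rw [← pPartOf_mul_pPrimePartOf (p := p) hp g]
      exact (h1 ⟨_, hg⟩ _ hreg (commute_pPartOf_pPrimePartOf g)).trans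
        (hform ζ ⟨_, hg⟩ _ hreg (commute_pPartOf_pPrimePartOf g)).symm
    · have hnot : ∀ y : G, Cfsg.IsPPart p g y → y ∉ D := fun y hy => eq_pPartOf hp g hy ▸ hg
      rw [h2 g hnot, hvan _ (e.symm ζ).2 g hnot]

end Cfsg.Agent.S4714
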