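import Cfsg.Statements.S4717
import Cfsg.Agent.Blocks.Principal
import Cfsg.Agent.Blocks.Rank
import Cfsg.Agent.BlockThms.DefectCor
import Cfsg.Agent.BlockChar.Defect

set_option autoImplicit false
open Cfsg

namespace Cfsg.Agent.S4717

/-- Let p be a prime, M a maximal ideal of the algebraic integers containing p, and r a natural number; say that a finite group X has deficiency class r when X has no non-principal p-block of defect ≥ r. If G has deficiency class r then so does the centralizer of every p-element of G; conversely, if r > 0 and the centralizer of every element of order p has deficiency class r, then G has deficiency class r. -/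
theorem result {G : Type*} [Group G] [Finite G] (p : ℕ) [Fact p.Prime] (M : Ideal Cfsg.AlgInt) (hM : Cfsg.IsPModular p M) (r : ℕ) : ((∀ B' : Set (Cfsg.IrrCharacter G), Cfsg.IsPBlock M B' → B' ≠ Cfsg.principalBlock M G → Cfsg.blockDefect p B' < r) → ∀ y : G, (∃ k : ℕ, orderOf y = p ^ k) → (∀ B' : Set (Cfsg.IrrCharacter ↥(Subgroup.centralizer ({y} : Set G))), Cfsg.IsPBlock M B' → B' ≠ Cfsg.principalBlock M ↥(Subgroup.centralizer ({y} : Set G)) → Cfsg.blockDefect p B' < r)) ∧ (0 < r → (∀ y : G, orderOf y = p → (∀ B' : Set (Cfsg.IrrCharacter ↥(Subgroup.centralizer ({y} : Set G))), Cfsg.IsPBlock M B' → B' ≠ Cfsg.principalBlock M ↥(Subgroup.centralizer ({y} : Set G)) → Cfsg.blockDefect p B' < r)) → (∀ B' : Set (Cfsg.IrrCharacter G), Cfsg.IsPBlock M B' → B' ≠ Cfsg.principalBlock M G → Cfsg.blockDefect p B' < r)) := by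
  classical
  have := Fintype.ofFinite G
  have : Fact p.Prime := ⟨hM.1⟩
  -- centralisers of p-elements are centralisers of p-subgroups
  have hsetup : ∀ y : G, (∃ k : ℕ, orderOf y = p ^ k) →
      IsPGroup p (Subgroup.zpowers y) ∧ ∀ a : G, a ∈ Subgroup.centralizer ({y} : Set G) ↔
        ∀ u ∈ Subgroup.zpowers y, u * a = a * u := by
    rintro y ⟨k, hk⟩
    refine ⟨IsPGroup.of_card (n := k) (by rw [Nat.card_zpowers, hk]), fun a => ?_⟩
    rw [Agent.Blocks.mem_centralizer_iff_comm]
    exact ⟨fun h u ⟨i, hi⟩ => hi ▸ ((show Commute y a from h).zpow_left i).eq,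
      fun h => h y (Subgroup.mem_zpowers y)⟩
  constructor
  · intro hG y hy b hb hne
    haveI : Fintype (Subgroup.centralizer ({y} : Set G)) := Fintype.ofFinite _
    obtain ⟨hP, hH⟩ := hsetup y hy
    obtain ⟨ψ, hψ⟩ := Agent.Blocks.IsPBlock.nonempty hM hb
    obtain ⟨χ, hχ⟩ := (Agent.Blocks.isCenHom_res hM hP hH ψ).exists_char hM
    set B := Cfsg.blockOf M (χ : G → ℂ)
    have hB : Cfsg.IsPBlock M B := Agent.Blocks.isPBlock_blockOf χ
    have hψB : ψ ∈ Agent.Blocks.inducing M (Subgroup.centralizer ({y} : Set G)) B := by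
      intro hd
      have h := hχ _ (Agent.Blocks.isClassFunction_blockCoeff B)
        (Agent.Blocks.memLocalRing_blockCoeff hM hB)
      rw [Agent.Blocks.omega_blockCoeff, if_pos (Agent.Blocks.mem_blockOf_self hM χ)] at h
      exact Agent.Blocks.not_memLocalIdeal_one hM
        (by simpa using Agent.Blocks.memLocalIdeal_sub hM hd h)
    have hind := (Agent.Blocks.mem_inducing_iff hM hP hH hB hb hψ).1 hψB
    have hBne : B ≠ Cfsg.principalBlock M G := by
      intro e
      rw [e, Agent.Blocks.inducing_principalBlock hM hP hH] at hψB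
      exact hne ((Agent.Blocks.IsPBlock.eq_blockOf hM hb hψ).trans
        (Agent.Blocks.IsPBlock.eq_blockOf hM (Agent.Blocks.isPBlock_principalBlock M) hψB).symm)
    obtain ⟨D, hD⟩ := Agent.DefectThms.exists_defectGroup hM hb
    obtain ⟨E, hE, hDE⟩ := Agent.DefectThms.exists_defectGroup_ge_of_induced hM _ hb hB hind hD
    have hle := Subgroup.card_le_of_le hDE
    rw [Subgroup.card_subtype, Agent.BlockChar.card_defectGroup hM hb hD,
      Agent.BlockChar.card_defectGroup hM hB hE] at hle
    exact lt_of_le_of_lt ((Nat.pow_le_pow_iff_right hM.1.one_lt).1 hle) (hG B hB hBne)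
  · intro hr hC B hB hne
    by_contra hlt
    push Not at hlt
    obtain ⟨g, hg⟩ := Agent.Blocks.exists_isDefectClass hM hB
    obtain ⟨D, hD⟩ := Agent.DefectThms.exists_isSylC p g
    have hBD : Cfsg.IsDefectGroup p M B D := Agent.DefectThms.isDefectGroup_iff.2 ⟨g, hg, hD⟩
    have hcardD := Agent.BlockChar.card_defectGroup hM hB hBD
    have : Nontrivial D := Finite.one_lt_card_iff_nontrivial.1 (by
      rw [hcardD]; exact Nat.one_lt_pow (by omega) hM.1.one_lt)
    have := hD.2.1.center_nontrivial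
    obtain ⟨z, hz⟩ := exists_prime_orderOf_dvd_card' (G := Subgroup.center D) p (by
      obtain ⟨k, hk⟩ := IsPGroup.iff_card.1 (hD.2.1.to_subgroup (Subgroup.center D))
      have h1 := Finite.one_lt_card (α := Subgroup.center D)
      rw [hk] at h1 ⊢
      exact dvd_pow_self p fun e => by simp [e] at h1)
    set y : G := ((z : D) : G) with hy
    have hyo : orderOf y = p := by rw [hy, Subgroup.orderOf_coe, Subgroup.orderOf_coe, hz]
    set C := Subgroup.centralizer ({y} : Set G) with hCdef
    haveI : Fintype C := Fintype.ofFinite _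
    obtain ⟨hP, hH⟩ := hsetup y ⟨1, by rw [hyo, pow_one]⟩
    have hgC : g ∈ C := by
      rw [Agent.Blocks.mem_centralizer_iff_comm]
      exact Subgroup.mem_centralizer_singleton_iff.1 (hD.1 (z : D).2)
    have hDC : D ≤ C := fun d hd => by
      rw [Agent.Blocks.mem_centralizer_iff_comm]
      exact (congrArg Subtype.val (Subgroup.mem_center_iff.1 z.2 ⟨d, hd⟩)).symm
    set A := Agent.Blocks.inducing M C B
    have hA : ¬ Cfsg.MemLocalIdeal M (Cfsg.blockCoeff A (⟨g, hgC⟩ : C)) := fun h => hg.2.1 (by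
      simpa [A, C] using Agent.Blocks.memLocalIdeal_add hM
        (Agent.Blocks.memLocalIdeal_res_blockCoeff_sub hM hP hH hB ⟨g, hgC⟩) h)
    -- some block inducing B has a unit coefficient at g
    obtain ⟨b, hb, hbA, hbg⟩ : ∃ b : Set (Cfsg.IrrCharacter C), Cfsg.IsPBlock M b ∧ b ⊆ A ∧
        ¬ Cfsg.MemLocalIdeal M (Cfsg.blockCoeff b (⟨g, hgC⟩ : C)) := by
      by_contra! hall
      apply hA
      rw [Agent.Blocks.blockCoeff_eq_sum, ← Finset.sum_filter,
        ← Finset.sum_fiberwise_of_maps_to
          (g := fun χ : Cfsg.IrrCharacter C => Cfsg.blockOf M (χ : C → ℂ))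
          (t := (Finset.univ.filter (· ∈ A)).image fun χ : Cfsg.IrrCharacter C => Cfsg.blockOf M (χ : C → ℂ))
          (fun χ hχ => Finset.mem_image_of_mem _ hχ), Finset.mul_sum]
      refine Agent.Blocks.memLocalIdeal_sum hM _ fun b hb => ?_
      obtain ⟨ξ, hξ, rfl⟩ := Finset.mem_image.1 hb
      have hbb := Agent.Blocks.isPBlock_blockOf (M := M) ξ
      have hsub : Cfsg.blockOf M (ξ : C → ℂ) ⊆ A := fun φ hφ =>
        Agent.Blocks.mem_inducing_of_sameBlock hM hB (Finset.mem_filter.1 hξ).2
          (Agent.Blocks.mem_blockOf.1 hφ)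
      have h := hall _ hbb hsub
      rw [Agent.Blocks.blockCoeff_eq_sum, ← Finset.sum_filter] at h
      convert h using 3
      ext φ
      simp only [Finset.mem_filter, Finset.mem_univ, true_and]
      constructor
      · rintro ⟨-, e⟩; exact e ▸ Agent.Blocks.mem_blockOf_self hM φ
      · exact fun hφ => ⟨hsub hφ,
          (Agent.Blocks.IsPBlock.eq_blockOf hM hbb hφ).symm⟩
    obtain ⟨E, hE⟩ := Agent.DefectThms.exists_defectGroup hM hb
    obtain ⟨e, he, heE⟩ := Agent.DefectThms.isDefectGroup_iff.1 hE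
    obtain ⟨S, hS, hDS⟩ := Agent.DefectThms.exists_le_isSylC (g := (⟨g, hgC⟩ : C))
      (R := D.subgroupOf C) (hD.2.1.comap_of_injective C.subtype C.subtype_injective) (by
        intro d hd
        rw [Subgroup.mem_centralizer_singleton_iff]
        exact Subtype.ext (Subgroup.mem_centralizer_singleton_iff.1
          (hD.1 (Subgroup.mem_subgroupOf.1 hd))))
    obtain ⟨k, hk⟩ := Agent.DefectThms.exists_conj_le_of_unit_coeff hM hb he heE hbg hS
    have hle : p ^ Cfsg.blockDefect p B ≤ p ^ Cfsg.blockDefect p b := by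
      rw [← hcardD, ← Agent.BlockChar.card_defectGroup hM hb hE,
        ← Nat.card_congr (Subgroup.subgroupOfEquivOfLe hDC).toEquiv]
      calc Nat.card (D.subgroupOf C) ≤ Nat.card S := Subgroup.card_le_of_le hDS
        _ = Nat.card (S.map (MulAut.conj k).toMonoidHom) :=
            (Agent.DefectThms.card_map_conj S k).symm
        _ ≤ Nat.card E := Subgroup.card_le_of_le hk
    have hbd := (Nat.pow_le_pow_iff_right hM.1.one_lt).1 hle
    obtain ⟨ψ, hψ⟩ := Agent.Blocks.IsPBlock.nonempty hM hb
    by_cases hbp : b = Cfsg.principalBlock M C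
    · refine hne ?_
      have h1 : ψ ∈ Agent.Blocks.inducing M C (Cfsg.principalBlock M G) := by
        rw [Agent.Blocks.inducing_principalBlock hM hP hH]; exact hbp ▸ hψ
      have hi1 := (Agent.Blocks.mem_inducing_iff hM hP hH
        (Agent.Blocks.isPBlock_principalBlock M) hb hψ).1 h1
      have hi2 := (Agent.Blocks.mem_inducing_iff hM hP hH hB hb hψ).1 (hbA hψ)
      obtain ⟨χ, hχ⟩ := Agent.Blocks.IsPBlock.nonempty hM hB
      refine (Agent.Blocks.IsPBlock.eq_blockOf hM hB hχ).trans (Agent.Blocks.IsPBlock.eq_blockOf hM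
        (Agent.Blocks.isPBlock_principalBlock M) ?_).symm
      refine Agent.Blocks.IsPBlock.mem_of_sameBlock hM (Agent.Blocks.isPBlock_principalBlock M)
        (Agent.Blocks.triv_mem_principalBlock hM) fun x => ?_
      simpa using Agent.Blocks.memLocalIdeal_sub hM (hi2.2.2 ψ hψ χ hχ x)
        (hi1.2.2 ψ hψ _ (Agent.Blocks.triv_mem_principalBlock hM) x)
    · exact absurd (hC y hyo b hb hbp) (by omega)

end Cfsg.Agent.S4717
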