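import Cfsg.Statements.S4718
import Cfsg.Agent.BlockChar.RegInner
import Cfsg.Agent.BlockChar.Landau
-- import your own Cfsg.Agent.* helpers here

set_option autoImplicit false
universe u
open Cfsg

namespace Cfsg.Agent.S4718

/-- Let p be a prime and a a natural number. There is a bound N such that every finite group whose Sylow p-subgroups have order p^a and whose only p-block (relative to a maximal ideal of the algebraic integers containing p) is the principal block has order at most N. -/
theorem result (p : ℕ) [Fact p.Prime] (a : ℕ) : ∃ N : ℕ, ∀ (G : Type u) [Group G] [Finite G] (M : Ideal Cfsg.AlgInt), Cfsg.IsPModular p M → (Nat.card G).factorization p = a → (∀ B : Set (Cfsg.IrrCharacter G), Cfsg.IsPBlock M B → B = Cfsg.principalBlock M G) → Nat.card G ≤ N := by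
  obtain ⟨N, hN⟩ := Agent.BlockChar.exists_bound_of_card_conjClasses.{u} (p ^ (2 * a) + 4)
  refine ⟨N, fun G _ _ M hM ha hone => hN G ?_⟩
  classical
  have := Fintype.ofFinite G
  have hB := Agent.Blocks.isPBlock_principalBlock (G := G) M
  have h := Agent.BlockChar.brauer_feit hM hB
  have hall : ∀ χ : Cfsg.IrrCharacter G, χ ∈ Cfsg.principalBlock M G := fun χ =>
    hone _ (Agent.Blocks.isPBlock_blockOf χ) ▸ Agent.Blocks.mem_blockOf_self hM χ
  simp only [hall, if_true] at h
  have h1 : Nat.card (ConjClasses G) ≤ ∑ χ : Cfsg.IrrCharacter G,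
      p ^ (2 * Cfsg.blockHeight p (Cfsg.principalBlock M G) (χ : G → ℂ)) := by
    rw [← Agent.Char.card_irrCharacter, Nat.card_eq_fintype_card, ← Finset.card_univ,
      Finset.card_eq_sum_ones]
    exact Finset.sum_le_sum fun χ _ => Nat.one_le_pow _ _ hM.1.pos
  have h2 : Cfsg.blockDefect p (Cfsg.principalBlock M G) ≤ a := by
    rw [Agent.BlockChar.blockDefect_eq, ha]; exact Nat.sub_le _ _
  have h3 : p ^ (2 * Cfsg.blockDefect p (Cfsg.principalBlock M G)) ≤ p ^ (2 * a) :=
    Nat.pow_le_pow_right hM.1.pos (by omega)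
  omega

end Cfsg.Agent.S4718
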