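import Cfsg.Statements.S4719
import Cfsg.Agent.BlockChar.TwoDeficiency
-- import your own Cfsg.Agent.* helpers here

set_option autoImplicit false
universe u
open Cfsg

namespace Cfsg.Agent.S4719

/-- For every natural number a there is a bound N with the following property. Let G be a finite group with Sylow 2-subgroups of order 2^a and r ≥ 0 such that G has no non-principal 2-block (relative to a maximal ideal of the algebraic integers containing 2) of defect ≥ r, and suppose a Sylow 2-subgroup of G contains an elementary abelian subgroup of order 2^(r+1). Then the order of G is at most N. -/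
theorem result (a : ℕ) : ∃ N : ℕ, ∀ (G : Type u) [Group G] [Finite G] (M : Ideal Cfsg.AlgInt) (r : ℕ) (P : Sylow 2 G), Cfsg.IsPModular 2 M → Nat.card P = 2 ^ a → (∀ B : Set (Cfsg.IrrCharacter G), Cfsg.IsPBlock M B → B ≠ Cfsg.principalBlock M G → Cfsg.blockDefect 2 B < r) → (∃ E : Subgroup G, E ≤ (P : Subgroup G) ∧ IsMulCommutative E ∧ (∀ x ∈ E, x * x = 1) ∧ Nat.card E = 2 ^ (r + 1)) → Nat.card G ≤ N := by
  choose N hN using Cfsg.Agent.TwoDeficiency.exists_bound.{u} a
  refine ⟨(Finset.range (a + 1)).sup N, fun G _ _ M r P hM hP hnp hE => ?_⟩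
  obtain ⟨E, hEP, hcomm, hsq, hcard⟩ := hE
  have hle : r + 1 ≤ a := by
    have h := Subgroup.card_le_of_le hEP
    rwa [hcard, hP, Nat.pow_le_pow_iff_right one_lt_two] at h
  have ha : (Nat.card G).factorization 2 ≤ a := by
    have h := P.card_eq_multiplicity
    rw [hP] at h
    exact le_of_eq (Nat.pow_right_injective le_rfl h).symm
  have h := hN r G M r E ⊥ hM ha hnp
    (fun x hx y hy => congrArg Subtype.val (hcomm.is_comm.comm ⟨x, hx⟩ ⟨y, hy⟩)) hsq hcard
    bot_le 0 (by simp) (by omega)
  rw [show Subgroup.centralizer ((⊥ : Subgroup G) : Set G) = ⊤ from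
    Subgroup.centralizer_eq_top_iff_subset.2 (SetLike.coe_subset_coe.2 bot_le), Subgroup.card_top] at h
  exact h.trans (Finset.le_sup (f := N) (Finset.mem_range.2 (by omega)))

end Cfsg.Agent.S4719
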