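import Cfsg.Statements.S4720
import Cfsg.Agent.Blocks.PrincipalColumns

set_option autoImplicit false
open Cfsg

namespace Cfsg.Agent.S4720

/-- Let p be a prime, M a maximal ideal of the algebraic integers containing p, P a p-subgroup of the finite group G, N a subgroup with P ≤ N ≤ N_G(P), and U a nonempty subset of P normalized by N such that an element of U and an element of P that are conjugate in G are already conjugate in N, and such that λ(C_G(y)) = w·#C_N(y) for every y ∈ U with one rational number w, where λ(X) denotes the sum of the squares of the degrees of the irreducible characters in the principal p-block of X. For a complex function θ on P and χ in the principal block of G put a_χ(θ) = #P⁻¹ Σ_{y ∈ P} χ(y) θ(y⁻¹). Then for generalized characters θ, η of P with θ vanishing outside U, Σ_χ a_χ(θ)·conj(a_χ(η)) = (w/#P²)·Σ_{y ∈ P} θ(y)·conj(Σ_{x ∈ N} η(x y x⁻¹)) (η extended by zero off P; the conjugates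 lie in P), the first sum over the principal p-block of G. -/
theorem result {G : Type*} [Group G] [Finite G] (p : ℕ) [Fact p.Prime] (M : Ideal Cfsg.AlgInt) (hM : Cfsg.IsPModular p M) (P : Subgroup G) (hP : IsPGroup p P) (N : Subgroup G) (hPN : P ≤ N) (hNN : N ≤ Subgroup.normalizer (P : Set G)) (U : Set G) (hUne : U.Nonempty) (hUP : U ⊆ (P : Set G)) (hUN : ∀ n ∈ N, ∀ u ∈ U, n * u * n⁻¹ ∈ U) (hfus : ∀ u ∈ U, ∀ g : G, g * u * g⁻¹ ∈ (P : Set G) → ∃ n ∈ N, n * u * n⁻¹ = g * u * g⁻¹) (w : ℚ) (hw : ∀ y ∈ U, ((∑ᶠ ψ ∈ Cfsg.principalBlock M ↥(Subgroup.centralizer ({y} : Set G)), Cfsg.charDegree (ψ : ↥(Subgroup.centralizer ({y} : Set G)) → ℂ) ^ 2) : ℚ) = w * Nat.card ↥(N ⊓ Subgroup.centralizer ({y} : Set G))) (θ η : ↥P → ℂ) (hθ : Cfsg.IsGeneralizedCharacter ↥P θ) (hη : Cfsg.IsGeneralizedCharacter ↥P η) (hθU : ∀ y : ↥P, (y : G) ∉ U → θ y = 0) : ∑ᶠ χ ∈ Cfsg.principalBlock M G, ((Nat.card ↥P : ℂ)⁻¹ * ∑ᶠ y : ↥P, (χ : G → ℂ)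 (y : G) * θ y⁻¹) * (starRingEnd ℂ) ((Nat.card ↥P : ℂ)⁻¹ * ∑ᶠ y : ↥P, (χ : G → ℂ) (y : G) * η y⁻¹) = ((w : ℂ) / ((Nat.card ↥P : ℂ) ^ 2)) * ∑ᶠ y : ↥P, θ y * (starRingEnd ℂ) (∑ᶠ x : ↥N, Cfsg.extendByZero P η ((x : G) * (y : G) * (x : G)⁻¹)) := by
  classical
  have := Fintype.ofFinite G
  have : Fact p.Prime := ⟨hM.1⟩
  have hB := Agent.Blocks.isPBlock_principalBlock (G := G) M
  set B := Cfsg.principalBlock M G with hBdef
  have hpe : ∀ y : ↥P, ∃ k, orderOf (y : G) = p ^ k := fun y =>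
    Agent.Blocks.exists_orderOf_of_mem hP y.2
  have hN0 : (Nat.card ↥P : ℂ) ≠ 0 := Nat.cast_ne_zero.2 Nat.card_pos.ne'
  -- the pairing of two columns
  let K : ↥P → ↥P → ℂ := fun y z =>
    ∑ᶠ χ ∈ B, (χ : G → ℂ) (z : G) * (starRingEnd ℂ) ((χ : G → ℂ) (y : G))
  have key : ∀ y : ↥P, θ y * ∑ z : ↥P, (starRingEnd ℂ) (η z) * K y z =
      (w : ℂ) * (θ y * (starRingEnd ℂ)
        (∑ᶠ x : ↥N, Cfsg.extendByZero P η ((x : G) * (y : G) * (x : G)⁻¹))) := by
    intro y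
    by_cases hyU : (y : G) ∈ U
    swap
    · rw [hθU y hyU, zero_mul, zero_mul, mul_zero]
    rw [mul_left_comm (w : ℂ)]
    congr 1
    set C := Subgroup.centralizer ({(y : G)} : Set G) with hC
    have hmemP : ∀ x : ↥N, (x : G) * (y : G) * (x : G)⁻¹ ∈ P := fun x =>
      ((Subgroup.mem_normalizer_iff.1 (hNN x.2)) (y : G)).1 y.2
    have hext : ∀ x : ↥N, Cfsg.extendByZero P η ((x : G) * (y : G) * (x : G)⁻¹) =
        η ⟨_, hmemP x⟩ := fun x =>
      Subtype.val_injective.extend_apply _ _ (⟨_, hmemP x⟩ : ↥P)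
    have hne : ∀ z : ↥P, (∀ x : ↥N, (x : G) * (y : G) * (x : G)⁻¹ ≠ (z : G)) → K y z = 0 := by
      intro z hz
      refine Agent.Blocks.block_column_zero hM hB (hpe y) (hpe z) fun h => ?_
      obtain ⟨g, hg⟩ := isConj_iff.1 h.symm
      obtain ⟨n, hn, he⟩ := hfus _ hyU g (by rw [hg]; exact z.2)
      exact hz ⟨n, hn⟩ (by rw [← hg]; exact he)
    have heq : ∀ z : ↥P, (∃ x : ↥N, (x : G) * (y : G) * (x : G)⁻¹ = (z : G)) → K y z =
        (w : ℂ) * (Nat.card ↥(N ⊓ C) : ℂ) := by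
      rintro z ⟨x, hx⟩
      have hcl : ∀ χ : Cfsg.IrrCharacter G, (χ : G → ℂ) (z : G) = (χ : G → ℂ) (y : G) := fun χ => by
        rw [← hx]; exact Agent.Char.isClassFunction_of_isIrr χ.2 _ _
      simp only [K, hcl]
      rw [Agent.Blocks.principal_column_self hM (hpe y)]
      have h := hw _ hyU
      rw [finsum_mem_eq_finite_toFinset_sum _ (Set.toFinite _)] at h ⊢
      have h2 := congrArg (fun q : ℚ => (q : ℂ)) h
      push_cast at h2 ⊢
      exact h2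
    have hfib : ∀ z : ↥P, (∃ x : ↥N, (x : G) * (y : G) * (x : G)⁻¹ = (z : G)) →
        (Finset.univ.filter fun x : ↥N => (⟨_, hmemP x⟩ : ↥P) = z).card =
          Nat.card ↥(N ⊓ C) := by
      rintro z ⟨x₀, hx₀⟩
      rw [← Fintype.card_subtype, ← Nat.card_eq_fintype_card]
      have hm : ∀ c : G, c ∈ C ↔ c * (y : G) * c⁻¹ = (y : G) := fun c => by
        rw [hC, Subgroup.mem_centralizer_singleton_iff, mul_inv_eq_iff_eq_mul]
      refine Nat.card_congr
        { toFun := fun x => ⟨(x₀ : G)⁻¹ * (x.1 : G), ⟨N.mul_mem (N.inv_mem x₀.2) x.1.2, ?_⟩⟩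
          invFun := fun c => ⟨⟨(x₀ : G) * (c : G), N.mul_mem x₀.2 (Subgroup.mem_inf.1 c.2).1⟩, ?_⟩
          left_inv := fun x => by ext; simp
          right_inv := fun c => by ext; simp }
      · have e : (x.1 : G) * (y : G) * (x.1 : G)⁻¹ = (z : G) := congrArg Subtype.val x.2
        refine (hm _).2 ?_
        calc (x₀ : G)⁻¹ * (x.1 : G) * (y : G) * ((x₀ : G)⁻¹ * (x.1 : G))⁻¹
            = (x₀ : G)⁻¹ * ((x.1 : G) * (y : G) * (x.1 : G)⁻¹) * (x₀ : G) := by group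
          _ = (x₀ : G)⁻¹ * ((x₀ : G) * (y : G) * (x₀ : G)⁻¹) * (x₀ : G) := by rw [e, hx₀]
          _ = (y : G) := by group
      · refine Subtype.ext ?_
        show (x₀ : G) * (c : G) * (y : G) * ((x₀ : G) * (c : G))⁻¹ = (z : G)
        rw [← hx₀]
        calc (x₀ : G) * (c : G) * (y : G) * ((x₀ : G) * (c : G))⁻¹
            = (x₀ : G) * ((c : G) * (y : G) * (c : G)⁻¹) * (x₀ : G)⁻¹ := by group
          _ = _ := by rw [(hm _).1 (Subgroup.mem_inf.1 c.2).2]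
    rw [finsum_eq_sum_of_fintype]
    simp only [hext, map_sum]
    rw [← Finset.sum_fiberwise Finset.univ (fun x : ↥N => (⟨_, hmemP x⟩ : ↥P)),
      Finset.mul_sum]
    refine Finset.sum_congr rfl fun z _ => ?_
    rw [Finset.sum_congr rfl (g := fun _ => (starRingEnd ℂ) (η z))
      (fun x hx => by rw [(Finset.mem_filter.1 hx).2]), Finset.sum_const, nsmul_eq_mul]
    by_cases hz : ∃ x : ↥N, (x : G) * (y : G) * (x : G)⁻¹ = (z : G)
    · rw [heq z hz, hfib z hz]; ring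
    · rw [hne z fun x hx => hz ⟨x, hx⟩, Finset.filter_eq_empty_iff.2 fun x _ hx =>
        hz ⟨x, congrArg Subtype.val hx⟩]
      simp
  -- expand the left-hand side
  have hconj : ∀ (χ : Cfsg.IrrCharacter G) (a : ↥P),
      (starRingEnd ℂ) ((χ : G → ℂ) ((a⁻¹ : ↥P) : G)) = (χ : G → ℂ) (a : G) := fun χ a => by
    rw [Subgroup.coe_inv, Agent.Char.IsChar.inv_eq_conj (Agent.Char.IsIrr.isCharacter χ.2),
      Complex.conj_conj]
  have hre : ∀ (χ : Cfsg.IrrCharacter G) (φ : ↥P → ℂ),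
      ∑ᶠ y : ↥P, (χ : G → ℂ) (y : G) * φ y⁻¹ =
        ∑ y : ↥P, (starRingEnd ℂ) ((χ : G → ℂ) (y : G)) * φ y := by
    intro χ φ
    rw [finsum_eq_sum_of_fintype]
    refine Fintype.sum_equiv (Equiv.inv ↥P) _ _ fun y => ?_
    simp only [Equiv.inv_apply, hconj]
  simp only [hre]
  have hterm : ∀ χ : Cfsg.IrrCharacter G,
      ((Nat.card ↥P : ℂ)⁻¹ * ∑ y : ↥P, (starRingEnd ℂ) ((χ : G → ℂ) (y : G)) * θ y) *
        (starRingEnd ℂ) ((Nat.card ↥P : ℂ)⁻¹ *
          ∑ y : ↥P, (starRingEnd ℂ) ((χ : G → ℂ) (y : G)) * η y) =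
      ((Nat.card ↥P : ℂ) ^ 2)⁻¹ * ∑ y : ↥P, θ y * ∑ z : ↥P, (starRingEnd ℂ) (η z) *
        ((χ : G → ℂ) (z : G) * (starRingEnd ℂ) ((χ : G → ℂ) (y : G))) := by
    intro χ
    simp only [map_mul, map_inv₀, map_natCast, map_sum, Complex.conj_conj]
    rw [show ∀ a b c d : ℂ, a * b * (c * d) = (a * c) * (b * d) from fun a b c d => by ring,
      Finset.sum_mul_sum, ← mul_inv, ← sq]
    congr 1
    refine Finset.sum_congr rfl fun y _ => ?_
    rw [Finset.mul_sum]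
    exact Finset.sum_congr rfl fun z _ => by ring
  simp only [hterm]
  rw [finsum_mem_eq_finite_toFinset_sum _ (Set.toFinite B), finsum_eq_sum_of_fintype,
    ← Finset.mul_sum, Finset.sum_comm, div_eq_mul_inv, mul_comm (w : ℂ), mul_assoc, Finset.mul_sum _ _ (w : ℂ)]
  congr 1
  refine Finset.sum_congr rfl fun y _ => ?_
  rw [← key y, ← Finset.mul_sum, Finset.sum_comm]
  congr 1
  refine Finset.sum_congr rfl fun z _ => ?_
  rw [← Finset.mul_sum]
  congr 1
  simp only [K, finsum_mem_eq_finite_toFinset_sum _ (Set.toFinite B)]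

end Cfsg.Agent.S4720
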