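import Mathlib
import Cfsg.Statements.S4721
import Cfsg.Agent.BlockThms.AbelianTI.Three

set_option autoImplicit false
open Cfsg

namespace Cfsg.Agent.S4721

/-- Let p be a prime, M a maximal ideal of the algebraic integers containing p, and G a finite group with a nontrivial abelian Sylow p-subgroup P, N = N_G(P), C = C_G(P), such that N/C is cyclic of order 3, #P > 4, and C_G(y) ∩ N = C for every non-identity y ∈ P. Then the principal p-block is the disjoint union of a set X of exactly 3 characters containing the principal character and a set Y of (#P − 1)/3 characters, with signs a_χ = ±1 (χ ∈ X, a = 1 at the principal character) and δ = ±1 such that every χ ∈ X takes the value a_χ at every element whose p-part is a non-identity element of P, and there is a map ζ from the non-principal linear characters of P onto Y, constant on N-conjugacy classes, with ζ_ψ(z) = δ·Σ ψ'(y) over the N-orbit of ψ, for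 z with p-part y ≠ 1 in P. If moreover G has an involution lying in no proper normal subgroup of G, then exactly two of the three numbers −δ and a_χ (χ ∈ X non-principal) equal −1, and the product of the degrees of the two non-principal members of X and of any member of Y is a perfect square. -/
theorem result {G : Type*} [Group G] [Finite G] (p : ℕ) [Fact p.Prime] (M : Ideal Cfsg.AlgInt) (hM : Cfsg.IsPModular p M) (P : Sylow p G) (hab : IsMulCommutative P) (hP1 : Nat.card P ≠ 1) (hCN : (Subgroup.centralizer ((P : Subgroup G) : Set G)).relIndex (Subgroup.normalizer ((P : Subgroup G) : Set G)) = 3) (hcyc : ∃ g : G, g ∈ Subgroup.normalizer ((P : Subgroup G) : Set G) ∧ Subgroup.centralizer ((P : Subgroup G) : Set G) ⊔ Subgroup.zpowers g = Subgroup.normalizer ((P : Subgroup G) : Set G)) (hm2 : 3 + 1 < Nat.card P) (hfrob : ∀ y : G, y ∈ (P : Subgroup G) → y ≠ 1 → Subgroup.centralizer ({y} : Set G) ⊓ Subgroup.normalizer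 ((P : Subgroup G) : Set G) = Subgroup.centralizer ((P : Subgroup G) : Set G)) : ∃ (X Y : Set (Cfsg.IrrCharacter G)), Cfsg.principalBlock M G = X ∪ Y ∧ Disjoint X Y ∧ Nat.card X = 3 ∧ Nat.card Y = (Nat.card P - 1) / 3 ∧ (∃ χ₁ ∈ X, (χ₁ : G → ℂ) = fun _ => 1) ∧ ∃ (a : Cfsg.IrrCharacter G → ℤ) (δ : ℤ) (ζ : (↥(P : Subgroup G) →* ℂˣ) → Cfsg.IrrCharacter G), (δ = 1 ∨ δ = -1) ∧ (∀ χ ∈ X, (a χ = 1 ∨ a χ = -1) ∧ ∀ z y : G, Cfsg.IsPPart p z y → y ∈ (P : Subgroup G) → y ≠ 1 → (χ : G → ℂ) z = (a χ : ℂ)) ∧ (∀ ψ : ↥(P : Subgroup G) →* ℂˣ, ψ ≠ 1 → ζ ψ ∈ Y) ∧ (∀ η ∈ Y, ∃ ψ : ↥(P : Subgroup G) →* ℂˣ, ψ ≠ 1 ∧ ζ ψ = η) ∧ (∀ ψ ψ' : ↥(P : Subgroup G) →* ℂˣ, ψ ≠ 1 → (∃ n : G, n ∈ Subgroup.normalizer ((P : Subgroup G) : Set G) ∧ ∀ w w' : ↥(P : Subgroup G), (w' : G) = n * w * n⁻¹ → ψ' w' = ψ w) → ζ ψ' = ζ ψ) ∧ (∀ ψ : ↥(P : Subgroup G) →* ℂˣ, ψ ≠ 1 → ∀ (z : G) (y : ↥(P : Subgroup G)), Cfsg.IsPPart p z (y : G) → (y : G) ≠ 1 →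 (ζ ψ : G → ℂ) z = (δ : ℂ) * ∑ᶠ ψ' ∈ {ψ' : ↥(P : Subgroup G) →* ℂˣ | ∃ n : G, n ∈ Subgroup.normalizer ((P : Subgroup G) : Set G) ∧ ∀ w w' : ↥(P : Subgroup G), (w' : G) = n * w * n⁻¹ → ψ' w' = ψ w}, ((ψ' y : ℂˣ) : ℂ)) ∧ ((∃ t : G, orderOf t = 2 ∧ ∀ K : Subgroup G, K.Normal → t ∈ K → K = ⊤) → Nat.card {χ : Cfsg.IrrCharacter G // χ ∈ X ∧ (χ : G → ℂ) ≠ (fun _ => 1) ∧ a χ = -1} + (if δ = 1 then 1 else 0) = 2 ∧ ∀ η ∈ Y, IsSquare (Cfsg.charDegree (η : G → ℂ) * ∏ᶠ χ ∈ {χ : Cfsg.IrrCharacter G | χ ∈ X ∧ (χ : G → ℂ) ≠ fun _ => 1}, Cfsg.charDegree (χ : G → ℂ))) := by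
  classical
  have := Fintype.ofFinite G
  have hS : BlockThms.AbelianTI.Setup P 3 := ⟨hab, hCN, hfrob⟩
  obtain ⟨X, Y, a, δ, ζ, h, hX3, ha⟩ := hS.exceptional_three hM (by omega)
  refine ⟨↑X, ↑Y, h.block_eq, Finset.disjoint_coe.2 h.disj, by simpa using hX3,
    by simpa using h.card_Y (by norm_num), ⟨Blocks.triv G, h.triv_mem, rfl⟩, a, δ, ζ, h.sign,
    fun χ hχ => ⟨ha χ hχ, fun z y hz hy hy1 => h.valX' hχ hz hy hy1⟩, h.zeta_mem, h.zeta_surj,
    fun ψ ψ' hψ hc => h.zeta_congr hψ hc, fun ψ hψ z y hz hy1 => ?_, ?_⟩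
  · rw [h.valY' hψ hz hy1, Int.cast_zero, zero_add]
  · rintro ⟨t, ht, htn⟩
    obtain ⟨χ₂, χ₃, h23, hset, hcount, hsq⟩ := hS.signs_square (by omega) h hX3 ha ht htn
    have hmem : ∀ χ : Cfsg.IrrCharacter G,
        (χ ∈ (↑X : Set (Cfsg.IrrCharacter G)) ∧ (χ : G → ℂ) ≠ fun _ => 1) ↔
          χ = χ₂ ∨ χ = χ₃ := fun χ => by
      have := Set.ext_iff.1 hset χ
      simpa using this
    refine ⟨?_, fun η hη => ?_⟩
    · have hc : Nat.card {χ : Cfsg.IrrCharacter G //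
          χ ∈ (↑X : Set (Cfsg.IrrCharacter G)) ∧ (χ : G → ℂ) ≠ (fun _ => 1) ∧ a χ = -1} =
          (if a χ₂ = -1 then 1 else 0) + (if a χ₃ = -1 then 1 else 0) := by
        rw [Nat.card_congr (Equiv.subtypeEquivRight (q := fun χ => χ ∈ ({χ₂, χ₃} :
          Finset (Cfsg.IrrCharacter G)).filter fun χ => a χ = -1) fun χ => by
            rw [← and_assoc, hmem]; simp), Nat.card_eq_finsetCard, Finset.card_filter,
          Finset.sum_pair h23]
      rw [hc]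
      exact hcount
    · rw [finprod_mem_congr (s := {χ : Cfsg.IrrCharacter G | χ ∈ (↑X : Set (Cfsg.IrrCharacter G)) ∧ (χ : G → ℂ) ≠ fun _ => 1})
          (t := ({χ₂, χ₃} : Set (Cfsg.IrrCharacter G))) (Set.ext fun χ => by simpa using hmem χ)
          (fun _ _ => rfl),
        finprod_mem_pair h23]
      exact hsq η hη

end Cfsg.Agent.S4721
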