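import Cfsg.Statements.S4722
import Cfsg.Agent.Blocks.PrincipalColumns
import Cfsg.Agent.CharArith.Basic
import Cfsg.Agent.Invol.Section942
import Cfsg.Agent.Char.Gen
import Cfsg.Agent.Char.Linear

set_option autoImplicit false
open Cfsg

namespace Cfsg.Agent.S4722

/-- Let M be a maximal ideal of the algebraic integers containing 2, P a 2-subgroup of the finite group G, U a subset of P, and t an involution of G such that no element of U is inverted by any conjugate of t. Let θ be a generalized character of P vanishing outside U, and for χ in the principal 2-block B₀ put a_χ = #P⁻¹ Σ_{y ∈ P} χ(y) θ(y⁻¹). Then Σ_{χ ∈ B₀} a_χ χ(t)^2/χ(1) = 0, Σ_{χ ∈ B₀} a_χ χ(1) = 0 and Σ_{χ ∈ B₀} a_χ χ(t) = 0. If moreover #P⁻¹ Σ_{y ∈ P} θ(y) ≠ 0, then either at least two of the a_χ have positive real part and at least two have negative real part, or G has a proper normal subgroup containing O_2'(G) and t. -/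
theorem result {G : Type*} [Group G] [Finite G] (M : Ideal Cfsg.AlgInt) (hM : Cfsg.IsPModular 2 M) (P : Subgroup G) (hP : IsPGroup 2 P) (U : Set G) (hUP : U ⊆ (P : Set G)) (t : G) (ht : orderOf t = 2) (hinv : ∀ u ∈ U, ∀ g : G, (g * t * g⁻¹) * u * (g * t * g⁻¹)⁻¹ ≠ u⁻¹) (θ : ↥P → ℂ) (hθ : Cfsg.IsGeneralizedCharacter ↥P θ) (hθU : ∀ y : ↥P, (y : G) ∉ U → θ y = 0) : (∑ᶠ χ ∈ Cfsg.principalBlock M G, ((Nat.card ↥P : ℂ)⁻¹ * ∑ᶠ y : ↥P, (χ : G → ℂ) (y : G) * θ y⁻¹) * (χ : G → ℂ) t ^ 2 / (χ : G → ℂ) 1 = 0) ∧ (∑ᶠ χ ∈ Cfsg.principalBlock M G, ((Nat.card ↥P : ℂ)⁻¹ * ∑ᶠ y : ↥P, (χ : G → ℂ) (y : G) * θ y⁻¹) * (χ : G → ℂ) 1 = 0) ∧ (∑ᶠ χ ∈ Cfsg.principalBlock M G, ((Nat.card ↥P : ℂ)⁻¹ * ∑ᶠ y : ↥P, (χ : G → ℂ) (y : G) * θ y⁻¹) * (χ : G → ℂ) t = 0) ∧ ((Nat.card ↥P : ℂ)⁻¹ * ∑ᶠ y : ↥P, θ y ≠ 0 → (2 ≤ Nat.card {χ : Cfsg.IrrCharacter G // χ ∈ Cfsg.principalBlock M G ∧ 0 < (((Nat.card ↥P : ℂ)⁻¹ * ∑ᶠ y : ↥P, (χ : G → ℂ) (y : G)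 * θ y⁻¹)).re} ∧ 2 ≤ Nat.card {χ : Cfsg.IrrCharacter G // χ ∈ Cfsg.principalBlock M G ∧ (((Nat.card ↥P : ℂ)⁻¹ * ∑ᶠ y : ↥P, (χ : G → ℂ) (y : G) * θ y⁻¹)).re < 0}) ∨ ∃ K : Subgroup G, K.Normal ∧ K ≠ ⊤ ∧ Cfsg.pPrimeCore 2 G ≤ K ∧ t ∈ K) := by
  classical
  have := Fintype.ofFinite G
  have : Fact (Nat.Prime 2) := ⟨Nat.prime_two⟩
  have hp := hM.1
  have hBl := Agent.Blocks.isPBlock_principalBlock (G := G) M
  set B := Cfsg.principalBlock M G with hBdef
  have hG0 : (Nat.card G : ℂ) ≠ 0 := Nat.cast_ne_zero.2 Nat.card_pos.ne'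
  have hP0 : (Nat.card ↥P : ℂ) ≠ 0 := Nat.cast_ne_zero.2 Nat.card_pos.ne'
  have htt : t * t = 1 := by rw [← sq, ← ht]; exact pow_orderOf_eq_one t
  have htinv : t⁻¹ = t := inv_eq_of_mul_eq_one_right htt
  set a : Cfsg.IrrCharacter G → ℂ := fun χ =>
    (Nat.card ↥P : ℂ)⁻¹ * ∑ᶠ y : ↥P, (χ : G → ℂ) (y : G) * θ y⁻¹ with ha
  set S := (Set.toFinite B).toFinset with hS
  have hsum : ∀ F : Cfsg.IrrCharacter G → ℂ, ∑ᶠ χ ∈ B, F χ = ∑ χ ∈ S, F χ := fun F =>
    finsum_mem_eq_finite_toFinset_sum _ _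
  -- inner sums
  have hpair : ∀ f : Cfsg.IrrCharacter G → ℂ,
      (∀ y : ↥P, (y : G)⁻¹ ∈ U → ∑ᶠ χ ∈ B, f χ * (χ : G → ℂ) (y : G) = 0) →
      ∑ χ ∈ S, a χ * f χ = 0 := by
    intro f hf
    simp only [ha, finsum_eq_sum_of_fintype, Finset.mul_sum, Finset.sum_mul]
    rw [Finset.sum_comm]
    refine Finset.sum_eq_zero fun y _ => ?_
    by_cases hy : (y : G)⁻¹ ∈ U
    · have h := hf y hy
      rw [hsum] at h
      calc ∑ χ ∈ S, (Nat.card ↥P : ℂ)⁻¹ * ((χ : G → ℂ) (y : G) * θ y⁻¹) * f χ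
          = ((Nat.card ↥P : ℂ)⁻¹ * θ y⁻¹) * ∑ χ ∈ S, f χ * (χ : G → ℂ) (y : G) := by
            rw [Finset.mul_sum]; exact Finset.sum_congr rfl fun χ _ => by ring
        _ = 0 := by rw [h, mul_zero]
    · exact Finset.sum_eq_zero fun χ _ => by rw [hθU y⁻¹ hy]; simp
  have hu1 : (1 : G) ∉ U := fun h => hinv 1 h 1 (by group)
  have hpe : ∀ y : ↥P, ∃ k, orderOf (y : G) = 2 ^ k := fun y =>
    Agent.Blocks.exists_orderOf_of_mem hP y.2
  -- the three vanishing sums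
  have h1 : ∑ χ ∈ S, a χ * (χ : G → ℂ) 1 = 0 := hpair _ fun y hy => by
    have h := Agent.Blocks.block_column_zero hM hBl (z := (y : G)) (y := 1) ⟨0, by simp⟩ (hpe y)
      fun e => hu1 (by rwa [isConj_one_left.1 e, inv_one] at hy)
    rw [← h]
    refine finsum_congr fun χ => finsum_congr fun _ => ?_
    obtain ⟨d, -, hd⟩ := Agent.Char.IsIrr.degree χ.2
    simp [hd, mul_comm]
  have h2 : ∑ χ ∈ S, a χ * (χ : G → ℂ) t = 0 := hpair _ fun y hy => by
    have h := Agent.Blocks.block_column_zero hM hBl (z := (y : G)) (y := t) ⟨1, by simpa using ht⟩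
      (hpe y) fun e => by
        obtain ⟨g, hg⟩ := isConj_iff.1 e.symm
        refine hinv _ hy g ?_
        rw [← hg]
        have : (g * t * g⁻¹)⁻¹ = g * t * g⁻¹ := by rw [mul_inv_rev, mul_inv_rev, inv_inv, htinv, mul_assoc]
        simp only [this]
        calc g * t * g⁻¹ * (g * t * g⁻¹) * (g * t * g⁻¹) = g * (t * t) * t * g⁻¹ := by group
          _ = g * t * g⁻¹ := by rw [htt, mul_one]
    rw [← h]
    refine finsum_congr fun χ => finsum_congr fun _ => ?_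
    rw [← Agent.Char.IsChar.inv_eq_conj (Agent.Char.IsIrr.isCharacter χ.2), htinv, mul_comm]
  have h3 : ∑ χ ∈ S, a χ * ((χ : G → ℂ) t ^ 2 / (χ : G → ℂ) 1) = 0 := by
    refine hpair _ fun y hy => ?_
    rw [hsum]
    set c : Cfsg.IrrCharacter G → ℂ := fun χ => (χ : G → ℂ) t ^ 2 / (χ : G → ℂ) 1
    -- the full sum vanishes on the section of `y`
    have hvan : ∀ g : G, IsConj (Agent.Blocks.pPartOf 2 g) (y : G) →
        ∑ χ : Cfsg.IrrCharacter G, c χ * (χ : G → ℂ) g = 0 := by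
      intro g hg
      apply mul_left_cancel₀ hG0
      rw [mul_zero, Finset.mul_sum]
      have e : ∀ χ : Cfsg.IrrCharacter G, (Nat.card G : ℂ) * (c χ * (χ : G → ℂ) g) =
          ∑ b : G, (χ : G → ℂ) (b * t * b⁻¹ * g) * (starRingEnd ℂ) ((χ : G → ℂ) t) := by
        intro χ
        obtain ⟨d, hd0, hd⟩ := Agent.Char.IsIrr.degree χ.2
        have hd' : (χ : G → ℂ) 1 ≠ 0 := by rw [hd]; exact Nat.cast_ne_zero.2 hd0.ne'
        rw [← Agent.Char.IsChar.inv_eq_conj (Agent.Char.IsIrr.isCharacter χ.2), htinv,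
          ← Finset.sum_mul]
        simp only [c]
        apply mul_left_cancel₀ hd'
        rw [← mul_assoc ((χ : G → ℂ) 1) (∑ i, _) _, Agent.CharArith.classMult χ.2]
        field_simp
      rw [Finset.sum_congr rfl fun χ _ => e χ, Finset.sum_comm]
      refine Finset.sum_eq_zero fun b _ => ?_
      rw [Agent.Char.second_orthogonality, if_neg]
      intro hc
      obtain ⟨k, hk⟩ := isConj_iff.1 hg
      set s := b * t * b⁻¹
      have hss : s⁻¹ = s := by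
        show (b * t * b⁻¹)⁻¹ = b * t * b⁻¹
        rw [mul_inv_rev, mul_inv_rev, inv_inv, htinv, mul_assoc]
      have hsg : (s * g) * (s * g) = 1 := by
        obtain ⟨q, hq⟩ := isConj_iff.1 hc.symm
        rw [← hq]
        calc q * t * q⁻¹ * (q * t * q⁻¹) = q * (t * t) * q⁻¹ := by group
          _ = 1 := by rw [htt, mul_one, mul_inv_cancel]
      have hsgs : s * g * s⁻¹ = g⁻¹ := by
        rw [hss, eq_inv_iff_mul_eq_one, mul_assoc (s * g) s g]
        exact hsg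
      set w := Agent.Blocks.pPartOf 2 g
      have hpw : s * w * s⁻¹ = w⁻¹ := by
        rw [← Agent.Blocks.pPartOf_conj, hsgs]
        simp only [w, Agent.Blocks.pPartOf, orderOf_inv, inv_pow]
      refine hinv _ hy (k * b) ?_
      have e1 : k * b * t * (k * b)⁻¹ = k * s * k⁻¹ := by simp only [s]; group
      rw [e1, inv_inv, ← hk, mul_inv_rev (k * w) k⁻¹, inv_inv, mul_inv_rev k w]
      calc k * s * k⁻¹ * (k * (w⁻¹ * k⁻¹)) * (k * s * k⁻¹)⁻¹
          = k * (s * w * s⁻¹)⁻¹ * k⁻¹ := by group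
        _ = k * w * k⁻¹ := by rw [hpw, inv_inv]
    -- project on the block
    have hker : ∀ g : G, ¬ IsConj (Agent.Blocks.pPartOf 2 g) (y : G) →
        ∑ φ ∈ S, (φ : G → ℂ) (y : G) * (starRingEnd ℂ) ((φ : G → ℂ) g) = 0 := by
      intro g hg
      have h := Agent.Blocks.block_orthogonality hM hBl (y : G) g⁻¹ (by
        rw [Agent.Blocks.pPartOf_pElement hp (hpe y),
          show (Agent.Blocks.pPartOf 2 g⁻¹)⁻¹ = Agent.Blocks.pPartOf 2 g by
            simp only [Agent.Blocks.pPartOf, orderOf_inv, inv_pow, inv_inv]]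
        exact fun e => hg e.symm)
      rw [hsum] at h
      rw [← h]
      exact Finset.sum_congr rfl fun φ _ => by
        rw [Agent.Char.IsChar.inv_eq_conj (Agent.Char.IsIrr.isCharacter φ.2)]
    have hortho : ∀ χ φ : Cfsg.IrrCharacter G,
        ∑ g : G, (χ : G → ℂ) g * (starRingEnd ℂ) ((φ : G → ℂ) g) =
          if χ = φ then (Nat.card G : ℂ) else 0 := by
      intro χ φ
      have := Agent.Char.classInner_irrChar χ φ
      rw [Cfsg.classInner, inv_mul_eq_iff_eq_mul₀ hG0] at this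
      rw [this]; split_ifs <;> simp
    apply mul_left_cancel₀ hG0
    rw [mul_zero]
    calc (Nat.card G : ℂ) * ∑ χ ∈ S, c χ * (χ : G → ℂ) (y : G)
        = ∑ φ ∈ S, (φ : G → ℂ) (y : G) *
            ∑ χ : Cfsg.IrrCharacter G, c χ * (if χ = φ then (Nat.card G : ℂ) else 0) := by
          rw [Finset.mul_sum]
          refine Finset.sum_congr rfl fun φ _ => ?_
          simp only [mul_ite, mul_zero, Finset.sum_ite_eq', Finset.mem_univ, if_true]
          ring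
      _ = ∑ g : G, (∑ χ : Cfsg.IrrCharacter G, c χ * (χ : G → ℂ) g) *
            ∑ φ ∈ S, (φ : G → ℂ) (y : G) * (starRingEnd ℂ) ((φ : G → ℂ) g) := by
          simp only [← hortho, Finset.mul_sum, Finset.sum_mul]
          refine (Finset.sum_congr rfl fun φ _ => Finset.sum_comm).trans ?_
          rw [Finset.sum_comm]
          exact Finset.sum_congr rfl fun g _ => Finset.sum_congr rfl fun φ _ =>
            Finset.sum_congr rfl fun χ _ => by ring
      _ = 0 := Finset.sum_eq_zero fun g _ => by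
          by_cases hg : IsConj (Agent.Blocks.pPartOf 2 g) (y : G)
          · rw [hvan g hg, zero_mul]
          · rw [hker g hg, mul_zero]
  refine ⟨?_, ?_, ?_, ?_⟩
  · rw [hsum, ← h3]
    exact Finset.sum_congr rfl fun χ _ => by simp only [ha]; ring
  · rw [hsum, ← h1]
  · rw [hsum, ← h2]
  intro hθ0
  -- integrality
  have hint : ∀ χ : Cfsg.IrrCharacter G, ∃ n : ℤ, a χ = (n : ℂ) := by
    intro χ
    obtain ⟨n, hn⟩ := Agent.Char.classInner_generalized_int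
      (Agent.Char.isGeneralized_of_isCharacter
        (Agent.Char.isCharacter_res P (Agent.Char.IsIrr.isCharacter χ.2))) hθ
    refine ⟨n, ?_⟩
    obtain ⟨x, z, hx, hz, hxz⟩ := hθ
    rw [← hn, ha, Cfsg.classInner]
    simp only [finsum_eq_sum_of_fintype]
    congr 1
    refine Finset.sum_congr rfl fun y _ => ?_
    rw [hxz]
    simp only [Pi.sub_apply, map_sub, Agent.Char.IsChar.inv_eq_conj hx,
      Agent.Char.IsChar.inv_eq_conj hz]
  choose n hn using hint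
  have hdeg : ∀ χ : Cfsg.IrrCharacter G, ∃ d : ℕ, 0 < d ∧ (χ : G → ℂ) 1 = d :=
    fun χ => Agent.Char.IsIrr.degree χ.2
  choose d hd0 hd using hdeg
  set r : Cfsg.IrrCharacter G → ℝ := fun χ => ((χ : G → ℂ) t).re with hr
  have hrC : ∀ χ : Cfsg.IrrCharacter G, (χ : G → ℂ) t = (r χ : ℂ) := fun χ => by
    refine (Complex.conj_eq_iff_re.1 ?_).symm
    rw [← Agent.Char.IsChar.inv_eq_conj (Agent.Char.IsIrr.isCharacter χ.2), htinv]
  have e1 : ∑ χ ∈ S, (n χ : ℝ) * (d χ : ℝ) = 0 := by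
    apply Complex.ofReal_injective
    push_cast
    rw [← h1]
    exact Finset.sum_congr rfl fun χ _ => by rw [hn, hd]
  have e2 : ∑ χ ∈ S, (n χ : ℝ) * r χ = 0 := by
    apply Complex.ofReal_injective
    push_cast
    rw [← h2]
    exact Finset.sum_congr rfl fun χ _ => by rw [hn, hrC]
  have e3 : ∑ χ ∈ S, (n χ : ℝ) * (r χ ^ 2 / (d χ : ℝ)) = 0 := by
    apply Complex.ofReal_injective
    push_cast
    rw [← h3]
    exact Finset.sum_congr rfl fun χ _ => by rw [hn, hd, hrC]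
  set χ₁ : Cfsg.IrrCharacter G := Agent.Blocks.triv G with hχ₁
  have hχ₁S : χ₁ ∈ S := (Set.toFinite B).mem_toFinset.2 (Agent.Blocks.triv_mem_principalBlock hM)
  have hχ₁n : n χ₁ ≠ 0 := by
    intro e
    apply hθ0
    have h := hn χ₁
    rw [e, Int.cast_zero] at h
    rw [← h]
    simp only [ha, finsum_eq_sum_of_fintype]
    congr 1
    refine Fintype.sum_equiv (Equiv.inv ↥P) _ _ fun y => ?_
    simp [hχ₁, Agent.Blocks.triv]
  -- one-sided lemma
  have hside : ∀ (m : Cfsg.IrrCharacter G → ℤ), (∀ χ, m χ = 0 ↔ n χ = 0) →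
      ∑ χ ∈ S, (m χ : ℝ) * (d χ : ℝ) = 0 → ∑ χ ∈ S, (m χ : ℝ) * r χ = 0 →
      ∑ χ ∈ S, (m χ : ℝ) * (r χ ^ 2 / (d χ : ℝ)) = 0 →
      Nat.card {χ : Cfsg.IrrCharacter G // χ ∈ B ∧ 0 < m χ} < 2 →
      ∃ K : Subgroup G, K.Normal ∧ K ≠ ⊤ ∧ Cfsg.pPrimeCore 2 G ≤ K ∧ t ∈ K := by
    intro m hm f1 f2 f3 hlt
    have hd' : ∀ χ : Cfsg.IrrCharacter G, (0 : ℝ) < d χ := fun χ => Nat.cast_pos.2 (hd0 χ)
    -- some positive index
    obtain ⟨χ₀, hχ₀S, hpos⟩ : ∃ χ ∈ S, 0 < m χ := by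
      by_contra! hall
      have := (Finset.sum_eq_zero_iff_of_nonpos fun χ hχ =>
        mul_nonpos_of_nonpos_of_nonneg (Int.cast_nonpos.2 (hall χ hχ)) (hd' χ).le).1 f1 χ₁ hχ₁S
      rcases mul_eq_zero.1 this with h | h
      · exact hχ₁n ((hm χ₁).1 (Int.cast_eq_zero.1 h))
      · exact (hd' χ₁).ne' h
    have honly : ∀ χ ∈ S, 0 < m χ → χ = χ₀ := by
      intro χ hχ hmχ
      by_contra hne
      have : Nontrivial {χ : Cfsg.IrrCharacter G // χ ∈ B ∧ 0 < m χ} :=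
        ⟨⟨χ, (Set.toFinite B).mem_toFinset.1 hχ, hmχ⟩,
          ⟨χ₀, (Set.toFinite B).mem_toFinset.1 hχ₀S, hpos⟩,
          fun e => hne (congrArg Subtype.val e)⟩
      have := Finite.one_lt_card (α := {χ : Cfsg.IrrCharacter G // χ ∈ B ∧ 0 < m χ})
      omega
    set q := r χ₀ / (d χ₀ : ℝ) with hq
    have hzero : ∑ χ ∈ S, (m χ : ℝ) * (d χ : ℝ) * (r χ / (d χ : ℝ) - q) ^ 2 = 0 := by
      have e : ∀ χ : Cfsg.IrrCharacter G, (m χ : ℝ) * (d χ : ℝ) * (r χ / (d χ : ℝ) - q) ^ 2 =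
          (m χ : ℝ) * (r χ ^ 2 / (d χ : ℝ)) - 2 * q * ((m χ : ℝ) * r χ) +
            q ^ 2 * ((m χ : ℝ) * (d χ : ℝ)) := fun χ => by
        have := (hd' χ).ne'
        field_simp
        ring
      rw [Finset.sum_congr rfl fun χ _ => e χ, Finset.sum_add_distrib, Finset.sum_sub_distrib,
        ← Finset.mul_sum, ← Finset.mul_sum, f1, f2, f3]
      ring
    have hratio : ∀ χ ∈ S, m χ ≠ 0 → r χ / (d χ : ℝ) = q := by
      intro χ hχ hmχ
      have hle : ∀ χ ∈ S, (m χ : ℝ) * (d χ : ℝ) * (r χ / (d χ : ℝ) - q) ^ 2 ≤ 0 := by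
        intro χ hχ
        by_cases hp' : 0 < m χ
        · rw [honly χ hχ hp', hq, sub_self]; simp
        · exact mul_nonpos_of_nonpos_of_nonneg
            (mul_nonpos_of_nonpos_of_nonneg (Int.cast_nonpos.2 (not_lt.1 hp')) (hd' χ).le) (sq_nonneg _)
      have h := (Finset.sum_eq_zero_iff_of_nonpos hle).1 hzero χ hχ
      rcases mul_eq_zero.1 h with h | h
      · rcases mul_eq_zero.1 h with h | h
        · exact absurd (Int.cast_eq_zero.1 h) hmχ
        · exact absurd h (hd' χ).ne'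
      · exact sub_eq_zero.1 ((sq_eq_zero_iff).1 h)
    have hm₁ : m χ₁ ≠ 0 := fun e => hχ₁n ((hm χ₁).1 e)
    have hq1 : q = 1 := by
      rw [← hratio χ₁ hχ₁S hm₁]
      have hdd : (d χ₁ : ℂ) = 1 := (hd χ₁).symm
      have hd1 : d χ₁ = 1 := by exact_mod_cast hdd
      rw [hd1, Nat.cast_one, div_one]
      show (1 : ℂ).re = 1
      simp
    obtain ⟨χ₂, hχ₂S, hm₂, hne₂⟩ : ∃ χ ∈ S, m χ ≠ 0 ∧ χ ≠ χ₁ := by
      by_contra! hall
      rw [Finset.sum_eq_single_of_mem χ₁ hχ₁S fun χ hχ hne => by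
        rw [not_not.1 (mt (hall χ hχ) hne), Int.cast_zero, zero_mul]] at f1
      rcases mul_eq_zero.1 f1 with h | h
      · exact hm₁ (Int.cast_eq_zero.1 h)
      · exact (hd' χ₁).ne' h
    have hχ₂ : Cfsg.IsCharacter G (χ₂ : G → ℂ) := Agent.Char.IsIrr.isCharacter χ₂.2
    refine ⟨Agent.Char.kerSubgroup hχ₂, inferInstance, fun e => hne₂ ?_, ?_, ?_⟩
    · have hall : ∀ g, (χ₂ : G → ℂ) g = (d χ₂ : ℂ) := fun g => by
        rw [← hd χ₂]
        exact (Agent.Char.mem_kerSubgroup hχ₂).1 (e ▸ Subgroup.mem_top g)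
      have h11 := Agent.Char.classInner_irr_self χ₂.2
      rw [Cfsg.classInner, inv_mul_eq_iff_eq_mul₀ hG0] at h11
      simp only [hall, map_natCast, Finset.sum_const, Finset.card_univ, nsmul_eq_mul, mul_one,
        ← Nat.card_eq_fintype_card] at h11
      have hd2 : d χ₂ * d χ₂ = 1 := by
        have h12 : ((d χ₂ : ℂ) * d χ₂) = 1 := mul_left_cancel₀ hG0 (by rw [h11, mul_one])
        exact_mod_cast h12
      apply Subtype.ext
      funext g
      rw [hall g, Nat.eq_one_of_mul_eq_one_left hd2]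
      simp [hχ₁, Agent.Blocks.triv]
    · intro g hg
      have : (Cfsg.pPrimeCore 2 G).Normal := Agent.Core.pPrimeCore_normal
      exact (Agent.Char.mem_kerSubgroup hχ₂).2 (Agent.Invol.principal_trivial_on hM _
        Agent.Core.not_dvd_card_pPrimeCore ((Set.toFinite B).mem_toFinset.1 hχ₂S) hg)
    · refine (Agent.Char.mem_kerSubgroup hχ₂).2 ?_
      have h := hratio χ₂ hχ₂S hm₂
      rw [hq1, div_eq_one_iff_eq (hd' χ₂).ne'] at h
      rw [hrC, hd, h, Complex.ofReal_natCast]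
  by_cases hp2 : 2 ≤ Nat.card {χ : Cfsg.IrrCharacter G // χ ∈ B ∧ 0 < (a χ).re}
  · by_cases hn2 : 2 ≤ Nat.card {χ : Cfsg.IrrCharacter G // χ ∈ B ∧ (a χ).re < 0}
    · exact Or.inl ⟨hp2, hn2⟩
    · refine Or.inr (hside (fun χ => -n χ) (fun χ => neg_eq_zero) ?_ ?_ ?_ ?_)
      · simp [Finset.sum_neg_distrib, e1]
      · simp [Finset.sum_neg_distrib, e2]
      · simp [Finset.sum_neg_distrib, e3]
      · refine lt_of_eq_of_lt ?_ (not_le.1 hn2)
        exact Nat.card_congr (Equiv.subtypeEquivRight fun χ => by simp [hn])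
  · refine Or.inr (hside n (fun _ => Iff.rfl) e1 e2 e3 ?_)
    refine lt_of_eq_of_lt ?_ (not_le.1 hp2)
    exact Nat.card_congr (Equiv.subtypeEquivRight fun χ => by simp [hn])

end Cfsg.Agent.S4722
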