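import Cfsg.Statements.S4724
import Cfsg.Agent.S4504
import Cfsg.Agent.S0806
import Cfsg.Agent.BlockChar.Cyclic.DegreeBoundMain
import Cfsg.Agent.UniqueP.Even
import Cfsg.Agent.UniqueP.Degree

set_option autoImplicit false
open Cfsg

namespace Cfsg.Agent.S4724

universe u

open Cfsg.Agent MulAction

/-- A non-linear irreducible character of a simple group is faithful. -/
theorem faithful_of_simple {H : Type u} [Group H] [Fintype H] [IsSimpleGroup H] {χ : H → ℂ}
    (hχ : Cfsg.IsIrrCharacter H χ) {d : ℕ} (hd : χ 1 = d) (h1 : 1 < d) (g : H)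
    (hg : χ g = χ 1) : g = 1 := by
  have hc := Char.IsIrr.isCharacter hχ
  have hcl := Char.isClassFunction_of_isIrr hχ
  let K : Subgroup H :=
    { carrier := {x | ∀ y, χ (x * y) = χ y}
      one_mem' := fun y => by rw [one_mul]
      mul_mem' := fun {a b} ha hb y => by rw [mul_assoc, ha, hb]
      inv_mem' := fun {a} ha y => by
        have := ha (a⁻¹ * y)
        rw [mul_inv_cancel_left] at this
        exact this.symm }
  have hK : K.Normal := ⟨fun x hx c y => by
    rw [show c * x * c⁻¹ * y = c * (x * (c⁻¹ * y * c)) * c⁻¹ by group, hcl, hx,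
      show c⁻¹ * y * c = c⁻¹ * y * c⁻¹⁻¹ by group, hcl]⟩
  have hgK : g ∈ K := fun y => Char.IsChar.mul_left_of_mem_kernel hc hg y
  rcases hK.eq_bot_or_eq_top with e | e
  · rwa [e, Subgroup.mem_bot] at hgK
  · exfalso
    have hconst : ∀ x, χ x = χ 1 := fun x => by
      have hx : x ∈ K := e ▸ Subgroup.mem_top x
      simpa using hx 1
    have h2 := Char.classInner_irr_self hχ
    rw [Cfsg.classInner] at h2
    simp only [hconst, hd, Complex.conj_natCast, Finset.sum_const, Finset.card_univ, nsmul_eq_mul,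
      ← Nat.card_eq_fintype_card] at h2
    rw [inv_mul_cancel_left₀ (Nat.cast_ne_zero.2 Nat.card_pos.ne')] at h2
    have h3 : d * d = 1 := by exact_mod_cast h2
    nlinarith

theorem center_eq_bot {H : Type u} [Group H] [IsSimpleGroup H] (hs : ¬ Group.IsSolvable H) :
    Subgroup.center H = ⊥ := by
  rcases (inferInstance : (Subgroup.center H).Normal).eq_bot_or_eq_top with e | e
  · exact e
  · exfalso
    refine hs (Group.isSolvable_of_comm fun a b => ?_)
    exact Subgroup.mem_center_iff.1 (e ▸ Subgroup.mem_top b) a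

/-- Let G be a transitive permutation group of prime degree p having exactly one irreducible character of degree p. Let P be a Sylow p-subgroup and suppose N_G(P) = P·E for a subgroup E with P ∩ E = 1, such that the normalizer of E has order 2·#E and E meets each of its conjugates by elements outside its normalizer trivially. Then p is 5, 7 or 11 and G is isomorphic to PSL(2, p). -/
theorem result {α : Type*} [Fintype α] [DecidableEq α] {p : ℕ} [Fact p.Prime] (hα : Fintype.card α = p) (G : Subgroup (Equiv.Perm α)) [MulAction.IsPretransitive G α] (huniq : ∃! χ : Cfsg.IrrCharacter G, Cfsg.charDegree (χ : G → ℂ) = p) (P : Sylow p G) (E : Subgroup G) (hPE : (P : Subgroup G) ⊔ E = Subgroup.normalizer ((P : Subgroup G) : Set G)) (hPE' : (P : Subgroup G) ⊓ E = ⊥) (hNE : Nat.card (Subgroup.normalizer (E : Set G)) = 2 * Nat.card E) (hTI : ∀ g : G, g ∉ Subgroup.normalizer (E : Set G) → E ⊓ E.map (MulAut.conj g).toMonoidHom = ⊥) : (p = 5 ∨ p = 7 ∨ p = 11) ∧ ∃ (F : Type) (_ : Field F) (_ : Fintype F), Fintype.card F = p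 ∧ Nonempty (G ≃* Matrix.ProjectiveSpecialLinearGroup (Fin 2) F) := by
  have := Fintype.ofFinite G
  have hp : p.Prime := Fact.out
  obtain ⟨W, hW, huW⟩ := huniq
  by_cases hE : E = ⊥
  · exfalso
    subst hE
    rw [Subgroup.card_bot, mul_one, Subgroup.normalizer_eq_top_iff.2 inferInstance,
      Subgroup.card_top] at hNE
    obtain ⟨n, -, hn⟩ := Char.IsIrr.degree W.2
    have : Fact (Nat.Prime 2) := ⟨Nat.prime_two⟩
    have hcyc := isCyclic_of_prime_card (α := G) hNE
    have h1 := Char.IsIrr.degree_one_of_comm W.2 fun a b =>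
      IsMulCommutative.is_comm.comm a b
    rw [Blocks.charDegree_eq (χ := (W : G → ℂ)) (n := 1) (by rw [h1, Nat.cast_one])] at hW
    exact hp.one_lt.ne hW
  have h : UniqueP.Hyp P E := ⟨hα, inferInstance, hPE, hPE', hNE, hTI, hE⟩
  have hsimple := h.isSimple hW huW
  rcases Nat.even_or_odd (Nat.card E) with heven | hodd
  · obtain ⟨rfl, e⟩ := h.even_case heven
    exact ⟨Or.inl rfl, ZMod 5, inferInstance, inferInstance, ZMod.card 5, e⟩
  obtain ⟨χ, hχ⟩ := h.exists_degree hW huW hodd
  have hc := Char.IsIrr.isCharacter χ.2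
  have hfaith : ∀ g : G, (χ : G → ℂ) g = (χ : G → ℂ) 1 → g = 1 := fun g =>
    faithful_of_simple χ.2 (d := Nat.card E)
      (by rw [← Blocks.charDegree_cast hc, hχ]) h.one_lt_card g
  have hnot : ∀ H : Subgroup G, H.Normal → Nat.card H ≠ p := fun H hH hcard => by
    rcases hH.eq_bot_or_eq_top with e | e
    · rw [e, Subgroup.card_bot] at hcard
      exact hp.one_lt.ne hcard
    · rw [e, Subgroup.card_top] at hcard
      have := isCyclic_of_prime_card (α := G) hcard
      exact h.not_solvable (Group.isSolvable_of_comm fun a b => IsMulCommutative.is_comm.comm a b)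
  have hle := h.two_mul_card_lt hodd
  rcases hle.lt_or_eq with hlt | heq
  · obtain ⟨H, hH, hcard⟩ := BlockChar.DegreeBound.exists_normal_of_card (p := p) (Nat.card G) G
      rfl h.dvd_card h.not_sq_dvd (χ : G → ℂ) hc hfaith (by rw [hχ]; exact hlt)
    exact absurd hcard (hnot H hH)
  obtain ⟨e₀⟩ := S4504.result p hp h.dvd_card h.not_sq_dvd hnot (χ : G → ℂ) hc hfaith
    (by rw [hχ]; exact heq)
  have ψ : G ≃* Matrix.ProjectiveSpecialLinearGroup (Fin 2) (ZMod p) :=
    (((QuotientGroup.quotientMulEquivOfEq (center_eq_bot h.not_solvable)).trans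
      QuotientGroup.quotientBot).symm).trans e₀
  refine ⟨?_, ZMod p, inferInstance, inferInstance, ZMod.card p, ⟨ψ⟩⟩
  by_contra hno
  push Not at hno
  have h3 := h.one_lt_card
  obtain ⟨k, hk⟩ := hodd
  have hmem : p ∉ ({2, 3, 5, 7, 9, 11} : Finset ℕ) := by
    simp only [Finset.mem_insert, Finset.mem_singleton]
    omega
  obtain ⟨a, -⟩ := h.exists_point
  have hidx : (stabilizer G a).index = p := by
    rw [index_stabilizer_of_transitive G a, Nat.card_eq_fintype_card, hα]
  have h4 := (S0806.result (ZMod.card p) hmem).1 ((stabilizer G a).map ψ.toMonoidHom) fun e => by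
    have h5 := Subgroup.index_map_of_bijective (f := ψ.toMonoidHom) ψ.bijective (stabilizer G a)
    rw [e, Subgroup.index_top, hidx] at h5
    exact hp.one_lt.ne h5
  rw [Subgroup.index_map_of_bijective (f := ψ.toMonoidHom) ψ.bijective, hidx] at h4
  omega

end Cfsg.Agent.S4724
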