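import Cfsg.Statements.S4726
import Cfsg.Agent.BrauerPairs.KernelTransfer
import Cfsg.Agent.Blocks.FongReynolds

set_option autoImplicit false
open Cfsg

namespace Cfsg.Agent.S4726

/-- Let p be a prime, M a maximal ideal of the algebraic integers containing p, H a subgroup of the finite group G and b a p-block of H with defect group D₀ such that C_G(D₀) ≤ H. Then b induces a block of G, and for every block B of G induced by b there is a defect group D of B with Z(D) ≤ Z(D₀) ≤ D₀ ≤ D (as subgroups of G). In particular, if the defect groups of B are abelian then D₀ is a defect group of B. -/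
theorem result {G : Type*} [Group G] [Finite G] (p : ℕ) [Fact p.Prime] (M : Ideal Cfsg.AlgInt) (hM : Cfsg.IsPModular p M) (H : Subgroup G) (b : Set (Cfsg.IrrCharacter ↥H)) (hb : Cfsg.IsPBlock M b) (D₀ : Subgroup ↥H) (hD₀ : Cfsg.IsDefectGroup p M b D₀) (hC : Subgroup.centralizer ((D₀.map H.subtype : Subgroup G) : Set G) ≤ H) : Cfsg.InducedBlockDefined M H b ∧ ∀ B : Set (Cfsg.IrrCharacter G), Cfsg.IsInducedBlock M H b B → (∃ D : Subgroup G, Cfsg.IsDefectGroup p M B D ∧ (Subgroup.center ↥D).map D.subtype ≤ ((Subgroup.center ↥D₀).map D₀.subtype).map H.subtype ∧ ((Subgroup.center ↥D₀).map D₀.subtype).map H.subtype ≤ D₀.map H.subtype ∧ D₀.map H.subtype ≤ D) ∧ (∀ D : Subgroup G, Cfsg.IsDefectGroup p M B D → IsMulCommutative ↥D → Cfsg.IsDefectGroup p M B (D₀.map H.subtype)) := by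
  classical
  have := Fintype.ofFinite G
  have := Fintype.ofFinite ↥H
  have : Finite (ConjClasses G) := Quotient.finite _
  have := Fintype.ofFinite (ConjClasses G)
  set R : Subgroup G := D₀.map H.subtype with hRdef
  have hRH : R ≤ H := Subgroup.map_subtype_le _
  have hsub : R.subgroupOf H = D₀ :=
    Subgroup.comap_map_eq_self_of_injective H.subtype_injective D₀
  have hR : IsPGroup p R := (DefectThms.isPGroup_of_isDefectGroup hD₀).map _
  letI := Fintype.ofFinite (Subgroup.centralizer (R : Set G))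
  obtain ⟨η, hη⟩ := BrauerPairs.KernelTransfer.exists_root hM hb hD₀ (le_refl R) hR hC
  set e := Cfsg.blockOf M (η : Subgroup.centralizer (R : Set G) → ℂ) with hedef
  have hpairH : Cfsg.IsBrauerPairOf p M b (R.subgroupOf H) (BrauerPairs.resBlock hRH hC e) :=
    (BrauerPairs.pair_sbc_iff hM hRH hC hR hb η).1 hη
  obtain ⟨B₀, hB₀⟩ := BrauerPairs.exists_isBrauerPairOf hM
    (⟨hR, Blocks.isPBlock_blockOf η⟩ : Cfsg.IsBrauerPair p M R e)
  have hηe : η ∈ e := Blocks.mem_blockOf_self hM η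
  have hηe' : BrauerPairs.compIrr (BrauerPairs.centIso hRH hC) η ∈ BrauerPairs.resBlock hRH hC e := by
    show BrauerPairs.compIrr (BrauerPairs.centIso hRH hC).symm
      (BrauerPairs.compIrr (BrauerPairs.centIso hRH hC) η) ∈ e
    rw [show BrauerPairs.compIrr (BrauerPairs.centIso hRH hC).symm
      (BrauerPairs.compIrr (BrauerPairs.centIso hRH hC) η) = η from
      (BrauerPairs.compIrrEquiv (BrauerPairs.centIso hRH hC)).symm_apply_apply η]
    exact hηe
  letI := Fintype.ofFinite (Subgroup.centralizer ((R.subgroupOf H : Subgroup H) : Set H))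
  have hind₀ : Cfsg.IsInducedBlock M H b B₀ := by
    refine ⟨hb, hB₀.2.1, fun ξ hξ χ hχ g => ?_⟩
    have hzc := Blocks.isClassFunction_classInd (G := G) g
    have hzR := Blocks.memLocalRing_classInd hM g
    have h1 := BrauerPairs.omega_link hM hB₀ hηe hχ hzc hzR
    have h2 := BrauerPairs.omega_link hM hpairH hηe' hξ
      (z := fun t : H => Blocks.classInd g (t : G)) (Blocks.isClassFunction_res H hzc) fun t => hzR _
    have e2 : Cfsg.brauerOmega (R.subgroupOf H) (fun t : H => Blocks.classInd g (t : G))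
        (BrauerPairs.compIrr (BrauerPairs.centIso hRH hC) η :
          Subgroup.centralizer ((R.subgroupOf H : Subgroup H) : Set H) → ℂ) =
        Cfsg.brauerOmega R (Blocks.classInd g) (η : Subgroup.centralizer (R : Set G) → ℂ) := by
      rw [← BrauerPairs.brauerOmega_res hRH hC]
      rfl
    rw [e2] at h2
    rw [Blocks.inducedCentralChar_eq_omega,
      ← Blocks.omega_classInd (Char.isClassFunction_of_isIrr χ.2)]
    have h3 := Blocks.memLocalIdeal_sub hM h1 h2
    rwa [sub_sub_sub_cancel_left] at h3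
  refine ⟨⟨B₀, hind₀⟩, fun B hind => ?_⟩
  obtain rfl : B = B₀ := Blocks.induced_unique hM hind hind₀
  have hmaxH := BrauerPairs.KernelTransfer.maximal_of_defect hM (hsub.symm ▸ hD₀) hpairH
  obtain ⟨⟨D, ed⟩, hmax, hle⟩ := BrauerPairs.exists_maximal_above hM hB₀
  dsimp only at hmax hle
  have hRD : R ≤ D := BlockChar.le_of_subpairLE hle
  have hDp := hmax.1.1.1
  set Z := (Subgroup.center ↥D).map D.subtype with hZ
  have hZD : Z ≤ D := Subgroup.map_subtype_le _
  have hcomm : ∀ z ∈ Z, ∀ y ∈ D, y * z = z * y := by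
    rintro _ ⟨z, hz, rfl⟩ y hy
    exact congrArg Subtype.val (Subgroup.mem_center_iff.1 hz ⟨y, hy⟩)
  have hZC : Z ≤ Subgroup.centralizer (R : Set G) := fun z hz =>
    Subgroup.mem_centralizer_iff.2 fun r hr => hcomm z hz r (hRD hr)
  set Q := R ⊔ Z with hQ
  have hQD : Q ≤ D := sup_le hRD hZD
  have hQH : Q ≤ H := sup_le hRH (hZC.trans hC)
  have hQN : Q ≤ Subgroup.normalizer (R : Set G) :=
    sup_le Subgroup.le_normalizer (hZC.trans (Subgroup.centralizer_le_normalizer _))
  have hCQ : Subgroup.centralizer (Q : Set G) ≤ H :=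
    (BrauerPairs.centralizer_mono (le_sup_left : R ≤ Q)).trans hC
  obtain ⟨f, hf, -⟩ := BrauerPairs.existsUnique_subpairLE hM hmax.1.1 hQD
  have hQf := BrauerPairs.isBrauerPair_of_subpairLE hmax.1.1 hf
  obtain ⟨f₀, hf₀, -⟩ := BrauerPairs.existsUnique_normalSubpair hM hQf le_sup_left hQN
  have hle₀ : Cfsg.SubpairLE p M R f₀ D ed :=
    Relation.ReflTransGen.head (show Cfsg.NormalSubpairRel p M ⟨R, f₀⟩ ⟨Q, f⟩ from hf₀) hf
  rw [(BrauerPairs.existsUnique_subpairLE hM hmax.1.1 hRD).unique hle₀ hle] at hf₀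
  have hdown := BrauerPairs.isNormalSubpair_down hM hRH hC hQH hCQ hf₀
  have hQR : Q.subgroupOf H = R.subgroupOf H := BrauerPairs.eq_of_normalSubpair_of_maximal hM hmaxH hdown
  have hZR : Z ≤ R := fun z hz => by
    have hzQ : z ∈ Q := Subgroup.mem_sup_right hz
    exact Subgroup.mem_subgroupOf.1 (hQR ▸ (show (⟨z, hQH hzQ⟩ : H) ∈ Q.subgroupOf H from hzQ) :
      (⟨z, hQH hzQ⟩ : H) ∈ R.subgroupOf H)
  have hDdef := BrauerPairs.isDefectGroup_of_maximal hM hmax
  refine ⟨⟨D, hDdef, fun z hz => ?_, ?_, hRD⟩, fun D' hD' hab => ?_⟩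
  · obtain ⟨d, hd, rfl⟩ := hZR hz
    refine ⟨d, ⟨⟨d, hd⟩, Subgroup.mem_center_iff.2 fun y => ?_, rfl⟩, rfl⟩
    exact Subtype.ext (Subtype.ext (hcomm _ hz _ (hRD ⟨(y : H), y.2, rfl⟩)))
  · exact Subgroup.map_mono (Subgroup.map_subtype_le _)
  · obtain ⟨x, hx⟩ := DefectThms.exists_defectGroup_conj hM hB₀.2.1 hD' hDdef
    have hDle : D ≤ Z := by
      intro y hy
      refine ⟨⟨y, hy⟩, Subgroup.mem_center_iff.2 fun w => ?_, rfl⟩
      obtain ⟨a, ha, ea⟩ := (hx ▸ hy : y ∈ D'.map (MulAut.conj x).toMonoidHom)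
      obtain ⟨c, hc, ec⟩ := (hx ▸ w.2 : (w : G) ∈ D'.map (MulAut.conj x).toMonoidHom)
      refine Subtype.ext ?_
      show (w : G) * y = y * w
      rw [← ea, ← ec, ← map_mul, ← map_mul]
      exact congrArg _ (congrArg Subtype.val (hab.is_comm.comm ⟨c, hc⟩ ⟨a, ha⟩))
    rw [show R = D from le_antisymm hRD (hDle.trans hZR)]
    exact hDdef

end Cfsg.Agent.S4726
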