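import Mathlib
import Cfsg.Agent.BrauerPairs.KernelTransfer
import Cfsg.Agent.BlockThms.DefectCor

set_option autoImplicit false
set_option linter.style.haveILetI false
open Cfsg

namespace Cfsg.Agent.S4727

open Cfsg.Agent Cfsg.Agent.Blocks Cfsg.Agent.BrauerPairs Cfsg.Agent.BrauerPairs.KernelTransfer

/-- Let p be a prime, π a set of primes containing p, M a maximal ideal of the algebraic integers containing p, and B a p-block of the finite group G with defect group D; let B₁ be the block of N_G(D) with defect group D that induces B (the Brauer correspondent of B). Suppose every element of O_π'(N_G(D)), the largest normal subgroup of N_G(D) whose order has no prime divisor in π, lies in the kernel of every member of B₁. If y is a p-element whose centralizer C has a normal Hall π'-subgroup (every element of C whose order has no prime divisor in π lies in O_π'(C)), then χ(y x) = χ(y) for every χ ∈ B and every x ∈ C whose order has no prime divisor in π. -/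
theorem result {G : Type*} [Group G] [Finite G] (p : ℕ) [Fact p.Prime] (M : Ideal Cfsg.AlgInt) (hM : Cfsg.IsPModular p M) (π : Set ℕ) (hpπ : p ∈ π) (B : Set (Cfsg.IrrCharacter G)) (hB : Cfsg.IsPBlock M B) (D : Subgroup G) (hBD : Cfsg.IsDefectGroup p M B D) (B₁ : Set (Cfsg.IrrCharacter ↥(Subgroup.normalizer (D : Set G)))) (hB₁ : Cfsg.IsInducedBlock M (Subgroup.normalizer (D : Set G)) B₁ B) (hB₁D : Cfsg.IsDefectGroup p M B₁ (D.subgroupOf (Subgroup.normalizer (D : Set G)))) (hker : ∀ n : ↥(Subgroup.normalizer (D : Set G)), n ∈ Cfsg.piCore {q | q ∉ π} ↥(Subgroup.normalizer (D : Set G)) → n ∈ Cfsg.blockKer B₁) (y : G) (hy : ∃ k : ℕ, orderOf y = p ^ k) (hC : ∀ x : ↥(Subgroup.centralizer ({y} : Set G)), (∀ q : ℕ, q.Prime → q ∣ orderOf x → q ∉ π) → x ∈ Cfsg.piCore {q | q ∉ π} ↥(Subgroup.centralizer ({y} : Set G))) : ∀ χ ∈ B, ∀ x : G, x ∈ Subgroup.centralizer ({y} : Set G) → (∀ q : ℕ, q.Prime → q ∣ orderOf x → q ∉ π) → (χ : G → ℂ) (y * x) = (χ : G → ℂ) y := by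
  classical
  haveI := Fact.mk hM.1
  have := Fintype.ofFinite G
  intro χ hχ x hxC hxπ
  set Q := Subgroup.zpowers y with hQdef
  have hCQ : Subgroup.centralizer ({y} : Set G) = Subgroup.centralizer (Q : Set G) := by
    rw [hQdef, Subgroup.zpowers_eq_closure, Subgroup.centralizer_closure]
  obtain ⟨k, hk⟩ := hy
  have hQp : IsPGroup p Q := IsPGroup.of_card (n := k) (by rw [hQdef, Nat.card_zpowers, hk])
  set H := Subgroup.centralizer (Q : Set G) with hH
  have := Fintype.ofFinite H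
  have hHy : ∀ a : G, a ∈ H ↔ y * a = a * y := fun a => by
    rw [← hCQ, Subgroup.mem_centralizer_singleton_iff]; exact eq_comm
  have hH' : ∀ a : G, a ∈ H ↔ ∀ u ∈ Q, u * a = a * u := fun a => Subgroup.mem_centralizer_iff
  have hxcore : x ∈ core π Q := by
    rw [core, ← hH, ← hCQ]
    exact ⟨_, hC ⟨x, hxC⟩ (by simpa [Subgroup.orderOf_mk] using hxπ), rfl⟩
  let a : H := ⟨x, hCQ ▸ hxC⟩
  have ha : ¬ p ∣ orderOf a := fun h => hxπ p hM.1 (by simpa [a, Subgroup.orderOf_mk] using h) hpπ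
  have hone : ¬ p ∣ orderOf (1 : H) := by rw [orderOf_one]; exact hM.1.not_dvd_one
  obtain ⟨e, hmax, hiff⟩ := exists_maximal_core (π := π) hM hpπ hBD hB₁ hB₁D
  have hA : ∀ ψ ∈ inducing M H B, (ψ : H → ℂ) a = (ψ : H → ℂ) 1 := by
    intro ψ hψ
    have hω := memLocalIdeal_omega_res_blockCoeff_sub hM hQp hH' hB ψ
    rw [if_pos hψ, ← brauerOmega_eq] at hω
    have hpair := memLocalIdeal_brauerOmega_block hM hQp (isPBlock_blockOf ψ) hB
      (mem_blockOf_self hM ψ) hω
    obtain ⟨t, ht⟩ := exists_conj_subpairLE hM hmax hpair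
    exact kerPair_conj hM (⟨Q, blockOf M (ψ : H → ℂ)⟩ : Cfsg.BrauerPairIdx G) t
      (kerPair_down hM hpπ ht (hiff.1 hker)) ψ (mem_blockOf_self hM ψ) a hxcore
  have key : ∀ u v : H, (u = a ∨ u = 1) → (v = a ∨ v = 1) →
      ∑ᶠ φ ∈ B, (φ : G → ℂ) (y * (u : G)) * starRingEnd ℂ ((φ : G → ℂ) (y * (v : G))) =
        ∑ᶠ ψ ∈ inducing M H B, (ψ : H → ℂ) 1 * starRingEnd ℂ ((ψ : H → ℂ) 1) := by
    intro u v hu hv
    rw [section_identity hM ⟨k, hk⟩ hHy hB (by rcases hu with rfl | rfl <;> assumption)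
      (by rcases hv with rfl | rfl <;> assumption)]
    refine finsum_mem_congr rfl fun ψ hψ => ?_
    rcases hu with rfl | rfl <;> rcases hv with rfl | rfl <;> simp [hA ψ hψ]
  have haa := key a a (Or.inl rfl) (Or.inl rfl)
  have ha1 := key a 1 (Or.inl rfl) (Or.inr rfl)
  have h1a := key 1 a (Or.inr rfl) (Or.inl rfl)
  have h11 := key 1 1 (Or.inr rfl) (Or.inr rfl)
  simp only [finsum_mem_eq_finite_toFinset_sum _ B.toFinite, OneMemClass.coe_one, mul_one]
    at haa ha1 h1a h11
  have hsum : ∑ φ ∈ B.toFinite.toFinset,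
      (Complex.normSq ((φ : G → ℂ) (y * x) - (φ : G → ℂ) y) : ℂ) = 0 := by
    simp only [← Complex.mul_conj, map_sub, sub_mul, mul_sub, Finset.sum_sub_distrib]
    rw [show ((a : H) : G) = x from rfl] at haa ha1 h1a
    rw [haa, ha1, h1a, h11]
    ring
  rw [← Complex.ofReal_sum, Complex.ofReal_eq_zero] at hsum
  have := (Finset.sum_eq_zero_iff_of_nonneg fun φ _ => Complex.normSq_nonneg _).1 hsum χ
    (B.toFinite.mem_toFinset.2 hχ)
  exact sub_eq_zero.1 (Complex.normSq_eq_zero.1 this)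

end Cfsg.Agent.S4727
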