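import Mathlib
import Cfsg.Agent.BrauerPairs.KernelTransfer
import Cfsg.Agent.BlockThms.DefectCor

set_option autoImplicit false
set_option linter.style.haveILetI false
open Cfsg

namespace Cfsg.Agent.S4728

open Cfsg.Agent Cfsg.Agent.Blocks Cfsg.Agent.BrauerPairs Cfsg.Agent.BrauerPairs.KernelTransfer

/-- Let p be a prime, π a set of primes containing p, M a maximal ideal of the algebraic integers containing p, B a p-block of the finite group G with defect group D, and B₁ the block of N_G(D) with defect group D inducing B. Let D₀ be a p-subgroup, H₀ = D₀·C_G(D₀), and b a block of H₀ inducing B. Write O_π'(X) for the largest normal subgroup of X whose order has no prime divisor in π. Suppose that O_π'(C_G(D₀)) is a normal Hall π'-subgroup of C_G(D₀) (it contains every element of C_G(D₀) whose order has no prime divisor in π) and that every element of it lies in the kernel of every member of b. Then every element of O_π'(N_G(D))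 lies in the kernel of every member of B₁. -/
theorem result {G : Type*} [Group G] [Finite G] (p : ℕ) [Fact p.Prime] (M : Ideal Cfsg.AlgInt) (hM : Cfsg.IsPModular p M) (π : Set ℕ) (hpπ : p ∈ π) (B : Set (Cfsg.IrrCharacter G)) (hB : Cfsg.IsPBlock M B) (D : Subgroup G) (hBD : Cfsg.IsDefectGroup p M B D) (B₁ : Set (Cfsg.IrrCharacter ↥(Subgroup.normalizer (D : Set G)))) (hB₁ : Cfsg.IsInducedBlock M (Subgroup.normalizer (D : Set G)) B₁ B) (hB₁D : Cfsg.IsDefectGroup p M B₁ (D.subgroupOf (Subgroup.normalizer (D : Set G)))) (D₀ : Subgroup G) (hD₀ : IsPGroup p D₀) (H₀ : Subgroup G) (hH₀ : H₀ = D₀ ⊔ Subgroup.centralizer (D₀ : Set G)) (b : Set (Cfsg.IrrCharacter ↥H₀)) (hb : Cfsg.IsInducedBlock M H₀ b B) (hcompl : ∀ x : ↥(Subgroup.centralizer (D₀ : Set G)), (∀ q : ℕ, q.Prime → q ∣ orderOf x → q ∉ π) → x ∈ Cfsg.piCore {q | q ∉ π} ↥(Subgroup.centralizer (D₀ : Set G))) (hkerb : ∀ x : ↥(Subgroup.centralizer (D₀ : Set G)), x ∈ Cfsg.piCore {q | q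 ∉ π} ↥(Subgroup.centralizer (D₀ : Set G)) → ∀ θ ∈ b, ∀ h : ↥H₀, (h : G) = (x : G) → (θ : ↥H₀ → ℂ) h = (θ : ↥H₀ → ℂ) 1) : ∀ n : ↥(Subgroup.normalizer (D : Set G)), n ∈ Cfsg.piCore {q | q ∉ π} ↥(Subgroup.normalizer (D : Set G)) → n ∈ Cfsg.blockKer B₁ := by
  classical
  haveI := Fact.mk hM.1
  have := Fintype.ofFinite G
  have := Fintype.ofFinite H₀
  obtain ⟨e, hmax, hiff⟩ := exists_maximal_core (π := π) hM hpπ hBD hB₁ hB₁D
  refine hiff.2 ?_
  have hDH : D₀ ≤ H₀ := hH₀ ▸ le_sup_left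
  have hCH : Subgroup.centralizer (D₀ : Set G) ≤ H₀ := hH₀ ▸ le_sup_right
  have hHN : H₀ ≤ Subgroup.normalizer (D₀ : Set G) :=
    hH₀ ▸ sup_le Subgroup.le_normalizer (Subgroup.centralizer_le_normalizer _)
  haveI : (D₀.subgroupOf H₀).Normal := Subgroup.normal_subgroupOf_of_le_normalizer hHN
  obtain ⟨E₀, hE₀⟩ := DefectThms.exists_defectGroup hM hb.1
  have hle : D₀.subgroupOf H₀ ≤ E₀ :=
    DefectThms.le_defectGroup_of_normal hM hb.1 hE₀ (D₀.subgroupOf H₀) hD₀.comap_subtype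
  obtain ⟨η, hη⟩ := exists_root hM hb.1 hE₀ (R := D₀)
    (fun u hu => ⟨⟨u, hDH hu⟩, hle (Subgroup.mem_subgroupOf.2 hu), rfl⟩) hD₀ hCH
  have hpair := pair_of_induced hM hDH hCH hD₀ hb η hη
  have hWn : H₀ ≤ Subgroup.normalizer (core π D₀ : Set G) := le_normalizer_core hHN
  have hb' : InKer (core π D₀) b := by
    rintro ξ hξ a ⟨c, hc, hca⟩
    exact hkerb c hc ξ hξ a hca.symm
  have hk : KerPair π (⟨D₀, blockOf M (η : _ → ℂ)⟩ : Cfsg.BrauerPairIdx G) :=
    inKer_of_mem hM (OddLocal.le_normalizer_piCoreOf _ _) (not_dvd_piCoreOf hM.1 hpπ _)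
      (isPBlock_blockOf η) (mem_blockOf_self hM η)
      ((inKer_iff hM (W := core π D₀) (R := D₀) ((OddLocal.piCoreOf_le _ _).trans hCH) hWn
        (not_dvd_piCoreOf hM.1 hpπ _) hb.1 hD₀ (hDH.trans hWn) (hCH.trans hWn)
        ((isInv_sbc b).mono hDH) ((isInv_sbc b).mono hCH) η hη).1 hb')
  obtain ⟨x, hx⟩ := exists_conj_subpairLE hM hmax hpair
  have hk' : KerPair π (conjPair x (⟨D₀, blockOf M (η : _ → ℂ)⟩ : Cfsg.BrauerPairIdx G)) :=
    kerPair_conj hM _ x⁻¹ (by rwa [conjPair_conjPair, inv_mul_cancel, conjPair_one])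
  refine (kerPair_up hM hpπ hx hk' ?_).1
  intro z hz hπ
  have hz' : x⁻¹ * z * x ∈ Subgroup.centralizer (D₀ : Set G) := by
    rw [Subgroup.mem_centralizer_iff]
    intro u hu
    have h := Subgroup.mem_centralizer_iff.1 hz (x * u * x⁻¹) ⟨u, hu, rfl⟩
    calc u * (x⁻¹ * z * x) = x⁻¹ * (x * u * x⁻¹ * z) * x := by group
      _ = x⁻¹ * z * x * u := by rw [h]; group
  have hmem : x⁻¹ * z * x ∈ core π D₀ := ⟨_, hcompl ⟨_, hz'⟩ (fun q hq hdq => hπ q hq (by
    rw [← Subgroup.orderOf_coe] at hdq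
    have e : orderOf (x⁻¹ * z * x) = orderOf z := by
      simpa using orderOf_injective (MulAut.conj x⁻¹).toMonoidHom (MulAut.conj x⁻¹).injective z
    rwa [e] at hdq)), rfl⟩
  simpa [mul_assoc] using conj_mem_core D₀ x hmem

end Cfsg.Agent.S4728
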