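import Cfsg.Statements.S4729
import Cfsg.Agent.Blocks.Idempotent
import Cfsg.Agent.Blocks.Congr
import Cfsg.Agent.Char.Integral

set_option autoImplicit false
open Cfsg

namespace Cfsg.Agent.S4729

/-- Let p be a prime, M a maximal ideal of the algebraic integers containing p, G a finite perfect group and P a Sylow p-subgroup. If the principal p-block of G contains a faithful irreducible character of degree less than 2p, then the centralizer of P is a p-group. -/
theorem result {G : Type*} [Group G] [Finite G] (p : ℕ) [Fact p.Prime] (M : Ideal Cfsg.AlgInt) (hM : Cfsg.IsPModular p M) (hperf : commutator G = ⊤) (P : Sylow p G) (χ : Cfsg.IrrCharacter G) (hχ : χ ∈ Cfsg.principalBlock M G) (hfaith : ∀ g : G, (χ : G → ℂ) g = (χ : G → ℂ) 1 → g = 1) (hdeg : Cfsg.charDegree (χ : G → ℂ) < 2 * p) : IsPGroup p ↥(Subgroup.centralizer ((P : Subgroup G) : Set G)) := by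
  classical
  have := Fintype.ofFinite G
  have : Fact p.Prime := ⟨hM.1⟩
  intro ⟨g, hg⟩
  rw [Subgroup.mem_centralizer_iff] at hg
  -- it is enough to kill the p'-part
  suffices hv1 : Agent.Blocks.pPrimePartOf p g = 1 by
    obtain ⟨k, hk⟩ := Agent.Blocks.orderOf_pPartOf hM.1 g
    refine ⟨k, Subtype.ext ?_⟩
    have e := Agent.Blocks.pPartOf_mul_pPrimePartOf hM.1 g
    rw [hv1, mul_one] at e
    rw [Subgroup.coe_pow, Subgroup.coe_one]
    show g ^ p ^ k = 1
    rw [← e, ← hk, pow_orderOf_eq_one]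
  set v := Agent.Blocks.pPrimePartOf p g with hv
  have hvC : ∀ y ∈ (P : Subgroup G), Commute y v := fun y hy =>
    (show Commute y g from hg y hy).pow_right _
  set N := orderOf v with hN
  have hN0 : 0 < N := orderOf_pos v
  have hpN : ¬ p ∣ N := Agent.Blocks.not_dvd_orderOf_pPrimePartOf hM.1 g
  obtain ⟨n, hn0, hn⟩ := Agent.Char.IsIrr.degree χ.2
  have hn1 : (χ : G → ℂ) 1 ≠ 0 := Agent.Char.IsIrr.one_ne_zero χ.2
  have hn2 : n < 2 * p := by rwa [Agent.Blocks.charDegree_eq hn] at hdeg
  -- values on powers of v are congruent to the degree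
  have hcong : ∀ i : ℕ, Cfsg.MemLocalIdeal M ((χ : G → ℂ) (v ^ i) - (χ : G → ℂ) 1) := by
    intro i
    set w := v ^ i
    have hidx : ¬ p ∣ (Subgroup.centralizer ({w} : Set G)).index := fun hd =>
      P.not_dvd_index (hd.trans (Subgroup.index_dvd_of_le fun y hy => by
        rw [Subgroup.mem_centralizer_singleton_iff]
        exact ((hvC y hy).pow_right i).eq))
    have h : Cfsg.MemLocalIdeal M (Cfsg.centralChar (fun _ : G => (1 : ℂ)) w -
        Cfsg.centralChar (χ : G → ℂ) w) := Agent.Blocks.mem_blockOf.1 hχ w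
    have h2 := Agent.Blocks.memLocalIdeal_mul_left hM
      (Agent.Blocks.memLocalRing_natCast_inv hM hidx) (Agent.Blocks.memLocalIdeal_neg h)
    have h3 := Agent.Blocks.memLocalIdeal_mul_left hM
      (Agent.Blocks.memLocalRing_natCast hM n) h2
    have hi : ((Subgroup.centralizer ({w} : Set G)).index : ℂ) ≠ 0 :=
      Nat.cast_ne_zero.2 Subgroup.index_ne_zero_of_finite
    convert h3 using 1
    rw [Cfsg.centralChar, Cfsg.centralChar, ← hn]
    field_simp
    ring
  obtain ⟨m, ρ, hρ, he⟩ := χ.2
  obtain ⟨μ, b, hb, hμ, htr⟩ := Agent.Char.exists_eigenbasis ρ v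
  have hpow : ∀ (i : ℕ) j, (ρ v ^ i) (b j) = μ j ^ i • b j := by
    intro i j
    induction i with
    | zero => simp
    | succ i ih => rw [pow_succ', Module.End.mul_apply, ih, map_smul, hb, smul_smul, pow_succ]
  have hval : ∀ i : ℕ, (χ : G → ℂ) (v ^ i) = ∑ j, μ j ^ i := by
    intro i
    rw [← he]
    show LinearMap.trace ℂ _ (ρ (v ^ i)) = _
    rw [map_pow]
    exact Agent.Char.trace_eq_sum_of_eigenbasis _ b _ (hpow i)
  have hcard : Fintype.card (Fin (Module.finrank ℂ (Fin m → ℂ))) = n := by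
    have : ((Fintype.card (Fin (Module.finrank ℂ (Fin m → ℂ)))) : ℂ) = n := by
      rw [Fintype.card_fin, ← ρ.char_one, ← hn, he]
    exact_mod_cast this
  -- nontrivial eigenvalues occur with multiplicity divisible by p
  have hmult : ∀ l : ℂ, l ^ N = 1 → l ≠ 1 →
      p ∣ (Finset.univ.filter fun j => μ j = l).card := by
    intro l hl hl1
    have hl0 : l ≠ 0 := fun h => by simp [h, zero_pow hN0.ne'] at hl
    have hgeom : ∀ z : ℂ, z ^ N = 1 → ∑ i ∈ Finset.range N, z ^ i = if z = 1 then (N : ℂ) else 0 := by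
      intro z hz
      split_ifs with h
      · simp [h]
      · rw [geom_sum_eq h, hz, sub_self, zero_div]
    have e : ∑ i ∈ Finset.range N, l⁻¹ ^ i * ((χ : G → ℂ) (v ^ i) - (χ : G → ℂ) 1) =
        ((N * (Finset.univ.filter fun j => μ j = l).card : ℕ) : ℂ) := by
      simp only [mul_sub, Finset.sum_sub_distrib, ← Finset.sum_mul]
      rw [hgeom _ (by rw [inv_pow, hl, inv_one]), if_neg (fun h => hl1 (inv_eq_one.1 h)),
        zero_mul, sub_zero]
      simp only [hval, Finset.mul_sum, ← mul_pow]
      rw [Finset.sum_comm, Finset.sum_congr rfl fun j _ => hgeom _ (by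
        rw [mul_pow, inv_pow, hl, inv_one, one_mul]; exact hμ j)]
      simp only [inv_mul_eq_one₀ hl0, eq_comm (a := l)]
      rw [← Finset.sum_filter, Finset.sum_const, nsmul_eq_mul, Nat.cast_mul, mul_comm]
    have hd : Cfsg.MemLocalIdeal M ((N * (Finset.univ.filter fun j => μ j = l).card : ℕ) : ℂ) := by
      rw [← e]
      refine Agent.Blocks.memLocalIdeal_sum hM _ fun i _ => Agent.Blocks.memLocalIdeal_mul_left hM
        ?_ (hcong i)
      exact Agent.Blocks.memLocalRing_of_isIntegral hM (Agent.Blocks.isIntegral_of_pow_eq_one hN0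
        (by rw [← pow_mul, mul_comm, pow_mul, inv_pow, hl, inv_one, one_pow]))
    exact (hM.1.dvd_mul.1 ((Agent.Blocks.memLocalIdeal_natCast_iff hM _).1 hd)).resolve_left hpN
  -- all eigenvalues are 1
  have hall : ∀ j, μ j = 1 := by
    by_contra! hex
    obtain ⟨j₀, hj₀⟩ := hex
    set T := Finset.univ.filter fun j => μ j = μ j₀ with hT
    have hp1 : p ≤ T.card := Nat.le_of_dvd
      (Finset.card_pos.2 ⟨j₀, Finset.mem_filter.2 ⟨Finset.mem_univ _, rfl⟩⟩)
      (hmult _ (hμ j₀) hj₀)
    have hothers : ∀ j, j ∉ T → μ j = 1 := by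
      intro j hj
      by_contra hj1
      set T' := Finset.univ.filter fun i => μ i = μ j with hT'
      have hp2 : p ≤ T'.card := Nat.le_of_dvd
        (Finset.card_pos.2 ⟨j, Finset.mem_filter.2 ⟨Finset.mem_univ _, rfl⟩⟩)
        (hmult _ (hμ j) hj1)
      have hdisj : Disjoint T T' := Finset.disjoint_filter.2 fun i _ h1 h2 =>
        hj (Finset.mem_filter.2 ⟨Finset.mem_univ _, by rw [← h2, h1]⟩)
      have := Finset.card_le_univ (T ∪ T')
      rw [Finset.card_union_of_disjoint hdisj, hcard] at this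
      omega
    have hTp : T.card = p := by
      obtain ⟨c, hc⟩ : p ∣ T.card := hmult _ (hμ j₀) hj₀
      have hTn : T.card ≤ n := hcard ▸ Finset.card_le_univ T
      have hc2 : p * c < p * 2 := by rw [← hc]; omega
      have := Nat.lt_of_mul_lt_mul_left hc2
      rcases Nat.eq_zero_or_pos c with rfl | hc0
      · rw [mul_zero] at hc; have := hM.1.pos; omega
      · obtain rfl : c = 1 := by omega
        simpa using hc
    have hdet : LinearMap.det (ρ v) = 1 := by
      have hv : v ∈ (((LinearMap.det).comp ρ).toHomUnits).ker :=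
        Abelianization.commutator_subset_ker _ (hperf ▸ Subgroup.mem_top v)
      exact congrArg Units.val (MonoidHom.mem_ker.1 hv)
    have hdet' : LinearMap.det (ρ v) = ∏ j, μ j := by
      rw [← LinearMap.det_toMatrix b, show LinearMap.toMatrix b b (ρ v) = Matrix.diagonal μ by
        ext i j
        rw [LinearMap.toMatrix_apply, hb]
        by_cases h : i = j <;> simp [h, Matrix.diagonal], Matrix.det_diagonal]
    rw [hdet', ← Finset.prod_mul_prod_compl T, Finset.prod_eq_pow_card fun j hj =>
      (Finset.mem_filter.1 hj).2, Finset.prod_eq_one fun j hj =>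
      hothers j (Finset.mem_compl.1 hj), mul_one, hTp] at hdet
    refine hj₀ ?_
    rw [← orderOf_eq_one_iff]
    have d1 := orderOf_dvd_iff_pow_eq_one.2 hdet
    rcases (Nat.dvd_prime hM.1).1 d1 with h | h
    · exact h
    · exact absurd (h ▸ orderOf_dvd_iff_pow_eq_one.2 (hμ j₀)) hpN
  refine hfaith v ?_
  have h := hval 1
  rw [pow_one] at h
  rw [h, hn, ← hcard]
  simp [hall]

end Cfsg.Agent.S4729
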