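import Cfsg.Statements.S4730
import Cfsg.Agent.Blocks.Idempotent
import Cfsg.Agent.BlockChar.Defect
import Cfsg.Agent.Char.Integral

set_option autoImplicit false
open Cfsg

namespace Cfsg.Agent.S4730

/-- Let p be a prime, M a maximal ideal of the algebraic integers containing p, and G a finite group with trivial centre, Sylow p-subgroup P of order p^a and centre Z(P) of order p^b. If χ is a faithful irreducible character of G whose degree is a power of p, then the p-block of χ has defect at most a − b; in particular, if P is abelian then χ lies in a block of defect zero. -/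
theorem result {G : Type*} [Group G] [Finite G] (p : ℕ) [Fact p.Prime] (M : Ideal Cfsg.AlgInt) (hM : Cfsg.IsPModular p M) (hZ : Subgroup.center G = ⊥) (P : Sylow p G) (a b : ℕ) (ha : Nat.card P = p ^ a) (hb : Nat.card (Subgroup.center ↥(P : Subgroup G)) = p ^ b) (χ : Cfsg.IrrCharacter G) (hfaith : ∀ g : G, (χ : G → ℂ) g = (χ : G → ℂ) 1 → g = 1) (n : ℕ) (hdeg : Cfsg.charDegree (χ : G → ℂ) = p ^ n) : Cfsg.blockDefect p (Cfsg.blockOf M (χ : G → ℂ)) ≤ a - b ∧ (IsMulCommutative ↥(P : Subgroup G) → Cfsg.blockDefect p (Cfsg.blockOf M (χ : G → ℂ)) = 0) := by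
  classical
  have := Fintype.ofFinite G
  have : Fact p.Prime := ⟨hM.1⟩
  set Z : Subgroup G := (Subgroup.center ↥(P : Subgroup G)).map (P : Subgroup G).subtype with hZdef
  have hZcard : Nat.card Z = p ^ b := by
    rw [hZdef, Subgroup.card_subtype, hb]
  have hA : (Nat.card G).factorization p = a := by
    have := P.card_eq_multiplicity
    rw [ha] at this
    exact (Nat.pow_right_injective hM.1.two_le this).symm
  -- class sizes on Z(P) are prime to p
  have hidx : ∀ x ∈ Z, ¬ p ∣ (Subgroup.centralizer ({x} : Set G)).index := by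
    rintro _ ⟨⟨x, hxP⟩, hx, rfl⟩
    refine fun hd => P.not_dvd_index (hd.trans (Subgroup.index_dvd_of_le fun y hy => ?_))
    rw [Subgroup.mem_centralizer_singleton_iff]
    exact congrArg Subtype.val (Subgroup.mem_center_iff.1 hx ⟨y, hy⟩)
  -- χ vanishes on Z(P) away from 1
  have hvan : ∀ x ∈ Z, x ≠ 1 → (χ : G → ℂ) x = 0 := by
    intro x hx hx1
    obtain ⟨d, -, hd⟩ := Agent.Char.IsIrr.degree χ.2
    have hdn : d = p ^ n := by rw [← hdeg, Agent.Blocks.charDegree_eq hd]
    refine (Agent.Char.IsIrr.zero_or_norm_eq χ.2 x hd ?_).resolve_right fun hnorm => hx1 ?_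
    · rw [hdn]; exact (hM.1.coprime_iff_not_dvd.2 (hidx x hx)).pow_left n
    obtain ⟨m, ρ, hρ, he⟩ := χ.2
    have hm : (Module.finrank ℂ (Fin m → ℂ) : ℂ) = d := by
      rw [← ρ.char_one, ← hd, he]
    have hm' : (Module.finrank ℂ (Fin m → ℂ) : ℝ) = d := by exact_mod_cast hm
    obtain ⟨ω, hω⟩ := (Agent.Char.norm_character_eq_iff ρ x).1 (by rw [hm', ← hnorm, he])
    rw [← Subgroup.mem_bot, ← hZ, Subgroup.mem_center_iff]
    intro k
    have hcomm : ρ (k * x * k⁻¹) = ρ x := by
      rw [map_mul, map_mul, hω]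
      ext v
      simp
    have hone : ρ (k * x * k⁻¹ * x⁻¹) = 1 := by
      rw [map_mul ρ (k * x * k⁻¹), hcomm, ← map_mul, mul_inv_cancel, map_one]
    have h := hfaith (k * x * k⁻¹ * x⁻¹) (by
      rw [← he]
      show LinearMap.trace ℂ _ (ρ _) = LinearMap.trace ℂ _ (ρ _)
      rw [hone, map_one ρ])
    exact mul_inv_eq_iff_eq_mul.1 (mul_inv_eq_one.1 h)
  set B := Cfsg.blockOf M (χ : G → ℂ) with hB
  have hdvd : ∀ ψ ∈ B, b ≤ (Cfsg.charDegree (ψ : G → ℂ)).factorization p := by
    intro ψ hψ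
    by_contra hlt
    push Not at hlt
    obtain ⟨e, he0, he⟩ := Agent.Char.IsIrr.degree ψ.2
    rw [Agent.Blocks.charDegree_eq he] at hlt
    have hne : (ψ : G → ℂ) 1 ≠ 0 := by rw [he]; exact Nat.cast_ne_zero.2 he0.ne'
    have hsmall : ∀ x ∈ Z, x ≠ 1 → Cfsg.MemLocalIdeal M ((ψ : G → ℂ) x / (ψ : G → ℂ) 1) := by
      intro x hx hx1
      have h : Cfsg.MemLocalIdeal M
          (Cfsg.centralChar (χ : G → ℂ) x - Cfsg.centralChar (ψ : G → ℂ) x) :=
        Agent.Blocks.mem_blockOf.1 hψ x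
      rw [Cfsg.centralChar, hvan x hx hx1, mul_zero, zero_div, zero_sub] at h
      have h2 := Agent.Blocks.memLocalIdeal_mul_left hM
        (Agent.Blocks.memLocalRing_natCast_inv hM (hidx x hx)) (Agent.Blocks.memLocalIdeal_neg h)
      have hi : ((Subgroup.centralizer ({x} : Set G)).index : ℂ) ≠ 0 :=
        Nat.cast_ne_zero.2 Subgroup.index_ne_zero_of_finite
      convert h2 using 1
      rw [neg_neg, Cfsg.centralChar]
      field_simp
    obtain ⟨m, hm⟩ := Agent.Char.classInner_isCharacter_eq_natCast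
      (Agent.Char.isCharacter_res Z (Agent.Char.IsIrr.isCharacter ψ.2))
      (Agent.Char.isCharacter_one (G := Z))
    rw [Cfsg.classInner, hZcard, inv_mul_eq_iff_eq_mul₀
      (Nat.cast_ne_zero.2 (pow_pos hM.1.pos b).ne')] at hm
    simp only [map_one, mul_one] at hm
    rw [← Finset.add_sum_erase _ _ (Finset.mem_univ (1 : Z)), OneMemClass.coe_one] at hm
    set v := e.factorization p
    set e' := e / p ^ v with he'
    have hee : e = p ^ v * e' := (Nat.ordProj_mul_ordCompl_eq_self e p).symm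
    have hpe' : ¬ p ∣ e' := Nat.not_dvd_ordCompl hM.1 he0.ne'
    have hpv : (p : ℂ) ^ v ≠ 0 := pow_ne_zero _ (Nat.cast_ne_zero.2 hM.1.pos.ne')
    refine Agent.Blocks.not_memLocalIdeal_one hM ?_
    have h1 : (1 : ℂ) = ((p ^ (b - v) * m : ℕ) : ℂ) * (e' : ℂ)⁻¹ -
        ∑ x ∈ Finset.univ.erase (1 : Z), (ψ : G → ℂ) (x : G) / (ψ : G → ℂ) 1 := by
      have he'0 : (e' : ℂ) ≠ 0 := Nat.cast_ne_zero.2 fun h => hpe' (h ▸ dvd_zero p)
      rw [← Finset.sum_div]
      have hS : ∑ x ∈ Finset.univ.erase (1 : Z), (ψ : G → ℂ) (x : G) =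
          ((p ^ b : ℕ) : ℂ) * (m : ℂ) - (ψ : G → ℂ) 1 := by linear_combination hm
      rw [hS, he, hee, show p ^ b = p ^ v * p ^ (b - v) by rw [← pow_add]; congr 1; omega]
      push_cast
      field_simp
      ring
    rw [h1]
    refine Agent.Blocks.memLocalIdeal_sub hM ?_ (Agent.Blocks.memLocalIdeal_sum hM _ fun x hx => ?_)
    · refine Agent.Blocks.memLocalIdeal_mul_right hM ((Agent.Blocks.memLocalIdeal_natCast_iff hM _).2
        (Dvd.dvd.mul_right (dvd_pow_self p (by omega)) m)) (Agent.Blocks.memLocalRing_natCast_inv hM hpe')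
    · exact hsmall _ x.2 fun h => Finset.ne_of_mem_erase hx (Subtype.ext h)
  have hmin : b ≤ Agent.BlockChar.minVal p B :=
    le_csInf ⟨_, χ, Agent.Blocks.mem_blockOf_self hM χ, rfl⟩
      (by rintro _ ⟨ψ, hψ, rfl⟩; exact hdvd ψ hψ)
  have hle : Cfsg.blockDefect p B ≤ a - b := by
    rw [Agent.BlockChar.blockDefect_eq, hA]; omega
  refine ⟨hle, fun hab => ?_⟩
  have hc : Subgroup.center ↥(P : Subgroup G) = ⊤ :=
    eq_top_iff.2 fun x _ => Subgroup.mem_center_iff.2 fun y => hab.is_comm.comm y x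
  rw [hc, Subgroup.card_top, ha] at hb
  have := Nat.pow_right_injective hM.1.two_le hb
  omega

end Cfsg.Agent.S4730
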