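import Cfsg.Statements.S4732
import Cfsg.Agent.JordanP.Linear

set_option autoImplicit false
universe u v
open Cfsg

namespace Cfsg.Agent.S4732

/-- Let p be a prime. There is a function f of two natural-number arguments such that every finite group G admitting a faithful representation of degree n over a field of characteristic p, with Sylow p-subgroups of order p^m, has a normal abelian subgroup A with [G : A] < f(m, n). -/
theorem result (p : ℕ) [Fact p.Prime] : ∃ f : ℕ → ℕ → ℕ, ∀ (G : Type u) [Group G] [Finite G] (F : Type v) [Field F] [CharP F p] (n : ℕ) (ρ : Representation F G (Fin n → F)), Function.Injective ρ → ∀ m : ℕ, (Nat.card G).factorization p = m → ∃ A : Subgroup G, A.Normal ∧ IsMulCommutative A ∧ A.index < f m n := by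
  classical
  choose f hf using fun m n => JordanP.exists_linear_bound.{u, v} p n m
  refine ⟨fun m n => (f m n).factorial + 1, fun G _ _ F _ _ n ρ hρ m hm => ?_⟩
  have : CharP (AlgebraicClosure F) p :=
    charP_of_injective_algebraMap (algebraMap F (AlgebraicClosure F)).injective p
  let e₁ : Module.End F (Fin n → F) →* Matrix (Fin n) (Fin n) F :=
    (LinearMap.toMatrixAlgEquiv' (R := F) (n := Fin n)).toMulEquiv.toMonoidHom
  let e₂ : Matrix (Fin n) (Fin n) (AlgebraicClosure F) →*
      Module.End (AlgebraicClosure F) (Fin n → AlgebraicClosure F) :=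
    (Matrix.toLinAlgEquiv' (R := AlgebraicClosure F) (n := Fin n)).toMulEquiv.toMonoidHom
  let σ : G →* Module.End (AlgebraicClosure F) (Fin n → AlgebraicClosure F) :=
    e₂.comp (((algebraMap F (AlgebraicClosure F)).mapMatrix.toMonoidHom).comp (e₁.comp ρ))
  have hσ : Function.Injective σ :=
    (Matrix.toLinAlgEquiv' (R := AlgebraicClosure F) (n := Fin n)).injective.comp
      ((Matrix.map_injective (algebraMap F (AlgebraicClosure F)).injective).comp
        ((LinearMap.toMatrixAlgEquiv' (R := F) (n := Fin n)).injective.comp hρ))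
  obtain ⟨A, hA, hAc⟩ := hf m n (AlgebraicClosure F) G (Fin n → AlgebraicClosure F)
    (Module.finrank_fin_fun (AlgebraicClosure F)).le hm.le σ
  have hidx : A.index ≤ f m n := by
    refine Nat.le_of_mul_le_mul_left (c := Nat.card A) ?_ Nat.card_pos
    rw [Subgroup.card_mul_index, mul_comm]
    exact hAc
  refine ⟨A.normalCore, Subgroup.normalCore_normal A, ⟨⟨fun a b => Subtype.ext
    (hσ (hA _ (Subgroup.normalCore_le A a.2) _ (Subgroup.normalCore_le A b.2)))⟩⟩,
    Nat.lt_succ_of_le ((Nat.le_of_dvd (Nat.factorial_pos _) ?_).trans (Nat.factorial_le hidx))⟩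
  rw [Subgroup.normalCore_eq_ker, Subgroup.index_ker, Subgroup.index_eq_card, ← Nat.card_perm]
  exact Subgroup.card_subgroup_dvd_card _

end Cfsg.Agent.S4732
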