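import Cfsg.Statements.S4733
import Cfsg.Agent.BlockChar.RegInner
import Cfsg.Prelude.Def_BlockRank
import Mathlib.LinearAlgebra.Dimension.Constructions
import Mathlib.LinearAlgebra.Dimension.OrzechProperty
-- import your own Cfsg.Agent.* helpers here

set_option autoImplicit false
open Cfsg

namespace Cfsg.Agent.S4733

/-- Let p be a prime, M a maximal ideal of the algebraic integers containing p, and B a p-block of the finite group G with k irreducible characters and p-regular rank l (the number of irreducible Brauer characters). Then l ≤ k, and the following are equivalent: B has defect 0; k = l = 1; k = l. -/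
theorem result {G : Type*} [Group G] [Finite G] (p : ℕ) [Fact p.Prime] (M : Ideal Cfsg.AlgInt) (hM : Cfsg.IsPModular p M) (B : Set (Cfsg.IrrCharacter G)) (hB : Cfsg.IsPBlock M B) : Cfsg.blockRank p B ≤ Nat.card B ∧ (Cfsg.blockDefect p B = 0 ↔ (Nat.card B = 1 ∧ Cfsg.blockRank p B = 1)) ∧ (Cfsg.blockDefect p B = 0 ↔ Nat.card B = Cfsg.blockRank p B) := by
  classical
  have := Fintype.ofFinite G
  let v : B → (G → ℂ) := fun χ => Cfsg.pRegularPart p ((χ.1 : Cfsg.IrrCharacter G) : G → ℂ)
  have hr : Cfsg.blockRank p B = (Set.range v).finrank ℂ := by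
    rw [Cfsg.blockRank, Set.finrank, Set.range_comp' (fun χ : Cfsg.IrrCharacter G =>
      Cfsg.pRegularPart p (χ : G → ℂ)) (Subtype.val : B → _), Subtype.range_coe]
  have h1 : Cfsg.IsPRegular p (1 : G) := by simp [Cfsg.IsPRegular, hM.1.ne_one]
  have hle : Cfsg.blockRank p B ≤ Nat.card B := by
    rw [hr, Nat.card_eq_fintype_card]; exact finrank_range_le_card v
  have hne := Agent.Blocks.IsPBlock.nonempty hM hB
  have hkpos : 0 < Nat.card B := by
    have := hne.to_subtype
    exact Nat.card_pos
  -- if the restrictions are independent the defect is zero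
  have hA : Nat.card B = Cfsg.blockRank p B → Cfsg.blockDefect p B = 0 := by
    intro heq
    have hli : LinearIndependent ℂ v := linearIndependent_iff_card_eq_finrank_span.2 (by
      rw [← hr, ← heq, Nat.card_eq_fintype_card])
    obtain ⟨ψ, hψ, hψv⟩ := Agent.BlockChar.exists_height_zero (p := p) hne
    have hψ0 : Cfsg.blockHeight p B (ψ : G → ℂ) = 0 := by
      rw [Agent.BlockChar.blockHeight_eq, hψv, Nat.sub_self]
    have hcoef : Agent.BlockChar.regM p B ψ ψ = ((p ^ Cfsg.blockDefect p B : ℕ) : ℂ) := by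
      have hz : ∑ φ : B, (Agent.BlockChar.regM p B ψ φ.1 -
          if φ = ⟨ψ, hψ⟩ then ((p ^ Cfsg.blockDefect p B : ℕ) : ℂ) else 0) • v φ = 0 := by
        funext x
        rw [Finset.sum_apply]
        simp only [Pi.smul_apply, smul_eq_mul, v, Cfsg.pRegularPart, sub_mul,
          Finset.sum_sub_distrib, ite_mul, zero_mul, Finset.sum_ite_eq', Finset.mem_univ, if_true,
          Pi.zero_apply]
        by_cases hx : Cfsg.IsPRegular p x
        · simp only [if_pos hx]
          have h := Agent.BlockChar.sum_regM_mul hM hB hψ x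
          rw [if_pos hx, ← Finset.sum_filter] at h
          rw [← h, sub_eq_zero]
          exact (Finset.sum_subtype _ (fun φ => by simp)
            (fun φ : Cfsg.IrrCharacter G => Agent.BlockChar.regM p B ψ φ * (φ : G → ℂ) x)).symm
        · simp [if_neg hx]
      have := Fintype.linearIndependent_iff.1 hli _ hz ⟨ψ, hψ⟩
      rw [if_pos rfl, sub_eq_zero] at this
      exact this
    by_contra hd
    have hu : ¬ Cfsg.MemLocalIdeal M (Agent.BlockChar.regM p B ψ ψ) := by
      rw [Agent.BlockChar.regM_memLocalIdeal_iff hM hψ, not_or]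
      exact ⟨(Agent.BlockChar.not_dvd_redDeg_iff hM.1 hψ).2 hψ0,
        Agent.BlockChar.not_memLocalIdeal_omega_regConj hM hB hψ hψ hψ0⟩
    rw [hcoef, Agent.Blocks.memLocalIdeal_natCast_iff hM] at hu
    exact hu (dvd_pow_self p hd)
  have hBk : Cfsg.blockDefect p B = 0 → Nat.card B = 1 ∧ Cfsg.blockRank p B = 1 := by
    intro hd
    have hbf := Agent.BlockChar.brauer_feit hM hB
    rw [hd, Nat.mul_zero, pow_zero, ← Finset.sum_filter] at hbf
    have hk : Nat.card B ≤ ∑ χ ∈ Finset.univ.filter (· ∈ B),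
        p ^ (2 * Cfsg.blockHeight p B ((χ : Cfsg.IrrCharacter G) : G → ℂ)) := by
      rw [Nat.card_eq_fintype_card, Fintype.card_subtype, Finset.card_eq_sum_ones]
      exact Finset.sum_le_sum fun χ _ => Nat.one_le_pow _ _ hM.1.pos
    have hl : 0 < Cfsg.blockRank p B := by
      obtain ⟨χ, hχ⟩ := hne
      rw [hr, Set.finrank, Module.finrank_pos_iff_exists_ne_zero]
      refine ⟨⟨v ⟨χ, hχ⟩, Submodule.subset_span ⟨_, rfl⟩⟩, fun e => ?_⟩
      have h2 := congrFun (congrArg Subtype.val e) 1
      simp [v, Cfsg.pRegularPart, h1, Agent.Char.IsIrr.one_ne_zero χ.2] at h2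
    omega
  refine ⟨hle, ⟨hBk, fun h => hA (h.1.trans h.2.symm)⟩, ⟨fun h => ?_, hA⟩⟩
  obtain ⟨a, b⟩ := hBk h
  exact a.trans b.symm

end Cfsg.Agent.S4733
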