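import Mathlib
import Cfsg.Agent.BrauerPairs.KernelTransfer
import Cfsg.Agent.BlockThms.DefectCor

set_option autoImplicit false
set_option linter.style.haveILetI false
open Cfsg

namespace Cfsg.Agent.S4734

open Cfsg.Agent Cfsg.Agent.Blocks Cfsg.Agent.BrauerPairs Cfsg.Agent.BrauerPairs.KernelTransfer

/-- Let p be a prime, π a set of primes containing p, M a maximal ideal of the algebraic integers containing p, B a p-block of the finite group G with defect group D, and B₁ the block of N_G(D) with defect group D inducing B. Write O_π'(X) for the largest normal subgroup of X whose order has no prime divisor in π, and suppose every element of O_π'(N_G(D)) lies in the kernel of every member of B₁. Let G₀ be a subgroup and B₀ a block of G₀ with defect group D₀ such that C_G(D₀) ≤ G₀ and B₀ induces B. Then every element of O_π'(G₀) lies in the kernel of every member of B₀. -/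
theorem result {G : Type*} [Group G] [Finite G] (p : ℕ) [Fact p.Prime] (M : Ideal Cfsg.AlgInt) (hM : Cfsg.IsPModular p M) (π : Set ℕ) (hpπ : p ∈ π) (B : Set (Cfsg.IrrCharacter G)) (hB : Cfsg.IsPBlock M B) (D : Subgroup G) (hBD : Cfsg.IsDefectGroup p M B D) (B₁ : Set (Cfsg.IrrCharacter ↥(Subgroup.normalizer (D : Set G)))) (hB₁ : Cfsg.IsInducedBlock M (Subgroup.normalizer (D : Set G)) B₁ B) (hB₁D : Cfsg.IsDefectGroup p M B₁ (D.subgroupOf (Subgroup.normalizer (D : Set G)))) (hker : ∀ n : ↥(Subgroup.normalizer (D : Set G)), n ∈ Cfsg.piCore {q | q ∉ π} ↥(Subgroup.normalizer (D : Set G)) → n ∈ Cfsg.blockKer B₁) (G₀ : Subgroup G) (B₀ : Set (Cfsg.IrrCharacter ↥G₀)) (hB₀ : Cfsg.IsInducedBlock M G₀ B₀ B) (D₀ : Subgroup ↥G₀) (hD₀ : Cfsg.IsDefectGroup p M B₀ D₀) (hC : Subgroup.centralizer ((D₀.map G₀.subtype : Subgroup G) : Set G) ≤ G₀) : ∀ x : ↥G₀, x ∈ Cfsg.piCore {q | q ∉ π} ↥G₀ → x ∈ Cfsg.blockKer B₀ := by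
  classical
  haveI := Fact.mk hM.1
  have := Fintype.ofFinite G₀
  obtain ⟨e, hmax, hiff⟩ := exists_maximal_core (π := π) hM hpπ hBD hB₁ hB₁D
  set R := D₀.map G₀.subtype with hR
  have hRp : IsPGroup p R := by
    obtain ⟨g, -, S, hS⟩ := hD₀
    rw [hR, hS]
    exact (S.2.map _).map _
  have hRG : R ≤ G₀ := Subgroup.map_subtype_le _
  obtain ⟨η, hη⟩ := exists_root hM hB₀.1 hD₀ (R := R) le_rfl hRp hC
  have hpair := pair_of_induced hM hRG hC hRp hB₀ η hη
  obtain ⟨x, hx⟩ := exists_conj_subpairLE hM hmax hpair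
  have hk : KerPair π (⟨R, blockOf M (η : _ → ℂ)⟩ : Cfsg.BrauerPairIdx G) :=
    kerPair_conj hM _ x (kerPair_down hM hpπ hx (hiff.1 hker))
  set W := Cfsg.piCoreOf {q | q ∉ π} G₀ with hW
  have hWn : G₀ ≤ Subgroup.normalizer (W : Set G) := OddLocal.le_normalizer_piCoreOf _ _
  have hkill : InKer W B₀ := (inKer_iff hM (W := W) (R := R) (OddLocal.piCoreOf_le _ _) hWn
      (not_dvd_piCoreOf hM.1 hpπ _) hB₀.1 hRp (hRG.trans hWn) (hC.trans hWn)
      ((isInv_sbc B₀).mono hRG) ((isInv_sbc B₀).mono hC) η hη).2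
    fun a ha => hk η (mem_blockOf_self hM η) a (OddLocal.piCoreOf_inf_le hC ⟨ha, a.2⟩)
  intro a ha ξ hξ
  exact hkill ξ hξ a ⟨a, ha, rfl⟩

end Cfsg.Agent.S4734
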