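import Cfsg.Statements.S4736
import Mathlib
import Cfsg.Agent.Blocks.PrincipalPSolvable
import Cfsg.Agent.BlockChar.Defect
import Cfsg.Agent.Char.NormalAbelianSylow
-- import your own Cfsg.Agent.* helpers here

set_option autoImplicit false
open Cfsg

namespace Cfsg.Agent.S4736

/-- Let p be a prime, M a maximal ideal of the algebraic integers containing p, and G a finite p-solvable group with Sylow p-subgroup P. Then P is abelian if and only if every irreducible character in the principal p-block of G has height zero. -/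
theorem result {G : Type*} [Group G] [Finite G] (p : ℕ) [Fact p.Prime] (M : Ideal Cfsg.AlgInt) (hM : Cfsg.IsPModular p M) (hsolv : Cfsg.IsPSolvable p G) (P : Sylow p G) : IsMulCommutative P ↔ ∀ χ ∈ Cfsg.principalBlock M G, Cfsg.blockHeight p (Cfsg.principalBlock M G) (χ : G → ℂ) = 0 := by
  classical
  have := Fintype.ofFinite G
  have hp := (Fact.out : p.Prime)
  set K := Cfsg.pPrimeCore p G with hK
  have hheight : ∀ χ : Cfsg.IrrCharacter G,
      Cfsg.blockHeight p (Cfsg.principalBlock M G) (χ : G → ℂ) = 0 ↔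
        ¬ p ∣ Cfsg.charDegree (χ : G → ℂ) := by
    intro χ
    have h0 : BlockChar.minVal p (Cfsg.principalBlock M G) = 0 := by
      refine Nat.le_zero.1 ((BlockChar.minVal_le (Blocks.triv_mem_principalBlock hM)).trans ?_)
      rw [Blocks.charDegree_eq (n := 1) (by show (1 : ℂ) = _; simp), Nat.factorization_one]
      rfl
    rw [BlockChar.blockHeight_eq, h0, Nat.sub_zero, Nat.factorization_eq_zero_iff]
    constructor
    · rintro (h | h | h)
      · exact absurd hp h
      · exact h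
      · exact absurd h (Blocks.charDegree_pos χ.2).ne'
    · exact fun h => Or.inr (Or.inl h)
  have hO : Cfsg.pPrimeCore p (G ⧸ K) = ⊥ := Core.pPrimeCore_quotient_eq_bot
  have hsolQ : Cfsg.IsPSolvable p (G ⧸ K) :=
    Layer.isPSolvable_of_surjective hsolv (QuotientGroup.mk'_surjective K)
  constructor
  · intro hab χ hχ
    rw [hheight]
    obtain ⟨φ, hφ, hφe⟩ := Char.IsIrr.exists_quotient K χ.2
      ((Blocks.mem_principalBlock_iff_of_isPSolvable hM hsolv χ).1 hχ)
    set Pb := P.mapSurjective (QuotientGroup.mk'_surjective K) with hPb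
    have habQ : ∀ a ∈ (Pb : Subgroup (G ⧸ K)), ∀ b ∈ (Pb : Subgroup (G ⧸ K)),
        a * b = b * a := by
      rintro _ ⟨a, ha, rfl⟩ _ ⟨b, hb, rfl⟩
      rw [← map_mul, ← map_mul]
      exact congrArg _ (congrArg Subtype.val (hab.is_comm.comm ⟨a, ha⟩ ⟨b, hb⟩))
    have hle : (Pb : Subgroup (G ⧸ K)) = Cfsg.pCore p (G ⧸ K) := by
      refine le_antisymm (fun x hx => ?_) (Core.pCore_le_sylow Pb)
      refine Layer.pCoreSelfCentral_of_isPSolvable hsolQ hO
        (Subgroup.mem_centralizer_iff.2 fun y hy => habQ y (Core.pCore_le_sylow Pb hy) x hx)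
    haveI : (Pb : Subgroup (G ⧸ K)).Normal := by rw [hle]; infer_instance
    have := Char.not_dvd_degree_of_abelian (Pb : Subgroup (G ⧸ K)) Pb.not_dvd_index habQ ⟨φ, hφ⟩
    convert this using 2
    have e : (χ : G → ℂ) 1 = φ 1 := by rw [hφe, QuotientGroup.mk_one]
    simp only [Cfsg.charDegree, e]
  · intro h
    have hdeg : ∀ φ : Cfsg.IrrCharacter (G ⧸ K), ¬ p ∣ Cfsg.charDegree (φ : G ⧸ K → ℂ) := by
      intro φ
      let χ : Cfsg.IrrCharacter G := ⟨_, Char.isIrrCharacter_mk K φ.2⟩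
      have hmem : χ ∈ Cfsg.principalBlock M G :=
        (Blocks.mem_principalBlock_iff_of_isPSolvable hM hsolv χ).2 fun n hn => by
          show (φ : G ⧸ K → ℂ) (n : G ⧸ K) = (φ : G ⧸ K → ℂ) ((1 : G) : G ⧸ K)
          rw [(QuotientGroup.eq_one_iff n).2 hn, QuotientGroup.mk_one]
      have h1 := (hheight χ).1 (h χ hmem)
      convert h1 using 2
      show Cfsg.charDegree (φ : G ⧸ K → ℂ) = Cfsg.charDegree (fun g : G => (φ : G ⧸ K → ℂ) g)
      simp only [Cfsg.charDegree, QuotientGroup.mk_one]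
    obtain ⟨Q, hQn, hQc, hQp, hQi⟩ := Char.exists_normal_abelian_sylow _ (G ⧸ K) rfl hsolQ hdeg
    haveI := hQn
    refine ⟨⟨fun a b => Subtype.ext ?_⟩⟩
    have hQ : ∀ x ∈ (P : Subgroup G), QuotientGroup.mk' K x ∈ Q := fun x hx => by
      haveI := Sylow.unique_of_normal (hQp.toSylow hQi) hQn
      obtain ⟨S, hS⟩ := (P.isPGroup'.map (QuotientGroup.mk' K)).exists_le_sylow
      rw [Subsingleton.elim S (hQp.toSylow hQi)] at hS
      exact hS (Subgroup.mem_map_of_mem _ hx)
    have hcK : (a : G) * b * (a : G)⁻¹ * (b : G)⁻¹ ∈ K := by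
      rw [← QuotientGroup.eq_one_iff]
      show QuotientGroup.mk' K ((a : G) * b * (a : G)⁻¹ * (b : G)⁻¹) = 1
      rw [map_mul, map_mul, map_mul, map_inv, map_inv, hQc _ (hQ _ a.2) _ (hQ _ b.2)]
      group
    have hcP : (a : G) * b * (a : G)⁻¹ * (b : G)⁻¹ ∈ (P : Subgroup G) :=
      mul_mem (mul_mem (mul_mem a.2 b.2) (inv_mem a.2)) (inv_mem b.2)
    have hinf : (P : Subgroup G) ⊓ K = ⊥ := by
      refine Subgroup.inf_eq_bot_of_coprime ?_
      obtain ⟨k, hk⟩ := IsPGroup.iff_card.1 P.isPGroup'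
      rw [hk]
      exact (Core.coprime_card_pPrimeCore (p := p) (G := G)).symm.pow_left k
    have hone : (a : G) * b * (a : G)⁻¹ * (b : G)⁻¹ = 1 :=
      (Subgroup.mem_bot).1 (hinf ▸ Subgroup.mem_inf.2 ⟨hcP, hcK⟩)
    show (a : G) * b = b * a
    exact mul_inv_eq_iff_eq_mul.1 (mul_inv_eq_one.1 hone)

end Cfsg.Agent.S4736
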