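import Cfsg.Statements.S4737
import Mathlib
import Cfsg.Agent.BlockThms.DefectZero
import Cfsg.Agent.BlockThms.NormalCor
import Cfsg.Agent.BrauerPairs.FirstMain
import Cfsg.Agent.BrauerPairs.MaximalCriterion
import Cfsg.Agent.Blocks.ClassMatrix
-- import your own Cfsg.Agent.* helpers here

set_option autoImplicit false
open Cfsg

namespace Cfsg.Agent.S4737

open scoped ComplexConjugate
open Cfsg.Agent Cfsg.Agent.Blocks

universe u

variable {G : Type u} [Group G] {M : Ideal Cfsg.AlgInt}

/-- The indicator function of the square roots of the identity. -/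
noncomputable def sqInd (G : Type u) [Group G] : G → ℂ :=
  open Classical in fun t => if t * t = 1 then 1 else 0

theorem isClassFunction_sqInd : Cfsg.IsClassFunction G (sqInd G) := by
  classical
  intro x k
  simp only [sqInd]
  refine if_congr ?_ rfl rfl
  rw [show k * x * k⁻¹ * (k * x * k⁻¹) = k * (x * x) * k⁻¹ by group, conj_eq_one_iff]

theorem memLocalRing_sqInd (hM : Cfsg.IsPModular 2 M) (x : G) :
    Cfsg.MemLocalRing M (sqInd G x) := by
  rw [sqInd]
  split
  · exact (localRing hM).one_mem
  · exact (localRing hM).zero_mem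

/-- Outside the blocks of defect zero the square roots of the identity have trivial central
character modulo `M`. -/
theorem memLocalIdeal_omega_sqInd [Fintype G] (hM : Cfsg.IsPModular 2 M)
    (χ : Cfsg.IrrCharacter G)
    (h : (Cfsg.charDegree (χ : G → ℂ)).factorization 2 < (Nat.card G).factorization 2) :
    Cfsg.MemLocalIdeal M (Blocks.omega (χ : G → ℂ) (sqInd G)) := by
  classical
  haveI := Fact.mk hM.1
  set B := Cfsg.blockOf M (χ : G → ℂ) with hB
  have hBb : Cfsg.IsPBlock M B := isPBlock_blockOf χ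
  have hχB : χ ∈ B := mem_blockOf_self hM χ
  obtain ⟨D, hD⟩ : ∃ D, Cfsg.IsDefectGroup 2 M B D := DefectThms.exists_defectGroup hM hBb
  have hcard := BlockChar.card_defectGroup hM hBb hD
  have hd : 0 < Cfsg.blockDefect 2 B := by
    have h1 := BlockChar.minVal_le (p := 2) hχB
    rw [BlockChar.blockDefect_eq]
    omega
  obtain ⟨e, hmax⟩ := BrauerPairs.exists_maximal_on hM hBb hD
  obtain ⟨θ, hθ, htriv, -⟩ := BrauerPairs.exists_character_of_maximal hM hmax
  have hDp : IsPGroup 2 D := hmax.1.1.1
  have hDnt : Nontrivial D := Finite.one_lt_card_iff_nontrivial.1 (by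
    rw [hcard]; exact Nat.one_lt_two_pow hd.ne')
  have : Nontrivial (Subgroup.center D) := hDp.center_nontrivial
  obtain ⟨z, hz⟩ : ∃ z : Subgroup.center D, orderOf z = 2 := by
    refine exists_prime_orderOf_dvd_card' 2 ?_
    obtain ⟨k, hk0, hk⟩ := (hDp.to_subgroup (Subgroup.center D)).nontrivial_iff_card.1 inferInstance
    rw [hk]
    exact dvd_pow_self 2 hk0.ne'
  set z₀ : G := ((z : D) : G) with hz₀
  have hz2 : orderOf z₀ = 2 := by rw [hz₀, Subgroup.orderOf_coe, Subgroup.orderOf_coe, hz]
  let C := Subgroup.centralizer (D : Set G)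
  have hzC : z₀ ∈ C := Subgroup.mem_centralizer_iff.2 fun d hd =>
    congrArg (Subtype.val) (Subgroup.mem_center_iff.1 z.2 ⟨d, hd⟩)
  let w : C := ⟨z₀, hzC⟩
  have hw2 : orderOf w = 2 := by rw [← Subgroup.orderOf_coe]; exact hz2
  have hwc : w ∈ Subgroup.center C := Subgroup.mem_center_iff.2 fun c =>
    Subtype.ext (Subgroup.mem_centralizer_iff.1 c.2 z₀ (z : D).2).symm
  haveI : (Subgroup.zpowers w).Normal :=
    ⟨fun n hn c => by
      rw [(Subgroup.mem_center_iff.1 ((Subgroup.zpowers_le).2 hwc hn) c), mul_inv_cancel_right]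
      exact hn⟩
  obtain ⟨φ, hφirr, hφe⟩ := Char.IsIrr.exists_quotient (Subgroup.zpowers w) θ.2 fun n hn => htriv n (by
    obtain ⟨k, rfl⟩ := Subgroup.mem_zpowers_iff.1 hn
    rw [Subgroup.coe_zpow]
    exact zpow_mem (z : D).2 k)
  letI := Fintype.ofFinite C
  letI := Fintype.ofFinite (C ⧸ Subgroup.zpowers w)
  let f : C → ℂ := fun a => sqInd G (a : G)
  have hfc : Cfsg.IsClassFunction C f := fun x k => isClassFunction_sqInd (x : G) (k : G)
  have hwsq : z₀ * z₀ = 1 := by
    have := pow_orderOf_eq_one z₀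
    rwa [hz2, pow_two] at this
  have hfw : ∀ a : C, f (a * w) = f a := fun a => by
    show sqInd G ((a : G) * z₀) = sqInd G (a : G)
    have hc : Commute (a : G) z₀ := (Subgroup.mem_centralizer_iff.1 a.2 z₀ (z : D).2).symm
    simp only [sqInd]
    rw [show (a : G) * z₀ * ((a : G) * z₀) = (a : G) * a * (z₀ * z₀) from
      hc.symm.mul_mul_mul_comm _ _, hwsq, mul_one]
  have hpush : ∀ q : C ⧸ Subgroup.zpowers w,
      Cfsg.MemLocalIdeal M (BlockThms.push (Subgroup.zpowers w) f q) := by
    intro q
    obtain ⟨a, rfl⟩ := QuotientGroup.mk_surjective q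
    have hne : a ≠ a * w := by
      intro he
      have h1 : w = 1 := mul_eq_left.1 he.symm
      rw [h1, orderOf_one] at hw2
      omega
    have hfib : Finset.univ.filter (fun g : C => (g : C ⧸ Subgroup.zpowers w) = a) =
        {a, a * w} := by
      ext g
      simp only [Finset.mem_filter, Finset.mem_univ, true_and, Finset.mem_insert,
        Finset.mem_singleton]
      rw [eq_comm, QuotientGroup.eq, ← mem_powers_iff_mem_zpowers,
        mem_powers_iff_mem_range_orderOf, hw2]
      simp only [Finset.mem_image, Finset.mem_range]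
      constructor
      · rintro ⟨i, hi, e⟩
        interval_cases i
        · exact Or.inl (inv_mul_eq_one.1 (by simpa using e.symm)).symm
        · exact Or.inr (eq_mul_of_inv_mul_eq (by simpa using e.symm))
      · rintro (rfl | rfl)
        · exact ⟨0, by omega, by simp⟩
        · exact ⟨1, by omega, by simp⟩
    simp only [BlockThms.push]
    rw [← Finset.sum_filter, hfib, Finset.sum_pair hne, hfw, ← two_mul]
    exact memLocalIdeal_mul_right hM (by
      have := (memLocalIdeal_natCast_iff hM 2).2 (dvd_refl _)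
      simpa using this) (memLocalRing_sqInd hM _)
  have hωθ : Cfsg.MemLocalIdeal M (Blocks.omega (θ : C → ℂ) f) := by
    rw [show (θ : C → ℂ) = fun g : C => φ g from funext hφe, BlockThms.omega_comp_mk]
    have : Finite (ConjClasses (C ⧸ Subgroup.zpowers w)) := Quotient.finite _
    letI := Fintype.ofFinite (ConjClasses (C ⧸ Subgroup.zpowers w))
    have hφ : Cfsg.IsClassFunction (C ⧸ Subgroup.zpowers w) φ := fun q k => by
      obtain ⟨x, rfl⟩ := QuotientGroup.mk_surjective q
      obtain ⟨c, rfl⟩ := QuotientGroup.mk_surjective k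
      rw [← QuotientGroup.mk_inv, ← QuotientGroup.mk_mul, ← QuotientGroup.mk_mul, ← hφe, ← hφe]
      exact Char.isClassFunction_of_isIrr θ.2 x c
    rw [omega_eq_sum_classes hφ (BlockThms.isClassFunction_push _ hfc)]
    refine memLocalIdeal_sum hM _ fun Q _ => memLocalIdeal_mul_right hM (hpush _) ?_
    exact memLocalRing_centralChar hM hφirr _
  have hl := BrauerPairs.omega_link hM hmax.1 hθ hχB (isClassFunction_sqInd (G := G))
    (memLocalRing_sqInd hM)
  rw [BrauerPairs.brauerOmega_eq] at hl
  have := memLocalIdeal_sub hM hωθ hl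
  simpa [f, C] using this

/-- An element normalising no nontrivial 2-subgroup of order three gives no relation with a
nontrivial square root of the identity. -/
theorem eq_one_of_cube (x u : G) [Finite G] (hx : x ^ 3 = 1)
    (hQ : ∀ Q : Subgroup G, IsPGroup 2 ↥Q → x ∈ Subgroup.normalizer (Q : Set G) → Q = ⊥)
    (hu : u * u = 1) (hc : (u * x) ^ 3 = 1) : u = 1 := by
  have hinv : ∀ g : G, g * g = 1 → IsPGroup 2 (Subgroup.zpowers g) := fun g hg => by
    obtain rfl | hne := eq_or_ne g 1
    · exact IsPGroup.of_card (n := 0) (by rw [Nat.card_zpowers, orderOf_one, pow_zero])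
    · refine IsPGroup.of_card (n := 1) ?_
      rw [Nat.card_zpowers, pow_one]
      exact orderOf_eq_prime (by rw [pow_two]; exact hg) hne
  have hxinv : x⁻¹ = x * x := inv_eq_of_mul_eq_one_right (by rw [← mul_assoc, ← pow_three']; exact hx)
  set b := x * u * x⁻¹ with hb
  set c := x * b * x⁻¹ with hcd
  have hbb : b * b = 1 := by
    rw [hb, show x * u * x⁻¹ * (x * u * x⁻¹) = x * (u * u) * x⁻¹ by group, hu]; group
  have hcc : c * c = 1 := by
    rw [hcd, show x * b * x⁻¹ * (x * b * x⁻¹) = x * (b * b) * x⁻¹ by group, hbb]; group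
  have hubc : u * b * c = 1 := by
    rw [← hc, hcd, hb, show u * (x * u * x⁻¹) * (x * (x * u * x⁻¹) * x⁻¹) =
      u * x * u * x * u * (x * x)⁻¹ by group, ← hxinv, inv_inv, pow_three]
    group
  have hceq : c = b * u := by
    have := eq_inv_of_mul_eq_one_right hubc
    rw [this, mul_inv_rev, inv_eq_of_mul_eq_one_right hu, inv_eq_of_mul_eq_one_right hbb]
  have hcomm : u * b = b * u := by
    have h1 : (b * u)⁻¹ = b * u := inv_eq_of_mul_eq_one_right (hceq ▸ hcc)
    rw [← h1, mul_inv_rev, inv_eq_of_mul_eq_one_right hu, inv_eq_of_mul_eq_one_right hbb]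
  set Q := Subgroup.zpowers u ⊔ Subgroup.zpowers b with hQdef
  have hQp : IsPGroup 2 Q := by
    refine (hinv u hu).to_sup_of_normal_right' (hinv b hbb) ?_
    refine (Subgroup.zpowers_le).2 (Subgroup.mem_normalizer_fintype fun n hn => ?_)
    obtain ⟨k, rfl⟩ := Subgroup.mem_zpowers_iff.1 hn
    have : Commute u (b ^ k) := Commute.zpow_right hcomm k
    rw [this.eq, mul_inv_cancel_right]
    exact zpow_mem (Subgroup.mem_zpowers b) k
  have hmap : Q.map (MulAut.conj x).toMonoidHom ≤ Q := by
    rw [hQdef, Subgroup.map_sup, MonoidHom.map_zpowers, MonoidHom.map_zpowers]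
    refine sup_le ((Subgroup.zpowers_le).2 ?_) ((Subgroup.zpowers_le).2 ?_)
    · show x * u * x⁻¹ ∈ _
      exact Subgroup.mem_sup_right (Subgroup.mem_zpowers b)
    · show x * b * x⁻¹ ∈ _
      rw [← hcd, hceq]
      exact mul_mem (Subgroup.mem_sup_right (Subgroup.mem_zpowers b))
        (Subgroup.mem_sup_left (Subgroup.mem_zpowers u))
  have hbot := hQ Q hQp (Subgroup.mem_normalizer_fintype fun n hn =>
    hmap (Subgroup.mem_map_of_mem _ hn))
  have : u ∈ Q := Subgroup.mem_sup_left (Subgroup.mem_zpowers u)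
  rwa [hbot, Subgroup.mem_bot] at this

theorem not_two_dvd_card_centralizer (x : G) [Finite G]
    (hQ : ∀ Q : Subgroup G, IsPGroup 2 ↥Q → x ∈ Subgroup.normalizer (Q : Set G) → Q = ⊥) :
    ¬ 2 ∣ Nat.card (Subgroup.centralizer ({x} : Set G)) := by
  intro h
  obtain ⟨g, hg⟩ := exists_prime_orderOf_dvd_card' 2 h
  have hg' : orderOf (g : G) = 2 := by rw [Subgroup.orderOf_coe]; exact hg
  have hp : IsPGroup 2 (Subgroup.zpowers (g : G)) :=
    IsPGroup.of_card (n := 1) (by rw [Nat.card_zpowers, hg', pow_one])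
  have := hQ _ hp (Subgroup.mem_normalizer_fintype fun n hn => by
    obtain ⟨k, rfl⟩ := Subgroup.mem_zpowers_iff.1 hn
    have hc : Commute x (g : G) := (Subgroup.mem_centralizer_singleton_iff.1 g.2).symm
    rw [(hc.zpow_right k).eq, mul_inv_cancel_right]
    exact zpow_mem (Subgroup.mem_zpowers _) k)
  rw [Subgroup.zpowers_eq_bot] at this
  rw [this, orderOf_one] at hg'
  omega

/-- Let G be a finite group of order divisible by 6. Then the number of irreducible characters of G whose degree has the same 2-part as the order of G (the characters of 2-defect zero, each forming a 2-block of defect zero on its own) is at least the number of conjugacy classes of elements of order 3 that normalize no nontrivial 2-subgroup of G. In particular G has a 2-block of defect zero as soon as some element of order 3 normalizes no nontrivial 2-subgroup. -/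
theorem result {G : Type*} [Group G] [Finite G] (h6 : 6 ∣ Nat.card G) : Nat.card {C : ConjClasses G // ∃ g ∈ C.carrier, orderOf g = 3 ∧ ∀ Q : Subgroup G, IsPGroup 2 ↥Q → g ∈ Subgroup.normalizer (Q : Set G) → Q = ⊥} ≤ Nat.card {χ : Cfsg.IrrCharacter G // (Cfsg.charDegree (χ : G → ℂ)).factorization 2 = (Nat.card G).factorization 2} := by
  classical
  have := h6
  have := Fintype.ofFinite G
  obtain ⟨M, hM⟩ := Blocks.exists_isPModular 2 Nat.prime_two
  haveI := hM.2.1
  letI : Field (Cfsg.AlgInt ⧸ M) := Ideal.Quotient.field M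
  set I := {C : ConjClasses G // ∃ g ∈ C.carrier, orderOf g = 3 ∧
    ∀ Q : Subgroup G, IsPGroup 2 ↥Q → g ∈ Subgroup.normalizer (Q : Set G) → Q = ⊥}
  set J := {χ : Cfsg.IrrCharacter G //
    (Cfsg.charDegree (χ : G → ℂ)).factorization 2 = (Nat.card G).factorization 2}
  have : Finite (ConjClasses G) := Quotient.finite _
  letI : Fintype I := Fintype.ofFinite _
  letI : Fintype J := Fintype.ofFinite _
  have hI : ∀ i : I, ∃ g : G, ConjClasses.mk g = i.1 ∧ orderOf g = 3 ∧
      ∀ Q : Subgroup G, IsPGroup 2 ↥Q → g ∈ Subgroup.normalizer (Q : Set G) → Q = ⊥ := fun i => by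
    obtain ⟨g, hg, h⟩ := i.2
    exact ⟨g, ConjClasses.mem_carrier_iff_mk_eq.1 hg, h⟩
  choose x hx using hI
  -- the matrix of the products
  have hA : ∀ i j, conv (sqInd G) (classInd (x j)) (x i) = if i = j then 1 else 0 := by
    intro i j
    rw [conv, Finset.sum_eq_single (1 : G)]
    · rw [show sqInd G (1 : G) = 1 by simp [sqInd], one_mul, inv_one, one_mul, classInd_apply]
      refine if_congr ⟨fun h => Subtype.ext ?_, fun h => h ▸ IsConj.refl _⟩ rfl rfl
      rw [← (hx i).1, ← (hx j).1]
      exact ConjClasses.mk_eq_mk_iff_isConj.2 h.symm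
    · intro u _ hu
      simp only [sqInd]
      split_ifs with hu2
      · rw [classInd_apply, if_neg, mul_zero]
        intro hc
        have ho : orderOf (u⁻¹ * x i) = 3 := by
          obtain ⟨k, hk⟩ := isConj_iff.1 hc
          rw [← hk, ← (hx j).2.1]
          exact orderOf_injective (MulAut.conj k).toMonoidHom (MulAut.conj k).injective (x j)
        rw [inv_eq_of_mul_eq_one_right hu2] at ho
        refine hu (eq_one_of_cube (x i) u ?_ (hx i).2.2 hu2 ?_)
        · rw [← (hx i).2.1, pow_orderOf_eq_one]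
        · rw [← ho, pow_orderOf_eq_one]
      · rw [zero_mul]
    · simp
  let C : I → ℕ := fun j => Nat.card (Subgroup.centralizer ({x j} : Set G))
  let a : I → Cfsg.IrrCharacter G → ℂ := fun i χ =>
    Blocks.omega (χ : G → ℂ) (sqInd G) * conj ((χ : G → ℂ) (x i))
  let b : Cfsg.IrrCharacter G → I → ℂ := fun χ j => (χ : G → ℂ) (x j) * (C j : ℂ)⁻¹
  have haR : ∀ i χ, Cfsg.MemLocalRing M (a i χ) := fun i χ => by
    refine (localRing hM).mul_mem
      (memLocalRing_omega hM χ.2 isClassFunction_sqInd (memLocalRing_sqInd hM)) ?_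
    show Cfsg.MemLocalRing M _
    rw [conj_apply_eq_apply_inv χ]
    exact memLocalRing_char hM (Char.IsIrr.isCharacter χ.2) _
  have hbR : ∀ χ j, Cfsg.MemLocalRing M (b χ j) := fun χ j =>
    (localRing hM).mul_mem (memLocalRing_char hM (Char.IsIrr.isCharacter χ.2) _)
      (memLocalRing_natCast_inv hM (not_two_dvd_card_centralizer _ (hx j).2.2))
  have hsum : ∀ i j, (if i = j then (1 : ℂ) else 0) = ∑ χ, a i χ * b χ j := by
    intro i j
    rw [← hA, apply_eq_sum_omega (isClassFunction_conv isClassFunction_sqInd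
      (isClassFunction_classInd _)), Finset.mul_sum]
    refine Finset.sum_congr rfl fun χ _ => ?_
    rw [omega_conv χ.2 isClassFunction_sqInd (isClassFunction_classInd _),
      omega_classInd (Char.isClassFunction_of_isIrr χ.2), Cfsg.centralChar]
    have h1 : (χ : G → ℂ) 1 ≠ 0 := Char.IsIrr.one_ne_zero χ.2
    have h2 : (Nat.card G : ℂ) = (C j : ℂ) *
        ((Subgroup.centralizer ({x j} : Set G)).index : ℂ) := by
      exact_mod_cast (Subgroup.card_mul_index _).symm
    have h3 : (C j : ℂ) ≠ 0 := Nat.cast_ne_zero.2 Nat.card_pos.ne'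
    have h4 := index_centralizer_ne_zero (x j)
    simp only [a, b]
    rw [h2]
    field_simp
  have hzero : ∀ i (χ : Cfsg.IrrCharacter G), (Cfsg.charDegree (χ : G → ℂ)).factorization 2 ≠
      (Nat.card G).factorization 2 → Cfsg.MemLocalIdeal M (a i χ) := by
    intro i χ hne
    refine memLocalIdeal_mul_right hM (memLocalIdeal_omega_sqInd hM χ
      (lt_of_le_of_ne (BlockChar.degree_val_le χ) hne)) ?_
    rw [conj_apply_eq_apply_inv χ]
    exact memLocalRing_char hM (Char.IsIrr.isCharacter χ.2) _
  let U : Matrix I J (Cfsg.AlgInt ⧸ M) := fun i χ => resFun hM (a i χ.1)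
  let V : Matrix J I (Cfsg.AlgInt ⧸ M) := fun χ j => resFun hM (b χ.1 j)
  have hUV : U * V = 1 := by
    ext i j
    rw [Matrix.mul_apply, Matrix.one_apply]
    have h1 : resFun hM (if i = j then (1 : ℂ) else 0) = if i = j then 1 else 0 := by
      split_ifs
      · simpa using resFun_coe hM (1 : Cfsg.AlgInt)
      · simpa using resFun_coe hM (0 : Cfsg.AlgInt)
    rw [← h1, hsum, resFun_sum hM _ _ fun χ _ => (localRing hM).mul_mem (haR i χ) (hbR χ j),
      ← Finset.sum_filter_add_sum_filter_not Finset.univ (fun χ : Cfsg.IrrCharacter G =>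
        (Cfsg.charDegree (χ : G → ℂ)).factorization 2 = (Nat.card G).factorization 2)]
    rw [Finset.sum_eq_zero (s := Finset.univ.filter fun χ : Cfsg.IrrCharacter G =>
      ¬ (Cfsg.charDegree (χ : G → ℂ)).factorization 2 = (Nat.card G).factorization 2) (fun χ hχ =>
        (resFun_eq_zero_iff hM ((localRing hM).mul_mem (haR i χ) (hbR χ j))).2
          (memLocalIdeal_mul_right hM (hzero i χ (Finset.mem_filter.1 hχ).2) (hbR χ j))), add_zero,
      Finset.sum_subtype (p := fun χ : Cfsg.IrrCharacter G =>
        (Cfsg.charDegree (χ : G → ℂ)).factorization 2 = (Nat.card G).factorization 2) _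
        (fun χ => by simp)]
    exact Finset.sum_congr rfl fun χ _ => (resFun_mul hM (haR i χ.1) (hbR χ.1 j)).symm
  rw [Nat.card_eq_fintype_card, Nat.card_eq_fintype_card]
  calc Fintype.card I = (U * V).rank := by rw [hUV, Matrix.rank_one]
    _ ≤ U.rank := Matrix.rank_mul_le_left U V
    _ ≤ Fintype.card J := U.rank_le_card_width

end Cfsg.Agent.S4737
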