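import Cfsg.Statements.S4738
import Mathlib
import Cfsg.Agent.Blocks.ClassMatrix
import Cfsg.Agent.Blocks.Idempotent
import Cfsg.Agent.BlockChar.Defect
-- import your own Cfsg.Agent.* helpers here

set_option autoImplicit false
open Cfsg

namespace Cfsg.Agent.S4738

open scoped ComplexConjugate
open Cfsg.Agent Cfsg.Agent.Blocks

universe u

variable {G : Type u} [Group G] [Finite G] {p : ℕ} [Fact p.Prime]

theorem isConj_of_odd {s t : G} (hs : s * s = 1) (ht : t * t = 1)
    (h : ¬ 2 ∣ orderOf (s * t)) : IsConj s t := by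
  obtain ⟨j, hj⟩ := Nat.odd_iff.2 (Nat.two_dvd_ne_zero.1 h)
  set d := s * t with hd
  have hdd : d ^ (2 * j + 1) = 1 := hj ▸ pow_orderOf_eq_one d
  have hconj : SemiconjBy s d d⁻¹ := by
    show s * (s * t) = (s * t)⁻¹ * s
    rw [mul_inv_rev, inv_eq_of_mul_eq_one_right hs, inv_eq_of_mul_eq_one_right ht, ← mul_assoc, hs,
      one_mul, mul_assoc, hs, mul_one]
  refine isConj_iff.2 ⟨d ^ j, ?_⟩
  have h1 : s * d ^ j = (d ^ j)⁻¹ * s := by rw [← inv_pow]; exact (hconj.pow_right j).eq
  have h2 : t = s * d := by rw [hd, ← mul_assoc, hs, one_mul]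
  have h3 : s * (d ^ j)⁻¹ = d ^ j * s := by
    rw [mul_inv_eq_iff_eq_mul, mul_assoc, h1, mul_inv_cancel_left]
  calc d ^ j * s * (d ^ j)⁻¹ = s * ((d ^ j)⁻¹ * (d ^ j)⁻¹) := by
        rw [← h3, mul_assoc]
    _ = s * d := by
        congr 1
        rw [← mul_inv_rev, ← pow_add, ← two_mul, inv_eq_iff_mul_eq_one, ← pow_succ, hdd]
    _ = t := h2.symm

theorem not_two_dvd_orderOf_of_mem {H : Subgroup G} (hH : ¬ 2 ∣ Nat.card H) {d : G} (hd : d ∈ H) :
    ¬ 2 ∣ orderOf d := fun h =>
  hH (h.trans (Subgroup.orderOf_coe (⟨d, hd⟩ : H) ▸ orderOf_dvd_natCard _))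

theorem not_dvd_card_centralizer (hp2 : p ≠ 2) (h2p : ∀ g : G, orderOf g ≠ 2 * p) {s : G}
    (hs : orderOf s = 2) : ¬ p ∣ Nat.card (Subgroup.centralizer ({s} : Set G)) := by
  intro h
  obtain ⟨x, hx⟩ := exists_prime_orderOf_dvd_card' p h
  have hx' : orderOf (x : G) = p := by rw [Subgroup.orderOf_coe]; exact hx
  have hc : Commute (x : G) s := Subgroup.mem_centralizer_singleton_iff.1 x.2
  refine h2p ((x : G) * s) ?_
  rw [hc.orderOf_mul_eq_mul_orderOf_of_coprime (by
    rw [hx', hs]; exact (Nat.coprime_primes (Fact.out) Nat.prime_two).2 hp2), hx', hs, mul_comm]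

theorem not_two_dvd_card_centralizer (hp2 : p ≠ 2) (h2p : ∀ g : G, orderOf g ≠ 2 * p) {u : G}
    (hu : u ≠ 1) (hup : ∃ k : ℕ, orderOf u = p ^ k) :
    ¬ 2 ∣ Nat.card (Subgroup.centralizer ({u} : Set G)) := by
  intro h
  obtain ⟨g, hg⟩ := exists_prime_orderOf_dvd_card' 2 h
  have hg' : orderOf (g : G) = 2 := by rw [Subgroup.orderOf_coe]; exact hg
  obtain ⟨k, hk⟩ := hup
  have hk0 : k ≠ 0 := fun e => hu (orderOf_eq_one_iff.1 (by rw [hk, e, pow_zero]))
  have hv : orderOf (u ^ (orderOf u / p)) = p :=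
    orderOf_pow_orderOf_div (orderOf_pos u).ne' (hk ▸ dvd_pow_self p hk0)
  have hc : Commute (u ^ (orderOf u / p)) (g : G) :=
    (show Commute u (g : G) from (Subgroup.mem_centralizer_singleton_iff.1 g.2).symm).pow_left _
  refine h2p (u ^ (orderOf u / p) * g) ?_
  rw [hc.orderOf_mul_eq_mul_orderOf_of_coprime (by
    rw [hv, hg']; exact (Nat.coprime_primes (Fact.out) Nat.prime_two).2 hp2), hv, hg', mul_comm]

theorem inv_ne_self (hp2 : p ≠ 2) {u : G} (hu : u ≠ 1) (hup : ∃ k : ℕ, orderOf u = p ^ k) :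
    u⁻¹ ≠ u := by
  intro h
  obtain ⟨k, hk⟩ := hup
  have h2 : orderOf u ∣ 2 :=
    orderOf_dvd_of_pow_eq_one (by rw [pow_two]; nth_rw 1 [← h]; rw [inv_mul_cancel])
  have h2' : orderOf u = 2 := ((Nat.dvd_prime Nat.prime_two).1 h2).resolve_left
    fun e => hu (orderOf_eq_one_iff.1 e)
  refine hp2 ?_
  rw [h2'] at hk
  exact (Nat.prime_dvd_prime_iff_eq Nat.prime_two (Fact.out)).1
    ((Nat.prime_two).dvd_of_dvd_pow (dvd_of_eq hk)) |>.symm

/-- An involution inverting a nontrivial element of p-power order inverts, after conjugation, a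
Sylow p-subgroup. -/
theorem exists_sylow_inverted (hp2 : p ≠ 2) (h2p : ∀ g : G, orderOf g ≠ 2 * p) {s u : G}
    (hs : orderOf s = 2) (hu : u ≠ 1) (hup : ∃ k : ℕ, orderOf u = p ^ k)
    (hsu : s * u * s⁻¹ = u⁻¹) :
    ∃ (P : Sylow p G) (t : G), IsConj s t ∧ u ∈ P ∧ IsMulCommutative ↥(P : Subgroup G) ∧
      orderOf t = 2 ∧ ∀ x ∈ P, t * x * t⁻¹ = x⁻¹ := by
  classical
  have hp := (Fact.out : p.Prime)
  set C := Subgroup.centralizer ({u} : Set G) with hC
  have hCodd : ¬ 2 ∣ Nat.card C := not_two_dvd_card_centralizer hp2 h2p hu hup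
  have hmemC : ∀ x, x ∈ C ↔ x * u = u * x := fun x => Subgroup.mem_centralizer_singleton_iff
  have hsC : ∀ x ∈ C, s * x * s⁻¹ ∈ C := by
    intro x hx
    have h1 : Commute (MulAut.conj s x) (MulAut.conj s u) :=
      (show Commute x u from (hmemC x).1 hx).map (MulAut.conj s).toMonoidHom
    simp only [MulAut.conj_apply, hsu] at h1
    exact (hmemC _).2 (Commute.inv_right_iff.1 h1).eq
  obtain ⟨R₀⟩ : Nonempty (Sylow p C) := inferInstance
  set R := (R₀ : Subgroup C).map C.subtype with hR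
  have hRC : R ≤ C := Subgroup.map_subtype_le _
  have hcard : Nat.card R = p ^ (Nat.card C).factorization p := by
    rw [hR, Subgroup.card_map_of_injective C.subtype_injective]
    exact R₀.card_eq_multiplicity
  have hRp : IsPGroup p R := IsPGroup.of_card hcard
  have hmax : ∀ Q : Subgroup G, IsPGroup p Q → Q ≤ C → R ≤ Q → Q = R := by
    intro Q hQ hQC hRQ
    refine (Subgroup.eq_of_le_of_card_ge hRQ ?_).symm
    rw [hcard]
    obtain ⟨k, hk⟩ := IsPGroup.iff_card.1 hQ
    rw [hk]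
    exact Nat.pow_le_pow_right hp.pos ((hp.pow_dvd_iff_le_factorization Nat.card_pos.ne').1
      (hk ▸ Subgroup.card_dvd_of_le hQC))
  -- an element of `C s` normalising `R`
  obtain ⟨c, hc⟩ : ∃ c : C, R.map (MulAut.conj s).toMonoidHom =
      R.map (MulAut.conj (c : G)).toMonoidHom := by
    have hle : R.map (MulAut.conj s).toMonoidHom ≤ C := by
      rintro _ ⟨x, hx, rfl⟩
      exact hsC x (hRC hx)
    let R₁ : Sylow p C := Sylow.ofCard ((R.map (MulAut.conj s).toMonoidHom).subgroupOf C) (by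
      rw [Nat.card_congr (Subgroup.subgroupOfEquivOfLe hle).toEquiv,
        Subgroup.card_map_of_injective (MulAut.conj s).injective, hcard])
    obtain ⟨c, hc⟩ := MulAction.exists_smul_eq C R₀ R₁
    refine ⟨c, ?_⟩
    have h1 : (R₁ : Subgroup C).map C.subtype = R.map (MulAut.conj s).toMonoidHom := by
      show ((R.map (MulAut.conj s).toMonoidHom).subgroupOf C).map C.subtype = _
      rw [Subgroup.subgroupOf_map_subtype, inf_eq_left.2 hle]
    rw [← h1, ← hc, hR, Sylow.coe_subgroup_smul, Subgroup.map_map]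
    show ((R₀ : Subgroup C).map (MulAut.conj c).toMonoidHom).map C.subtype = _
    rw [Subgroup.map_map]
    rfl
  set g := (c : G)⁻¹ * s with hg
  have hgR : g ∈ Subgroup.normalizer (R : Set G) := by
    refine Subgroup.mem_normalizer_fintype fun x hx => ?_
    have h1 : s * x * s⁻¹ ∈ R.map (MulAut.conj (c : G)).toMonoidHom :=
      hc ▸ Subgroup.mem_map_of_mem _ hx
    obtain ⟨y, hy, hyx⟩ := h1
    have e : g * x * g⁻¹ = (c : G)⁻¹ * (s * x * s⁻¹) * c := by rw [hg]; group
    rw [e, ← hyx]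
    simpa [mul_assoc] using hy
  have hgu : SemiconjBy g u u⁻¹ := by
    have h1 : (c : G) * u = u * c := (hmemC c).1 c.2
    have h2 : Commute (c : G)⁻¹ u⁻¹ := Commute.inv_inv h1
    exact SemiconjBy.mul_left h2 (show s * u = u⁻¹ * s from mul_inv_eq_iff_eq_mul.1 hsu)
  have hgu2 : Commute (g * g) u := SemiconjBy.mul_left (by simpa using hgu.inv_right) hgu
  obtain ⟨k, m, hmodd, hkm⟩ := Nat.exists_eq_two_pow_mul_odd (orderOf_pos g).ne'
  set t := g ^ m with ht
  have htR : t ∈ Subgroup.normalizer (R : Set G) := pow_mem hgR m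
  have htu : SemiconjBy t u u⁻¹ := by
    obtain ⟨j, rfl⟩ := hmodd
    rw [ht, pow_succ', pow_mul, pow_two]
    exact SemiconjBy.mul_left hgu ((hgu2.pow_left j))
  have htt : t * t = 1 := by
    have hmem : t * t ∈ C :=
      (hmemC _).2 (SemiconjBy.mul_left (by simpa using htu.inv_right) htu)
    have h1 : (t * t) ^ 2 ^ k = 1 := by
      rw [← pow_two, ← pow_mul, ht, ← pow_mul, mul_comm 2, ← mul_assoc, mul_comm m, pow_mul, ← hkm,
        pow_orderOf_eq_one, one_pow]
    obtain ⟨l, hl, hlo⟩ := (Nat.dvd_prime_pow Nat.prime_two).1 (orderOf_dvd_of_pow_eq_one h1)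
    rcases Nat.eq_zero_or_pos l with rfl | hl0
    · exact orderOf_eq_one_iff.1 (by rw [hlo, pow_zero])
    · exact absurd (hlo ▸ dvd_pow_self 2 hl0.ne') (not_two_dvd_orderOf_of_mem hCodd hmem)
  have ht2 : orderOf t = 2 := by
    refine orderOf_eq_prime (by rw [pow_two]; exact htt) fun e => inv_ne_self hp2 hu hup ?_
    have := htu.eq
    rw [e, one_mul, mul_one] at this
    exact this.symm
  have hss : s * s = 1 := by
    have := pow_orderOf_eq_one s
    rwa [hs, pow_two] at this
  have hst : IsConj s t := isConj_of_odd hss htt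
    (not_two_dvd_orderOf_of_mem hCodd ((hmemC _).2
      (SemiconjBy.mul_left (by
        simpa using (show SemiconjBy s u u⁻¹ from mul_inv_eq_iff_eq_mul.1 hsu).inv_right) htu)))
  have hCt := not_dvd_card_centralizer hp2 h2p ht2
  -- `t` inverts `R`
  let σ : MulAut R := R.normalizerMonoidHom ⟨t, htR⟩
  have hσ : ∀ x : R, ((σ x : R) : G) = t * x * t⁻¹ := fun x => rfl
  have hfpf : MonoidHom.FixedPointFree σ := by
    intro x hx
    have h1 : t * (x : G) * t⁻¹ = x := by rw [← hσ, hx]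
    have h2 : (x : G) ∈ Subgroup.centralizer ({t} : Set G) :=
      Subgroup.mem_centralizer_singleton_iff.2 (mul_inv_eq_iff_eq_mul.1 h1).symm
    obtain ⟨l, hl⟩ := IsPGroup.iff_orderOf.1 hRp x
    rcases Nat.eq_zero_or_pos l with rfl | hl0
    · exact orderOf_eq_one_iff.1 (by rw [hl, pow_zero])
    · refine absurd (((dvd_pow_self p hl0.ne').trans (dvd_of_eq hl.symm)).trans ?_) hCt
      have h3 := orderOf_dvd_natCard (⟨(x : G), h2⟩ : Subgroup.centralizer ({t} : Set G))
      rw [← Subgroup.orderOf_coe] at h3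
      rw [← Subgroup.orderOf_coe x]
      exact h3
  have hinvol : Function.Involutive σ := fun x => Subtype.ext (by
    rw [hσ, hσ]
    rw [show t * (t * (x : G) * t⁻¹) * t⁻¹ = (t * t) * x * (t * t)⁻¹ by group, htt]
    group)
  have hinv : ∀ x ∈ R, t * x * t⁻¹ = x⁻¹ := fun x hx => by
    have := congrFun (hfpf.coe_eq_inv_of_involutive hinvol) ⟨x, hx⟩
    have h1 := congrArg (Subtype.val) this
    rw [hσ] at h1
    exact h1
  have hcomm : IsMulCommutative R := ⟨⟨fun a b => (hfpf.commute_all_of_involutive hinvol a b).eq⟩⟩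
  have huR : u ∈ R := by
    obtain ⟨l, hl⟩ := hup
    have hZp : IsPGroup p (Subgroup.zpowers u) :=
      IsPGroup.of_card (n := l) (by rw [Nat.card_zpowers, hl])
    have hRN : R ≤ Subgroup.normalizer (Subgroup.zpowers u : Set G) := fun x hx => by
      refine Subgroup.mem_normalizer_fintype fun n hn => ?_
      obtain ⟨i, rfl⟩ := Subgroup.mem_zpowers_iff.1 hn
      rw [((show Commute x u from (hmemC x).1 (hRC hx)).zpow_right i).eq, mul_inv_cancel_right]
      exact zpow_mem (Subgroup.mem_zpowers u) i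
    have := hmax _ (hRp.to_sup_of_normal_right' hZp hRN)
      (sup_le hRC ((Subgroup.zpowers_le).2 ((hmemC u).2 rfl))) le_sup_left
    exact this ▸ Subgroup.mem_sup_right (Subgroup.mem_zpowers u)
  -- `R` is a Sylow subgroup of `G`
  have hfull : (Nat.card C).factorization p = (Nat.card G).factorization p := by
    refine le_antisymm ((Nat.factorization_le_iff_dvd Nat.card_pos.ne' Nat.card_pos.ne').2
      (Subgroup.card_subgroup_dvd_card C) p) (le_of_not_gt fun hlt => ?_)
    have h1 := Sylow.prime_pow_dvd_card_normalizer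
      ((hp.pow_dvd_iff_le_factorization Nat.card_pos.ne').2 (Nat.succ_le_of_lt hlt)) hcard
    obtain ⟨Q⟩ : Nonempty (Sylow p (Subgroup.normalizer (R : Set G))) := inferInstance
    set Q' := (Q : Subgroup (Subgroup.normalizer (R : Set G))).map
      (Subgroup.normalizer (R : Set G)).subtype
    obtain ⟨v, hvQ, hvR⟩ : ∃ v ∈ Q', v ∉ R := by
      by_contra! hle
      have h2 := Nat.le_of_dvd Nat.card_pos (Subgroup.card_dvd_of_le (show Q' ≤ R from hle))
      rw [hcard, Subgroup.card_map_of_injective (Subgroup.subtype_injective _),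
        Q.card_eq_multiplicity] at h2
      have h3 := (hp.pow_dvd_iff_le_factorization Nat.card_pos.ne').1 h1
      have h4 := (Nat.pow_le_pow_iff_right hp.one_lt).1 h2
      omega
    have hvN : v ∈ Subgroup.normalizer (R : Set G) := Subgroup.map_subtype_le _ hvQ
    obtain ⟨a, ha⟩ := IsPGroup.iff_orderOf.1 (Q.isPGroup'.map
      (Subgroup.normalizer (R : Set G)).subtype) ⟨v, hvQ⟩
    rw [← Subgroup.orderOf_coe] at ha
    have hvinv : ∀ x ∈ R, (v * t * v⁻¹) * x * (v * t * v⁻¹)⁻¹ = x⁻¹ := by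
      intro x hx
      have hx' : v⁻¹ * x * v ∈ R := by
        simpa using (Subgroup.mem_normalizer_iff.1 (inv_mem hvN) x).1 hx
      have := hinv _ hx'
      calc (v * t * v⁻¹) * x * (v * t * v⁻¹)⁻¹ = v * (t * (v⁻¹ * x * v) * t⁻¹) * v⁻¹ := by group
        _ = v * (v⁻¹ * x * v)⁻¹ * v⁻¹ := by rw [this]
        _ = x⁻¹ := by group
    set d := t * (v * t * v⁻¹) with hd
    have hdR : d ∈ Subgroup.centralizer (R : Set G) := by
      refine Subgroup.mem_centralizer_iff.2 fun x hx => ?_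
      refine (mul_inv_eq_iff_eq_mul.1 ?_).symm
      calc d * x * d⁻¹ = t * ((v * t * v⁻¹) * x * (v * t * v⁻¹)⁻¹) * t⁻¹ := by rw [hd]; group
        _ = x := by rw [hvinv x hx, hinv _ (inv_mem hx), inv_inv]
    have hdC : d ∈ C := (hmemC _).2 ((Subgroup.mem_centralizer_iff.1 hdR u huR).symm)
    obtain ⟨j, hj⟩ := Nat.odd_iff.2 (Nat.two_dvd_ne_zero.1
      (not_two_dvd_orderOf_of_mem hCodd hdC))
    set w := (d ^ j)⁻¹ * v with hw
    have hwt : Commute w t := by
      have hdd : d ^ (2 * j + 1) = 1 := hj ▸ pow_orderOf_eq_one d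
      have h1 : v * t * v⁻¹ = t * d := by rw [hd, ← mul_assoc, htt, one_mul]
      have hb : t * d * (t * d) = 1 := by
        rw [← h1, show v * t * v⁻¹ * (v * t * v⁻¹) = v * (t * t) * v⁻¹ by group, htt]; group
      have hconj : SemiconjBy t d d⁻¹ := by
        refine eq_inv_mul_of_mul_eq ?_
        calc d * (t * d) = t⁻¹ * (t * d * (t * d)) := by group
          _ = t := by rw [hb, mul_one, inv_eq_of_mul_eq_one_right htt]
      have h2 : t * d ^ j = (d ^ j)⁻¹ * t := by rw [← inv_pow]; exact (hconj.pow_right j).eq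
      refine mul_inv_eq_iff_eq_mul.1 ?_
      calc w * t * w⁻¹ = (d ^ j)⁻¹ * (v * t * v⁻¹) * d ^ j := by rw [hw]; group
        _ = (d ^ j)⁻¹ * t * (d * d ^ j) := by rw [h1]; group
        _ = t * d ^ (2 * j + 1) := by
            rw [← h2, mul_assoc, ← pow_succ', ← pow_add]; congr 2; omega
        _ = t := by rw [hdd, mul_one]
    have hdjN : d ^ j ∈ Subgroup.normalizer (R : Set G) :=
      Subgroup.centralizer_le_normalizer _ (pow_mem hdR j)
    have hwN : w ∈ Subgroup.normalizer (R : Set G) := mul_mem (inv_mem hdjN) hvN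
    set φ := R.normalizerMonoidHom
    have hker : φ ⟨d ^ j, hdjN⟩ = 1 := by
      rw [← MonoidHom.mem_ker, Subgroup.normalizerMonoidHom_ker, Subgroup.mem_subgroupOf]
      exact pow_mem hdR j
    have hvw : φ ⟨v, hvN⟩ = φ ⟨w, hwN⟩ := by
      rw [show (⟨w, hwN⟩ : Subgroup.normalizer (R : Set G)) = ⟨d ^ j, hdjN⟩⁻¹ * ⟨v, hvN⟩ from rfl,
        map_mul, map_inv, hker, inv_one, one_mul]
    have hv1 : orderOf (φ ⟨v, hvN⟩) ∣ p ^ a := by
      refine (orderOf_map_dvd φ _).trans (dvd_of_eq ?_)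
      rw [← Subgroup.orderOf_coe]; exact ha
    have hw1 : orderOf (φ ⟨v, hvN⟩) ∣ Nat.card (Subgroup.centralizer ({t} : Set G)) := by
      rw [hvw]
      refine (orderOf_map_dvd φ _).trans ?_
      have h3 := orderOf_dvd_natCard (⟨w,
        Subgroup.mem_centralizer_singleton_iff.2 hwt.eq⟩ : Subgroup.centralizer ({t} : Set G))
      rw [← Subgroup.orderOf_coe] at h3
      rw [← Subgroup.orderOf_coe]
      exact h3
    have hcop : Nat.Coprime (p ^ a) (Nat.card (Subgroup.centralizer ({t} : Set G))) :=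
      Nat.Coprime.pow_left _ (hp.coprime_iff_not_dvd.2 hCt)
    have hφv : φ ⟨v, hvN⟩ = 1 :=
      orderOf_eq_one_iff.1 (Nat.eq_one_of_dvd_coprimes hcop hv1 hw1)
    rw [← MonoidHom.mem_ker, Subgroup.normalizerMonoidHom_ker, Subgroup.mem_subgroupOf] at hφv
    have hvC : v ∈ C := (hmemC _).2 ((Subgroup.mem_centralizer_iff.1 hφv u huR).symm)
    have hvp : IsPGroup p (Subgroup.zpowers v) :=
      IsPGroup.of_card (n := a) (by rw [Nat.card_zpowers]; exact ha)
    have := hmax _ (IsPGroup.to_sup_of_normal_left' hRp hvp ((Subgroup.zpowers_le).2 hvN))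
      (sup_le hRC ((Subgroup.zpowers_le).2 hvC)) le_sup_left
    exact hvR (this ▸ Subgroup.mem_sup_right (Subgroup.mem_zpowers v))
  exact ⟨Sylow.ofCard R (by rw [hcard, hfull]), t, hst, huR, hcomm, ht2, hinv⟩

/-- Without characters of defect zero every involution inverts a nontrivial element of p-power
order, after conjugation. -/
theorem exists_inverted [Fintype G] (hp2 : p ≠ 2) (h2p : ∀ g : G, orderOf g ≠ 2 * p)
    (hno : ∀ χ : Cfsg.IrrCharacter G,
      (Cfsg.charDegree (χ : G → ℂ)).factorization p ≠ (Nat.card G).factorization p)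
    {s : G} (hs : orderOf s = 2) :
    ∃ t u : G, IsConj s t ∧ u ≠ 1 ∧ (∃ k : ℕ, orderOf u = p ^ k) ∧ t * u * t⁻¹ = u⁻¹ := by
  classical
  by_contra! hne
  have hp := (Fact.out : p.Prime)
  obtain ⟨P⟩ : Nonempty (Sylow p G) := inferInstance
  letI := Fintype.ofFinite (P : Subgroup G)
  obtain ⟨M, hM⟩ := Blocks.exists_isPModular p hp
  have hss : s * s = 1 := by
    have := pow_orderOf_eq_one s
    rwa [hs, pow_two] at this
  have hsq : ∀ a, IsConj s a → a * a = 1 := fun a ha => by
    obtain ⟨k, rfl⟩ := isConj_iff.1 ha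
    rw [show k * s * k⁻¹ * (k * s * k⁻¹) = k * (s * s) * k⁻¹ by group, hss]; group
  set f := conv (classInd s) (classInd s) with hf
  set i := (Subgroup.centralizer ({s} : Set G)).index with hi
  have hf1 : f 1 = (i : ℂ) := by
    rw [hf, conv]
    have : ∀ g, classInd s g * classInd s (g⁻¹ * 1) = if IsConj s g then 1 else 0 := fun g => by
      by_cases h : IsConj s g
      · rw [mul_one, inv_eq_of_mul_eq_one_right (hsq g h), classInd_apply, if_pos h, one_mul]
      · rw [classInd_apply, if_neg h, zero_mul]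
    rw [Finset.sum_congr rfl fun g _ => this g, Finset.sum_boole, ← Fintype.card_subtype,
      ← Nat.card_eq_fintype_card, Char.card_isConj_eq_index, hi]
  have hfu : ∀ u : (P : Subgroup G), u ≠ 1 → f u = 0 := by
    intro u hu
    rw [hf, conv]
    refine Finset.sum_eq_zero fun g _ => ?_
    by_cases h : IsConj s g
    · by_cases h' : IsConj s (g⁻¹ * (u : G))
      · refine absurd ?_ (hne g (u : G) h (fun e => hu (Subtype.ext e)) (by
          obtain ⟨k, hk⟩ := IsPGroup.iff_orderOf.1 P.isPGroup' u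
          exact ⟨k, by rw [Subgroup.orderOf_coe, hk]⟩))
        have h1 := hsq _ h'
        rw [inv_eq_of_mul_eq_one_right (hsq g h)] at h1 ⊢
        exact eq_inv_of_mul_eq_one_left (by rw [← h1]; group)
      · rw [classInd_apply s (g⁻¹ * (u : G)), if_neg h', mul_zero]
    · rw [classInd_apply, if_neg h, zero_mul]
  have hsum : ∑ u : (P : Subgroup G), f u = (i : ℂ) := by
    rw [Finset.sum_eq_single (1 : (P : Subgroup G))]
    · exact hf1
    · exact fun u _ hu => hfu u hu
    · simp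
  set c := Nat.card (Subgroup.centralizer ({s} : Set G)) with hc
  have hG : (Nat.card G : ℂ) = (c : ℂ) * i := by
    exact_mod_cast (Subgroup.card_mul_index _).symm
  have hchar : ∀ χ : Cfsg.IrrCharacter G, ∃ q : ℕ, (Nat.card G : ℂ) = (χ : G → ℂ) 1 * q ∧ p ∣ q := by
    intro χ
    have hn : (χ : G → ℂ) 1 = (Cfsg.charDegree (χ : G → ℂ) : ℂ) :=
      (charDegree_cast (Char.IsIrr.isCharacter χ.2)).symm
    obtain ⟨q, hq⟩ := Char.IsIrr.degree_dvd_card χ.2 hn
    refine ⟨q, by rw [hn, hq]; push_cast; rfl, ?_⟩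
    by_contra hpq
    refine hno χ ?_
    rw [hq, Nat.factorization_mul (charDegree_pos χ.2).ne' (fun e => hpq (by rw [e]; exact dvd_zero p))]
    simp [Nat.factorization_eq_zero_of_not_dvd hpq]
  choose q hq hpq using hchar
  have key : ((c * (P : Subgroup G).index : ℕ) : ℂ) = ∑ χ : Cfsg.IrrCharacter G,
      (q χ : ℂ) * (χ : G → ℂ) s ^ 2 * conj (trivMult (P : Subgroup G) χ) := by
    have hP0 : (Nat.card (P : Subgroup G) : ℂ) ≠ 0 := Nat.cast_ne_zero.2 Nat.card_pos.ne'
    have hc0 : (c : ℂ) ≠ 0 := Nat.cast_ne_zero.2 Nat.card_pos.ne'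
    have hi0 : (i : ℂ) ≠ 0 := index_centralizer_ne_zero s
    have h1 : (i : ℂ) = (Nat.card G : ℂ)⁻¹ * ∑ χ : Cfsg.IrrCharacter G,
        (χ : G → ℂ) 1 * ((i : ℂ) * (χ : G → ℂ) s / (χ : G → ℂ) 1) ^ 2 *
          ((Nat.card (P : Subgroup G) : ℂ) * conj (trivMult (P : Subgroup G) χ)) := by
      conv_lhs => rw [← hsum, hf]
      simp only [fun u : (P : Subgroup G) => apply_eq_sum_omega
        (isClassFunction_conv (isClassFunction_classInd s) (isClassFunction_classInd s)) (u : G)]
      rw [← Finset.mul_sum, Finset.sum_comm]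
      congr 1
      refine Finset.sum_congr rfl fun χ _ => ?_
      rw [omega_conv χ.2 (isClassFunction_classInd s) (isClassFunction_classInd s),
        omega_classInd (Char.isClassFunction_of_isIrr χ.2), Cfsg.centralChar, ← hi, ← pow_two,
        ← Finset.mul_sum, ← map_sum, trivMult, map_mul, map_inv₀, Complex.conj_natCast,
        mul_inv_cancel_left₀ hP0]
    have h2 : ((Nat.card (P : Subgroup G) : ℂ) * ((P : Subgroup G).index : ℂ)) = Nat.card G := by
      exact_mod_cast Subgroup.card_mul_index (P : Subgroup G)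
    rw [eq_inv_mul_iff_mul_eq₀ Char.card_ne_zero] at h1
    push_cast
    refine mul_left_cancel₀ (mul_ne_zero hP0 hi0) ?_
    refine mul_left_cancel₀ (Char.card_ne_zero (G := G)) ?_
    rw [Finset.mul_sum, Finset.mul_sum]
    calc (Nat.card G : ℂ) * ((Nat.card (P : Subgroup G) : ℂ) * i *
          ((c : ℂ) * ((P : Subgroup G).index : ℂ)))
        = (Nat.card G : ℂ) * (c * i) *
            ((Nat.card (P : Subgroup G) : ℂ) * ((P : Subgroup G).index : ℂ)) := by ring
      _ = (Nat.card G : ℂ) * (Nat.card G : ℂ) * (Nat.card G : ℂ) := by rw [← hG, h2]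
      _ = (Nat.card G : ℂ) * c * ((Nat.card G : ℂ) * i) := by rw [hG]; ring
      _ = _ := by
        rw [h1, Finset.mul_sum]
        refine Finset.sum_congr rfl fun χ _ => ?_
        have hχ1 : (χ : G → ℂ) 1 ≠ 0 := Char.IsIrr.one_ne_zero χ.2
        have hqv : (q χ : ℂ) = (Nat.card G : ℂ) / (χ : G → ℂ) 1 := by
          rw [eq_div_iff hχ1, hq χ]; ring
        rw [hqv, hG]
        field_simp
  have hmem : Cfsg.MemLocalIdeal M ((c * (P : Subgroup G).index : ℕ) : ℂ) := by
    rw [key]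
    refine memLocalIdeal_sum hM _ fun χ _ => ?_
    obtain ⟨m, hm⟩ := exists_nat_trivMult (P : Subgroup G) χ
    rw [hm, Complex.conj_natCast, mul_assoc]
    exact memLocalIdeal_mul_right hM ((memLocalIdeal_natCast_iff hM _).2 (hpq χ))
      ((localRing hM).mul_mem ((localRing hM).pow_mem
        (memLocalRing_char hM (Char.IsIrr.isCharacter χ.2) s) 2) (memLocalRing_natCast hM m))
  rcases hp.dvd_mul.1 ((memLocalIdeal_natCast_iff hM _).1 hmem) with h | h
  · exact not_dvd_card_centralizer hp2 h2p hs h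
  · exact P.not_dvd_index h

/-- Let p be an odd prime and G a finite group of even order containing no element of order 2p. Then either G has an irreducible character of p-defect zero (its degree has the same p-part as the order of G), or every Sylow p-subgroup of G is abelian and all involutions of G are conjugate. -/
theorem result {G : Type*} [Group G] [Finite G] (p : ℕ) [Fact p.Prime] (hp2 : p ≠ 2) (hG : Even (Nat.card G)) (h2p : ∀ g : G, orderOf g ≠ 2 * p) : (∃ χ : Cfsg.IrrCharacter G, (Cfsg.charDegree (χ : G → ℂ)).factorization p = (Nat.card G).factorization p) ∨ ((∀ P : Sylow p G, IsMulCommutative ↥(P : Subgroup G)) ∧ ∀ s t : G, orderOf s = 2 → orderOf t = 2 → IsConj s t) := by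
  classical
  have := Fintype.ofFinite G
  rw [or_iff_not_imp_left]
  intro hno
  push Not at hno
  have hinv : ∀ s : G, orderOf s = 2 → ∃ (P : Sylow p G) (t : G), IsConj s t ∧
      IsMulCommutative ↥(P : Subgroup G) ∧ (∀ x ∈ P, t * x * t⁻¹ = x⁻¹) ∧
      orderOf t = 2 ∧ ∃ u ∈ P, u ≠ 1 := by
    intro s hs
    obtain ⟨t, u, hst, hu, hup, htu⟩ := exists_inverted hp2 h2p hno hs
    have ht : orderOf t = 2 := by
      obtain ⟨k, rfl⟩ := isConj_iff.1 hst
      rw [← hs]
      exact orderOf_injective (MulAut.conj k).toMonoidHom (MulAut.conj k).injective s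
    obtain ⟨P, t', htt', huP, hcomm, ht', hP⟩ := exists_sylow_inverted hp2 h2p ht hu hup htu
    exact ⟨P, t', hst.trans htt', hcomm, hP, ht', u, huP, hu⟩
  obtain ⟨g, hg⟩ := exists_prime_orderOf_dvd_card' 2 hG.two_dvd
  refine ⟨fun P => ?_, fun s t hs ht => ?_⟩
  · obtain ⟨P₀, -, -, hcomm, -⟩ := hinv g hg
    refine ⟨⟨fun a b => ?_⟩⟩
    obtain ⟨a', rfl⟩ := (P₀.equiv P).surjective a
    obtain ⟨b', rfl⟩ := (P₀.equiv P).surjective b
    rw [← map_mul, ← map_mul, hcomm.is_comm.comm a' b']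
  · obtain ⟨P, s', hss', -, hP, hs2, u, huP, hu⟩ := hinv s hs
    obtain ⟨Q, t', htt', -, hQ, ht2, -⟩ := hinv t ht
    obtain ⟨k, hk⟩ := MulAction.exists_smul_eq G Q P
    have hw : k⁻¹ * u * k ∈ Q := by
      rw [← hk] at huP
      change u ∈ ((k • Q : Sylow p G) : Subgroup G) at huP
      rw [Sylow.coe_subgroup_smul] at huP
      obtain ⟨y, hy, rfl⟩ := huP
      simpa [mul_assoc] using hy
    set t'' := k * t' * k⁻¹ with ht''
    have ht3 : orderOf t'' = 2 := by
      rw [← ht2]
      exact orderOf_injective (MulAut.conj k).toMonoidHom (MulAut.conj k).injective t'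
    have hsq : ∀ a : G, orderOf a = 2 → a * a = 1 := fun a ha => by
      have := pow_orderOf_eq_one a
      rwa [ha, pow_two] at this
    have ht4 : t'' * u * t''⁻¹ = u⁻¹ := by
      have h := hQ _ hw
      calc t'' * u * t''⁻¹ = k * (t' * (k⁻¹ * u * k) * t'⁻¹) * k⁻¹ := by rw [ht'']; group
        _ = u⁻¹ := by rw [h]; group
    have hmem : s' * t'' ∈ Subgroup.centralizer ({u} : Set G) := by
      refine Subgroup.mem_centralizer_singleton_iff.2 (mul_inv_eq_iff_eq_mul.1 ?_)
      calc s' * t'' * u * (s' * t'')⁻¹ = s' * (t'' * u * t''⁻¹) * s'⁻¹ := by group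
        _ = u := by rw [ht4, hP _ (inv_mem huP), inv_inv]
    have hup : ∃ l : ℕ, orderOf u = p ^ l := by
      obtain ⟨l, hl⟩ := IsPGroup.iff_orderOf.1 P.isPGroup' ⟨u, huP⟩
      exact ⟨l, by rw [← hl, ← Subgroup.orderOf_coe]⟩
    have hconj : IsConj s' t'' := isConj_of_odd (hsq _ hs2) (hsq _ ht3)
      (not_two_dvd_orderOf_of_mem (not_two_dvd_card_centralizer hp2 h2p hu hup) hmem)
    exact hss'.trans (hconj.trans ((isConj_iff.2 ⟨k, rfl⟩ : IsConj t' t'').symm.trans htt'.symm))

end Cfsg.Agent.S4738
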