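import Cfsg.Statements.S4740
import Cfsg.Agent.CharArith.Valuation
-- import your own Cfsg.Agent.* helpers here

set_option autoImplicit false
open Cfsg

namespace Cfsg.Agent.S4740

/-- Let p be an odd prime, G a finite group of even order, x an involution of G and P a subgroup of G of order p ^ c such that no conjugate of x inverts a non-identity element of P. If p ^ a is the p-part of the order of C_G(x), then some irreducible character of G has degree divisible by p ^ (c - a). -/
theorem result {G : Type*} [Group G] [Finite G] (p : ℕ) [Fact p.Prime] (hp2 : p ≠ 2) (hG : Even (Nat.card G)) (x : G) (hx : orderOf x = 2) (P : Subgroup G) (c : ℕ) (hP : Nat.card ↥P = p ^ c) (hinv : ∀ g : G, IsConj x g → ∀ z ∈ P, z ≠ 1 → g * z * g⁻¹ ≠ z⁻¹) (a : ℕ) (ha : (Nat.card ↥(Subgroup.centralizer ({x} : Set G))).factorization p = a) : ∃ χ : Cfsg.IrrCharacter G, p ^ (c - a) ∣ Cfsg.charDegree (χ : G → ℂ) := by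
  classical
  have hx2 : x * x = 1 := by rw [← sq, ← hx, pow_orderOf_eq_one]
  have hxi : x⁻¹ = x := inv_eq_of_mul_eq_one_right hx2
  set m := Nat.card ↥(Subgroup.centralizer ({x} : Set G)) with hm
  obtain ⟨χ, hχ⟩ := CharArith.exists_degree_valuation p x x P c hP m Nat.card_pos.ne'
    (by
      have h := Char.second_orthogonality x x
      rw [if_pos (IsConj.refl x)] at h
      rw [hm, ← h]
      refine Finset.sum_congr rfl fun χ _ => ?_
      rw [← Char.IsChar.inv_eq_conj (Char.IsIrr.isCharacter χ.2), hxi])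
    (by
      intro u hu hu1 a b hab
      set s := a * x * a⁻¹ with hs
      have ha2 : s * s = 1 := by
        rw [hs, show a * x * a⁻¹ * (a * x * a⁻¹) = a * (x * x) * a⁻¹ by group, hx2]
        group
      have hbi : (b * x * b⁻¹)⁻¹ = b * x * b⁻¹ := by
        rw [mul_inv_rev, mul_inv_rev, inv_inv, hxi, mul_assoc]
      have hsi : s⁻¹ = s := inv_eq_of_mul_eq_one_right ha2
      have hu' : u = b * x * b⁻¹ * s := by
        have h' : b * x * b⁻¹ * u = s := by
          rw [← hsi]; exact eq_inv_of_mul_eq_one_right hab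
        calc u = (b * x * b⁻¹)⁻¹ * (b * x * b⁻¹ * u) := by group
          _ = b * x * b⁻¹ * s := by rw [h', hbi]
      have hsconj : IsConj x s := isConj_iff.2 ⟨a, rfl⟩
      refine hinv s hsconj u hu hu1 ?_
      rw [hu']
      calc s * (b * x * b⁻¹ * s) * s⁻¹ = s * (b * x * b⁻¹) := by group
        _ = (b * x * b⁻¹ * s)⁻¹ := by rw [mul_inv_rev, hbi, hsi])
  refine ⟨χ, ((Fact.out : p.Prime).pow_dvd_iff_le_factorization
    (CharArith.irr_degree_spec χ).2.ne').2 ?_⟩
  omega

end Cfsg.Agent.S4740
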