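import Cfsg.Statements.S4742
import Cfsg.Agent.CharArith.Valuation
import Cfsg.Agent.CharArith.Central
import Mathlib.GroupTheory.Perm.Cycle.Type
-- import your own Cfsg.Agent.* helpers here

set_option autoImplicit false
open Cfsg

namespace Cfsg.Agent.S4742

/-- Let p ≠ q be primes dividing the order of the finite group G, and suppose the centralizer of every non-identity p-element of G has order prime to q. Then either G has an irreducible character of p-defect zero, or for every non-identity q-element z of G there are conjugates g, h of z such that g h⁻¹ is a non-identity p-element. -/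
theorem result {G : Type*} [Group G] [Finite G] (p q : ℕ) [Fact p.Prime] [Fact q.Prime] (hppq : p ≠ q) (hpG : p ∣ Nat.card G) (hqG : q ∣ Nat.card G) (hC : ∀ g : G, g ≠ 1 → (∃ k : ℕ, orderOf g = p ^ k) → ¬ q ∣ Nat.card ↥(Subgroup.centralizer ({g} : Set G))) : (∃ χ : Cfsg.IrrCharacter G, (Cfsg.charDegree (χ : G → ℂ)).factorization p = (Nat.card G).factorization p) ∨ ∀ z : G, z ≠ 1 → (∃ k : ℕ, orderOf z = q ^ k) → ∃ g h : G, IsConj z g ∧ IsConj z h ∧ g * h⁻¹ ≠ 1 ∧ ∃ k : ℕ, orderOf (g * h⁻¹) = p ^ k := by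
  classical
  refine or_iff_not_imp_right.2 fun hpair => ?_
  push Not at hpair
  obtain ⟨z, hz1, ⟨k, hk⟩, hz⟩ := hpair
  obtain ⟨P⟩ := Sylow.nonempty (p := p) (G := G)
  have hq : q.Prime := Fact.out
  have hk0 : k ≠ 0 := fun h => hz1 (orderOf_eq_one_iff.1 (by rw [hk, h, pow_zero]))
  set m := Nat.card ↥(Subgroup.centralizer ({z} : Set G)) with hm
  obtain ⟨χ, hχ⟩ := CharArith.exists_degree_valuation p z z⁻¹ (P : Subgroup G)
    ((Nat.card G).factorization p) P.card_eq_multiplicity m Nat.card_pos.ne'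
    (by
      have h := Char.second_orthogonality z z
      rw [if_pos (IsConj.refl z)] at h
      rw [hm, ← h]
      refine Finset.sum_congr rfl fun χ _ => ?_
      rw [← Char.IsChar.inv_eq_conj (Char.IsIrr.isCharacter χ.2)])
    (by
      intro u hu hu1 a b hab
      have hmul : a * z * a⁻¹ * (b * z * b⁻¹)⁻¹ = u⁻¹ := by
        rw [show a * z * a⁻¹ * (b * z * b⁻¹)⁻¹ = a * z * a⁻¹ * (b * z⁻¹ * b⁻¹ * u) * u⁻¹ by group,
          hab, one_mul]
      obtain ⟨j, hj⟩ := IsPGroup.iff_orderOf.mp P.isPGroup' ⟨u, hu⟩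
      refine hz (a * z * a⁻¹) (b * z * b⁻¹) (isConj_iff.2 ⟨a, rfl⟩) (isConj_iff.2 ⟨b, rfl⟩) ?_ j ?_
      · rw [hmul]; exact inv_ne_one.2 hu1
      · rw [hmul, orderOf_inv, ← hj, Subgroup.orderOf_mk])
  have hpm : ¬ p ∣ m := by
    intro hdvd
    obtain ⟨w, hw⟩ := exists_prime_orderOf_dvd_card' p hdvd
    have hwo : orderOf (w : G) = p ^ 1 := by rw [Subgroup.orderOf_coe, hw, pow_one]
    have hw1 : (w : G) ≠ 1 := by
      intro h
      rw [h, orderOf_one, pow_one] at hwo
      exact (Fact.out : p.Prime).one_lt.ne hwo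
    refine hC (w : G) hw1 ⟨1, hwo⟩ ?_
    have hzC : z ∈ Subgroup.centralizer ({(w : G)} : Set G) := by
      rw [Subgroup.mem_centralizer_singleton_iff]
      exact (Subgroup.mem_centralizer_singleton_iff.1 w.2).symm
    have h2 := orderOf_dvd_natCard (⟨z, hzC⟩ : Subgroup.centralizer ({(w : G)} : Set G))
    rw [Subgroup.orderOf_mk, hk] at h2
    exact (dvd_pow_self q hk0).trans h2
  rw [Nat.factorization_eq_zero_of_not_dvd hpm, add_zero] at hχ
  exact ⟨χ, le_antisymm
    ((Nat.factorization_le_iff_dvd (CharArith.irr_degree_spec χ).2.ne' Nat.card_pos.ne').2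
      (CharArith.charDegree_dvd_card χ.2) p) hχ⟩

end Cfsg.Agent.S4742
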