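import Cfsg.Statements.S4743
import Cfsg.Agent.Char.DefectZeroClass
import Cfsg.Agent.Char.Linear
import Cfsg.Agent.Core.PCore
import Cfsg.Agent.Core.FaithfulTI
import Cfsg.Agent.Layer.PConstraint
-- import your own Cfsg.Agent.* helpers here

set_option autoImplicit false
open Cfsg

namespace Cfsg.Agent.S4743

/-- The `p`-solvable case. -/
theorem pSolvable_case {G : Type*} [Group G] [Finite G] (p q : ℕ) [Fact p.Prime] [Fact q.Prime]
    (hppq : p ≠ q) (hpG : p ∣ Nat.card G)
    (hC : ∀ g : G, g ≠ 1 → (∃ k : ℕ, orderOf g = p ^ k) →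
      ¬ q ∣ Nat.card ↥(Subgroup.centralizer ({g} : Set G)))
    (hs : Cfsg.IsPSolvable p G) :
    (∃ χ : Cfsg.IrrCharacter G,
        (Cfsg.charDegree (χ : G → ℂ)).factorization p = (Nat.card G).factorization p) ∨
      (∃ χ : Cfsg.IrrCharacter G,
        (Cfsg.charDegree (χ : G → ℂ)).factorization q = (Nat.card G).factorization q) := by
  classical
  have hp : p.Prime := Fact.out
  have hq : q.Prime := Fact.out
  set R := Cfsg.pPrimeCore p G with hR
  have hcop : (Nat.card R).Coprime p := Agent.Core.coprime_card_pPrimeCore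
  have hRp : ¬ p ∣ Nat.card R := hp.coprime_iff_not_dvd.1 hcop.symm
  by_cases hqR : q ∣ Nat.card R
  · obtain ⟨z, hz⟩ := exists_prime_orderOf_dvd_card' (G := R) q hqR
    refine Or.inl (Agent.Char.exists_defectZero_of_class R hRp z fun hd => ?_)
    obtain ⟨⟨x, hx⟩, hxo⟩ :=
      exists_prime_orderOf_dvd_card' (G := Subgroup.centralizer ({(z : G)} : Set G)) p hd
    rw [Subgroup.orderOf_mk] at hxo
    refine hC x (fun e => hp.ne_one (by rw [← hxo, e, orderOf_one])) ⟨1, by rw [hxo, pow_one]⟩ ?_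
    rw [← hz, ← Subgroup.orderOf_coe]
    exact Subgroup.orderOf_dvd_natCard _
      (Subgroup.mem_centralizer_singleton_iff.2 (Subgroup.mem_centralizer_singleton_iff.1 hx).symm)
  · right
    have hpQ : p ∣ Nat.card (G ⧸ R) := by
      have h := hpG
      rw [Subgroup.card_eq_card_quotient_mul_card_subgroup R] at h
      exact (hp.dvd_mul.1 h).resolve_right hRp
    have : Nontrivial (G ⧸ R) :=
      Finite.one_lt_card_iff_nontrivial.1 (hp.one_lt.trans_le (Nat.le_of_dvd Nat.card_pos hpQ))
    set N := Cfsg.pCore p (G ⧸ R) with hN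
    have hNne : N ≠ ⊥ := fun h => by
      have h1 := Agent.Core.centralizer_pPrimeCore_le
        (Agent.Layer.isPSolvable_of_surjective hs (QuotientGroup.mk'_surjective R)) h
      rw [Agent.Core.pPrimeCore_quotient_eq_bot] at h1
      have h2 : (⊤ : Subgroup (G ⧸ R)) ≤ ⊥ := le_trans (fun x _ => by simp [Subgroup.mem_centralizer_iff]) h1
      obtain ⟨x, hx⟩ := exists_ne (1 : G ⧸ R)
      exact hx (Subgroup.mem_bot.1 (h2 (Subgroup.mem_top x)))
    have hNp : IsPGroup p N := Agent.Core.pCore_isPGroup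
    have hNq : ¬ q ∣ Nat.card N := by
      obtain ⟨k, hk⟩ := hNp.exists_card_eq
      rw [hk]
      exact fun h => hppq ((Nat.prime_dvd_prime_iff_eq hq hp).1 (hq.dvd_of_dvd_pow h)).symm
    obtain ⟨⟨zb, hzbN⟩, hzb⟩ := Subgroup.ne_bot_iff_exists_ne_one.1 hNne
    have hzb1 : zb ≠ 1 := fun e => hzb (Subtype.ext e)
    obtain ⟨g, rfl⟩ := QuotientGroup.mk_surjective zb
    -- a lift of `p`-power order
    obtain ⟨z, hzg, hzp⟩ : ∃ z : G, (z : G ⧸ R) = (g : G ⧸ R) ∧ ∃ k, orderOf z = p ^ k := by
      obtain ⟨j, hj⟩ := hNp ⟨_, hzbN⟩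
      have hj' : (g : G ⧸ R) ^ p ^ j = 1 := congrArg Subtype.val hj
      set m := Nat.card R with hm
      obtain ⟨a, b, hab⟩ := Nat.isCoprime_iff_coprime.2 (Nat.Coprime.pow_right j hcop)
      have hgR : g ^ p ^ j ∈ R := (QuotientGroup.eq_one_iff _).1 (by rw [QuotientGroup.mk_pow, hj'])
      refine ⟨g ^ (a * (m : ℤ)), ?_, ?_⟩
      · rw [QuotientGroup.mk_zpow, show a * (m : ℤ) = 1 - b * ((p ^ j : ℕ) : ℤ) by linarith, zpow_sub,
          zpow_one, mul_comm b, zpow_mul, zpow_natCast, hj', one_zpow, inv_one, mul_one]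
      · have hm1 : (g ^ p ^ j) ^ m = 1 :=
          congrArg Subtype.val (pow_card_eq_one' (x := (⟨_, hgR⟩ : R)))
        have h1 : (g ^ (a * (m : ℤ))) ^ p ^ j = 1 := by
          rw [← zpow_natCast, ← zpow_mul, show a * (m : ℤ) * ((p ^ j : ℕ) : ℤ) =
            ((p ^ j * m : ℕ) : ℤ) * a by push_cast; ring, zpow_mul, zpow_natCast, pow_mul, hm1, one_zpow]
        obtain ⟨k, -, hk⟩ := (Nat.dvd_prime_pow hp).1 (orderOf_dvd_of_pow_eq_one h1)
        exact ⟨k, hk⟩
    refine (Agent.Char.exists_defectZero_of_class (p := q) N hNq ⟨_, hzbN⟩ fun hd => ?_).elim ?_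
    · obtain ⟨⟨yb, hyb⟩, hybo⟩ := exists_prime_orderOf_dvd_card'
        (G := Subgroup.centralizer ({(g : G ⧸ R)} : Set (G ⧸ R))) q hd
      rw [Subgroup.orderOf_mk] at hybo
      obtain ⟨y, rfl⟩ := QuotientGroup.mk_surjective yb
      have hyc := Subgroup.mem_centralizer_singleton_iff.1 hyb
      rw [← hzg] at hyc
      -- `y` fixes the coset of `z`, so some element of `y R` normalises `⟨z⟩`
      set Z := Subgroup.zpowers z with hZ
      obtain ⟨k, hk⟩ := hzp
      have hZp : IsPGroup p Z := IsPGroup.of_card (n := k) (by rw [hZ, Nat.card_zpowers, hk])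
      have hZR : Z ⊓ R = ⊥ := Agent.Layer.inf_eq_bot_of_isPGroup hZp hcop
      set L := Z ⊔ R with hL
      have hcard : Nat.card L = Nat.card Z * Nat.card R := by
        have h := Agent.Core.card_sup_mul_card_inf Z R
        rwa [hZR, Subgroup.card_bot, mul_one] at h
      -- Sylow subgroups of `L`
      have hsyl : ∀ X : Subgroup G, X ≤ L → Nat.card X = Nat.card Z →
          IsPGroup p (X.subgroupOf L) ∧ ¬ p ∣ (X.subgroupOf L).index := fun X hX hXc => by
        have hc : Nat.card (X.subgroupOf L) = Nat.card Z :=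
          (Nat.card_congr (Subgroup.subgroupOfEquivOfLe hX).toEquiv).trans hXc
        refine ⟨IsPGroup.of_card (n := k) (by rw [hc, hZ, Nat.card_zpowers, hk]), ?_⟩
        have h := (X.subgroupOf L).card_mul_index
        rw [hc, hcard] at h
        rw [Nat.eq_of_mul_eq_mul_left Nat.card_pos h]
        exact hRp
      have hconjL : ∀ x ∈ L, y * x * y⁻¹ ∈ L := by
        intro x hx
        obtain ⟨u, hu, r, hr, rfl⟩ := Subgroup.mem_sup_of_normal_right.1 hx
        obtain ⟨i, rfl⟩ := hu
        rw [show y * (z ^ i * r) * y⁻¹ =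
          (z ^ i * ((z ^ i)⁻¹ * (y * z ^ i * y⁻¹))) * (y * r * y⁻¹) by group]
        refine L.mul_mem (L.mul_mem (Subgroup.mem_sup_left ⟨i, rfl⟩) (Subgroup.mem_sup_right ?_))
          (Subgroup.mem_sup_right ((inferInstance : R.Normal).conj_mem r hr y))
        refine (QuotientGroup.eq_one_iff _).1 ?_
        simp only [QuotientGroup.mk_mul, QuotientGroup.mk_inv, QuotientGroup.mk_zpow]
        rw [(Commute.zpow_right hyc i).eq]
        group
      set Z' := Z.map (MulAut.conj y).toMonoidHom with hZ'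
      have hZ'L : Z' ≤ L := by
        rintro _ ⟨x, hx, rfl⟩
        exact hconjL x (Subgroup.mem_sup_left hx)
      have hs1 := hsyl Z le_sup_left rfl
      have hs2 := hsyl Z' hZ'L (Subgroup.card_map_of_injective (MulAut.conj y).injective)
      obtain ⟨⟨l, hl⟩, hle⟩ := MulAction.exists_smul_eq L (hs1.1.toSylow hs1.2) (hs2.1.toSylow hs2.2)
      obtain ⟨u, hu, r, hr, rfl⟩ := Subgroup.mem_sup_of_normal_left.1 (show l ∈ R ⊔ Z by rwa [sup_comm])
      have hmem : (u * r)⁻¹ * (y * z * y⁻¹) * (u * r) ∈ Z := by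
        have h1 : (⟨y * z * y⁻¹, hZ'L ⟨z, Subgroup.mem_zpowers z, rfl⟩⟩ : L) ∈
            ((hs2.1.toSylow hs2.2 : Sylow p L) : Subgroup L) := by
          rw [IsPGroup.toSylow_coe, Subgroup.mem_subgroupOf]
          exact ⟨z, Subgroup.mem_zpowers z, rfl⟩
        rw [← hle, Sylow.coe_subgroup_smul, IsPGroup.toSylow_coe] at h1
        obtain ⟨x, hx, hxe⟩ := h1
        rw [SetLike.mem_coe, Subgroup.mem_subgroupOf] at hx
        have e : u * r * (x : G) * (u * r)⁻¹ = y * z * y⁻¹ := congrArg Subtype.val hxe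
        rw [← e]
        simpa [mul_assoc] using hx
      set y' := (u * r)⁻¹ * y with hy'
      -- modulo `R` the element `u * r` is a power of `z`
      obtain ⟨i, hi⟩ := hr
      subst hi
      have heq : (u * z ^ i)⁻¹ * (y * z * y⁻¹) * (u * z ^ i) = z := by
        obtain ⟨i', hi'⟩ := hmem
        have hR' : z⁻¹ * z ^ i' ∈ R := by
          refine (QuotientGroup.eq_one_iff _).1 ?_
          rw [show z ^ i' = _ from hi']
          simp only [QuotientGroup.mk_mul, QuotientGroup.mk_inv, QuotientGroup.mk_zpow,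
            (QuotientGroup.eq_one_iff u).2 hu, one_mul]
          rw [hyc]
          group
        have h0 : z⁻¹ * z ^ i' ∈ Z ⊓ R :=
          ⟨Z.mul_mem (Z.inv_mem (Subgroup.mem_zpowers z)) ⟨i', rfl⟩, hR'⟩
        rw [hZR, Subgroup.mem_bot, inv_mul_eq_one] at h0
        exact hi'.symm.trans h0.symm
      have hyz : y' * z = z * y' := by
        conv_rhs => rw [← heq]
        rw [hy']
        group
      have hy'q : q ∣ orderOf ((z ^ i) * y') := by
        rw [← hybo]
        have e : ((z ^ i * y' : G) : G ⧸ R) = (y : G ⧸ R) := by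
          rw [hy']
          simp only [QuotientGroup.mk_mul, QuotientGroup.mk_inv, QuotientGroup.mk_zpow,
            (QuotientGroup.eq_one_iff u).2 hu, one_mul]
          group
        rw [← e]
        exact orderOf_map_dvd (QuotientGroup.mk' R) _
      refine hC z (fun e => hzb1 (by rw [← hzg, e, QuotientGroup.mk_one])) ⟨k, hk⟩
        (hy'q.trans (Subgroup.orderOf_dvd_natCard _ ?_))
      rw [Subgroup.mem_centralizer_singleton_iff]
      rw [mul_assoc, hyz, ← mul_assoc, ← (Commute.zpow_right (Commute.refl z) i).eq, mul_assoc]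
    · intro φ hφ
      refine ⟨⟨fun x => (φ : G ⧸ R → ℂ) (x : G ⧸ R),
        Agent.Char.isIrrCharacter_comp (QuotientGroup.mk' R) (QuotientGroup.mk'_surjective R) φ.2⟩, ?_⟩
      have hd : Cfsg.charDegree (fun x : G => (φ : G ⧸ R → ℂ) (x : G ⧸ R)) =
          Cfsg.charDegree (φ : G ⧸ R → ℂ) := rfl
      rw [hd, hφ, Subgroup.card_eq_card_quotient_mul_card_subgroup R,
        Nat.factorization_mul Nat.card_pos.ne' Nat.card_pos.ne', Finsupp.add_apply,
        Nat.factorization_eq_zero_of_not_dvd hqR, add_zero]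

/-- Let p ≠ q be primes dividing the order of the finite group G, suppose the centralizer of every non-identity p-element has order prime to q, and suppose G is p-solvable or q-solvable. Then G has an irreducible character of p-defect zero or an irreducible character of q-defect zero. -/
theorem result {G : Type*} [Group G] [Finite G] (p q : ℕ) [Fact p.Prime] [Fact q.Prime] (hppq : p ≠ q) (hpG : p ∣ Nat.card G) (hqG : q ∣ Nat.card G) (hC : ∀ g : G, g ≠ 1 → (∃ k : ℕ, orderOf g = p ^ k) → ¬ q ∣ Nat.card ↥(Subgroup.centralizer ({g} : Set G))) (hsolv : Cfsg.IsPSolvable p G ∨ Cfsg.IsPSolvable q G) : (∃ χ : Cfsg.IrrCharacter G, (Cfsg.charDegree (χ : G → ℂ)).factorization p = (Nat.card G).factorization p) ∨ (∃ χ : Cfsg.IrrCharacter G, (Cfsg.charDegree (χ : G → ℂ)).factorization q = (Nat.card G).factorization q) := by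
  classical
  have hp : p.Prime := Fact.out
  have hq : q.Prime := Fact.out
  rcases hsolv with hs | hs
  · exact pSolvable_case p q hppq hpG hC hs
  · exact (pSolvable_case q p hppq.symm hqG (fun g hg hgq hd => by
      obtain ⟨⟨x, hx⟩, hxo⟩ := exists_prime_orderOf_dvd_card' (G := Subgroup.centralizer ({g} : Set G)) p hd
      rw [Subgroup.orderOf_mk] at hxo
      refine hC x (fun e => hp.ne_one (by rw [← hxo, e, orderOf_one])) ⟨1, by rw [hxo, pow_one]⟩ ?_
      obtain ⟨k, hk⟩ := hgq
      refine (show q ∣ orderOf g from ?_).trans (Subgroup.orderOf_dvd_natCard _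
        (Subgroup.mem_centralizer_singleton_iff.2 (Subgroup.mem_centralizer_singleton_iff.1 hx).symm))
      rcases k with - | k
      · exact absurd (orderOf_eq_one_iff.1 (by simpa using hk)) hg
      · exact hk ▸ dvd_pow_self q k.succ_ne_zero) hs).symm

end Cfsg.Agent.S4743
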