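import Cfsg.Statements.S4744
import Cfsg.Agent.S4738
-- import your own Cfsg.Agent.* helpers here

set_option autoImplicit false
open Cfsg

namespace Cfsg.Agent.S4744

/-- Let p be an odd prime and G a finite group of even order divisible by p in which the centralizer of every non-identity p-element has odd order. Then either G has an irreducible character of p-defect zero, or the normalizer of every Sylow p-subgroup P of G has even order and P is abelian. -/
theorem result {G : Type*} [Group G] [Finite G] (p : ℕ) [Fact p.Prime] (hp2 : p ≠ 2) (hpG : p ∣ Nat.card G) (h2G : 2 ∣ Nat.card G) (hC : ∀ g : G, g ≠ 1 → (∃ k : ℕ, orderOf g = p ^ k) → Odd (Nat.card ↥(Subgroup.centralizer ({g} : Set G)))) : (∃ χ : Cfsg.IrrCharacter G, (Cfsg.charDegree (χ : G → ℂ)).factorization p = (Nat.card G).factorization p) ∨ ∀ P : Sylow p G, Even (Nat.card ↥(Subgroup.normalizer ((P : Subgroup G) : Set G))) ∧ IsMulCommutative ↥(P : Subgroup G) := by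
  classical
  have := Fintype.ofFinite G
  have := hpG
  rw [or_iff_not_imp_left]
  intro hno P
  push Not at hno
  have h2p : ∀ g : G, orderOf g ≠ 2 * p := by
    intro g hg
    have h1 : orderOf (g ^ 2) = p := by
      rw [orderOf_pow' g two_ne_zero, hg, Nat.gcd_eq_right (dvd_mul_right 2 p),
        Nat.mul_div_cancel_left p two_pos]
    have h2 : orderOf (g ^ p) = 2 := by
      rw [orderOf_pow' g (Fact.out : p.Prime).ne_zero, hg, Nat.gcd_eq_right (dvd_mul_left p 2),
        Nat.mul_div_cancel _ (Fact.out : p.Prime).pos]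
    have hne : g ^ 2 ≠ 1 := fun h => (Fact.out : p.Prime).ne_one (by rw [← h1, h, orderOf_one])
    have hodd := hC _ hne ⟨1, by rw [h1, pow_one]⟩
    refine Nat.not_even_iff_odd.2 hodd (even_iff_two_dvd.2 ?_)
    have h3 := orderOf_dvd_natCard (⟨g ^ p, Subgroup.mem_centralizer_singleton_iff.2
      ((Commute.refl g).pow_pow p 2).eq⟩ : Subgroup.centralizer ({g ^ 2} : Set G))
    rw [← Subgroup.orderOf_coe] at h3
    exact h2 ▸ h3
  obtain ⟨s, hs⟩ := exists_prime_orderOf_dvd_card' 2 h2G
  obtain ⟨t, u, hst, hu, hup, htu⟩ := S4738.exists_inverted hp2 h2p hno hs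
  have ht : orderOf t = 2 := by
    obtain ⟨k, rfl⟩ := isConj_iff.1 hst
    rw [← hs]
    exact orderOf_injective (MulAut.conj k).toMonoidHom (MulAut.conj k).injective s
  obtain ⟨P₀, t', -, -, hcomm, ht', hP⟩ := S4738.exists_sylow_inverted hp2 h2p ht hu hup htu
  refine ⟨even_iff_two_dvd.2 ?_, ⟨⟨fun a b => ?_⟩⟩⟩
  · have hmem : t' ∈ Subgroup.normalizer ((P₀ : Subgroup G) : Set G) := by
      refine Subgroup.mem_normalizer_fintype fun x hx => ?_
      rw [hP x hx]
      exact inv_mem hx
    have h3 := orderOf_dvd_natCard (⟨t', hmem⟩ :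
      Subgroup.normalizer ((P₀ : Subgroup G) : Set G))
    rw [← Subgroup.orderOf_coe] at h3
    rw [ht'] at h3
    refine h3.trans (dvd_of_eq ?_)
    refine Nat.eq_of_mul_eq_mul_right (Nat.pos_of_ne_zero
      (Subgroup.index_ne_zero_of_finite (H := Subgroup.normalizer ((P₀ : Subgroup G) : Set G)))) ?_
    have h4 : (Subgroup.normalizer ((P₀ : Subgroup G) : Set G)).index =
        (Subgroup.normalizer ((P : Subgroup G) : Set G)).index :=
      (Sylow.card_eq_index_normalizer P₀).symm.trans (Sylow.card_eq_index_normalizer P)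
    rw [Subgroup.card_mul_index, h4, Subgroup.card_mul_index]
  · obtain ⟨a', rfl⟩ := (P₀.equiv P).surjective a
    obtain ⟨b', rfl⟩ := (P₀.equiv P).surjective b
    rw [← map_mul, ← map_mul, hcomm.is_comm.comm a' b']

end Cfsg.Agent.S4744
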