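import Cfsg.Statements.S4746
import Mathlib
import Cfsg.Agent.S4738
import Cfsg.Agent.Char.Perm
import Cfsg.Agent.BlockThms.DefectGroup

/-!
If all degrees are odd and `u` is real, column orthogonality modulo 2 gives that the order of the
centralizer of `u` is even; without characters of defect zero some nontrivial `p`-element is real.
-/
-- import your own Cfsg.Agent.* helpers here

set_option autoImplicit false
open Cfsg

namespace Cfsg.Agent.S4746

open scoped ComplexConjugate
open Cfsg.Agent Cfsg.Agent.Blocks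

universe u

theorem sq_sum_congr {M : Ideal Cfsg.AlgInt} (hM : Cfsg.IsPModular 2 M) {ι : Type*}
    (s : Finset ι) (f : ι → ℂ) (hf : ∀ i, Cfsg.MemLocalRing M (f i)) :
    Cfsg.MemLocalIdeal M ((∑ i ∈ s, f i) ^ 2 - ∑ i ∈ s, f i ^ 2) := by
  classical
  induction s using Finset.induction with
  | empty => simpa using memLocalIdeal_zero hM
  | @insert a s ha ih =>
    rw [Finset.sum_insert ha, Finset.sum_insert ha]
    have h2 : Cfsg.MemLocalIdeal M (2 : ℂ) := by
      exact_mod_cast (memLocalIdeal_natCast_iff hM 2).2 dvd_rfl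
    have h3 := memLocalIdeal_add hM ih (memLocalIdeal_mul_right hM h2
      ((localRing hM).mul_mem (hf a) ((localRing hM).sum_mem (t := s) fun i _ => hf i)))
    convert h3 using 1
    ring

/-- A real element has a centralizer of even order when all degrees are odd. -/
theorem two_dvd_centralizer {G : Type u} [Group G] [Finite G] {x : G} (hx1 : x ≠ 1)
    (hreal : IsConj x x⁻¹) (hdeg : ∀ χ : Cfsg.IrrCharacter G, Odd (Cfsg.charDegree (χ : G → ℂ))) :
    2 ∣ Nat.card (Subgroup.centralizer ({x} : Set G)) := by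
  classical
  obtain ⟨M, hM⟩ := Blocks.exists_isPModular 2 Nat.prime_two
  let σ : Equiv.Perm (Cfsg.IrrCharacter G) :=
    Function.Involutive.toPerm Char.conjIrr fun χ => Subtype.ext (funext fun g => by
      simp [Complex.conj_conj])
  have hσ2 : σ ^ 2 = 1 := Equiv.ext fun χ => Subtype.ext (funext fun g => by
    show conj (conj ((χ : G → ℂ) g)) = _
    exact Complex.conj_conj _)
  have hσp : IsPGroup 2 (Subgroup.zpowers σ) := by
    intro y
    refine ⟨1, ?_⟩
    obtain ⟨_, k, rfl⟩ := y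
    refine Subtype.ext ?_
    show (σ ^ k) ^ (2 ^ 1) = 1
    rw [pow_one, ← zpow_natCast, ← zpow_mul, mul_comm, zpow_mul, zpow_natCast, hσ2, one_zpow]
  have hreal' : ∀ χ : Cfsg.IrrCharacter G, conj ((χ : G → ℂ) x) = (χ : G → ℂ) x := fun χ => by
    rw [← Char.IsChar.inv_eq_conj (Char.IsIrr.isCharacter χ.2)]
    exact (Char.classFun_isConj (Char.isClassFunction_of_isIrr χ.2) hreal).symm
  have hR : ∀ (χ : Cfsg.IrrCharacter G) (g : G), Cfsg.MemLocalRing M ((χ : G → ℂ) g) := fun χ g =>
    memLocalRing_char hM (Char.IsIrr.isCharacter χ.2) g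
  have hinv : ∀ (f : Cfsg.IrrCharacter G → ℂ), (∀ χ, f (σ χ) = f χ) →
      ∀ (y : Subgroup.zpowers σ) χ, f (y • χ) = f χ := by
    intro f hf y χ
    obtain ⟨_, k, rfl⟩ := y
    show f ((σ ^ k) χ) = f χ
    induction k using Int.induction_on generalizing χ with
    | zero => rfl
    | succ i ih => rw [zpow_add_one, Equiv.Perm.mul_apply, ih, hf]
    | pred i ih =>
      rw [zpow_sub_one, Equiv.Perm.mul_apply, ih]
      conv_rhs => rw [show χ = σ (σ⁻¹ χ) from (σ.apply_symm_apply χ).symm, hf]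
  set F := Finset.univ.filter (fun χ : Cfsg.IrrCharacter G =>
    χ ∈ MulAction.fixedPoints (Subgroup.zpowers σ) (Cfsg.IrrCharacter G)) with hF
  have ha := DefectThms.memLocalIdeal_sum_sub_fixed hM hσp
    (fun χ : Cfsg.IrrCharacter G => (χ : G → ℂ) x * (χ : G → ℂ) 1)
    (fun χ => (localRing hM).mul_mem (hR χ x) (hR χ 1))
    (hinv (fun χ => (χ : G → ℂ) x * (χ : G → ℂ) 1) fun χ => by
      show conj ((χ : G → ℂ) x) * conj ((χ : G → ℂ) 1) = _
      rw [hreal' χ, ← Char.IsChar.inv_eq_conj (Char.IsIrr.isCharacter χ.2), inv_one])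
  have hb := DefectThms.memLocalIdeal_sum_sub_fixed hM hσp
    (fun χ : Cfsg.IrrCharacter G => (χ : G → ℂ) x ^ 2)
    (fun χ => (localRing hM).pow_mem (hR χ x) 2)
    (hinv (fun χ => (χ : G → ℂ) x ^ 2) fun χ => by
      show conj ((χ : G → ℂ) x) ^ 2 = _
      rw [hreal' χ])
  have e1 : ∑ χ : Cfsg.IrrCharacter G, (χ : G → ℂ) x * (χ : G → ℂ) 1 = 0 := by
    have h := Char.second_orthogonality x (1 : G)
    rw [if_neg (fun h => hx1 (isConj_one_left.1 h))] at h
    rw [← h]
    refine Finset.sum_congr rfl fun χ _ => ?_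
    rw [← Char.IsChar.inv_eq_conj (Char.IsIrr.isCharacter χ.2), inv_one]
  have e2 : ∑ χ : Cfsg.IrrCharacter G, (χ : G → ℂ) x ^ 2 =
      (Nat.card (Subgroup.centralizer ({x} : Set G)) : ℂ) := by
    have h := Char.second_orthogonality x x
    rw [if_pos (IsConj.refl x)] at h
    rw [← h]
    exact Finset.sum_congr rfl fun χ _ => by rw [hreal' χ, pow_two]
  have h1 : Cfsg.MemLocalIdeal M (∑ χ ∈ F, (χ : G → ℂ) x) := by
    have h2 : Cfsg.MemLocalIdeal M (∑ χ ∈ F, ((χ : G → ℂ) x * (χ : G → ℂ) 1 - (χ : G → ℂ) x)) := by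
      refine memLocalIdeal_sum hM _ fun χ _ => ?_
      obtain ⟨k, hk⟩ := hdeg χ
      rw [← charDegree_cast (Char.IsIrr.isCharacter χ.2), hk]
      rw [show (χ : G → ℂ) x * ((2 * k + 1 : ℕ) : ℂ) - (χ : G → ℂ) x =
        ((2 * k : ℕ) : ℂ) * (χ : G → ℂ) x by push_cast; ring]
      exact memLocalIdeal_mul_right hM ((memLocalIdeal_natCast_iff hM _).2 (dvd_mul_right 2 k))
        (hR χ x)
    rw [e1, zero_sub, ← hF] at ha
    have h3 := memLocalIdeal_neg (memLocalIdeal_add hM h2 ha)
    convert h3 using 1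
    rw [Finset.sum_sub_distrib]
    ring
  have h4 : Cfsg.MemLocalIdeal M (∑ χ ∈ F, (χ : G → ℂ) x ^ 2) := by
    have h5 := memLocalIdeal_sub hM (memLocalIdeal_mul_right hM h1
      ((localRing hM).sum_mem (t := F) fun χ _ => hR χ x)) (sq_sum_congr hM F _ fun χ => hR χ x)
    convert h5 using 1
    ring
  rw [e2, ← hF] at hb
  have h6 := memLocalIdeal_add hM hb h4
  rw [sub_add_cancel] at h6
  exact (memLocalIdeal_natCast_iff hM _).1 h6

/-- Let p be an odd prime and G a finite group of even order divisible by p in which the centralizer of every non-identity p-element has odd order. Then G has an irreducible character of p-defect zero or an irreducible character of even degree. -/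
theorem result {G : Type*} [Group G] [Finite G] (p : ℕ) [Fact p.Prime] (hp2 : p ≠ 2) (hpG : p ∣ Nat.card G) (h2G : 2 ∣ Nat.card G) (hC : ∀ g : G, g ≠ 1 → (∃ k : ℕ, orderOf g = p ^ k) → Odd (Nat.card ↥(Subgroup.centralizer ({g} : Set G)))) : (∃ χ : Cfsg.IrrCharacter G, (Cfsg.charDegree (χ : G → ℂ)).factorization p = (Nat.card G).factorization p) ∨ ∃ χ : Cfsg.IrrCharacter G, Even (Cfsg.charDegree (χ : G → ℂ)) := by
  classical
  have := Fintype.ofFinite G
  have := hpG
  rw [or_iff_not_imp_left]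
  intro hno
  push Not at hno
  by_contra! hodd
  have h2p : ∀ g : G, orderOf g ≠ 2 * p := by
    intro g hg
    have h1 : orderOf (g ^ 2) = p := by
      rw [orderOf_pow' g two_ne_zero, hg, Nat.gcd_eq_right (dvd_mul_right 2 p),
        Nat.mul_div_cancel_left p two_pos]
    have h2 : orderOf (g ^ p) = 2 := by
      rw [orderOf_pow' g (Fact.out : p.Prime).ne_zero, hg, Nat.gcd_eq_right (dvd_mul_left p 2),
        Nat.mul_div_cancel _ (Fact.out : p.Prime).pos]
    have hne : g ^ 2 ≠ 1 := fun h => (Fact.out : p.Prime).ne_one (by rw [← h1, h, orderOf_one])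
    refine Nat.not_even_iff_odd.2 (hC _ hne ⟨1, by rw [h1, pow_one]⟩) (even_iff_two_dvd.2 ?_)
    have h3 := orderOf_dvd_natCard (⟨g ^ p, Subgroup.mem_centralizer_singleton_iff.2
      ((Commute.refl g).pow_pow p 2).eq⟩ : Subgroup.centralizer ({g ^ 2} : Set G))
    rw [← Subgroup.orderOf_coe] at h3
    exact h2 ▸ h3
  obtain ⟨s, hs⟩ := exists_prime_orderOf_dvd_card' 2 h2G
  obtain ⟨t, u, -, hu, hup, htu⟩ := S4738.exists_inverted hp2 h2p hno hs
  exact Nat.not_even_iff_odd.2 (hC u hu hup) (even_iff_two_dvd.2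
    (two_dvd_centralizer hu (isConj_iff.2 ⟨t, htu⟩) fun χ => Nat.not_even_iff_odd.1 (hodd χ)))

end Cfsg.Agent.S4746
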