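import Cfsg.Statements.S4748
import Cfsg.Agent.Core.FaithfulTI
-- import your own Cfsg.Agent.* helpers here

set_option autoImplicit false
open scoped Pointwise
open Cfsg

namespace Cfsg.Agent.S4748

/-- Let G be a finite p-solvable group whose Sylow p-subgroup P meets each conjugate g P g⁻¹ with g outside N_G(P) trivially, and let χ be a faithful character of G (χ g = χ 1 only for g = 1) whose degree d satisfies d² ≤ |P|. Then P is normal in G. -/
theorem result {G : Type*} [Group G] [Finite G] (p : ℕ) [Fact p.Prime] (hsolv : Cfsg.IsPSolvable p G) (P : Sylow p G) (hTI : ∀ g : G, g ∉ Subgroup.normalizer ((P : Subgroup G) : Set G) → (P : Subgroup G) ⊓ (MulAut.conj g • (P : Subgroup G)) = ⊥) (χ : G → ℂ) (hχ : Cfsg.IsCharacter G χ) (hfaith : ∀ g : G, χ g = χ 1 → g = 1) (hdeg : Cfsg.charDegree χ ^ 2 ≤ Nat.card ↥(P : Subgroup G)) : (P : Subgroup G).Normal := by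
  obtain ⟨n, ρ, rfl⟩ := hχ
  have h1 : ρ.character 1 = (n : ℂ) := by
    rw [Representation.char_one, Module.finrank_fin_fun]
  have hd : Cfsg.charDegree ρ.character = n := by
    rw [Cfsg.charDegree, h1, Complex.natCast_re, Nat.floor_natCast]
  rw [hd] at hdeg
  refine Core.sylow_normal_of_small_degree hsolv P hTI ρ ?_ hdeg
  intro x y hxy
  rw [← mul_inv_eq_one]
  refine hfaith _ ?_
  have h2 : ρ (x * y⁻¹) = ρ 1 := by rw [map_mul, hxy, ← map_mul, mul_inv_cancel]
  show LinearMap.trace ℂ _ (ρ (x * y⁻¹)) = LinearMap.trace ℂ _ (ρ 1)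
  rw [h2]

end Cfsg.Agent.S4748
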