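import Cfsg.Statements.S4750
import Cfsg.Agent.Char.Ortho
import Mathlib.RingTheory.Valuation.LocalSubring
import Mathlib.GroupTheory.FiniteAbelian.Basic

set_option autoImplicit false
open scoped Pointwise
open Cfsg

namespace Cfsg.Agent.S4750

open Matrix

section Fixed

variable {P : Type*} [Group P] {κ : Type*} [Field κ]

/-- A nonzero relation on the translates gives a constant one. -/
private lemma const_relation [Finite P] {p : ℕ} [Fact p.Prime] (hP : IsPGroup p P) (hκ : (p : κ) = 0)
    {M : Type*} [AddCommGroup M] [Module κ M] (K : Submodule κ (P → κ))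
    (hK : ∀ c ∈ K, ∀ u : P, (fun w => c (u⁻¹ * w)) ∈ K) (hne : K ≠ ⊥) (φ : (P → κ) →ₗ[κ] M)
    (hφ : ∀ c ∈ K, φ c = 0) : φ (fun _ => 1) = 0 := by
  classical
  obtain ⟨c₀, hc₀, hc0⟩ := Submodule.exists_mem_ne_zero_of_ne_bot hne
  let tr : P → (P → κ) → (P → κ) := fun u c w => c (u⁻¹ * w)
  let L : AddSubgroup (P → κ) := AddSubgroup.closure (Set.range fun u => tr u c₀)
  have hLK : ∀ c ∈ L, c ∈ K := fun c hc =>
    (AddSubgroup.closure_le K.toAddSubgroup).mpr (by rintro _ ⟨u, rfl⟩; exact hK c₀ hc₀ u) hc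
  have hpc : ∀ c : P → κ, (p : ℕ) • c = 0 := by
    intro c; ext w; simp [hκ]
  haveI : AddGroup.FG L := by
    rw [AddGroup.fg_iff_addSubgroup_fg, AddSubgroup.fg_iff]
    exact ⟨_, rfl, Set.finite_range _⟩
  haveI : Finite L := by
    refine AddCommGroup.finite_of_fg_torsion L fun x => ?_
    rw [isOfFinAddOrder_iff_nsmul_eq_zero]
    exact ⟨p, (Fact.out : p.Prime).pos, Subtype.ext (by simpa using hpc x.1)⟩
  have hmem : ∀ (u : P), ∀ c ∈ L, tr u c ∈ L := by
    intro u c hc
    induction hc using AddSubgroup.closure_induction with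
    | mem y hy =>
      obtain ⟨v, rfl⟩ := hy
      refine AddSubgroup.subset_closure ⟨u * v, ?_⟩
      ext w; simp [tr, mul_assoc]
    | zero => exact L.zero_mem
    | add a b _ _ ha hb => exact L.add_mem ha hb
    | neg a _ ha => exact L.neg_mem ha
  letI : MulAction P L :=
    { smul := fun u c => ⟨tr u c.1, hmem u c.1 c.2⟩
      one_smul := fun c => by
        apply Subtype.ext; show tr 1 c.1 = c.1
        ext w; simp [tr]
      mul_smul := fun u v c => by
        apply Subtype.ext; show tr (u * v) c.1 = tr u (tr v c.1)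
        ext w; simp [tr, mul_assoc] }
  have hz : (0 : L) ∈ MulAction.fixedPoints P L := fun u => by
    apply Subtype.ext; show tr u (0 : L).1 = (0 : L).1
    ext w; simp [tr]
  have hc₀L : c₀ ∈ L := AddSubgroup.subset_closure ⟨1, by ext w; simp [tr]⟩
  have hdvd : p ∣ Nat.card L := by
    have h1 : addOrderOf (⟨c₀, hc₀L⟩ : L) = p := by
      refine addOrderOf_eq_prime (Subtype.ext (by simpa using hpc c₀)) ?_
      intro h; exact hc0 (congrArg Subtype.val h)
    rw [← h1]; exact addOrderOf_dvd_natCard _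
  obtain ⟨b, hb, hb0⟩ := hP.exists_fixed_point_of_prime_dvd_card_of_fixed_point L hdvd hz
  have hconst : (b : P → κ) = fun _ => (b : P → κ) 1 := by
    ext w
    have := congrFun (congrArg Subtype.val (hb w)) w
    change tr w b.1 w = b.1 w at this
    simpa [tr] using this.symm
  have hb1 : (b : P → κ) 1 ≠ 0 := by
    intro h
    apply hb0
    apply Subtype.ext
    rw [hconst, h]; rfl
  have h0 := hφ b.1 (hLK _ b.2)
  rw [hconst, show (fun _ : P => (b : P → κ) 1) = (b : P → κ) 1 • (fun _ : P => (1 : κ)) from by ext; simp,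
    map_smul] at h0
  exact (smul_eq_zero.mp h0).resolve_left hb1

/-- Conjugates of a matrix under a p-group, with at most as many dimensions as elements. -/
private lemma trace_scalar [Finite P] {p : ℕ} [Fact p.Prime] (hP : IsPGroup p P) (hκ : (p : κ) = 0)
    {n : ℕ} (hn : n * n ≤ Nat.card P) (S : P →* Matrix (Fin n) (Fin n) κ) (W : Matrix (Fin n) (Fin n) κ)
    [Fintype P] (hY : ∑ u : P, S u * W * S u⁻¹ ≠ 0) :
    ∃ c : κ, c ≠ 0 ∧ ∑ u : P, S u * W * S u⁻¹ = c • 1 := by
  classical
  let b : P → Matrix (Fin n) (Fin n) κ := fun u => S u * W * S u⁻¹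
  let φ : (P → κ) →ₗ[κ] Matrix (Fin n) (Fin n) κ := Fintype.linearCombination κ b
  have hinv : ∀ (v : P) (c : P → κ), φ (fun w => c (v⁻¹ * w)) = S v * φ c * S v⁻¹ := by
    intro v c
    simp only [φ, Fintype.linearCombination_apply, Finset.mul_sum, Finset.sum_mul]
    rw [← Equiv.sum_comp (Equiv.mulLeft v)]
    refine Finset.sum_congr rfl fun u _ => ?_
    simp [b, mul_assoc]
  have hli : LinearIndependent κ b := by
    rw [linearIndependent_iff_ker]
    by_contra hne
    have hker : LinearMap.ker φ ≠ ⊥ := by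
      intro h
      apply hne
      rw [eq_bot_iff]
      intro l hl
      have h1 : (Finsupp.equivFunOnFinite l : P → κ) ∈ LinearMap.ker φ := by
        rw [LinearMap.mem_ker] at hl ⊢
        rw [Finsupp.linearCombination_apply] at hl
        rw [← hl]
        simp only [φ, Fintype.linearCombination_apply]
        rw [Finsupp.sum_fintype _ _ (fun i => zero_smul κ (b i))]
        rfl
      rw [h, Submodule.mem_bot] at h1
      rw [Submodule.mem_bot]
      ext u
      exact congrFun h1 u
    apply hY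
    have h1 := const_relation hP hκ (LinearMap.ker φ) (fun c hc v => by
      rw [LinearMap.mem_ker] at hc ⊢
      rw [hinv, hc, mul_zero, zero_mul]) hker φ (fun c hc => LinearMap.mem_ker.mp hc)
    simpa [φ, Fintype.linearCombination_apply, b] using h1
  have hle := hli.fintype_card_le_finrank
  rw [Module.finrank_matrix, Module.finrank_self, Fintype.card_fin, mul_one, ← Nat.card_eq_fintype_card] at hle
  have hspan : Submodule.span κ (Set.range b) = ⊤ := by
    have h1 : Module.finrank κ (Submodule.span κ (Set.range b)) = Fintype.card P := finrank_span_eq_card hli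
    apply Submodule.eq_top_of_finrank_eq
    rw [h1, Module.finrank_matrix, Module.finrank_self, Fintype.card_fin, mul_one,
      ← Nat.card_eq_fintype_card]
    omega
  have h1m : (1 : Matrix (Fin n) (Fin n) κ) ∈ Submodule.span κ (Set.range b) := by rw [hspan]; trivial
  obtain ⟨c, hc⟩ := (Submodule.mem_span_range_iff_exists_fun κ).mp h1m
  have hφc : φ c = 1 := by simpa [φ, Fintype.linearCombination_apply] using hc
  have hconst : ∀ v w, c (v⁻¹ * w) = c w := by
    intro v
    have h2 : φ (fun w => c (v⁻¹ * w)) = φ c := by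
      rw [hinv, hφc, mul_one, ← map_mul, mul_inv_cancel, map_one]
    exact congrFun (hli.fintypeLinearCombination_injective h2)
  have hc1 : c = c 1 • (fun _ : P => (1 : κ)) := by
    ext w
    have := hconst w w
    rw [inv_mul_cancel] at this
    simp [this]
  rw [hc1, map_smul] at hφc
  have hY' : φ (fun _ : P => (1 : κ)) = ∑ u : P, S u * W * S u⁻¹ := by
    simp [φ, Fintype.linearCombination_apply, b]
  rw [hY'] at hφc
  have hne : c 1 ≠ 0 := by
    intro h
    rw [h, zero_smul] at hφc
    apply hY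
    calc ∑ u : P, S u * W * S u⁻¹ = (∑ u : P, S u * W * S u⁻¹) * 1 := (mul_one _).symm
      _ = 0 := by rw [← hφc, mul_zero]
  exact ⟨(c 1)⁻¹, inv_ne_zero hne, by rw [← hφc, smul_smul, inv_mul_cancel₀ hne, one_smul]⟩

end Fixed

section Integral

variable {G : Type*} [Group G] [Finite G] {n : ℕ}

private lemma exists_integral (R : G →* Matrix (Fin n) (Fin n) ℂ) (O : ValuationSubring ℂ) :
    ∃ B : Matrix (Fin n) (Fin n) ℂ, IsUnit B.det ∧ ∀ g i j, (B⁻¹ * R g * B) i j ∈ O := by
  classical
  haveI := Fintype.ofFinite G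
  let col : G × Fin n → (Fin n → ℂ) := fun s i => R s.1 i s.2
  let M : (Fin n → G × Fin n) → Matrix (Fin n) (Fin n) ℂ := fun f => Matrix.of fun i j => col (f j) i
  obtain ⟨f, -, hf⟩ := Finset.exists_max_image (Finset.univ : Finset (Fin n → G × Fin n))
    (fun f => O.valuation (M f).det) ⟨fun j => (1, j), Finset.mem_univ _⟩
  have h1 : M (fun j => (1, j)) = 1 := by
    ext i j; simp [M, col, Matrix.one_apply]
  have hdet : (M f).det ≠ 0 := by
    intro h
    have := hf (fun j => (1, j)) (Finset.mem_univ _)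
    rw [h1, h, Matrix.det_one, map_zero, map_one] at this
    exact not_lt.mpr this zero_lt_one
  have hu : IsUnit (M f).det := isUnit_iff_ne_zero.mpr hdet
  refine ⟨M f, hu, fun g i j => ?_⟩
  set s : G × Fin n := (g * (f j).1, (f j).2) with hs
  have hcol : ((M f)⁻¹ * R g * M f) i j = ((M f)⁻¹ *ᵥ col s) i := by
    have h2 : col s = fun k => (R g * M f) k j := by
      ext k
      simp [col, s, M, map_mul, Matrix.mul_apply]
    rw [h2, mul_assoc]
    rfl
  have hup : (M f).updateCol i (col s) = M (Function.update f i s) := by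
    ext a b
    by_cases hb : b = i
    · subst hb; simp [M]
    · simp [M, Matrix.updateCol_ne hb, Function.update_of_ne hb]
  have hcr : (M (Function.update f i s)).det = (M f).det * ((M f)⁻¹ *ᵥ col s) i := by
    rw [← hup, ← Matrix.cramer_apply, Matrix.cramer_eq_adjugate_mulVec, Matrix.inv_def, Matrix.smul_mulVec,
      Pi.smul_apply, smul_eq_mul, Ring.inverse_eq_inv', ← mul_assoc, mul_inv_cancel₀ hdet, one_mul]
  rw [hcol, ← O.valuation_le_one_iff]
  have h3 := hf (Function.update f i s) (Finset.mem_univ _)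
  rw [hcr, map_mul] at h3
  exact le_of_mul_le_mul_left (a := O.valuation (M f).det) (by simpa using h3)
    (zero_lt_iff.mpr ((O.valuation.ne_zero_iff).mpr hdet))

private lemma exists_valuation_over (p : ℕ) [Fact p.Prime] :
    ∃ O : ValuationSubring ℂ, (p : ℂ) ∈ O.nonunits := by
  let A : Subring ℂ := (Int.castRingHom ℂ).range
  have hI : Ideal.span {((p : ℕ) : A)} ≠ ⊤ := by
    rw [Ne, Ideal.span_singleton_eq_top]
    intro h
    obtain ⟨⟨_, a, rfl⟩, ha⟩ := isUnit_iff_exists_inv.mp h
    have h2 := congrArg Subtype.val ha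
    simp only [Subring.coe_mul, Subring.coe_one, SubringClass.coe_natCast, eq_intCast] at h2
    have h3 : (p : ℤ) * a = 1 := by exact_mod_cast h2
    have h4 := Int.isUnit_iff.mp (IsUnit.of_mul_eq_one _ h3)
    have := (Fact.out : p.Prime).two_le
    omega
  obtain ⟨B, -, hB⟩ := Ideal.image_subset_nonunits_valuationSubring _ hI
  exact ⟨B, hB ⟨_, Ideal.subset_span rfl, by simp⟩⟩

variable {p : ℕ} [Fact p.Prime]

private lemma fixed_of_TI (P H : Subgroup G) (hP : IsPGroup p P) (hPH : P ≤ H)
    (hfree : ∀ g : G, g ∉ H → ∀ u ∈ P, g⁻¹ * u * g ∈ H → u = 1)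
    (R₀ : G →* Matrix (Fin n) (Fin n) ℂ) (hn : n * n ≤ Nat.card P) (X₀ : Matrix (Fin n) (Fin n) ℂ)
    (hX₀ : ∀ h ∈ H, R₀ h * X₀ = X₀ * R₀ h) : ∀ g, R₀ g * X₀ = X₀ * R₀ g := by
  classical
  haveI := Fintype.ofFinite G
  haveI := Fintype.ofFinite P
  haveI := Fintype.ofFinite (G ⧸ H)
  obtain ⟨O, hO⟩ := exists_valuation_over p
  obtain ⟨B, hB, hint⟩ := exists_integral R₀ O
  let R : G →* Matrix (Fin n) (Fin n) ℂ :=
    { toFun := fun g => B⁻¹ * R₀ g * B
      map_one' := by rw [map_one, mul_one, Matrix.nonsing_inv_mul _ hB]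
      map_mul' := fun a b => by
        rw [map_mul]
        simp only [mul_assoc]
        rw [← mul_assoc B B⁻¹, Matrix.mul_nonsing_inv _ hB, one_mul] }
  have hR : ∀ g, R g = B⁻¹ * R₀ g * B := fun _ => rfl
  set X := B⁻¹ * X₀ * B with hXdef
  have hconj : ∀ g, (R g * X = X * R g) ↔ R₀ g * X₀ = X₀ * R₀ g := by
    intro g
    have e1 : R g * X = B⁻¹ * (R₀ g * X₀) * B := by
      rw [hR, hXdef]; simp only [mul_assoc]
      rw [← mul_assoc B B⁻¹, Matrix.mul_nonsing_inv _ hB, one_mul]
    have e2 : X * R g = B⁻¹ * (X₀ * R₀ g) * B := by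
      rw [hR, hXdef]; simp only [mul_assoc]
      rw [← mul_assoc B B⁻¹, Matrix.mul_nonsing_inv _ hB, one_mul]
    rw [e1, e2]
    constructor
    · intro h
      have h2 := congrArg (fun Z => B * Z * B⁻¹) h
      simpa [mul_assoc, Matrix.mul_nonsing_inv _ hB, Matrix.mul_nonsing_inv_cancel_left _ _ hB] using h2
    · intro h; rw [h]
  intro g₀
  by_cases hn2 : n ≤ 1
  · haveI : Subsingleton (Fin n) := Fin.subsingleton_iff_le_one.mpr hn2
    ext i j
    simp only [Matrix.mul_apply]
    refine Finset.sum_congr rfl fun k _ => ?_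
    rw [Subsingleton.elim k i, Subsingleton.elim j i, mul_comm]
  rw [← hconj]
  have hX : ∀ h ∈ H, R h * X = X * R h := fun h hh => (hconj h).mpr (hX₀ h hh)
  clear_value R X
  -- average
  let act : G → Matrix (Fin n) (Fin n) ℂ → Matrix (Fin n) (Fin n) ℂ := fun g Z => R g * Z * R g⁻¹
  have hact_mul : ∀ a b Z, act (a * b) Z = act a (act b Z) := by
    intro a b Z; simp [act, map_mul, mul_assoc]
  have hRinv : ∀ g, R g⁻¹ * R g = 1 := fun g => by rw [← map_mul, inv_mul_cancel, map_one]
  have hRinv' : ∀ g, R g * R g⁻¹ = 1 := fun g => by rw [← map_mul, mul_inv_cancel, map_one]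
  have hactH : ∀ h ∈ H, ∀ Z, R h * Z = Z * R h → act h Z = Z := by
    intro h _ Z hZ
    show R h * Z * R h⁻¹ = Z
    rw [hZ, mul_assoc, hRinv', mul_one]
  let F : Matrix (Fin n) (Fin n) ℂ → G ⧸ H → Matrix (Fin n) (Fin n) ℂ := fun Z q => act q.out Z
  have hF : ∀ Z, (∀ h ∈ H, R h * Z = Z * R h) → ∀ a : G, ∀ q, act a (F Z q) = F Z (a • q) := by
    intro Z hZ a q
    induction q using QuotientGroup.induction_on with
    | _ s =>
      have key : ∀ s : G, F Z (QuotientGroup.mk s) = act s Z := by
        intro s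
        obtain ⟨h, hh⟩ := QuotientGroup.mk_out_eq_mul H s
        show act (Quotient.out _) Z = _
        rw [hh, hact_mul, hactH h h.2 Z (hZ h h.2)]
      show act a (F Z (QuotientGroup.mk s)) = F Z (QuotientGroup.mk (a * s))
      rw [key, key, hact_mul]
  set m : ℕ := H.index with hm
  have hm0 : (m : ℂ) ≠ 0 := Nat.cast_ne_zero.mpr H.index_ne_zero_of_finite
  set Y := ∑ q, F X q with hYdef
  have hYfix : ∀ a, R a * Y = Y * R a := by
    intro a
    have h1 : act a Y = Y := by
      show R a * (∑ q, F X q) * R a⁻¹ = _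
      rw [Finset.mul_sum, Finset.sum_mul, hYdef, ← Equiv.sum_comp (MulAction.toPerm a) (F X)]
      exact Finset.sum_congr rfl fun q _ => hF X hX a q
    calc R a * Y = R a * Y * (R a⁻¹ * R a) := by rw [hRinv, mul_one]
      _ = act a Y * R a := by simp [act, mul_assoc]
      _ = Y * R a := by rw [h1]
  set X' := X - (m : ℂ)⁻¹ • Y with hX'def
  suffices X' = 0 by
    rw [hX'def, sub_eq_zero] at this
    rw [this, mul_smul_comm, smul_mul_assoc, hYfix]
  have hX' : ∀ h ∈ H, R h * X' = X' * R h := by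
    intro h hh
    rw [hX'def, mul_sub, sub_mul, hX h hh, mul_smul_comm, smul_mul_assoc, hYfix]
  have hsum : ∑ q, F X' q = 0 := by
    have hYq : ∀ q : G ⧸ H, act q.out Y = Y := by
      intro q
      show R q.out * Y * R q.out⁻¹ = Y
      rw [hYfix, mul_assoc, hRinv', mul_one]
    have : ∀ q, F X' q = F X q - (m : ℂ)⁻¹ • Y := by
      intro q
      have := hYq q
      simp only [act] at this
      simp only [F, act, hX'def, mul_sub, sub_mul, mul_smul_comm, smul_mul_assoc, this]
    simp only [this, Finset.sum_sub_distrib, Finset.sum_const, Finset.card_univ, ← Nat.card_eq_fintype_card,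
      ← hYdef]
    rw [← Nat.cast_smul_eq_nsmul ℂ, smul_smul]
    show Y - ((m : ℂ) * (m : ℂ)⁻¹) • Y = 0
    rw [mul_inv_cancel₀ hm0, one_smul, sub_self]
  clear_value X'
  by_contra hne
  -- normalise
  obtain ⟨⟨i₀, j₀⟩, -, hmax⟩ := Finset.exists_max_image (Finset.univ : Finset (Fin n × Fin n))
    (fun ij => O.valuation (X' ij.1 ij.2)) (by
      by_contra h
      apply hne
      ext i j
      exact absurd ⟨(i, j), Finset.mem_univ _⟩ h)
  have ha0 : X' i₀ j₀ ≠ 0 := by
    intro h
    apply hne
    ext i j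
    have := hmax (i, j) (Finset.mem_univ _)
    rw [h, map_zero, le_zero_iff, map_eq_zero] at this
    simpa using this
  set c := (X' i₀ j₀)⁻¹ with hc
  set Z := c • X' with hZdef
  have hZO : ∀ i j, Z i j ∈ O := by
    intro i j
    rw [← O.valuation_le_one_iff, hZdef, Matrix.smul_apply, smul_eq_mul, hc, map_mul, map_inv₀]
    have := hmax (i, j) (Finset.mem_univ _)
    have hpos : O.valuation (X' i₀ j₀) ≠ 0 := O.valuation.ne_zero_iff.mpr ha0
    calc (O.valuation (X' i₀ j₀))⁻¹ * O.valuation (X' i j)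
        ≤ (O.valuation (X' i₀ j₀))⁻¹ * O.valuation (X' i₀ j₀) := by gcongr
      _ = 1 := inv_mul_cancel₀ hpos
  have hZ1 : Z i₀ j₀ = 1 := by rw [hZdef, Matrix.smul_apply, smul_eq_mul, hc, inv_mul_cancel₀ ha0]
  have hRint : ∀ g i j, R g i j ∈ O := by
    intro g i j; rw [hR]; exact hint g i j
  let lift : {M : Matrix (Fin n) (Fin n) ℂ // ∀ i j, M i j ∈ O} → Matrix (Fin n) (Fin n) O :=
    fun M => Matrix.of fun i j => ⟨M.1 i j, M.2 i j⟩
  let ι : Matrix (Fin n) (Fin n) O →+* Matrix (Fin n) (Fin n) ℂ := O.subtype.mapMatrix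
  have ι_inj : Function.Injective ι := fun a b h => by
    ext i j; exact congrFun (congrFun h i) j
  have ι_lift : ∀ M, ι (lift M) = M.1 := fun M => by ext i j; rfl
  let RO : G →* Matrix (Fin n) (Fin n) O :=
    { toFun := fun g => lift ⟨R g, hRint g⟩
      map_one' := ι_inj (by rw [ι_lift, map_one ι]; exact map_one R)
      map_mul' := fun a b => ι_inj (by rw [ι_lift, map_mul ι, ι_lift, ι_lift]; exact map_mul R a b) }
  have hιR : ∀ g, ι (RO g) = R g := fun g => ι_lift _
  let ZO := lift ⟨Z, hZO⟩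
  have hιZ : ι ZO = Z := ι_lift _
  let κ := IsLocalRing.ResidueField O
  let res : Matrix (Fin n) (Fin n) O →+* Matrix (Fin n) (Fin n) κ := (IsLocalRing.residue O).mapMatrix
  have hκ : ((p : ℕ) : κ) = 0 := by
    rw [← map_natCast (IsLocalRing.residue O) p, IsLocalRing.residue_eq_zero_iff]
    have h1 : ((⟨(p : ℂ), natCast_mem O p⟩ : O)) = ((p : ℕ) : O) := by ext; simp
    rw [← h1]
    rw [IsLocalRing.mem_maximalIdeal]
    exact (ValuationSubring.coe_mem_nonunits_iff).mp hO
  -- free orbits
  let one' : G ⧸ H := QuotientGroup.mk 1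
  have hfix1 : ∀ u : P, (u : G) • one' = one' := by
    intro u
    show QuotientGroup.mk ((u : G) * 1) = one'
    rw [QuotientGroup.eq]
    simpa using H.inv_mem (hPH u.2)
  let T := {q : G ⧸ H // q ≠ one'}
  letI : MulAction P T :=
    { smul := fun u q => ⟨(u : G) • q.1, fun h => q.2 (by
        calc q.1 = (u : G)⁻¹ • ((u : G) • q.1) := (inv_smul_smul _ _).symm
          _ = ((u⁻¹ : P) : G) • one' := by rw [h]; rfl
          _ = one' := hfix1 _)⟩
      one_smul := fun q => Subtype.ext (one_smul G q.1)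
      mul_smul := fun u v q => Subtype.ext (mul_smul (u : G) (v : G) q.1) }
  have hT_free : ∀ (u : P) (q : T), u • q = q → u = 1 := by
    rintro u ⟨q, hq⟩ h
    induction q using QuotientGroup.induction_on with
    | _ s =>
      have h1 : QuotientGroup.mk ((u : G) * s) = (QuotientGroup.mk s : G ⧸ H) := congrArg Subtype.val h
      rw [QuotientGroup.eq] at h1
      have hs : s ∉ H := fun hs => hq (by rw [QuotientGroup.eq]; simpa using H.inv_mem hs)
      apply Subtype.ext
      refine hfree s hs u u.2 ?_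
      have := H.inv_mem h1
      simpa [mul_assoc] using this
  haveI := Fintype.ofFinite (Quotient (MulAction.orbitRel P T))
  let e : Quotient (MulAction.orbitRel P T) × P → T := fun x => x.2 • x.1.out
  have he : Function.Bijective e := by
    constructor
    · rintro ⟨a, u⟩ ⟨b, v⟩ h
      change u • a.out = v • b.out at h
      have hab : a = b := by
        rw [← Quotient.out_eq a, ← Quotient.out_eq b, Quotient.eq]
        exact ⟨u⁻¹ * v, by show (u⁻¹ * v) • b.out = a.out; rw [mul_smul, ← h, inv_smul_smul]⟩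
      subst hab
      have : u⁻¹ * v = 1 := hT_free _ a.out (by rw [mul_smul, ← h, inv_smul_smul])
      rw [inv_mul_eq_one] at this
      rw [this]
    · intro q
      obtain ⟨u, hu⟩ := Quotient.eq.mp (Quotient.out_eq (Quotient.mk (MulAction.orbitRel P T) q))
      refine ⟨(Quotient.mk _ q, u⁻¹), ?_⟩
      show u⁻¹ • Quotient.out _ = q
      rw [← hu]; exact inv_smul_smul u q
  -- in matrices over O
  let FO : G ⧸ H → Matrix (Fin n) (Fin n) O := fun q => RO q.out * ZO * RO q.out⁻¹
  have hιF : ∀ q, ι (FO q) = F Z q := by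
    intro q; simp [FO, F, act, hιR, hιZ]
  have hFZ : ∀ q, F Z q = c • F X' q := by
    intro q; simp [F, act, hZdef]
  have hZH : ∀ h ∈ H, R h * Z = Z * R h := by
    intro h hh; rw [hZdef, mul_smul_comm, smul_mul_assoc, hX' h hh]
  let W : Matrix (Fin n) (Fin n) O := -∑ a : Quotient (MulAction.orbitRel P T), FO a.out.1
  have hkey : ZO = ∑ u : P, RO u * W * RO (u⁻¹ : P) := by
    apply ι_inj
    rw [hιZ, map_sum]
    have h1 : ∀ u : P, ι (RO u * W * RO (u⁻¹ : P)) = -∑ a : Quotient (MulAction.orbitRel P T), F Z (u • a.out).1 := by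
      intro u
      simp only [W, map_mul, map_neg, map_sum, hιR, hιF, mul_neg, neg_mul, Finset.mul_sum, Finset.sum_mul]
      congr 1
      refine Finset.sum_congr rfl fun a _ => ?_
      exact hF Z hZH u a.out.1
    simp only [h1, Finset.sum_neg_distrib]
    rw [Finset.sum_comm, ← Fintype.sum_prod_type (f := fun x => F Z (e x).1), he.sum_comp (fun q : T => F Z q.1)]
    have hone : F Z one' = Z := by
      obtain ⟨h, hh⟩ := QuotientGroup.mk_out_eq_mul H (1 : G)
      show act (Quotient.out _) Z = Z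
      rw [hh, one_mul]; exact hactH h h.2 Z (hZH h h.2)
    have htot : ∑ q, F Z q = 0 := by simp only [hFZ, ← Finset.smul_sum, hsum, smul_zero]
    rw [Fintype.sum_eq_add_sum_subtype_ne (fun q => F Z q) one', hone] at htot
    exact eq_neg_of_add_eq_zero_left htot
  -- residue
  let S : P →* Matrix (Fin n) (Fin n) κ := (res.toMonoidHom.comp RO).comp P.subtype
  have hresne : res ZO ≠ 0 := by
    intro h
    have h2 := congrFun (congrFun h i₀) j₀
    have h3 : ZO i₀ j₀ = 1 := by ext; exact hZ1
    change IsLocalRing.residue O (ZO i₀ j₀) = 0 at h2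
    rw [h3, map_one] at h2
    exact one_ne_zero h2
  have hres : res ZO = ∑ u : P, S u * res W * S u⁻¹ := by
    rw [hkey, map_sum]; simp [S]
  obtain ⟨a, ha, hscal⟩ := trace_scalar hP hκ hn S (res W) (by rw [← hres]; exact hresne)
  rw [← hres] at hscal
  -- all conjugates of a scalar agree
  have hsum0 : ∑ q, res (FO q) = 0 := by
    rw [← map_sum]
    have : ∑ q, FO q = 0 := by
      apply ι_inj
      rw [map_sum, map_zero]
      simp only [hιF, hFZ, ← Finset.smul_sum, hsum, smul_zero]
    rw [this, map_zero]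
  have hFq : ∀ q, res (FO q) = a • (1 : Matrix (Fin n) (Fin n) κ) := by
    intro q
    show res (RO q.out * ZO * RO q.out⁻¹) = _
    rw [map_mul, map_mul, hscal, mul_smul_comm, mul_one, smul_mul_assoc, ← map_mul, ← map_mul, mul_inv_cancel, map_one, map_one]
  simp only [hFq, Finset.sum_const, Finset.card_univ, ← Nat.card_eq_fintype_card] at hsum0
  have hcardQ : (Nat.card (G ⧸ H) : κ) = 1 := by
    have h1 : Fintype.card T = Fintype.card (Quotient (MulAction.orbitRel P T)) * Fintype.card P := by
      rw [← Fintype.card_prod]; exact (Fintype.card_of_bijective he).symm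
    have h2 : Fintype.card (G ⧸ H) = Fintype.card T + 1 := by
      simp only [T, Fintype.card_subtype_compl, Fintype.card_subtype_eq]
      have := Fintype.card_pos_iff.mpr ⟨one'⟩
      omega
    have h3 : (Fintype.card P : κ) = 0 := by
      obtain ⟨k, hk⟩ := IsPGroup.iff_card.mp hP
      rw [Nat.card_eq_fintype_card] at hk
      have hk0 : k ≠ 0 := by
        rintro rfl
        rw [pow_zero] at hk
        rw [Nat.card_eq_fintype_card, hk] at hn
        have hn1 : n ≤ 1 := by nlinarith
        exact absurd hn1 hn2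
      rw [hk, Nat.cast_pow, hκ, zero_pow hk0]
    rw [Nat.card_eq_fintype_card, h2, h1, Nat.cast_add, Nat.cast_mul, Nat.cast_one]
    rw [h3]; ring
  rw [← Nat.cast_smul_eq_nsmul κ, hcardQ, one_smul] at hsum0
  apply hresne
  rw [hscal]; exact hsum0

end Integral


/-- Let P be a Sylow p-subgroup of the finite group G that meets each conjugate g P g⁻¹ with g outside N_G(P) trivially, χ a character of G with χ(1)² ≤ |P|, and H a subgroup of G containing N_G(P). Then the inner product of χ with itself over G equals the inner product over H of the restriction of χ to H. -/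
theorem result {G : Type*} [Group G] [Fintype G] [DecidableEq G] (p : ℕ) [Fact p.Prime] (P : Sylow p G) (hTI : ∀ g : G, g ∉ Subgroup.normalizer ((P : Subgroup G) : Set G) → (P : Subgroup G) ⊓ (MulAut.conj g • (P : Subgroup G)) = ⊥) (χ : G → ℂ) (hχ : Cfsg.IsCharacter G χ) (hdeg : Cfsg.charDegree χ ^ 2 ≤ Nat.card ↥(P : Subgroup G)) (H : Subgroup G) [Fintype ↥H] (hH : Subgroup.normalizer ((P : Subgroup G) : Set G) ≤ H) : Cfsg.classInner χ χ = Cfsg.classInner (fun h : ↥H => χ h) (fun h : ↥H => χ h) := by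
  classical
  obtain ⟨k, ρ, rfl⟩ := hχ
  have hdim : Cfsg.charDegree ρ.character = k := by
    simp [Cfsg.charDegree, Representation.char_one]
  rw [hdim, pow_two] at hdeg
  set P' := (P : Subgroup G) with hP'
  have hPH : P' ≤ H := Subgroup.le_normalizer.trans hH
  have hfree : ∀ g : G, g ∉ H → ∀ u ∈ P', g⁻¹ * u * g ∈ H → u = 1 := by
    intro g hg u hu hgu
    have hz : IsPGroup p ↥(Subgroup.zpowers (⟨g⁻¹ * u * g, hgu⟩ : H)) := by
      obtain ⟨a, ha⟩ := P.isPGroup'.exists_orderOf_eq_pow ⟨u, hu⟩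
      refine IsPGroup.of_card (n := a) ?_
      rw [Nat.card_zpowers, ← Subgroup.orderOf_coe]
      show orderOf (g⁻¹ * u * g) = _
      rw [show g⁻¹ * u * g = MulAut.conj g⁻¹ u from by simp, MulEquiv.orderOf_eq, ← ha, ← Subgroup.orderOf_coe]
    obtain ⟨Q, hQ⟩ := hz.exists_le_sylow
    obtain ⟨h, rfl⟩ := MulAction.exists_smul_eq H (P.subtype hPH) Q
    have hu' : (⟨g⁻¹ * u * g, hgu⟩ : H) ∈ ((h • P.subtype hPH : Sylow p H) : Subgroup H) :=
      hQ (Subgroup.mem_zpowers _)
    rw [Sylow.coe_subgroup_smul, Subgroup.mem_pointwise_smul_iff_inv_smul_mem] at hu'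
    have hu'' : (h : G)⁻¹ * (g⁻¹ * u * g) * h ∈ P' := by
      have h2 : _ ∈ (P.subtype hPH : Subgroup H) := hu'
      rw [Sylow.coe_subtype, Subgroup.mem_subgroupOf] at h2
      simpa [MulAut.smul_def, mul_assoc] using h2
    by_contra hu1
    have hgh : g * h ∈ Subgroup.normalizer (P' : Set G) := by
      by_contra hn'
      have h3 := hTI _ hn'
      have h4 : u ∈ P' ⊓ MulAut.conj (g * (h : G)) • P' := by
        refine ⟨hu, ?_⟩
        show u ∈ MulAut.conj (g * (h : G)) • P'
        rw [Subgroup.mem_pointwise_smul_iff_inv_smul_mem]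
        simpa [MulAut.smul_def, mul_assoc] using hu''
      rw [h3] at h4
      exact hu1 h4
    exact hg (by simpa using H.mul_mem (hH hgh) (H.inv_mem h.2))
  let R : G →* Matrix (Fin k) (Fin k) ℂ :=
    (LinearMap.toMatrixAlgEquiv' (R := ℂ) (n := Fin k)).toRingEquiv.toRingHom.toMonoidHom.comp ρ
  let ρH : Representation ℂ H (Fin k → ℂ) := ρ.comp H.subtype
  have e1 : (fun h : H => ρ.character h) = ρH.character := rfl
  rw [e1, Cfsg.Agent.Char.classInner_character_eq_finrank, Cfsg.Agent.Char.classInner_character_eq_finrank]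
  congr 1
  refine LinearEquiv.finrank_eq
    { toFun := fun f => ⟨f.toLinearMap, fun h => f.isIntertwining' (h : G)⟩
      invFun := fun f => ⟨f.toLinearMap, fun g => ?_⟩
      map_add' := fun a b => rfl
      map_smul' := fun a b => rfl
      left_inv := fun f => rfl
      right_inv := fun f => rfl }
  have hc : ∀ h ∈ H, R h * LinearMap.toMatrixAlgEquiv' f.toLinearMap = LinearMap.toMatrixAlgEquiv' f.toLinearMap * R h := by
    intro h hh
    show LinearMap.toMatrixAlgEquiv' (ρ h) * _ = _ * LinearMap.toMatrixAlgEquiv' (ρ h)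
    rw [← map_mul, ← map_mul]
    exact congrArg _ (f.isIntertwining' ⟨h, hh⟩).symm
  have := fixed_of_TI P' H P.isPGroup' hPH hfree R hdeg _ hc g
  change LinearMap.toMatrixAlgEquiv' (ρ g) * _ = _ * LinearMap.toMatrixAlgEquiv' (ρ g) at this
  rw [← map_mul, ← map_mul] at this
  exact (LinearMap.toMatrixAlgEquiv'.injective this).symm

end Cfsg.Agent.S4750
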