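import Cfsg.Statements.S4751
import Cfsg.Agent.BlockChar.RootUnityS4
-- import your own Cfsg.Agent.* helpers here

set_option autoImplicit false
open Cfsg

namespace Cfsg.Agent.S4751

/-- Let χ be a faithful, non-linear irreducible character of the finite group G (χ g = χ 1 only for g = 1, χ 1 ≠ 1) whose value at every element of order divisible by p is a root of unity, and suppose P = O_p(G) ≠ 1. Then either P is an elementary abelian Sylow p-subgroup of G, C_G(P) is the internal direct product of P and Z(G), G acts transitively by conjugation on the non-principal linear characters of P, and χ 1 = |P| − 1; or p = 2 and G is the internal direct product of a subgroup isomorphic to the symmetric group S₄ and the centre Z(G), which has odd order. -/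
theorem result {G : Type*} [Group G] [Finite G] (p : ℕ) [Fact p.Prime] (χ : Cfsg.IrrCharacter G) (hfaith : ∀ g : G, (χ : G → ℂ) g = (χ : G → ℂ) 1 → g = 1) (hnl : (χ : G → ℂ) 1 ≠ 1) (hroot : ∀ g : G, p ∣ orderOf g → ∃ n : ℕ, 0 < n ∧ ((χ : G → ℂ) g) ^ n = 1) (hP : Cfsg.pCore p G ≠ ⊥) : ((Nat.card ↥(Cfsg.pCore p G)).factorization p = (Nat.card G).factorization p ∧ Cfsg.IsElementaryAbelian p (Cfsg.pCore p G) ∧ Subgroup.centralizer ((Cfsg.pCore p G : Subgroup G) : Set G) = Cfsg.pCore p G ⊔ Subgroup.center G ∧ Cfsg.pCore p G ⊓ Subgroup.center G = ⊥ ∧ (∀ lam mu : ↥(Cfsg.pCore p G) → ℂ, Cfsg.IsCharacter ↥(Cfsg.pCore p G) lam → lam 1 = 1 → lam ≠ (fun _ => (1 : ℂ)) → Cfsg.IsCharacter ↥(Cfsg.pCore p G) mu → mu 1 = 1 → mu ≠ (fun _ => (1 : ℂ)) → ∃ g : G, ∀ (x : G) (hx : x ∈ Cfsg.pCore p G) (hgx : g * x * g⁻¹ ∈ Cfsg.pCore p G), mu ⟨x, hx⟩ = lam ⟨g * x * g⁻¹, hgx⟩) ∧ (χ : G → ℂ) 1 = (Nat.card ↥(Cfsg.pCore p G) : ℂ) - 1) ∨ (p = 2 ∧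 Odd (Nat.card ↥(Subgroup.center G)) ∧ ∃ H : Subgroup G, Nonempty (↥H ≃* Equiv.Perm (Fin 4)) ∧ H ⊓ Subgroup.center G = ⊥ ∧ H ⊔ Subgroup.center G = ⊤) := by
  classical
  letI := Fintype.ofFinite G
  have hPp : IsPGroup p (Cfsg.pCore p G) := Cfsg.Agent.Core.pCore_isPGroup
  haveI : (Cfsg.pCore p G).Normal := inferInstance
  letI := Fintype.ofFinite ↥(Cfsg.pCore p G)
  have h : Cfsg.Agent.RootUnity.Hyp p χ := ⟨hfaith, hnl, hroot⟩
  have D := Cfsg.Agent.RootUnity.exists_data h hPp hP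
  by_cases hout : ∀ g : G, (∃ k, orderOf g = p ^ k) → g ∈ Cfsg.pCore p G
  · left
    refine ⟨?_, Cfsg.Agent.RootUnity.elementary h hPp D,
      Cfsg.Agent.RootUnity.centralizer_eq h hPp D,
      Cfsg.Agent.RootUnity.inf_center h hPp D, ?_, ?_⟩
    · obtain ⟨S⟩ : Nonempty (Sylow p G) := inferInstance
      have hle : (S : Subgroup G) ≤ Cfsg.pCore p G := fun x hx => by
        obtain ⟨k, hk⟩ := IsPGroup.iff_orderOf.1 S.2 ⟨x, hx⟩
        rw [Subgroup.orderOf_mk] at hk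
        exact hout x ⟨k, hk⟩
      rw [S.3 hPp hle, S.card_eq_multiplicity]
      rw [Nat.Prime.factorization_pow (Fact.out : p.Prime), Finsupp.single_eq_same]
    · intro lam mu hlam hlam1 hlam0 hmu hmu1 hmu0
      obtain ⟨l, rfl⟩ := Cfsg.Agent.Char.IsChar.exists_hom hlam hlam1
      obtain ⟨m, rfl⟩ := Cfsg.Agent.Char.IsChar.exists_hom hmu hmu1
      obtain ⟨g, hg⟩ := D.trans l m (fun e => hlam0 (by rw [e]; rfl)) (fun e => hmu0 (by rw [e]; rfl))
      exact ⟨g, fun x hx hgx => by rw [← hg]; rfl⟩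
    · rw [D.deg, Nat.cast_sub Nat.card_pos, Nat.cast_one]
  · right
    push Not at hout
    obtain ⟨g, hg, hgP⟩ := hout
    obtain ⟨rfl, hq, t, ht, htP, ht2⟩ := Cfsg.Agent.RootUnity.cases_outside h hPp D hg hgP
    exact ⟨rfl, Cfsg.Agent.RootUnity.octahedral h hPp D hq ht htP ht2⟩

end Cfsg.Agent.S4751
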