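import Cfsg.Statements.S4754
import Cfsg.Agent.CharArith.Basic
-- import your own Cfsg.Agent.* helpers here

set_option autoImplicit false
open Cfsg

namespace Cfsg.Agent.S4754

/-- For elements x, y of a finite group G, the conjugacy class of x y equals the set of all products of a conjugate of x with a conjugate of y if and only if χ(1) χ(a x a⁻¹ b y b⁻¹) = χ(x) χ(y) for all a, b ∈ G and every irreducible character χ. -/
theorem result {G : Type*} [Group G] [Finite G] (x y : G) : (∀ z : G, IsConj (x * y) z ↔ ∃ a b : G, z = a * x * a⁻¹ * (b * y * b⁻¹)) ↔ ∀ (a b : G) (χ : Cfsg.IrrCharacter G), (χ : G → ℂ) 1 * (χ : G → ℂ) (a * x * a⁻¹ * (b * y * b⁻¹)) = (χ : G → ℂ) x * (χ : G → ℂ) y := by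
  classical
  have := Fintype.ofFinite G
  constructor
  · intro h a b χ
    have hconst : ∀ c : G, (χ : G → ℂ) (c * x * c⁻¹ * y) = (χ : G → ℂ) (x * y) := by
      intro c
      exact (Char.classFun_isConj (Char.isClassFunction_of_isIrr χ.2)
        ((h _).2 ⟨c, 1, by group⟩)).symm
    have hm := CharArith.classMult χ.2 x y
    simp only [hconst, Finset.sum_const, Finset.card_univ, nsmul_eq_mul] at hm
    rw [← (Char.classFun_isConj (Char.isClassFunction_of_isIrr χ.2) ((h _).2 ⟨a, b, rfl⟩))]
    refine mul_left_cancel₀ (b := _) (Char.card_ne_zero (G := G)) ?_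
    rw [Nat.card_eq_fintype_card] at hm ⊢
    linear_combination hm
  · intro h z
    constructor
    · intro hz
      obtain ⟨g, hg⟩ := isConj_iff.1 hz
      exact ⟨g, g, by rw [← hg]; group⟩
    · rintro ⟨a, b, rfl⟩
      rw [Char.isConj_iff_forall_irr]
      intro χ
      have h1 := h a b χ
      have h2 := h 1 1 χ
      simp only [one_mul, mul_one, inv_one] at h2
      exact mul_left_cancel₀ (Char.IsIrr.one_ne_zero χ.2) (h2.trans h1.symm)

end Cfsg.Agent.S4754
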