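import Cfsg.Statements.S4755
import Cfsg.Agent.CharArith.Basic
import Mathlib.GroupTheory.Abelianization.Defs
-- import your own Cfsg.Agent.* helpers here

set_option autoImplicit false
open Cfsg

namespace Cfsg.Agent.S4755

open scoped commutatorElement in
/-- Let x, y be non-identity elements of the finite group G such that χ(x' y') = χ(x') χ(y') for all conjugates x' of x, y' of y and every irreducible character χ. Then the conjugacy class of x y is the set of all products of a conjugate of x with a conjugate of y; every irreducible character of degree greater than 1 vanishes at x y; and the conjugacy class of x y is the coset of the commutator subgroup containing x y. -/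
theorem result {G : Type*} [Group G] [Finite G] (x y : G) (hx : x ≠ 1) (hy : y ≠ 1) (h : ∀ (a b : G) (χ : Cfsg.IrrCharacter G), (χ : G → ℂ) (a * x * a⁻¹ * (b * y * b⁻¹)) = (χ : G → ℂ) (a * x * a⁻¹) * (χ : G → ℂ) (b * y * b⁻¹)) : (∀ z : G, IsConj (x * y) z ↔ ∃ a b : G, z = a * x * a⁻¹ * (b * y * b⁻¹)) ∧ (∀ χ : Cfsg.IrrCharacter G, (χ : G → ℂ) 1 ≠ 1 → (χ : G → ℂ) (x * y) = 0) ∧ (∀ z : G, IsConj (x * y) z ↔ (x * y)⁻¹ * z ∈ commutator G) := by
  classical
  have := Fintype.ofFinite G
  have hcc : ∀ (a : G) (g : G) (χ : Cfsg.IrrCharacter G), (χ : G → ℂ) (a * g * a⁻¹) = (χ : G → ℂ) g :=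
    fun a g χ => Char.isClassFunction_of_isIrr χ.2 g a
  have hval : ∀ (a b : G) (χ : Cfsg.IrrCharacter G),
      (χ : G → ℂ) (a * x * a⁻¹ * (b * y * b⁻¹)) = (χ : G → ℂ) x * (χ : G → ℂ) y := by
    intro a b χ
    rw [h a b χ, hcc, hcc]
  have hxy : ∀ χ : Cfsg.IrrCharacter G, (χ : G → ℂ) (x * y) = (χ : G → ℂ) x * (χ : G → ℂ) y := by
    intro χ
    simpa using hval 1 1 χ
  have h1 : ∀ z : G, IsConj (x * y) z ↔ ∃ a b : G, z = a * x * a⁻¹ * (b * y * b⁻¹) := by
    intro z
    constructor
    · intro hz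
      obtain ⟨g, hg⟩ := isConj_iff.1 hz
      exact ⟨g, g, by rw [← hg]; group⟩
    · rintro ⟨a, b, rfl⟩
      rw [Char.isConj_iff_forall_irr]
      intro χ
      rw [hxy, hval]
  have h2 : ∀ χ : Cfsg.IrrCharacter G, (χ : G → ℂ) 1 ≠ 1 → (χ : G → ℂ) (x * y) = 0 := by
    intro χ hχ
    have hm := CharArith.classMult χ.2 x y
    have hconst : ∀ c : G, (χ : G → ℂ) (c * x * c⁻¹ * y) = (χ : G → ℂ) (x * y) := by
      intro c
      rw [hxy]
      simpa using hval c 1 χ
    simp only [hconst, Finset.sum_const, Finset.card_univ, nsmul_eq_mul] at hm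
    rw [mul_assoc ((Nat.card G : ℂ)), ← hxy, Nat.card_eq_fintype_card] at hm
    have hcard : (Fintype.card G : ℂ) ≠ 0 := Nat.cast_ne_zero.2 Fintype.card_ne_zero
    have h0 : ((χ : G → ℂ) 1 - 1) * (χ : G → ℂ) (x * y) = 0 := by
      refine mul_left_cancel₀ hcard ?_
      linear_combination hm
    rcases mul_eq_zero.1 h0 with h0 | h0
    · exact absurd (sub_eq_zero.1 h0) hχ
    · exact h0
  refine ⟨h1, h2, fun z => ⟨fun hz => ?_, fun hz => ?_⟩⟩
  · obtain ⟨g, hg⟩ := isConj_iff.1 hz
    rw [← hg]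
    have : (x * y)⁻¹ * (g * (x * y) * g⁻¹) = ⁅(x * y)⁻¹, g⁆ := by
      rw [commutatorElement_def]; group
    rw [this]
    exact Subgroup.commutator_mem_commutator (Subgroup.mem_top _) (Subgroup.mem_top _)
  · by_contra hne
    have hs := Char.second_orthogonality z (x * y)
    rw [if_neg (fun e => hne e.symm)] at hs
    have hs' := Char.second_orthogonality (x * y) (x * y)
    rw [if_pos (IsConj.refl _)] at hs'
    have heq : ∀ χ : Cfsg.IrrCharacter G, (χ : G → ℂ) z * (starRingEnd ℂ) ((χ : G → ℂ) (x * y)) =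
        (χ : G → ℂ) (x * y) * (starRingEnd ℂ) ((χ : G → ℂ) (x * y)) := by
      intro χ
      rcases eq_or_ne ((χ : G → ℂ) 1) 1 with hl | hl
      · congr 1
        let f : G →* ℂ :=
          { toFun := (χ : G → ℂ)
            map_one' := hl
            map_mul' := CharArith.linear_mul (Char.IsIrr.isCharacter χ.2) hl }
        have hker : commutator G ≤ f.toHomUnits.ker := Abelianization.commutator_subset_ker _
        have hk := congrArg Units.val (MonoidHom.mem_ker.1 (hker hz))
        simp only [MonoidHom.coe_toHomUnits, Units.val_one] at hk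
        calc (χ : G → ℂ) z = f ((x * y) * ((x * y)⁻¹ * z)) := by rw [mul_inv_cancel_left]; rfl
          _ = _ := by rw [map_mul, hk, mul_one]; rfl
      · simp [h2 χ hl]
    rw [Finset.sum_congr rfl fun χ _ => heq χ, hs'] at hs
    exact Nat.card_pos.ne' (Nat.cast_eq_zero.1 hs)

end Cfsg.Agent.S4755
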