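import Mathlib
import Cfsg.Statements.S4757
import Cfsg.Agent.Char.Linear
import Cfsg.Agent.Core.PCore

set_option autoImplicit false
open Cfsg

namespace Cfsg.Agent.S4757
open Char in
theorem sum_eq {G : Type*} [Group G] [Fintype G] (u : G) (hu : u ≠ 1) (c : ℂ)
    (hyp : ∀ χ : Cfsg.IrrCharacter G, (χ : G → ℂ) ≠ (fun _ => (1 : ℂ)) →
      ((χ : G → ℂ) 1 - (χ : G → ℂ) u = c ∨ (χ : G → ℂ) u = 0))
    (d : Cfsg.IrrCharacter G → ℕ) (hd : ∀ χ : Cfsg.IrrCharacter G, (χ : G → ℂ) 1 = d χ) :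
    ∃ S : Finset (Cfsg.IrrCharacter G),
      (∀ χ, χ ∈ S ↔ ((χ : G → ℂ) ≠ (fun _ => (1 : ℂ)) ∧ (χ : G → ℂ) u ≠ 0)) ∧
      (∀ χ ∈ S, (χ : G → ℂ) u = (d χ : ℂ) - c) ∧
      (∑ χ ∈ S, (d χ : ℂ) * ((d χ : ℂ) - c) = -1) ∧
      (Nat.card (Subgroup.centralizer ({u} : Set G)) : ℂ) =
        1 + ∑ χ ∈ S, (χ : G → ℂ) u * starRingEnd ℂ ((χ : G → ℂ) u) := by
  classical
  let e : Cfsg.IrrCharacter G := ⟨fun _ => 1, isIrrCharacter_one⟩
  have hne : ∀ χ : Cfsg.IrrCharacter G, χ ≠ e ↔ (χ : G → ℂ) ≠ fun _ => (1 : ℂ) := fun χ =>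
    ⟨fun h h' => h (Subtype.ext h'), fun h h' => h (h' ▸ rfl)⟩
  let S := (Finset.univ.erase e).filter fun χ : Cfsg.IrrCharacter G => (χ : G → ℂ) u ≠ 0
  have hmem : ∀ χ, χ ∈ S ↔ ((χ : G → ℂ) ≠ (fun _ => (1 : ℂ)) ∧ (χ : G → ℂ) u ≠ 0) := fun χ => by
    simp [S, hne χ]
  have hval : ∀ χ ∈ S, (χ : G → ℂ) u = (d χ : ℂ) - c := fun χ hχ => by
    obtain ⟨h1, h2⟩ := (hmem χ).1 hχ
    rcases hyp χ h1 with h | h
    · rw [← hd χ, ← h]; ring
    · exact absurd h h2
  have hsplit : ∀ F : Cfsg.IrrCharacter G → ℂ, (∀ χ : Cfsg.IrrCharacter G, (χ : G → ℂ) u = 0 → F χ = 0) →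
      ∑ χ, F χ = F e + ∑ χ ∈ S, F χ := fun F hF => by
    rw [← Finset.add_sum_erase _ _ (Finset.mem_univ e)]
    congr 1
    refine (Finset.sum_subset (Finset.filter_subset _ _) fun χ hχ hχS => hF χ ?_).symm
    by_contra h
    exact hχS (Finset.mem_filter.2 ⟨hχ, h⟩)
  refine ⟨S, hmem, hval, ?_, ?_⟩
  · have h0 := second_orthogonality (1 : G) u
    rw [if_neg fun h => hu (isConj_one_right.1 h)] at h0
    have h1 := congrArg (starRingEnd ℂ) h0
    simp only [map_sum, map_mul, Complex.conj_conj, map_zero, hd, Complex.conj_natCast] at h1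
    rw [hsplit _ fun χ h => by rw [h, mul_zero]] at h1
    have he : (d e : ℂ) = 1 := by rw [← hd]
    have hS : ∑ χ ∈ S, (d χ : ℂ) * (χ : G → ℂ) u = ∑ χ ∈ S, (d χ : ℂ) * ((d χ : ℂ) - c) :=
      Finset.sum_congr rfl fun χ hχ => by rw [hval χ hχ]
    rw [hS, he, one_mul] at h1
    simp only [e] at h1
    linear_combination h1
  · have h0 := second_orthogonality u u
    rw [if_pos (IsConj.refl u), hsplit _ fun χ h => by rw [h, zero_mul]] at h0
    simpa [e] using h0.symm

open Char in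
theorem c_eq_two_iff {G : Type*} [Group G] [Fintype G] (u : G) (hu : u ≠ 1) (c : ℂ)
    (hyp : ∀ χ : Cfsg.IrrCharacter G, (χ : G → ℂ) ≠ (fun _ => (1 : ℂ)) →
      ((χ : G → ℂ) 1 - (χ : G → ℂ) u = c ∨ (χ : G → ℂ) u = 0)) :
    (commutator G ≠ ⊤ ↔ c = 2) ∧ (c = 2 →
      (∃ f : G →* ℂˣ, (f u : ℂ) = -1) ∧ (commutator G).index = 2 ∧
        Nat.card (Subgroup.centralizer ({u} : Set G)) = 2) := by
  classical
  choose d hd0 hd using fun χ : Cfsg.IrrCharacter G => IsIrr.degree χ.2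
  obtain ⟨S, hmem, hval, hsum, hcent⟩ := sum_eq u hu c hyp d hd
  -- a non-principal linear character has value `1 - c` at `u`
  have hlin : ∀ f : G →* ℂˣ, f ≠ 1 → ∃ χ ∈ S, (χ : G → ℂ) = fun g => (f g : ℂ) := by
    intro f hf
    refine ⟨⟨_, isIrrCharacter_hom f⟩, (hmem _).2 ⟨fun h => hf ?_, Units.ne_zero _⟩, rfl⟩
    exact MonoidHom.ext fun g => Units.ext (congrFun h g)
  have hlinval : ∀ f : G →* ℂˣ, f ≠ 1 → (f u : ℂ) = 1 - c := by
    intro f hf
    obtain ⟨χ, hχ, he⟩ := hlin f hf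
    have h1 := hval χ hχ
    have h2 : (d χ : ℂ) = 1 := by rw [← hd, he]; simp
    rw [he, h2] at h1
    exact h1
  have hex : commutator G ≠ ⊤ → ∃ f : G →* ℂˣ, f ≠ 1 := by
    intro hG
    have h2 : 1 < Nat.card {χ : Cfsg.IrrCharacter G // (χ : G → ℂ) 1 = 1} := by
      have h1 := mt Subgroup.index_eq_one.1 hG
      have h0 : (commutator G).index ≠ 0 := Subgroup.index_ne_zero_of_finite
      rw [card_linear]; omega
    have := Finite.one_lt_card_iff_nontrivial.1 h2
    obtain ⟨χ, hχ⟩ := exists_ne (⟨⟨fun _ => 1, isIrrCharacter_one⟩, rfl⟩ :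
      {χ : Cfsg.IrrCharacter G // (χ : G → ℂ) 1 = 1})
    obtain ⟨f, hf⟩ := IsChar.exists_hom (IsIrr.isCharacter χ.1.2) χ.2
    refine ⟨f, fun h => hχ (Subtype.ext (Subtype.ext ?_))⟩
    rw [hf, h]
    funext g
    simp
  have hbc : commutator G ≠ ⊤ → c = 2 := by
    intro hG
    obtain ⟨f, hf⟩ := hex hG
    have h1 := hlinval f hf
    have hA : c * ((∑ χ ∈ S, d χ : ℕ) : ℂ) = ((1 + ∑ χ ∈ S, d χ ^ 2 : ℕ) : ℂ) := by
      push_cast
      simp only [mul_sub, Finset.sum_sub_distrib, ← Finset.sum_mul] at hsum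
      simp only [pow_two]
      linear_combination -hsum
    set A := ∑ χ ∈ S, d χ
    set B := 1 + ∑ χ ∈ S, d χ ^ 2 with hB
    have hA0 : (A : ℝ) ≠ 0 := fun h => by
      have h' : A = 0 := by exact_mod_cast h
      rw [h', Nat.cast_zero, mul_zero] at hA
      have : B = 0 := by exact_mod_cast hA.symm
      omega
    have hc : c = (((B : ℝ) / A : ℝ) : ℂ) := by
      have : (A : ℂ) ≠ 0 := by exact_mod_cast hA0
      push_cast
      rw [eq_div_iff this, hA]
    have hpos : 0 < (B : ℝ) / A := by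
      refine div_pos ?_ (lt_of_le_of_ne (Nat.cast_nonneg _) hA0.symm)
      exact_mod_cast (show 0 < B by omega)
    have hn : ‖(f u : ℂ)‖ = 1 := Complex.norm_eq_one_of_pow_eq_one
      (n := Nat.card G) (by rw [← Units.val_pow_eq_pow_val, ← map_pow, pow_card_eq_one', map_one,
        Units.val_one]) Nat.card_pos.ne'
    rw [h1, hc, ← Complex.ofReal_one, ← Complex.ofReal_sub, Complex.norm_real,
      Real.norm_eq_abs] at hn
    rcases eq_or_eq_neg_of_abs_eq hn with h | h
    · linarith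
    · rw [hc, show (B : ℝ) / A = 2 by linarith]; norm_num
  have hkey : c = 2 → ∃ f : G →* ℂˣ, f ≠ 1 ∧ ∀ χ ∈ S, (χ : G → ℂ) = fun g => (f g : ℂ) := by
    intro hc
    have hsumZ : ∑ χ ∈ S, (d χ : ℤ) * ((d χ : ℤ) - 2) = -1 := by
      have : ((∑ χ ∈ S, (d χ : ℤ) * ((d χ : ℤ) - 2) : ℤ) : ℂ) = ((-1 : ℤ) : ℂ) := by
        push_cast; rw [← hsum, hc]
      exact_mod_cast this
    have hd2 : ∀ χ ∈ S, d χ ≠ 2 := fun χ hχ h => ((hmem χ).1 hχ).2 (by
      rw [hval χ hχ, h, hc]; norm_num)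
    obtain ⟨χ, hχ, hχ1⟩ : ∃ χ ∈ S, d χ = 1 := by
      by_contra! h
      have : 0 ≤ ∑ χ ∈ S, (d χ : ℤ) * ((d χ : ℤ) - 2) := Finset.sum_nonneg fun χ hχ => by
        have := hd0 χ; have := h χ hχ; have := hd2 χ hχ
        exact mul_nonneg (by positivity) (by omega)
      omega
    obtain ⟨f, hf⟩ := IsChar.exists_hom (IsIrr.isCharacter χ.2) (by rw [hd, hχ1, Nat.cast_one])
    have hfu : ∀ g : G →* ℂˣ, g ≠ 1 → (g u : ℂ) = -1 := fun g hg => by
      rw [hlinval g hg, hc]; norm_num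
    have hf1 : f ≠ 1 := fun h => ((hmem χ).1 hχ).1 (by rw [hf, h]; funext g; simp)
    have huniq : ∀ g : G →* ℂˣ, g ≠ 1 → g = f := by
      intro g hg
      have hff : f * f = 1 := by
        by_contra h
        have h1 := hfu _ h
        rw [MonoidHom.mul_apply, Units.val_mul, hfu f hf1] at h1
        norm_num at h1
      have hgf : g * f = 1 := by
        by_contra h
        have h1 := hfu _ h
        rw [MonoidHom.mul_apply, Units.val_mul, hfu f hf1, hfu g hg] at h1
        norm_num at h1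
      exact mul_right_cancel (hgf.trans hff.symm)
    refine ⟨f, hf1, fun ψ hψ => ?_⟩
    suffices h : ψ = χ by rw [h, hf]
    by_contra hne
    by_cases hψ1 : d ψ = 1
    · obtain ⟨g, hg⟩ := IsChar.exists_hom (IsIrr.isCharacter ψ.2)
        (by rw [hd, hψ1, Nat.cast_one])
      have hg1 : g ≠ 1 := fun h => ((hmem ψ).1 hψ).1 (by rw [hg, h]; funext g; simp)
      exact hne (Subtype.ext (by rw [hg, hf, huniq g hg1]))
    · rw [← Finset.add_sum_erase S _ hχ, hχ1] at hsumZ
      have h3 : (d ψ : ℤ) * ((d ψ : ℤ) - 2) ≤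
          ∑ χ ∈ S.erase χ, (d χ : ℤ) * ((d χ : ℤ) - 2) := by
        refine Finset.single_le_sum
          (f := fun χ : Cfsg.IrrCharacter G => (d χ : ℤ) * ((d χ : ℤ) - 2)) (fun η hη => ?_)
          (Finset.mem_erase.2 ⟨hne, hψ⟩)
        have h1 : d η ≠ 1 := fun h => by
          obtain ⟨g, hg⟩ := IsChar.exists_hom (IsIrr.isCharacter η.2)
            (by rw [hd, h, Nat.cast_one])
          have hg1 : g ≠ 1 := fun h' =>
            ((hmem η).1 (Finset.mem_erase.1 hη).2).1 (by rw [hg, h']; funext g; simp)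
          exact (Finset.mem_erase.1 hη).1 (Subtype.ext (by rw [hg, hf, huniq g hg1]))
        have := hd0 η; have := hd2 η (Finset.mem_erase.1 hη).2
        exact mul_nonneg (by positivity) (by omega)
      have h4 : 3 ≤ (d ψ : ℤ) := by have := hd0 ψ; have := hd2 ψ hψ; omega
      have h5 : (3 : ℤ) * 1 ≤ (d ψ : ℤ) * ((d ψ : ℤ) - 2) :=
        mul_le_mul h4 (by omega) (by norm_num) (by omega)
      push_cast at hsumZ
      omega
  have hcb : c = 2 → commutator G ≠ ⊤ := by
    intro hc hG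
    obtain ⟨f, hf, -⟩ := hkey hc
    exact hf (MonoidHom.ext fun g => hom_commutator_eq_one f (hG ▸ Subgroup.mem_top g))
  refine ⟨⟨hbc, hcb⟩, fun hc => ?_⟩
  obtain ⟨f, hf, hS⟩ := hkey hc
  obtain ⟨χ, hχ, he⟩ := hlin f hf
  have hfu : (f u : ℂ) = -1 := by rw [hlinval f hf, hc]; norm_num
  have hSeq : S = {χ} := Finset.eq_singleton_iff_unique_mem.2
    ⟨hχ, fun ψ hψ => Subtype.ext ((hS ψ hψ).trans he.symm)⟩
  refine ⟨⟨f, hfu⟩, ?_, ?_⟩
  · rw [← card_linear, Nat.card_eq_two_iff]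
    refine ⟨⟨⟨fun _ => 1, isIrrCharacter_one⟩, rfl⟩, ⟨χ, by rw [he]; simp⟩,
      fun h => ((hmem χ).1 hχ).1 (congrArg (fun x => (Subtype.val x).1) h).symm, ?_⟩
    refine Set.eq_univ_of_forall fun ψ => ?_
    by_cases hψ : ((ψ.1 : Cfsg.IrrCharacter G) : G → ℂ) = fun _ => 1
    · exact Or.inl (Subtype.ext (Subtype.ext hψ))
    · refine Or.inr (Subtype.ext ?_)
      obtain ⟨g, hg⟩ := IsChar.exists_hom (IsIrr.isCharacter ψ.1.2) ψ.2
      have : ψ.1 ∈ S := (hmem _).2 ⟨hψ, by rw [hg]; exact Units.ne_zero _⟩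
      rw [hSeq, Finset.mem_singleton] at this
      exact this
  · rw [hSeq, Finset.sum_singleton, he] at hcent
    simp only [hfu] at hcent
    have : (Nat.card (Subgroup.centralizer ({u} : Set G)) : ℂ) = ((2 : ℕ) : ℂ) := by
      rw [hcent]; simp; norm_num
    exact_mod_cast this

theorem odd_commutator {G : Type*} [Group G] [Finite G] {u : G} (hI : (commutator G).index = 2)
    (hC : Nat.card (Subgroup.centralizer ({u} : Set G)) = 2) (huG : u ∉ commutator G)
    (ho : orderOf u = 2) (hz : Subgroup.centralizer ({u} : Set G) = Subgroup.zpowers u) :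
    Odd (Nat.card (commutator G)) := by
  have := Fintype.ofFinite G
  have hsub : {x : G | IsConj u x} ⊆ ((commutator G : Subgroup G) : Set G)ᶜ := by
    intro x hx hxm
    obtain ⟨k, rfl⟩ := isConj_iff.1 hx
    have h1 := (inferInstance : (commutator G).Normal).conj_mem _ hxm k⁻¹
    exact huG (by simpa [mul_assoc] using h1)
  have hmul : Nat.card G = Nat.card (commutator G) * 2 := by
    rw [← hI, Subgroup.card_mul_index]
  have hcl : Nat.card {x : G | IsConj u x} = Nat.card (commutator G) := by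
    have h1 : Nat.card {x : G // IsConj u x} = (Subgroup.centralizer ({u} : Set G)).index :=
      Char.card_isConj_eq_index u
    have h2 := (Subgroup.centralizer ({u} : Set G)).index_mul_card
    rw [hC, hmul] at h2
    exact h1.trans (by omega)
  have heq : {x : G | IsConj u x} = ((commutator G : Subgroup G) : Set G)ᶜ := by
    refine Set.eq_of_subset_of_ncard_le hsub ?_ (Set.toFinite _)
    rw [Set.ncard_compl, ← Nat.card_coe_set_eq, ← Nat.card_coe_set_eq, hcl]
    show Nat.card G - Nat.card (commutator G) ≤ _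
    omega
  have hu2 : u * u = 1 := by rw [← pow_two, ← ho, pow_orderOf_eq_one]
  have hsq : ∀ x : G, x ∉ commutator G → x * x = 1 := by
    intro x hx
    have h1 : x ∈ {x : G | IsConj u x} := by rw [heq]; exact hx
    obtain ⟨k, rfl⟩ := isConj_iff.1 h1
    rw [show k * u * k⁻¹ * (k * u * k⁻¹) = k * (u * u) * k⁻¹ by group, hu2]
    group
  rw [← Nat.not_even_iff_odd, even_iff_two_dvd]
  intro h2
  have := Fact.mk Nat.prime_two
  obtain ⟨a, ha⟩ := exists_prime_orderOf_dvd_card' 2 h2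
  have ha' : orderOf (a : G) = 2 := by rwa [Subgroup.orderOf_coe]
  have haa : (a : G) * a = 1 := by rw [← pow_two, ← ha', pow_orderOf_eq_one]
  have hua : u * a ∉ commutator G := fun h => huG (by
    simpa using (commutator G).mul_mem h ((commutator G).inv_mem a.2))
  have h3 := hsq _ hua
  have h4 : (a : G) * u = u * a := by
    calc (a : G) * u = u * u * ((a : G) * u) * ((a : G) * a) := by rw [hu2, haa, one_mul, mul_one]
      _ = u * (u * a * (u * a)) * a := by group
      _ = u * a := by rw [h3, mul_one]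
  have h5 : (a : G) ∈ Subgroup.centralizer ({u} : Set G) :=
    Subgroup.mem_centralizer_singleton_iff.2 h4
  classical
  rw [hz, mem_zpowers_iff_mem_range_orderOf, ho] at h5
  obtain ⟨k, hk, hka⟩ := Finset.mem_image.1 h5
  rcases Nat.le_one_iff_eq_zero_or_eq_one.1 (Nat.lt_succ_iff.1 (Finset.mem_range.1 hk))
    with rfl | rfl
  · rw [← hka] at ha'; simp at ha'
  · rw [pow_one] at hka; exact huG (hka ▸ a.2)

/-- Let u ≠ 1 be an element of the finite group G and c a complex number such that every non-principal irreducible character χ satisfies χ(1) − χ(u) = c or χ(u) = 0. Then the following are equivalent: (a) u has order 2, G is generated by u together with O(G), the largest normal subgroup of G of odd order, and the centralizer of u is {1, u}; (b) G is not perfect; (c) c = 2. -/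
theorem result {G : Type*} [Group G] [Finite G] (u : G) (hu : u ≠ 1) (c : ℂ) (hyp : ∀ χ : Cfsg.IrrCharacter G, (χ : G → ℂ) ≠ (fun _ => (1 : ℂ)) → ((χ : G → ℂ) 1 - (χ : G → ℂ) u = c ∨ (χ : G → ℂ) u = 0)) : ((orderOf u = 2 ∧ Subgroup.zpowers u ⊔ Cfsg.oddCore G = ⊤ ∧ Subgroup.centralizer ({u} : Set G) = Subgroup.zpowers u) ↔ commutator G ≠ ⊤) ∧ (commutator G ≠ ⊤ ↔ c = 2) := by
  have := Fintype.ofFinite G
  obtain ⟨hbc, hkey⟩ := c_eq_two_iff u hu c hyp
  refine ⟨⟨fun ⟨ho, hsup, _⟩ htop => ?_, fun hG => ?_⟩, hbc⟩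
  · have hle : commutator G ≤ Cfsg.oddCore G := by
      rw [commutator_def, Subgroup.commutator_le]
      intro g _ h _
      rw [← QuotientGroup.eq_one_iff, ← QuotientGroup.mk'_apply, map_commutatorElement,
        commutatorElement_eq_one_iff_mul_comm]
      have hz : ∀ x : G, QuotientGroup.mk' (Cfsg.oddCore G) x ∈
          Subgroup.zpowers (QuotientGroup.mk' (Cfsg.oddCore G) u) := fun x => by
        obtain ⟨y, hy, o, hoo, rfl⟩ :=
          Subgroup.mem_sup_of_normal_right.1 (show x ∈ Subgroup.zpowers u ⊔ Cfsg.oddCore G from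
            hsup ▸ Subgroup.mem_top x)
        obtain ⟨k, rfl⟩ := Subgroup.mem_zpowers_iff.1 hy
        rw [map_mul, map_zpow, QuotientGroup.mk'_apply _ o, (QuotientGroup.eq_one_iff o).2 hoo, mul_one]
        exact Subgroup.zpow_mem_zpowers _ k
      obtain ⟨i, hi⟩ := Subgroup.mem_zpowers_iff.1 (hz g)
      obtain ⟨j, hj⟩ := Subgroup.mem_zpowers_iff.1 (hz h)
      rw [← hi, ← hj, ← zpow_add, ← zpow_add, add_comm]
    have htop' : Cfsg.oddCore G = ⊤ := top_le_iff.1 (htop ▸ hle)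
    have h1 : (Nat.card (Cfsg.oddCore G)).Coprime 2 := Core.coprime_card_pPrimeCore
    rw [htop', Subgroup.card_top] at h1
    have h2 : 2 ∣ Nat.card G := ho ▸ orderOf_dvd_natCard u
    have h3 : Odd (Nat.card G) := Nat.coprime_two_right.1 h1
    exact absurd h2 h3.not_two_dvd_nat
  · obtain ⟨⟨f, hf⟩, hI, hC⟩ := hkey (hbc.1 hG)
    have hmem : u ∈ Subgroup.centralizer ({u} : Set G) :=
      Subgroup.mem_centralizer_singleton_iff.2 rfl
    have ho : orderOf u = 2 := by
      refine orderOf_eq_prime ?_ hu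
      have := pow_card_eq_one' (x := (⟨u, hmem⟩ : Subgroup.centralizer ({u} : Set G)))
      rw [hC] at this
      simpa [Subtype.ext_iff] using this
    have hz : Subgroup.centralizer ({u} : Set G) = Subgroup.zpowers u :=
      (Subgroup.eq_of_le_of_card_ge (Subgroup.zpowers_le.2 hmem)
        (by rw [Nat.card_zpowers, ho, hC])).symm
    have huG : u ∉ commutator G := fun h => by
      rw [Char.hom_commutator_eq_one f h] at hf
      norm_num at hf
    refine ⟨ho, ?_, hz⟩
    have hle : commutator G ≤ Cfsg.oddCore G :=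
      Core.le_pPrimeCore (Nat.coprime_two_right.2 (odd_commutator hI hC huG ho hz))
    refine top_le_iff.1 fun g _ => ?_
    by_cases hg : g ∈ commutator G
    · exact Subgroup.mem_sup_right (hle hg)
    · have h1 : u⁻¹ * g ∈ commutator G := (Subgroup.mul_mem_iff_of_index_two hI).2
        (iff_of_false (fun h => huG (inv_mem_iff.1 h)) hg)
      have h2 := Subgroup.mul_mem_sup (Subgroup.mem_zpowers u) (hle h1)
      rwa [mul_inv_cancel_left] at h2

end Cfsg.Agent.S4757
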