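import Cfsg.Statements.S4759
import Cfsg.Agent.SpinExt.Main
import Cfsg.Agent.Fusion.Extraspecial
import Cfsg.Agent.Palfy.Deg
import Cfsg.Agent.Char.DerivedPrime

set_option autoImplicit false
open Cfsg

namespace Cfsg.Agent.S4759

open Subgroup Cfsg.Agent SpinExt
open scoped commutatorElement

universe u

theorem isEx_of_extraspecial {E : Type u} [Group E] [Finite E] (hE : Cfsg.IsExtraspecial 2 E) :
    ∃ z : E, IsEx z := by
  haveI : Fact (Nat.Prime 2) := ⟨Nat.prime_two⟩
  haveI : Nontrivial (center E) := Finite.one_lt_card_iff_nontrivial.1 (by rw [hE.2]; norm_num)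
  obtain ⟨⟨z, hz⟩, hz1⟩ := exists_ne (1 : center E)
  have hz1' : z ≠ 1 := fun e => hz1 (Subtype.ext e)
  have hzz : z * z = 1 := by rw [← pow_two]; exact Fusion.es_center_pow hE hz
  have hc : ∀ {a : E}, a ∈ center E → a = 1 ∨ a = z := by
    intro a ha
    rw [← Fusion.es_center_zpowers hE hz hz1', Subgroup.mem_zpowers_iff] at ha
    obtain ⟨k, rfl⟩ := ha
    rcases Int.even_or_odd' k with ⟨j, rfl | rfl⟩
    · left; rw [zpow_mul, zpow_two, hzz, one_zpow]
    · right; rw [zpow_add, zpow_one, zpow_mul, zpow_two, hzz, one_zpow, one_mul]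
  refine ⟨z, hz1', hzz, fun a => ?_, fun a b => ?_, fun a ha => hc (mem_center_iff.2 fun b => (ha b).symm)⟩
  · rw [← pow_two]; exact hc (Fusion.es_pow_mem_center hE a)
  · have e : a * b = ⁅a, b⁆ * (b * a) := by rw [commutatorElement_def]; group
    rcases hc (Fusion.es_commutator_mem hE a b) with h1 | h1 <;> rw [h1] at e
    · exact Or.inl (e.trans (one_mul _))
    · exact Or.inr e

theorem isSpin_of_faithful {E : Type u} [Group E] [Finite E] {z : E} (h : IsEx z) {θ : E → ℂ}
    (hirr : Cfsg.IsIrrCharacter E θ) (hf : ∀ e, θ e = θ 1 → e = 1) : IsSpin z (Nat.card E) θ := by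
  classical
  haveI := Fintype.ofFinite E
  have hc := Char.IsIrr.isCharacter hirr
  obtain ⟨d, -, hd⟩ := Char.IsIrr.degree hirr
  obtain ⟨ω, hω⟩ := Char.exists_central_hom hirr
  have hzc : z ∈ center E := mem_center_iff.2 fun b => (h.z_comm b).symm
  have hw2 : (ω ⟨z, hzc⟩ : ℂ) * (ω ⟨z, hzc⟩ : ℂ) = 1 := by
    rw [← Units.val_mul, ← map_mul, show (⟨z, hzc⟩ : center E) * ⟨z, hzc⟩ = 1 from Subtype.ext h.z_sq, map_one]
    rfl
  have hdz : θ z = -(d : ℂ) := by
    have h1 := hω ⟨z, hzc⟩
    rcases mul_self_eq_one_iff.1 hw2 with e | e <;> rw [e] at h1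
    · exact absurd (hf z (h1.trans (mul_one _))) h.z_ne
    · rw [h1, hd, mul_neg_one]
  have hsp : IsSpin z (2 * d * d) θ := ⟨hc, d, hd, hdz, rfl⟩
  refine ⟨hc, d, hd, hdz, ?_⟩
  have hn := (Char.isIrr_iff_norm_one hc).1 hirr
  have hsum : ∑ a : E, θ a * (starRingEnd ℂ) (θ a) = ∑ a ∈ ({1, z} : Finset E), θ a * (starRingEnd ℂ) (θ a) := by
    refine (Finset.sum_subset (Finset.subset_univ _) fun a _ ha => ?_).symm
    rw [hsp.vanish h (fun e => ha (by simpa using h.mem_zpowers.1 e)), zero_mul]
  simp only [classInner] at hn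
  rw [hsum, Finset.sum_pair h.z_ne.symm, hd, hdz, map_neg, map_natCast,
    inv_mul_eq_one₀ (Nat.cast_ne_zero.2 Nat.card_pos.ne')] at hn
  have h2 : (Nat.card E : ℂ) = ((2 * d * d : ℕ) : ℂ) := by rw [hn]; push_cast; ring
  exact (Nat.cast_inj.1 h2).symm

/-- Let G be a finite group that is the semidirect product of a normal extraspecial 2-subgroup E and a complement H acting faithfully on E (no non-identity element of H centralizes E), and suppose H has a normal subgroup K of odd order with [E, K] = E. Then every faithful irreducible character θ of E (there is exactly one) extends to G: some irreducible character of G restricts to θ on E. -/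
theorem result {G : Type*} [Group G] [Finite G] (E H : Subgroup G) [E.Normal] (hE : Cfsg.IsExtraspecial 2 ↥E) (hEH : E ⊓ H = ⊥) (hEHtop : E ⊔ H = ⊤) (hfaith : ∀ h ∈ H, (∀ e ∈ E, h * e = e * h) → h = 1) (K : Subgroup G) (hKH : K ≤ H) (hKn : ∀ h ∈ H, ∀ k ∈ K, h * k * h⁻¹ ∈ K) (hKodd : Odd (Nat.card ↥K)) (hEK : ⁅E, K⁆ = E) (θ : Cfsg.IrrCharacter ↥E) (hθ : ∀ e : ↥E, (θ : ↥E → ℂ) e = (θ : ↥E → ℂ) 1 → e = 1) : ∃ χ : Cfsg.IrrCharacter G, ∀ e : ↥E, (χ : G → ℂ) e = (θ : ↥E → ℂ) e := by
  haveI : Fact (Nat.Prime 2) := ⟨Nat.prime_two⟩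
  obtain ⟨z, h⟩ := isEx_of_extraspecial hE
  have hzfix : ∀ f : MulAut E, f z = z := fun f => by
    rcases h.nd (f z) (fun b => by
      obtain ⟨b, rfl⟩ := f.surjective b
      rw [← map_mul, ← map_mul, h.z_comm b]) with e | e
    · exact absurd (f.injective (e.trans (map_one f).symm)) h.z_ne
    · exact e
  have hspin : IsSpin z (Nat.card E) (θ : E → ℂ) := isSpin_of_faithful h θ.2 hθ
  have hθfix : ∀ (f : MulAut E) (e : E), (θ : E → ℂ) (f e) = (θ : E → ℂ) e := fun f e =>
    (congrFun (IsSpin.eq h hspin (hspin.comp f.toMonoidHom (hzfix f))) e).symm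
  let κ : K →* MulAut E := (MulAut.conjNormal).comp K.subtype
  have hact : Act z κ :=
    { odd := hKodd
      fix_z := fun k => hzfix _
      fpf := fun a ha => by
        have hw : ∀ k b, pr (κ k a) b = pr a b := fun k b => by
          have e : κ k a = κ k a * a⁻¹ * a := (inv_mul_cancel_right _ _).symm
          rw [e, h.pr_mul_left]
          rcases h.mem_zpowers.1 (ha k) with e' | e' <;> rw [e']
          · rw [pr_eq_one.2 (by simp), one_mul]
          · rw [pr_eq_one.2 (h.z_comm b), one_mul]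
        let T : Subgroup G := (({
          carrier := {b | pr a b = 1}
          one_mem' := pr_eq_one.2 (by simp)
          mul_mem' := fun {b b'} (hb : pr a b = 1) (hb' : pr a b' = 1) => by
            show pr a (b * b') = 1
            rw [h.pr_mul_right, hb, hb', one_mul]
          inv_mem' := fun {b} (hb : pr a b = 1) => by
            have h1 := h.pr_mul_right a b b⁻¹
            rw [hb, one_mul, mul_inv_cancel, pr_eq_one.2 (show a * 1 = 1 * a by simp)] at h1
            exact h1.symm } : Subgroup E)).map E.subtype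
        have hle : ⁅E, K⁆ ≤ T := by
          rw [Subgroup.commutator_le]
          intro e he k hk
          refine ⟨⟨e, he⟩ * κ ⟨k, hk⟩ ⟨e⁻¹, inv_mem he⟩, ?_, ?_⟩
          · show pr a _ = 1
            rw [h.pr_mul_right, ← hw ⟨k, hk⟩ (κ ⟨k, hk⟩ ⟨e⁻¹, inv_mem he⟩), pr_map, ← h.pr_mul_right,
              show (⟨e, he⟩ : E) * ⟨e⁻¹, inv_mem he⟩ = 1 from Subtype.ext (mul_inv_cancel e)]
            exact pr_eq_one.2 (by simp)
          · show e * ((MulAut.conjNormal k : MulAut E) ⟨e⁻¹, inv_mem he⟩ : G) = ⁅e, k⁆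
            rw [MulAut.conjNormal_apply, commutatorElement_def]
            simp only [mul_assoc]
        rw [h.mem_zpowers]
        refine h.nd a fun b => pr_eq_one.1 ?_
        obtain ⟨b', hb', e⟩ := (hEK.ge.trans hle) b.2
        exact Subtype.ext e ▸ hb' }
  -- the semidirect decomposition
  let φH : H →* MulAut E := (MulAut.conjNormal).comp H.subtype
  let m : E ⋊[φH] H →* G := SemidirectProduct.lift E.subtype H.subtype fun x => MonoidHom.ext fun e => by
    simp [φH, MulAut.conjNormal_apply]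
  have hmapp : ∀ (e : E) (x : H), m ⟨e, x⟩ = (e : G) * x := fun e x => rfl
  have hminj : Function.Injective m := by
    rw [injective_iff_map_eq_one]
    rintro ⟨e, x⟩ hex
    rw [hmapp] at hex
    have hmem : (e : G) ∈ E ⊓ H := ⟨e.2, by rw [eq_inv_of_mul_eq_one_left hex]; exact H.inv_mem x.2⟩
    rw [hEH, Subgroup.mem_bot] at hmem
    rw [hmem, one_mul] at hex
    exact SemidirectProduct.ext (Subtype.ext hmem) (Subtype.ext hex)
  have hmsurj : Function.Surjective m := by
    rw [← MonoidHom.range_eq_top, ← top_le_iff, ← hEHtop]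
    exact sup_le (fun e he => ⟨SemidirectProduct.inl ⟨e, he⟩, by simp [m]⟩)
      fun x hx => ⟨SemidirectProduct.inr ⟨x, hx⟩, by simp [m]⟩
  have hcardG : Nat.card E * Nat.card H = Nat.card G := by
    rw [← Nat.card_eq_of_bijective m ⟨hminj, hmsurj⟩, SemidirectProduct.card]
  obtain ⟨D⟩ := ProjExt.exists_data θ.2 (fun g n => hθfix (MulAut.conjNormal g) n)
  suffices hsplit : ProjExt.Splits E ⊤ D.f by
    obtain ⟨χ, hχ, hres⟩ := D.exists_extension_of_splits hsplit
    exact ⟨⟨χ, hχ⟩, hres⟩
  refine ProjExt.splits_of_forall_prime D.cocycle.index_mem_splitExp Subgroup.index_ne_zero_of_finite fun p hp _ => ?_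
  haveI : Fact p.Prime := ⟨hp⟩
  let Q : Sylow p H := default
  let φ : (Q : Subgroup H) →* MulAut E := φH.comp (Q : Subgroup H).subtype
  obtain ⟨χ, hχc, hχres⟩ : ∃ χ, IsCharacter (E ⋊[φ] (Q : Subgroup H)) χ ∧
      ∀ e, χ (SemidirectProduct.inl e) = (θ : E → ℂ) e := by
    by_cases hp2 : p = 2
    · subst hp2
      have hC : Cfg z φ κ :=
        { two := Q.isPGroup'
          fix_z := fun x => hzfix _
          act := hact
          norm := fun x k => by
            refine ⟨⟨_, hKn _ x.1.2 _ k.2⟩, ?_⟩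
            show MulAut.conjNormal ((x.1 : H) : G) * MulAut.conjNormal (k : G) = MulAut.conjNormal _ * MulAut.conjNormal ((x.1 : H) : G)
            rw [← map_mul, ← map_mul]
            congr 1
            simp [mul_assoc] }
      obtain ⟨χ, hχ⟩ := SpinExt.main h hC
      exact ⟨χ, hχ.1, fun e => congrFun (IsSpin.eq h hχ.res hspin) e⟩
    · let N := (SemidirectProduct.inl : E →* E ⋊[φ] (Q : Subgroup H)).range
      haveI : N.Normal := by
        show (SemidirectProduct.inl : E →* E ⋊[φ] (Q : Subgroup H)).range.Normal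
        rw [SemidirectProduct.range_inl_eq_ker_rightHom]; infer_instance
      let eN := MonoidHom.ofInjective (SemidirectProduct.inl_injective (φ := φ))
      have hirr : IsIrrCharacter N (fun n => (θ : E → ℂ) (eN.symm n)) :=
        (Char.isIrrCharacter_comp_equiv eN.symm).2 θ.2
      have hcardN : Nat.card N = Nat.card E := (Nat.card_congr eN.toEquiv).symm
      have hidx : N.index = Nat.card (Q : Subgroup H) := by
        have h1 := N.index_mul_card
        rw [hcardN, SemidirectProduct.card, mul_comm (Nat.card E)] at h1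
        exact Nat.eq_of_mul_eq_mul_right Nat.card_pos h1
      have hcop : (Nat.card N).Coprime N.index := by
        obtain ⟨i, hi⟩ := IsPGroup.iff_card.1 hE.1.1
        obtain ⟨j, hj⟩ := IsPGroup.iff_card.1 Q.isPGroup'
        rw [hcardN, hidx, hi, hj]
        exact Nat.Coprime.pow _ _ ((Nat.coprime_primes Nat.prime_two hp).2 (Ne.symm hp2))
      obtain ⟨η, hη, hres⟩ := Palfy.exists_coprime_extension N hirr hcop fun g n => by
        obtain ⟨_, e, rfl⟩ := n
        show (θ : E → ℂ) (eN.symm _) = (θ : E → ℂ) (eN.symm _)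
        rw [show eN.symm ⟨SemidirectProduct.inl e, ⟨e, rfl⟩⟩ = e from eN.symm_apply_eq.2 (Subtype.ext rfl),
          show eN.symm ⟨g * SemidirectProduct.inl e * g⁻¹, _⟩ = g.left * φ g.right e * g.left⁻¹ from
            eN.symm_apply_eq.2 (Subtype.ext (by
              show g * SemidirectProduct.inl e * g⁻¹ = SemidirectProduct.inl (g.left * φ g.right e * g.left⁻¹)
              ext <;> simp [mul_assoc]))]
        rw [Char.isClassFunction_of_isCharacter hspin.1 _ _]
        exact hθfix _ e
      exact ⟨η, Char.IsIrr.isCharacter hη, fun e => (hres ⟨_, e, rfl⟩).trans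
        (congrArg (θ : E → ℂ) (eN.symm_apply_eq.2 (Subtype.ext rfl)))⟩
  let f : E ⋊[φ] (Q : Subgroup H) →* G :=
    m.comp (SemidirectProduct.map (MonoidHom.id E) (Q : Subgroup H).subtype fun _ => rfl)
  have hfinj : Function.Injective f := hminj.comp fun a b e =>
    SemidirectProduct.ext (by simpa using congrArg SemidirectProduct.left e)
      (Subtype.ext (by simpa using congrArg SemidirectProduct.right e))
  let ef := MonoidHom.ofInjective hfinj
  have hEf : E ≤ f.range := fun e he => ⟨SemidirectProduct.inl ⟨e, he⟩, by simp [f, m]⟩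
  have hη : IsCharacter f.range (fun g => χ (ef.symm g)) := Char.isCharacter_comp ef.symm.toMonoidHom hχc
  have hres : ∀ n : E, (fun g : f.range => χ (ef.symm g)) ⟨n, hEf n.2⟩ = (θ : E → ℂ) n := fun n => by
    rw [← hχres n]
    exact congrArg χ (ef.symm_apply_eq.2 (Subtype.ext (show (n : G) = f (SemidirectProduct.inl n) by simp [f, m])))
  refine ⟨f.range.index, D.cocycle.splits_index hEf (D.splits_of_extension hEf hη hres), fun hdvd => ?_⟩
  have h1 := f.range.index_mul_card
  rw [← Nat.card_congr ef.toEquiv, SemidirectProduct.card, ← hcardG, ← (Q : Subgroup H).index_mul_card,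
    mul_left_comm (Nat.card E) (Q : Subgroup H).index] at h1
  rw [Nat.eq_of_mul_eq_mul_right (Nat.mul_pos Nat.card_pos Nat.card_pos) h1] at hdvd
  exact Q.not_dvd_index hdvd

end Cfsg.Agent.S4759
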