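import Cfsg.Statements.S4775
import Cfsg.Agent.Suzuki.DegreeMain
import Cfsg.Agent.Suzuki.Basic
-- import your own Cfsg.Agent.* helpers here

set_option autoImplicit false
open Cfsg
open Cfsg.Agent

universe u v

namespace Cfsg.Agent.S4775
open Cfsg.Agent.Suzuki Cfsg.Agent.Suzuki.Degree Cfsg.Agent.RankOne.Ovoid in
theorem complete_sz {F : Type u} [Field F] [Fintype F] {m : ℕ} (hm : 1 ≤ m)
    (hF : Fintype.card F = 2 ^ (2 * m + 1)) [Fintype (Cfsg.Sz F m)] :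
    Complete (Cfsg.Sz F m) (2 ^ m) := by
  obtain ⟨K₀, t₀, c₀, f₀⟩ := exists_split hm hF
  obtain ⟨Kp, tp, cp, fp⟩ := exists_nonsplit hm hF _ (Set.mem_insert _ _)
  obtain ⟨Km, tm, cm, fm⟩ := exists_nonsplit hm hF _ (Set.mem_insert_of_mem _ rfl)
  obtain ⟨St, hSt⟩ := exists_steinberg hm hF
  set r := 2 ^ m with hr
  have hq : 2 ^ (2 * m + 1) = 2 * r ^ 2 := by rw [hr, ← pow_mul, pow_succ', mul_comm m 2]
  have hR : 2 ^ (m + 1) = 2 * r := by rw [hr, pow_succ']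
  have h2r : 2 ≤ r := by
    calc 2 = 2 ^ 1 := rfl
      _ ≤ r := Nat.pow_le_pow_right (by norm_num) hm
  have hsq : 2 * r ≤ 2 * r ^ 2 := by
    rw [pow_two]
    exact Nat.mul_le_mul_left 2 (Nat.le_mul_self r)
  have hFn : Nat.card F = 2 * r ^ 2 := by rw [Nat.card_eq_fintype_card, hF, hq]
  let one : IrrCharacter (Cfsg.Sz F m) := ⟨_, Char.isIrrCharacter_one⟩
  have D : Data one St r K₀ Kp Km := by
    refine ⟨fun g => rfl, t₀, tp, tm, by omega, by omega, by omega, fun a ha h1 => ?_, fun a ha h1 => ?_,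
      fun a ha h1 => ?_, ?_, ?_⟩
    · rw [hSt, f₀ a ha h1]; norm_num
    · rw [hSt, fp a ha h1]; norm_num
    · rw [hSt, fm a ha h1]; norm_num
    · refine eq_dg ?_
      rw [hSt, MulAction.fixedBy_one_eq_univ, Nat.card_univ, card_ovoid, hF, hq]
      push_cast; ring
    · rw [card_sz hm hF, hFn]
      have h1 : 1 ≤ 2 * r ^ 2 := by omega
      push_cast [h1]
      ring
  refine complete D ?_
  rcases eq_or_lt_of_le hm with h | h
  · exact Or.inl (by rw [hr, ← h]; rfl)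
  · right
    calc 4 = 2 ^ 2 := rfl
      _ ≤ r := Nat.pow_le_pow_right (by norm_num) h

open Cfsg.Agent.Suzuki.Degree in
theorem degrees_iff {S : Type v} [Group S] {T : Type u} [Group T] [Fintype T] (e : S ≃* T) (d : ℕ) :
    d ∈ Cfsg.charDegrees S ↔ ∃ χ : IrrCharacter T, dg χ = d := by
  constructor
  · rintro ⟨χ, rfl⟩
    refine ⟨⟨fun t => (χ : S → ℂ) (e.symm t), (Char.isIrrCharacter_comp_equiv e.symm).2 χ.2⟩, ?_⟩
    rw [← charDegree_eq]
    simp [Cfsg.charDegree]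
  · rintro ⟨χ, rfl⟩
    refine ⟨⟨fun s => (χ : T → ℂ) (e s), (Char.isIrrCharacter_comp_equiv e).2 χ.2⟩, ?_⟩
    rw [← charDegree_eq]
    simp [Cfsg.charDegree]


/-- Let F be a finite field with q = 2^(2m+1) ≥ 8 elements and let S be isomorphic to the Suzuki group over F. Then the vertices of the character degree graph of S are 2 and the primes dividing (q − 1)(q² + 1); the primes dividing (q − 1)(q² + 1) are pairwise adjacent, and 2 is adjacent exactly to the primes dividing q − 1. -/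
theorem result (F : Type*) [Field F] [Fintype F] (m : ℕ) (hm : 1 ≤ m) (q : ℕ) (hq : Fintype.card F = q) (hqm : q = 2 ^ (2 * m + 1)) {S : Type*} [Group S] [Finite S] (hS : Nonempty (S ≃* ↥(Cfsg.Lie.Sz F (2 ^ (m + 1))))) : Cfsg.degreePrimes S = {r : ℕ | r.Prime ∧ (r = 2 ∨ r ∣ (q - 1) * (q ^ 2 + 1))} ∧ ∀ r s : ℕ, (Cfsg.degreeGraph S).Adj r s ↔ (r ≠ s ∧ r.Prime ∧ s.Prime ∧ ((r ∣ (q - 1) * (q ^ 2 + 1) ∧ s ∣ (q - 1) * (q ^ 2 + 1)) ∨ (r = 2 ∧ s ∣ q - 1) ∨ (s = 2 ∧ r ∣ q - 1))) := by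
  obtain ⟨eS⟩ := hS
  have hF : Fintype.card F = 2 ^ (2 * m + 1) := hq.trans hqm
  obtain ⟨eL⟩ := Suzuki.nonempty_equiv hm hF
  letI := Fintype.ofFinite (Cfsg.Sz F m)
  let e : S ≃* Cfsg.Sz F m := eS.trans eL.symm
  obtain ⟨hall, ⟨χE, hE⟩, ⟨χB, hB⟩, ⟨χA, hA⟩, ⟨χS, hSt⟩, ⟨χW, hW⟩⟩ := complete_sz (F := F) hm hF
  set r := 2 ^ m with hr
  have hr2 : 2 ∣ r := dvd_pow_self 2 (by omega)
  have h2r : 2 ≤ r := Nat.le_of_dvd (by positivity) hr2
  have hqr : q = 2 * r ^ 2 := by rw [hqm, hr, ← pow_mul, pow_succ', mul_comm m 2]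
  have hprime2 : ∀ {p : ℕ}, p.Prime → p ∣ r → p = 2 := fun hp h =>
    (Nat.prime_dvd_prime_iff_eq hp Nat.prime_two).1 (hp.dvd_of_dvd_pow h)
  have h2R : (2 * r : ℕ) ≤ 2 * r ^ 2 := by
    rw [pow_two]; exact Nat.mul_le_mul_left 2 (Nat.le_mul_self r)
  set A := 2 * r ^ 2 + 2 * r + 1 with hAdef
  set B := 2 * r ^ 2 - 2 * r + 1 with hBdef
  have hAZ : (A : ℤ) = 2 * (r : ℤ) ^ 2 + 2 * r + 1 := by rw [hAdef]; push_cast; ring
  have hBZ : (B : ℤ) = 2 * (r : ℤ) ^ 2 - 2 * r + 1 := by rw [hBdef]; push_cast [h2R]; ring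
  have hQZ : ((q - 1 : ℕ) : ℤ) = 2 * (r : ℤ) ^ 2 - 1 := by
    have h1 : 1 ≤ 2 * r ^ 2 := by omega
    rw [hqr]; push_cast [h1]; ring
  have hAB : A * B = q ^ 2 + 1 := by
    have h : ((A * B : ℕ) : ℤ) = ((q ^ 2 + 1 : ℕ) : ℤ) := by
      push_cast; rw [hAZ, hBZ, hqr]; push_cast; ring
    exact_mod_cast h
  have hE' : 4 * r ^ 4 + 1 = q ^ 2 + 1 := by rw [hqr]; ring
  have hB' : Suzuki.Degree.dg χB = (q - 1) * B := by
    have h : (Suzuki.Degree.dg χB : ℤ) = (((q - 1) * B : ℕ) : ℤ) := by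
      rw [hB, Nat.cast_mul, hQZ, hBZ]
    exact_mod_cast h
  have hA' : Suzuki.Degree.dg χA = (q - 1) * A := by
    have h : (Suzuki.Degree.dg χA : ℤ) = (((q - 1) * A : ℕ) : ℤ) := by
      rw [hA, Nat.cast_mul, hQZ, hAZ]
    exact_mod_cast h
  have hW' : Suzuki.Degree.dg χW = r * (q - 1) := by
    have h : (Suzuki.Degree.dg χW : ℤ) = ((r * (q - 1) : ℕ) : ℤ) := by
      rw [hW, Nat.cast_mul, hQZ]
    exact_mod_cast h
  have hdeg : ∀ d, d ∈ Cfsg.charDegrees S → ∀ p : ℕ, p.Prime → p ∣ d →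
      p = 2 ∨ p ∣ (q - 1) * (q ^ 2 + 1) := by
    intro d hd p hp hpd
    obtain ⟨χ, rfl⟩ := (degrees_iff e d).1 hd
    rcases hall χ with h | h | h | h | h | h
    · rw [h] at hpd; exact absurd (Nat.dvd_one.1 hpd) hp.ne_one
    · rw [h] at hpd
      refine Or.inl ?_
      rcases hp.dvd_mul.1 hpd with h' | h'
      · exact (Nat.prime_dvd_prime_iff_eq hp Nat.prime_two).1 (hp.dvd_of_dvd_pow (show p ∣ 2 ^ 2 from h'))
      · exact hprime2 hp (hp.dvd_of_dvd_pow h')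
    · rw [h, hE'] at hpd; exact Or.inr (hpd.trans (dvd_mul_left _ _))
    · have : Suzuki.Degree.dg χ = Suzuki.Degree.dg χB := by
        exact_mod_cast h.trans hB.symm
      rw [this, hB'] at hpd
      exact Or.inr (hpd.trans (mul_dvd_mul_left _ (hAB ▸ dvd_mul_left _ _)))
    · have : Suzuki.Degree.dg χ = Suzuki.Degree.dg χA := by
        exact_mod_cast h.trans hA.symm
      rw [this, hA'] at hpd
      exact Or.inr (hpd.trans (mul_dvd_mul_left _ (hAB ▸ dvd_mul_right _ _)))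
    · have : Suzuki.Degree.dg χ = Suzuki.Degree.dg χW := by
        exact_mod_cast h.trans hW.symm
      rw [this, hW'] at hpd
      rcases hp.dvd_mul.1 hpd with h' | h'
      · exact Or.inl (hprime2 hp h')
      · exact Or.inr (h'.trans (dvd_mul_right _ _))
  have hpair : ∀ p s : ℕ, p.Prime → s.Prime → p ≠ s → p * s ∣ r * (q - 1) →
      (p = 2 ∨ p ∣ q - 1) ∧ (s = 2 ∨ s ∣ q - 1) := by
    intro p s hp hs _ h
    exact ⟨(hp.dvd_mul.1 ((dvd_mul_right p s).trans h)).imp_left (hprime2 hp),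
      (hs.dvd_mul.1 ((dvd_mul_left s p).trans h)).imp_left (hprime2 hs)⟩
  have hmem : ∀ χ : IrrCharacter (Cfsg.Sz F m), Suzuki.Degree.dg χ ∈ Cfsg.charDegrees S :=
    fun χ => (degrees_iff e _).2 ⟨χ, rfl⟩
  have hco : ∀ {p s d : ℕ}, p.Prime → s.Prime → p ≠ s → p ∣ d → s ∣ d → p * s ∣ d := fun hp hs hne h1 h2 =>
    ((Nat.coprime_primes hp hs).2 hne).mul_dvd_of_dvd_of_dvd h1 h2
  refine ⟨?_, fun p s => ⟨?_, ?_⟩⟩
  · ext p
    constructor
    · rintro ⟨hp, d, hd, hpd⟩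
      exact ⟨hp, hdeg d hd p hp hpd⟩
    · rintro ⟨hp, h⟩
      refine ⟨hp, ?_⟩
      rcases h with rfl | h
      · exact ⟨_, hmem χW, hW' ▸ hr2.trans (dvd_mul_right _ _)⟩
      · rcases hp.dvd_mul.1 h with h | h
        · exact ⟨_, hmem χW, hW' ▸ h.trans (dvd_mul_left _ _)⟩
        · exact ⟨_, hmem χE, by rw [hE, hE']; exact h⟩
  · rintro ⟨hne, hp, hs, d, hd, hpd⟩
    refine ⟨hne, hp, hs, ?_⟩
    obtain ⟨χ, rfl⟩ := (degrees_iff e d).1 hd
    have h1 := hdeg _ hd p hp ((dvd_mul_right p s).trans hpd)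
    have h2 := hdeg _ hd s hs ((dvd_mul_left s p).trans hpd)
    have key : (p = 2 → s ∣ q - 1) ∧ (s = 2 → p ∣ q - 1) := by
      have hodd : ¬ 2 ∣ (q - 1) := by rw [hqr]; omega
      have hodd' : ¬ 2 ∣ q ^ 2 + 1 := by rw [hqr, mul_pow]; omega
      have hWcase : p * s ∣ r * (q - 1) → (p = 2 → s ∣ q - 1) ∧ (s = 2 → p ∣ q - 1) := fun h => by
        obtain ⟨hA1, hB1⟩ := hpair p s hp hs hne h
        exact ⟨fun h2' => hB1.resolve_left (fun h3 => hne (h2'.trans h3.symm)),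
          fun h2' => hA1.resolve_left (fun h3 => hne (h3.trans h2'.symm))⟩
      have hoddcase : ¬ 2 ∣ Suzuki.Degree.dg χ → (p = 2 → s ∣ q - 1) ∧ (s = 2 → p ∣ q - 1) := fun h =>
        ⟨fun h2' => absurd (h2' ▸ (dvd_mul_right p s).trans hpd) h,
          fun h2' => absurd (h2' ▸ (dvd_mul_left s p).trans hpd) h⟩
      have hoA : ¬ 2 ∣ A := by rw [hAdef]; omega
      have hoB : ¬ 2 ∣ B := by rw [hBdef]; omega
      rcases hall χ with h | h | h | h | h | h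
      · exact hoddcase (by rw [h]; decide)
      · exfalso
        rw [h] at hpd
        have hp2 : ∀ {t : ℕ}, t.Prime → t ∣ 4 * r ^ 4 → t = 2 := fun ht h' => by
          rcases ht.dvd_mul.1 h' with h'' | h''
          · exact (Nat.prime_dvd_prime_iff_eq ht Nat.prime_two).1 (ht.dvd_of_dvd_pow (n := 2) h'')
          · exact hprime2 ht (ht.dvd_of_dvd_pow h'')
        exact hne ((hp2 hp ((dvd_mul_right p s).trans hpd)).trans
          (hp2 hs ((dvd_mul_left s p).trans hpd)).symm)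
      · exact hoddcase (by rw [h, hE']; exact hodd')
      · have e' : Suzuki.Degree.dg χ = Suzuki.Degree.dg χB := by exact_mod_cast h.trans hB.symm
        exact hoddcase (by rw [e', hB', Nat.prime_two.dvd_mul]; tauto)
      · have e' : Suzuki.Degree.dg χ = Suzuki.Degree.dg χA := by exact_mod_cast h.trans hA.symm
        exact hoddcase (by rw [e', hA', Nat.prime_two.dvd_mul]; tauto)
      · have e' : Suzuki.Degree.dg χ = Suzuki.Degree.dg χW := by exact_mod_cast h.trans hW.symm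
        rw [e', hW'] at hpd
        exact hWcase hpd
    by_cases hp2 : p = 2
    · exact Or.inr (Or.inl ⟨hp2, key.1 hp2⟩)
    by_cases hs2 : s = 2
    · exact Or.inr (Or.inr ⟨hs2, key.2 hs2⟩)
    exact Or.inl ⟨h1.resolve_left hp2, h2.resolve_left hs2⟩
  · rintro ⟨hne, hp, hs, h⟩
    refine ⟨hne, hp, hs, ?_⟩
    rcases h with ⟨h1, h2⟩ | ⟨rfl, h⟩ | ⟨rfl, h⟩
    · rcases hp.dvd_mul.1 h1 with hp1 | hp1 <;> rcases hs.dvd_mul.1 h2 with hs1 | hs1
      · exact ⟨_, hmem χW, hW' ▸ (hco hp hs hne hp1 hs1).trans (dvd_mul_left _ _)⟩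
      · rw [← hAB] at hs1
        rcases hs.dvd_mul.1 hs1 with hs1 | hs1
        · exact ⟨_, hmem χA, hA' ▸ mul_dvd_mul hp1 hs1⟩
        · exact ⟨_, hmem χB, hB' ▸ mul_dvd_mul hp1 hs1⟩
      · rw [← hAB] at hp1
        rcases hp.dvd_mul.1 hp1 with hp1 | hp1
        · exact ⟨_, hmem χA, by rw [hA', mul_comm p s]; exact mul_dvd_mul hs1 hp1⟩
        · exact ⟨_, hmem χB, by rw [hB', mul_comm p s]; exact mul_dvd_mul hs1 hp1⟩
      · exact ⟨_, hmem χE, by rw [hE, hE']; exact hco hp hs hne hp1 hs1⟩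
    · exact ⟨_, hmem χW, hW' ▸ mul_dvd_mul hr2 h⟩
    · exact ⟨_, hmem χW, by rw [hW', mul_comm p 2]; exact mul_dvd_mul hr2 h⟩

end Cfsg.Agent.S4775
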