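import Cfsg.Statements.S4776
import Cfsg.Agent.Char.RelDegree
-- import your own Cfsg.Agent.* helpers here

set_option autoImplicit false
open Cfsg

namespace Cfsg.Agent.S4776

/-- Let N be a normal subgroup of the finite group G that is not perfect and is contained in the derived subgroup of G. Consider the common-divisor graph on the relative degree set cd(G|N) (the degrees of the irreducible complex characters of G whose kernel does not contain N; two distinct degrees adjacent when they have a common divisor greater than one). Then this graph has at most two connected components; and if a, b ∈ cd(G|N) lie in different components, then one of a, b is coprime to the index m of the derived subgroup of N in N while the other is divisible by every prime divisor of m. -/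
theorem result {G : Type*} [Group G] [Finite G] (N : Subgroup G) [N.Normal] (hN : ⁅N, N⁆ < N) (hNG : N ≤ commutator G) : Nat.card (Cfsg.commonDivisorGraph.induce (Cfsg.relCharDegrees N)).ConnectedComponent ≤ 2 ∧ ∀ (a b : ℕ) (ha : a ∈ Cfsg.relCharDegrees N) (hb : b ∈ Cfsg.relCharDegrees N), ¬ (Cfsg.commonDivisorGraph.induce (Cfsg.relCharDegrees N)).Reachable ⟨a, ha⟩ ⟨b, hb⟩ → (Nat.Coprime a (⁅N, N⁆.relIndex N) ∧ ∀ r : ℕ, r.Prime → r ∣ ⁅N, N⁆.relIndex N → r ∣ b) ∨ (Nat.Coprime b (⁅N, N⁆.relIndex N) ∧ ∀ r : ℕ, r.Prime → r ∣ ⁅N, N⁆.relIndex N → r ∣ a) := by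
  classical
  let := Fintype.ofFinite G
  let := Fintype.ofFinite N
  obtain ⟨d₀, hd₀, hcomp⟩ := RelDeg.component_theorem hN hNG
  set Γ := Cfsg.commonDivisorGraph.induce (Cfsg.relCharDegrees N)
  set m := ⁅N, N⁆.relIndex N
  have hm : m ≠ 1 := fun h => hN.not_ge (Subgroup.relIndex_eq_one.1 h)
  have hU : ∀ (x : ↥(Cfsg.relCharDegrees N)), ¬ Γ.Reachable x ⟨d₀, hd₀⟩ →
      ∀ r : ℕ, r.Prime → r ∣ m → r ∣ (x : ℕ) := fun x hx =>
    (hcomp x x.2).resolve_left fun ⟨_, _, h⟩ => hx h
  have hUU : ∀ x y : ↥(Cfsg.relCharDegrees N), ¬ Γ.Reachable x ⟨d₀, hd₀⟩ →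
      ¬ Γ.Reachable y ⟨d₀, hd₀⟩ → Γ.Reachable x y := by
    intro x y hx hy
    obtain ⟨r, hr, hrm⟩ := Nat.exists_prime_and_dvd hm
    obtain ⟨_, _, h⟩ := RelDeg.linked_of_dvd x.2 y.2 hr.ne_one (hU x hx r hr hrm) (hU y hy r hr hrm)
    exact h
  refine ⟨?_, fun a b ha hb hab => ?_⟩
  · let φ : Γ.ConnectedComponent → Bool := fun c => decide (c = Γ.connectedComponentMk ⟨d₀, hd₀⟩)
    refine le_trans (Nat.card_le_card_of_injective φ ?_) (le_of_eq (by simp [Nat.card_eq_fintype_card]))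
    intro c c' h
    obtain ⟨x, rfl⟩ := c.exists_rep
    obtain ⟨y, rfl⟩ := c'.exists_rep
    simp only [φ, decide_eq_decide] at h
    by_cases hx : Γ.connectedComponentMk x = Γ.connectedComponentMk ⟨d₀, hd₀⟩
    · exact hx.trans (h.1 hx).symm
    · exact SimpleGraph.ConnectedComponent.sound (hUU x y
        (fun e => hx (SimpleGraph.ConnectedComponent.sound e))
        (fun e => hx (h.2 (SimpleGraph.ConnectedComponent.sound e))))
  · have key : ∀ x y : ↥(Cfsg.relCharDegrees N), ¬ Γ.Reachable x y → ¬ Γ.Reachable y ⟨d₀, hd₀⟩ →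
        Nat.Coprime x m ∧ ∀ r : ℕ, r.Prime → r ∣ m → r ∣ (y : ℕ) := by
      intro x y hxy hy
      refine ⟨Nat.coprime_of_dvd fun r hr hrx hrm => ?_, hU y hy⟩
      obtain ⟨_, _, h⟩ := RelDeg.linked_of_dvd x.2 y.2 hr.ne_one hrx (hU y hy r hr hrm)
      exact hxy h
    by_cases hb0 : Γ.Reachable ⟨b, hb⟩ ⟨d₀, hd₀⟩
    · exact Or.inr (key ⟨b, hb⟩ ⟨a, ha⟩ (fun h => hab h.symm) fun h => hab (h.trans hb0.symm))
    · exact Or.inl (key ⟨a, ha⟩ ⟨b, hb⟩ hab hb0)

end Cfsg.Agent.S4776
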