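import Cfsg.Statements.S4779
import Cfsg.Agent.Char.RelDegreeShape

set_option autoImplicit false
open Cfsg

namespace Cfsg.Agent.S4779

/-- Let N be a solvable normal subgroup of the finite group G contained in the derived subgroup of G, and consider the common-divisor graph on the relative degree set cd(G|N) (degrees of irreducible complex characters of G whose kernel does not contain N, two distinct degrees adjacent when not coprime). If this graph has two vertices that are not joined by any path, then there is a vertex a₀ such that any two distinct vertices in the component of a₀ are adjacent, and any two distinct vertices outside that component are adjacent or have a common neighbour (one component is complete, the other has diameter at most 2). -/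
theorem result {G : Type*} [Group G] [Finite G] (N : Subgroup G) [N.Normal] [Group.IsSolvable N] (hNG : N ≤ commutator G) (hdisc : ¬ (Cfsg.commonDivisorGraph.induce (Cfsg.relCharDegrees N)).Preconnected) : ∃ a₀ : ↥(Cfsg.relCharDegrees N), (∀ b c : ↥(Cfsg.relCharDegrees N), (Cfsg.commonDivisorGraph.induce (Cfsg.relCharDegrees N)).Reachable a₀ b → (Cfsg.commonDivisorGraph.induce (Cfsg.relCharDegrees N)).Reachable a₀ c → b ≠ c → (Cfsg.commonDivisorGraph.induce (Cfsg.relCharDegrees N)).Adj b c) ∧ (∀ b c : ↥(Cfsg.relCharDegrees N), ¬ (Cfsg.commonDivisorGraph.induce (Cfsg.relCharDegrees N)).Reachable a₀ b → ¬ (Cfsg.commonDivisorGraph.induce (Cfsg.relCharDegrees N)).Reachable a₀ c → b ≠ c → (Cfsg.commonDivisorGraph.induce (Cfsg.relCharDegrees N)).Adj b c ∨ ∃ d : ↥(Cfsg.relCharDegrees N), (Cfsg.commonDivisorGraph.induce (Cfsg.relCharDegrees N)).Adj b d ∧ (Cfsg.commonDivisorGraph.induce (Cfsg.relCharDegrees N)).Adj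 d c) := by
  classical
  let := Fintype.ofFinite G
  let := Fintype.ofFinite N
  let := Fintype.ofFinite ↥⁅N, N⁆
  set Γ := Cfsg.commonDivisorGraph.induce (Cfsg.relCharDegrees N)
  set m := ⁅N, N⁆.relIndex N
  obtain ⟨x, y, hxy⟩ : ∃ x y, ¬ Γ.Reachable x y := by
    simpa [SimpleGraph.Preconnected] using hdisc
  have hNne : N ≠ ⊥ := by
    intro h
    obtain ⟨χ, ⟨z, hz, hne⟩, -⟩ := x.2
    rw [h, Subgroup.mem_bot] at hz
    exact hne (by rw [hz])
  have lt_of_solvable : ∀ K : Subgroup G, K ≤ N → K ≠ ⊥ → ⁅K, K⁆ < K := by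
    intro K hK hne
    haveI : Group.IsSolvable K :=
      Group.isSolvable_of_isSolvable_injective (Subgroup.inclusion_injective hK)
    haveI : Nontrivial K := (Subgroup.nontrivial_iff_ne_bot K).2 hne
    refine lt_of_le_of_ne (Subgroup.commutator_le_self K) fun h => ?_
    refine (Group.IsSolvable.commutator_lt_top_of_nontrivial K).ne ?_
    refine Subgroup.map_injective K.subtype_injective ?_
    rw [Subgroup.map_subtype_commutator, ← MonoidHom.range_eq_map, Subgroup.range_subtype, h]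
  have hN := lt_of_solvable N le_rfl hNne
  obtain ⟨d₀, hd₀, hcomp⟩ := RelDeg.component_theorem hN hNG
  set z₀ : ↥(Cfsg.relCharDegrees N) := ⟨d₀, hd₀⟩
  obtain ⟨a₀, ha₀⟩ : ∃ a₀, ¬ Γ.Reachable a₀ z₀ := by
    by_contra! h
    exact hxy ((h x).trans (h y).symm)
  have hm : m ≠ 1 := fun h => hN.not_ge (Subgroup.relIndex_eq_one.1 h)
  have hU : ∀ b, ¬ Γ.Reachable b z₀ → ∀ r : ℕ, r.Prime → r ∣ m → r ∣ (b : ℕ) := fun b hb =>
    (hcomp b b.2).resolve_left fun ⟨_, _, h⟩ => hb h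
  have hadj : ∀ {b c : ↥(Cfsg.relCharDegrees N)}, b ≠ c → ¬ (b : ℕ).Coprime c → Γ.Adj b c := by
    intro b c hbc h
    refine SimpleGraph.induce_adj.2 ⟨fun e => hbc (Subtype.ext e), ?_⟩
    have := Nat.gcd_pos_of_pos_left (c : ℕ) (RelDeg.pos_of_mem b.2)
    have h' : Nat.gcd (b : ℕ) c ≠ 1 := h
    show 1 < Nat.gcd (b : ℕ) c
    omega
  have hreach : ∀ {b c : ↥(Cfsg.relCharDegrees N)}, ¬ (b : ℕ).Coprime c → Γ.Reachable b c := by
    intro b c h
    by_cases hbc : b = c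
    · rw [hbc]
    · exact (hadj hbc h).reachable
  refine ⟨a₀, fun b c hb hc hbc => ?_, fun b c hb hc hbc => ?_⟩
  · obtain ⟨r, hr, hrm⟩ := Nat.exists_prime_and_dvd hm
    exact hadj hbc (RelDeg.not_coprime_of_dvd' hr.ne_one
      (hU b (fun h => ha₀ (hb.trans h)) r hr hrm) (hU c (fun h => ha₀ (hc.trans h)) r hr hrm))
  have hB : ∀ b : ↥(Cfsg.relCharDegrees N), ¬ Γ.Reachable a₀ b → (b : ℕ).Coprime m := fun b hb =>
    Nat.coprime_of_dvd fun r hr hrb hrm =>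
      hb (hreach (RelDeg.not_coprime_of_dvd' hr.ne_one (hU a₀ ha₀ r hr hrm) hrb))
  have key : ∀ d₁ d₂ : ↥(Cfsg.relCharDegrees N), ¬ Γ.Reachable a₀ d₁ → ¬ Γ.Reachable a₀ d₂ →
      ∀ (φ : N → ℂ) (θ : N →* ℂˣ), Cfsg.IsIrrCharacter N φ → φ ≠ 1 → θ ≠ 1 →
        RelDeg.OverDeg φ (d₁ : ℕ) → RelDeg.OverDeg (RelDeg.lf N θ) (d₂ : ℕ) → d₁ ≠ d₂ →
        Γ.Adj d₁ d₂ ∨ ∃ d, Γ.Adj d₁ d ∧ Γ.Adj d d₂ := by
    intro d₁ d₂ h1 h2 φ θ hφ hφ1 hθ ho1 ho2 hne
    rcases RelDeg.near_linear hNG hφ hφ1 hθ ho1 ho2 (hB _ h1) (hB _ h2) with h | ⟨w, hw, hw1, hw2⟩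
    · exact Or.inl (hadj hne h)
    · by_cases e1 : d₁ = ⟨w, hw⟩
      · exact Or.inl (hadj hne (by rw [e1]; exact hw2))
      by_cases e2 : (⟨w, hw⟩ : ↥(Cfsg.relCharDegrees N)) = d₂
      · exact Or.inl (hadj hne (by rw [← e2]; exact hw1))
      exact Or.inr ⟨⟨w, hw⟩, hadj e1 hw1, hadj e2 hw2⟩
  obtain ⟨φ, hφ, hφ1, hob⟩ := RelDeg.mem_overDeg b.2
  obtain ⟨ψ, hψ, hψ1, hoc⟩ := RelDeg.mem_overDeg c.2
  have lin : ∀ {η : N → ℂ}, Cfsg.IsIrrCharacter N η → η ≠ 1 → η 1 = 1 →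
      ∃ θ : N →* ℂˣ, θ ≠ 1 ∧ η = RelDeg.lf N θ := by
    intro η hη hne h1
    obtain ⟨θ, hθ⟩ := Char.IsChar.exists_hom (Char.IsIrr.isCharacter hη) h1
    exact ⟨θ, fun h => hne (by rw [hθ, h]; exact RelDeg.lf_one), hθ⟩
  by_cases hψ' : ψ 1 = 1
  · obtain ⟨θ, hθ, rfl⟩ := lin hψ hψ1 hψ'
    exact key b c hb hc φ θ hφ hφ1 hθ hob hoc hbc
  by_cases hφ' : φ 1 = 1
  · obtain ⟨θ, hθ, rfl⟩ := lin hφ hφ1 hφ'
    rcases key c b hc hb ψ θ hψ hψ1 hθ hoc hob (Ne.symm hbc) with h | ⟨d, h1, h2⟩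
    · exact Or.inl h.symm
    · exact Or.inr ⟨d, h2.symm, h1.symm⟩
  set K := ⁅N, N⁆
  have hKN : K ≤ N := Subgroup.commutator_le_self N
  have hbK := RelDeg.mem_rel_commutator hφ hφ' hob
  have hcK := RelDeg.mem_rel_commutator hψ hψ' hoc
  have hKne : K ≠ ⊥ := by
    intro h
    obtain ⟨χ, ⟨z, hz, hne⟩, -⟩ := hbK
    replace hz : z ∈ K := hz
    rw [h, Subgroup.mem_bot] at hz
    exact hne (by rw [hz])
  have hK := lt_of_solvable K hKN hKne
  obtain ⟨s, hs, hsm⟩ := Nat.exists_prime_and_dvd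
    (fun h => hK.not_ge (Subgroup.relIndex_eq_one.1 h) : ⁅K, K⁆.relIndex K ≠ 1)
  obtain ⟨l, hl⟩ := RelDeg.exists_good hs hsm
  have hdiv : ∀ d : ↥(Cfsg.relCharDegrees N), ¬ Γ.Reachable a₀ d →
      (d : ℕ) ∈ Cfsg.relCharDegrees K → s ∣ (d : ℕ) := by
    intro d hd hdK
    by_contra hsd
    obtain ⟨d₁, hd₁, hL⟩ := RelDeg.linked_good (hKN.trans hNG) hl hdK hsd
    obtain ⟨_, hd₁N, hR⟩ := hL.mono hKN
    obtain ⟨r, hr, hrm, hrd⟩ := RelDeg.exists_prime_over hl.ne hd₁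
    exact hd ((hreach (b := a₀) (c := ⟨d₁, hd₁N⟩)
      (RelDeg.not_coprime_of_dvd' hr.ne_one (hU a₀ ha₀ r hr hrm) hrd)).trans hR.symm)
  exact Or.inl (hadj hbc (RelDeg.not_coprime_of_dvd' hs.ne_one (hdiv b hb hbK) (hdiv c hc hcK)))

end Cfsg.Agent.S4779
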