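import Cfsg.Statements.S4784
import Cfsg.Agent.Char.FS
import Cfsg.Agent.Char.Induced
import Cfsg.Agent.Char.Linear
import Cfsg.Agent.Char.Gen
import Cfsg.Agent.Char.Perm
-- import your own Cfsg.Agent.* helpers here

set_option autoImplicit false
open Cfsg

namespace Cfsg.Agent.S4784

/-- Let H be a subgroup of the finite group G and consider the permutation character of G on the cosets of H (the function induced from the principal character of H). Then exactly one irreducible constituent of it is real-valued with Frobenius–Schur indicator +1 (namely the principal character) if and only if the normal core of H has odd index in G. -/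
theorem result {G : Type*} [Group G] [Fintype G] (H : Subgroup G) : Nat.card {χ : Cfsg.IrrCharacter G // Cfsg.classInner (Cfsg.indFun H (fun _ : H => (1 : ℂ))) (χ : G → ℂ) ≠ 0 ∧ (∀ g : G, (starRingEnd ℂ) ((χ : G → ℂ) g) = (χ : G → ℂ) g) ∧ (Nat.card G : ℂ)⁻¹ * ∑ g : G, (χ : G → ℂ) (g * g) = 1} = 1 ↔ Odd H.normalCore.index := by
  classical

  have hone : Cfsg.IsCharacter H (fun _ : H => (1 : ℂ)) := Cfsg.Agent.Char.isCharacter_one

  let P : G → ℂ := Cfsg.indFun H (fun _ : H => (1 : ℂ))
  have hP : Cfsg.IsCharacter G P := Cfsg.Agent.Char.isCharacter_indFun H hone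
  let one : Cfsg.IrrCharacter G := ⟨_, Cfsg.Agent.Char.isIrrCharacter_one⟩
  have hm : ∀ χ : Cfsg.IrrCharacter G, Cfsg.classInner P (χ : G → ℂ) =
      Cfsg.classInner (fun _ : H => (1 : ℂ)) (fun h : H => (χ : G → ℂ) h) := fun χ =>
    Cfsg.Agent.Char.classInner_indFun_left H _ (Cfsg.Agent.Char.isClassFunction_of_isIrr χ.2)
  have hm1 : Cfsg.classInner P (one : G → ℂ) = 1 := by
    rw [hm]; exact Cfsg.Agent.Char.classInner_irr_self Cfsg.Agent.Char.isIrrCharacter_one
  let Q : Cfsg.IrrCharacter G → Prop := fun χ => Cfsg.classInner P (χ : G → ℂ) ≠ 0 ∧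
    (∀ g : G, (starRingEnd ℂ) ((χ : G → ℂ) g) = (χ : G → ℂ) g) ∧
    (Nat.card G : ℂ)⁻¹ * ∑ g : G, (χ : G → ℂ) (g * g) = 1
  have hQ1 : Q one := ⟨by rw [hm1]; exact one_ne_zero, fun g => map_one _, by
    simp [one, Nat.card_eq_fintype_card]⟩
  show Nat.card {χ // Q χ} = 1 ↔ _
  have hiff : Nat.card {χ // Q χ} = 1 ↔ ∀ χ, Q χ → χ = one := by
    rw [Nat.card_eq_one_iff_unique]
    exact ⟨fun ⟨h, _⟩ χ hχ => congrArg Subtype.val (h.elim ⟨χ, hχ⟩ ⟨one, hQ1⟩),
      fun h => ⟨⟨fun a b => Subtype.ext ((h _ a.2).trans (h _ b.2).symm)⟩, ⟨⟨one, hQ1⟩⟩⟩⟩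
  rw [hiff]
  constructor
  · intro hall
    by_contra hodd
    rw [Nat.not_odd_iff_even, Subgroup.index_eq_card] at hodd
    obtain ⟨t, ht⟩ := exists_prime_orderOf_dvd_card' (G := G ⧸ H.normalCore) 2
      (even_iff_two_dvd.1 hodd)
    obtain ⟨a, rfl⟩ := QuotientGroup.mk_surjective t
    have ha : a ∉ H.normalCore := fun ha => by
      rw [(QuotientGroup.eq_one_iff a).2 ha, orderOf_one] at ht
      exact absurd ht (by norm_num)
    have ha2 : a * a ∈ H.normalCore := by
      rw [← QuotientGroup.eq_one_iff, QuotientGroup.mk_mul, ← sq, ← ht, pow_orderOf_eq_one]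
    obtain ⟨c, hc⟩ : ∃ c : G, c * a * c⁻¹ ∉ H := by
      by_contra! h
      exact ha h
    let S : Finset G := Finset.univ.filter fun s : G => s * s ∈ H
    have hlt : Nat.card H < S.card := by
      rw [Nat.card_eq_fintype_card, ← Fintype.card_coe S]
      refine Fintype.card_lt_of_injective_of_notMem
        (fun h : H => (⟨(h : G), Finset.mem_filter.2 ⟨Finset.mem_univ _, mul_mem h.2 h.2⟩⟩ : S))
        (fun h h' e => Subtype.ext (congrArg (fun z : S => (z : G)) e))
        (b := ⟨c * a * c⁻¹, Finset.mem_filter.2 ⟨Finset.mem_univ _, ?_⟩⟩) ?_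
      · rw [show c * a * c⁻¹ * (c * a * c⁻¹) = c * (a * a) * c⁻¹ by group]
        exact ha2 c
      · rintro ⟨h, e⟩
        have e' : (h : G) = c * a * c⁻¹ := congrArg (fun z : S => (z : G)) e
        exact hc (e' ▸ h.2)
    have hnat : ∀ χ : Cfsg.IrrCharacter G, ∃ k : ℕ, Cfsg.classInner P (χ : G → ℂ) = k :=
      fun χ => Cfsg.Agent.Char.classInner_isCharacter_eq_natCast hP
        (Cfsg.Agent.Char.IsIrr.isCharacter χ.2)
    have hsum : ∑ χ : Cfsg.IrrCharacter G,
        Cfsg.Agent.Char.fsInd (χ : G → ℂ) * Cfsg.classInner P (χ : G → ℂ) =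
        (Nat.card H : ℂ)⁻¹ * (S.card : ℂ) := by
      have h1 : (S.card : ℂ) = ∑ h : H, (Nat.card {s : G // s * s = (h : G)} : ℂ) := by
        rw [Finset.card_eq_sum_card_fiberwise (f := fun s : G => s * s)
          (t := Finset.univ.filter fun g : G => g ∈ H) (fun s hs => Finset.mem_coe.2
            (Finset.mem_filter.2 ⟨Finset.mem_univ _, (Finset.mem_filter.1 hs).2⟩)),
          Finset.sum_subtype (p := fun g : G => g ∈ H) _ (fun g => by simp), Nat.cast_sum]
        refine Finset.sum_congr rfl fun h _ => ?_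
        rw [Nat.card_eq_fintype_card, Fintype.card_subtype]
        congr 2
        ext s
        simp only [S, Finset.mem_filter, Finset.mem_univ, true_and, and_iff_right_iff_imp]
        intro hs
        rw [hs]
        exact h.2
      rw [h1, Finset.sum_congr rfl fun (h : H) _ => Cfsg.Agent.Char.card_sqrt_eq_sum (h : G),
        Finset.sum_comm, Finset.mul_sum]
      refine Finset.sum_congr rfl fun χ _ => ?_
      obtain ⟨k, hk⟩ := hnat χ
      have hk' : Cfsg.classInner P (χ : G → ℂ) =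
          (starRingEnd ℂ) (Cfsg.classInner P (χ : G → ℂ)) := by rw [hk, map_natCast]
      rw [← Finset.mul_sum, mul_left_comm, hk', hm]
      simp [Cfsg.classInner]
    have hone1 : Cfsg.Agent.Char.fsInd (one : G → ℂ) = 1 := hQ1.2.2
    have hle : (∑ χ : Cfsg.IrrCharacter G,
        Cfsg.Agent.Char.fsInd (χ : G → ℂ) * Cfsg.classInner P (χ : G → ℂ)).re ≤ 1 := by
      rw [← Finset.add_sum_erase _ _ (Finset.mem_univ one), hone1, hm1, one_mul, Complex.add_re,
        Complex.re_sum]
      have : ∑ χ ∈ Finset.univ.erase one, (Cfsg.Agent.Char.fsInd (χ : G → ℂ) *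
          Cfsg.classInner P (χ : G → ℂ)).re ≤ 0 := by
        refine Finset.sum_nonpos fun χ hχ => ?_
        obtain ⟨k, hk⟩ := hnat χ
        rcases Cfsg.Agent.Char.fsInd_irr χ with ⟨h0, -⟩ | ⟨h0 | h0, hr⟩
        · simp [h0]
        · rcases eq_or_ne k 0 with rfl | hk0
          · simp [hk]
          · exact absurd (hall χ ⟨by rw [hk]; exact_mod_cast hk0,
              fun g => congrArg (fun ψ : Cfsg.IrrCharacter G => (ψ : G → ℂ) g) hr, h0⟩)
              (Finset.ne_of_mem_erase hχ)
        · simp [h0, hk]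
      simp only [Complex.one_re]
      linarith
    rw [hsum] at hle
    have hcast : ((Nat.card H : ℂ)⁻¹ * (S.card : ℂ)).re = (S.card : ℝ) / (Nat.card H : ℝ) := by
      rw [show ((Nat.card H : ℂ)⁻¹ * (S.card : ℂ)) = (((S.card : ℝ) / (Nat.card H : ℝ) : ℝ) : ℂ) by
        push_cast; rw [div_eq_inv_mul], Complex.ofReal_re]
    rw [hcast, div_le_one (by exact_mod_cast Nat.card_pos)] at hle
    exact absurd (by exact_mod_cast hle : S.card ≤ Nat.card H) (not_le.2 hlt)
  · intro hodd χ ⟨hc, hr, _⟩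
    have hker : ∀ n ∈ H.normalCore, (χ : G → ℂ) n = (χ : G → ℂ) 1 := by
      intro n hn
      refine Cfsg.Agent.Char.IsChar.constituent_kernel hP χ.2 hc ?_
      simp only [P, Cfsg.Agent.Char.indFun_apply]
      congr 1
      refine Finset.sum_congr rfl fun x _ => ?_
      have hx : x⁻¹ * n * x ∈ H := by
        have := hn x⁻¹
        rwa [inv_inv] at this
      have hx1 : x⁻¹ * 1 * x ∈ H := by simp
      rw [Cfsg.Agent.Char.extendByZero_of_mem H _ hx, Cfsg.Agent.Char.extendByZero_of_mem H _ hx1]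
    obtain ⟨φ, hφ, he⟩ := Cfsg.Agent.Char.IsIrr.exists_quotient H.normalCore χ.2 hker
    rw [Subgroup.index_eq_card] at hodd
    have hφ1 := Cfsg.Agent.Char.real_irr_eq_one hodd hφ fun q => by
      obtain ⟨g, rfl⟩ := QuotientGroup.mk_surjective q
      rw [← he]
      exact Complex.conj_eq_iff_im.1 (hr g)
    refine Subtype.ext (funext fun g => ?_)
    rw [he g, hφ1]

end Cfsg.Agent.S4784
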