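import Cfsg.Statements.S4796
import Cfsg.Agent.CharArith.PrimeCodegree
import Mathlib.GroupTheory.SchurZassenhaus
-- import your own Cfsg.Agent.* helpers here

set_option autoImplicit false
open Cfsg

namespace Cfsg.Agent.S4796

/-- Let G be a finite group with a faithful irreducible complex character χ whose codegree #G / χ(1) is a prime p (for a faithful character the kernel is trivial, so the codegree is #G / χ(1)). Then either G is cyclic of order p, or G is a Frobenius group whose Frobenius kernel has order p: some proper non-trivial subgroup H satisfies H ∩ gHg⁻¹ = 1 for every element g outside H, and the set of elements lying in no conjugate of H, together with the identity, has exactly p elements. -/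
theorem result {G : Type*} [Group G] [Finite G] (χ : Cfsg.IrrCharacter G) (hfaith : ∀ g : G, (χ : G → ℂ) g = (χ : G → ℂ) 1 → g = 1) (p : ℕ) (hp : p.Prime) (hcod : Nat.card G = p * Cfsg.charDegree (χ : G → ℂ)) : (IsCyclic G ∧ Nat.card G = p) ∨ ∃ H : Subgroup G, Cfsg.IsFrobeniusComplement H ∧ Nat.card ↥(Cfsg.frobeniusKernel H) = p := by
  classical
  rcases CharArith.prime_codegree_structure χ.2 hfaith hp hcod with
    ⟨-, hG⟩ | ⟨hd, P, hN, hP, hpd, hC⟩
  · haveI : Fact p.Prime := ⟨hp⟩
    exact Or.inl ⟨isCyclic_of_prime_card hG, hG⟩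
  refine Or.inr ?_
  haveI : Fact p.Prime := ⟨hp⟩
  set d := Cfsg.charDegree (χ : G → ℂ) with hdd
  have hidx : P.index = d := by
    have := P.card_mul_index
    rw [hP, hcod] at this
    exact Nat.eq_of_mul_eq_mul_left hp.pos this
  obtain ⟨H, hH⟩ := Subgroup.exists_right_complement'_of_coprime (N := P)
    (by rw [hP, hidx]; exact hp.coprime_iff_not_dvd.2 hpd)
  have hHcard : Nat.card H = d := by
    have := hH.card_mul
    rw [hP, hcod] at this
    exact Nat.eq_of_mul_eq_mul_left hp.pos this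
  have hdisj : ∀ y : G, y ∈ P → y ∈ H → y = 1 := fun y h1 h2 =>
    Subgroup.mem_bot.1 (hH.disjoint.le_bot (Subgroup.mem_inf.2 ⟨h1, h2⟩))
  have hdec : ∀ g : G, ∃ x ∈ P, ∃ k ∈ H, x * k = g := fun g =>
    Subgroup.mem_sup_of_normal_left.1 (hH.sup_eq_top.ge (Subgroup.mem_top g))
  have key : ∀ (y x : G), y ∈ H → x ∈ P → x ≠ 1 → x⁻¹ * y * x ∈ H → y = 1 := by
    intro y x hy hx hx1 hyx
    have hc : y⁻¹ * (x⁻¹ * y * x) = 1 := by
      apply hdisj
      · rw [show y⁻¹ * (x⁻¹ * y * x) = y⁻¹ * x⁻¹ * y⁻¹⁻¹ * x by group]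
        exact mul_mem (hN.conj_mem _ (inv_mem hx) _) hx
      · exact mul_mem (inv_mem hy) hyx
    have hcomm : x * y = y * x := by
      have h' : x⁻¹ * y * x = y := (inv_mul_eq_one.1 hc).symm
      calc x * y = x * (x⁻¹ * y * x) := by rw [h']
        _ = y * x := by group
    have hyC : y ∈ Subgroup.centralizer (P : Set G) := by
      rw [Subgroup.mem_centralizer_iff]
      intro z hz
      obtain ⟨k, hk⟩ : (⟨z, hz⟩ : P) ∈ Subgroup.zpowers (⟨x, hx⟩ : P) :=
        mem_zpowers_of_prime_card hP (fun e => hx1 (congrArg Subtype.val e))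
      have hk' : x ^ k = z := congrArg Subtype.val hk
      rw [← hk']
      exact ((Commute.zpow_left (hcomm : Commute x y) k))
    rw [hC] at hyC
    exact hdisj y hyC hy
  have hfro : Cfsg.IsFrobeniusComplement H := by
    refine ⟨fun h => ?_, fun h => ?_, fun g hg => ?_⟩
    · rw [h, Subgroup.card_bot] at hHcard
      omega
    · rw [h, Subgroup.card_top, hcod] at hHcard
      have := hp.two_le
      nlinarith
    · rw [eq_bot_iff]
      intro y hy
      obtain ⟨hy1, hy2⟩ := Subgroup.mem_inf.1 hy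
      obtain ⟨x, hx, k, hk, rfl⟩ := hdec g
      rw [Subgroup.mem_pointwise_smul_iff_inv_smul_mem] at hy2
      rw [Subgroup.mem_bot]
      refine key y x hy1 hx (fun e => hg (by rw [e, one_mul]; exact hk)) ?_
      have := mul_mem (mul_mem hk hy2) (inv_mem hk)
      simpa [MulAut.smul_def, mul_assoc] using this
  refine ⟨H, hfro, ?_⟩
  suffices hker : Cfsg.frobeniusKernel H = (P : Set G) by rw [hker]; exact hP
  ext z
  simp only [Cfsg.frobeniusKernel, Set.mem_setOf_eq, SetLike.mem_coe]
  constructor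
  · rintro (rfl | hz)
    · exact one_mem P
    by_contra hzP
    let A := {h : H // h ≠ 1}
    let f : P × A → {w : G // w ∉ P} := fun a =>
      ⟨(a.1 : G) * (a.2.1 : G) * (a.1 : G)⁻¹, fun hw => a.2.2 (Subtype.ext (hdisj _ (by
        have := hN.conj_mem _ hw (a.1 : G)⁻¹
        simpa [mul_assoc] using this) a.2.1.2))⟩
    have hinj : Function.Injective f := by
      rintro ⟨x1, h1⟩ ⟨x2, h2⟩ e
      have e' : (x1 : G) * (h1.1 : G) * (x1 : G)⁻¹ = (x2 : G) * (h2.1 : G) * (x2 : G)⁻¹ :=
        congrArg Subtype.val e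
      have hx : ((x2 : G)⁻¹ * x1)⁻¹ * (h2.1 : G) * ((x2 : G)⁻¹ * x1) = (h1.1 : G) := by
        rw [show ((x2 : G)⁻¹ * x1)⁻¹ * (h2.1 : G) * ((x2 : G)⁻¹ * x1) =
          (x1 : G)⁻¹ * ((x2 : G) * (h2.1 : G) * (x2 : G)⁻¹) * x1 by group, ← e']
        group
      by_cases hxe : (x2 : G)⁻¹ * x1 = 1
      · rw [hxe] at hx
        have hxx : x1 = x2 := Subtype.ext (inv_mul_eq_one.1 hxe).symm
        have hh : h1 = h2 := Subtype.ext (Subtype.ext (by simpa using hx.symm))
        rw [hxx, hh]
      · exact absurd (Subtype.ext (key _ _ h2.1.2 (mul_mem (inv_mem x2.2) x1.2) hxe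
          (hx ▸ h1.1.2))) h2.2
    have hcard : Nat.card {w : G // w ∉ P} ≤ Nat.card (P × A) := by
      letI := Fintype.ofFinite G
      have e1 : Fintype.card {w : G // w ∉ P} = p * d - p := by
        rw [Fintype.card_subtype_compl (fun w => w ∈ P), ← Nat.card_eq_fintype_card, hcod,
          ← Nat.card_eq_fintype_card]
        exact congrArg _ hP
      have e2 : Fintype.card A = d - 1 := by
        rw [Fintype.card_subtype_compl (fun w : H => w = 1), ← Nat.card_eq_fintype_card, hHcard,
          Fintype.card_subtype_eq]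
      rw [Nat.card_prod, hP, Nat.card_eq_fintype_card, e1, Nat.card_eq_fintype_card, e2,
        Nat.mul_sub, mul_one]
    obtain ⟨⟨x, h⟩, hxh⟩ := (hinj.bijective_of_nat_card_le hcard).2 ⟨z, hzP⟩
    refine hz (x : G) ?_
    rw [Subgroup.mem_pointwise_smul_iff_inv_smul_mem]
    have hxh' : (x : G) * (h.1 : G) * (x : G)⁻¹ = z := congrArg Subtype.val hxh
    rw [← hxh']
    simp [MulAut.smul_def, mul_assoc]
  · intro hz
    by_cases h1 : z = 1
    · exact Or.inl h1
    refine Or.inr fun g hg => h1 ?_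
    rw [Subgroup.mem_pointwise_smul_iff_inv_smul_mem] at hg
    have h2 : g⁻¹ * z * g ∈ P := by simpa using hN.conj_mem z hz g⁻¹
    have h3 : g⁻¹ * z * g ∈ H := by simpa [MulAut.smul_def, mul_assoc] using hg
    have h4 := hdisj _ h2 h3
    calc z = g * (g⁻¹ * z * g) * g⁻¹ := by group
      _ = 1 := by rw [h4]; group

end Cfsg.Agent.S4796
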