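import Cfsg.Statements.S4797
import Cfsg.Agent.CharArith.PrimeCodegree
import Mathlib.GroupTheory.Perm.Cycle.Type
-- import your own Cfsg.Agent.* helpers here

set_option autoImplicit false
open Cfsg
open scoped commutatorElement

namespace Cfsg.Agent.S4797

/-- The codegree of an irreducible complex character χ of a finite group G is [G : ker χ] / χ(1), where ker χ is the set of elements at which χ takes the value χ(1). A non-trivial finite group is perfect if and only if no irreducible complex character of it has prime codegree. -/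
theorem result {G : Type*} [Group G] [Finite G] [Nontrivial G] : commutator G = ⊤ ↔ ∀ χ : Cfsg.IrrCharacter G, ¬ ((Nat.card G / (Nat.card {g : G // (χ : G → ℂ) g = (χ : G → ℂ) 1} * Cfsg.charDegree (χ : G → ℂ)))).Prime := by
  classical
  have := Fintype.ofFinite G
  -- the natural division computes the codegree of the faithful quotient character
  have hquot : ∀ χ : Cfsg.IrrCharacter G, ∃ (K : Subgroup G) (_ : K.Normal) (φ : G ⧸ K → ℂ),
      Cfsg.IsIrrCharacter (G ⧸ K) φ ∧ (∀ q, φ q = φ 1 → q = 1) ∧
      Cfsg.charDegree φ = Cfsg.charDegree (χ : G → ℂ) ∧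
      Nat.card G / (Nat.card {g : G // (χ : G → ℂ) g = (χ : G → ℂ) 1} *
        Cfsg.charDegree (χ : G → ℂ)) = Nat.card (G ⧸ K) / Cfsg.charDegree φ := by
    intro χ
    let hc := Char.IsIrr.isCharacter χ.2
    obtain ⟨φ, hφ, he⟩ := Char.IsIrr.exists_quotient (Char.kerSubgroup hc) χ.2 (fun n hn => hn)
    have hdeg : Cfsg.charDegree φ = Cfsg.charDegree (χ : G → ℂ) := by
      unfold Cfsg.charDegree
      rw [he 1, QuotientGroup.mk_one]
    refine ⟨_, Char.kerSubgroup_normal hc, φ, hφ, fun q hq => ?_, hdeg, ?_⟩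
    · obtain ⟨g, rfl⟩ := QuotientGroup.mk_surjective q
      refine (QuotientGroup.eq_one_iff g).2 ?_
      show (χ : G → ℂ) g = (χ : G → ℂ) 1
      rw [he g, he 1, hq, QuotientGroup.mk_one]
    · rw [hdeg, ← Subgroup.index_eq_card,
        show Nat.card {g : G // (χ : G → ℂ) g = (χ : G → ℂ) 1} = Nat.card (Char.kerSubgroup hc)
          from rfl,
        ← Nat.div_div_eq_div_mul, ← (Char.kerSubgroup hc).card_mul_index,
        Nat.mul_div_cancel_left _ Nat.card_pos]
  constructor
  · intro hperf χ hprime
    obtain ⟨K, hK, φ, hφ, hfaith, -, hcod⟩ := hquot χ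
    rw [hcod] at hprime
    set p := Nat.card (G ⧸ K) / Cfsg.charDegree φ with hp
    have hpG : Nat.card (G ⧸ K) = p * Cfsg.charDegree φ :=
      (Nat.div_mul_cancel (CharArith.charDegree_dvd_card hφ)).symm
    -- the quotient is perfect
    have hperfQ : commutator (G ⧸ K) = ⊤ := by
      rw [← top_le_iff, commutator_def,
        ← Subgroup.map_top_of_surjective (QuotientGroup.mk' K) (QuotientGroup.mk'_surjective K),
        ← Subgroup.map_commutator, ← commutator_def, hperf]
    haveI : Fact p.Prime := ⟨hprime⟩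
    rcases CharArith.prime_codegree_structure hφ hfaith hprime hpG with
      ⟨-, hQ⟩ | ⟨hd, P, hN, hP, -, hC⟩
    · haveI : IsCyclic (G ⧸ K) := isCyclic_of_prime_card hQ
      have hbot : commutator (G ⧸ K) = ⊥ := by
        rw [commutator_def, Subgroup.commutator_eq_bot_iff_le_centralizer]
        intro x _
        rw [Subgroup.mem_centralizer_iff]
        intro y _
        exact (IsCyclic.commutative (α := G ⧸ K)).is_comm.comm y x
      rw [hbot] at hperfQ
      have h1 : Nat.card (⊥ : Subgroup (G ⧸ K)) = Nat.card (⊤ : Subgroup (G ⧸ K)) := by rw [hperfQ]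
      rw [Subgroup.card_bot, Subgroup.card_top, hQ] at h1
      exact hprime.one_lt.ne h1
    · haveI : IsCyclic P := isCyclic_of_prime_card hP
      have hle : commutator (G ⧸ K) ≤ Subgroup.centralizer (P : Set (G ⧸ K)) := by
        intro x hx
        rw [Subgroup.mem_centralizer_iff]
        intro y hy
        have hker : x ∈ (MulAut.conjNormal (H := P)).ker := by
          have hcom : ∀ a b : MulAut P, a * b = b * a := by
            intro a b
            obtain ⟨g, hg⟩ := IsCyclic.exists_generator (α := P)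
            obtain ⟨i, hi⟩ := hg (a g)
            obtain ⟨j, hj⟩ := hg (b g)
            ext z
            obtain ⟨k, rfl⟩ := hg z
            simp only [MulAut.mul_apply]
            simp only at hi hj
            simp only [map_zpow, ← hi, ← hj, ← zpow_mul]
            rw [mul_left_comm i j]
          have : commutator (G ⧸ K) ≤ (MulAut.conjNormal (H := P)).ker := by
            rw [commutator_def, Subgroup.commutator_le]
            intro a _ b _
            rw [MonoidHom.mem_ker, map_commutatorElement]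
            exact commutatorElement_eq_one_iff_mul_comm.2 (hcom _ _)
          exact this hx
        have h1 : (MulAut.conjNormal (H := P) x ⟨y, hy⟩ : G ⧸ K) = y := by
          rw [MonoidHom.mem_ker.1 hker]; rfl
        rw [MulAut.conjNormal_apply] at h1
        calc y * x = x * y * x⁻¹ * x := by rw [h1]
          _ = x * y := by group
      rw [hC, hperfQ, top_le_iff] at hle
      rw [hle, Subgroup.card_top, hpG] at hP
      have := hprime.two_le
      nlinarith
  · intro h
    by_contra hne
    obtain ⟨Mx, hMx, hcM⟩ := (eq_top_or_exists_le_coatom (commutator G)).resolve_left hne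
    haveI hMn : Mx.Normal := ⟨fun n hn g => by
      have h1 : ⁅g, n⁆ ∈ Mx := hcM (Subgroup.commutator_mem_commutator (Subgroup.mem_top _) (Subgroup.mem_top _))
      have h2 := mul_mem h1 hn
      simpa [commutatorElement_def, mul_assoc] using h2⟩
    have hcomm : ∀ a b : G ⧸ Mx, a * b = b * a := by
      intro a b
      obtain ⟨a, rfl⟩ := QuotientGroup.mk_surjective a
      obtain ⟨b, rfl⟩ := QuotientGroup.mk_surjective b
      rw [← QuotientGroup.mk_mul, ← QuotientGroup.mk_mul, QuotientGroup.eq]
      have : ⁅b⁻¹, a⁻¹⁆ ∈ Mx :=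
        hcM (Subgroup.commutator_mem_commutator (Subgroup.mem_top _) (Subgroup.mem_top _))
      simpa [commutatorElement_def, mul_assoc] using this
    have hprime : (Nat.card (G ⧸ Mx)).Prime := by
      letI : CommGroup (G ⧸ Mx) := { (inferInstance : Group (G ⧸ Mx)) with mul_comm := hcomm }
      have hnt : 1 < Mx.index := Subgroup.one_lt_index_of_ne_top hMx.1
      rw [Subgroup.index_eq_card] at hnt
      obtain ⟨q, hq, hqdvd⟩ := Nat.exists_prime_and_dvd hnt.ne'
      haveI : Fact q.Prime := ⟨hq⟩
      obtain ⟨x, hx⟩ := exists_prime_orderOf_dvd_card' q hqdvd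
      obtain ⟨g, rfl⟩ := QuotientGroup.mk_surjective x
      have htop : Subgroup.comap (QuotientGroup.mk' Mx) (Subgroup.zpowers (g : G ⧸ Mx)) = ⊤ := by
        refine hMx.2 _ (lt_of_le_of_ne ?_ ?_)
        · intro m hm
          simp [Subgroup.mem_comap, (QuotientGroup.eq_one_iff m).2 hm]
        · intro e
          have hg : g ∈ Mx := e ▸ (Subgroup.mem_comap.2 (Subgroup.mem_zpowers _))
          rw [(QuotientGroup.eq_one_iff g).2 hg, orderOf_one] at hx
          exact hq.one_lt.ne hx
      have : Subgroup.zpowers (g : G ⧸ Mx) = ⊤ := by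
        rw [eq_top_iff]
        intro y _
        obtain ⟨y, rfl⟩ := QuotientGroup.mk_surjective y
        exact Subgroup.mem_comap.1 (htop.ge (Subgroup.mem_top y))
      have h2 := Nat.card_zpowers (g : G ⧸ Mx)
      rw [this, Subgroup.card_top, hx] at h2
      rwa [h2]
    haveI : Fact (Nat.card (G ⧸ Mx)).Prime := ⟨hprime⟩
    haveI : Nontrivial (G ⧸ Mx) := Finite.one_lt_card_iff_nontrivial.1 hprime.one_lt
    obtain ⟨x, hx⟩ := exists_ne (1 : G ⧸ Mx)
    obtain ⟨φ, hφ⟩ := Char.exists_irr_ne_at_one hx
    refine h ⟨_, Char.isIrrCharacter_mk Mx φ.2⟩ ?_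
    have hφd : (φ : G ⧸ Mx → ℂ) 1 = 1 := Char.IsIrr.degree_one_of_comm φ.2 hcomm
    have hdeg : Cfsg.charDegree (fun g : G => (φ : G ⧸ Mx → ℂ) (QuotientGroup.mk g)) = 1 := by
      simp [Cfsg.charDegree, hφd]
    have hkeq : ∀ g : G, (φ : G ⧸ Mx → ℂ) (QuotientGroup.mk g) =
        (φ : G ⧸ Mx → ℂ) (QuotientGroup.mk (1 : G)) ↔ g ∈ Mx := by
      intro g
      rw [QuotientGroup.mk_one]
      constructor
      · intro hg
        by_contra hgM
        have hg1 : (g : G ⧸ Mx) ≠ 1 := fun e => hgM ((QuotientGroup.eq_one_iff g).1 e)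
        obtain ⟨k, hk⟩ : x ∈ Subgroup.zpowers (g : G ⧸ Mx) := mem_zpowers_of_prime_card rfl hg1
        have hmem : (g : G ⧸ Mx) ∈ Char.kerSubgroup (Char.IsIrr.isCharacter φ.2) := hg
        exact hφ (hk ▸ Subgroup.zpow_mem _ hmem k)
      · intro hg
        rw [(QuotientGroup.eq_one_iff g).2 hg]
    have hk : Nat.card {g : G // (φ : G ⧸ Mx → ℂ) (QuotientGroup.mk g) =
        (φ : G ⧸ Mx → ℂ) (QuotientGroup.mk (1 : G))} = Nat.card Mx :=
      Nat.card_congr (Equiv.subtypeEquivRight hkeq)
    show (Nat.card G / (Nat.card {g : G // (φ : G ⧸ Mx → ℂ) (QuotientGroup.mk g) =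
      (φ : G ⧸ Mx → ℂ) (QuotientGroup.mk (1 : G))} * _)).Prime
    rw [hk, hdeg, mul_one, ← Mx.card_mul_index, Nat.mul_div_cancel_left _ Nat.card_pos,
      Subgroup.index_eq_card]
    exact hprime

end Cfsg.Agent.S4797
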