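import Cfsg.Statements.S4798
import Cfsg.Agent.CharArith.Central
import Cfsg.Agent.Char.Induced
import Cfsg.Agent.Char.Gen
import Mathlib.GroupTheory.Sylow
-- import your own Cfsg.Agent.* helpers here

set_option autoImplicit false
open Cfsg

namespace Cfsg.Agent.S4798

/-- Let p be a prime and χ a faithful irreducible complex character of the finite group G (χ(g) = χ(1) only for g = 1), so that its codegree is #G / χ(1). Then #G / χ(1) is a power of p if and only if χ is induced from a character of a Sylow p-subgroup of G. -/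
theorem result {G : Type*} [Group G] [Fintype G] (p : ℕ) [Fact p.Prime] (χ : Cfsg.IrrCharacter G) (hfaith : ∀ g : G, (χ : G → ℂ) g = (χ : G → ℂ) 1 → g = 1) : (∃ k : ℕ, Nat.card G = p ^ k * Cfsg.charDegree (χ : G → ℂ)) ↔ ∃ (P : Sylow p G) (θ : ↥(P : Subgroup G) → ℂ), Cfsg.IsCharacter ↥(P : Subgroup G) θ ∧ (χ : G → ℂ) = Cfsg.indFun (P : Subgroup G) θ := by
  classical
  have hp : p.Prime := Fact.out
  set d := Cfsg.charDegree (χ : G → ℂ) with hd
  have hd0 : 0 < d := (CharArith.irr_degree_spec χ).2
  have hχ1 : (χ : G → ℂ) 1 = (d : ℂ) := (CharArith.irr_degree_spec χ).1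
  constructor
  · rintro ⟨k, hk⟩
    obtain ⟨P⟩ := Sylow.nonempty (p := p) (G := G)
    set a := (Nat.card G).factorization p with ha
    have hP : Nat.card (P : Subgroup G) = p ^ a := P.card_eq_multiplicity
    set r := (P : Subgroup G).index with hr
    have hpr : ¬ p ∣ r := P.not_dvd_index
    have hGr : p ^ a * r = p ^ k * d := by rw [← hP, ← hk]; exact Subgroup.card_mul_index _
    have hrd : r ∣ d := ((Nat.Coprime.pow_left k (hp.coprime_iff_not_dvd.2 hpr)).symm).dvd_of_dvd_mul_left
      ⟨p ^ a, by rw [← hGr, mul_comm]⟩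
    obtain ⟨e, he⟩ := hrd
    have hr0 : 0 < r := Nat.pos_of_ne_zero Subgroup.index_ne_zero_of_finite
    have hea : e ∣ p ^ a := ⟨p ^ k, Nat.eq_of_mul_eq_mul_right hr0 (by rw [hGr, he]; ring)⟩
    obtain ⟨n, -, hn⟩ := (Nat.dvd_prime_pow hp).1 hea
    have hres := Char.isCharacter_res (P : Subgroup G) (Char.IsIrr.isCharacter χ.2)
    obtain ⟨M, hM1, hM2, -⟩ := Char.IsChar.exists_mult hres
    have hdeg : d = ∑ ψ : Cfsg.IrrCharacter (P : Subgroup G),
        M ψ * Cfsg.charDegree (ψ : ↥(P : Subgroup G) → ℂ) := by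
      have := congrFun hM2 1
      simp only [OneMemClass.coe_one, hχ1, Finset.sum_apply, Pi.smul_apply, smul_eq_mul,
        (CharArith.irr_degree_spec _).1] at this
      exact_mod_cast this
    obtain ⟨θ, hθ, hθd⟩ : ∃ θ : Cfsg.IrrCharacter (P : Subgroup G),
        M θ ≠ 0 ∧ Cfsg.charDegree (θ : ↥(P : Subgroup G) → ℂ) ≤ p ^ n := by
      by_contra! hno
      have hdvd : p ^ (n + 1) ∣ d := by
        rw [hdeg]
        refine Finset.dvd_sum fun ψ _ => ?_
        rcases eq_or_ne (M ψ) 0 with h0 | h0
        · simp [h0]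
        · refine dvd_mul_of_dvd_right ?_ _
          obtain ⟨i, -, hi⟩ := (Nat.dvd_prime_pow hp).1
            (hP ▸ CharArith.charDegree_dvd_card ψ.2)
          rw [hi]
          have := hno ψ h0
          rw [hi] at this
          exact pow_dvd_pow p ((Nat.pow_lt_pow_iff_right hp.one_lt).1 this)
      rw [he, hn, pow_succ] at hdvd
      rw [mul_comm r] at hdvd
      exact hpr (Nat.dvd_of_mul_dvd_mul_left (pow_pos hp.pos n) hdvd)
    refine ⟨P, (θ : ↥(P : Subgroup G) → ℂ), Char.IsIrr.isCharacter θ.2, ?_⟩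
    have hind := Char.isCharacter_indFun (P : Subgroup G) (Char.IsIrr.isCharacter θ.2)
    have hne : Cfsg.classInner (Cfsg.indFun (P : Subgroup G) (θ : ↥(P : Subgroup G) → ℂ)) (χ : G → ℂ) ≠ 0 := by
      rw [Char.classInner_indFun_left _ _ (Char.isClassFunction_of_isIrr χ.2),
        ← Char.classInner_conj_symm, map_ne_zero, hM1]
      exact Nat.cast_ne_zero.2 hθ
    have hsub := Char.IsChar.sub_constituent hind χ.2 hne
    obtain ⟨j, hj⟩ := Char.IsChar.degree hsub
    have hj' : r * Cfsg.charDegree (θ : ↥(P : Subgroup G) → ℂ) = j + d := by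
      have h := hj
      rw [Pi.sub_apply, Char.indFun_apply_one, hχ1, (CharArith.irr_degree_spec θ).1,
        sub_eq_iff_eq_add] at h
      exact_mod_cast h
    have hj0 : j = 0 := by
      have := Nat.mul_le_mul_left r hθd
      rw [← hn, ← he] at this
      omega
    funext g
    have hzero : (Cfsg.indFun (P : Subgroup G) (θ : ↥(P : Subgroup G) → ℂ) - (χ : G → ℂ)) g = 0 := by
      have := Char.IsChar.norm_le hsub g
      rw [hj, hj0] at this
      simpa using this
    rw [Pi.sub_apply, sub_eq_zero] at hzero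
    exact hzero.symm
  · rintro ⟨P, θ, hθ, heq⟩
    set a := (Nat.card G).factorization p with ha
    have hP : Nat.card (P : Subgroup G) = p ^ a := P.card_eq_multiplicity
    set r := (P : Subgroup G).index with hr
    have hr0 : 0 < r := Nat.pos_of_ne_zero Subgroup.index_ne_zero_of_finite
    have hde : d = r * Cfsg.charDegree θ := by
      have := congrFun heq 1
      rw [hχ1, Char.indFun_apply_one, CharArith.charDegree_spec hθ] at this
      exact_mod_cast this
    have hG : Nat.card G = p ^ a * r := by rw [← hP]; exact (Subgroup.card_mul_index _).symm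
    have hdvd : Cfsg.charDegree θ ∣ p ^ a := by
      have := CharArith.charDegree_dvd_card χ.2
      rw [← hd, hde, hG, mul_comm (p ^ a)] at this
      exact Nat.dvd_of_mul_dvd_mul_left hr0 this
    obtain ⟨i, hia, hi⟩ := (Nat.dvd_prime_pow hp).1 hdvd
    refine ⟨a - i, ?_⟩
    rw [hde, hi, hG, ← Nat.sub_add_cancel hia, pow_add, Nat.add_sub_cancel]
    ring

end Cfsg.Agent.S4798
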