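import Cfsg.Statements.S4801
import Cfsg.Agent.Char.Linear
import Cfsg.Agent.Char.Integral
-- import your own Cfsg.Agent.* helpers here

set_option autoImplicit false
open Cfsg

namespace Cfsg.Agent.S4801

/-- The codegree of an irreducible complex character χ of a finite group G is [G : ker χ] / χ(1), where ker χ is the set of elements at which χ takes the value χ(1). Let S be a finite simple group and G a finite group such that every codegree of an irreducible character of S is a codegree of an irreducible character of G. Then the order of S divides the order of G. -/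
theorem result {S : Type*} [Group S] [Finite S] (hS : IsSimpleGroup S) {G : Type*} [Group G] [Finite G] (hsub : ∀ χ : Cfsg.IrrCharacter S, ∃ ψ : Cfsg.IrrCharacter G, (Nat.card S / (Nat.card {g : S // (χ : S → ℂ) g = (χ : S → ℂ) 1} * Cfsg.charDegree (χ : S → ℂ))) = (Nat.card G / (Nat.card {g : G // (ψ : G → ℂ) g = (ψ : G → ℂ) 1} * Cfsg.charDegree (ψ : G → ℂ)))) : Nat.card S ∣ Nat.card G := by
  classical
  have := Fintype.ofFinite S
  have := Fintype.ofFinite G
  have hdvd : ∀ ψ : IrrCharacter G, Nat.card G / (Nat.card {g : G // (ψ : G → ℂ) g = (ψ : G → ℂ) 1} *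
      charDegree (ψ : G → ℂ)) ∣ Nat.card G := by
    intro ψ
    obtain ⟨d, -, hd⟩ := Char.IsIrr.degree ψ.2
    have hdeg : charDegree (ψ : G → ℂ) = d := by rw [charDegree, hd, Complex.natCast_re, Nat.floor_natCast]
    let K := Char.kerSubgroup (Char.IsIrr.isCharacter ψ.2)
    have hKn : K.Normal := ⟨fun a ha g => ((Char.isClassFunction_of_isIrr ψ.2) a g).trans ha⟩
    have hc : Nat.card {g : G // (ψ : G → ℂ) g = (ψ : G → ℂ) 1} = Nat.card K := rfl
    refine Nat.div_dvd_of_dvd ?_
    rw [hc, hdeg, ← K.card_mul_index]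
    refine Nat.mul_dvd_mul_left _ ?_
    obtain ⟨φ, hφ, he⟩ := Char.IsIrr.exists_quotient K ψ.2 (fun n hn => hn)
    rw [Subgroup.index_eq_card]
    exact Char.IsIrr.degree_dvd_card hφ (by rw [← hd, he 1, QuotientGroup.mk_one])
  rw [Nat.dvd_iff_prime_pow_dvd_dvd]
  intro p k hp hpk
  rcases Nat.eq_zero_or_pos k with rfl | hk
  · rw [pow_zero]; exact one_dvd _
  -- a non-trivial character of degree prime to `p`
  let one : IrrCharacter S := ⟨fun _ => 1, Char.isIrrCharacter_one⟩
  choose d hd0 hd using fun χ : IrrCharacter S => Char.IsIrr.degree χ.2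
  obtain ⟨χ, hχ1, hχp⟩ : ∃ χ, χ ≠ one ∧ ¬ p ∣ d χ := by
    by_contra hcon
    push Not at hcon
    have h := Char.sum_sq_degree (G := S)
    simp only [hd] at h
    have h' : ∑ χ : IrrCharacter S, d χ ^ 2 = Nat.card S := by exact_mod_cast h
    rw [← Finset.add_sum_erase _ _ (Finset.mem_univ one)] at h'
    have hd1 : d one = 1 := by
      have h1 : (d one : ℂ) = 1 := (hd one).symm
      exact_mod_cast h1
    have hpd : p ∣ Nat.card S := (dvd_pow_self p hk.ne').trans hpk
    rw [← h', hd1, one_pow] at hpd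
    have h2 : p ∣ ∑ χ ∈ Finset.univ.erase one, d χ ^ 2 :=
      Finset.dvd_sum fun χ hχ => dvd_pow (hcon χ (Finset.mem_erase.1 hχ).1) two_ne_zero
    exact hp.one_lt.ne' (Nat.dvd_one.1 ((Nat.dvd_add_left h2).1 hpd))
  obtain ⟨ψ, hψ⟩ := hsub χ
  let K := Char.kerSubgroup (Char.IsIrr.isCharacter χ.2)
  have hKn : K.Normal := ⟨fun a ha g => ((Char.isClassFunction_of_isIrr χ.2) a g).trans ha⟩
  have hKbot : K = ⊥ := by
    refine (hKn.eq_bot_or_eq_top).resolve_right fun hK => hχ1 (Subtype.ext ?_)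
    by_contra hne
    have hcon : (χ : S → ℂ) = fun _ => (χ : S → ℂ) 1 := funext fun g =>
      (hK ▸ Subgroup.mem_top g : g ∈ K)
    have h0 := Char.classInner_irr_ne χ.2 Char.isIrrCharacter_one hne
    rw [hcon] at h0
    simp [classInner, Char.IsIrr.one_ne_zero χ.2] at h0
  have hc1 : Nat.card {g : S // (χ : S → ℂ) g = (χ : S → ℂ) 1} = 1 := by
    show Nat.card K = 1
    rw [hKbot, Subgroup.card_bot]
  have hdeg : charDegree (χ : S → ℂ) = d χ := by rw [charDegree, hd, Complex.natCast_re, Nat.floor_natCast]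
  rw [hc1, hdeg, one_mul] at hψ
  refine dvd_trans ?_ (hψ ▸ hdvd ψ)
  have hdS := Char.IsIrr.degree_dvd_card χ.2 (hd χ)
  refine Nat.Coprime.dvd_of_dvd_mul_left (m := d χ)
    ((hp.coprime_iff_not_dvd.2 hχp).pow_left k) ?_
  rwa [Nat.mul_div_cancel' hdS]

end Cfsg.Agent.S4801
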