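import Cfsg.Statements.S4802
import Cfsg.Agent.Char.Linear
import Cfsg.Agent.Char.Ortho
-- import your own Cfsg.Agent.* helpers here

set_option autoImplicit false
open Cfsg

namespace Cfsg.Agent.S4802

/-- Let N < M be normal subgroups of the finite group G and g ∈ M ∖ N. Then the conjugacy class of g is exactly M ∖ N if and only if every irreducible complex character of G whose kernel contains N takes the same value at all elements of M ∖ N, and every irreducible complex character of G whose kernel does not contain N vanishes at g. -/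
theorem result {G : Type*} [Group G] [Finite G] (N M : Subgroup G) [N.Normal] [M.Normal] (hNM : N < M) (g : G) (hgM : g ∈ M) (hgN : g ∉ N) : {h : G | IsConj g h} = (M : Set G) \ (N : Set G) ↔ ((∀ χ : Cfsg.IrrCharacter G, (∀ x ∈ N, (χ : G → ℂ) x = (χ : G → ℂ) 1) → ∀ x ∈ M, x ∉ N → ∀ y ∈ M, y ∉ N → (χ : G → ℂ) x = (χ : G → ℂ) y) ∧ (∀ χ : Cfsg.IrrCharacter G, (∃ x ∈ N, (χ : G → ℂ) x ≠ (χ : G → ℂ) 1) → (χ : G → ℂ) g = 0)) := by
  classical
  have := Fintype.ofFinite G
  have := Fintype.ofFinite (G ⧸ N)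
  set gb : G ⧸ N := (g : G ⧸ N) with hgb
  let A : IrrCharacter G → Prop := fun χ => ∀ x ∈ N, (χ : G → ℂ) x = (χ : G → ℂ) 1
  have h1 : (∑ φ : IrrCharacter G, Complex.normSq ((φ : G → ℂ) g)) =
      Nat.card (Subgroup.centralizer ({g} : Set G)) := by
    have h := Char.second_orthogonality g g
    rw [if_pos (IsConj.refl g)] at h
    simp only [Complex.mul_conj] at h
    exact_mod_cast h
  have h2 : (∑ φ : {φ : IrrCharacter G // A φ}, Complex.normSq ((φ.1 : G → ℂ) g)) =
      Nat.card (Subgroup.centralizer ({gb} : Set (G ⧸ N))) := by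
    have h := Char.second_orthogonality gb gb
    rw [if_pos (IsConj.refl _)] at h
    simp only [Complex.mul_conj] at h
    rw [← (Char.quotientEquiv N).sum_comp]
    exact_mod_cast h
  have hsplit := Fintype.sum_subtype_add_sum_subtype A
    (fun φ : IrrCharacter G => Complex.normSq ((φ : G → ℂ) g))
  rw [h1, h2] at hsplit
  have hzero : (∀ χ, ¬ A χ → (χ : G → ℂ) g = 0) ↔ Nat.card (Subgroup.centralizer ({g} : Set G)) =
      Nat.card (Subgroup.centralizer ({gb} : Set (G ⧸ N))) := by
    have h3 : (∑ φ : {φ : IrrCharacter G // ¬ A φ}, Complex.normSq ((φ.1 : G → ℂ) g)) = 0 ↔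
        ∀ χ, ¬ A χ → (χ : G → ℂ) g = 0 := by
      rw [Finset.sum_eq_zero_iff_of_nonneg fun _ _ => Complex.normSq_nonneg _]
      simp [Complex.normSq_eq_zero]
    rw [← h3, ← Nat.cast_inj (R := ℝ)]
    constructor <;> intro h <;> linarith
  -- elements over the classes
  set M' : Subgroup (G ⧸ N) := M.map (QuotientGroup.mk' N) with hM'
  have hcomap : M'.comap (QuotientGroup.mk' N) = M := by
    rw [hM', Subgroup.comap_map_eq_self]
    rw [QuotientGroup.ker_mk']; exact hNM.le
  have hmem : ∀ x : G, (x : G ⧸ N) ∈ M' ↔ x ∈ M := fun x => by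
    conv_rhs => rw [← hcomap]
    rfl
  have hsub : ∀ h : G, IsConj g h → h ∈ (M : Set G) \ N := by
    intro h hh
    obtain ⟨c, rfl⟩ := isConj_iff.1 hh
    refine ⟨‹M.Normal›.conj_mem g hgM c, fun hN => hgN ?_⟩
    have h4 := ‹N.Normal›.conj_mem _ hN c⁻¹
    rwa [show c⁻¹ * (c * g * c⁻¹) * c⁻¹⁻¹ = g by group] at h4
  have hcardN : Nat.card N * Nat.card M' = Nat.card M := by
    have h5 := Subgroup.index_map (M) (QuotientGroup.mk' N)
    rw [← hM', QuotientGroup.ker_mk', sup_eq_left.2 hNM.le,
      (QuotientGroup.mk' N).range_eq_top.2 (QuotientGroup.mk'_surjective N), Subgroup.index_top,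
      mul_one] at h5
    have h6 := M'.card_mul_index
    have h7 := M.card_mul_index
    rw [← Subgroup.index_eq_card, h5] at h6
    rw [← N.card_mul_index, ← h6, ← mul_assoc] at h7
    exact (Nat.eq_of_mul_eq_mul_right (Nat.pos_of_ne_zero Subgroup.index_ne_zero_of_finite) h7).symm
  -- counting
  have hdiff : Set.ncard ((M : Set G) \ N) = Nat.card M - Nat.card N := by
    rw [Set.ncard_sdiff (SetLike.coe_subset_coe.2 hNM.le), ← Nat.card_coe_set_eq,
      ← Nat.card_coe_set_eq]
    rfl
  have hcl : ∀ (H : Type _) [Group H] [Finite H] (a : H),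
      Set.ncard {h : H | IsConj a h} * Nat.card (Subgroup.centralizer ({a} : Set H)) = Nat.card H := by
    intro H _ _ a
    have := Fintype.ofFinite H
    rw [← Nat.card_coe_set_eq, show Nat.card {h : H | IsConj a h} = _ from Char.card_isConj_eq_index a,
      mul_comm, Subgroup.card_mul_index]
  have hcG := hcl G g
  have hcQ := hcl (G ⧸ N) gb
  have hbar : {q : G ⧸ N | IsConj gb q} = (M' : Set (G ⧸ N)) \ {1} →
      (Nat.card (Subgroup.centralizer ({g} : Set G)) =
          Nat.card (Subgroup.centralizer ({gb} : Set (G ⧸ N))) ↔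
        {h : G | IsConj g h} = (M : Set G) \ N) := by
    intro hb
    rw [hb, Set.ncard_sdiff (by simp), Set.ncard_singleton, ← Nat.card_coe_set_eq] at hcQ
    change (Nat.card M' - 1) * _ = _ at hcQ
    have hpos : 0 < Nat.card (Subgroup.centralizer ({gb} : Set (G ⧸ N))) := Nat.card_pos
    have key : (Nat.card M - Nat.card N) * Nat.card (Subgroup.centralizer ({gb} : Set (G ⧸ N))) =
        Nat.card G := by
      rw [← hcardN, ← Nat.mul_sub_one, mul_assoc, hcQ, ← Subgroup.index_eq_card,
        Subgroup.card_mul_index]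
    constructor
    · intro he
      rw [he] at hcG
      refine Set.eq_of_subset_of_ncard_le hsub (le_of_eq ?_) (Set.toFinite _)
      rw [hdiff]
      exact Nat.eq_of_mul_eq_mul_right hpos (key.trans hcG.symm)
    · intro he
      rw [he, hdiff] at hcG
      refine Nat.eq_of_mul_eq_mul_left ?_ (hcG.trans key.symm)
      rw [← hdiff, Set.ncard_pos (Set.toFinite _)]
      exact ⟨g, hgM, hgN⟩
  constructor
  · intro heq
    have hb : {q : G ⧸ N | IsConj gb q} = (M' : Set (G ⧸ N)) \ {1} := by
      ext q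
      obtain ⟨x, rfl⟩ := QuotientGroup.mk_surjective q
      constructor
      · intro hq
        obtain ⟨c, hc⟩ := isConj_iff.1 hq
        obtain ⟨c, rfl⟩ := QuotientGroup.mk_surjective c
        have hx := hsub (c * g * c⁻¹) (isConj_iff.2 ⟨c, rfl⟩)
        rw [← hc]
        refine ⟨(hmem (c * g * c⁻¹)).2 hx.1, fun h => hx.2 ?_⟩
        exact (QuotientGroup.eq_one_iff _).1 h
      · rintro ⟨hx, hx1⟩
        have hx' : IsConj g x := by
          show x ∈ {h : G | IsConj g h}
          rw [heq]
          exact ⟨(hmem x).1 hx, fun h => hx1 ((QuotientGroup.eq_one_iff x).2 h)⟩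
        exact (QuotientGroup.mk' N).map_isConj hx'
    refine ⟨fun χ _ x hx hxN y hy hyN => ?_, fun χ ⟨x, hx, hne⟩ =>
      hzero.2 ((hbar hb).2 heq) χ fun hA => hne (hA x hx)⟩
    have hgx : IsConj g x := (heq.symm ▸ ⟨hx, hxN⟩ : x ∈ {h : G | IsConj g h})
    have hgy : IsConj g y := (heq.symm ▸ ⟨hy, hyN⟩ : y ∈ {h : G | IsConj g h})
    exact Char.classFun_isConj (Char.isClassFunction_of_isIrr χ.2) (hgx.symm.trans hgy)
  · rintro ⟨hconst, hvan⟩
    have hb : {q : G ⧸ N | IsConj gb q} = (M' : Set (G ⧸ N)) \ {1} := by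
      ext q
      obtain ⟨x, rfl⟩ := QuotientGroup.mk_surjective q
      constructor
      · intro hq
        obtain ⟨c, hc⟩ := isConj_iff.1 hq
        obtain ⟨c, rfl⟩ := QuotientGroup.mk_surjective c
        have hx := hsub (c * g * c⁻¹) (isConj_iff.2 ⟨c, rfl⟩)
        rw [← hc]
        refine ⟨(hmem (c * g * c⁻¹)).2 hx.1, fun h => hx.2 ?_⟩
        exact (QuotientGroup.eq_one_iff _).1 h
      · rintro ⟨hx, hx1⟩
        refine (Char.isConj_iff_forall_irr gb (x : G ⧸ N)).2 fun φ => ?_
        exact hconst (Char.quotientEquiv N φ).1 (Char.quotientEquiv N φ).2 g hgM hgN x ((hmem x).1 hx)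
          fun h => hx1 ((QuotientGroup.eq_one_iff x).2 h)
    refine (hbar hb).1 (hzero.1 fun χ hA => hvan χ ?_)
    by_contra hcon
    push Not at hcon
    exact hA hcon

end Cfsg.Agent.S4802
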