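import Cfsg.Statements.S4805
import Cfsg.Agent.Char.OneNonlinearStructure
import Cfsg.Agent.Camina.OrderBoundNoncentral
import Cfsg.Agent.FixedPointFree.OrderFourSolvable
import Cfsg.Agent.Fusion.FixedPointFree

set_option autoImplicit false
open Cfsg

namespace Cfsg.Agent.S4805

open Subgroup in
open scoped commutatorElement in
theorem isSolvable_of_oneNonlinear {G : Type*} [Group G] [Finite G] {χ : Cfsg.IrrCharacter G} {g : G}
    (h : Cfsg.Agent.Char.OneNonlinear χ g) : Group.IsSolvable G := by
  obtain ⟨p, hp, hgp, hpow, hcomm⟩ := h.exists_prime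
  haveI := Fact.mk hp
  obtain ⟨K0, hK0n, hK0K, hK0p, hfix⟩ := h.exists_complement hgp
  set π := QuotientGroup.mk' K0
  have hs : Function.Surjective π := QuotientGroup.mk'_surjective K0
  set K := Cfsg.Agent.Char.OneNonlinear.ker χ
  set D := commutator G with hDdef
  have hDm : commutator (G ⧸ K0) = D.map π := by
    simp only [hDdef, _root_.commutator_def, map_commutator, map_top_of_surjective π hs]
  have hback : ∀ x : G, π x ∈ K.map π → x ∈ K := fun x hx => by
    have h1 : x ∈ (K.map π).comap π := hx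
    rwa [comap_map_eq, QuotientGroup.ker_mk', sup_eq_left.2 hK0K] at h1
  haveI : (K.map π).Normal := (inferInstance : K.Normal).map π hs
  have hdata : Cfsg.Agent.Camina.Data p (K.map π) (π g) :=
    { prime := hp
      le := hDm ▸ map_mono h.ker_le
      isPGroup := by
        rw [hDm]
        rintro ⟨_, x, hx, rfl⟩
        obtain ⟨k, hk⟩ := hK0p (x ^ p) (hpow x hx)
        refine ⟨k + 1, Subtype.ext ?_⟩
        show π x ^ p ^ (k + 1) = 1
        rw [pow_succ', pow_mul, ← map_pow, ← map_pow]
        exact (QuotientGroup.eq_one_iff _).2 hk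
      mem := hDm ▸ mem_map_of_mem π h.mem_commutator
      not_mem := fun e => h.not_mem_ker (hback g e)
      isConj := fun x hx hxN => by
        rw [hDm] at hx
        obtain ⟨x, hx, rfl⟩ := hx
        exact π.map_isConj (h.isConj_of_not_mem_ker hx fun e => hxN (mem_map_of_mem π e))
      pow_mem := fun x hx => by
        rw [hDm] at hx
        obtain ⟨x, hx, rfl⟩ := hx
        rw [← map_pow]
        exact mem_map_of_mem π (hpow x hx)
      comm_mem := fun x hx y hy => by
        rw [hDm] at hx hy
        obtain ⟨x, hx, rfl⟩ := hx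
        obtain ⟨y, hy, rfl⟩ := hy
        rw [← map_commutatorElement]
        exact mem_map_of_mem π (hcomm x hx y hy)
      center_le := fun z hz => by
        obtain ⟨z, rfl⟩ := hs z
        rw [hDm]
        exact mem_map_of_mem π (h.mem_commutator_of_central fun x => hback _ (by
          rw [map_commutatorElement]; exact hz (π x))) }
  have hlift : ∀ n : ℕ, π g ^ n = 1 → g ^ n = 1 := fun n hn => by
    rw [← map_pow] at hn
    have h1 : g ^ n ∈ K0 ⊓ centralizer {g} :=
      ⟨(QuotientGroup.eq_one_iff _).1 hn, mem_centralizer_singleton_iff.2 (Commute.pow_self g n).eq⟩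
    rwa [hfix, mem_bot] at h1
  haveI : Group.IsSolvable K0 := by
    rcases Cfsg.Agent.Camina.order_bound hdata with h1 | ⟨-, h1⟩
    · haveI := Cfsg.Agent.Fusion.isNilpotent_of_fpf_prime hp (hlift p h1)
        (le_normalizer_of_normal (H := K0) (K := (⊤ : Subgroup G)) (mem_top g)) hfix
      infer_instance
    · exact Cfsg.Agent.FixedPointFree.isSolvable_of_element_fpf_order_four (hlift 4 h1) hfix
  haveI : Group.IsSolvable (G ⧸ K0) := by
    have hD : IsPGroup p (commutator (G ⧸ K0)) := hdata.isPGroup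
    haveI := hD.isNilpotent
    haveI : Group.IsSolvable (Abelianization (G ⧸ K0)) := Group.isSolvable_of_comm mul_comm
    exact Group.isSolvable_of_ker_le_range (commutator (G ⧸ K0)).subtype Abelianization.of
      (by rw [range_subtype, Abelianization.ker_of])
  exact Group.isSolvable_of_ker_le_range K0.subtype π (by rw [range_subtype, QuotientGroup.ker_mk'])

/-- Let G be a finite group, g an element outside the centre of G, and χ an irreducible complex character of degree greater than one with χ(g) ≠ 0 such that every other irreducible character of degree greater than one vanishes at g. Then g lies in the derived subgroup G′ and χ(g) = −[G : G′]/χ(1); G′ is the union of the kernel of χ (the elements where χ takes the value χ(1)) and the conjugacy class of g, and χ vanishes outside G′; every irreducible character of degree greater than one whose kernel contains that of χ equals χ; and G is solvable. -/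
theorem result {G : Type*} [Group G] [Finite G] (g : G) (hg : g ∉ Subgroup.center G) (χ : Cfsg.IrrCharacter G) (hχ1 : Cfsg.charDegree (χ : G → ℂ) ≠ 1) (hχg : (χ : G → ℂ) g ≠ 0) (hother : ∀ ψ : Cfsg.IrrCharacter G, Cfsg.charDegree (ψ : G → ℂ) ≠ 1 → ψ ≠ χ → (ψ : G → ℂ) g = 0) : g ∈ commutator G ∧ (χ : G → ℂ) g = -(((commutator G).index : ℂ) / (χ : G → ℂ) 1) ∧ ((commutator G : Set G) = {x : G | (χ : G → ℂ) x = (χ : G → ℂ) 1} ∪ {h : G | IsConj g h}) ∧ (∀ x : G, x ∉ commutator G → (χ : G → ℂ) x = 0) ∧ (∀ ψ : Cfsg.IrrCharacter G, Cfsg.charDegree (ψ : G → ℂ) ≠ 1 → (∀ x : G, (χ : G → ℂ) x = (χ : G → ℂ) 1 → (ψ : G → ℂ) x = (ψ : G → ℂ) 1) → ψ = χ) ∧ Group.IsSolvable G := by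
  have hdeg : ∀ ψ : Cfsg.IrrCharacter G, Cfsg.charDegree (ψ : G → ℂ) ≠ 1 ↔ (ψ : G → ℂ) 1 ≠ 1 := by
    intro ψ
    obtain ⟨n, -, hn⟩ := Cfsg.Agent.Char.IsIrr.degree ψ.2
    rw [Cfsg.Agent.Blocks.charDegree_eq hn, hn, Ne, Ne, Nat.cast_eq_one]
  have h : Cfsg.Agent.Char.OneNonlinear χ g :=
    ⟨hg, (hdeg χ).1 hχ1, hχg, fun ψ hψ hne => hother ψ ((hdeg ψ).2 hψ) hne⟩
  exact ⟨h.mem_commutator, h.value_eq, h.commutator_eq, fun x hx => h.value_off hx,
    fun ψ hψ hk => h.eq_of_ker_le ((hdeg ψ).1 hψ) hk, isSolvable_of_oneNonlinear h⟩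

end Cfsg.Agent.S4805
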