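import Cfsg.Statements.S4807
import Cfsg.Agent.RelMcKay.Reduce

set_option autoImplicit false
open Cfsg

namespace Cfsg.Agent.S4807

noncomputable local instance finInst {α : Type*} [Finite α] : Fintype α := Fintype.ofFinite α

open Cfsg.Agent.RelMcKay in
theorem cnt_transfer {Γ : Type*} [Group Γ] [Finite Γ] (p : ℕ) {L : Subgroup Γ} (ν : IrrCharacter L) :
    cnt p (le_top : L ≤ (⊤ : Subgroup Γ)) ν = Nat.card {χ : IrrCharacter Γ //
      ¬ p ∣ charDegree (χ : Γ → ℂ) ∧
        (∑ᶠ l : L, (χ : Γ → ℂ) (l : Γ) * (starRingEnd ℂ) ((ν : L → ℂ) l)) ≠ 0} := by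
  let e : (⊤ : Subgroup Γ) ≃* Γ := Subgroup.topEquiv
  refine (Nat.card_congr ((Cfsg.Agent.Char.Glauberman.irrEquiv e.symm).subtypeEquiv
    (fun χ => ?_))).trans rfl
  refine and_congr ?_ (not_congr ?_)
  · have h : (Cfsg.Agent.Char.Glauberman.irrEquiv e.symm χ : Γ → ℂ) 1 =
        (χ : (⊤ : Subgroup Γ) → ℂ) 1 := congrArg (χ : (⊤ : Subgroup Γ) → ℂ) (map_one e.symm)
    simp only [charDegree, h]
  · rw [Cfsg.Agent.Char.classInner_eq_finsum, mul_eq_zero,
      or_iff_right (inv_ne_zero (Nat.cast_ne_zero.2 Nat.card_pos.ne'))]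
    rfl

/-- Let p be a prime and G a finite p-solvable group, L a normal subgroup of G, S a Sylow p-subgroup of G and P the subgroup generated by L and S (so P/L is a Sylow p-subgroup of G/L), and let ν be an irreducible complex character of L that is invariant under conjugation by every element of P. Let N be the normalizer of P in G (it contains L). Then the number of irreducible characters of G of degree prime to p lying over ν (restriction to L not orthogonal to ν) equals the number of irreducible characters of N of degree prime to p lying over ν. -/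
theorem result {G : Type*} [Group G] [Finite G] (p : ℕ) [Fact p.Prime] (hG : Cfsg.IsPSolvable p G) (L : Subgroup G) [L.Normal] (S : Sylow p G) (P : Subgroup G) (hP : P = L ⊔ (S : Subgroup G)) (hLN : L ≤ (Subgroup.normalizer ((P : Subgroup G) : Set G))) (ν : Cfsg.IrrCharacter ↥L) (hν : ∀ x ∈ P, Cfsg.IsConjCharOf L x (ν : ↥L → ℂ) (ν : ↥L → ℂ)) : Nat.card {χ : Cfsg.IrrCharacter G // ¬ p ∣ Cfsg.charDegree (χ : G → ℂ) ∧ (∑ᶠ l : ↥L, (χ : G → ℂ) (l : G) * (starRingEnd ℂ) ((ν : ↥L → ℂ) l)) ≠ 0} = Nat.card {ψ : Cfsg.IrrCharacter ↥(Subgroup.normalizer ((P : Subgroup G) : Set G)) // ¬ p ∣ Cfsg.charDegree (ψ : ↥(Subgroup.normalizer ((P : Subgroup G) : Set G)) → ℂ) ∧ (∑ᶠ l : ↥L, (ψ : ↥(Subgroup.normalizer ((P : Subgroup G) : Set G)) → ℂ) (Subgroup.inclusion hLN l) * (starRingEnd ℂ) ((ν : ↥L → ℂ) l)) ≠ 0} := by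
  subst hP
  have hidx : ¬ p ∣ ((S : Subgroup G).subgroupOf ⊤).index := by
    show ¬ p ∣ (S : Subgroup G).relIndex ⊤
    rw [Subgroup.relIndex_top_right]
    exact S.not_dvd_index
  have hnL : (⊤ : Subgroup G) ≤ Subgroup.normalizer (L : Set G) := by
    rw [Subgroup.normalizer_eq_top]
  have h := RelMcKay.reduce hG (Nat.card G) ⊤ L (S : Subgroup G) le_top ν
    (by rw [Subgroup.card_top]; exact Nat.le_add_left _ _) hnL le_top S.isPGroup' hidx
    fun s hs => ⟨hnL (Subgroup.mem_top s), hν s ((le_sup_right : (S : Subgroup G) ≤ L ⊔ S) hs)⟩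
  rw [cnt_transfer] at h
  rw [h, RelMcKay.cnt_congr _ hLN ν (top_inf_eq _), RelMcKay.cnt]
  refine Nat.card_congr (Equiv.subtypeEquivRight fun χ => and_congr_right fun _ => not_congr ?_)
  rw [Cfsg.Agent.Char.classInner_eq_finsum, mul_eq_zero,
    or_iff_right (inv_ne_zero (Nat.cast_ne_zero.2 Nat.card_pos.ne'))]
  rfl

end Cfsg.Agent.S4807
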