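import Cfsg.Statements.S4808
import Cfsg.Agent.Char.Linear
import Cfsg.Agent.Char.Integral
-- import your own Cfsg.Agent.* helpers here

set_option autoImplicit false
open Cfsg

namespace Cfsg.Agent.S4808

/-- The codegree of an irreducible complex character χ of a finite group G is [G : ker χ] / χ(1), where ker χ is the set of elements at which χ takes the value χ(1). A prime divides the order of G if and only if it divides the codegree of some irreducible complex character of G. -/
theorem result {G : Type*} [Group G] [Finite G] (p : ℕ) (hp : p.Prime) : p ∣ Nat.card G ↔ ∃ χ : Cfsg.IrrCharacter G, p ∣ (Nat.card G / (Nat.card {g : G // (χ : G → ℂ) g = (χ : G → ℂ) 1} * Cfsg.charDegree (χ : G → ℂ))) := by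
  classical
  have := Fintype.ofFinite G
  have := Fact.mk hp
  have hch : ∀ χ : IrrCharacter G, ∀ d : ℕ, (χ : G → ℂ) 1 = d → charDegree (χ : G → ℂ) = d ∧
      ∃ K : Subgroup G, K.Normal ∧ (∀ g, g ∈ K ↔ (χ : G → ℂ) g = (χ : G → ℂ) 1) ∧
        Nat.card G / (Nat.card {g : G // (χ : G → ℂ) g = (χ : G → ℂ) 1} * charDegree (χ : G → ℂ)) =
          K.index / d ∧ d ∣ K.index := by
    intro χ d hd
    have hdeg : charDegree (χ : G → ℂ) = d := by rw [charDegree, hd, Complex.natCast_re, Nat.floor_natCast]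
    let K := Char.kerSubgroup (Char.IsIrr.isCharacter χ.2)
    have hKn : K.Normal := ⟨fun a ha g =>
      ((Char.isClassFunction_of_isIrr χ.2) a g).trans ha⟩
    refine ⟨hdeg, K, hKn, fun g => Iff.rfl, ?_, ?_⟩
    · have hc : Nat.card {g : G // (χ : G → ℂ) g = (χ : G → ℂ) 1} = Nat.card K := rfl
      rw [hc, hdeg, ← K.card_mul_index]
      exact Nat.mul_div_mul_left _ _ Nat.card_pos
    · obtain ⟨φ, hφ, he⟩ := Char.IsIrr.exists_quotient K χ.2 (fun n hn => hn)
      rw [Subgroup.index_eq_card]
      exact Char.IsIrr.degree_dvd_card hφ (by rw [← hd, he 1, QuotientGroup.mk_one])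
  constructor
  · intro hpG
    by_contra hcon
    push Not at hcon
    set N : Subgroup G := Subgroup.normalClosure {g : G | ∃ i : ℕ, orderOf g = p ^ i} with hN
    obtain ⟨P⟩ : Nonempty (Sylow p G) := inferInstance
    have hPN : (P : Subgroup G) ≤ N := by
      intro x hx
      obtain ⟨i, hi⟩ := IsPGroup.iff_orderOf.1 P.2 ⟨x, hx⟩
      exact Subgroup.subset_normalClosure ⟨i, by rw [← hi, Subgroup.orderOf_mk]⟩
    have hNidx : ¬ p ∣ N.index := fun h => P.not_dvd_index (h.trans (Subgroup.index_dvd_of_le hPN))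
    choose d hd0 hd using fun χ : IrrCharacter G => Char.IsIrr.degree χ.2
    let A : IrrCharacter G → Prop := fun χ => ∀ n ∈ N, (χ : G → ℂ) n = (χ : G → ℂ) 1
    have hB : ∀ χ, ¬ A χ → p ∣ d χ := by
      intro χ hA
      obtain ⟨hdeg, K, hKn, hK, hco, hdK⟩ := hch χ _ (hd χ)
      have h1 : ¬ p ∣ K.index / d χ := hco ▸ hcon χ
      have h2 : p ∣ K.index := by
        by_contra h2
        refine hA fun n hn => (hK n).1 ((Subgroup.normalClosure_le_normal ?_ : N ≤ K) hn)
        rintro g ⟨i, hi⟩
        show g ∈ K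
        rw [← QuotientGroup.eq_one_iff (N := K), ← orderOf_eq_one_iff]
        refine Nat.eq_one_of_dvd_coprimes (Nat.Coprime.pow_left i (hp.coprime_iff_not_dvd.2 h2))
          (hi ▸ orderOf_map_dvd (QuotientGroup.mk' K) g) ?_
        rw [Subgroup.index_eq_card]
        exact orderOf_dvd_natCard _
      by_contra h3
      rw [← Nat.mul_div_cancel' hdK] at h2
      exact h1 ((hp.dvd_mul.1 h2).resolve_left h3)
    have hsum : ∑ χ : IrrCharacter G, d χ ^ 2 = Nat.card G := by
      have h := Char.sum_sq_degree (G := G)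
      simp only [hd] at h
      exact_mod_cast h
    have hA : (∑ χ : {χ // A χ}, d χ.1 ^ 2) = N.index := by
      have := Fintype.ofFinite (G ⧸ N)
      rw [Subgroup.index_eq_card, ← (Char.quotientEquiv N).sum_comp]
      have h := Char.sum_sq_degree (G := G ⧸ N)
      have e : ∀ φ : IrrCharacter (G ⧸ N), (φ : G ⧸ N → ℂ) 1 =
          (d ((Char.quotientEquiv N φ).1) : ℂ) := fun φ => hd ((Char.quotientEquiv N φ).1)
      simp only [e] at h
      exact_mod_cast h
    have hsplit := Fintype.sum_subtype_add_sum_subtype A (fun χ => d χ ^ 2)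
    rw [hsum, hA] at hsplit
    refine hNidx ((Nat.dvd_add_left ?_).1 (hsplit.symm ▸ hpG))
    exact Finset.dvd_sum fun χ _ => dvd_pow (hB _ χ.2) two_ne_zero
  · rintro ⟨χ, h⟩
    obtain ⟨n, -, hn⟩ := Char.IsIrr.degree χ.2
    obtain ⟨-, K, -, -, hco, hdK⟩ := hch χ _ hn
    rw [hco] at h
    exact h.trans ((Nat.div_dvd_of_dvd hdK).trans K.index_dvd_card)

end Cfsg.Agent.S4808
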