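import Cfsg.Statements.S4813
import Cfsg.Agent.Char.PrimeDegreeCount
-- import your own Cfsg.Agent.* helpers here

set_option autoImplicit false
open Cfsg

namespace Cfsg.Agent.S4813

/-- If every irreducible complex character of the finite group G of degree greater than one has prime degree, then G has at most three distinct irreducible character degrees. -/
theorem result {G : Type*} [Group G] [Finite G] (hprime : ∀ d ∈ Cfsg.charDegrees G, d = 1 ∨ d.Prime) : Nat.card ↥(Cfsg.charDegrees G) ≤ 3 := by
  classical
  have := Fintype.ofFinite G
  obtain ⟨f, r, h⟩ := Char.card_charDegrees_le_three (G := G) fun χ hχ =>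
    (hprime _ ⟨χ, rfl⟩).resolve_left hχ
  calc Nat.card ↥(Cfsg.charDegrees G) ≤ Nat.card ↥(({1, f, r} : Finset ℕ) : Set ℕ) :=
        Nat.card_mono (Finset.finite_toSet _) (by
          rintro _ ⟨χ, rfl⟩
          exact h χ)
    _ ≤ 3 := by
        simp only [Nat.card_eq_fintype_card, Finset.coe_sort_coe, Fintype.card_coe]
        exact Finset.card_le_three

end Cfsg.Agent.S4813
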