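import Cfsg.Statements.S4835
import Cfsg.Agent.Char.Gagola
-- import your own Cfsg.Agent.* helpers here

set_option autoImplicit false
open Cfsg

namespace Cfsg.Agent.S4835

/-- Let G be a finite group of order greater than 2 with an irreducible character χ that is nonzero on exactly two conjugacy classes. Then G has a unique minimal normal subgroup N; N is an elementary abelian p-group for some prime p; χ is nonzero exactly at the elements of N; and any two nonidentity elements of N are conjugate in G. -/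
theorem result {G : Type*} [Group G] [Finite G] (hG : 2 < Nat.card G) (χ : Cfsg.IrrCharacter G) (hχ : Nat.card {C : ConjClasses G // ∃ g ∈ C.carrier, (χ : G → ℂ) g ≠ 0} = 2) :
    ∃ N : Subgroup G, N.Normal ∧ N ≠ ⊥ ∧ (∀ K : Subgroup G, K.Normal → K ≠ ⊥ → N ≤ K) ∧
      (∃ p : ℕ, p.Prime ∧ Cfsg.IsElementaryAbelian p N) ∧
      (∀ g : G, (χ : G → ℂ) g ≠ 0 ↔ g ∈ N) ∧
      (∀ x ∈ N, ∀ y ∈ N, x ≠ 1 → y ≠ 1 → ∃ g : G, g * x * g⁻¹ = y) := by
  classical
  have := Fintype.ofFinite G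
  obtain ⟨x, h⟩ := Char.exists_gagola hG χ hχ
  obtain ⟨N, hNn, hN, -⟩ := h.exists_subgroup
  have hne : N ≠ ⊥ := fun e => h.ne_one ((Subgroup.mem_bot).1 (e ▸ h.mem_x hN))
  obtain ⟨p, hp, hxp⟩ := Nat.exists_prime_and_dvd (n := orderOf x)
    fun e => h.ne_one (orderOf_eq_one_iff.1 e)
  have : Fact p.Prime := ⟨hp⟩
  have hconj : ∀ a ∈ N, ∀ b ∈ N, a ≠ 1 → b ≠ 1 → ∃ g : G, g * a * g⁻¹ = b := fun a ha b hb ha1 hb1 =>
    isConj_iff.1 ((h.conj_of_mem hN ha ha1).symm.trans (h.conj_of_mem hN hb hb1))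
  set z := x ^ (orderOf x / p) with hz
  have hzord : orderOf z = p := orderOf_pow_orderOf_div (orderOf_pos x).ne' hxp
  have hzN : z ∈ N := N.pow_mem (h.mem_x hN) _
  have hz1 : z ≠ 1 := fun e => by rw [e, orderOf_one] at hzord; exact hp.ne_one hzord.symm
  have hall : ∀ a ∈ N, a ^ p = 1 := by
    intro a ha
    by_cases ha1 : a = 1
    · simp [ha1]
    · obtain ⟨g, hg⟩ := hconj z hzN a ha hz1 ha1
      rw [← hg, conj_pow, ← hzord, pow_orderOf_eq_one]; simp
  have hNp : IsPGroup p N := fun a => ⟨1, Subtype.ext (by simpa using hall a a.2)⟩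
  refine ⟨N, hNn, hne, fun K hK hK1 => ?_, ⟨p, hp, ⟨⟨⟨fun (a b : N) => Subtype.ext (h.comm hN hNp a.2 b.2)⟩⟩,
    hall⟩⟩, fun g => (hN g).symm, hconj⟩
  exact h.le_of_normal hN hK1

end Cfsg.Agent.S4835
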