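import Cfsg.Statements.S4838
import Cfsg.Agent.Char.Gagola
-- import your own Cfsg.Agent.* helpers here

set_option autoImplicit false
open Cfsg

namespace Cfsg.Agent.S4838

/-- Let G be a finite group of order greater than 2 with an irreducible character χ nonzero on exactly two conjugacy classes, N the normal p-subgroup of elements where χ is nonzero, and P a Sylow p-subgroup of G. Then (a) for every x outside N the centralizer of x in G has the same order as the centralizer of xN in G/N; (b) the centre of P lies in N, and equals N exactly when P is normal in G; (c) N, viewed inside P, is a term of the upper central series of P. -/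
theorem result {G : Type*} [Group G] [Finite G] (hG : 2 < Nat.card G) (χ : Cfsg.IrrCharacter G) (hχ : Nat.card {C : ConjClasses G // ∃ g ∈ C.carrier, (χ : G → ℂ) g ≠ 0} = 2) (p : ℕ) [Fact p.Prime] (N : Subgroup G) [N.Normal] (hN : ∀ g : G, g ∈ N ↔ (χ : G → ℂ) g ≠ 0) (hNp : IsPGroup p N) (hN1 : N ≠ ⊥) (P : Sylow p G) :
    (∀ x : G, x ∉ N → Nat.card (Subgroup.centralizer ({x} : Set G)) = Nat.card (Subgroup.centralizer ({(x : G ⧸ N)} : Set (G ⧸ N)))) ∧
      ((Subgroup.center ↥(P : Subgroup G)).map (P : Subgroup G).subtype ≤ N ∧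
        ((Subgroup.center ↥(P : Subgroup G)).map (P : Subgroup G).subtype = N ↔ (P : Subgroup G).Normal)) ∧
      (∃ i : ℕ, Subgroup.upperCentralSeries ↥(P : Subgroup G) i = N.subgroupOf (P : Subgroup G)) := by
  classical
  have := Fintype.ofFinite G
  obtain ⟨x, h⟩ := Char.exists_gagola hG χ hχ
  refine ⟨fun a ha => h.card_centralizer_quotient hN ha, ⟨h.center_le hN hNp P, ?_⟩,
    h.exists_upperCentral hN hNp P⟩
  have hNP := Char.Gagola.le_sylow hNp P
  have hxN := h.mem_x hN
  constructor
  · intro hZ
    have hPC : ∀ a ∈ N, a ≠ 1 → (P : Subgroup G) = Subgroup.centralizer ({a} : Set G) := by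
      intro a ha ha1
      obtain ⟨Q, hQ⟩ := h.exists_sylow hN hNp ha ha1
      have hle : (P : Subgroup G) ≤ Q := by
        rw [← hQ]
        intro g hg
        rw [← hZ] at ha
        obtain ⟨z, hz, rfl⟩ := ha
        rw [Subgroup.mem_centralizer_singleton_iff]
        exact congrArg Subtype.val (Subgroup.mem_center_iff.1 hz ⟨g, hg⟩)
      rw [hQ, P.3 Q.2 hle]
    have hPN : (P : Subgroup G) = Subgroup.centralizer (N : Set G) := by
      refine le_antisymm (fun g hg => Subgroup.mem_centralizer_iff.2 fun a ha => ?_) ?_
      · by_cases ha1 : a = 1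
        · simp [ha1]
        · rw [hPC a ha ha1] at hg
          exact (Subgroup.mem_centralizer_singleton_iff.1 hg).symm
      · rw [hPC x hxN h.ne_one]
        exact Subgroup.centralizer_le (Set.singleton_subset_iff.2 hxN)
    rw [hPN]
    infer_instance
  · intro hPn
    have hsub : Subsingleton (Sylow p G) := (Sylow.unique_of_normal P hPn).instSubsingleton
    refine le_antisymm (h.center_le hN hNp P) fun a ha => ⟨⟨a, hNP ha⟩, ?_, rfl⟩
    refine Subgroup.mem_center_iff.2 fun g => Subtype.ext ?_
    by_cases ha1 : a = 1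
    · simp [ha1]
    · obtain ⟨Q, hQ⟩ := h.exists_sylow hN hNp ha ha1
      have hg : (g : G) ∈ Subgroup.centralizer ({a} : Set G) := by
        rw [hQ, Subsingleton.elim Q P]; exact g.2
      exact Subgroup.mem_centralizer_singleton_iff.1 hg

end Cfsg.Agent.S4838
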