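import Cfsg.Statements.S4839
import Cfsg.Agent.Char.Gagola
-- import your own Cfsg.Agent.* helpers here

set_option autoImplicit false
open Cfsg

namespace Cfsg.Agent.S4839

/-- Let G be a finite group of order greater than 2 with an irreducible character χ nonzero on exactly two conjugacy classes, and let N be the normal p-subgroup of elements where χ is nonzero. Then N is the whole p-core O_p(G) if and only if G is a doubly transitive Frobenius group with kernel N: G has a Frobenius complement H whose Frobenius kernel is N and whose order is one less than that of N. -/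
theorem result {G : Type*} [Group G] [Finite G] (hG : 2 < Nat.card G) (χ : Cfsg.IrrCharacter G) (hχ : Nat.card {C : ConjClasses G // ∃ g ∈ C.carrier, (χ : G → ℂ) g ≠ 0} = 2) (p : ℕ) [Fact p.Prime] (N : Subgroup G) [N.Normal] (hN : ∀ g : G, g ∈ N ↔ (χ : G → ℂ) g ≠ 0) (hNp : IsPGroup p N) (hN1 : N ≠ ⊥) :
    N = Cfsg.pCore p G ↔ ∃ H : Subgroup G, Cfsg.IsFrobeniusComplement H ∧ Cfsg.frobeniusKernel H = (N : Set G) ∧ Nat.card H + 1 = Nat.card N := by
  classical
  have := Fintype.ofFinite G
  obtain ⟨x, h⟩ := Char.exists_gagola hG χ hχ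
  constructor
  · intro hcore
    have hnd := h.not_dvd_index_of_eq_pCore hN hNp hcore
    obtain ⟨k, hk⟩ := IsPGroup.iff_card.1 hNp
    have hcop : Nat.Coprime (Nat.card N) N.index := by
      rw [hk]; exact ((Fact.out : p.Prime).coprime_iff_not_dvd.2 hnd).pow_left k
    obtain ⟨H, hH⟩ := Subgroup.exists_right_complement'_of_coprime hcop
    have hcard : Nat.card N * Nat.card H = Nat.card G := hH.card_mul
    have hxN := h.mem_x hN
    have hCeq : ∀ a ∈ N, a ≠ 1 → Subgroup.centralizer ({a} : Set G) = N := by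
      intro a ha ha1
      obtain ⟨Q, hQ⟩ := h.exists_sylow hN hNp ha ha1
      rw [hQ]
      refine (Q.3 hNp ?_).symm ▸ rfl
      obtain ⟨Q', hQ'⟩ : ∃ Q' : Sylow p G, (Q' : Subgroup G) = N := ⟨hNp.toSylow hnd, rfl⟩
      have hsub : Subsingleton (Sylow p G) :=
        (Sylow.unique_of_normal Q' (hQ'.symm ▸ inferInstance)).instSubsingleton
      rw [Subsingleton.elim Q Q', hQ']
    have hHcard : Nat.card H + 1 = Nat.card N := by
      have h1 := h.index_centralizer hN hxN h.ne_one
      rw [hCeq x hxN h.ne_one] at h1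
      have h2 := N.card_mul_index
      rw [← hcard] at h2
      rw [← Nat.eq_of_mul_eq_mul_left Nat.card_pos h2]
      exact h1
    have hint : ∀ g ∈ H, g ∈ N → g = 1 := fun g h1 h2 =>
      Subgroup.disjoint_def.1 hH.disjoint h2 h1
    have hNH : ∀ g : G, ∃ n ∈ N, ∃ c ∈ H, g = n * c := fun g => by
      obtain ⟨⟨n, c⟩, hnc, -⟩ := hH.existsUnique g
      exact ⟨n, n.2, c, c.2, hnc.symm⟩
    have hne1 : H ≠ ⊥ := by
      intro e
      rw [e, Subgroup.card_bot] at hHcard
      have h3 := hG
      rw [← hcard, e, Subgroup.card_bot, mul_one] at h3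
      omega
    have hne2 : H ≠ ⊤ := fun e => h.ne_one (hint x (e ▸ Subgroup.mem_top x) hxN)
    have hfrob : Cfsg.IsFrobeniusComplement H := by
      refine ⟨hne1, hne2, fun g hg => eq_bot_iff.2 fun a ha => ?_⟩
      obtain ⟨n, hn, c, hc, rfl⟩ := hNH g
      have ha' : (n * c)⁻¹ * a * (n * c) ∈ H := Coprime.mem_conj_smul.1 ha.2
      have hb : n⁻¹ * a * n ∈ H := by
        have := H.mul_mem (H.mul_mem hc ha') (H.inv_mem hc)
        rwa [show c * ((n * c)⁻¹ * a * (n * c)) * c⁻¹ = n⁻¹ * a * n by group] at this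
      have hcomm : a⁻¹ * (n⁻¹ * a * n) ∈ N := by
        rw [show a⁻¹ * (n⁻¹ * a * n) = (a⁻¹ * n⁻¹ * a⁻¹⁻¹) * n by group]
        exact N.mul_mem ((inferInstance : N.Normal).conj_mem _ (N.inv_mem hn) a⁻¹) hn
      have h1 := hint _ (H.mul_mem (H.inv_mem ha.1) hb) hcomm
      have hn1 : n ≠ 1 := fun e => hg (by rw [e, one_mul]; exact hc)
      have h2 : a ∈ Subgroup.centralizer ({n} : Set G) := by
        rw [Subgroup.mem_centralizer_singleton_iff]
        rw [inv_mul_eq_one] at h1
        conv_rhs => rw [h1]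
        group
      rw [hCeq n hn hn1] at h2
      exact Subgroup.mem_bot.2 (hint a ha.1 h2)
    refine ⟨H, hfrob, Set.ext fun g => ?_, hHcard⟩
    rw [Core.mem_frobeniusKernel_iff, SetLike.mem_coe]
    refine ⟨?_, fun hg => ?_⟩
    · rintro (rfl | hg)
      · exact N.one_mem
      · by_contra hgN
        obtain ⟨n, hn, c, hc, rfl⟩ := hNH g
        obtain ⟨w, hw⟩ := isConj_iff.1 (h.conj_coset hN hgN (a := c) (by
          rw [QuotientGroup.mk_mul, (QuotientGroup.eq_one_iff n).2 hn, one_mul]))
        exact hg w⁻¹ (by rw [inv_inv, hw]; exact hc)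
    · by_cases hg1 : g = 1
      · exact Or.inl hg1
      · refine Or.inr fun w hw => hg1 ?_
        have hwN : w⁻¹ * g * w ∈ N := by
          simpa using (inferInstance : N.Normal).conj_mem g hg w⁻¹
        have h1 := hint _ hw hwN
        calc g = w * (w⁻¹ * g * w) * w⁻¹ := by group
          _ = 1 := by rw [h1]; group
  · rintro ⟨H, hH, hker, hcard⟩
    obtain ⟨K, hK, hKn, hcompl⟩ := Core.exists_frobeniusKernel hH
    have hKN : K = N := SetLike.coe_injective (hK.trans hker)
    rw [hKN] at hcompl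
    have hGcard := hcompl.card_mul
    refine le_antisymm (Core.le_pCore hNp) ?_
    obtain ⟨k, hk⟩ := IsPGroup.iff_card.1 hNp
    obtain ⟨j, hj⟩ := IsPGroup.iff_card.1 (Core.pCore_isPGroup (p := p) (G := G))
    have hk0 : k ≠ 0 := fun e => hN1 (Subgroup.eq_bot_of_card_eq N (by rw [hk, e, pow_zero]))
    have hHp : ¬ p ∣ Nat.card H := fun hd => by
      have h2 : p ∣ Nat.card H + 1 := by rw [hcard, hk]; exact dvd_pow_self p hk0
      exact (Fact.out : p.Prime).not_dvd_one ((Nat.dvd_add_right hd).1 h2)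
    refine (Subgroup.eq_of_le_of_card_ge (Core.le_pCore hNp) ?_).ge
    have h1 : p ^ j ∣ Nat.card N * Nat.card H := by
      rw [hGcard, ← hj]; exact Subgroup.card_subgroup_dvd_card _
    rw [hj]
    exact Nat.le_of_dvd Nat.card_pos
      ((((Fact.out : p.Prime).coprime_iff_not_dvd.2 hHp).pow_left j).dvd_of_dvd_mul_right h1)

end Cfsg.Agent.S4839
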