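import Cfsg.Statements.S4840
import Cfsg.Agent.BlockChar.TransitiveFpf
import Cfsg.Agent.Char.Gagola
open scoped commutatorElement
-- import your own Cfsg.Agent.* helpers here

set_option autoImplicit false
set_option maxHeartbeats 400000
open Cfsg

namespace Cfsg.Agent.S4840

/-- Let G be a finite solvable group of order greater than 2 with an irreducible character nonzero on exactly two conjugacy classes. Then there is exactly one prime p with O_p(G) ≠ 1, and the quotient G/O_p(G) has a normal p-complement and commutative Sylow p-subgroups. -/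
theorem result {G : Type*} [Group G] [Finite G] [hs : Group.IsSolvable G] (hG : 2 < Nat.card G) (χ : Cfsg.IrrCharacter G) (hχ : Nat.card {C : ConjClasses G // ∃ g ∈ C.carrier, (χ : G → ℂ) g ≠ 0} = 2) :
    ∃ p : ℕ, p.Prime ∧ (∀ q : ℕ, q.Prime → (Cfsg.pCore q G ≠ ⊥ ↔ q = p)) ∧
      Cfsg.HasNormalPComplement p (G ⧸ Cfsg.pCore p G) ∧ ∀ Q : Sylow p (G ⧸ Cfsg.pCore p G), IsMulCommutative (Q : Subgroup (G ⧸ Cfsg.pCore p G)) := by
  classical
  have := Fintype.ofFinite G
  obtain ⟨x, h⟩ := Cfsg.Agent.Char.exists_gagola hG χ hχ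
  obtain ⟨N, hNn, hN, -⟩ := h.exists_subgroup
  haveI : N.Normal := hNn
  have hne : N ≠ ⊥ := fun e => h.ne_one ((Subgroup.mem_bot).1 (e ▸ h.mem_x hN))
  obtain ⟨p, hp, hxp⟩ := Nat.exists_prime_and_dvd (n := orderOf x)
    fun e => h.ne_one (orderOf_eq_one_iff.1 e)
  have : Fact p.Prime := ⟨hp⟩
  have hconj : ∀ a ∈ N, ∀ b ∈ N, a ≠ 1 → b ≠ 1 → ∃ g : G, g * a * g⁻¹ = b := fun a ha b hb ha1 hb1 =>
    isConj_iff.1 ((h.conj_of_mem hN ha ha1).symm.trans (h.conj_of_mem hN hb hb1))
  obtain ⟨z, hz⟩ : ∃ z, x ^ (orderOf x / p) = z := ⟨_, rfl⟩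
  have hzord : orderOf z = p := hz ▸ orderOf_pow_orderOf_div (orderOf_pos x).ne' hxp
  have hzN : z ∈ N := hz ▸ N.pow_mem (h.mem_x hN) _
  have hz1 : z ≠ 1 := fun e => by rw [e, orderOf_one] at hzord; exact hp.ne_one hzord.symm
  have hall : ∀ a ∈ N, a ^ p = 1 := by
    intro a ha
    by_cases ha1 : a = 1
    · simp [ha1]
    · obtain ⟨g, hg⟩ := hconj z hzN a ha hz1 ha1
      rw [← hg, conj_pow, ← hzord, pow_orderOf_eq_one]; simp
  have hNp : IsPGroup p N := fun a => ⟨1, Subtype.ext (by simpa using hall a a.2)⟩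
  refine ⟨p, hp, fun q hq => ⟨fun hqne => ?_, fun e => ?_⟩, ?_⟩
  · by_contra hqp
    have := Fact.mk hq
    have hle : N ≤ Cfsg.pCore q G := h.le_of_normal (K := Cfsg.pCore q G) hN hqne
    have hzq : IsPGroup q (Cfsg.pCore q G) := Cfsg.Agent.Core.pCore_isPGroup
    obtain ⟨t, ht⟩ := IsPGroup.iff_orderOf.1 hzq ⟨z, hle hzN⟩
    rw [Subgroup.orderOf_mk, hzord] at ht
    exact hqp ((Nat.prime_dvd_prime_iff_eq hp hq).1 (hp.dvd_of_dvd_pow (dvd_of_eq ht))).symm
  · subst e
    exact fun hb => hne (le_bot_iff.1 (hb ▸ Cfsg.Agent.Core.le_pCore hNp))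
  -- the action of the quotient
  letI : CommGroup N :=
    { (inferInstance : Group N) with mul_comm := fun a b => Subtype.ext (h.comm hN hNp a.2 b.2) }
  have : Nontrivial N := ⟨⟨z, hzN⟩, 1, fun e => hz1 (congrArg Subtype.val e)⟩
  obtain ⟨O, hO⟩ : ∃ O : Subgroup G, Cfsg.pCore p G = O := ⟨_, rfl⟩
  let ρ : G →* MulAut N := MulAut.conjNormal
  have hker : Cfsg.pCore p G ≤ ρ.ker := fun g hg => MonoidHom.mem_ker.2 (MulEquiv.ext fun v => by
    rcases eq_or_ne (v : N) 1 with rfl | hv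
    · simp
    obtain ⟨P, hP⟩ := h.exists_sylow hN hNp v.2 (fun e => hv (Subtype.ext e))
    have hgP := Subgroup.mem_centralizer_singleton_iff.1 (hP.symm ▸ Cfsg.Agent.Core.pCore_le_sylow P hg)
    refine Subtype.ext ?_
    show ((MulAut.conjNormal g) v : G) = v
    rw [MulAut.conjNormal_apply, hgP, mul_inv_cancel_right])
  let φ : G ⧸ Cfsg.pCore p G →* MulAut N := QuotientGroup.lift _ ρ hker
  have hH : Group.IsSolvable (G ⧸ Cfsg.pCore p G) := inferInstance
  have hcore := Cfsg.Agent.Core.pCore_quotient_eq_bot (p := p) (G := G)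
  have hfpf : ∀ g : G ⧸ Cfsg.pCore p G, ¬ p ∣ orderOf g → g ≠ 1 → ∀ v : N, φ g v = v → v = 1 := by
    intro g
    induction g using QuotientGroup.induction_on with
    | H g =>
      intro hpd hg1 v hv
      by_contra hv1
      obtain ⟨P, hP⟩ := h.exists_sylow hN hNp v.2 (fun e => hv1 (Subtype.ext e))
      have hgP : g ∈ (P : Subgroup G) := hP ▸ Subgroup.mem_centralizer_singleton_iff.2 (by
        have := congrArg Subtype.val hv
        simp only [φ, ρ, QuotientGroup.lift_mk, MulAut.conjNormal_apply] at this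
        exact mul_inv_eq_iff_eq_mul.1 this)
      obtain ⟨t, ht⟩ := IsPGroup.iff_orderOf.1 P.2 ⟨g, hgP⟩
      rw [Subgroup.orderOf_mk] at ht
      refine hg1 (orderOf_eq_one_iff.1 (Nat.eq_one_of_dvd_coprimes
        (Nat.Coprime.pow_left t (hp.coprime_iff_not_dvd.2 hpd)) ?_ dvd_rfl))
      rw [← ht]
      exact orderOf_map_dvd (QuotientGroup.mk' (Cfsg.pCore p G)) g
  have hcard : ∀ r : ℕ, r.Prime → r ≠ p →
      (Nat.card (G ⧸ Cfsg.pCore p G)).factorization r = (Nat.card N - 1).factorization r := by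
    intro r hr hrp
    obtain ⟨P, hP⟩ := h.exists_sylow hN hNp hzN hz1
    have hidx := h.index_centralizer hN hzN hz1
    rw [hP] at hidx
    have hzero : ∀ (K : Subgroup G), IsPGroup p K → (Nat.card K).factorization r = 0 := fun K hK => by
      obtain ⟨t, ht⟩ := IsPGroup.iff_card.1 hK
      rw [ht, Nat.factorization_pow, Finsupp.coe_smul, Pi.smul_apply, hp.factorization,
        Finsupp.single_eq_of_ne hrp, smul_zero]
    have h1 := congrArg (fun n => n.factorization r) (P : Subgroup G).card_mul_index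
    rw [Nat.factorization_mul Nat.card_pos.ne' Subgroup.index_ne_zero_of_finite, Finsupp.coe_add,
      Pi.add_apply, hzero _ P.2, zero_add] at h1
    have h2 := congrArg (fun n => n.factorization r)
      (Subgroup.card_eq_card_quotient_mul_card_subgroup (Cfsg.pCore p G))
    rw [Nat.factorization_mul Nat.card_pos.ne' Nat.card_pos.ne', Finsupp.coe_add, Pi.add_apply,
      hzero _ Cfsg.Agent.Core.pCore_isPGroup, add_zero, ← h1] at h2
    rw [← h2, show (P : Subgroup G).index = Nat.card N - 1 by omega]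
  have hd := Cfsg.Agent.TransFpf.not_dvd_card_commutator φ
    (fun v => Subtype.ext (by simpa using hall v v.2)) hcore hfpf hcard
  constructor
  · obtain ⟨Q₀⟩ : Nonempty (Sylow p (Abelianization (G ⧸ Cfsg.pCore p G))) := inferInstance
    obtain ⟨K, hK⟩ := Subgroup.exists_right_complement'_of_coprime Q₀.card_coprime_index
    obtain ⟨M, hM⟩ : ∃ M : Subgroup (G ⧸ Cfsg.pCore p G), K.comap Abelianization.of = M := ⟨_, rfl⟩
    obtain ⟨S⟩ : Nonempty (Sylow p (G ⧸ Cfsg.pCore p G)) := inferInstance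
    have hMn : M.Normal := hM ▸ inferInstance
    refine ⟨S, M, hMn, ?_⟩
    have hsurj : Function.Surjective (Abelianization.of (G := G ⧸ Cfsg.pCore p G)) :=
      QuotientGroup.mk_surjective
    have hidx : M.index = Nat.card (Q₀ : Subgroup (Abelianization (G ⧸ Cfsg.pCore p G))) := by
      rw [← hM, Subgroup.index_comap_of_surjective _ hsurj]
      exact hK.index_eq_card
    have hMp : ¬ p ∣ Nat.card M := by
      intro hd'
      obtain ⟨⟨m, hm⟩, hmo⟩ := exists_prime_orderOf_dvd_card' p hd'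
      rw [Subgroup.orderOf_mk] at hmo
      rw [← hM, Subgroup.mem_comap] at hm
      have h1 : Abelianization.of m = 1 := by
        have h3 : orderOf (Abelianization.of m) ∣ Nat.card K := by
          rw [← Subgroup.orderOf_mk (H := K) _ hm]; exact orderOf_dvd_natCard _
        have h4 : ¬ p ∣ Nat.card K := by
          rw [← hK.symm.index_eq_card]; exact Q₀.not_dvd_index
        exact orderOf_eq_one_iff.1 (Nat.eq_one_of_dvd_coprimes (hp.coprime_iff_not_dvd.2 h4)
          ((orderOf_map_dvd Abelianization.of m).trans (dvd_of_eq hmo)) h3)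
      have h2 : m ∈ commutator (G ⧸ Cfsg.pCore p G) := (QuotientGroup.eq_one_iff m).1 h1
      exact hd ((dvd_of_eq (hmo.symm.trans (Subgroup.orderOf_mk
        (H := commutator (G ⧸ Cfsg.pCore p G)) m h2).symm)).trans (orderOf_dvd_natCard _))
    obtain ⟨t, ht⟩ := IsPGroup.iff_card.1 Q₀.2
    have hcM := M.card_mul_index
    rw [hidx, ht] at hcM
    have hS : Nat.card (S : Subgroup (G ⧸ Cfsg.pCore p G)) = p ^ t := by
      rw [S.card_eq_multiplicity, ← hcM,
        Nat.factorization_mul Nat.card_pos.ne' (pow_ne_zero _ hp.ne_zero), Finsupp.coe_add,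
        Pi.add_apply, Nat.factorization_eq_zero_of_not_dvd hMp, zero_add, hp.factorization_pow,
        Finsupp.single_eq_same]
    refine Subgroup.isComplement'_of_coprime (by rw [hS]; exact hcM) ?_
    rw [hS]
    exact ((hp.coprime_iff_not_dvd.2 hMp).symm).pow_right t
  · intro Q
    refine ⟨⟨fun a b => ?_⟩⟩
    have hmem : ⁅(a : G ⧸ Cfsg.pCore p G), (b : G ⧸ Cfsg.pCore p G)⁆ ∈ commutator (G ⧸ Cfsg.pCore p G) := by
      rw [_root_.commutator_def]
      exact Subgroup.commutator_mem_commutator (Subgroup.mem_top _) (Subgroup.mem_top _)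
    obtain ⟨t, ht⟩ := IsPGroup.iff_orderOf.1 Q.2 ⁅a, b⁆
    rw [← Subgroup.orderOf_coe] at ht
    have h3 : orderOf ⁅(a : G ⧸ Cfsg.pCore p G), (b : G ⧸ Cfsg.pCore p G)⁆ ∣
        Nat.card (commutator (G ⧸ Cfsg.pCore p G)) :=
      by rw [← Subgroup.orderOf_mk (H := commutator (G ⧸ Cfsg.pCore p G)) _ hmem]; exact orderOf_dvd_natCard _
    have h4 : ⁅(a : G ⧸ Cfsg.pCore p G), (b : G ⧸ Cfsg.pCore p G)⁆ = 1 := by
      refine orderOf_eq_one_iff.1 (Nat.eq_one_of_dvd_coprimes
        ((hp.coprime_iff_not_dvd.2 hd).pow_left t) (dvd_of_eq ?_) h3)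
      exact ht
    exact Subtype.ext (commutatorElement_eq_one_iff_mul_comm.1 h4)

end Cfsg.Agent.S4840
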