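import Mathlib
import Cfsg.Statements.S4843
import Cfsg.Agent.CharProd.FittingCentral
import Cfsg.Agent.Core.Fitting

set_option autoImplicit false
open Cfsg

namespace Cfsg.Agent.S4843

/-- Let G be a finite group with a faithful irreducible character χ (taking the value χ(1) only at the identity) and let k be prime to the order of G, so that g ↦ χ(g^k) is a Galois conjugate of χ. If the pointwise product g ↦ χ(g)·χ(g^k) is again an irreducible character, then the Fitting subgroup of G equals its centre. -/
theorem result {G : Type*} [Group G] [Finite G] (χ : Cfsg.IrrCharacter G) (hfaith : ∀ g : G, (χ : G → ℂ) g = (χ : G → ℂ) 1 → g = 1) (k : ℕ) (hk : Nat.Coprime k (Nat.card G)) (hirr : Cfsg.IsIrrCharacter G (fun g => (χ : G → ℂ) g * (χ : G → ℂ) (g ^ k))) : Cfsg.fittingSubgroup G = Subgroup.center G := by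
  classical
  have := Fintype.ofFinite G
  have key := Cfsg.Agent.CharProd.le_center (χ : G → ℂ) χ.2 hfaith k hk hirr
  refine le_antisymm ?_ ?_
  · set F := fittingSubgroup G
    have hFn : Group.IsNilpotent F := Cfsg.Agent.Core.fittingSubgroup_isNilpotent
    have hnorm : F.Normal := Cfsg.Agent.Core.fittingSubgroup_normal
    have hmapn : ∀ C : Subgroup F, C.Characteristic → (C.map F.subtype).Normal := fun C hC =>
      ConjAct.normal_of_characteristic_of_normal
    have hstep : ∀ i, (Subgroup.upperCentralSeries F i).map F.subtype ≤ Subgroup.center G := by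
      intro i
      induction i with
      | zero => simp
      | succ i ih =>
        refine key _ (hmapn _ inferInstance) ?_
        rintro _ ⟨a, ha, rfl⟩ _ ⟨b, -, rfl⟩
        refine ih ⟨a⁻¹ * b⁻¹ * a * b, ?_, rfl⟩
        have h1 := (Subgroup.mem_upperCentralSeries_succ_iff.1 ((Subgroup.inv_mem _ ha))) b⁻¹
        simpa [commutatorElement_def, mul_assoc] using h1
    obtain ⟨n, hn⟩ := Group.IsNilpotent.nilpotent (G := F)
    have := hstep n
    rwa [hn, ← MonoidHom.range_eq_map, Subgroup.range_subtype] at this
  · exact Cfsg.Agent.Core.le_fittingSubgroup_of_isMulCommutative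

end Cfsg.Agent.S4843
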