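import Cfsg.Statements.S4845
import Cfsg.Agent.Char.GaloisDegree
-- import your own Cfsg.Agent.* helpers here

set_option autoImplicit false
open Cfsg

namespace Cfsg.Agent.S4845

/-- Let p be a prime and P a finite non-commutative p-group. Then every two irreducible characters of P of the same degree greater than 1 are Galois conjugate (one is obtained from the other by composing with g ↦ g^k for some k prime to the order of P) if and only if the centre of P is cyclic and the derived subgroup of P has order p. -/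
theorem result {P : Type*} [Group P] [Finite P] (p : ℕ) [Fact p.Prime] (hP : IsPGroup p P) (hna : ¬ IsMulCommutative P) :
    (∀ χ ψ : Cfsg.IrrCharacter P, Cfsg.charDegree (χ : P → ℂ) ≠ 1 → Cfsg.charDegree (χ : P → ℂ) = Cfsg.charDegree (ψ : P → ℂ) → ∃ k : ℕ, Nat.Coprime k (Nat.card P) ∧ ∀ g : P, (ψ : P → ℂ) g = (χ : P → ℂ) (g ^ k)) ↔
      (IsCyclic (Subgroup.center P) ∧ Nat.card (commutator P) = p) := by
  have hdeg : ∀ χ : Cfsg.IrrCharacter P, (χ : P → ℂ) 1 = (Cfsg.charDegree (χ : P → ℂ) : ℂ) := by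
    intro χ
    obtain ⟨d, -, hd⟩ := Cfsg.Agent.Char.IsIrr.degree χ.2
    rw [Cfsg.Agent.Char.charDegree_eq_natCast hd, hd]
  constructor
  · intro h
    refine Cfsg.Agent.Char.center_cyclic_of_galois hP ?_ ?_
    · intro e
      refine hna ⟨⟨fun a b => commutatorElement_eq_one_iff_mul_comm.1 ?_⟩⟩
      exact (Subgroup.eq_bot_iff_forall _).1 e _
        (Subgroup.commutator_mem_commutator (Subgroup.mem_top a) (Subgroup.mem_top b))
    · intro χ ψ h1 he g hg
      obtain ⟨k, -, hk⟩ := h χ ψ (fun e => h1 (by rw [hdeg, e, Nat.cast_one]))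
        (by rw [hdeg, hdeg] at he; exact_mod_cast he)
      rw [hk, hk, one_pow]
      exact pow_mem (show g ∈ Cfsg.Agent.Char.kerSubgroup
        (Cfsg.Agent.Char.IsIrr.isCharacter χ.2) from hg) k
  · rintro ⟨hc, hQ'⟩ χ ψ h1 he
    exact Cfsg.Agent.Char.galois_of_center_cyclic hP hc hQ' χ ψ
      (fun e => h1 (by rw [hdeg] at e; exact_mod_cast e)) (by rw [hdeg, hdeg, he])

end Cfsg.Agent.S4845
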