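import Cfsg.Statements.S4850
import Cfsg.Agent.BlockChar.VanPSing.Main
-- import your own Cfsg.Agent.* helpers here

set_option autoImplicit false
open Cfsg

namespace Cfsg.Agent.S4850

/-- Let p be a prime and G a finite solvable group whose vanishing elements (elements at which some irreducible character is zero) of order divisible by p all have the same order, with at least one such element. Let P be a Sylow p-subgroup of G. Then the derived subgroup of P is subnormal in G and the image of P in G/O_p(G) is cyclic. -/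
theorem result {G : Type*} [Group G] [Finite G] [hs : Group.IsSolvable G] (p : ℕ) [Fact p.Prime] (b : ℕ) (hvo : {n : ℕ | p ∣ n ∧ ∃ (g : G) (χ : Cfsg.IrrCharacter G), orderOf g = n ∧ (χ : G → ℂ) g = 0} = {b}) (P : Sylow p G) :
    ((commutator ↥(P : Subgroup G)).map (P : Subgroup G).subtype).IsSubnormal ∧ IsCyclic ↥((P : Subgroup G).map (QuotientGroup.mk' (Cfsg.pCore p G))) := by
  have := hs
  have hdvd := Cfsg.Agent.VanPSing.card_map_dvd P fun g h hg hgp hh hhp => by
    have h1 : orderOf g ∈ ({b} : Set ℕ) := by
      rw [← hvo]; obtain ⟨χ, hχ⟩ := hg; exact ⟨hgp, g, χ, rfl, hχ⟩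
    have h2 : orderOf h ∈ ({b} : Set ℕ) := by
      rw [← hvo]; obtain ⟨χ, hχ⟩ := hh; exact ⟨hhp, h, χ, rfl, hχ⟩
    exact h1.trans h2.symm
  have hp : Fact p.Prime := inferInstance
  have hcyc : IsCyclic ((P : Subgroup G).map (QuotientGroup.mk' (Cfsg.pCore p G))) := by
    rcases (Nat.dvd_prime hp.out).1 hdvd with h | h
    · have := (Nat.card_eq_one_iff_unique.1 h).1
      infer_instance
    · exact isCyclic_of_prime_card h
  have hn := (Cfsg.Agent.Core.pCore_isPGroup (p := p) (G := G)).isNilpotent
  exact ⟨Cfsg.Agent.VanPSing.isSubnormal_of_le_nilpotent hn _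
    (Cfsg.Agent.VanPSing.commutator_le_of_isCyclic_map hcyc), hcyc⟩

end Cfsg.Agent.S4850
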