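import Cfsg.Statements.S4859
import Mathlib
import Cfsg.Agent.Char.FS

set_option autoImplicit false
open Cfsg

namespace Cfsg.Agent.S4859

/-- Let p be an odd prime, G a finite group and x an element of G whose order is a power of p (possibly 1) and whose centralizer has even order. Let y be a 2-element of the centralizer of x whose order is largest among the 2-elements of that centralizer. Then x * y is not a square in G, and some non-principal real-valued irreducible character of G does not vanish at x * y. -/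
theorem result {G : Type*} [Group G] [Finite G] (p : ℕ) [Fact p.Prime] (hp : p ≠ 2) (x : G) (hx : ∃ k : ℕ, orderOf x = p ^ k) (heven : Even (Nat.card (Subgroup.centralizer ({x} : Set G)))) (y : G) (hy : y ∈ Subgroup.centralizer ({x} : Set G)) (hy2 : ∃ k : ℕ, orderOf y = 2 ^ k) (hmax : ∀ z ∈ Subgroup.centralizer ({x} : Set G), (∃ k : ℕ, orderOf z = 2 ^ k) → orderOf z ≤ orderOf y) : (¬ ∃ u : G, u * u = x * y) ∧ ∃ χ : Cfsg.IrrCharacter G, ¬ ((χ : G → ℂ) = fun _ => (1 : ℂ)) ∧ (∀ g : G, ((χ : G → ℂ) g).im = 0) ∧ (χ : G → ℂ) (x * y) ≠ 0 := by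
  classical
  have := Fintype.ofFinite G
  have hp' : p.Prime := Fact.out
  obtain ⟨a, ha⟩ := hx
  obtain ⟨b, hb⟩ := hy2
  have hcomm : Commute x y := (Subgroup.mem_centralizer_singleton_iff.1 hy).symm
  have hcop : (orderOf x).Coprime (orderOf y) := by
    rw [ha, hb]
    exact ((Nat.coprime_primes hp' Nat.prime_two).2 hp).pow a b
  have hbpos : 0 < b := by
    rcases Nat.eq_zero_or_pos b with rfl | h
    · haveI : Fact (Nat.Prime 2) := ⟨Nat.prime_two⟩
      obtain ⟨z, hz⟩ := exists_prime_orderOf_dvd_card' 2 heven.two_dvd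
      have hz' : orderOf (z : G) = 2 := by rw [← hz]; exact Subgroup.orderOf_coe z
      have := hmax z z.2 ⟨1, by rw [hz', pow_one]⟩
      rw [hz', hb, pow_zero] at this
      omega
    · exact h
  have hnsq : ¬ ∃ u : G, u * u = x * y := by
    rintro ⟨u, hu⟩
    obtain ⟨j, hj⟩ : ∃ j : ℕ, (x * y) ^ j = x := by
      obtain ⟨c, hc⟩ := exists_pow_eq_self_of_coprime (n := orderOf y) (x := x) hcop.symm
      refine ⟨orderOf y * c, ?_⟩
      rw [pow_mul, hcomm.mul_pow, pow_orderOf_eq_one, mul_one, hc]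
    have hxy : Commute u (x * y) := by rw [← hu]; exact (Commute.refl u).mul_right (Commute.refl u)
    have hux : Commute u x := hj ▸ hxy.pow_right j
    have hord : orderOf (u * u) = p ^ a * 2 ^ b := by
      rw [hu, hcomm.orderOf_mul_eq_mul_orderOf_of_coprime hcop, ha, hb]
    rw [← sq, orderOf_pow] at hord
    set n := orderOf u with hn
    have hn0 : 0 < n := orderOf_pos u
    have h2n : 2 ∣ n := by
      refine dvd_trans (dvd_trans (dvd_pow_self 2 hbpos.ne') ?_) (Nat.div_dvd_of_dvd (Nat.gcd_dvd_left n 2))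
      exact hord ▸ dvd_mul_left _ _
    rw [Nat.gcd_eq_right h2n] at hord
    have hn' : n = p ^ a * 2 ^ (b + 1) := by
      rw [pow_succ, ← mul_assoc, ← hord, Nat.div_mul_cancel h2n]
    have hz : orderOf (u ^ p ^ a) = 2 ^ (b + 1) := by
      rw [orderOf_pow, ← hn, hn', Nat.gcd_eq_right (dvd_mul_right _ _),
        Nat.mul_div_cancel_left _ (pow_pos hp'.pos a)]
    have := hmax (u ^ p ^ a) (Subgroup.mem_centralizer_singleton_iff.2 (hux.pow_left _).eq)
      ⟨b + 1, hz⟩
    rw [hz, hb] at this
    exact absurd this (not_le.2 (Nat.pow_lt_pow_right (by norm_num) (Nat.lt_succ_self b)))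
  refine ⟨hnsq, ?_⟩
  by_contra hall
  push Not at hall
  have h0 : Nat.card {s : G // s * s = x * y} = 0 := by
    haveI : IsEmpty {s : G // s * s = x * y} := ⟨fun s => hnsq ⟨s.1, s.2⟩⟩
    exact Nat.card_of_isEmpty
  have hsum := Char.card_sqrt_eq_sum (x * y)
  let one : IrrCharacter G := ⟨fun _ => 1, Char.isIrrCharacter_one⟩
  rw [h0, Finset.sum_eq_single one] at hsum
  · have h1 : Char.fsInd (fun _ : G => (1 : ℂ)) = 1 := by
      simp [Char.fsInd, Finset.card_univ, Nat.card_eq_fintype_card]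
    simp [one, h1] at hsum
  · intro χ _ hne
    rcases Char.fsInd_irr χ with ⟨h, -⟩ | ⟨-, hr⟩
    · rw [h, zero_mul]
    · rw [hall χ (fun e => hne (Subtype.ext e)) ((Char.conjIrr_eq_iff χ).1 hr), mul_zero]
  · exact fun h => absurd (Finset.mem_univ _) h

end Cfsg.Agent.S4859
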