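import Cfsg.Statements.S4860
import Cfsg.Agent.BlockChar.RegInner
import Cfsg.Agent.Char.FS

set_option autoImplicit false
open Cfsg

namespace Cfsg.Agent.S4860

open Cfsg.Agent
open scoped ComplexConjugate

variable {G : Type*} [Group G] [Fintype G] {p : ℕ} {M : Ideal Cfsg.AlgInt}

private theorem fsInd_one : Char.fsInd (fun _ : G => (1 : ℂ)) = 1 := by
  simp [Char.fsInd, Nat.card_eq_fintype_card]

/-- The Frobenius–Schur indicators weighted by the sums over the p-regular elements:
only the trivial character contributes. -/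
theorem sum_regM_fsInd (hM : Cfsg.IsPModular p M) (hp : p ≠ 2)
    [DecidablePred (· ∈ Cfsg.principalBlock M G)] :
    ∑ ψ : Cfsg.IrrCharacter G, (if ψ ∈ Cfsg.principalBlock M G ∧ ψ ≠ Blocks.triv G then
      BlockChar.regM p (Cfsg.principalBlock M G) (Blocks.triv G) ψ * Char.fsInd (ψ : G → ℂ)
      else 0) = 0 := by
  classical
  set B := Cfsg.principalBlock M G with hB'
  set t := Blocks.triv G with ht'
  have hB : Cfsg.IsPBlock M B := Blocks.isPBlock_principalBlock (G := G) M
  have ht : t ∈ B := Blocks.triv_mem_principalBlock hM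
  set P : ℂ := ((p ^ Cfsg.blockDefect p B : ℕ) : ℂ) with hP
  have hodd : Nat.Coprime p 2 := (Nat.coprime_primes hM.1 Nat.prime_two).2 hp
  have hsq : ∀ s : G, Cfsg.IsPRegular p (s * s) ↔ Cfsg.IsPRegular p s := by
    intro s
    simp only [Cfsg.IsPRegular, not_iff_not, ← pow_two, orderOf_pow]
    constructor
    · exact fun h => h.trans (Nat.div_dvd_of_dvd (Nat.gcd_dvd_left _ _))
    · intro h
      rcases (Nat.dvd_prime Nat.prime_two).1 (Nat.gcd_dvd_right (orderOf s) 2) with e | e
      · rw [e, Nat.div_one]; exact h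
      · rw [e]
        refine hodd.dvd_of_dvd_mul_right ?_
        rw [Nat.div_mul_cancel (e ▸ Nat.gcd_dvd_left (orderOf s) 2)]
        exact h
  have hall : ∑ ψ : Cfsg.IrrCharacter G,
      (if ψ ∈ B then BlockChar.regM p B t ψ * Char.fsInd (ψ : G → ℂ) else 0) =
      BlockChar.regM p B t t := by
    have h1 : ∀ ψ : Cfsg.IrrCharacter G,
        (if ψ ∈ B then BlockChar.regM p B t ψ * Char.fsInd (ψ : G → ℂ) else 0) =
        (Nat.card G : ℂ)⁻¹ * ∑ s : G,
          (if ψ ∈ B then BlockChar.regM p B t ψ * (ψ : G → ℂ) (s * s) else 0) := by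
      intro ψ
      split_ifs
      · simp only [Char.fsInd, Finset.mul_sum]
        exact Finset.sum_congr rfl fun s _ => by ring
      · simp
    rw [Finset.sum_congr rfl fun ψ _ => h1 ψ, ← Finset.mul_sum, Finset.sum_comm]
    simp only [BlockChar.sum_regM_mul hM hB ht]
    rw [BlockChar.regM, BlockChar.regSum]
    simp only [ht', Blocks.triv, map_one, mul_one, hsq]
    rw [← hP, div_eq_mul_inv, mul_comm P, mul_assoc, Finset.mul_sum (a := P)]
    simp only [mul_ite, mul_one, mul_zero]
  have h2 := Finset.sum_add_distrib (s := (Finset.univ : Finset (Cfsg.IrrCharacter G)))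
    (f := fun ψ => if ψ ∈ B ∧ ψ ≠ t then BlockChar.regM p B t ψ * Char.fsInd (ψ : G → ℂ) else 0)
    (g := fun ψ => if ψ = t then BlockChar.regM p B t ψ * Char.fsInd (ψ : G → ℂ) else 0)
  have h3 : ∀ ψ : Cfsg.IrrCharacter G,
      (if ψ ∈ B ∧ ψ ≠ t then BlockChar.regM p B t ψ * Char.fsInd (ψ : G → ℂ) else 0) +
      (if ψ = t then BlockChar.regM p B t ψ * Char.fsInd (ψ : G → ℂ) else 0) =
      (if ψ ∈ B then BlockChar.regM p B t ψ * Char.fsInd (ψ : G → ℂ) else 0) := by
    intro ψ
    by_cases h : ψ = t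
    · subst h; simp [ht]
    · simp [h]
  rw [Finset.sum_congr rfl fun ψ _ => h3 ψ, hall, Finset.sum_ite_eq' Finset.univ t,
    if_pos (Finset.mem_univ t)] at h2
  have h4 : Char.fsInd (t : G → ℂ) = 1 := fsInd_one
  rw [h4, mul_one] at h2
  have h5 := left_eq_add.1 (h2.trans (add_comm _ _))
  convert h5

omit [Fintype G] in
/-- A member of the principal block has non-zero sum over the p-regular elements. -/
theorem regM_triv_ne_zero [Fintype G] (hM : Cfsg.IsPModular p M) {χ : Cfsg.IrrCharacter G}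
    (hχ : χ ∈ Cfsg.principalBlock M G) :
    BlockChar.regM p (Cfsg.principalBlock M G) (Blocks.triv G) χ ≠ 0 := by
  have ht : Blocks.triv G ∈ Cfsg.principalBlock M G := Blocks.triv_mem_principalBlock hM
  have hh : Cfsg.blockHeight p (Cfsg.principalBlock M G) (Blocks.triv G : G → ℂ) = 0 := by
    have : Cfsg.charDegree (Blocks.triv G : G → ℂ) = 1 := by
      simp [Cfsg.charDegree, Blocks.triv]
    simp [BlockChar.blockHeight_eq, this]
  rw [← BlockChar.regM_comm hM]
  intro h0
  have := BlockChar.le_sq_regM hM (Blocks.isPBlock_principalBlock (G := G) M) hχ ht hh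
    (k := 0) (by rw [h0, Int.cast_zero])
  simp only [ne_eq, OfNat.ofNat_ne_zero, not_false_eq_true, zero_pow] at this
  have hpos : (0 : ℤ) < ((p ^ (2 * Cfsg.blockHeight p (Cfsg.principalBlock M G) (χ : G → ℂ)) : ℕ) : ℤ) := by
    exact_mod_cast pow_pos hM.1.pos _
  omega


/-- Let G be a finite group, p an odd prime and M a maximal ideal of the algebraic integers containing p. If the principal p-block of G contains a non-principal real-valued irreducible character α, then it contains a non-principal real-valued irreducible character β different from α, and β may be chosen so that no field automorphism of ℂ carries α to β. -/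
theorem result {G : Type*} [Group G] [Finite G] (p : ℕ) [Fact p.Prime] (hp : p ≠ 2) (M : Ideal Cfsg.AlgInt) (hM : Cfsg.IsPModular p M) (α : Cfsg.IrrCharacter G) (hα : α ∈ Cfsg.principalBlock M G) (hα1 : ¬ ((α : G → ℂ) = fun _ => (1 : ℂ))) (hαr : (∀ g : G, ((α : G → ℂ) g).im = 0)) : ∃ β : Cfsg.IrrCharacter G, β ∈ Cfsg.principalBlock M G ∧ ¬ ((β : G → ℂ) = fun _ => (1 : ℂ)) ∧ (∀ g : G, ((β : G → ℂ) g).im = 0) ∧ β ≠ α ∧ ∀ σ : ℂ ≃+* ℂ, (β : G → ℂ) ≠ (σ : ℂ → ℂ) ∘ (α : G → ℂ) := by
  classical
  have := Fintype.ofFinite G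
  by_contra hno
  simp only [not_exists, not_and, not_forall, not_ne_iff] at hno
  set B := Cfsg.principalBlock M G with hB'
  set t := Blocks.triv G with ht'
  set c := BlockChar.regM p B t α * Char.fsInd (α : G → ℂ) with hc'
  have hαc : Char.conjIrr α = α := (Char.conjIrr_eq_iff α).2 hαr
  have hc : c ≠ 0 := by
    refine mul_ne_zero (regM_triv_ne_zero hM hα) ?_
    rcases Char.fsInd_irr α with ⟨-, h⟩ | ⟨h | h, -⟩
    · exact absurd hαc h
    · rw [h]; exact one_ne_zero
    · rw [h]; norm_num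
  have hterm : ∀ ψ : Cfsg.IrrCharacter G,
      (if ψ ∈ B ∧ ψ ≠ t then BlockChar.regM p B t ψ * Char.fsInd (ψ : G → ℂ) else 0) =
      if ψ ∈ B ∧ ψ ≠ t ∧ Char.conjIrr ψ = ψ then c else 0 := by
    intro ψ
    by_cases h1 : ψ ∈ B ∧ ψ ≠ t
    · rw [if_pos h1]
      by_cases h2 : Char.conjIrr ψ = ψ
      · rw [if_pos ⟨h1.1, h1.2, h2⟩]
        by_cases h3 : ψ = α
        · rw [h3]
        obtain ⟨σ, hσ⟩ := hno ψ h1.1 (fun e => h1.2 (Subtype.ext e))
          ((Char.conjIrr_eq_iff ψ).1 h2) h3
        have hr : ∀ g : G, (ψ : G → ℂ) g = σ ((α : G → ℂ) g) := fun g => by rw [hσ]; rfl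
        have hf : Char.fsInd (ψ : G → ℂ) = σ (Char.fsInd (α : G → ℂ)) := by
          simp only [Char.fsInd, hr, map_mul, map_inv₀, map_natCast, map_sum]
        have hfix : σ (Char.fsInd (α : G → ℂ)) = Char.fsInd (α : G → ℂ) := by
          rcases Char.fsInd_irr α with ⟨h, -⟩ | ⟨h | h, -⟩ <;> rw [h] <;> simp
        have hs : ∀ χ : Cfsg.IrrCharacter G, Char.conjIrr χ = χ →
            BlockChar.regSum p (fun w => (t : G → ℂ) w * conj ((χ : G → ℂ) w)) =
              BlockChar.regSum p (χ : G → ℂ) := by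
          intro χ hχ
          congr 1
          funext w
          have := (Char.conjIrr_eq_iff χ).1 hχ w
          simp [ht', Blocks.triv, Complex.conj_eq_iff_im.2 this]
        obtain ⟨k, hk⟩ := BlockChar.exists_int_regSum hM.1 (Char.IsIrr.isCharacter α.2)
        have hsum : BlockChar.regSum p (ψ : G → ℂ) = BlockChar.regSum p (α : G → ℂ) := by
          have : BlockChar.regSum p (ψ : G → ℂ) = σ (BlockChar.regSum p (α : G → ℂ)) := by
            simp only [BlockChar.regSum, map_sum, hr]
            exact Finset.sum_congr rfl fun w _ => by split_ifs <;> simp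
          rw [this, hk]
          simp
        rw [hc', hf, hfix, BlockChar.regM, BlockChar.regM, hs ψ h2, hs α hαc, hsum]
      · rw [if_neg (fun h => h2 h.2.2)]
        rcases Char.fsInd_irr ψ with ⟨h, -⟩ | ⟨-, h⟩
        · rw [h, mul_zero]
        · exact absurd h h2
    · rw [if_neg h1, if_neg (fun h => h1 ⟨h.1, h.2.1⟩)]
  have h := sum_regM_fsInd (G := G) hM hp
  rw [Finset.sum_congr rfl fun ψ _ => hterm ψ, ← Finset.sum_filter, Finset.sum_const,
    nsmul_eq_mul, mul_eq_zero, Nat.cast_eq_zero, Finset.card_eq_zero] at h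
  refine h.elim (fun e => ?_) hc
  have : α ∈ (Finset.univ : Finset (Cfsg.IrrCharacter G)).filter
      (fun ψ => ψ ∈ B ∧ ψ ≠ t ∧ Char.conjIrr ψ = ψ) :=
    Finset.mem_filter.2 ⟨Finset.mem_univ _, hα, fun e' => hα1 (by rw [e']; rfl), hαc⟩
  rw [e] at this
  simp at this

end Cfsg.Agent.S4860
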