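import Cfsg.Statements.S4862
import Cfsg.Agent.BlockChar.RealPrimeMain
-- import your own Cfsg.Agent.* helpers here

set_option autoImplicit false
open Cfsg

namespace Cfsg.Agent.S4862

/-- Let p be an odd prime and G a finite group such that the subgroup generated by the p-elements of G is solvable and every real-valued irreducible complex character of G has degree prime to p. Let K be the subgroup generated by the 2-elements of G and P a Sylow p-subgroup of G. Then every normal subgroup M of G contained in K and in the derived subgroup of P is centralized by K. -/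
theorem result {G : Type*} [Group G] [Finite G] (p : ℕ) [Fact p.Prime] (hp : p ≠ 2) (hsolv : Group.IsSolvable ↥(Subgroup.closure {g : G | ∃ k : ℕ, orderOf g = p ^ k})) (hreal : ∀ χ : Cfsg.IrrCharacter G, (∀ g : G, ((χ : G → ℂ) g).im = 0) → ¬ p ∣ Cfsg.charDegree (χ : G → ℂ)) (P : Sylow p G) (M : Subgroup G) (hM : M.Normal) (hMK : M ≤ (Subgroup.closure {g : G | ∃ k : ℕ, orderOf g = 2 ^ k})) (hMP : M ≤ ⁅(P : Subgroup G), (P : Subgroup G)⁆) : (Subgroup.closure {g : G | ∃ k : ℕ, orderOf g = 2 ^ k}) ≤ Subgroup.centralizer (M : Set G) := by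
  classical
  haveI := hM
  have hP : IsPGroup p (P : Subgroup G) := P.2
  have hMP' : M ≤ (P : Subgroup G) := hMP.trans (Subgroup.commutator_le_self _)
  rw [Subgroup.closure_le]
  rintro t ⟨k, hk⟩
  rw [SetLike.mem_coe, Subgroup.mem_centralizer_iff]
  intro m hm
  by_contra hne
  have hodd : Odd (Nat.card M) := by
    obtain ⟨a, ha⟩ := IsPGroup.iff_card.1 (hP.to_le hMP')
    rw [ha]
    exact ((Fact.out : p.Prime).odd_of_ne_two hp).pow
  obtain ⟨w, hw, hw1, hwc⟩ := Cfsg.Agent.RealPrime.exists_inverted (M := M) (g := t) (a := k)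
    (by rw [← hk, pow_orderOf_eq_one])
    ⟨m, hm, fun e => hne (mul_inv_eq_iff_eq_mul.1 e).symm⟩
  obtain ⟨χ, hχ, x, hx, hxne⟩ := Cfsg.Agent.RealPrime.exists_real_ne w hw hw1 hwc
    (Cfsg.Agent.RealPrime.lift_of_odd hodd)
  refine hxne (Cfsg.Agent.RealPrime.trivial_of_commutators (p := p) hMP' ?_ ?_
    (fun _ => Or.inr hP) (hreal χ hχ) hx)
  · obtain ⟨a, ha⟩ := IsPGroup.iff_card.1 hP
    obtain ⟨j, -, hj⟩ := (Nat.dvd_prime_pow (Fact.out : p.Prime)).1
      (ha ▸ Subgroup.index_dvd_card (M.subgroupOf (P : Subgroup G)))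
    exact ⟨j, hj⟩
  · intro f y hy
    have key : ⁅(P : Subgroup G), (P : Subgroup G)⁆ ≤ f.ker.map (P : Subgroup G).subtype := by
      rw [← Subgroup.map_subtype_commutator]
      exact Subgroup.map_mono (Abelianization.commutator_subset_ker f)
    obtain ⟨z, hz, hzm⟩ := key (hMP hy)
    have e : (⟨y, hMP' hy⟩ : (P : Subgroup G)) = z := Subtype.ext hzm.symm
    rw [e]
    exact hz

end Cfsg.Agent.S4862
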