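import Cfsg.Statements.S4866
import Cfsg.Agent.Char.Perm
import Cfsg.Agent.Char.FS
-- import your own Cfsg.Agent.* helpers here

set_option autoImplicit false
open Cfsg

namespace Cfsg.Agent.S4866

/-- Let K be a normal subgroup of odd index in the finite group G. Then G has as many orbits on the real-valued irreducible complex characters of K (acting by conjugation) as it has orbits on the conjugacy classes of K that are real in K; equivalently, the number of G-orbits of real-valued irreducible characters of K equals the number of G-conjugacy classes of elements of K that are conjugate in K to their inverses. -/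
theorem result {G : Type*} [Group G] [Finite G] (K : Subgroup G) [K.Normal] (hodd : Odd K.index) : Nat.card (Quot (fun θ η : {θ : Cfsg.IrrCharacter ↥K // (∀ k : ↥K, ((θ : ↥K → ℂ) k).im = 0)} => ∃ g : G, ∀ k k' : ↥K, (k' : G) = g * (k : G) * g⁻¹ → (η.1 : ↥K → ℂ) k' = (θ.1 : ↥K → ℂ) k)) = Nat.card (Quot (fun x y : {x : ↥K // IsConj x x⁻¹} => ∃ g : G, (y.1 : G) = g * x.1 * g⁻¹)) := by
  classical
  have := Fintype.ofFinite G
  have := Fintype.ofFinite K
  let X := {θ : IrrCharacter K // ∀ k : K, ((θ : K → ℂ) k).im = 0}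
  let inv : ConjClasses K → ConjClasses K := Quotient.lift (fun k => ConjClasses.mk k⁻¹)
    fun a b h => by
      obtain ⟨c, hc⟩ := isConj_iff.1 h
      refine ConjClasses.mk_eq_mk_iff_isConj.2 (isConj_iff.2 ⟨c, ?_⟩)
      rw [← hc]; group
  have hinv : ∀ k : K, inv (ConjClasses.mk k) = ConjClasses.mk k⁻¹ := fun k => rfl
  let Y := {C : ConjClasses K // inv C = C}
  have : Finite (ConjClasses K) := Quotient.finite _
  let a : G →* MulAut K := MulAut.conjNormal
  have hinvmap : ∀ (g : G) (C : ConjClasses K),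
      inv (ConjClasses.map (a g).toMonoidHom C) = ConjClasses.map (a g).toMonoidHom (inv C) := by
    intro g C
    obtain ⟨k, rfl⟩ := ConjClasses.mk_surjective C
    show ConjClasses.mk ((a g) k)⁻¹ = ConjClasses.mk ((a g) k⁻¹)
    rw [map_inv]
  let _ : MulAction G X :=
    { smul := fun g θ => ⟨⟨fun k => (θ.1 : K → ℂ) (a g⁻¹ k),
        (Char.isIrrCharacter_comp_equiv (a g⁻¹)).2 θ.1.2⟩, fun k => θ.2 (a g⁻¹ k)⟩
      one_smul := fun θ => Subtype.ext (Subtype.ext (funext fun k => by
        show (θ.1 : K → ℂ) (a (1 : G)⁻¹ k) = _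
        rw [inv_one, map_one]; rfl))
      mul_smul := fun g h θ => Subtype.ext (Subtype.ext (funext fun k => by
        show (θ.1 : K → ℂ) (a (g * h)⁻¹ k) = (θ.1 : K → ℂ) (a h⁻¹ (a g⁻¹ k))
        rw [mul_inv_rev, map_mul]; rfl)) }
  let _ : MulAction G Y :=
    { smul := fun g C => ⟨ConjClasses.map (a g).toMonoidHom C.1, by rw [hinvmap, C.2]⟩
      one_smul := fun C => Subtype.ext (by
        obtain ⟨k, hk⟩ := ConjClasses.mk_surjective C.1
        show ConjClasses.map (a 1).toMonoidHom C.1 = C.1
        rw [← hk, map_one]; rfl)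
      mul_smul := fun g h C => Subtype.ext (by
        obtain ⟨k, hk⟩ := ConjClasses.mk_surjective C.1
        show ConjClasses.map (a (g * h)).toMonoidHom C.1 =
          ConjClasses.map (a g).toMonoidHom (ConjClasses.map (a h).toMonoidHom C.1)
        rw [← hk, map_mul]; rfl) }
  -- a twisted map with an odd power equal to the identity
  have hodd' : ∀ {α : Type _} (f c : α → α) (x : α), (∀ y, c (c y) = y) → (∀ y, f (c y) = c (f y)) →
      ∀ m : ℕ, Odd m → f^[m] x = x → c (f x) = x → f x = x ∧ c x = x := by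
    intro α f c x hcc hcomm m hm hfm hcfx
    have hfx : f x = c x := by rw [← hcc (f x), hcfx]
    have h2 : f^[2] x = x := by
      show f (f x) = x
      rw [hfx, hcomm, hfx, hcc]
    obtain ⟨j, rfl⟩ := hm
    have h3 : ∀ i, f^[2 * i] x = x := by
      intro i
      induction i with
      | zero => rfl
      | succ i ih => rw [Nat.mul_succ, Function.iterate_add_apply, h2, ih]
    rw [show 2 * j + 1 = (2 * j).succ from rfl, Function.iterate_succ_apply', h3] at hfm
    exact ⟨hfm, hfx.symm.trans hfm⟩
  have key : ∀ g : G, Nat.card (MulAction.fixedBy X g) = Nat.card (MulAction.fixedBy Y g) := by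
    intro g
    set b := a g⁻¹ with hb
    have hbK : g⁻¹ ^ K.index ∈ K := Subgroup.pow_index_mem K g⁻¹
    let f : IrrCharacter K → IrrCharacter K := fun θ =>
      ⟨fun k => (θ : K → ℂ) (b k), (Char.isIrrCharacter_comp_equiv b).2 θ.2⟩
    let F : ConjClasses K → ConjClasses K := ConjClasses.map b.toMonoidHom
    have hfit : ∀ (i : ℕ) (θ : IrrCharacter K) (k : K),
        (f^[i] θ : K → ℂ) k = (θ : K → ℂ) (a (g⁻¹ ^ i) k) := by
      intro i
      induction i with
      | zero => intro θ k; rw [pow_zero, map_one]; rfl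
      | succ i ih =>
        intro θ k
        rw [Function.iterate_succ_apply, ih, pow_succ', map_mul]
        rfl
    have hFit : ∀ (i : ℕ) (k : K),
        F^[i] (ConjClasses.mk k) = ConjClasses.mk (a (g⁻¹ ^ i) k) := by
      intro i
      induction i with
      | zero => intro k; rw [pow_zero, map_one]; rfl
      | succ i ih => intro k; rw [Function.iterate_succ_apply', ih, pow_succ', map_mul]; rfl
    have hf : ∀ θ, f^[K.index] θ = θ := fun θ => Subtype.ext (funext fun k => by
      rw [hfit]
      exact (congrArg (θ : K → ℂ) (Subtype.ext rfl)).trans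
        (Char.isClassFunction_of_isIrr θ.2 k ⟨_, hbK⟩))
    have hF : ∀ C, F^[K.index] C = C := fun C => by
      obtain ⟨k, rfl⟩ := ConjClasses.mk_surjective C
      rw [hFit]
      exact ConjClasses.mk_eq_mk_iff_isConj.2
        (isConj_iff.2 ⟨⟨_, hbK⟩, Subtype.ext rfl⟩).symm
    have hinv2 : ∀ C, inv (inv C) = C := fun C => by
      obtain ⟨k, rfl⟩ := ConjClasses.mk_surjective C
      rw [hinv, hinv, inv_inv]
    have hbr := Char.brauer_permutation (fun θ => Char.conjIrr (f θ)) (fun C => inv (F C))
      (fun θ k k' h => by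
        show (starRingEnd ℂ) ((θ : K → ℂ) (b k)) = (θ : K → ℂ) k'
        rw [← Char.IsChar.inv_eq_conj (Char.IsIrr.isCharacter θ.2)]
        exact Char.classFun_isConj (Char.isClassFunction_of_isIrr θ.2)
          (ConjClasses.mk_eq_mk_iff_isConj.1 h))
    have e1 : Nat.card (MulAction.fixedBy X g) =
        Nat.card {θ : IrrCharacter K // Char.conjIrr (f θ) = θ} := by
      refine Nat.card_congr
        { toFun := fun θ => ⟨θ.1.1, ?_⟩
          invFun := fun θ => ⟨⟨θ.1, ?_⟩, ?_⟩
          left_inv := fun _ => rfl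
          right_inv := fun _ => rfl }
      · have h1 : f θ.1.1 = θ.1.1 := congrArg Subtype.val θ.2
        rw [h1]
        exact (Char.conjIrr_eq_iff _).2 θ.1.2
      · exact (Char.conjIrr_eq_iff _).1 (hodd' f Char.conjIrr θ.1 Char.conjIrr_conjIrr
          (fun y => Subtype.ext rfl) _ hodd (hf _) θ.2).2
      · exact Subtype.ext (hodd' f Char.conjIrr θ.1 Char.conjIrr_conjIrr
          (fun y => Subtype.ext rfl) _ hodd (hf _) θ.2).1
    have e2 : Nat.card (MulAction.fixedBy Y g) = Nat.card {C : ConjClasses K // inv (F C) = C} := by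
      have hgF : ∀ C : Y, g • C = C ↔ F C.1 = C.1 := by
        intro C
        rw [← inv_smul_eq_iff.trans eq_comm]
        exact Subtype.ext_iff
      refine Nat.card_congr
        { toFun := fun C => ⟨C.1.1, by rw [(hgF C.1).1 C.2, C.1.2]⟩
          invFun := fun C => ⟨⟨C.1, (hodd' F inv C.1 hinv2 (fun y => (hinvmap _ y).symm) _ hodd
            (hF _) C.2).2⟩, (hgF _).2 (hodd' F inv C.1 hinv2 (fun y => (hinvmap _ y).symm) _ hodd
            (hF _) C.2).1⟩
          left_inv := fun _ => rfl
          right_inv := fun _ => rfl }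
    rw [e1, e2, hbr]
  have := Fintype.ofFinite X
  have := Fintype.ofFinite Y
  have := Fintype.ofFinite (Quotient (MulAction.orbitRel G X))
  have := Fintype.ofFinite (Quotient (MulAction.orbitRel G Y))
  have hX := MulAction.sum_card_fixedBy_eq_card_orbits_mul_card_group G X
  have hY := MulAction.sum_card_fixedBy_eq_card_orbits_mul_card_group G Y
  simp only [← Nat.card_eq_fintype_card] at hX hY
  simp only [key] at hX
  have horb : Nat.card (Quotient (MulAction.orbitRel G X)) =
      Nat.card (Quotient (MulAction.orbitRel G Y)) :=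
    Nat.eq_of_mul_eq_mul_right Nat.card_pos (hX.symm.trans hY)
  let R : {x : K // IsConj x x⁻¹} → {x : K // IsConj x x⁻¹} → Prop :=
    fun x y => ∃ g : G, (y.1 : G) = g * x.1 * g⁻¹
  let toY : {x : K // IsConj x x⁻¹} → Y := fun x =>
    ⟨ConjClasses.mk x.1, by rw [hinv]; exact (ConjClasses.mk_eq_mk_iff_isConj.2 x.2).symm⟩
  let Φ : Quot R → Quotient (MulAction.orbitRel G Y) :=
    Quot.lift (fun x => Quotient.mk'' (toY x)) fun x y ⟨g, hg⟩ => (Quotient.sound' (s₁ :=
      MulAction.orbitRel G Y) ⟨g, Subtype.ext (by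
        show ConjClasses.mk (a g x.1) = ConjClasses.mk y.1
        congr 1
        exact Subtype.ext hg.symm)⟩).symm
  have hΦ : Function.Bijective Φ := by
    constructor
    · intro p q
      induction p using Quot.ind with | _ x => ?_
      induction q using Quot.ind with | _ y => ?_
      intro h
      obtain ⟨g, hg⟩ := (Quotient.eq''.1 h : MulAction.orbitRel G Y (toY x) (toY y))
      have h1 : ConjClasses.mk (a g y.1) = ConjClasses.mk x.1 := congrArg Subtype.val hg
      obtain ⟨c, hc⟩ := isConj_iff.1 (ConjClasses.mk_eq_mk_iff_isConj.1 h1)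
      refine (Quot.sound ⟨(c : G) * g, ?_⟩).symm
      rw [← hc]
      simp [a, mul_assoc]
    · intro q
      induction q using Quotient.inductionOn' with | _ C => ?_
      obtain ⟨k, hk⟩ := ConjClasses.mk_surjective C.1
      refine ⟨Quot.mk R ⟨k, ConjClasses.mk_eq_mk_iff_isConj.1 ?_⟩, congrArg Quotient.mk'' (Subtype.ext hk)⟩
      have h2 := C.2
      rw [← hk, hinv] at h2
      exact h2.symm
  refine Eq.trans ?_ (horb.trans (Nat.card_eq_of_bijective Φ hΦ).symm)
  refine Nat.card_congr (Quot.congrRight fun θ η => ?_)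
  rw [MulAction.orbitRel_apply, MulAction.mem_orbit_iff]
  constructor
  · rintro ⟨g, hg⟩
    refine ⟨g⁻¹, Subtype.ext (Subtype.ext (funext fun k => ?_))⟩
    show (η.1 : K → ℂ) (a g⁻¹⁻¹ k) = _
    exact hg k _ (by simp [a])
  · rintro ⟨g, hg⟩
    refine ⟨g⁻¹, fun k k' hk => ?_⟩
    have h1 := congrFun (congrArg (fun z : X => (z.1 : K → ℂ)) hg) k
    rw [← h1]
    show _ = (η.1 : K → ℂ) (a g⁻¹ k)
    exact congrArg _ (Subtype.ext (by simpa [a] using hk))

end Cfsg.Agent.S4866
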