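import Cfsg.Statements.S4872
import Cfsg.Agent.Char.IndicatorOdd
import Cfsg.Agent.Char.Glauberman.Basic
import Cfsg.Agent.BlockThms.DefectZero
import Cfsg.Agent.Char.NormalAbelianSylow

set_option autoImplicit false
open Cfsg

namespace Cfsg.Agent.S4872

/-- Let N be a normal subgroup of the finite group G with G/N a 2-group, and let φ be an irreducible complex character of N of 2-defect zero (the 2-part of #N divides φ(1)) whose complex conjugate is G-conjugate to φ. Then some irreducible character of G with Frobenius–Schur indicator +1 contains φ with multiplicity exactly one on restriction to N. -/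
theorem result {G : Type*} [Group G] [Finite G] (N : Subgroup G) [N.Normal] (h2 : IsPGroup 2 (G ⧸ N)) (φ : Cfsg.IrrCharacter ↥N) (hdef : 2 ^ (Nat.card ↥N).factorization 2 ∣ Cfsg.charDegree (φ : ↥N → ℂ)) (hconj : ∃ g : G, ∀ n n' : ↥N, (n' : G) = g * (n : G) * g⁻¹ → (φ : ↥N → ℂ) n' = (starRingEnd ℂ) ((φ : ↥N → ℂ) n)) : ∃ χ : Cfsg.IrrCharacter G, (Nat.card G : ℂ)⁻¹ * ∑ᶠ g : G, (χ : G → ℂ) (g * g) = 1 ∧ (Nat.card ↥N : ℂ)⁻¹ * ∑ᶠ n : ↥N, (χ : G → ℂ) n * (starRingEnd ℂ) ((φ : ↥N → ℂ) n) = 1 := by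
  classical
  have := Fintype.ofFinite G
  have := Fintype.ofFinite ↥N
  haveI : Fact (Nat.Prime 2) := ⟨Nat.prime_two⟩
  obtain ⟨M, hM⟩ := Blocks.exists_isPModular 2 Nat.prime_two
  obtain ⟨P⟩ : Nonempty (Sylow 2 G) := inferInstance
  have := Fintype.ofFinite ↥(P : Subgroup G)
  have hφd := Char.charDegree_spec' φ
  set d := Cfsg.charDegree (φ : ↥N → ℂ) with hd
  obtain ⟨c, hc⟩ := Char.IsIrr.degree_dvd_card φ.2 hφd
  have hd0 : 0 < d := Nat.pos_of_ne_zero fun h => Nat.card_pos.ne' (hc.trans (by rw [h, zero_mul]))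
  have hcodd : ¬ 2 ∣ c := by
    intro h2c
    refine Nat.pow_succ_factorization_not_dvd Nat.card_pos.ne' Nat.prime_two (n := Nat.card ↥N) ?_
    have h3 : 2 ^ (Nat.card ↥N).factorization 2 * 2 ∣ d * c := Nat.mul_dvd_mul hdef h2c
    rw [pow_succ]
    rwa [← hc] at h3
  have hvan : ∀ n : ↥N, ¬ Cfsg.IsPRegular 2 n → (φ : ↥N → ℂ) n = 0 := fun n hn => by
    refine BlockThms.eq_zero_of_not_dvd_codegree hM φ ?_ hn
    rwa [hc, Nat.mul_div_cancel_left _ hd0]
  -- the restriction to a Sylow subgroup of the induced character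
  let a : IrrCharacter G → ℕ := fun χ => Classical.choose (Char.classInner_isCharacter_eq_natCast
    (Char.isCharacter_res (P : Subgroup G) (Char.IsIrr.isCharacter χ.2))
    (Char.IsIrr.isCharacter (Char.isIrrCharacter_one (G := ↥(P : Subgroup G)))))
  have ha : ∀ χ : IrrCharacter G, Cfsg.classInner (fun x : (P : Subgroup G) => (χ : G → ℂ) x)
      (fun _ => 1) = (a χ : ℂ) := fun χ =>
    Classical.choose_spec (Char.classInner_isCharacter_eq_natCast
    (Char.isCharacter_res (P : Subgroup G) (Char.IsIrr.isCharacter χ.2))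
    (Char.IsIrr.isCharacter (Char.isIrrCharacter_one (G := ↥(P : Subgroup G)))))
  set m : IrrCharacter G → ℕ := fun χ => Char.Glauberman.mult N χ φ with hm
  set R : G → ℂ := Cfsg.indFun N (φ : ↥N → ℂ) with hR
  have hexp : ∀ x : G, R x = ∑ χ : IrrCharacter G, (m χ : ℂ) * (χ : G → ℂ) x := by
    intro x
    have h := congrFun (Char.classFun_expansion (Char.isClassFunction_indFun N (φ : ↥N → ℂ))) x
    simp only [Finset.sum_apply, Pi.smul_apply, smul_eq_mul] at h
    rw [hR, h]
    refine Finset.sum_congr rfl fun χ _ => ?_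
    rw [Char.classInner_indFun_left N _ (Char.isClassFunction_of_isIrr χ.2),
      ← Char.classInner_conj_symm, Char.Glauberman.mult_spec, map_natCast]
  have hRone : ∀ x : (P : Subgroup G), x ≠ 1 → R x = 0 := by
    intro x hx
    by_cases hxN : (x : G) ∈ N
    · rw [hR, show (x : G) = ((⟨x, hxN⟩ : ↥N) : G) from rfl, Char.indFun_apply_coe_of_normal]
      rw [Finset.sum_eq_zero, mul_zero]
      intro y _
      refine hvan _ fun hreg => hreg ?_
      rw [← Subgroup.orderOf_coe]
      show 2 ∣ orderOf (y⁻¹ * (x : G) * y)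
      rw [show y⁻¹ * (x : G) * y = MulAut.conj y⁻¹ (x : G) by simp,
        MulEquiv.orderOf_eq, Subgroup.orderOf_coe]
      obtain ⟨k, hk⟩ := IsPGroup.iff_orderOf.1 P.isPGroup' x
      rcases Nat.eq_zero_or_pos k with rfl | hk0
      · exact absurd (orderOf_eq_one_iff.1 (by rw [hk, pow_zero])) hx
      · exact hk ▸ dvd_pow_self 2 hk0.ne'
    · exact Char.indFun_apply_of_normal N _ hxN
  have hkey : Nat.card (P : Subgroup G) * ∑ χ : IrrCharacter G, m χ * a χ = N.index * d := by
    have h : (Nat.card (P : Subgroup G) : ℂ) * ∑ χ : IrrCharacter G, (m χ : ℂ) * (a χ : ℂ) =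
        ∑ x : (P : Subgroup G), R x := by
      simp only [← ha, Cfsg.classInner, hexp, map_one, mul_one, Finset.mul_sum]
      rw [Finset.sum_comm]
      refine Finset.sum_congr rfl fun χ _ => Finset.sum_congr rfl fun x _ => ?_
      field_simp [Char.card_ne_zero]
    rw [Finset.sum_eq_single (1 : (P : Subgroup G)) (fun x _ hx => hRone x hx)
      (fun h => absurd (Finset.mem_univ _) h), OneMemClass.coe_one, hR, Char.indFun_apply_one,
      hφd] at h
    exact_mod_cast h
  obtain ⟨k, hk⟩ : ∃ k, N.index = 2 ^ k := by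
    obtain ⟨k, hk⟩ := IsPGroup.iff_card.1 h2
    exact ⟨k, by rw [Subgroup.index_eq_card, hk]⟩
  have hodd : Odd (∑ χ : IrrCharacter G, m χ * a χ) := by
    rw [Nat.odd_iff]
    by_contra hne
    obtain ⟨r, hr⟩ : 2 ∣ ∑ χ : IrrCharacter G, m χ * a χ := Nat.dvd_of_mod_eq_zero (by omega)
    have hP := P.card_eq_multiplicity
    have hG : (Nat.card G).factorization 2 = (Nat.card ↥N).factorization 2 + k := by
      rw [← Subgroup.card_mul_index N, hk, Nat.factorization_mul Nat.card_pos.ne'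
        (pow_ne_zero _ two_ne_zero), Finsupp.add_apply, Nat.prime_two.factorization_pow,
        Finsupp.single_eq_same]
    obtain ⟨e, he⟩ := hdef
    rw [hP, hr, hG, hk] at hkey
    have h3 : e = 2 * r := by
      rw [show d = 2 ^ (Nat.card ↥N).factorization 2 * e from he, pow_add] at hkey
      have hpos : 0 < 2 ^ (Nat.card ↥N).factorization 2 * 2 ^ k := by positivity
      refine Nat.eq_of_mul_eq_mul_left hpos ?_
      rw [← mul_assoc] at hkey
      calc _ = 2 ^ k * (2 ^ (Nat.card ↥N).factorization 2 * e) := by ring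
        _ = _ := hkey.symm
        _ = _ := by ring
    refine Nat.pow_succ_factorization_not_dvd Nat.card_pos.ne' Nat.prime_two (n := Nat.card ↥N) ?_
    refine Dvd.dvd.trans ⟨r, ?_⟩ (Dvd.intro c hc.symm)
    rw [show d = 2 ^ (Nat.card ↥N).factorization 2 * e from he, h3, pow_succ]
    ring
  obtain ⟨g, hg⟩ := hconj
  have hg' : ∀ n : ↥N, Char.conjFun g (φ : ↥N → ℂ) n = (starRingEnd ℂ) ((φ : ↥N → ℂ) n) :=
    fun n => hg n _ rfl
  have hsym : ∀ χ : IrrCharacter G, m (Char.conjIrr χ) = m χ ∧ a (Char.conjIrr χ) = a χ := by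
    intro χ
    constructor
    · have h1 := Char.Glauberman.mult_spec N (Char.conjIrr χ) φ
      have h2 := Char.classInner_conjFun g (fun n : ↥N => (χ : G → ℂ) n) (φ : ↥N → ℂ)
      rw [Char.conjFun_res g (Char.isClassFunction_of_isIrr χ.2),
        show Char.conjFun g (φ : ↥N → ℂ) = fun n => (starRingEnd ℂ) ((φ : ↥N → ℂ) n) from funext hg',
        Char.Glauberman.mult_spec] at h2
      have h3 : Cfsg.classInner (fun n : ↥N => (Char.conjIrr χ : G → ℂ) n) (φ : ↥N → ℂ) =
          starRingEnd ℂ (Cfsg.classInner (fun n : ↥N => (χ : G → ℂ) n)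
            (fun n => (starRingEnd ℂ) ((φ : ↥N → ℂ) n))) := by
        simp only [Cfsg.classInner, map_mul, map_inv₀, map_natCast, map_sum, Char.conjIrr_apply,
          Complex.conj_conj]
      rw [h3, h2, map_natCast] at h1
      exact_mod_cast h1.symm
    · have h1 := ha (Char.conjIrr χ)
      have h3 : Cfsg.classInner (fun x : (P : Subgroup G) => (Char.conjIrr χ : G → ℂ) x) (fun _ => 1) =
          starRingEnd ℂ (Cfsg.classInner (fun x : (P : Subgroup G) => (χ : G → ℂ) x) (fun _ => 1)) := by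
        simp only [Cfsg.classInner, map_mul, map_inv₀, map_natCast, map_sum, Char.conjIrr_apply,
          map_one, Complex.conj_conj]
      rw [h3, ha, map_natCast] at h1
      exact_mod_cast h1.symm
  obtain ⟨χ, hreal, hχodd⟩ : ∃ χ : IrrCharacter G, Char.conjIrr χ = χ ∧ Odd (m χ * a χ) := by
    by_contra! hno
    have h0 : ∑ χ : IrrCharacter G, ((m χ * a χ : ℕ) : ZMod 2) = 0 := by
      refine Finset.sum_involution (fun χ _ => Char.conjIrr χ) (fun χ _ => ?_) (fun χ _ hne heq => ?_)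
        (fun χ _ => Finset.mem_univ _) (fun χ _ => Char.conjIrr_conjIrr χ)
      · rw [(hsym χ).1, (hsym χ).2]
        exact CharTwo.add_self_eq_zero _
      · exact hne ((ZMod.natCast_eq_zero_iff_even).2 (Nat.not_odd_iff_even.1 (hno χ heq)))
    rw [← Nat.cast_sum, ZMod.natCast_eq_zero_iff_even] at h0
    exact Nat.not_even_iff_odd.2 hodd h0
  obtain ⟨hmodd, haodd⟩ := Nat.odd_mul.1 hχodd
  -- the multiplicity is one
  have hne : Cfsg.classInner (fun n : ↥N => (χ : G → ℂ) n) (φ : ↥N → ℂ) ≠ 0 := by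
    rw [Char.Glauberman.mult_spec, Nat.cast_ne_zero]
    exact hmodd.pos.ne'
  have hm1 : m χ = 1 := by
    obtain ⟨r, hr, hrd⟩ := ProjExt.exists_ratio_dvd_index χ.2 φ.2 hne
    have h1 := Char.degree_eq_of_clifford χ.2 φ.2 hne
    rw [Char.Glauberman.mult_spec, hr] at h1
    have h2 := mul_right_cancel₀ (Char.IsIrr.one_ne_zero φ.2) h1
    rw [← Nat.cast_mul, Nat.cast_inj] at h2
    rw [hk, h2] at hrd
    obtain ⟨i, -, hi⟩ := (Nat.dvd_prime_pow Nat.prime_two).1 ((dvd_mul_right (m χ) _).trans hrd)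
    rcases Nat.eq_zero_or_pos i with rfl | hi0
    · simpa using hi
    · exact absurd (even_iff_two_dvd.2 (hi ▸ dvd_pow_self 2 hi0.ne')) (Nat.not_even_iff_odd.2 hmodd)
  refine ⟨χ, ?_, ?_⟩
  · rw [finsum_eq_sum_of_fintype]
    show Char.fsInd (χ : G → ℂ) = 1
    rcases Char.fsInd_irr χ with ⟨-, h⟩ | ⟨h | h, -⟩
    · exact absurd hreal h
    · exact h
    · obtain ⟨n, ρ, hρ, he⟩ := χ.2
      have hreal' := (Char.conjIrr_eq_iff χ).1 hreal
      have h1 := ha χ
      rw [← he] at hreal' h1 h ⊢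
      exact absurd h (Char.fsInd_ne_neg_one_of_odd ρ hρ hreal' (P : Subgroup G) haodd h1)
  · rw [finsum_eq_sum_of_fintype]
    show Cfsg.classInner (fun n : ↥N => (χ : G → ℂ) n) (φ : ↥N → ℂ) = 1
    rw [Char.Glauberman.mult_spec]
    exact_mod_cast hm1

end Cfsg.Agent.S4872
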