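import Cfsg.Statements.S4873
import Cfsg.Agent.Char.FixedBlock
import Cfsg.Agent.Char.FS
-- import your own Cfsg.Agent.* helpers here

set_option autoImplicit false
open Cfsg

namespace Cfsg.Agent.S4873

/-- Let N be a normal subgroup of odd index in the finite group G. Then every irreducible complex character of N with Frobenius–Schur indicator +1 lies under exactly one irreducible character of G with Frobenius–Schur indicator +1. -/
theorem result {G : Type*} [Group G] [Finite G] (N : Subgroup G) [N.Normal] (hodd : Odd N.index) (φ : Cfsg.IrrCharacter ↥N) (hφ : (Nat.card ↥N : ℂ)⁻¹ * ∑ᶠ g : ↥N, (φ : ↥N → ℂ) (g * g) = 1) : ∃! χ : Cfsg.IrrCharacter G, (Nat.card G : ℂ)⁻¹ * ∑ᶠ g : G, (χ : G → ℂ) (g * g) = 1 ∧ (∑ᶠ n : ↥N, (χ : G → ℂ) n * (starRingEnd ℂ) ((φ : ↥N → ℂ) n)) ≠ 0 := by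
  classical
  have := Fintype.ofFinite G
  have := Fintype.ofFinite N
  have hφ1 : Char.fsInd (φ : N → ℂ) = 1 := by
    rw [← hφ, finsum_eq_sum_of_fintype]; rfl
  set k := Nat.card G - 1 with hk
  have hk1 : k + 1 = Nat.card G := by have := Nat.card_pos (α := G); omega
  have hcop : k.Coprime (Nat.card G) := by
    rw [← hk1]; simp
  obtain ⟨σ, hσ⟩ := Char.exists_galois (Nat.card G) k Nat.card_pos.ne' hcop
  have hN1 : ∀ g : G, g ^ (k + 1) ∈ N := fun g => by
    rw [hk1, pow_card_eq_one']; exact N.one_mem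
  have hap : ∀ (χ : IrrCharacter G) g, σ ((χ : G → ℂ) g) = (starRingEnd ℂ) ((χ : G → ℂ) g) := by
    intro χ g
    rw [Char.galois_apply_pow σ hσ (Char.IsIrr.isCharacter χ.2) (orderOf_dvd_natCard g),
      ← Char.IsChar.inv_eq_conj (Char.IsIrr.isCharacter χ.2)]
    refine congrArg _ (eq_inv_of_mul_eq_one_left ?_)
    rw [← pow_succ, hk1, pow_card_eq_one']
  have hreal : ∀ χ : IrrCharacter G, Char.fsInd (χ : G → ℂ) ≠ 0 → Char.SigmaFixed σ (χ : G → ℂ) := by
    intro χ h0 g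
    rcases Char.fsInd_irr χ with ⟨h, -⟩ | ⟨-, h⟩
    · exact absurd h h0
    · rw [hap]; exact Complex.conj_eq_iff_im.2 ((Char.conjIrr_eq_iff χ).1 h g)
  have hφfix : Char.SigmaFixed σ (φ : N → ℂ) := by
    intro n
    rcases Char.fsInd_irr φ with ⟨h, -⟩ | ⟨-, h⟩
    · rw [hφ1] at h; exact absurd h one_ne_zero
    · rw [Char.galois_apply_pow σ hσ (Char.IsIrr.isCharacter φ.2)
        ((orderOf_dvd_natCard n).trans (Subgroup.card_subgroup_dvd_card N))]
      refine Eq.trans ?_ (Complex.conj_eq_iff_im.2 ((Char.conjIrr_eq_iff φ).1 h n))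
      rw [← Char.IsChar.inv_eq_conj (Char.IsIrr.isCharacter φ.2)]
      refine congrArg _ (eq_inv_of_mul_eq_one_left (Subtype.ext ?_))
      rw [← pow_succ, hk1, SubmonoidClass.coe_pow, pow_card_eq_one', OneMemClass.coe_one]
  obtain ⟨χ₀, ⟨hχ₀, hf₀, hc₀, -⟩, huniq⟩ := Char.exists_unique_fixed_over N hσ dvd_rfl hodd hN1
    φ.2 hφfix
  have hsum : ∑ χ : IrrCharacter G, Char.fsInd (χ : G → ℂ) *
      classInner (fun n : N => (χ : G → ℂ) n) (φ : N → ℂ) = 1 := by
    have hrN : ∀ n : N, (Nat.card {s : G // s * s = (n : G)} : ℂ) =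
        (Nat.card {s : N // s * s = n} : ℂ) := by
      intro n
      refine congrArg Nat.cast (Nat.card_congr
        { toFun := fun s => ⟨⟨s.1, ?_⟩, Subtype.ext s.2⟩
          invFun := fun s => ⟨(s.1 : G), congrArg Subtype.val s.2⟩
          left_inv := fun s => rfl
          right_inv := fun s => rfl })
      have h2 : s.1 ^ 2 ∈ N := by rw [sq, s.2]; exact n.2
      obtain ⟨r, hr⟩ := hodd
      have h3 := N.pow_index_mem s.1
      rw [hr, pow_succ, pow_mul] at h3
      exact (N.mul_mem_cancel_left (N.pow_mem h2 r)).1 h3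
    have hl : classInner (fun n : N => (Nat.card {s : G // s * s = (n : G)} : ℂ)) (φ : N → ℂ) =
        ∑ χ : IrrCharacter G, Char.fsInd (χ : G → ℂ) *
          classInner (fun n : N => (χ : G → ℂ) n) (φ : N → ℂ) := by
      simp only [classInner, Char.card_sqrt_eq_sum, Finset.sum_mul, Finset.mul_sum]
      rw [Finset.sum_comm]
      exact Finset.sum_congr rfl fun χ _ => Finset.sum_congr rfl fun n _ => by ring
    rw [← hl, funext hrN, show (fun n : N => (Nat.card {s : N // s * s = n} : ℂ)) =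
      fun n => ∑ ψ : IrrCharacter N, Char.fsInd (ψ : N → ℂ) * (ψ : N → ℂ) n from
        funext Char.card_sqrt_eq_sum]
    have hd : classInner (fun n => ∑ ψ : IrrCharacter N, Char.fsInd (ψ : N → ℂ) * (ψ : N → ℂ) n)
        (φ : N → ℂ) = ∑ ψ : IrrCharacter N, Char.fsInd (ψ : N → ℂ) *
          classInner (ψ : N → ℂ) (φ : N → ℂ) := by
      simp only [classInner, Finset.sum_mul, Finset.mul_sum]
      rw [Finset.sum_comm]
      exact Finset.sum_congr rfl fun χ _ => Finset.sum_congr rfl fun n _ => by ring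
    rw [hd, Finset.sum_eq_single φ]
    · rw [hφ1, Char.classInner_irr_self φ.2, one_mul]
    · intro ψ _ hψ
      rw [Char.classInner_irr_ne ψ.2 φ.2 (fun h => hψ (Subtype.ext h)), mul_zero]
    · simp
  have hfs₀ : Char.fsInd χ₀ = 1 := by
    rw [Finset.sum_eq_single (⟨χ₀, hχ₀⟩ : IrrCharacter G)] at hsum
    · obtain ⟨e', he'⟩ := Char.classInner_isCharacter_eq_natCast
        (Char.isCharacter_res N (Char.IsIrr.isCharacter hχ₀)) (Char.IsIrr.isCharacter φ.2)
      rw [he'] at hsum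
      rcases Char.fsInd_irr (⟨χ₀, hχ₀⟩ : IrrCharacter G) with ⟨h, -⟩ | ⟨h | h, -⟩
      · rw [h, zero_mul] at hsum; exact absurd hsum zero_ne_one
      · exact h
      · rw [h, neg_one_mul, neg_eq_iff_add_eq_zero] at hsum
        have h1 : ((e' + 1 : ℕ) : ℂ) = 0 := by push_cast; linear_combination hsum
        exact absurd (Nat.cast_eq_zero.1 h1) (Nat.succ_ne_zero e')
    · intro χ _ hne
      by_cases h0 : Char.fsInd (χ : G → ℂ) = 0
      · rw [h0, zero_mul]
      · by_contra h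
        exact hne (Subtype.ext (huniq _ χ.2 (hreal χ h0) (right_ne_zero_of_mul h)))
    · simp
  have hiff : ∀ χ : IrrCharacter G,
      (∑ᶠ n : N, (χ : G → ℂ) n * (starRingEnd ℂ) ((φ : N → ℂ) n)) ≠ 0 ↔
        classInner (fun n : N => (χ : G → ℂ) n) (φ : N → ℂ) ≠ 0 := by
    intro χ
    rw [finsum_eq_sum_of_fintype, classInner, mul_ne_zero_iff,
      and_iff_right (inv_ne_zero Char.card_ne_zero)]
  have hfs : ∀ χ : IrrCharacter G,
      (Nat.card G : ℂ)⁻¹ * ∑ᶠ g : G, (χ : G → ℂ) (g * g) = Char.fsInd (χ : G → ℂ) := fun χ => by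
    rw [finsum_eq_sum_of_fintype]; rfl
  refine ⟨⟨χ₀, hχ₀⟩, ⟨by rw [hfs]; exact hfs₀, (hiff _).2 hc₀⟩, ?_⟩
  rintro χ ⟨h1, h2⟩
  rw [hfs] at h1
  exact Subtype.ext (huniq _ χ.2 (hreal χ (by rw [h1]; exact one_ne_zero)) ((hiff χ).1 h2))

end Cfsg.Agent.S4873
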