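import Cfsg.Statements.S4885
import Cfsg.Agent.BlockChar.PDegreeKernel
import Cfsg.Agent.Blocks.PrincipalPSolvable
import Cfsg.Agent.S4601
-- import your own Cfsg.Agent.* helpers here

set_option autoImplicit false
open Cfsg

namespace Cfsg.Agent.S4885

/-- Let p and q be primes dividing the order of the finite group G, and suppose G is p-solvable and q-solvable. Fix maximal ideals of the algebraic integers containing p and q, defining the principal p-block and the principal q-block. If the irreducible characters of degree prime to p in the principal p-block are exactly the irreducible characters of degree prime to q in the principal q-block, then p = q. -/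
theorem result {G : Type*} [Group G] [Finite G] (p q : ℕ) [Fact p.Prime] [Fact q.Prime] (hp : p ∣ Nat.card G) (hq : q ∣ Nat.card G) (hps : Cfsg.IsPSolvable p G) (hqs : Cfsg.IsPSolvable q G) (Mp Mq : Ideal Cfsg.AlgInt) (hMp : Cfsg.IsPModular p Mp) (hMq : Cfsg.IsPModular q Mq) (h : ∀ χ : Cfsg.IrrCharacter G, (χ ∈ Cfsg.principalBlock Mp G ∧ ¬ p ∣ Cfsg.charDegree (χ : G → ℂ)) ↔ (χ ∈ Cfsg.principalBlock Mq G ∧ ¬ q ∣ Cfsg.charDegree (χ : G → ℂ))) : p = q := by
  classical
  by_contra hpq
  set A := Cfsg.pPrimeCore p G with hA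
  set B := Cfsg.pPrimeCore q G with hB
  -- the two kernels
  have key : ∀ (r s : ℕ) [Fact r.Prime] [Fact s.Prime] (Mr Ms : Ideal Cfsg.AlgInt),
      Cfsg.IsPModular r Mr → Cfsg.IsPModular s Ms → Cfsg.IsPSolvable r G → Cfsg.IsPSolvable s G →
      r ∣ Nat.card G →
      (∀ χ : Cfsg.IrrCharacter G,
        (χ ∈ Cfsg.principalBlock Mr G ∧ ¬ r ∣ Cfsg.charDegree (χ : G → ℂ)) →
        (χ ∈ Cfsg.principalBlock Ms G ∧ ¬ s ∣ Cfsg.charDegree (χ : G → ℂ))) →
      Cfsg.pPrimeCore r G ⊔ Cfsg.pPrimeCore s G ≠ ⊤ ∧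
      ∀ L : Subgroup G, L.Normal → Cfsg.pPrimeCore r G ⊔ Cfsg.pPrimeCore s G ≤ L →
        ¬ r ∣ (Cfsg.pPrimeCore r G ⊔ Cfsg.pPrimeCore s G).relIndex L →
        L = Cfsg.pPrimeCore r G ⊔ Cfsg.pPrimeCore s G := by
    intro r s hr hs Mr Ms hMr hMs hrs hss hrG hh
    set A := Cfsg.pPrimeCore r G with hA
    set K := A ⊔ Cfsg.pPrimeCore s G with hK
    let π := QuotientGroup.mk' A
    have hπ : Function.Surjective π := QuotientGroup.mk'_surjective A
    set W := K.map π with hWdef
    have hWn : W.Normal := Subgroup.Normal.map inferInstance π hπ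
    have hW : ∀ χ : Cfsg.IrrCharacter (G ⧸ A), ¬ r ∣ Cfsg.charDegree (χ : G ⧸ A → ℂ) →
        ∀ w ∈ W, (χ : G ⧸ A → ℂ) w = (χ : G ⧸ A → ℂ) 1 := by
      intro χ hχ w hw
      let ψ : Cfsg.IrrCharacter G :=
        ⟨fun g => (χ : G ⧸ A → ℂ) (π g), Char.isIrrCharacter_comp π hπ χ.2⟩
      have hψA : ψ ∈ Cfsg.principalBlock Mr G :=
        (Blocks.mem_principalBlock_iff_of_isPSolvable hMr hrs ψ).2 fun n hn => by
          show (χ : G ⧸ A → ℂ) (π n) = (χ : G ⧸ A → ℂ) (π 1)
          rw [show π n = 1 from (QuotientGroup.eq_one_iff n).2 hn, map_one]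
      have hψd : ¬ r ∣ Cfsg.charDegree (ψ : G → ℂ) := by
        simpa [Cfsg.charDegree, ψ] using hχ
      have hψB := (Blocks.mem_principalBlock_iff_of_isPSolvable hMs hss ψ).1 (hh ψ ⟨hψA, hψd⟩).1
      obtain ⟨g, hg, rfl⟩ := hw
      let T : Subgroup G := Char.kerSubgroup (Char.IsIrr.isCharacter ψ.2)
      have hT : K ≤ T := by
        refine sup_le (fun n hn => ?_) (fun n hn => hψB n hn)
        show (χ : G ⧸ A → ℂ) (π n) = (χ : G ⧸ A → ℂ) (π 1)
        rw [show π n = 1 from (QuotientGroup.eq_one_iff n).2 hn, map_one]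
      have h := hT hg
      simpa [T, ψ] using h
    have hAK : A ≤ K := le_sup_left
    have hker : π.ker = A := QuotientGroup.ker_mk' A
    refine ⟨fun htop => ?_, fun L hL hKL hidx => ?_⟩
    · refine BlockChar.PDegreeKernel.ne_top_of_kills ?_ hW
        (by rw [hWdef, htop, Subgroup.map_top_of_surjective π hπ])
      have h1 := A.card_mul_index
      rw [← h1] at hrG
      refine (hr.out.dvd_mul.1 hrG).resolve_left fun hd => ?_
      exact hr.out.coprime_iff_not_dvd.1 Core.coprime_card_pPrimeCore.symm hd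
    · have hLn : (L.map π).Normal := Subgroup.Normal.map hL π hπ
      have h1 : L.map π = W := by
        refine BlockChar.PDegreeKernel.eq_of_pPrime_index Core.pPrimeCore_quotient_eq_bot
          (Subgroup.map_mono hKL) ?_ hW
        intro hd
        rw [hWdef, Subgroup.relIndex_map_map, hker, sup_eq_left.2 hAK,
          sup_eq_left.2 (hAK.trans hKL)] at hd
        exact hidx hd
      have h2 := congrArg (Subgroup.comap π) h1
      rw [hWdef, Subgroup.comap_map_eq, Subgroup.comap_map_eq, hker, sup_eq_left.2 hAK,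
        sup_eq_left.2 (hAK.trans hKL)] at h2
      exact h2
  obtain ⟨htop, hp'⟩ := key p q Mp Mq hMp hMq hps hqs hp (fun χ hχ => (h χ).1 hχ)
  obtain ⟨-, hq'⟩ := key q p Mq Mp hMq hMp hqs hps hq (fun χ hχ => (h χ).2 hχ)
  rw [sup_comm] at hq'
  set K := A ⊔ B with hK
  let π := QuotientGroup.mk' K
  have hπ : Function.Surjective π := QuotientGroup.mk'_surjective K
  have : Nontrivial (G ⧸ K) := QuotientGroup.nontrivial_iff.2 htop
  have hrel : ∀ N : Subgroup (G ⧸ K), Nat.card N = K.relIndex (N.comap π) := by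
    intro N
    have hKN : K ≤ N.comap π := fun x hx => by
      show π x ∈ N
      rw [show π x = 1 from (QuotientGroup.eq_one_iff x).2 hx]; exact N.one_mem
    let f : N.comap π →* G ⧸ K := π.comp (N.comap π).subtype
    have hk : f.ker = K.subgroupOf (N.comap π) := by
      ext x; simp [f, π, Subgroup.mem_subgroupOf]
    have hr : f.range = N := by
      rw [MonoidHom.range_comp, Subgroup.range_subtype, Subgroup.map_comap_eq_self_of_surjective hπ]
    rw [Subgroup.relIndex, ← hk, Subgroup.index_ker, hr]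
  have hbot : ∀ N : Subgroup (G ⧸ K), N.Normal → N.comap π = K → N = ⊥ := by
    intro N hN e
    rw [← Subgroup.map_comap_eq_self_of_surjective hπ N, e]
    exact QuotientGroup.map_mk'_self K
  rcases S4601.exists_nontrivial_core (Layer.isPSolvable_of_surjective hps hπ) with h1 | h1
  · -- a normal `p`-subgroup has order prime to `q`
    refine h1 (hbot _ inferInstance (hq' _ (Subgroup.Normal.comap inferInstance π) (fun x hx => by
      show π x ∈ Cfsg.pCore p (G ⧸ K)
      rw [show π x = 1 from (QuotientGroup.eq_one_iff x).2 hx]; exact one_mem _) fun hd => ?_))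
    rw [← hrel] at hd
    obtain ⟨k, hk⟩ := IsPGroup.iff_card.1 (Core.pCore_isPGroup (p := p) (G := G ⧸ K))
    exact hpq ((Nat.prime_dvd_prime_iff_eq (Fact.out) (Fact.out)).1
      ((Fact.out : q.Prime).dvd_of_dvd_pow (hk ▸ hd))).symm
  · refine h1 (hbot _ inferInstance (hp' _ (Subgroup.Normal.comap inferInstance π) (fun x hx => by
      show π x ∈ Cfsg.pPrimeCore p (G ⧸ K)
      rw [show π x = 1 from (QuotientGroup.eq_one_iff x).2 hx]; exact one_mem _) fun hd => ?_))
    rw [← hrel] at hd
    exact Core.not_dvd_card_pPrimeCore hd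

end Cfsg.Agent.S4885
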