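import Cfsg.Statements.S4886
import Cfsg.Agent.BlockChar.TwoPrimeMain
import Cfsg.Agent.Blocks.PrincipalPSolvable
-- import your own Cfsg.Agent.* helpers here

set_option autoImplicit false
open Cfsg

namespace Cfsg.Agent.S4886

/-- Let p ≠ q be primes and G a finite group that is p-solvable and q-solvable. Fix maximal ideals of the algebraic integers containing p and q, defining the principal p-block and the principal q-block. Then every irreducible character of degree prime to p in the principal p-block has degree prime to q and every irreducible character of degree prime to q in the principal q-block has degree prime to p, if and only if some Sylow p-subgroup of G commutes elementwise with some Sylow q-subgroup. -/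
theorem result {G : Type*} [Group G] [Finite G] (p q : ℕ) [Fact p.Prime] [Fact q.Prime] (hpq : p ≠ q) (Mp Mq : Ideal Cfsg.AlgInt) (hMp : Cfsg.IsPModular p Mp) (hMq : Cfsg.IsPModular q Mq) (hps : Cfsg.IsPSolvable p G) (hqs : Cfsg.IsPSolvable q G) : ((∀ χ : Cfsg.IrrCharacter G, χ ∈ Cfsg.principalBlock Mp G → ¬ p ∣ Cfsg.charDegree (χ : G → ℂ) → ¬ q ∣ Cfsg.charDegree (χ : G → ℂ)) ∧ (∀ χ : Cfsg.IrrCharacter G, χ ∈ Cfsg.principalBlock Mq G → ¬ q ∣ Cfsg.charDegree (χ : G → ℂ) → ¬ p ∣ Cfsg.charDegree (χ : G → ℂ))) ↔ ∃ (P : Sylow p G) (Q : Sylow q G), ∀ x ∈ (P : Subgroup G), ∀ y ∈ (Q : Subgroup G), x * y = y * x := by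
  have key : ∀ (a b : ℕ) [Fact a.Prime] (Ma : Ideal Cfsg.AlgInt), Cfsg.IsPModular a Ma →
      Cfsg.IsPSolvable a G → ((∀ χ : Cfsg.IrrCharacter G, χ ∈ Cfsg.principalBlock Ma G →
        ¬ a ∣ Cfsg.charDegree (χ : G → ℂ) → ¬ b ∣ Cfsg.charDegree (χ : G → ℂ)) ↔
        BlockChar.TwoPrimeMain.Hyp a b G) := by
    intro a b _ Ma hMa has
    exact ⟨fun h χ hχ => h χ ((Blocks.mem_principalBlock_iff_of_isPSolvable hMa has χ).2 hχ),
      fun h χ hχ => h χ ((Blocks.mem_principalBlock_iff_of_isPSolvable hMa has χ).1 hχ)⟩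
  rw [key p q Mp hMp hps, key q p Mq hMq hqs]
  constructor
  · rintro ⟨h1, h2⟩
    exact BlockChar.TwoPrimeMain.exists_commuting_sylow
      (BlockChar.TwoPrimeMain.main_aux _ G p q rfl hpq hps hqs h1 h2)
      (BlockChar.TwoPrimeMain.main_aux _ G q p rfl hpq.symm hqs hps h2 h1)
  · rintro ⟨P, Q, h⟩
    exact ⟨BlockChar.TwoPrimeMain.hyp_of_commuting hpq hps P Q h,
      BlockChar.TwoPrimeMain.hyp_of_commuting hpq.symm hqs Q P fun x hx y hy => (h y hy x hx).symm⟩

end Cfsg.Agent.S4886
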