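import Cfsg.Statements.S4888
import Mathlib
import Cfsg.Agent.BlockThms.NormalCor
import Cfsg.Agent.BlockThms.DefectGroup
import Cfsg.Agent.BlockChar.Defect
import Cfsg.Agent.Char.PResidualCount
-- import your own Cfsg.Agent.* helpers here

set_option autoImplicit false
open Cfsg

namespace Cfsg.Agent.S4888

open scoped ComplexConjugate
open Cfsg.Agent Cfsg.Agent.Blocks

universe u

theorem height_zero_iff {G : Type u} [Group G] [Finite G] {p : ℕ} [Fact p.Prime]
    {M : Ideal Cfsg.AlgInt} (hM : Cfsg.IsPModular p M) (χ : Cfsg.IrrCharacter G) :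
    Cfsg.blockHeight p (Cfsg.principalBlock M G) (χ : G → ℂ) = 0 ↔
      ¬ p ∣ Cfsg.charDegree (χ : G → ℂ) := by
  have h0 : BlockChar.minVal p (Cfsg.principalBlock M G) = 0 := by
    refine Nat.le_zero.1 ((BlockChar.minVal_le (Blocks.triv_mem_principalBlock hM)).trans ?_)
    rw [Blocks.charDegree_eq (n := 1) (by show (1 : ℂ) = _; simp), Nat.factorization_one]
    rfl
  rw [BlockChar.blockHeight_eq, h0, Nat.sub_zero, Nat.factorization_eq_zero_iff]
  constructor
  · rintro (h | h | h)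
    · exact absurd (Fact.out : p.Prime) h
    · exact h
    · exact absurd h (Blocks.charDegree_pos χ.2).ne'
  · exact fun h => Or.inr (Or.inl h)

/-- If the characters of height zero of the principal block are linear, the p-residual has order
prime to p. -/
theorem not_dvd_card_residual {G : Type u} [Group G] [Fintype G] {p : ℕ} [Fact p.Prime]
    {M : Ideal Cfsg.AlgInt} (hM : Cfsg.IsPModular p M) (K : Subgroup G) [K.Normal] [Fintype K]
    (hgen : Cfsg.pResidual p K = ⊤) {k : ℕ} (hidx : K.index = p ^ k)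
    (h1 : ∀ χ : Cfsg.IrrCharacter G, χ ∈ Cfsg.principalBlock M G →
      ¬ p ∣ Cfsg.charDegree (χ : G → ℂ) → Cfsg.charDegree (χ : G → ℂ) = 1) :
    ¬ p ∣ Nat.card K := by
  classical
  have hp := (Fact.out : p.Prime)
  intro hdvd
  set b := Cfsg.principalBlock M K with hb
  have hbb : Cfsg.IsPBlock M b := isPBlock_principalBlock M
  have hbconj : ∀ (g : G) (θ : Cfsg.IrrCharacter K), θ ∈ b →
      (⟨_, Char.isIrr_conjFun g θ.2⟩ : Cfsg.IrrCharacter K) ∈ b := by
    intro g θ hθ
    have h := BlockThms.sameBlock_conjFun (M := M) (triv K).2 θ.2 hθ g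
    rwa [show Char.conjFun g ((triv K : Cfsg.IrrCharacter K) : K → ℂ) = (triv K : K → ℂ) from
      funext fun n => by rw [Char.conjFun_apply]; rfl] at h
  obtain ⟨P⟩ : Nonempty (Sylow p G) := inferInstance
  letI : MulAction (P : Subgroup G) {θ : Cfsg.IrrCharacter K // θ ∈ b} :=
    { smul := fun u θ => ⟨⟨_, Char.isIrr_conjFun (u : G)⁻¹ θ.1.2⟩, hbconj _ _ θ.2⟩
      one_smul := fun θ => Subtype.ext (Subtype.ext (by
        show Char.conjFun (((1 : (P : Subgroup G)) : G))⁻¹ _ = _
        rw [OneMemClass.coe_one, inv_one, Char.conjFun_one]))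
      mul_smul := fun u v θ => Subtype.ext (Subtype.ext (by
        show Char.conjFun (((u * v : (P : Subgroup G)) : G))⁻¹ _ =
          Char.conjFun ((u : G))⁻¹ (Char.conjFun ((v : G))⁻¹ _)
        rw [Char.conjFun_conjFun, Subgroup.coe_mul, mul_inv_rev])) }
  have hfix : ∀ θ : {θ : Cfsg.IrrCharacter K // θ ∈ b},
      θ ∈ MulAction.fixedPoints (P : Subgroup G) {θ : Cfsg.IrrCharacter K // θ ∈ b} ↔
        ∀ g : G, Char.conjFun g ((θ.1 : Cfsg.IrrCharacter K) : K → ℂ) = θ.1 := by
    intro θ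
    refine ⟨fun h g => ?_, fun h u => Subtype.ext (Subtype.ext (h _))⟩
    have hP : (P : Subgroup G) ≤ Char.inertia ((θ.1 : Cfsg.IrrCharacter K) : K → ℂ) := fun u hu => by
      rw [← inv_inv u]
      exact inv_mem (Char.mem_inertia.2
        (congrArg (fun a : {θ : Cfsg.IrrCharacter K // θ ∈ b} => ((a.1 : Cfsg.IrrCharacter K) : K → ℂ))
          (h ⟨u, hu⟩)))
    have hone : (Char.inertia ((θ.1 : Cfsg.IrrCharacter K) : K → ℂ)).index = 1 := by
      have h2 := Subgroup.index_dvd_of_le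
        (Char.le_inertia (N := K) (Char.isClassFunction_of_isIrr θ.1.2))
      rw [hidx] at h2
      obtain ⟨i, -, hi⟩ := (Nat.dvd_prime_pow hp).1 h2
      rcases Nat.eq_zero_or_pos i with rfl | hi0
      · rw [hi, pow_zero]
      · exact absurd ((hi ▸ dvd_pow_self p hi0.ne').trans (Subgroup.index_dvd_of_le hP))
          P.not_dvd_index
    rw [Subgroup.index_eq_one] at hone
    exact Char.mem_inertia.1 (hone ▸ Subgroup.mem_top g)
  let d : {θ : Cfsg.IrrCharacter K // θ ∈ b} → ℕ := fun θ =>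
    Cfsg.charDegree ((θ.1 : Cfsg.IrrCharacter K) : K → ℂ)
  -- invariant members of degree prime to p are linear
  have hlinear : ∀ θ, θ ∈ MulAction.fixedPoints (P : Subgroup G)
      {θ : Cfsg.IrrCharacter K // θ ∈ b} → ¬ p ∣ d θ → d θ = 1 := by
    intro θ hθ hd
    have hfixg := (hfix θ).1 hθ
    have hθc := Char.IsIrr.isCharacter θ.1.2
    have hd1 : ((θ.1 : Cfsg.IrrCharacter K) : K → ℂ) 1 = (d θ : ℂ) := (charDegree_cast hθc).symm
    obtain ⟨ν, hν⟩ := ProjExt.exists_detChar_hom hθc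
    have hinv : ∀ (g : G) (n : K), (θ.1 : K → ℂ) ⟨g * n * g⁻¹,
        (inferInstance : K.Normal).conj_mem (n : G) n.2 g⟩ = (θ.1 : K → ℂ) n :=
      fun g n => congrFun (hfixg g) n
    have hνinv : ∀ (g : G) (n : K), ν ⟨g * n * g⁻¹,
        (inferInstance : K.Normal).conj_mem (n : G) n.2 g⟩ = ν n := by
      intro g n
      refine Units.ext ?_
      have h1 := congrFun (ProjExt.detChar_comp hθc
        (MulAut.conjNormal g : MulAut K).toMonoidHom) n
      have h2 : (fun x : K => (θ.1 : K → ℂ) ((MulAut.conjNormal g : MulAut K) x)) = θ.1 :=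
        funext fun x => hinv g x
      simp only [MulEquiv.coe_toMonoidHom] at h1
      rw [h2] at h1
      rw [← congrFun hν n, ← congrFun hν, h1]
      rfl
    obtain ⟨μ, hμ, -, -⟩ := ProjExt.exists_ext_of_coprime K ν (ProjExt.orderOf_pos_hom _) hνinv
      (hidx ▸ (hp.coprime_iff_not_dvd.2
        (Char.not_dvd_orderOf_hom_of_pResidual_eq_top hp hgen ν)).pow_left k)
    obtain ⟨η, hη, hres⟩ := ProjExt.extends_of_det K θ.1.2 hinv hd1
      (hidx ▸ (hp.coprime_iff_not_dvd.2 hd).pow_left k) μ (fun n => by rw [hμ n, congrFun hν n])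
    have hdeg : Cfsg.charDegree η = d θ := charDegree_eq (by rw [← hd1, ← hres 1]; rfl)
    have hcon : Cfsg.classInner (fun n : K => η n) ((θ.1 : Cfsg.IrrCharacter K) : K → ℂ) ≠ 0 := by
      rw [show (fun n : K => η n) = (θ.1 : K → ℂ) from funext hres,
        Char.classInner_irr_self θ.1.2]
      exact one_ne_zero
    have hmem : (⟨η, hη⟩ : Cfsg.IrrCharacter G) ∈ Cfsg.principalBlock M G :=
      BlockThms.sameBlock_of_common hM ⟨k, hidx⟩ hbb (θ := triv K) (θ' := θ.1) (χ := triv G)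
        (ψ := ⟨η, hη⟩) (triv_mem_principalBlock hM) θ.2
        ((BlockThms.triv_constituent_iff (triv G).2).2 fun n _ => rfl) hcon
    rw [← hdeg]
    exact h1 ⟨η, hη⟩ hmem (show ¬ p ∣ Cfsg.charDegree η from hdeg ▸ hd)
  -- the sum of the squares
  have hR : ∀ θ, Cfsg.MemLocalRing M ((d θ : ℂ) ^ 2) := fun θ =>
    (localRing hM).pow_mem (memLocalRing_natCast hM _) 2
  have hinvd : ∀ (u : (P : Subgroup G)) θ, ((d (u • θ) : ℕ) : ℂ) ^ 2 = (d θ : ℂ) ^ 2 := fun u θ => by
    congr 1
    rw [Nat.cast_inj]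
    show Cfsg.charDegree (Char.conjFun ((u : G))⁻¹ _) = Cfsg.charDegree _
    simp only [Cfsg.charDegree, Char.conjFun_apply_one]
  have hsum := DefectThms.memLocalIdeal_sum_sub_fixed hM P.isPGroup'
    (fun θ => (d θ : ℂ) ^ 2) hR hinvd
  have htot : Cfsg.MemLocalIdeal M (∑ θ, (d θ : ℂ) ^ 2) := by
    have e : ∑ θ, (d θ : ℂ) ^ 2 = (Nat.card K : ℂ) * Cfsg.blockCoeff b 1 := by
      rw [blockCoeff_eq_sum b, ← mul_assoc, mul_inv_cancel₀ Char.card_ne_zero, one_mul,
        ← Finset.sum_filter, Finset.sum_subtype (Finset.univ.filter fun θ => θ ∈ b)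
          (p := fun θ => θ ∈ b) (fun θ => by simp)]
      refine Finset.sum_congr rfl fun θ _ => ?_
      rw [← charDegree_cast (Char.IsIrr.isCharacter θ.1.2), Complex.conj_natCast, pow_two]
    rw [e]
    exact memLocalIdeal_mul_right hM ((memLocalIdeal_natCast_iff hM _).2 hdvd)
      (memLocalRing_blockCoeff hM hbb 1)
  set F := Finset.univ.filter (fun θ : {θ : Cfsg.IrrCharacter K // θ ∈ b} =>
    θ ∈ MulAction.fixedPoints (P : Subgroup G) {θ : Cfsg.IrrCharacter K // θ ∈ b}) with hF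
  set F₁ := F.filter fun θ => d θ = 1 with hF₁
  have hFsum : Cfsg.MemLocalIdeal M (∑ θ ∈ F, (d θ : ℂ) ^ 2 - (F₁.card : ℂ)) := by
    rw [← Finset.sum_filter_add_sum_filter_not F (fun θ => d θ = 1),
      Finset.sum_congr rfl (g := fun _ => (1 : ℂ)) (s₁ := F.filter fun θ => d θ = 1)
        (fun θ hθ => by simp [(Finset.mem_filter.1 hθ).2]), Finset.sum_const, nsmul_eq_mul,
      mul_one, ← hF₁, add_sub_cancel_left]
    refine memLocalIdeal_sum hM _ fun θ hθ => ?_
    obtain ⟨hθF, hθ1⟩ := Finset.mem_filter.1 hθ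
    have hpd : p ∣ d θ := by_contra fun hn => hθ1 (hlinear θ (Finset.mem_filter.1 hθF).2 hn)
    rw [pow_two]
    exact memLocalIdeal_mul_right hM ((memLocalIdeal_natCast_iff hM _).2 hpd)
      (memLocalRing_natCast hM _)
  have hF₁p : p ∣ F₁.card := by
    rw [← memLocalIdeal_natCast_iff hM]
    have h2 := memLocalIdeal_sub hM htot (memLocalIdeal_add hM hsum hFsum)
    convert h2 using 1
    ring
  -- they form a group of order prime to p
  let mk1 : (K →* ℂˣ) → Cfsg.IrrCharacter K := fun ν => ⟨fun n => (ν n : ℂ),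
    Char.IsChar.isIrr_of_degree_one (Char.isLinear_iff.2 ⟨ν, rfl⟩).1
      (Char.isLinear_iff.2 ⟨ν, rfl⟩).2⟩
  have hmem : ∀ ν : K →* ℂˣ, mk1 ν ∈ b ↔ ∀ x : K, Cfsg.MemLocalIdeal M
      (((Subgroup.centralizer ({x} : Set K)).index : ℂ) -
        ((Subgroup.centralizer ({x} : Set K)).index : ℂ) * (ν x : ℂ)) := by
    intro ν
    refine forall_congr' fun x => ?_
    show Cfsg.MemLocalIdeal M (Cfsg.centralChar (fun _ : K => (1 : ℂ)) x -
      Cfsg.centralChar (fun n : K => (ν n : ℂ)) x) ↔ _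
    simp only [Cfsg.centralChar, map_one, Units.val_one, mul_one, div_one]
  have hνR : ∀ (ν : K →* ℂˣ) (x : K), Cfsg.MemLocalRing M (ν x : ℂ) := fun ν x =>
    memLocalRing_char hM (Char.IsIrr.isCharacter (mk1 ν).2) x
  let L : Subgroup (K →* ℂˣ) :=
    { carrier := {ν | mk1 ν ∈ b ∧ ∀ (g : G) (n : K), ν ⟨g * n * g⁻¹,
        (inferInstance : K.Normal).conj_mem (n : G) n.2 g⟩ = ν n}
      one_mem' := ⟨(hmem 1).2 fun x => by simpa using memLocalIdeal_zero hM, fun _ _ => rfl⟩
      mul_mem' := fun {ν ν'} hν hν' => ⟨(hmem _).2 fun x => by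
          have h3 := memLocalIdeal_add hM (memLocalIdeal_mul_right hM ((hmem ν).1 hν.1 x) (hνR ν' x))
            ((hmem ν').1 hν'.1 x)
          convert h3 using 1
          simp only [MonoidHom.mul_apply, Units.val_mul]
          ring, fun g n => by simp only [MonoidHom.mul_apply, hν.2, hν'.2]⟩
      inv_mem' := fun {ν} hν => ⟨(hmem _).2 fun x => by
          have h3 := memLocalIdeal_neg (memLocalIdeal_mul_right hM ((hmem ν).1 hν.1 x) (hνR ν⁻¹ x))
          convert h3 using 1
          simp only [MonoidHom.inv_apply, Units.val_inv_eq_inv_val]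
          field_simp
          ring, fun g n => by simp only [MonoidHom.inv_apply, hν.2]⟩ }
  have hcard : F₁.card = Nat.card L := by
    rw [← Nat.card_eq_finsetCard]
    refine (Nat.card_eq_of_bijective (fun ν : L => (⟨⟨mk1 ν.1, ν.2.1⟩, ?_⟩ : F₁))
      ⟨fun a c h => ?_, fun θ => ?_⟩).symm
    · simp only [hF₁, hF, Finset.mem_filter, Finset.mem_univ, true_and]
      exact ⟨(hfix ⟨mk1 ν.1, ν.2.1⟩).2 fun g => funext fun n => by
          rw [Char.conjFun_apply]; exact congrArg Units.val (ν.2.2 g n),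
        charDegree_eq (n := 1) (by simp [mk1])⟩
    · refine Subtype.ext (MonoidHom.ext fun n => Units.ext ?_)
      exact congrFun (congrArg (fun a : F₁ => ((a.1.1 : Cfsg.IrrCharacter K) : K → ℂ)) h) n
    · obtain ⟨θ, hθ⟩ := θ
      simp only [hF₁, hF, Finset.mem_filter, Finset.mem_univ, true_and] at hθ
      have hθc := Char.IsIrr.isCharacter θ.1.2
      obtain ⟨ν, hν⟩ := Char.IsChar.exists_hom hθc
        (by rw [← charDegree_cast hθc]; exact_mod_cast hθ.2)
      have hmk : mk1 ν = θ.1 := Subtype.ext hν.symm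
      refine ⟨⟨ν, hmk ▸ θ.2, fun g n => Units.ext ?_⟩, Subtype.ext (Subtype.ext hmk)⟩
      rw [← congrFun hν, ← congrFun hν]
      exact congrFun ((hfix θ).1 hθ.1 g) n
  haveI : Finite (K →* ℂˣ) := Finite.of_injective mk1 fun a c h =>
    MonoidHom.ext fun n => Units.ext (congrFun (congrArg Subtype.val h) n)
  obtain ⟨ν, hν⟩ := exists_prime_orderOf_dvd_card' (G := L) p (hcard ▸ hF₁p)
  rw [← Subgroup.orderOf_coe] at hν
  exact Char.not_dvd_orderOf_hom_of_pResidual_eq_top hp hgen (ν : K →* ℂˣ) (by rw [hν])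

/-- Let G be a finite group, p a prime and M a maximal ideal of the algebraic integers containing p. Then all height-zero irreducible characters of the principal p-block of G (equivalently, all its characters of degree prime to p) have the same degree if and only if G has a normal p-complement. -/
theorem result {G : Type*} [Group G] [Finite G] (p : ℕ) [Fact p.Prime] (M : Ideal Cfsg.AlgInt) (hM : Cfsg.IsPModular p M) : (∃ d : ℕ, ∀ χ : Cfsg.IrrCharacter G, χ ∈ (Cfsg.principalBlock M G) → Cfsg.blockHeight p (Cfsg.principalBlock M G) (χ : G → ℂ) = 0 → Cfsg.charDegree (χ : G → ℂ) = d) ↔ Cfsg.HasNormalPComplement p G := by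
  classical
  have := Fintype.ofFinite G
  have hp := (Fact.out : p.Prime)
  constructor
  · rintro ⟨d, hd⟩
    have h1 : ∀ χ : Cfsg.IrrCharacter G, χ ∈ Cfsg.principalBlock M G →
        ¬ p ∣ Cfsg.charDegree (χ : G → ℂ) → Cfsg.charDegree (χ : G → ℂ) = 1 := by
      intro χ hχ hn
      rw [hd χ hχ ((height_zero_iff hM χ).2 hn)]
      have htriv : Cfsg.charDegree ((Blocks.triv G : Cfsg.IrrCharacter G) : G → ℂ) = 1 :=
        charDegree_eq (by show (1 : ℂ) = _; simp)
      rw [← htriv]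
      exact (hd _ (triv_mem_principalBlock hM)
        ((height_zero_iff hM _).2 (by rw [htriv]; exact hp.not_dvd_one))).symm
    obtain ⟨K, hK, hKn⟩ : ∃ K : Subgroup G, K = Cfsg.pResidual p G ∧ K.Normal :=
      ⟨_, rfl, inferInstance⟩
    have := Fintype.ofFinite K
    obtain ⟨k, hidx⟩ : ∃ k, K.index = p ^ k := hK ▸ Fusion.index_pResidual_eq_pow
    have hgen : Cfsg.pResidual p K = ⊤ := hK ▸ Fusion.pResidual_pResidual
    have hKp := not_dvd_card_residual hM K hgen hidx h1
    obtain ⟨P⟩ : Nonempty (Sylow p G) := inferInstance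
    refine ⟨P, K, hKn, Subgroup.isComplement'_of_coprime ?_ ?_⟩
    · rw [P.card_eq_multiplicity, ← Subgroup.card_mul_index K,
        Nat.factorization_mul Nat.card_pos.ne' Subgroup.index_ne_zero_of_finite, hidx,
        Finsupp.add_apply, Nat.factorization_eq_zero_of_not_dvd hKp, hp.factorization_pow,
        Finsupp.single_eq_same, zero_add]
    · rw [P.card_eq_multiplicity]
      exact (hp.coprime_iff_not_dvd.2 hKp).symm.pow_right _
  · rintro ⟨P, N, hN, hc⟩
    refine ⟨1, fun χ hχ h0 => ?_⟩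
    have hidx : N.index = Nat.card (P : Subgroup G) := hc.symm.index_eq_card
    have hNp : ¬ p ∣ Nat.card N := by
      have h := P.not_dvd_index
      rwa [hc.index_eq_card] at h
    obtain ⟨k, hk⟩ := IsPGroup.iff_card.1 P.isPGroup'
    rw [BlockThms.principalBlock_eq_of_normal_complement hM N hNp ⟨k, hidx.trans hk⟩] at hχ
    obtain ⟨φ, hφ, hφe⟩ := Char.IsIrr.exists_quotient N χ.2 hχ
    obtain ⟨n, hn0, hn⟩ := Char.IsIrr.degree hφ
    have hdeg : Cfsg.charDegree (χ : G → ℂ) = n :=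
      charDegree_eq (by rw [hφe, QuotientGroup.mk_one, hn])
    have hdvd : n ∣ p ^ k := (hidx.trans hk) ▸ Char.IsIrr.degree_dvd_card hφ hn
    have hnp := (height_zero_iff hM χ).1 h0
    rw [hdeg] at hnp ⊢
    obtain ⟨i, -, rfl⟩ := (Nat.dvd_prime_pow hp).1 hdvd
    rcases Nat.eq_zero_or_pos i with rfl | hi
    · exact pow_zero p
    · exact absurd (dvd_pow_self p hi.ne') hnp

end Cfsg.Agent.S4888
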