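import Cfsg.Statements.S4914
import Cfsg.Agent.Fg24.NormalSylowCorr.Main
import Cfsg.Agent.Char.Glauberman.Bridge
import Cfsg.Agent.Blocks.Congr

set_option autoImplicit false
open Cfsg

namespace Cfsg.Agent.S4914

/-- Let P and K be subgroups of a finite group G with P a p-group normalizing K, and suppose K has a normal Sylow p-subgroup Q. Let C be the subgroup of those k ∈ K whose commutator with every element of P lies in Q (so that C/Q is the fixed-point subgroup of P on K/Q). Then there is a bijection f from the P-invariant irreducible complex characters of K onto the P-invariant irreducible complex characters of C such that, for every P-invariant irreducible character χ of K, the multiplicity of f(χ) in the restriction of χ to C is a natural number congruent to 1 or to −1 modulo p, every other P-invariant irreducible character of C occurs in that restriction with multiplicity divisible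 by p, and the degrees of χ and f(χ) are congruent modulo p up to sign. -/
theorem result {G : Type*} [Group G] [Finite G] (p : ℕ) [Fact p.Prime] (P K Q C : Subgroup G) (hP : IsPGroup p ↥P) (hPK : P ≤ Subgroup.normalizer (K : Set G)) (hQK : Q ≤ K) (hQn : ∀ k ∈ K, ∀ q ∈ Q, k * q * k⁻¹ ∈ Q) (hQp : ∃ a : ℕ, Nat.card ↥Q = p ^ a) (hQsyl : ¬ p ∣ Q.relIndex K) (hCK : C ≤ K) (hC : ∀ k : G, k ∈ C ↔ (k ∈ K ∧ ∀ x ∈ P, x * k * x⁻¹ * k⁻¹ ∈ Q)) : ∃ f : {χ : Cfsg.IrrCharacter ↥K // (∀ x ∈ P, ∀ k k' : ↥K, (k' : G) = x * (k : G) * x⁻¹ → (χ : ↥K → ℂ) k' = (χ : ↥K → ℂ) k)} → {ξ : Cfsg.IrrCharacter ↥C // (∀ x ∈ P, ∀ k k' : ↥C, (k' : G) = x * (k : G) * x⁻¹ → (ξ : ↥C → ℂ) k' = (ξ : ↥C → ℂ) k)}, Function.Bijective f ∧ ∀ χ, (∀ ξ : {ξ : Cfsg.IrrCharacter ↥C // (∀ x ∈ P, ∀ k k' : ↥C, (k' : G) = x * (k : G) * x⁻¹ → (ξ : ↥C → ℂ) k' = (ξ : ↥C → ℂ) k)}, ∃ m : ℕ, (Nat.card ↥C : ℂ)⁻¹ * ∑ᶠ c : ↥C, (χ.1 : ↥K → ℂ) (Subgroup.inclusion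 hCK c) * (starRingEnd ℂ) ((ξ.1 : ↥C → ℂ) c) = (m : ℂ) ∧ (ξ = f χ → ((m : ZMod p) = 1 ∨ (m : ZMod p) = -1)) ∧ (ξ ≠ f χ → p ∣ m)) ∧ ((Cfsg.charDegree ((f χ).1 : ↥C → ℂ) : ZMod p) = (Cfsg.charDegree (χ.1 : ↥K → ℂ) : ZMod p) ∨ (Cfsg.charDegree ((f χ).1 : ↥C → ℂ) : ZMod p) = -(Cfsg.charDegree (χ.1 : ↥K → ℂ) : ZMod p)) := by
  classical
  letI : Fintype K := Fintype.ofFinite _
  letI : Fintype C := Fintype.ofFinite _
  have hK : ∀ s ∈ P, ∀ g ∈ K, s * g * s⁻¹ ∈ K := fun s hs g hg =>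
    (Subgroup.mem_normalizer_iff.1 (hPK hs) g).1 hg
  have hQn' : (Q.subgroupOf K).Normal := ⟨fun q hq k => hQn k k.2 q hq⟩
  have hQP : ∀ s ∈ P, ∀ q ∈ Q, s * q * s⁻¹ ∈ Q := by
    intro s hs q hq
    haveI := hQn'
    obtain ⟨a, ha⟩ := hQp
    have h1 : q ^ p ^ a = 1 := by
      rw [← ha]; exact congrArg Subtype.val (pow_card_eq_one' (x := (⟨q, hq⟩ : Q)))
    let y : K := ⟨s * q * s⁻¹, hK s hs q (hQK hq)⟩
    have h2 : y ^ p ^ a = 1 := Subtype.ext (by simp [y, conj_pow, h1])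
    have h3 : ((y : K ⧸ Q.subgroupOf K)) ^ p ^ a = 1 := by
      rw [← QuotientGroup.mk_pow, h2, QuotientGroup.mk_one]
    have h4 : orderOf (y : K ⧸ Q.subgroupOf K) ∣ Q.relIndex K := by
      rw [Subgroup.relIndex, Subgroup.index_eq_card]
      exact orderOf_dvd_natCard _
    have h5 : (y : K ⧸ Q.subgroupOf K) = 1 := by
      refine orderOf_eq_one_iff.1 (Nat.eq_one_of_dvd_coprimes ?_ (orderOf_dvd_of_pow_eq_one h3) h4)
      exact Nat.Coprime.pow_left a ((Fact.out : p.Prime).coprime_iff_not_dvd.2 hQsyl)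
    exact Subgroup.mem_subgroupOf.1 ((QuotientGroup.eq_one_iff y).1 h5)
  have hCs : ∀ s ∈ P, ∀ g ∈ C, s * g * s⁻¹ ∈ C := by
    intro s hs g hg
    refine (hC _).2 ⟨hK s hs g (hCK hg), fun x hx => ?_⟩
    have := hQP s hs _ (((hC g).1 hg).2 (s⁻¹ * x * s) (mul_mem (mul_mem (inv_mem hs) hx) hs))
    simpa [mul_assoc] using this
  let S : Fg24.NormalSylowCorr.Setup p K C P :=
    { a := Char.Glauberman.conjOp hK
      b := Char.Glauberman.conjOp hCs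
      ι := Subgroup.inclusion hCK
      Q := Q.subgroupOf K
      hA := hP
      inj := Subgroup.inclusion_injective hCK
      compat := fun _ _ => Subtype.ext rfl
      mem_range := fun k => by
        constructor
        · rintro ⟨c, rfl⟩ t
          exact ((hC (c : G)).1 c.2).2 t t.2
        · intro h
          exact ⟨⟨k, (hC k).2 ⟨k.2, fun x hx => h ⟨x, hx⟩⟩⟩, rfl⟩
      normal := hQn'
      pgroup := by
        obtain ⟨a, ha⟩ := hQp
        exact IsPGroup.of_card (n := a) (by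
          rw [Nat.card_congr (Subgroup.subgroupOfEquivOfLe hQK).toEquiv, ha])
      index := hQsyl
      stable := fun t q hq => hQP t t.2 _ hq }
  letI : Fintype S.Q := Fintype.ofFinite _
  letI : Fintype S.Qd := Fintype.ofFinite _
  obtain ⟨h1, h2, h3⟩ := S.main
  have iK : ∀ φ : K → ℂ, Char.Glauberman.InvFun S.a φ ↔ _ := Char.Glauberman.invFun_iff hK
  have iC : ∀ φ : C → ℂ, Char.Glauberman.InvFun S.b φ ↔ _ := Char.Glauberman.invFun_iff hCs
  choose g hg hpm hdeg huniq using fun χ : {χ : Cfsg.IrrCharacter K //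
    (∀ x ∈ P, ∀ k k' : K, (k' : G) = x * (k : G) * x⁻¹ → (χ : K → ℂ) k' = (χ : K → ℂ) k)} =>
      h1 χ.1 ((iK _).2 χ.2)
  have hnd : ∀ χ, ¬ p ∣ S.m χ.1 (g χ) := fun χ hd => by
    have h0 : (S.m χ.1 (g χ) : ZMod p) = 0 := (ZMod.natCast_eq_zero_iff _ _).2 hd
    rcases hpm χ with h | h <;> rw [h0] at h
    · exact zero_ne_one h
    · exact neg_ne_zero.2 one_ne_zero h.symm
  refine ⟨fun χ => ⟨g χ, (iC _).1 (hg χ)⟩, ⟨fun χ χ' h => ?_, fun ξ => ?_⟩, fun χ => ⟨fun ξ => ?_, ?_⟩⟩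
  · refine Subtype.ext (h3 χ.1 χ'.1 ((iK _).2 χ.2) ((iK _).2 χ'.2) _ (hg χ) (hnd χ) ?_)
    rw [show g χ = g χ' from congrArg Subtype.val h]
    exact hnd χ'
  · obtain ⟨χ, hχ, hd⟩ := h2 ξ.1 ((iC _).2 ξ.2)
    refine ⟨⟨χ, (iK _).1 hχ⟩, Subtype.ext ?_⟩
    by_contra hne
    exact hd (huniq ⟨χ, (iK _).1 hχ⟩ ξ.1 ((iC _).2 ξ.2) (Ne.symm hne))
  · refine ⟨S.m χ.1 ξ.1, ?_, fun h => ?_, fun h => ?_⟩
    · rw [← S.m_spec χ.1 ξ.1, finsum_eq_sum_of_fintype, Cfsg.classInner]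
    · rw [h]; exact hpm χ
    · exact huniq χ ξ.1 ((iC _).2 ξ.2) fun he => h (Subtype.ext he)
  · obtain ⟨dχ, dξ, e1, e2, e3⟩ := hdeg χ
    rw [Blocks.charDegree_eq e1, Blocks.charDegree_eq e2]
    exact e3

end Cfsg.Agent.S4914
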