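import Cfsg.Statements.S4916
import Cfsg.Agent.Blocks.Indep

set_option autoImplicit false
open Cfsg

namespace Cfsg.Agent.S4916

/-- Let G be a finite group, p a prime and M a maximal ideal of the algebraic integers containing p. Then the principal character is the only irreducible character of degree prime to p in the principal p-block of G if and only if p does not divide the order of G. -/
theorem result {G : Type*} [Group G] [Finite G] (p : ℕ) [Fact p.Prime] (M : Ideal Cfsg.AlgInt) (hM : Cfsg.IsPModular p M) : (∀ χ : Cfsg.IrrCharacter G, χ ∈ Cfsg.principalBlock M G → ¬ p ∣ Cfsg.charDegree (χ : G → ℂ) → (χ : G → ℂ) = fun _ => (1 : ℂ)) ↔ ¬ p ∣ Nat.card G := by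
  classical
  have := Fintype.ofFinite G
  have hp : p.Prime := Fact.out
  set B := Cfsg.principalBlock M G with hBdef
  have hB : Cfsg.IsPBlock M B := Blocks.isPBlock_principalBlock M
  have h1B : Blocks.triv G ∈ B := Blocks.triv_mem_principalBlock hM
  constructor
  · intro h hd
    obtain ⟨x, hx⟩ := exists_prime_orderOf_dvd_card' p hd
    have h0 := Blocks.weak_orthogonality hM hB (x := (1 : G)) (y := x⁻¹)
      (by simp [hp.ne_one]) (by simp [hx])
    rw [finsum_mem_eq_finite_toFinset_sum _ B.toFinite,
      ← Finset.add_sum_erase _ _ (B.toFinite.mem_toFinset.2 h1B)] at h0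
    have h2 : Cfsg.MemLocalIdeal M (∑ χ ∈ B.toFinite.toFinset.erase (Blocks.triv G),
        (χ : G → ℂ) 1 * starRingEnd ℂ ((χ : G → ℂ) x⁻¹)) := by
      refine Blocks.memLocalIdeal_sum hM _ fun χ hχ => ?_
      obtain ⟨hne, hχB⟩ := Finset.mem_erase.1 hχ
      have hd' : p ∣ Cfsg.charDegree (χ : G → ℂ) := not_not.1 fun hh =>
        hne (Subtype.ext (h χ (B.toFinite.mem_toFinset.1 hχB) hh))
      rw [← Blocks.charDegree_cast (Char.IsIrr.isCharacter χ.2),
        ← Char.IsChar.inv_eq_conj (Char.IsIrr.isCharacter χ.2)]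
      exact Blocks.memLocalIdeal_mul_right hM ((Blocks.memLocalIdeal_natCast_iff hM _).2 hd')
        (Blocks.memLocalRing_char hM (Char.IsIrr.isCharacter χ.2) _)
    have h3 : (1 : ℂ) = -(∑ χ ∈ B.toFinite.toFinset.erase (Blocks.triv G),
        (χ : G → ℂ) 1 * starRingEnd ℂ ((χ : G → ℂ) x⁻¹)) := by
      have : ((Blocks.triv G : Cfsg.IrrCharacter G) : G → ℂ) = fun _ => 1 := rfl
      rw [this] at h0
      simp only [map_one, mul_one] at h0
      linear_combination h0
    exact Blocks.not_memLocalIdeal_one hM (h3 ▸ Blocks.memLocalIdeal_neg h2)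
  · intro hd χ hχ _
    have hA : ∀ g, Cfsg.MemLocalRing M (Cfsg.blockCoeff {Blocks.triv G} g) := fun g => by
      rw [Cfsg.blockCoeff, finsum_mem_singleton]
      refine (Blocks.localRing hM).mul_mem (Blocks.memLocalRing_natCast_inv hM hd) ?_
      simpa [Blocks.triv] using (Blocks.localRing hM).one_mem
    have := Blocks.mem_of_sameBlock_of_memLocalRing hM hA (Set.mem_singleton _)
      (Blocks.mem_blockOf.1 hχ)
    rw [Set.mem_singleton_iff] at this
    rw [this]; rfl

end Cfsg.Agent.S4916
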