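import Cfsg.Statements.S4930
import Mathlib
import Cfsg.Agent.Char.Clifford
import Cfsg.Agent.Char.Linear
import Cfsg.Agent.Char.Induced
import Cfsg.Agent.Char.Integral
import Cfsg.Agent.ProjExt.Ratio
import Cfsg.Agent.Blocks.Congr
import Cfsg.Agent.Blocks.Idempotent
import Cfsg.Agent.Blocks.Modular
import Cfsg.Agent.BlockThms.DefectGroup
import Cfsg.Agent.Fusion.Tate

/-!
The bound comes from assigning to an irreducible character `ψ` of the normalizer of odd degree an
odd degree constituent of the induced character containing it with nonzero multiplicity. In the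
case of equality every such `ψ` extends; then the normal closure `R` of the Sylow subgroup has a
self-normalizing Sylow subgroup, and Tate's theorem gives it a normal complement. Conversely a
Sylow subgroup acts without fixed points on a complement, so by a parity argument only the trivial
character of the complement is invariant.
-/

set_option autoImplicit false
open Cfsg

namespace Cfsg.Agent.S4930

open scoped ComplexConjugate commutatorElement
open Cfsg.Agent

universe u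

theorem cast_deg {W : Type u} [Group W] (ψ : Cfsg.IrrCharacter W) :
    (ψ : W → ℂ) 1 = (Cfsg.charDegree (ψ : W → ℂ) : ℂ) :=
  (Blocks.charDegree_cast (Char.IsIrr.isCharacter ψ.2)).symm

theorem deg_pos {W : Type u} [Group W] (ψ : Cfsg.IrrCharacter W) :
    0 < Cfsg.charDegree (ψ : W → ℂ) := by
  obtain ⟨n, hn0, hn⟩ := Char.IsIrr.degree ψ.2
  rwa [Blocks.charDegree_eq hn]

theorem deg_dvd_card {W : Type u} [Group W] [Finite W] (ψ : Cfsg.IrrCharacter W) :
    Cfsg.charDegree (ψ : W → ℂ) ∣ Nat.card W :=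
  Char.IsIrr.degree_dvd_card ψ.2 (cast_deg ψ)

/-- The natural number multiplicity of a constituent of a restriction. -/
theorem exists_mult {G : Type u} [Group G] [Fintype G] (W : Subgroup G) [Fintype W] :
    ∃ a : Cfsg.IrrCharacter G → Cfsg.IrrCharacter W → ℕ,
      (∀ (χ : Cfsg.IrrCharacter G) (ψ : Cfsg.IrrCharacter W), Cfsg.classInner (fun w : W => (χ : G → ℂ) w) (ψ : W → ℂ) = (a χ ψ : ℂ)) ∧
      (∀ χ : Cfsg.IrrCharacter G, Cfsg.charDegree (χ : G → ℂ) =
        ∑ ψ : Cfsg.IrrCharacter W, a χ ψ * Cfsg.charDegree (ψ : W → ℂ)) ∧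
      (∀ ψ : Cfsg.IrrCharacter W, W.index * Cfsg.charDegree (ψ : W → ℂ) =
        ∑ χ : Cfsg.IrrCharacter G, a χ ψ * Cfsg.charDegree (χ : G → ℂ)) := by
  classical
  choose a ha using fun (χ : Cfsg.IrrCharacter G) (ψ : Cfsg.IrrCharacter W) =>
    Char.classInner_isCharacter_eq_natCast
      (Char.isCharacter_res W (Char.IsIrr.isCharacter χ.2)) (Char.IsIrr.isCharacter ψ.2)
  refine ⟨a, ha, fun χ => ?_, fun ψ => ?_⟩
  · have h := congrFun (Char.classFun_expansion (Char.isClassFunction_of_isCharacter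
      (Char.isCharacter_res W (Char.IsIrr.isCharacter χ.2)))) 1
    simp only [Finset.sum_apply, Pi.smul_apply, smul_eq_mul, ha, OneMemClass.coe_one,
      cast_deg] at h
    exact_mod_cast h
  · have h := congrFun (Char.classFun_expansion (Char.isClassFunction_indFun (ψ : W → ℂ)
      (H := W))) 1
    have e : ∀ χ : Cfsg.IrrCharacter G,
        Cfsg.classInner (Cfsg.indFun W (ψ : W → ℂ)) (χ : G → ℂ) = (a χ ψ : ℂ) := fun χ => by
      rw [Char.classInner_indFun_left W _ (Char.isClassFunction_of_isIrr χ.2),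
        ← Char.classInner_conj_symm, ha, Complex.conj_natCast]
    simp only [Finset.sum_apply, Pi.smul_apply, smul_eq_mul, e, Char.indFun_apply_one,
      cast_deg] at h
    exact_mod_cast h

/-- For a normal Sylow two-subgroup `Q`, odd degree means that `⁅Q, Q⁆` is in the kernel. -/
theorem odd_iff {W : Type u} [Group W] [Finite W] (Q : Subgroup W) [Q.Normal]
    (hQp : IsPGroup 2 Q) (hQi : ¬ 2 ∣ Q.index) (ψ : Cfsg.IrrCharacter W) :
    ¬ 2 ∣ Cfsg.charDegree (ψ : W → ℂ) ↔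
      ∀ x ∈ ⁅Q, Q⁆, (ψ : W → ℂ) x = (ψ : W → ℂ) 1 := by
  classical
  have := Fintype.ofFinite W
  constructor
  · intro hodd x hx
    obtain ⟨θ, hθ⟩ := Char.exists_constituent_res (N := Q) ψ.2
    obtain ⟨k, hk, -⟩ := ProjExt.exists_ratio_dvd_index ψ.2 θ.2 hθ
    rw [cast_deg, cast_deg, ← Nat.cast_mul, Nat.cast_inj] at hk
    obtain ⟨n, hn⟩ := IsPGroup.iff_card.1 hQp
    obtain ⟨i, -, hi⟩ := (Nat.dvd_prime_pow Nat.prime_two).1 (hn ▸ deg_dvd_card θ)
    have hi0 : i = 0 := by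
      by_contra h
      exact hodd (hk ▸ (hi ▸ dvd_pow_self 2 h).mul_left k)
    have hθ1 : (θ : Q → ℂ) 1 = 1 := by rw [cast_deg, hi, hi0]; simp
    rw [← Subgroup.map_subtype_commutator] at hx
    obtain ⟨y, hy, rfl⟩ := hx
    have hcl := Char.clifford ψ.2 θ.2 hθ
    have hy1 : ∀ η ∈ Char.orbit (G := W) (θ : Q → ℂ), η y = η 1 := by
      intro η hη
      obtain ⟨g, rfl⟩ := Char.mem_orbit.1 hη
      obtain ⟨f, hf⟩ := Char.IsChar.exists_hom
        (Char.isCharacter_conjFun g (Char.IsIrr.isCharacter θ.2))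
        ((Char.conjFun_apply_one g _).trans hθ1)
      have e : f y = 1 := MonoidHom.mem_ker.1 (Abelianization.commutator_subset_ker f hy)
      rw [hf]
      simp [e]
    have e1 := congrFun hcl y
    have e2 := congrFun hcl 1
    simp only [Pi.smul_apply, Finset.sum_apply, smul_eq_mul, OneMemClass.coe_one] at e1 e2
    show (ψ : W → ℂ) (y : W) = _
    rw [e1, e2, Finset.sum_congr rfl hy1]
  · intro hker
    obtain ⟨φ, hφ, hφe⟩ := Char.IsIrr.exists_quotient ⁅Q, Q⁆ ψ.2 hker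
    have hmk := QuotientGroup.mk'_surjective ⁅Q, Q⁆
    have hQ' : (Q.map (QuotientGroup.mk' ⁅Q, Q⁆)).Normal :=
      Subgroup.Normal.map inferInstance _ hmk
    have hQc : ∀ a b : Q.map (QuotientGroup.mk' ⁅Q, Q⁆), a * b = b * a := by
      rintro ⟨_, a, ha, rfl⟩ ⟨_, b, hb, rfl⟩
      refine Subtype.ext ?_
      show QuotientGroup.mk' ⁅Q, Q⁆ a * QuotientGroup.mk' ⁅Q, Q⁆ b =
        QuotientGroup.mk' ⁅Q, Q⁆ b * QuotientGroup.mk' ⁅Q, Q⁆ a
      rw [← map_mul, ← map_mul, QuotientGroup.mk'_apply, QuotientGroup.mk'_apply,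
        QuotientGroup.eq]
      rw [show (a * b)⁻¹ * (b * a) = ⁅b⁻¹, a⁻¹⁆ by rw [commutatorElement_def]; group]
      exact Subgroup.commutator_mem_commutator (inv_mem hb) (inv_mem ha)
    have := Fintype.ofFinite (W ⧸ ⁅Q, Q⁆)
    have := Fintype.ofFinite (Q.map (QuotientGroup.mk' ⁅Q, Q⁆))
    obtain ⟨θ, hθ⟩ := Char.exists_constituent_res (N := Q.map (QuotientGroup.mk' ⁅Q, Q⁆)) hφ
    obtain ⟨k, hk, hkd⟩ := ProjExt.exists_ratio_dvd_index hφ θ.2 hθ
    rw [Char.IsIrr.degree_one_of_comm θ.2 hQc, mul_one] at hk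
    have hdeg : Cfsg.charDegree (ψ : W → ℂ) = k :=
      Blocks.charDegree_eq (by rw [hφe 1, QuotientGroup.mk_one]; exact hk)
    rw [hdeg]
    exact fun h => hQi ((h.trans hkd).trans (Subgroup.index_map_dvd Q hmk))

theorem natCard_sum {W : Type u} [Group W] [Finite W] :
    Nat.card W = ∑ φ : Cfsg.IrrCharacter W, Cfsg.charDegree (φ : W → ℂ) ^ 2 := by
  have h := Char.sum_sq_degree (G := W)
  simp only [cast_deg] at h
  exact_mod_cast h.symm

/-- The normal closure of a Sylow subgroup has a normal complement to it. -/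
theorem complement_of_self_normalizing {R : Type u} [Group R] [Finite R] (P : Sylow 2 R)
    (K : Subgroup R) [K.Normal]
    (hN : Subgroup.normalizer ((P : Subgroup R) : Set R) ≤ (P : Subgroup R))
    (hK : K ⊓ (P : Subgroup R) = ⁅(P : Subgroup R), (P : Subgroup R)⁆) :
    Cfsg.HasNormalPComplement 2 R := by
  classical
  have hmk := QuotientGroup.mk'_surjective K
  let Pb : Sylow 2 (R ⧸ K) := P.mapSurjective hmk
  have hPb : (Pb : Subgroup (R ⧸ K)) = (P : Subgroup R).map (QuotientGroup.mk' K) :=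
    Sylow.coe_mapSurjective hmk P
  have hself : Subgroup.normalizer ((Pb : Subgroup (R ⧸ K)) : Set (R ⧸ K)) ≤ Pb := by
    intro t ht
    obtain ⟨r, rfl⟩ := hmk t
    -- the preimage `H` of the image is `P K`
    let H : Subgroup R := (Pb : Subgroup (R ⧸ K)).comap (QuotientGroup.mk' K)
    have hPH : (P : Subgroup R) ≤ H := fun x hx => by
      show QuotientGroup.mk' K x ∈ (Pb : Subgroup (R ⧸ K))
      rw [hPb]
      exact Subgroup.mem_map_of_mem _ hx
    have hrH : r ∈ Subgroup.normalizer (H : Set R) := by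
      rw [Subgroup.mem_normalizer_iff] at ht ⊢
      intro x
      show QuotientGroup.mk' K x ∈ (Pb : Subgroup (R ⧸ K)) ↔
        QuotientGroup.mk' K (r * x * r⁻¹) ∈ (Pb : Subgroup (R ⧸ K))
      rw [map_mul, map_mul, map_inv]
      exact ht _
    let M := Subgroup.normalizer (H : Set R)
    have hHM : H ≤ M := Subgroup.le_normalizer
    have : (H.subgroupOf M).Normal := Subgroup.normal_subgroupOf_iff_le_normalizer hHM |>.2 le_rfl
    obtain ⟨S, hS⟩ : ∃ S : Sylow 2 (H.subgroupOf M),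
        ((S : Subgroup (H.subgroupOf M)).map (H.subgroupOf M).subtype : Subgroup M) =
          (P : Subgroup R).subgroupOf M := by
      refine ⟨(P.subtype (hPH.trans hHM)).subtype ?_, ?_⟩
      · intro x hx
        exact hPH (by simpa [Sylow.coe_subtype, Subgroup.mem_subgroupOf] using hx)
      · ext x
        simp only [Sylow.coe_subtype, Subgroup.mem_map, Subgroup.mem_subgroupOf]
        refine ⟨?_, fun hx => ⟨⟨x, hPH hx⟩, hx, rfl⟩⟩
        rintro ⟨y, hy, rfl⟩
        exact hy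
    have hf := Sylow.normalizer_sup_eq_top S
    rw [hS] at hf
    have hrM : (⟨r, hrH⟩ : M) ∈ Subgroup.normalizer
        (((P : Subgroup R).subgroupOf M : Subgroup M) : Set M) ⊔ H.subgroupOf M :=
      hf ▸ Subgroup.mem_top _
    have hle : Subgroup.normalizer (((P : Subgroup R).subgroupOf M : Subgroup M) : Set M) ≤
        H.subgroupOf M := by
      intro m hm
      refine hPH (hN ?_)
      rw [Subgroup.mem_normalizer_iff] at hm
      rw [Subgroup.mem_normalizer_iff]
      intro x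
      constructor
      · intro hx
        exact (hm ⟨x, hHM (hPH hx)⟩).1 hx
      · intro hx
        have hxM : x ∈ M := by
          have := mul_mem (mul_mem (inv_mem m.2) (hHM (hPH hx))) m.2
          simpa [mul_assoc] using this
        exact (hm ⟨x, hxM⟩).2 hx
    have hrHmem : r ∈ H := (sup_le hle le_rfl) hrM
    exact hrHmem
  have hcent : Subgroup.normalizer ((Pb : Subgroup (R ⧸ K)) : Set (R ⧸ K)) ≤
      Subgroup.centralizer ((Pb : Subgroup (R ⧸ K)) : Set (R ⧸ K)) := by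
    refine hself.trans fun a ha => Subgroup.mem_centralizer_iff.2 fun b hb => ?_
    rw [SetLike.mem_coe, hPb] at hb
    rw [hPb] at ha
    obtain ⟨a, ha, rfl⟩ := ha
    obtain ⟨b, hb, rfl⟩ := hb
    rw [← map_mul, ← map_mul, QuotientGroup.mk'_apply, QuotientGroup.mk'_apply, QuotientGroup.eq,
      show (b * a)⁻¹ * (a * b) = ⁅a⁻¹, b⁻¹⁆ by rw [commutatorElement_def]; group]
    exact (inf_le_left : K ⊓ (P : Subgroup R) ≤ K)
      (hK.symm ▸ Subgroup.commutator_mem_commutator (inv_mem ha) (inv_mem hb))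
  have hq := Fusion.hasNormalPComplement_of_normalizer_le_centralizer Pb hcent
  refine Fusion.hasNormalPComplement_of_inf_pResidual_le_frattini P ?_
  intro x ⟨hxP, hxR⟩
  have h1 : QuotientGroup.mk' K x ∈ Cfsg.pResidual 2 (R ⧸ K) :=
    Fusion.map_pResidual_le (QuotientGroup.mk' K) (Subgroup.mem_map_of_mem _ hxR)
  have h2 : QuotientGroup.mk' K x ∈ (Pb : Subgroup (R ⧸ K)) :=
    hPb ▸ Subgroup.mem_map_of_mem _ hxP
  have h3 : QuotientGroup.mk' K x = 1 := Subgroup.mem_bot.1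
    ((Fusion.isComplement'_pResidual hq Pb).disjoint.le_bot ⟨h1, h2⟩)
  have hx' : x ∈ ⁅(P : Subgroup R), (P : Subgroup R)⁆ := hK ▸ ⟨(QuotientGroup.eq_one_iff x).1 h3, hxP⟩
  rw [← Subgroup.map_subtype_commutator] at hx'
  have : Group.IsNilpotent (P : Subgroup R) := P.isPGroup'.isNilpotent
  exact Subgroup.map_mono Core.commutator_le_frattini hx'

/-- Equality forces a normal complement. -/
theorem exists_complement {G : Type u} [Group G] [Finite G] (P : Sylow 2 G) (W : Subgroup G)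
    (hW : W = Subgroup.normalizer ((P : Subgroup G) : Set G)) (Q : Subgroup W) [Q.Normal]
    (hQ : Q = (P : Subgroup G).subgroupOf W)
    (h1 : ∀ ψ : Cfsg.IrrCharacter W, (∀ x ∈ ⁅Q, Q⁆, (ψ : W → ℂ) x = (ψ : W → ℂ) 1) →
      ∃ χ : Cfsg.IrrCharacter G, ¬ 2 ∣ Cfsg.charDegree (χ : G → ℂ) ∧
        ∀ w : W, (χ : G → ℂ) w = (ψ : W → ℂ) w)
    (h2 : ∀ χ : Cfsg.IrrCharacter G, ¬ 2 ∣ Cfsg.charDegree (χ : G → ℂ) →
      ∃ ψ : Cfsg.IrrCharacter W, (∀ x ∈ ⁅Q, Q⁆, (ψ : W → ℂ) x = (ψ : W → ℂ) 1) ∧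
        ∀ w : W, (χ : G → ℂ) w = (ψ : W → ℂ) w) :
    ∃ K : Subgroup G, K.Normal ∧ K ⊓ W = ⊥ ∧ K ⊔ W = ⊤ := by
  classical
  have hPW : (P : Subgroup G) ≤ W := hW ▸ Subgroup.le_normalizer
  let K : Subgroup G := ⨅ χ : {χ : Cfsg.IrrCharacter G // ¬ 2 ∣ Cfsg.charDegree (χ : G → ℂ)},
    Char.kerSubgroup (Char.IsIrr.isCharacter χ.1.2)
  have hKn : K.Normal := Subgroup.normal_iInf_normal fun χ => inferInstance
  have hKW : ∀ w : W, (w : G) ∈ K ↔ w ∈ ⁅Q, Q⁆ := by
    intro w
    simp only [K, Subgroup.mem_iInf, Char.mem_kerSubgroup]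
    constructor
    · intro h
      rw [← QuotientGroup.eq_one_iff]
      refine Char.eq_one_of_forall_irr fun φ => ?_
      obtain ⟨χ, hχ, e⟩ := h1 ((Char.quotientEquiv ⁅Q, Q⁆ φ).1) (Char.quotientEquiv ⁅Q, Q⁆ φ).2
      have h3 := h ⟨χ, hχ⟩
      have e1 := e 1
      rw [OneMemClass.coe_one] at e1
      rw [e w, e1] at h3
      exact h3
    · rintro h ⟨χ, hχ⟩
      obtain ⟨ψ, hψ, e⟩ := h2 χ hχ
      have e1 := e 1
      rw [OneMemClass.coe_one] at e1
      rw [e w, hψ w h, ← e1]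
  let R : Subgroup G := Subgroup.normalClosure ((P : Subgroup G) : Set G)
  have hPR : (P : Subgroup G) ≤ R := Subgroup.le_normalClosure
  have hRW : R ⊓ W ≤ P := by
    rintro x ⟨hxR, hxW⟩
    have hw : (⟨x, hxW⟩ : W) ∈ Q := by
      rw [← QuotientGroup.eq_one_iff]
      refine Char.eq_one_of_forall_irr fun ξ => ?_
      obtain ⟨χ, hχ, e⟩ := h1 (Char.quotientEquiv Q ξ).1
        (fun y hy => (Char.quotientEquiv Q ξ).2 y (Subgroup.commutator_le_left Q Q hy))
      have e1 := e 1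
      rw [OneMemClass.coe_one] at e1
      have hsub : R ≤ Char.kerSubgroup (Char.IsIrr.isCharacter χ.2) :=
        Subgroup.normalClosure_le_normal fun u hu => by
          have hu' : (⟨u, hPW hu⟩ : W) ∈ Q := by rw [hQ]; exact hu
          show (χ : G → ℂ) u = (χ : G → ℂ) 1
          rw [e ⟨u, hPW hu⟩, e1]
          exact (Char.quotientEquiv Q ξ).2 _ hu'
      have h3 : (χ : G → ℂ) x = (χ : G → ℂ) 1 := hsub hxR
      rw [e ⟨x, hxW⟩, e1] at h3
      exact h3
    rw [hQ] at hw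
    exact hw
  have hcomm : ⁅Q, Q⁆.map W.subtype = ⁅(P : Subgroup G), (P : Subgroup G)⁆ := by
    rw [Subgroup.map_commutator, hQ, Subgroup.map_subgroupOf_eq_of_le hPW]
  let PR : Sylow 2 R := P.subtype hPR
  have hPRc : (PR : Subgroup R) = (P : Subgroup G).subgroupOf R := Sylow.coe_subtype _ _
  have hN : Subgroup.normalizer ((PR : Subgroup R) : Set R) ≤ (PR : Subgroup R) := by
    intro x hx
    rw [hPRc, Subgroup.mem_normalizer_iff] at hx
    rw [hPRc, Subgroup.mem_subgroupOf]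
    refine hRW ⟨x.2, ?_⟩
    show (x : G) ∈ W
    rw [hW, Subgroup.mem_normalizer_iff]
    intro y
    constructor
    · intro hy; exact (hx ⟨y, hPR hy⟩).1 hy
    · intro hy
      have hyR : y ∈ R := by
        have := mul_mem (mul_mem (inv_mem x.2) (hPR hy)) x.2
        simpa [mul_assoc] using this
      exact (hx ⟨y, hyR⟩).2 hy
  have hK : K.subgroupOf R ⊓ (PR : Subgroup R) = ⁅(PR : Subgroup R), (PR : Subgroup R)⁆ := by
    refine Subgroup.map_injective R.subtype_injective ?_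
    rw [Subgroup.map_commutator, hPRc, Subgroup.map_subgroupOf_eq_of_le hPR,
      Subgroup.map_inf _ _ _ R.subtype_injective, Subgroup.map_subgroupOf_eq_of_le hPR,
      Subgroup.subgroupOf_map_subtype, ← hcomm]
    ext x
    constructor
    · rintro ⟨⟨hxK, -⟩, hxP⟩
      exact ⟨⟨x, hPW hxP⟩, (hKW _).1 hxK, rfl⟩
    · rintro ⟨w, hw, rfl⟩
      have hP' : (w : G) ∈ (P : Subgroup G) := by
        have h3 := Subgroup.commutator_le_left Q Q hw
        rw [hQ] at h3
        exact h3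
      exact ⟨⟨(hKW w).2 hw, hPR hP'⟩, hP'⟩
  have hc := complement_of_self_normalizing PR (K.subgroupOf R) hN hK
  have hcomp := Fusion.isComplement'_pResidual hc PR
  have hodd := Fusion.coprime_card_pResidual_of_hasNormalPComplement hc
  have hchar : (Cfsg.pResidual 2 R).Characteristic := Fusion.pResidual_characteristic
  refine ⟨(Cfsg.pResidual 2 R).map R.subtype, inferInstance, ?_, ?_⟩
  · rw [eq_bot_iff]
    rintro _ ⟨⟨y, hy, rfl⟩, hyW⟩
    have hyP : y ∈ (PR : Subgroup R) := by rw [hPRc]; exact hRW ⟨y.2, hyW⟩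
    have := Subgroup.mem_bot.1 (hcomp.disjoint.le_bot ⟨hy, hyP⟩)
    simp [this]
  · rw [eq_top_iff, ← Sylow.normalizer_sup_eq_top' P hPR]
    refine sup_le (le_trans hW.ge le_sup_right) fun x hx => ?_
    obtain ⟨l, q, hlq⟩ := (show ∃ l : Cfsg.pResidual 2 R, ∃ q : (PR : Subgroup R),
      (l : R) * q = ⟨x, hx⟩ from by
        obtain ⟨⟨l, q⟩, h⟩ := hcomp.2 ⟨x, hx⟩
        exact ⟨l, q, h⟩)
    have hq : ((q : R) : G) ∈ (P : Subgroup G) := by
      exact Subgroup.mem_subgroupOf.1 (hPRc.le q.2)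
    rw [show x = ((l : R) : G) * ((q : R) : G) from (congrArg Subtype.val hlq).symm]
    exact mul_mem (Subgroup.mem_sup_left ⟨_, l.2, rfl⟩) (Subgroup.mem_sup_right (hPW hq))

/-- An irreducible character of odd degree is trivial on a normal complement of the normalizer. -/
theorem trivial_on_complement {G : Type u} [Group G] [Finite G] (P : Sylow 2 G) (K : Subgroup G)
    [K.Normal] (hKW : K ⊓ Subgroup.normalizer ((P : Subgroup G) : Set G) = ⊥)
    (hKodd : ¬ 2 ∣ Nat.card K) (χ : Cfsg.IrrCharacter G)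
    (hχ : ¬ 2 ∣ Cfsg.charDegree (χ : G → ℂ)) :
    ∀ k ∈ K, (χ : G → ℂ) k = (χ : G → ℂ) 1 := by
  classical
  have := Fintype.ofFinite G
  have := Fintype.ofFinite K
  obtain ⟨θ, hθ⟩ := Char.exists_constituent_res (N := K) χ.2
  obtain ⟨e, he⟩ := Char.classInner_isCharacter_eq_natCast
    (Char.isCharacter_res K (Char.IsIrr.isCharacter χ.2)) (Char.IsIrr.isCharacter θ.2)
  have hd := Char.degree_eq_of_clifford χ.2 θ.2 hθ
  rw [he, cast_deg, cast_deg] at hd
  have hd' : Cfsg.charDegree (χ : G → ℂ) =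
      e * (Char.inertia (G := G) (θ : K → ℂ)).index * Cfsg.charDegree (θ : K → ℂ) := by
    exact_mod_cast hd
  have hidx : ¬ 2 ∣ Nat.card (G ⧸ Char.inertia (G := G) (θ : K → ℂ)) := fun h =>
    hχ (hd' ▸ ((h.mul_left e).mul_right _))
  obtain ⟨q, hq⟩ := P.isPGroup'.nonempty_fixed_point_of_prime_not_dvd_card _ hidx
  obtain ⟨g, rfl⟩ := QuotientGroup.mk_surjective q
  have hfix : ∀ u ∈ (P : Subgroup G),
      Char.conjFun u (Char.conjFun g⁻¹ (θ : K → ℂ)) = Char.conjFun g⁻¹ (θ : K → ℂ) := by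
    intro u hu
    have h3 : g⁻¹ * u * g ∈ Char.inertia (θ : K → ℂ) := by
      have h4 : ((u * g : G) : G ⧸ Char.inertia (θ : K → ℂ)) = (g : G ⧸ _) := hq ⟨u, hu⟩
      rw [QuotientGroup.eq] at h4
      have h5 := inv_mem h4
      simpa [mul_assoc] using h5
    rw [Char.conjFun_conjFun, show g⁻¹ * u = (g⁻¹ * u * g) * g⁻¹ by group,
      ← Char.conjFun_conjFun, Char.mem_inertia.1 h3]
  have hirr := Char.isIrr_conjFun g⁻¹ θ.2
  generalize hη : Char.conjFun g⁻¹ (θ : K → ℂ) = η at hfix hirr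
  have hη1 : η = fun _ => (1 : ℂ) := by
    by_contra hne
    obtain ⟨M, hM⟩ := Blocks.exists_isPModular 2 Nat.prime_two
    have hsum0 : ∑ k : K, η k = 0 := by
      have h3 := Char.classInner_irr_ne hirr Char.isIrrCharacter_one hne
      simp only [Cfsg.classInner, map_one, mul_one, finsum_eq_sum_of_fintype] at h3
      rcases mul_eq_zero.1 h3 with h4 | h4
      · exact absurd (inv_eq_zero.1 h4) Char.card_ne_zero
      · exact h4
    letI : MulAction (P : Subgroup G) K :=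
      MulAction.compHom K (((MulAut.conjNormal : G →* MulAut K)).comp (P : Subgroup G).subtype)
    have hsum := DefectThms.memLocalIdeal_sum_sub_fixed hM P.isPGroup' (fun k : K => η k)
      (fun k => Blocks.memLocalRing_char hM (Char.IsIrr.isCharacter hirr) k)
      (fun u k => congrFun (hfix u u.2) k)
    have hfx : Finset.univ.filter (· ∈ MulAction.fixedPoints (P : Subgroup G) K) = {1} := by
      ext k
      simp only [Finset.mem_filter, Finset.mem_univ, true_and, Finset.mem_singleton,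
        MulAction.mem_fixedPoints]
      constructor
      · intro hk
        refine Subtype.ext (Subgroup.mem_bot.1 (hKW ▸ ⟨k.2, ?_⟩))
        show (k : G) ∈ Subgroup.normalizer ((P : Subgroup G) : Set G)
        rw [Subgroup.mem_normalizer_iff]
        have hc : ∀ u ∈ (P : Subgroup G), u * (k : G) * u⁻¹ = k := fun u hu => by
          have h3 : ((MulAut.conjNormal u k : K) : G) = k := congrArg Subtype.val (hk ⟨u, hu⟩)
          rwa [MulAut.conjNormal_apply] at h3
        intro u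
        constructor
        · intro hu
          have h3 : (k : G) * u * (k : G)⁻¹ = u := by
            calc (k : G) * u * (k : G)⁻¹ = (u * k * u⁻¹) * u * (k : G)⁻¹ := by rw [hc u hu]
              _ = u := by group
          rwa [h3]
        · intro hu
          have h3 : (k : G) * u * (k : G)⁻¹ = u := by
            have h4 := hc _ hu
            have h5 : (k : G) * u * (k : G)⁻¹ * k = k * (k * u * (k : G)⁻¹) := by
              calc (k : G) * u * (k : G)⁻¹ * k
                  = ((k : G) * u * (k : G)⁻¹ * k * ((k : G) * u * (k : G)⁻¹)⁻¹) *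
                      ((k : G) * u * (k : G)⁻¹) := by group
                _ = k * (k * u * (k : G)⁻¹) := by rw [h4]
            have h6 : (k : G) * u = k * ((k : G) * u * (k : G)⁻¹) := by
              rw [← h5]; group
            exact (mul_left_cancel h6).symm
          rwa [h3] at hu
      · rintro rfl u
        exact map_one (MulAut.conjNormal (u : G) : MulAut K)
    rw [hfx, Finset.sum_singleton, hsum0, zero_sub] at hsum
    have h1 : Cfsg.MemLocalIdeal M (η 1) := by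
      have h3 := Blocks.memLocalIdeal_neg hsum
      rwa [neg_neg] at h3
    rw [show η 1 = ((Cfsg.charDegree η : ℕ) : ℂ) from cast_deg ⟨η, hirr⟩,
      Blocks.memLocalIdeal_natCast_iff hM] at h1
    exact hKodd (h1.trans (deg_dvd_card ⟨η, hirr⟩))
  have hθ1 : (θ : K → ℂ) = fun _ => (1 : ℂ) := by
    rw [← Char.conjFun_cancel_inv g (θ : K → ℂ), hη, hη1]
    rfl
  intro k hk
  have hcl := Char.clifford χ.2 θ.2 hθ
  have e1 := congrFun hcl ⟨k, hk⟩
  have e2 := congrFun hcl 1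
  simp only [Pi.smul_apply, Finset.sum_apply, smul_eq_mul, OneMemClass.coe_one] at e1 e2
  rw [e1, e2]
  congr 1
  refine Finset.sum_congr rfl fun ψ hψ => ?_
  obtain ⟨x, rfl⟩ := Char.mem_orbit.1 hψ
  rw [hθ1]
  rfl

set_option maxHeartbeats 2000000 in
/-- Let G be a finite group, P a Sylow 2-subgroup of G with normalizer N, and P′ the commutator subgroup of P. Then the sum of the squares of the degrees of the irreducible complex characters of G of odd degree is at least the index of P′ in N (the order of N divided by the order of P′), and equality holds if and only if N has a normal complement in G: a normal subgroup K of G with K ∩ N = 1 and KN = G. -/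
theorem result {G : Type*} [Group G] [Finite G] (P : Sylow 2 G) :
    Nat.card (Subgroup.normalizer ((P : Subgroup G) : Set G)) ≤ Nat.card (commutator ↥P) * (∑ᶠ χ : {χ : Cfsg.IrrCharacter G // ¬ 2 ∣ Cfsg.charDegree (χ : G → ℂ)}, Cfsg.charDegree (χ.1 : G → ℂ) ^ 2) ∧
    (Nat.card (Subgroup.normalizer ((P : Subgroup G) : Set G)) = Nat.card (commutator ↥P) * (∑ᶠ χ : {χ : Cfsg.IrrCharacter G // ¬ 2 ∣ Cfsg.charDegree (χ : G → ℂ)}, Cfsg.charDegree (χ.1 : G → ℂ) ^ 2) ↔
      ∃ K : Subgroup G, K.Normal ∧ K ⊓ Subgroup.normalizer ((P : Subgroup G) : Set G) = ⊥ ∧ K ⊔ Subgroup.normalizer ((P : Subgroup G) : Set G) = ⊤) := by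
  classical
  have := Fintype.ofFinite G
  obtain ⟨W, hW⟩ : ∃ W, W = Subgroup.normalizer ((P : Subgroup G) : Set G) := ⟨_, rfl⟩
  rw [← hW]
  have := Fintype.ofFinite W
  have hPW : (P : Subgroup G) ≤ W := hW ▸ Subgroup.le_normalizer
  obtain ⟨Q, hQ⟩ : ∃ Q, Q = (P : Subgroup G).subgroupOf W := ⟨_, rfl⟩
  have hQn : Q.Normal := by rw [hQ, hW]; infer_instance
  have hQp : IsPGroup 2 Q := by
    rw [hQ]
    exact P.isPGroup'.of_equiv (Subgroup.subgroupOfEquivOfLe hPW).symm
  have hQi : ¬ 2 ∣ Q.index := by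
    rw [hQ]
    exact fun h => P.not_dvd_index (h.trans (Subgroup.relIndex_dvd_index_of_le hPW))
  have hD : Nat.card (⁅Q, Q⁆ : Subgroup W) = Nat.card (commutator ↥P) := by
    rw [← Subgroup.card_map_of_injective W.subtype_injective, Subgroup.map_commutator, hQ,
      Subgroup.map_subgroupOf_eq_of_le hPW, ← Subgroup.map_subtype_commutator,
      Subgroup.card_map_of_injective (P : Subgroup G).subtype_injective]
    rfl
  obtain ⟨a, ha, hsum, hind⟩ := exists_mult W
  have hWi : ¬ 2 ∣ W.index := fun h => P.not_dvd_index (h.trans (Subgroup.index_dvd_of_le hPW))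
  let Ψ : Cfsg.IrrCharacter (W ⧸ ⁅Q, Q⁆) → Cfsg.IrrCharacter W :=
    fun φ => (Char.quotientEquiv ⁅Q, Q⁆ φ).1
  let d : Cfsg.IrrCharacter (W ⧸ ⁅Q, Q⁆) → ℕ := fun φ => Cfsg.charDegree (Ψ φ : W → ℂ)
  have hdφ : ∀ φ, d φ = Cfsg.charDegree (φ : W ⧸ ⁅Q, Q⁆ → ℂ) := fun φ =>
    Blocks.charDegree_eq (show (φ : W ⧸ ⁅Q, Q⁆ → ℂ) ((1 : W) : W ⧸ ⁅Q, Q⁆) = _ by
      rw [QuotientGroup.mk_one, cast_deg])
  have hdodd : ∀ φ, ¬ 2 ∣ d φ := fun φ =>
    (odd_iff Q hQp hQi (Ψ φ)).2 (Char.quotientEquiv ⁅Q, Q⁆ φ).2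
  let D : {χ : Cfsg.IrrCharacter G // ¬ 2 ∣ Cfsg.charDegree (χ : G → ℂ)} → ℕ :=
    fun χ => Cfsg.charDegree (χ.1 : G → ℂ)
  have hex : ∀ φ, ∃ χ : {χ : Cfsg.IrrCharacter G // ¬ 2 ∣ Cfsg.charDegree (χ : G → ℂ)},
      a χ.1 (Ψ φ) ≠ 0 := by
    intro φ
    by_contra! hno
    have h2 : 2 ∣ ∑ χ, a χ (Ψ φ) * Cfsg.charDegree (χ : G → ℂ) := by
      refine Finset.dvd_sum fun χ _ => ?_
      by_cases hχ : 2 ∣ Cfsg.charDegree (χ : G → ℂ)
      · exact hχ.mul_left _
      · rw [hno ⟨χ, hχ⟩, zero_mul]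
        exact dvd_zero 2
    rw [← hind] at h2
    exact (Nat.prime_two.dvd_mul.1 h2).elim hWi (hdodd φ)
  choose f hf using hex
  have hfib : ∀ χ, ∑ φ ∈ Finset.univ.filter (fun φ => f φ = χ), d φ ≤ D χ := by
    intro χ
    show _ ≤ Cfsg.charDegree (χ.1 : G → ℂ)
    have hinj : Function.Injective Ψ := Subtype.val_injective.comp (Equiv.injective _)
    rw [hsum χ.1]
    calc ∑ φ ∈ Finset.univ.filter (fun φ => f φ = χ), d φ
        = ∑ ψ ∈ (Finset.univ.filter (fun φ => f φ = χ)).image Ψ, Cfsg.charDegree (ψ : W → ℂ) := by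
          rw [Finset.sum_image fun x _ y _ h => hinj h]
      _ ≤ ∑ ψ ∈ (Finset.univ.filter (fun φ => f φ = χ)).image Ψ,
            a χ.1 ψ * Cfsg.charDegree (ψ : W → ℂ) := by
          refine Finset.sum_le_sum fun ψ hψ => ?_
          obtain ⟨φ, hφ, rfl⟩ := Finset.mem_image.1 hψ
          rw [← (Finset.mem_filter.1 hφ).2]
          exact Nat.le_mul_of_pos_left _ (Nat.pos_of_ne_zero (hf φ))
      _ ≤ ∑ ψ, a χ.1 ψ * Cfsg.charDegree (ψ : W → ℂ) :=
          Finset.sum_le_sum_of_subset (Finset.subset_univ _)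
  have hle1 : ∀ φ, d φ ≤ D (f φ) := fun φ =>
    le_trans (Finset.single_le_sum (f := d) (s := Finset.univ.filter fun x => f x = f φ)
      (fun x _ => Nat.zero_le (d x)) (Finset.mem_filter.2 ⟨Finset.mem_univ φ, rfl⟩)) (hfib (f φ))
  have hA : ∑ φ, d φ ^ 2 ≤ ∑ φ, d φ * D (f φ) := Finset.sum_le_sum fun φ _ => by
    rw [pow_two]
    exact Nat.mul_le_mul_left _ (hle1 φ)
  have hBeq : ∑ φ, d φ * D (f φ) =
      ∑ χ, (∑ φ ∈ Finset.univ.filter (fun φ => f φ = χ), d φ) * D χ := by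
    rw [← Finset.sum_fiberwise Finset.univ f fun φ => d φ * D (f φ)]
    refine Finset.sum_congr rfl fun χ _ => ?_
    rw [Finset.sum_mul]
    exact Finset.sum_congr rfl fun φ hφ => by rw [(Finset.mem_filter.1 hφ).2]
  have hB : ∑ χ, (∑ φ ∈ Finset.univ.filter (fun φ => f φ = χ), d φ) * D χ ≤ ∑ χ, D χ ^ 2 :=
    Finset.sum_le_sum fun χ _ => by
      rw [pow_two]
      exact Nat.mul_le_mul_right _ (hfib χ)
  have hcard : Nat.card W = Nat.card (commutator ↥P) * ∑ φ, d φ ^ 2 := by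
    rw [Subgroup.card_eq_card_quotient_mul_card_subgroup (⁅Q, Q⁆ : Subgroup W), hD, mul_comm,
      natCard_sum (W := W ⧸ ⁅Q, Q⁆)]
    simp only [hdφ]
  rw [finsum_eq_sum_of_fintype, hcard]
  refine ⟨Nat.mul_le_mul_left _ (hA.trans (hBeq ▸ hB)), ?_⟩
  rw [Nat.mul_right_inj Nat.card_pos.ne']
  constructor
  · intro heq
    have e1 : ∑ φ, d φ ^ 2 = ∑ φ, d φ * D (f φ) :=
      le_antisymm hA (by rw [hBeq]; exact hB.trans heq.ge)
    have e2 : ∑ χ, (∑ φ ∈ Finset.univ.filter (fun φ => f φ = χ), d φ) * D χ = ∑ χ, D χ ^ 2 :=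
      le_antisymm hB (heq.symm.le.trans (hA.trans hBeq.le))
    have hpt : ∀ φ, d φ = D (f φ) := fun φ => by
      have h3 := (Finset.sum_eq_sum_iff_of_le fun φ _ => by
        rw [pow_two]; exact Nat.mul_le_mul_left _ (hle1 φ)).1 e1 φ (Finset.mem_univ φ)
      rw [pow_two] at h3
      exact Nat.eq_of_mul_eq_mul_left (deg_pos (Ψ φ)) h3
    have hne : ∀ χ, ∃ φ, f φ = χ := fun χ => by
      have h3 := (Finset.sum_eq_sum_iff_of_le fun χ _ => by
        rw [pow_two]; exact Nat.mul_le_mul_right _ (hfib χ)).1 e2 χ (Finset.mem_univ χ)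
      by_contra! hno
      rw [Finset.filter_false_of_mem fun φ _ => hno φ, Finset.sum_empty, zero_mul] at h3
      exact pow_ne_zero 2 (deg_pos χ.1).ne' h3.symm
    have hext : ∀ φ (w : W), ((f φ).1 : G → ℂ) w = (Ψ φ : W → ℂ) w := by
      intro φ w
      have hne0 : Cfsg.classInner (fun v : W => ((f φ).1 : G → ℂ) v) (Ψ φ : W → ℂ) ≠ 0 := by
        rw [ha]
        exact_mod_cast hf φ
      have hsub := Char.IsChar.sub_constituent
        (Char.isCharacter_res W (Char.IsIrr.isCharacter (f φ).1.2)) (Ψ φ).2 hne0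
      have h0 := Char.IsChar.norm_le hsub w
      have e : ((fun v : W => ((f φ).1 : G → ℂ) v) - (Ψ φ : W → ℂ)) 1 = 0 := by
        rw [Pi.sub_apply, OneMemClass.coe_one, cast_deg, cast_deg]
        exact sub_eq_zero.2 (congrArg Nat.cast (hpt φ).symm)
      rw [e, Complex.zero_re] at h0
      exact sub_eq_zero.1 (norm_eq_zero.1 (le_antisymm h0 (norm_nonneg _)))
    refine exists_complement P W hW Q hQ (fun ψ hψ => ?_) (fun χ hχ => ?_)
    · obtain ⟨φ, hφ⟩ := (Char.quotientEquiv ⁅Q, Q⁆).surjective ⟨ψ, hψ⟩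
      refine ⟨(f φ).1, (f φ).2, fun w => ?_⟩
      rw [hext φ w]
      simp only [Ψ, hφ]
    · obtain ⟨φ, hφ⟩ := hne ⟨χ, hχ⟩
      refine ⟨Ψ φ, (Char.quotientEquiv ⁅Q, Q⁆ φ).2, fun w => ?_⟩
      rw [← hext φ w, hφ]
  · rintro ⟨K, hKn, hK1, hK2⟩
    refine le_antisymm (hA.trans (hBeq ▸ hB)) ?_
    have hKc : K.IsComplement' W := Subgroup.isComplement'_of_disjoint_and_mul_eq_univ
      (disjoint_iff.2 hK1) (by rw [← Subgroup.normal_mul, hK2, Subgroup.coe_top])
    have hKodd : ¬ 2 ∣ Nat.card K := by rw [← hKc.index_eq_card]; exact hWi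
    have hK1' : K ⊓ Subgroup.normalizer ((P : Subgroup G) : Set G) = ⊥ := hW ▸ hK1
    have hker := fun χ : {χ : Cfsg.IrrCharacter G // ¬ 2 ∣ Cfsg.charDegree (χ : G → ℂ)} =>
      trivial_on_complement P K hK1' hKodd χ.1 χ.2
    have hdec : ∀ g : G, ∃ w : W, ∃ k ∈ K, g = k * w := fun g => by
      obtain ⟨⟨k, w⟩, h⟩ := hKc.2 g
      exact ⟨w, k, k.2, h.symm⟩
    have hres : ∀ χ : {χ : Cfsg.IrrCharacter G // ¬ 2 ∣ Cfsg.charDegree (χ : G → ℂ)},
        Cfsg.IsIrrCharacter W (fun w : W => (χ.1 : G → ℂ) w) := by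
      intro χ
      obtain ⟨φ, hφ, hφe⟩ := Char.IsIrr.exists_quotient K χ.1.2 (hker χ)
      have hs : Function.Surjective ((QuotientGroup.mk' K).comp W.subtype) := fun q => by
        obtain ⟨g, rfl⟩ := QuotientGroup.mk_surjective q
        obtain ⟨w, k, hk, rfl⟩ := hdec g
        exact ⟨w, by
          show ((w : G) : G ⧸ K) = _
          rw [QuotientGroup.mk_mul, (QuotientGroup.eq_one_iff k).2 hk, one_mul]⟩
      have h3 := Char.isIrrCharacter_comp _ hs hφ
      convert h3 using 1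
      funext w
      exact hφe _
    have hdD : ∀ χ, Cfsg.charDegree (fun w : W => (χ : {χ : Cfsg.IrrCharacter G //
        ¬ 2 ∣ Cfsg.charDegree (χ : G → ℂ)}).1.1 w) = D χ := fun χ =>
      Blocks.charDegree_eq (by rw [OneMemClass.coe_one]; exact cast_deg χ.1)
    let g : {χ : Cfsg.IrrCharacter G // ¬ 2 ∣ Cfsg.charDegree (χ : G → ℂ)} →
        Cfsg.IrrCharacter (W ⧸ ⁅Q, Q⁆) := fun χ =>
      (Char.quotientEquiv ⁅Q, Q⁆).symm ⟨⟨_, hres χ⟩,
        (odd_iff Q hQp hQi ⟨_, hres χ⟩).1 (by rw [hdD]; exact χ.2)⟩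
    have hΨg : ∀ χ, (Ψ (g χ) : W → ℂ) = fun w : W => (χ.1 : G → ℂ) w := fun χ => by
      simp only [Ψ, g, Equiv.apply_symm_apply]
    have hginj : Function.Injective g := by
      intro χ χ' h
      refine Subtype.ext (Subtype.ext (funext fun x => ?_))
      obtain ⟨w, k, hk, rfl⟩ := hdec x
      rw [Char.IsChar.mul_left_of_mem_kernel (Char.IsIrr.isCharacter χ.1.2) (hker χ k hk),
        Char.IsChar.mul_left_of_mem_kernel (Char.IsIrr.isCharacter χ'.1.2) (hker χ' k hk)]
      exact congrFun ((hΨg χ).symm.trans ((congrArg (fun x => (Ψ x : W → ℂ)) h).trans (hΨg χ'))) w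
    calc ∑ χ, D χ ^ 2 = ∑ χ, d (g χ) ^ 2 := Finset.sum_congr rfl fun χ _ => by
          show D χ ^ 2 = Cfsg.charDegree (Ψ (g χ) : W → ℂ) ^ 2
          rw [hΨg χ, hdD χ]
      _ = ∑ φ ∈ Finset.univ.image g, d φ ^ 2 := (Finset.sum_image (f := fun φ => d φ ^ 2) (g := g) (s := Finset.univ)
          fun x _ y _ h => hginj h).symm
      _ ≤ ∑ φ, d φ ^ 2 := Finset.sum_le_sum_of_subset (Finset.subset_univ _)

end Cfsg.Agent.S4930
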