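import Cfsg.Statements.S4931
import Mathlib
import Cfsg.Agent.Char.Clifford
import Cfsg.Agent.Char.Linear
import Cfsg.Agent.Char.Induced
import Cfsg.Agent.Char.Integral
import Cfsg.Agent.ProjExt.Ratio
import Cfsg.Agent.Blocks.Congr
import Cfsg.Agent.Blocks.Idempotent
import Cfsg.Agent.Blocks.Modular
import Cfsg.Agent.BlockThms.DefectGroup
import Cfsg.Agent.Fusion.Tate

/-!
As for the case of equality in S4930: if the characters of the normalizer of degree prime to `p`
extend, the normal closure of the Sylow subgroup has a self-normalizing Sylow subgroup, and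
Tate's theorem gives the complement.
-/

set_option autoImplicit false
open Cfsg

namespace Cfsg.Agent.S4931

open scoped ComplexConjugate commutatorElement
open Cfsg.Agent

universe u

theorem cast_deg {W : Type u} [Group W] (ψ : Cfsg.IrrCharacter W) :
    (ψ : W → ℂ) 1 = (Cfsg.charDegree (ψ : W → ℂ) : ℂ) :=
  (Blocks.charDegree_cast (Char.IsIrr.isCharacter ψ.2)).symm

theorem deg_pos {W : Type u} [Group W] (ψ : Cfsg.IrrCharacter W) :
    0 < Cfsg.charDegree (ψ : W → ℂ) := by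
  obtain ⟨n, hn0, hn⟩ := Char.IsIrr.degree ψ.2
  rwa [Blocks.charDegree_eq hn]

theorem deg_dvd_card {W : Type u} [Group W] [Finite W] (ψ : Cfsg.IrrCharacter W) :
    Cfsg.charDegree (ψ : W → ℂ) ∣ Nat.card W :=
  Char.IsIrr.degree_dvd_card ψ.2 (cast_deg ψ)

/-- For a normal Sylow subgroup `Q`, degree prime to `p` means that `⁅Q, Q⁆` is in the kernel. -/
theorem pPrime_iff {W : Type u} [Group W] [Finite W] {p : ℕ} [Fact p.Prime] (Q : Subgroup W) [Q.Normal]
    (hQp : IsPGroup p Q) (hQi : ¬ p ∣ Q.index) (ψ : Cfsg.IrrCharacter W) :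
    ¬ p ∣ Cfsg.charDegree (ψ : W → ℂ) ↔
      ∀ x ∈ ⁅Q, Q⁆, (ψ : W → ℂ) x = (ψ : W → ℂ) 1 := by
  classical
  have := Fintype.ofFinite W
  constructor
  · intro hodd x hx
    obtain ⟨θ, hθ⟩ := Char.exists_constituent_res (N := Q) ψ.2
    obtain ⟨k, hk, -⟩ := ProjExt.exists_ratio_dvd_index ψ.2 θ.2 hθ
    rw [cast_deg, cast_deg, ← Nat.cast_mul, Nat.cast_inj] at hk
    obtain ⟨n, hn⟩ := IsPGroup.iff_card.1 hQp
    obtain ⟨i, -, hi⟩ := (Nat.dvd_prime_pow (Fact.out : p.Prime)).1 (hn ▸ deg_dvd_card θ)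
    have hi0 : i = 0 := by
      by_contra h
      exact hodd (hk ▸ (hi ▸ dvd_pow_self p h).mul_left k)
    have hθ1 : (θ : Q → ℂ) 1 = 1 := by rw [cast_deg, hi, hi0]; simp
    rw [← Subgroup.map_subtype_commutator] at hx
    obtain ⟨y, hy, rfl⟩ := hx
    have hcl := Char.clifford ψ.2 θ.2 hθ
    have hy1 : ∀ η ∈ Char.orbit (G := W) (θ : Q → ℂ), η y = η 1 := by
      intro η hη
      obtain ⟨g, rfl⟩ := Char.mem_orbit.1 hη
      obtain ⟨f, hf⟩ := Char.IsChar.exists_hom
        (Char.isCharacter_conjFun g (Char.IsIrr.isCharacter θ.2))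
        ((Char.conjFun_apply_one g _).trans hθ1)
      have e : f y = 1 := MonoidHom.mem_ker.1 (Abelianization.commutator_subset_ker f hy)
      rw [hf]
      simp [e]
    have e1 := congrFun hcl y
    have e2 := congrFun hcl 1
    simp only [Pi.smul_apply, Finset.sum_apply, smul_eq_mul, OneMemClass.coe_one] at e1 e2
    show (ψ : W → ℂ) (y : W) = _
    rw [e1, e2, Finset.sum_congr rfl hy1]
  · intro hker
    obtain ⟨φ, hφ, hφe⟩ := Char.IsIrr.exists_quotient ⁅Q, Q⁆ ψ.2 hker
    have hmk := QuotientGroup.mk'_surjective ⁅Q, Q⁆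
    have hQ' : (Q.map (QuotientGroup.mk' ⁅Q, Q⁆)).Normal :=
      Subgroup.Normal.map inferInstance _ hmk
    have hQc : ∀ a b : Q.map (QuotientGroup.mk' ⁅Q, Q⁆), a * b = b * a := by
      rintro ⟨_, a, ha, rfl⟩ ⟨_, b, hb, rfl⟩
      refine Subtype.ext ?_
      show QuotientGroup.mk' ⁅Q, Q⁆ a * QuotientGroup.mk' ⁅Q, Q⁆ b =
        QuotientGroup.mk' ⁅Q, Q⁆ b * QuotientGroup.mk' ⁅Q, Q⁆ a
      rw [← map_mul, ← map_mul, QuotientGroup.mk'_apply, QuotientGroup.mk'_apply,
        QuotientGroup.eq]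
      rw [show (a * b)⁻¹ * (b * a) = ⁅b⁻¹, a⁻¹⁆ by rw [commutatorElement_def]; group]
      exact Subgroup.commutator_mem_commutator (inv_mem hb) (inv_mem ha)
    have := Fintype.ofFinite (W ⧸ ⁅Q, Q⁆)
    have := Fintype.ofFinite (Q.map (QuotientGroup.mk' ⁅Q, Q⁆))
    obtain ⟨θ, hθ⟩ := Char.exists_constituent_res (N := Q.map (QuotientGroup.mk' ⁅Q, Q⁆)) hφ
    obtain ⟨k, hk, hkd⟩ := ProjExt.exists_ratio_dvd_index hφ θ.2 hθ
    rw [Char.IsIrr.degree_one_of_comm θ.2 hQc, mul_one] at hk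
    have hdeg : Cfsg.charDegree (ψ : W → ℂ) = k :=
      Blocks.charDegree_eq (by rw [hφe 1, QuotientGroup.mk_one]; exact hk)
    rw [hdeg]
    exact fun h => hQi ((h.trans hkd).trans (Subgroup.index_map_dvd Q hmk))

/-- The normal closure of a Sylow subgroup has a normal complement to it. -/
theorem complement_of_self_normalizing {R : Type u} [Group R] [Finite R]
    {p : ℕ} [Fact p.Prime] (P : Sylow p R)
    (K : Subgroup R) [K.Normal]
    (hN : Subgroup.normalizer ((P : Subgroup R) : Set R) ≤ (P : Subgroup R))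
    (hK : K ⊓ (P : Subgroup R) = ⁅(P : Subgroup R), (P : Subgroup R)⁆) :
    Cfsg.HasNormalPComplement p R := by
  classical
  have hmk := QuotientGroup.mk'_surjective K
  let Pb : Sylow p (R ⧸ K) := P.mapSurjective hmk
  have hPb : (Pb : Subgroup (R ⧸ K)) = (P : Subgroup R).map (QuotientGroup.mk' K) :=
    Sylow.coe_mapSurjective hmk P
  have hself : Subgroup.normalizer ((Pb : Subgroup (R ⧸ K)) : Set (R ⧸ K)) ≤ Pb := by
    intro t ht
    obtain ⟨r, rfl⟩ := hmk t
    -- the preimage `H` of the image is `P K`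
    let H : Subgroup R := (Pb : Subgroup (R ⧸ K)).comap (QuotientGroup.mk' K)
    have hPH : (P : Subgroup R) ≤ H := fun x hx => by
      show QuotientGroup.mk' K x ∈ (Pb : Subgroup (R ⧸ K))
      rw [hPb]
      exact Subgroup.mem_map_of_mem _ hx
    have hrH : r ∈ Subgroup.normalizer (H : Set R) := by
      rw [Subgroup.mem_normalizer_iff] at ht ⊢
      intro x
      show QuotientGroup.mk' K x ∈ (Pb : Subgroup (R ⧸ K)) ↔
        QuotientGroup.mk' K (r * x * r⁻¹) ∈ (Pb : Subgroup (R ⧸ K))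
      rw [map_mul, map_mul, map_inv]
      exact ht _
    let M := Subgroup.normalizer (H : Set R)
    have hHM : H ≤ M := Subgroup.le_normalizer
    have : (H.subgroupOf M).Normal := Subgroup.normal_subgroupOf_iff_le_normalizer hHM |>.2 le_rfl
    obtain ⟨S, hS⟩ : ∃ S : Sylow p (H.subgroupOf M),
        ((S : Subgroup (H.subgroupOf M)).map (H.subgroupOf M).subtype : Subgroup M) =
          (P : Subgroup R).subgroupOf M := by
      refine ⟨(P.subtype (hPH.trans hHM)).subtype ?_, ?_⟩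
      · intro x hx
        exact hPH (by simpa [Sylow.coe_subtype, Subgroup.mem_subgroupOf] using hx)
      · ext x
        simp only [Sylow.coe_subtype, Subgroup.mem_map, Subgroup.mem_subgroupOf]
        refine ⟨?_, fun hx => ⟨⟨x, hPH hx⟩, hx, rfl⟩⟩
        rintro ⟨y, hy, rfl⟩
        exact hy
    have hf := Sylow.normalizer_sup_eq_top S
    rw [hS] at hf
    have hrM : (⟨r, hrH⟩ : M) ∈ Subgroup.normalizer
        (((P : Subgroup R).subgroupOf M : Subgroup M) : Set M) ⊔ H.subgroupOf M :=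
      hf ▸ Subgroup.mem_top _
    have hle : Subgroup.normalizer (((P : Subgroup R).subgroupOf M : Subgroup M) : Set M) ≤
        H.subgroupOf M := by
      intro m hm
      refine hPH (hN ?_)
      rw [Subgroup.mem_normalizer_iff] at hm
      rw [Subgroup.mem_normalizer_iff]
      intro x
      constructor
      · intro hx
        exact (hm ⟨x, hHM (hPH hx)⟩).1 hx
      · intro hx
        have hxM : x ∈ M := by
          have := mul_mem (mul_mem (inv_mem m.2) (hHM (hPH hx))) m.2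
          simpa [mul_assoc] using this
        exact (hm ⟨x, hxM⟩).2 hx
    have hrHmem : r ∈ H := (sup_le hle le_rfl) hrM
    exact hrHmem
  have hcent : Subgroup.normalizer ((Pb : Subgroup (R ⧸ K)) : Set (R ⧸ K)) ≤
      Subgroup.centralizer ((Pb : Subgroup (R ⧸ K)) : Set (R ⧸ K)) := by
    refine hself.trans fun a ha => Subgroup.mem_centralizer_iff.2 fun b hb => ?_
    rw [SetLike.mem_coe, hPb] at hb
    rw [hPb] at ha
    obtain ⟨a, ha, rfl⟩ := ha
    obtain ⟨b, hb, rfl⟩ := hb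
    rw [← map_mul, ← map_mul, QuotientGroup.mk'_apply, QuotientGroup.mk'_apply, QuotientGroup.eq,
      show (b * a)⁻¹ * (a * b) = ⁅a⁻¹, b⁻¹⁆ by rw [commutatorElement_def]; group]
    exact (inf_le_left : K ⊓ (P : Subgroup R) ≤ K)
      (hK.symm ▸ Subgroup.commutator_mem_commutator (inv_mem ha) (inv_mem hb))
  have hq := Fusion.hasNormalPComplement_of_normalizer_le_centralizer Pb hcent
  refine Fusion.hasNormalPComplement_of_inf_pResidual_le_frattini P ?_
  intro x ⟨hxP, hxR⟩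
  have h1 : QuotientGroup.mk' K x ∈ Cfsg.pResidual p (R ⧸ K) :=
    Fusion.map_pResidual_le (QuotientGroup.mk' K) (Subgroup.mem_map_of_mem _ hxR)
  have h2 : QuotientGroup.mk' K x ∈ (Pb : Subgroup (R ⧸ K)) :=
    hPb ▸ Subgroup.mem_map_of_mem _ hxP
  have h3 : QuotientGroup.mk' K x = 1 := Subgroup.mem_bot.1
    ((Fusion.isComplement'_pResidual hq Pb).disjoint.le_bot ⟨h1, h2⟩)
  have hx' : x ∈ ⁅(P : Subgroup R), (P : Subgroup R)⁆ := hK ▸ ⟨(QuotientGroup.eq_one_iff x).1 h3, hxP⟩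
  rw [← Subgroup.map_subtype_commutator] at hx'
  have : Group.IsNilpotent (P : Subgroup R) := P.isPGroup'.isNilpotent
  exact Subgroup.map_mono Core.commutator_le_frattini hx'

/-- Extendibility forces a normal complement. -/
theorem exists_complement {G : Type u} [Group G] [Finite G] {p : ℕ} [Fact p.Prime] (P : Sylow p G) (W : Subgroup G)
    (hW : W = Subgroup.normalizer ((P : Subgroup G) : Set G)) (Q : Subgroup W) [Q.Normal]
    (hQ : Q = (P : Subgroup G).subgroupOf W)
    (h1 : ∀ ψ : Cfsg.IrrCharacter W, (∀ x ∈ ⁅Q, Q⁆, (ψ : W → ℂ) x = (ψ : W → ℂ) 1) →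
      ∃ χ : Cfsg.IrrCharacter G, ∀ w : W, (χ : G → ℂ) w = (ψ : W → ℂ) w) :
    ∃ K : Subgroup G, K.Normal ∧ K ⊓ W = ⊥ ∧ K ⊔ W = ⊤ := by
  classical
  have hPW : (P : Subgroup G) ≤ W := hW ▸ Subgroup.le_normalizer
  let K : Subgroup G := ⨅ χ : {χ : Cfsg.IrrCharacter G // ∃ ψ : Cfsg.IrrCharacter W,
      (∀ x ∈ ⁅Q, Q⁆, (ψ : W → ℂ) x = (ψ : W → ℂ) 1) ∧ ∀ w : W, (χ : G → ℂ) w = (ψ : W → ℂ) w},
    Char.kerSubgroup (Char.IsIrr.isCharacter χ.1.2)
  have hKn : K.Normal := Subgroup.normal_iInf_normal fun χ => inferInstance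
  have hKW : ∀ w : W, (w : G) ∈ K ↔ w ∈ ⁅Q, Q⁆ := by
    intro w
    simp only [K, Subgroup.mem_iInf, Char.mem_kerSubgroup]
    constructor
    · intro h
      rw [← QuotientGroup.eq_one_iff]
      refine Char.eq_one_of_forall_irr fun φ => ?_
      obtain ⟨χ, e⟩ := h1 ((Char.quotientEquiv ⁅Q, Q⁆ φ).1) (Char.quotientEquiv ⁅Q, Q⁆ φ).2
      have h3 := h ⟨χ, _, (Char.quotientEquiv ⁅Q, Q⁆ φ).2, e⟩
      have e1 := e 1
      rw [OneMemClass.coe_one] at e1
      rw [e w, e1] at h3
      exact h3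
    · rintro h ⟨χ, ψ, hψ, e⟩
      have e1 := e 1
      rw [OneMemClass.coe_one] at e1
      exact (e w).trans ((hψ w h).trans e1.symm)
  let R : Subgroup G := Subgroup.normalClosure ((P : Subgroup G) : Set G)
  have hPR : (P : Subgroup G) ≤ R := Subgroup.le_normalClosure
  have hRW : R ⊓ W ≤ P := by
    rintro x ⟨hxR, hxW⟩
    have hw : (⟨x, hxW⟩ : W) ∈ Q := by
      rw [← QuotientGroup.eq_one_iff]
      refine Char.eq_one_of_forall_irr fun ξ => ?_
      obtain ⟨χ, e⟩ := h1 (Char.quotientEquiv Q ξ).1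
        (fun y hy => (Char.quotientEquiv Q ξ).2 y (Subgroup.commutator_le_left Q Q hy))
      have e1 := e 1
      rw [OneMemClass.coe_one] at e1
      have hsub : R ≤ Char.kerSubgroup (Char.IsIrr.isCharacter χ.2) :=
        Subgroup.normalClosure_le_normal fun u hu => by
          have hu' : (⟨u, hPW hu⟩ : W) ∈ Q := by rw [hQ]; exact hu
          show (χ : G → ℂ) u = (χ : G → ℂ) 1
          rw [e ⟨u, hPW hu⟩, e1]
          exact (Char.quotientEquiv Q ξ).2 _ hu'
      have h3 : (χ : G → ℂ) x = (χ : G → ℂ) 1 := hsub hxR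
      rw [e ⟨x, hxW⟩, e1] at h3
      exact h3
    rw [hQ] at hw
    exact hw
  have hcomm : ⁅Q, Q⁆.map W.subtype = ⁅(P : Subgroup G), (P : Subgroup G)⁆ := by
    rw [Subgroup.map_commutator, hQ, Subgroup.map_subgroupOf_eq_of_le hPW]
  let PR : Sylow p R := P.subtype hPR
  have hPRc : (PR : Subgroup R) = (P : Subgroup G).subgroupOf R := Sylow.coe_subtype _ _
  have hN : Subgroup.normalizer ((PR : Subgroup R) : Set R) ≤ (PR : Subgroup R) := by
    intro x hx
    rw [hPRc, Subgroup.mem_normalizer_iff] at hx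
    rw [hPRc, Subgroup.mem_subgroupOf]
    refine hRW ⟨x.2, ?_⟩
    show (x : G) ∈ W
    rw [hW, Subgroup.mem_normalizer_iff]
    intro y
    constructor
    · intro hy; exact (hx ⟨y, hPR hy⟩).1 hy
    · intro hy
      have hyR : y ∈ R := by
        have := mul_mem (mul_mem (inv_mem x.2) (hPR hy)) x.2
        simpa [mul_assoc] using this
      exact (hx ⟨y, hyR⟩).2 hy
  have hK : K.subgroupOf R ⊓ (PR : Subgroup R) = ⁅(PR : Subgroup R), (PR : Subgroup R)⁆ := by
    refine Subgroup.map_injective R.subtype_injective ?_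
    rw [Subgroup.map_commutator, hPRc, Subgroup.map_subgroupOf_eq_of_le hPR,
      Subgroup.map_inf _ _ _ R.subtype_injective, Subgroup.map_subgroupOf_eq_of_le hPR,
      Subgroup.subgroupOf_map_subtype, ← hcomm]
    ext x
    constructor
    · rintro ⟨⟨hxK, -⟩, hxP⟩
      exact ⟨⟨x, hPW hxP⟩, (hKW _).1 hxK, rfl⟩
    · rintro ⟨w, hw, rfl⟩
      have hP' : (w : G) ∈ (P : Subgroup G) := by
        have h3 := Subgroup.commutator_le_left Q Q hw
        rw [hQ] at h3
        exact h3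
      exact ⟨⟨(hKW w).2 hw, hPR hP'⟩, hP'⟩
  have hc := complement_of_self_normalizing PR (K.subgroupOf R) hN hK
  have hcomp := Fusion.isComplement'_pResidual hc PR
  have hodd := Fusion.coprime_card_pResidual_of_hasNormalPComplement hc
  have hchar : (Cfsg.pResidual p R).Characteristic := Fusion.pResidual_characteristic
  refine ⟨(Cfsg.pResidual p R).map R.subtype, inferInstance, ?_, ?_⟩
  · rw [eq_bot_iff]
    rintro _ ⟨⟨y, hy, rfl⟩, hyW⟩
    have hyP : y ∈ (PR : Subgroup R) := by rw [hPRc]; exact hRW ⟨y.2, hyW⟩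
    have := Subgroup.mem_bot.1 (hcomp.disjoint.le_bot ⟨hy, hyP⟩)
    simp [this]
  · rw [eq_top_iff, ← Sylow.normalizer_sup_eq_top' P hPR]
    refine sup_le (le_trans hW.ge le_sup_right) fun x hx => ?_
    obtain ⟨l, q, hlq⟩ := (show ∃ l : Cfsg.pResidual p R, ∃ q : (PR : Subgroup R),
      (l : R) * q = ⟨x, hx⟩ from by
        obtain ⟨⟨l, q⟩, h⟩ := hcomp.2 ⟨x, hx⟩
        exact ⟨l, q, h⟩)
    have hq : ((q : R) : G) ∈ (P : Subgroup G) := by
      exact Subgroup.mem_subgroupOf.1 (hPRc.le q.2)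
    rw [show x = ((l : R) : G) * ((q : R) : G) from (congrArg Subtype.val hlq).symm]
    exact mul_mem (Subgroup.mem_sup_left ⟨_, l.2, rfl⟩) (Subgroup.mem_sup_right (hPW hq))

/-- Let G be a finite group, p a prime and P a Sylow p-subgroup of G with normalizer N. Then every irreducible complex character of N of degree not divisible by p is the restriction of an irreducible character of G if and only if there is a normal subgroup K of G with KN = G and K ∩ N = 1. -/
theorem result {G : Type*} [Group G] [Finite G] (p : ℕ) [Fact p.Prime] (P : Sylow p G) :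
    (∀ θ : Cfsg.IrrCharacter ↥(Subgroup.normalizer ((P : Subgroup G) : Set G)), ¬ p ∣ Cfsg.charDegree (θ : ↥(Subgroup.normalizer ((P : Subgroup G) : Set G)) → ℂ) →
        ∃ χ : Cfsg.IrrCharacter G, ∀ x : ↥(Subgroup.normalizer ((P : Subgroup G) : Set G)), (χ : G → ℂ) x = (θ : ↥(Subgroup.normalizer ((P : Subgroup G) : Set G)) → ℂ) x) ↔
      ∃ K : Subgroup G, K.Normal ∧ K ⊔ Subgroup.normalizer ((P : Subgroup G) : Set G) = ⊤ ∧ K ⊓ Subgroup.normalizer ((P : Subgroup G) : Set G) = ⊥ := by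
  classical
  have := Fintype.ofFinite G
  obtain ⟨W, hW⟩ : ∃ W, W = Subgroup.normalizer ((P : Subgroup G) : Set G) := ⟨_, rfl⟩
  rw [← hW]
  have hPW : (P : Subgroup G) ≤ W := hW ▸ Subgroup.le_normalizer
  constructor
  · intro h
    obtain ⟨Q, hQ⟩ : ∃ Q, Q = (P : Subgroup G).subgroupOf W := ⟨_, rfl⟩
    have hQn : Q.Normal := by rw [hQ, hW]; infer_instance
    have hQp : IsPGroup p Q := by
      rw [hQ]
      exact P.isPGroup'.of_equiv (Subgroup.subgroupOfEquivOfLe hPW).symm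
    have hQi : ¬ p ∣ Q.index := by
      rw [hQ]
      exact fun h => P.not_dvd_index (h.trans (Subgroup.relIndex_dvd_index_of_le hPW))
    obtain ⟨K, hKn, h1, h2⟩ := exists_complement P W hW Q hQ fun ψ hψ =>
      h ψ ((pPrime_iff Q hQp hQi ψ).2 hψ)
    exact ⟨K, hKn, h2, h1⟩
  · rintro ⟨K, hKn, hK1, hK2⟩ θ -
    let e : W →* G ⧸ K := (QuotientGroup.mk' K).comp W.subtype
    have he : Function.Bijective e := by
      refine ⟨(injective_iff_map_eq_one e).2 fun w hw => ?_, fun q => ?_⟩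
      · exact Subtype.ext (Subgroup.mem_bot.1 (hK2.le ⟨(QuotientGroup.eq_one_iff _).1 hw, w.2⟩))
      · obtain ⟨g, rfl⟩ := QuotientGroup.mk_surjective q
        have hg : g ∈ ((K ⊔ W : Subgroup G) : Set G) := by rw [hK1]; trivial
        rw [Subgroup.normal_mul] at hg
        obtain ⟨k, hk, w, hw, rfl⟩ := hg
        exact ⟨⟨w, hw⟩, by
          show ((w : G) : G ⧸ K) = _
          rw [QuotientGroup.mk_mul, (QuotientGroup.eq_one_iff k).2 hk, one_mul]⟩
    let ee : W ≃* G ⧸ K := MulEquiv.ofBijective e he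
    have hφ : Cfsg.IsIrrCharacter (G ⧸ K) (fun q => (θ : W → ℂ) (ee.symm q)) :=
      Char.isIrrCharacter_comp ee.symm.toMonoidHom ee.symm.surjective θ.2
    refine ⟨⟨_, Char.isIrrCharacter_mk K hφ⟩, fun w => ?_⟩
    show (θ : W → ℂ) (ee.symm (e w)) = _
    rw [show e w = ee w from rfl, MulEquiv.symm_apply_apply]

end Cfsg.Agent.S4931
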