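import Cfsg.Statements.S4965
import Mathlib

set_option autoImplicit false
open Cfsg

namespace Cfsg.Agent.S4965

/-- Let X be a finite group with an abelian normal subgroup V (any two elements of V commute), and let φ be the action of X ⧸ V on V induced by conjugation (well defined because V is abelian; the hypothesis hφ says that the class of x acts as conjugation by x). Then X has at most as many conjugacy classes as the semidirect product of V by X ⧸ V formed with this action: the split extension has the largest class number among extensions with the given action. -/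
theorem result {X : Type*} [Group X] [Finite X] (V : Subgroup X) [V.Normal] (hab : ∀ a ∈ V, ∀ b ∈ V, a * b = b * a) (φ : X ⧸ V →* MulAut ↥V) (hφ : ∀ (x : X) (v : ↥V), ((φ (QuotientGroup.mk x) v : ↥V) : X) = x * v * x⁻¹) : Nat.card (ConjClasses X) ≤ Nat.card (ConjClasses (SemidirectProduct ↥V (X ⧸ V) φ)) := by
  classical
  have := Fintype.ofFinite X
  set Y := SemidirectProduct ↥V (X ⧸ V) φ
  haveI : Finite Y := Finite.of_equiv _ (SemidirectProduct.equivProd (φ := φ)).symm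
  have key : ∀ (c : (X ⧸ V) × (X ⧸ V)),
      (∃ a b : X, Commute a b ∧ (a : X ⧸ V) = c.1 ∧ (b : X ⧸ V) = c.2) →
      ∃ ab : X × X, Commute ab.1 ab.2 ∧ (ab.1 : X ⧸ V) = c.1 ∧ (ab.2 : X ⧸ V) = c.2 :=
    fun c ⟨a, b, h⟩ => ⟨(a, b), h⟩
  let base : (X ⧸ V) × (X ⧸ V) → X × X := fun c =>
    if h : ∃ a b : X, Commute a b ∧ (a : X ⧸ V) = c.1 ∧ (b : X ⧸ V) = c.2 then
      (key c h).choose else (1, 1)
  have hbase : ∀ a b : X, Commute a b →
      Commute (base ((a : X ⧸ V), (b : X ⧸ V))).1 (base ((a : X ⧸ V), (b : X ⧸ V))).2 ∧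
      a * (base ((a : X ⧸ V), (b : X ⧸ V))).1⁻¹ ∈ V ∧
      b * (base ((a : X ⧸ V), (b : X ⧸ V))).2⁻¹ ∈ V ∧
      (((base ((a : X ⧸ V), (b : X ⧸ V))).1 : X ⧸ V) = a) ∧
      (((base ((a : X ⧸ V), (b : X ⧸ V))).2 : X ⧸ V) = b) := by
    intro a b hab
    have h : ∃ a' b' : X, Commute a' b' ∧ (a' : X ⧸ V) = ((a : X ⧸ V), (b : X ⧸ V)).1 ∧
        (b' : X ⧸ V) = ((a : X ⧸ V), (b : X ⧸ V)).2 := ⟨a, b, hab, rfl, rfl⟩
    simp only [base, dif_pos h]
    obtain ⟨h1, h2, h3⟩ := (key _ h).choose_spec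
    refine ⟨h1, ?_, ?_, h2, h3⟩
    · rw [← QuotientGroup.eq_one_iff, QuotientGroup.mk_mul, QuotientGroup.mk_inv, h2, mul_inv_cancel]
    · rw [← QuotientGroup.eq_one_iff, QuotientGroup.mk_mul, QuotientGroup.mk_inv, h3, mul_inv_cancel]
  let f : {ab : X × X // Commute ab.1 ab.2} → {st : Y × Y // Commute st.1 st.2} := fun ab =>
    ⟨(⟨⟨_, (hbase _ _ ab.2).2.1⟩, (ab.1.1 : X ⧸ V)⟩, ⟨⟨_, (hbase _ _ ab.2).2.2.1⟩, (ab.1.2 : X ⧸ V)⟩), by
      obtain ⟨h0, hu, hv, ha, hb⟩ := hbase _ _ ab.2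
      obtain ⟨⟨a, b⟩, hab⟩ := ab
      dsimp only at h0 hu hv ha hb hab ⊢
      set a₀ := (base ((a : X ⧸ V), (b : X ⧸ V))).1 with ha₀
      set b₀ := (base ((a : X ⧸ V), (b : X ⧸ V))).2 with hb₀
      refine SemidirectProduct.ext (Subtype.ext ?_) ?_
      · have e1 := hφ a₀ ⟨b * b₀⁻¹, hv⟩
        have e2 := hφ b₀ ⟨a * a₀⁻¹, hu⟩
        rw [ha] at e1
        rw [hb] at e2
        show a * a₀⁻¹ * ((φ (a : X ⧸ V) ⟨b * b₀⁻¹, hv⟩ : ↥V) : X) =
          b * b₀⁻¹ * ((φ (b : X ⧸ V) ⟨a * a₀⁻¹, hu⟩ : ↥V) : X)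
        rw [e1, e2]
        calc a * a₀⁻¹ * (a₀ * (b * b₀⁻¹) * a₀⁻¹) = a * b * (a₀ * b₀)⁻¹ := by group
          _ = b * a * (b₀ * a₀)⁻¹ := by rw [hab.eq, h0.eq]
          _ = b * b₀⁻¹ * (b₀ * (a * a₀⁻¹) * b₀⁻¹) := by group
      · show (a : X ⧸ V) * b = b * a
        rw [← QuotientGroup.mk_mul, ← QuotientGroup.mk_mul, hab.eq]⟩
  have hinj : Function.Injective f := by
    rintro ⟨⟨a, b⟩, hab⟩ ⟨⟨a', b'⟩, hab'⟩ h
    have h1 := congrArg (fun t => t.1.1) h
    have h2 := congrArg (fun t => t.1.2) h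
    have ea := congrArg SemidirectProduct.right h1
    have eb := congrArg SemidirectProduct.right h2
    have la := congrArg (fun t => ((SemidirectProduct.left t : ↥V) : X)) h1
    have lb := congrArg (fun t => ((SemidirectProduct.left t : ↥V) : X)) h2
    dsimp only [f] at ea eb la lb
    rw [ea, eb] at la lb
    exact Subtype.ext (Prod.ext (mul_right_cancel la) (mul_right_cancel lb))
  have hle := Nat.card_le_card_of_injective f hinj
  rw [card_comm_eq_card_conjClasses_mul_card, card_comm_eq_card_conjClasses_mul_card] at hle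
  have hY : Nat.card Y = Nat.card X := by
    rw [Nat.card_congr (SemidirectProduct.equivProd (φ := φ)), Nat.card_prod,
      ← Subgroup.index_eq_card, Subgroup.card_mul_index]
  rw [hY] at hle
  exact Nat.le_of_mul_le_mul_right hle Nat.card_pos

end Cfsg.Agent.S4965
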