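import Cfsg.Statements.S4969
import Mathlib.Algebra.Order.Chebyshev
import Cfsg.Agent.Char.Ortho
-- import your own Cfsg.Agent.* helpers here

set_option autoImplicit false
open Cfsg

namespace Cfsg.Agent.S4969

/-- Let G be a finite group with k conjugacy classes, g ∈ G, and N > 0. Then the sum over the irreducible complex characters χ of G with χ(1) ≥ N of |χ(g)|/χ(1) is at most √(k · #C_G(g)) / N. -/
theorem result {G : Type*} [Group G] [Finite G] (g : G) (N : ℝ) (hN : 0 < N) :
    ∑ᶠ χ : Cfsg.IrrCharacter G, (if N ≤ ‖(χ : G → ℂ) 1‖ then ‖(χ : G → ℂ) g‖ / ‖(χ : G → ℂ) 1‖ else 0) ≤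
      Real.sqrt ((Nat.card (ConjClasses G) : ℝ) * (Nat.card ↥(Subgroup.centralizer ({g} : Set G)) : ℝ)) / N := by
  classical
  have := Fintype.ofFinite G
  rw [finsum_eq_sum_of_fintype]
  set k := Nat.card (ConjClasses G) with hk
  set c := Nat.card ↥(Subgroup.centralizer ({g} : Set G)) with hc
  have h1 : ∑ χ : IrrCharacter G, ‖(χ : G → ℂ) g‖ ^ 2 = (c : ℝ) := by
    have h := Char.second_orthogonality g g
    rw [if_pos (IsConj.refl g)] at h
    simp only [Complex.mul_conj] at h
    simp only [← Complex.normSq_eq_norm_sq]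
    exact_mod_cast h
  have hk' : (Finset.univ : Finset (IrrCharacter G)).card = k := by
    rw [Finset.card_univ, ← Nat.card_eq_fintype_card, Char.card_irrCharacter]
  calc ∑ χ : IrrCharacter G,
        (if N ≤ ‖(χ : G → ℂ) 1‖ then ‖(χ : G → ℂ) g‖ / ‖(χ : G → ℂ) 1‖ else 0)
      ≤ ∑ χ : IrrCharacter G, ‖(χ : G → ℂ) g‖ / N := by
        refine Finset.sum_le_sum fun χ _ => ?_
        split_ifs with hd
        · exact div_le_div_of_nonneg_left (norm_nonneg _) hN hd
        · positivity
    _ = (∑ χ : IrrCharacter G, ‖(χ : G → ℂ) g‖) / N := by rw [Finset.sum_div]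
    _ ≤ Real.sqrt ((k : ℝ) * c) / N := by
        gcongr
        refine Real.le_sqrt_of_sq_le ?_
        have h2 := sq_sum_le_card_mul_sum_sq (s := Finset.univ)
          (f := fun χ : IrrCharacter G => ‖(χ : G → ℂ) g‖)
        rwa [h1, hk'] at h2

end Cfsg.Agent.S4969
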