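import Cfsg.Statements.S4989
import Cfsg.Agent.Char.Zero
-- import your own Cfsg.Agent.* helpers here

set_option autoImplicit false
open Cfsg

namespace Cfsg.Agent.S4989

/-- Let H be a subgroup of the finite group G and χ an irreducible complex character of G. Then the inner product of the restriction of χ to H with itself, (1/#H)·Σ_{h ∈ H} |χ(h)|², is at most 1 + #(Z ∖ H)/#H, where Z is the set of zeros of χ in G. -/
theorem result {G : Type*} [Group G] [Finite G] (H : Subgroup G) (χ : Cfsg.IrrCharacter G) : (Nat.card ↥H : ℝ)⁻¹ * ∑ᶠ h : ↥H, ‖(χ : G → ℂ) h‖ ^ 2 ≤ 1 + (Set.ncard ({x : G | (χ : G → ℂ) x = 0} \ (H : Set G)) : ℝ) / (Nat.card ↥H : ℝ) := by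
  classical
  have := Fintype.ofFinite G
  have := Fintype.ofFinite H
  have hχ := Char.IsIrr.isCharacter χ.2
  rw [finsum_eq_sum_of_fintype]
  set S := Finset.univ.filter fun x : G => x ∉ H ∧ (χ : G → ℂ) x ≠ 0 with hS
  set Z := Finset.univ.filter fun x : G => x ∉ H ∧ (χ : G → ℂ) x = 0 with hZ
  have hψ := Char.isCharacter_mul hχ (Char.isCharacter_conj hχ)
  have hval : ∀ x, (((χ : G → ℂ) * fun g => starRingEnd ℂ ((χ : G → ℂ) g)) x).re =
      Complex.normSq ((χ : G → ℂ) x) := fun x => by simp [Complex.mul_conj]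
  have hle := Char.card_le_sum_of_galois_closed hψ S (fun x hx k hk => by
    simp only [hS, Finset.mem_filter, Finset.mem_univ, true_and] at hx ⊢
    obtain ⟨σ, hσ⟩ := Char.exists_galois_pow (G := G) k hk
    refine ⟨fun hm => hx.1 ?_, ?_⟩
    · obtain ⟨a, b, hab⟩ := Nat.isCoprime_iff_coprime.2 (hk.of_dvd_right (orderOf_dvd_natCard x))
      have e : x = (x ^ (k : ℤ)) ^ a * (x ^ (orderOf x : ℤ)) ^ b := by
        rw [← zpow_mul, ← zpow_mul, ← zpow_add, mul_comm (k : ℤ) a, mul_comm (orderOf x : ℤ) b,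
          hab, zpow_one]
      rw [e, zpow_natCast x (orderOf x), pow_orderOf_eq_one, one_zpow, mul_one, zpow_natCast]
      exact H.zpow_mem hm a
    · rw [← hσ hχ x]; exact (map_ne_zero σ).2 hx.2)
    (fun x hx => ⟨by simp [Complex.mul_conj], by
      rw [hval]; exact Complex.normSq_pos.2 (Finset.mem_filter.1 hx).2.2⟩)
  simp only [hval] at hle
  have hnorm : ∑ x, Complex.normSq ((χ : G → ℂ) x) = Nat.card G := by
    have hs := Char.classInner_irr_self χ.2
    rw [Char.classInner_self_eq, Complex.ofReal_eq_one, inv_mul_eq_one₀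
      (Nat.cast_ne_zero.2 Nat.card_pos.ne')] at hs
    exact hs.symm
  set Hf := Finset.univ.filter fun x : G => x ∈ H with hHf
  have hsplit : ∑ x ∈ Hf, Complex.normSq ((χ : G → ℂ) x) +
      ∑ x ∈ S, Complex.normSq ((χ : G → ℂ) x) = Nat.card G := by
    rw [← hnorm, ← Finset.sum_filter_add_sum_filter_not Finset.univ (fun x : G => x ∈ H)]
    congr 1
    refine Finset.sum_subset (fun x hx => ?_) fun x hx hx' => ?_
    · simp only [hS, Finset.mem_filter, Finset.mem_univ, true_and] at hx ⊢; exact hx.1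
    · simp only [hS, Finset.mem_filter, Finset.mem_univ, true_and, not_and, not_not] at hx hx'
      simp [hx' hx]
  have hcard : Hf.card + (S.card + Z.card) = Nat.card G := by
    rw [Nat.card_eq_fintype_card, ← Finset.card_univ,
      ← Finset.card_filter_add_card_filter_not (s := Finset.univ) (fun x : G => x ∈ H)]
    congr 1
    rw [← Finset.card_filter_add_card_filter_not (s := Finset.univ.filter (fun x : G => ¬ x ∈ H))
      (fun x : G => (χ : G → ℂ) x ≠ 0), Finset.filter_filter, Finset.filter_filter]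
    simp [hS, hZ]
  have hHcard : (Hf.card : ℝ) = Nat.card H := by
    rw [hHf, ← Fintype.card_subtype, ← Nat.card_eq_fintype_card]
  have hZcard : ({x : G | (χ : G → ℂ) x = 0} \ (H : Set G)).ncard = Z.card := by
    rw [Set.ncard_eq_toFinset_card']
    congr 1
    ext x
    simp [hZ, and_comm]
  have hsumH : ∑ x ∈ Hf, Complex.normSq ((χ : G → ℂ) x) =
      ∑ h : H, Complex.normSq ((χ : G → ℂ) h) :=
    Finset.sum_subtype (p := fun x => x ∈ H) Hf (by simp [hHf]) _
  have hcR : (Hf.card : ℝ) + (S.card + Z.card) = Nat.card G := by exact_mod_cast hcard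
  rw [hZcard]
  simp only [← Complex.normSq_eq_norm_sq]
  have hpos : (0 : ℝ) < Nat.card H := Nat.cast_pos.2 Nat.card_pos
  rw [inv_mul_le_iff₀ hpos, mul_add, mul_div_cancel₀ _ hpos.ne', mul_one]
  linarith

end Cfsg.Agent.S4989
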