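import Cfsg.Statements.S4993
import Cfsg.Agent.BlockChar.PrimClass.Main
import Cfsg.Agent.S0008
-- import your own Cfsg.Agent.* helpers here

set_option autoImplicit false
open Cfsg

namespace Cfsg.Agent.S4993

/-- Let G be a group of odd order whose order has exactly two prime divisors and whose quotient by its Fitting subgroup is nilpotent (G is metanilpotent), and let χ be a primitive irreducible complex character of G (not induced from a character of any proper subgroup). Then χ(1) divides the size of some conjugacy class of G. -/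
theorem result {G : Type*} [Group G] [Fintype G] (hodd : Odd (Nat.card G)) (h2 : (Nat.card G).primeFactors.card = 2) [hF : (Cfsg.fittingSubgroup G).Normal] (hmeta : Group.IsNilpotent (G ⧸ Cfsg.fittingSubgroup G)) (χ : Cfsg.IrrCharacter G) (hprim : ¬ ∃ (H : Subgroup G), H ≠ ⊤ ∧ ∃ θ : ↥H → ℂ, Cfsg.IsCharacter ↥H θ ∧ Cfsg.indFun H θ = (χ : G → ℂ)) : ∃ g : G, Cfsg.charDegree (χ : G → ℂ) ∣ (Subgroup.centralizer ({g} : Set G)).index := by
  obtain ⟨p, q, hpq, hpf⟩ := Finset.card_eq_two.1 h2
  have hmem : ∀ r ∈ (Nat.card G).primeFactors, r.Prime ∧ 3 ≤ r := fun r hr => by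
    obtain ⟨h1, h2, -⟩ := Nat.mem_primeFactors.1 hr
    refine ⟨h1, ?_⟩
    rcases h1.eq_two_or_odd with rfl | h3
    · exact absurd (even_iff_two_dvd.2 h2) (Nat.not_even_iff_odd.2 hodd)
    · have := h1.two_le; omega
  obtain ⟨hp, hp3⟩ := hmem p (hpf ▸ by simp)
  obtain ⟨hq, hq3⟩ := hmem q (hpf ▸ by simp)
  have := Fact.mk hp
  have := Fact.mk hq
  have hcard : Nat.card G = p ^ (Nat.card G).factorization p * q ^ (Nat.card G).factorization q := by
    conv_lhs => rw [← Nat.prod_factorization_pow_eq_self (Nat.card_pos (α := G)).ne']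
    rw [Finsupp.prod, Nat.support_factorization, hpf, Finset.prod_pair hpq]
  exact Cfsg.Agent.PrimClass.exists_dvd_index hpq hp3 hq3 hcard χ.2
    (Cfsg.Agent.PrimClass.qp_of_primitive χ.2 hprim) _ (Cfsg.Agent.S0008.result (G := G)) hmeta

end Cfsg.Agent.S4993
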