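import Cfsg.Statements.S4996
import Cfsg.Agent.Char.Zero
-- import your own Cfsg.Agent.* helpers here

set_option autoImplicit false
open Cfsg

namespace Cfsg.Agent.S4996

/-- Let N be a normal subgroup of the finite group G and χ an irreducible complex character of G. Then the restriction of χ to N is not irreducible if and only if χ vanishes on some whole coset Nx of N in G. -/
theorem result {G : Type*} [Group G] [Finite G] (N : Subgroup G) [N.Normal] (χ : Cfsg.IrrCharacter G) : ¬ Cfsg.IsIrrCharacter ↥N (fun n : ↥N => (χ : G → ℂ) n) ↔ ∃ x : G, ∀ n : ↥N, (χ : G → ℂ) ((n : G) * x) = 0 := by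
  classical
  have := Fintype.ofFinite G
  have := Fintype.ofFinite N
  have hχ := Char.IsIrr.isCharacter χ.2
  have hψ := Char.isCharacter_mul hχ (Char.isCharacter_conj hχ)
  set ψ : G → ℂ := (χ : G → ℂ) * fun g => starRingEnd ℂ ((χ : G → ℂ) g) with hψdef
  set η : G → ℂ := fun g => (Nat.card N : ℂ)⁻¹ * ∑ n : N, ψ ((n : G) * g) with hη
  have hηc : Cfsg.IsCharacter G η := Char.isCharacter_avg N hψ
  have hηval : ∀ g, η g = (((Nat.card N : ℝ)⁻¹ *
      ∑ n : N, Complex.normSq ((χ : G → ℂ) ((n : G) * g)) : ℝ) : ℂ) := fun g => by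
    simp [hη, hψdef, Complex.mul_conj]
  have hη1 : η 1 = Cfsg.classInner (fun n : N => (χ : G → ℂ) n) (fun n : N => (χ : G → ℂ) n) := by
    simp [hη, hψdef, Cfsg.classInner]
  have hsum : ∑ g, η g = (Nat.card G : ℂ) := by
    have h : ∀ n : N, ∑ g, ψ ((n : G) * g) = Nat.card G := fun n => by
      rw [Fintype.sum_equiv (Equiv.mulLeft (n : G)) (fun g => ψ ((n : G) * g)) ψ fun g => rfl]
      have h1 := Char.classInner_irr_self χ.2
      rw [Cfsg.classInner, inv_mul_eq_one₀ Char.card_ne_zero] at h1
      exact h1.symm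
    simp only [hη, ← Finset.mul_sum]
    rw [Finset.sum_comm, Finset.sum_congr rfl fun n _ => h n, Finset.sum_const, Finset.card_univ,
      nsmul_eq_mul, ← Nat.card_eq_fintype_card, ← mul_assoc,
      inv_mul_cancel₀ (Nat.cast_ne_zero.2 Nat.card_pos.ne'), one_mul]
  have hres := Char.isCharacter_res N hχ
  rw [Char.isIrr_iff_norm_one hres, ← hη1]
  constructor
  · intro hne
    by_contra! hall
    have hpos : ∀ g, 0 < (η g).re := fun g => by
      obtain ⟨n, hn⟩ := hall g
      rw [hηval, Complex.ofReal_re]
      refine mul_pos (inv_pos.2 (Nat.cast_pos.2 Nat.card_pos)) (Finset.sum_pos' (fun n _ =>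
        Complex.normSq_nonneg _) ⟨n, Finset.mem_univ _, Complex.normSq_pos.2 hn⟩)
    set S := Finset.univ.filter fun g : G => g ∉ N with hS
    have hle := Char.card_le_sum_of_galois_closed hηc S (fun x hx k hk => by
      simp only [hS, Finset.mem_filter, Finset.mem_univ, true_and] at hx ⊢
      intro hm
      apply hx
      rw [← QuotientGroup.eq_one_iff, QuotientGroup.mk_pow] at hm
      rw [← QuotientGroup.eq_one_iff]
      refine (Nat.Coprime.pow_left_bijective (G := G ⧸ N) ?_).1 (hm.trans (one_pow k).symm)
      exact (hk.of_dvd_right (Subgroup.card_quotient_dvd_card N)).symm)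
      (fun x _ => ⟨by rw [hηval, Complex.ofReal_im], hpos x⟩)
    have hconst : ∀ n ∈ N, η n = η 1 := fun n hn => by
      simp only [hη, mul_one]
      congr 1
      exact Fintype.sum_equiv (Equiv.mulRight (⟨n, hn⟩ : N)) _ _ fun a => rfl
    obtain ⟨k, hk⟩ := Char.classInner_isCharacter_eq_natCast hres hres
    rw [← hη1] at hk
    have h2 : (2 : ℝ) ≤ (η 1).re := by
      rw [hk, Complex.natCast_re]
      have hk0 : k ≠ 0 := fun h0 => by
        have := hpos 1; rw [hk, h0] at this; simp at this
      have hk1 : k ≠ 1 := fun h1 => hne (by rw [hk, h1, Nat.cast_one])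
      exact_mod_cast (show 2 ≤ k by omega)
    have hs := congrArg Complex.re hsum
    rw [Complex.re_sum, ← Finset.sum_filter_add_sum_filter_not Finset.univ (fun g : G => g ∈ N),
      Finset.sum_congr rfl fun g hg => by rw [hconst g (Finset.mem_filter.1 hg).2],
      Finset.sum_const, nsmul_eq_mul, Complex.natCast_re] at hs
    have hcard : ((Finset.univ.filter fun g : G => g ∈ N).card : ℝ) + (S.card : ℝ) = Nat.card G := by
      rw [← Nat.cast_add, Finset.card_filter_add_card_filter_not, Finset.card_univ,
        Nat.card_eq_fintype_card]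
    have hN : (1 : ℝ) ≤ ((Finset.univ.filter fun g : G => g ∈ N).card : ℝ) := by
      exact_mod_cast Finset.card_pos.2 ⟨1, by simp⟩
    nlinarith
  · rintro ⟨x, hx⟩ hone
    have hxN : x ∉ N := fun h => Char.IsIrr.one_ne_zero χ.2 (by
      simpa using hx ⟨x⁻¹, N.inv_mem h⟩)
    -- the inner sums over the translates of `N` all equal one
    have hconstall : ∀ g, η g = 1 := by
      intro g
      obtain ⟨m, hm, he, -⟩ := Char.IsChar.exists_mult hηc
      have h1 : η 1 = 1 := hone
      have hkk : ∀ k : ℕ, Cfsg.classInner η (fun _ => 1) = k → k = 1 := by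
        intro k hk
        rw [Cfsg.classInner] at hk
        simp only [map_one, mul_one, hsum, inv_mul_cancel₀ Char.card_ne_zero] at hk
        exact_mod_cast hk.symm
      obtain ⟨k, hk⟩ := Char.classInner_isCharacter_eq_natCast hηc Char.isCharacter_one
      have hc : Cfsg.classInner η (fun _ => 1) ≠ 0 := by rw [hk, hkk k hk]; norm_num
      have hsub := Char.IsChar.sub_constituent hηc Char.isIrrCharacter_one hc
      have h0 : η - (fun _ => (1 : ℂ)) = 0 := (Char.IsChar.eq_zero_iff hsub).2 (by simp [h1])
      have := congrFun h0 g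
      simpa [sub_eq_zero] using this
    have := hconstall x
    rw [hηval, Finset.sum_eq_zero (fun n _ => by rw [hx n, map_zero]), mul_zero,
      Complex.ofReal_zero] at this
    exact zero_ne_one this

end Cfsg.Agent.S4996
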