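import Cfsg.Statements.S4997
import Cfsg.Agent.BlockChar.VanPSing.Main
-- import your own Cfsg.Agent.* helpers here

set_option autoImplicit false
open Cfsg

namespace Cfsg.Agent.S4997

/-- Let p be an odd prime and G a finite solvable group with exactly one conjugacy class consisting of vanishing elements (elements at which some irreducible complex character is zero) of order divisible by p. Let P be a Sylow p-subgroup of G. Then the order of P is at most p times the order of the largest normal p-subgroup of G. -/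
theorem result {G : Type*} [Group G] [Finite G] (hsolv : Group.IsSolvable G) (p : ℕ) [Fact p.Prime] (hp : p ≠ 2) (h1 : Set.ncard {C : ConjClasses G | (∀ g ∈ C.carrier, ∃ χ : Cfsg.IrrCharacter G, (χ : G → ℂ) g = 0) ∧ ∃ g ∈ C.carrier, p ∣ orderOf g} = 1) (P : Sylow p G) : Nat.card ↥(P : Subgroup G) ≤ p * Nat.card ↥(Cfsg.pCore p G) := by
  have := hsolv
  obtain ⟨C, hC⟩ := Set.ncard_eq_one.1 h1
  have hmem : ∀ g : G, Cfsg.Agent.VanPSing.Van g → p ∣ orderOf g → ConjClasses.mk g = C := by
    intro g hg hgp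
    refine Set.mem_singleton_iff.1 (hC ▸ (⟨fun h hh => ?_, g, ConjClasses.mem_carrier_mk, hgp⟩ :
      ConjClasses.mk g ∈ {C : ConjClasses G | (∀ g ∈ C.carrier,
        ∃ χ : Cfsg.IrrCharacter G, (χ : G → ℂ) g = 0) ∧ ∃ g ∈ C.carrier, p ∣ orderOf g}))
    obtain ⟨χ, hχ⟩ := hg
    obtain ⟨c, hc⟩ := isConj_iff.1 (ConjClasses.mk_eq_mk_iff_isConj.1
      (ConjClasses.mem_carrier_iff_mk_eq.1 hh).symm)
    refine ⟨χ, ?_⟩
    rw [← hc, Cfsg.Agent.Char.isClassFunction_of_isIrr χ.2 g c, hχ]
  have hdvd := Cfsg.Agent.VanPSing.card_map_dvd P fun g h hg hgp hh hhp => by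
    obtain ⟨c, hc⟩ := isConj_iff.1 (ConjClasses.mk_eq_mk_iff_isConj.1
      ((hmem g hg hgp).trans (hmem h hh hhp).symm))
    rw [← hc, ← MulAut.conj_apply, MulEquiv.orderOf_eq]
  let f : (P : Subgroup G) →* G ⧸ Cfsg.pCore p G :=
    (QuotientGroup.mk' (Cfsg.pCore p G)).comp (P : Subgroup G).subtype
  rw [Subgroup.card_eq_card_quotient_mul_card_subgroup f.ker,
    Nat.card_congr (QuotientGroup.quotientKerEquivRange f).toEquiv]
  refine Nat.mul_le_mul ?_ ?_
  · refine Nat.le_of_dvd (Fact.out : p.Prime).pos ?_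
    convert hdvd using 2
    rw [MonoidHom.range_comp, Subgroup.range_subtype]
  · exact Nat.card_le_card_of_injective
      (fun y => (⟨(y.1 : G), (QuotientGroup.eq_one_iff _).1 y.2⟩ : Cfsg.pCore p G))
      fun y y' e => Subtype.ext (Subtype.ext (congrArg Subtype.val e :))

end Cfsg.Agent.S4997
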