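import Mathlib
import Cfsg.Agent.BlockChar.Defect
import Cfsg.Agent.Char.Linear
import Cfsg.Agent.ProjExt.Det

set_option autoImplicit false
open Cfsg

namespace Cfsg.Agent.S5001

open Cfsg.Agent Cfsg.Agent.Char

theorem exists_pow_eq_self_of_coprime' {n m : ℕ} (h : n.Coprime m) :
    ∃ k : ℕ, ∀ u : ℂˣ, u ^ m = 1 → (u ^ n) ^ k = u := by
  rcases Nat.lt_or_ge 1 m with hm | hm
  · obtain ⟨k, -, hk⟩ := Nat.exists_mul_mod_eq_one_of_coprime h hm
    refine ⟨k, fun u hu => ?_⟩
    rw [← pow_mul, ← Nat.div_add_mod (n * k) m, hk, pow_add, pow_mul, hu, one_pow, one_mul, pow_one]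
  · interval_cases m
    · refine ⟨1, fun u _ => ?_⟩
      rw [Nat.coprime_zero_right] at h
      simp [h]
    · exact ⟨0, fun u hu => by simp [pow_one u ▸ hu]⟩

/-- Let p be a prime, G a finite group and B a p-block of G (relative to a maximal ideal M of the algebraic integers containing p) with defect group D. Let Z be a central p-subgroup of G contained in D and λ a linear character of Z (a homomorphism to the nonzero complex numbers). Say an irreducible character χ of G lies over λ when χ(z) = χ(1)λ(z) for all z ∈ Z. If some irreducible character in B lying over λ has height zero, then λ extends to a linear character of D. -/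
theorem result {G : Type*} [Group G] [Finite G] (p : ℕ) [Fact p.Prime] (M : Ideal Cfsg.AlgInt) (hM : Cfsg.IsPModular p M) (B : Set (Cfsg.IrrCharacter G)) (hB : Cfsg.IsPBlock M B) (D : Subgroup G) (hD : Cfsg.IsDefectGroup p M B D) (Z : Subgroup G) (hZc : Z ≤ Subgroup.center G) (hZp : IsPGroup p ↥Z) (hZD : Z ≤ D) (lam : ↥Z →* ℂˣ) (χ : Cfsg.IrrCharacter G) (hχ : χ ∈ B) (hover : (∀ z : ↥Z, (χ : G → ℂ) z = (χ : G → ℂ) 1 * (lam z : ℂ))) (h0 : Cfsg.blockHeight p B (χ : G → ℂ) = 0) : (∃ μ : ↥D →* ℂˣ, ∀ z : ↥Z, μ ⟨(z : G), hZD z.2⟩ = lam z) := by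
  classical
  have hp : Fact p.Prime := inferInstance
  have := Fintype.ofFinite G
  obtain ⟨g, hg, S, hDS⟩ := id hD
  -- the exponent of `p`
  have hcard := BlockChar.card_defectGroup hM hB hD
  have hcardS : Nat.card D = p ^ (Nat.card (Subgroup.centralizer ({g} : Set G))).factorization p := by
    rw [hDS, Subgroup.card_map_of_injective (Subgroup.subtype_injective _), S.card_eq_multiplicity]
  have hfac : (Nat.card (Subgroup.centralizer ({g} : Set G))).factorization p = blockDefect p B :=
    Nat.pow_right_injective hp.out.two_le (hcardS.symm.trans hcard)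
  obtain ⟨dχ, hd0, hdχ⟩ := IsIrr.degree χ.2
  have hcd : charDegree (χ : G → ℂ) = dχ := Blocks.charDegree_eq hdχ
  -- the value at the defect class is a unit
  have hgval : ¬ MemLocalIdeal M ((χ : G → ℂ) g) := by
    intro hI
    apply hg.2.2 χ hχ
    set c := (Subgroup.centralizer ({g} : Set G)).index with hc
    have hv : c.factorization p = dχ.factorization p := by
      have h1 := congrArg (fun n => n.factorization p)
        (Subgroup.card_mul_index (Subgroup.centralizer ({g} : Set G)))
      rw [Nat.factorization_mul Nat.card_pos.ne' Subgroup.index_ne_zero_of_finite] at h1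
      simp only [Finsupp.add_apply, hfac, BlockChar.blockDefect_eq] at h1
      rw [BlockChar.blockHeight_eq, hcd] at h0
      have h2 := BlockChar.minVal_le (p := p) hχ
      have h3 := BlockChar.degree_val_le (p := p) χ
      rw [hcd] at h2 h3
      rw [← hc] at h1
      omega
    have hd' := Nat.not_dvd_ordCompl hp.out hd0.ne'
    set u := dχ / p ^ dχ.factorization p with hu
    set w := c / p ^ c.factorization p with hw
    have e1 : p ^ dχ.factorization p * u = dχ := Nat.ordProj_mul_ordCompl_eq_self _ _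
    have e2 : p ^ c.factorization p * w = c := Nat.ordProj_mul_ordCompl_eq_self _ _
    have hcc : centralChar (χ : G → ℂ) g = (w : ℂ) * (u : ℂ)⁻¹ * (χ : G → ℂ) g := by
      rw [centralChar, hdχ, ← hc]
      conv_lhs => rw [← e1, ← e2, hv]
      push_cast
      have hu0 : (u : ℂ) ≠ 0 := Nat.cast_ne_zero.2 fun h => hd' (h ▸ dvd_zero p)
      have hp0 : (p : ℂ) ^ dχ.factorization p ≠ 0 := pow_ne_zero _ (Nat.cast_ne_zero.2 hp.out.ne_zero)
      field_simp
    rw [hcc]
    exact Blocks.memLocalIdeal_mul_left hM ((Blocks.localRing hM).mul_mem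
      (Blocks.memLocalRing_natCast hM _) (Blocks.memLocalRing_natCast_inv hM hd')) hI
  -- a constituent on `H` of degree prime to `p`
  let H := Subgroup.zpowers g ⊔ D
  let _ : Fintype H := Fintype.ofFinite _
  let gH : H := ⟨g, Subgroup.mem_sup_left (Subgroup.mem_zpowers g)⟩
  have hgc : Subgroup.centralizer ({gH} : Set H) = ⊤ := by
    rw [eq_top_iff]
    intro y _
    rw [Subgroup.mem_centralizer_singleton_iff]
    have hle : H ≤ Subgroup.centralizer ({g} : Set G) := by
      refine sup_le (Subgroup.zpowers_le.2 (Subgroup.mem_centralizer_singleton_iff.2 rfl)) ?_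
      rw [hDS]
      exact Subgroup.map_subtype_le _
    exact Subtype.ext (Subgroup.mem_centralizer_singleton_iff.1 (hle y.2))
  have hres := isCharacter_res H (IsIrr.isCharacter χ.2)
  obtain ⟨θ, dθ, hθd, hθp, hθne⟩ : ∃ (θ : IrrCharacter H) (d : ℕ), (θ : H → ℂ) 1 = d ∧ ¬ p ∣ d ∧
      classInner (fun h : H => (χ : G → ℂ) h) (θ : H → ℂ) ≠ 0 := by
    by_contra! hno
    apply hgval
    have h1 := congrFun (classFun_expansion (isClassFunction_of_isCharacter hres)) gH
    simp only [Finset.sum_apply, Pi.smul_apply, smul_eq_mul] at h1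
    show MemLocalIdeal M ((χ : G → ℂ) (gH : G))
    rw [h1]
    refine Blocks.memLocalIdeal_sum hM _ fun θ _ => ?_
    obtain ⟨d, hd0', hd⟩ := IsIrr.degree θ.2
    by_cases hz : classInner (fun h : H => (χ : G → ℂ) h) (θ : H → ℂ) = 0
    · rw [hz, zero_mul]; exact Blocks.memLocalIdeal_zero hM
    · have hpd : p ∣ d := by_contra fun h => hz (hno θ d hd h)
      obtain ⟨m, hm⟩ := classInner_isCharacter_eq_natCast hres (IsIrr.isCharacter θ.2)
      have hcc : (θ : H → ℂ) gH = (d : ℂ) * centralChar (θ : H → ℂ) gH := by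
        rw [centralChar, hgc, Subgroup.index_top, Nat.cast_one, one_mul, hd,
          mul_div_cancel₀ _ (Nat.cast_ne_zero.2 hd0'.ne')]
      rw [hm, hcc]
      exact Blocks.memLocalIdeal_mul_left hM (Blocks.memLocalRing_natCast hM _)
        (Blocks.memLocalIdeal_mul_right hM ((Blocks.memLocalIdeal_natCast_iff hM d).2 hpd)
          (Blocks.memLocalRing_centralChar hM θ.2 gH))
  -- it lies over `lam`
  let ιZ : Z →* H := Subgroup.inclusion (hZD.trans le_sup_right)
  let ιD : D →* H := Subgroup.inclusion le_sup_right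
  let _ : Fintype Z := Fintype.ofFinite _
  let ν : IrrCharacter Z := ⟨fun z => (lam z : ℂ), isIrrCharacter_hom lam⟩
  have hθZ : ∀ z : Z, (θ : H → ℂ) (ιZ z) = (dθ : ℂ) * (lam z : ℂ) := by
    have hcθ := isCharacter_comp ιZ (IsIrr.isCharacter θ.2)
    have hrest := isCharacter_comp ιZ (IsChar.sub_constituent hres θ.2 hθne)
    have hzero : ∀ ψ : IrrCharacter Z, ψ ≠ ν →
        classInner (fun z : Z => (θ : H → ℂ) (ιZ z)) (ψ : Z → ℂ) = 0 := by
      intro ψ hψ
      obtain ⟨a, ha⟩ := classInner_isCharacter_eq_natCast hcθ (IsIrr.isCharacter ψ.2)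
      obtain ⟨b, hb⟩ := classInner_isCharacter_eq_natCast hrest (IsIrr.isCharacter ψ.2)
      have hsum : (fun z : Z => (θ : H → ℂ) (ιZ z)) +
          (fun z : Z => ((fun h : H => (χ : G → ℂ) h) - (θ : H → ℂ)) (ιZ z)) =
          (χ : G → ℂ) 1 • (ν : Z → ℂ) := by
        funext z; simp [ν, ιZ, hover z]
      have h := congrArg (fun f => classInner f (ψ : Z → ℂ)) hsum
      simp only [classInner_add_left, classInner_smul_left, ha, hb,
        classInner_irr_ne ν.2 ψ.2 fun e => hψ (Subtype.ext e.symm), mul_zero] at h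
      rw [← Nat.cast_add, Nat.cast_eq_zero] at h
      rw [ha, Nat.cast_eq_zero]
      omega
    have hexp := classFun_expansion (isClassFunction_of_isCharacter hcθ)
    rw [Finset.sum_eq_single ν (fun ψ _ h => by rw [hzero ψ h, zero_smul])
      (fun h => absurd (Finset.mem_univ _) h)] at hexp
    intro z
    have h1 := congrFun hexp 1
    have h2 := congrFun hexp z
    simp only [Pi.smul_apply, smul_eq_mul, ν, map_one, Units.val_one, mul_one, hθd] at h1 h2
    rw [h2, ← h1]
  -- the determinant
  obtain ⟨f, hf⟩ := ProjExt.exists_detChar_hom (isCharacter_comp ιD (IsIrr.isCharacter θ.2))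
  have hfz : ∀ z : Z, f (Subgroup.inclusion hZD z) = lam z ^ dθ := by
    intro z
    let τ : Representation ℂ Z (Fin dθ → ℂ) :=
      ((algebraMap ℂ (Module.End ℂ (Fin dθ → ℂ))).toMonoidHom).comp ((Units.coeHom ℂ).comp lam)
    have hτz : ∀ z : Z, τ z = (lam z : ℂ) • (LinearMap.id : (Fin dθ → ℂ) →ₗ[ℂ] (Fin dθ → ℂ)) :=
      fun z => by
        rw [MonoidHom.comp_apply, MonoidHom.comp_apply, RingHom.toMonoidHom_eq_coe, MonoidHom.coe_coe,
          Units.coeHom_apply, Algebra.algebraMap_eq_smul_one]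
        rfl
    have hτ : τ.character = fun z : Z => (θ : H → ℂ) (ιD (Subgroup.inclusion hZD z)) := by
      funext z
      show LinearMap.trace ℂ _ (τ z) = (θ : H → ℂ) (ιZ z)
      rw [hτz]
      rw [hθZ, map_smul, LinearMap.trace_id, Module.finrank_fin_fun, smul_eq_mul, mul_comm]
    have h1 := congrFun (ProjExt.detChar_eq_det τ hτ) z
    rw [congrFun (ProjExt.detChar_comp (isCharacter_comp ιD (IsIrr.isCharacter θ.2))
      (Subgroup.inclusion hZD)) z, hf] at h1
    apply Units.ext
    rw [Units.val_pow_eq_pow_val]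
    refine h1.trans ?_
    rw [hτz]
    rw [LinearMap.det_smul, LinearMap.det_id, mul_one, Module.finrank_fin_fun]
  obtain ⟨n, hn⟩ := IsPGroup.iff_card.1 hZp
  obtain ⟨k, hk⟩ := exists_pow_eq_self_of_coprime' (n := dθ) (m := p ^ n)
    ((hp.out.coprime_iff_not_dvd.2 hθp).symm.pow_right n)
  refine ⟨f ^ k, fun z => ?_⟩
  rw [MonoidHom.pow_apply]
  show f (Subgroup.inclusion hZD z) ^ k = lam z
  rw [hfz, hk _ (by rw [← map_pow, ← hn, pow_card_eq_one', map_one])]

end Cfsg.Agent.S5001
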