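import Cfsg.Statements.S5006
import Mathlib
import Cfsg.Agent.BlockApp.SelfCentralPrime
import Cfsg.Agent.BlockApp.M24Cent
import Cfsg.Agent.BlockApp.M22Count
import Cfsg.Agent.S5005
import Cfsg.Agent.BlockChar.DefectCount
import Cfsg.Agent.BlockChar.DegreeSum
import Cfsg.Agent.CharArith.Central
import Cfsg.Agent.Char.Artin
import Cfsg.Agent.Char.Ortho
import Cfsg.Agent.Char.Integral

/-!
All irreducible characters of M24 lie in one 2-block.  Outside the principal block the degrees
are divisible by 128; the Sylow subgroups of order 11 and 23 leave five degrees.  Defect 3 needs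
too many characters, defect 2 meets a class on which a degree 3840 vanishes, and a character of
degree 1024 has a twin, so that its values at the elements of order 3, 5, 7 are bounded, while
the restriction to M22 has no trivial constituent.
-/

set_option autoImplicit false
open Cfsg

namespace Cfsg.Agent.S5006

open scoped ComplexConjugate
open Cfsg.Agent Cfsg.Agent.Blocks Cfsg.Agent.BlockApp

/-- the group -/
abbrev G := BlockApp.M24Cent.G

theorem card_G : Nat.card G = 244823040 := M24Cent.card_G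

theorem fac_two : (Nat.card G).factorization 2 = 10 := by
  rw [card_G, show (244823040 : ℕ) = 2 ^ 10 * 239085 by norm_num,
    Nat.factorization_mul (by norm_num) (by norm_num), Finsupp.add_apply,
    Nat.Prime.factorization_pow Nat.prime_two, Finsupp.single_eq_same,
    Nat.factorization_eq_zero_of_not_dvd (by norm_num)]

/-! ### The degrees -/

set_option synthInstance.maxSize 4000 in
theorem count_table : ∀ q ∈ ([11, 23] : List ℕ), ∀ e : ℕ, e < 23 → e ∣ q - 1 →
    (e * q) ∣ 244823040 → (244823040 / (e * q)) % q = 1 →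
      (q = 11 ∧ e = 10) ∨ (q = 23 ∧ e = 11) := by
  decide +kernel

theorem big_data {p : ℕ} [hp : Fact p.Prime] (h : p = 11 ∨ p = 23) (P : Sylow p G) :
    ∃ e, BlockThms.OrderP.Setup P e ∧ Nat.card (Subgroup.centralizer (P : Set G)) = p ∧
      ((p = 11 ∧ e = 10) ∨ (p = 23 ∧ e = 11)) := by
  classical
  have hcard : Nat.card (P : Subgroup G) = p := by
    rw [P.card_eq_multiplicity, M24Cent.fac_G (by omega), pow_one]
  obtain ⟨e, he⟩ : ∃ e, (Subgroup.centralizer (P : Set G)).relIndex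
      (Subgroup.normalizer (P : Set G)) = e := ⟨_, rfl⟩
  have hS : BlockThms.OrderP.Setup P e := ⟨hcard, he⟩
  have hC := M24Cent.card_centralizer_big h P hS
  have hN := hS.card_normalizer
  rw [hC] at hN
  have hidx := Sylow.card_eq_index_normalizer P
  have hmul := Subgroup.card_mul_index (Subgroup.normalizer ((P : Subgroup G) : Set G))
  rw [show (Subgroup.normalizer ((P : Subgroup G) : Set G)).index = Nat.card (Sylow p G) from
    hidx.symm, card_G, show Nat.card (Subgroup.normalizer ((P : Subgroup G) : Set G)) = e * p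
    from hN] at hmul
  refine ⟨e, hS, hC, ?_⟩
  have hle := Nat.le_of_dvd (by omega) hS.exists_y.1
  refine count_table p (by simp; omega) e (by omega) hS.exists_y.1 ⟨_, hmul.symm⟩ ?_
  rw [← hmul, Nat.mul_div_cancel_left _ (Nat.mul_pos hS.e_pos hp.out.pos)]
  have h1 := card_sylow_modEq_one p G
  rw [Nat.ModEq, Nat.one_mod_eq_one.2 hp.out.ne_one] at h1
  exact h1

theorem deg_sum_le (s : Finset (Cfsg.IrrCharacter G)) :
    ∑ χ ∈ s, Cfsg.charDegree (χ : G → ℂ) ^ 2 ≤ 244823040 := by
  classical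
  have h : ∑ χ : Cfsg.IrrCharacter G, Cfsg.charDegree (χ : G → ℂ) ^ 2 = 244823040 := by
    have h' := Char.sum_sq_degree (G := G)
    rw [card_G] at h'
    apply Nat.cast_injective (R := ℂ)
    rw [Nat.cast_sum, ← h']
    exact Finset.sum_congr rfl fun χ _ => by
      rw [Nat.cast_pow, charDegree_cast (Char.IsIrr.isCharacter χ.2)]
  exact le_of_le_of_eq (Finset.sum_le_univ_sum_of_nonneg fun _ => Nat.zero_le _) h

theorem deg_le (χ : Cfsg.IrrCharacter G) : Cfsg.charDegree (χ : G → ℂ) ≤ 15646 := by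
  have h := deg_sum_le {χ}
  rw [Finset.sum_singleton, sq] at h
  by_contra hlt
  have := Nat.mul_le_mul (show 15647 ≤ Cfsg.charDegree (χ : G → ℂ) by omega)
    (show 15647 ≤ Cfsg.charDegree (χ : G → ℂ) by omega)
  omega

set_option synthInstance.maxSize 4000 in
theorem deg_table : ∀ k : ℕ, k < 123 → (128 * k) ∣ 244823040 →
    ((128 * k) % 11 = 0 ∨ (128 * k) % 11 = 1 ∨ (128 * k) % 11 = 10) →
    ((128 * k) % 23 = 0 ∨ (128 * k) % 23 = 1 ∨ (128 * k) % 23 = 22 ∨ (128 * k) % 23 = 11 ∨
      (128 * k) % 23 = 12) → k = 8 ∨ k = 30 ∨ k = 69 ∨ k = 77 ∨ k = 99 := by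
  decide +kernel

set_option maxHeartbeats 800000 in
theorem deg_options (χ : Cfsg.IrrCharacter G) (h128 : 128 ∣ Cfsg.charDegree (χ : G → ℂ)) :
    Cfsg.charDegree (χ : G → ℂ) = 1024 ∨ Cfsg.charDegree (χ : G → ℂ) = 3840 ∨
      Cfsg.charDegree (χ : G → ℂ) = 8832 ∨ Cfsg.charDegree (χ : G → ℂ) = 9856 ∨
      Cfsg.charDegree (χ : G → ℂ) = 12672 := by
  classical
  have := Fintype.ofFinite G
  have : Fact (Nat.Prime 11) := ⟨by norm_num⟩
  have : Fact (Nat.Prime 23) := ⟨by norm_num⟩
  obtain ⟨e11, hS11, hC11, he11⟩ := big_data (p := 11) (by norm_num) default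
  obtain ⟨e23, hS23, hC23, he23⟩ := big_data (p := 23) (by norm_num) default
  have hdG : Cfsg.charDegree (χ : G → ℂ) ∣ 244823040 := card_G ▸ CharArith.charDegree_dvd_card χ.2
  have hd0 := deg_le χ
  obtain ⟨k, hk⟩ := h128
  have h11 := PrimeData.degree_cases hS11 hC11 χ
  have h23 := PrimeData.degree_cases hS23 hC23 χ
  obtain rfl : e11 = 10 := by omega
  obtain rfl : e23 = 11 := by omega
  rw [hk] at hdG hd0 h11 h23 ⊢
  simp only [Int.ModEq, Nat.dvd_iff_mod_eq_zero] at h11 h23
  have c11 : (128 * k) % 11 = 0 ∨ (128 * k) % 11 = 1 ∨ (128 * k) % 11 = 10 := by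
    clear hdG h23; omega
  have c23 : (128 * k) % 23 = 0 ∨ (128 * k) % 23 = 1 ∨ (128 * k) % 23 = 22 ∨ (128 * k) % 23 = 11 ∨
      (128 * k) % 23 = 12 := by
    clear hdG h11 c11; omega
  rcases deg_table k (by omega) hdG c11 c23 with rfl | rfl | rfl | rfl | rfl <;> norm_num

/-! ### Sums over subgroups -/

theorem exists_sum_hom [Fintype G] {H : Type} [Group H] [Fintype H] (f : H →* G) {χ : G → ℂ}
    (hχ : Cfsg.IsCharacter G χ) : ∃ m : ℕ, ∑ h : H, χ (f h) = (Nat.card H : ℂ) * m := by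
  obtain ⟨m, hm⟩ := Char.classInner_isCharacter_eq_natCast (Char.isCharacter_comp f hχ)
    (Char.isCharacter_one (G := H))
  rw [Cfsg.classInner, inv_mul_eq_iff_eq_mul₀ (Char.card_ne_zero (G := H))] at hm
  exact ⟨m, by rw [← hm]; simp⟩

/-- The sum over the nontrivial elements of a subgroup. -/
noncomputable def usum [Fintype G] (χ : G → ℂ) (K : Subgroup G) : ℂ :=
  open Classical in ∑ g ∈ Finset.univ.filter (fun g : G => g ∈ K ∧ g ≠ 1), χ g

theorem usum_eq [Fintype G] {χ : G → ℂ} (hχ : Cfsg.IsCharacter G χ) (K : Subgroup G) :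
    ∃ m : ℕ, usum χ K = (Nat.card K : ℂ) * m - χ 1 := by
  classical
  obtain ⟨m, hm⟩ := exists_sum_hom K.subtype hχ
  refine ⟨m, ?_⟩
  rw [← hm, usum]
  have e : (∑ h : K, χ (K.subtype h)) = ∑ g ∈ Finset.univ.filter (fun g : G => g ∈ K), χ g :=
    (Finset.sum_subtype (Finset.univ.filter fun g : G => g ∈ K) (fun g => by simp) χ).symm
  rw [e, show (Finset.univ.filter fun g : G => g ∈ K ∧ g ≠ 1) =
    (Finset.univ.filter fun g : G => g ∈ K).erase 1 by ext g; simp [and_comm],
    Finset.sum_erase_eq_sub (Finset.mem_filter.2 ⟨Finset.mem_univ _, one_mem K⟩)]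

theorem exists_conj_map {p : ℕ} [hp : Fact p.Prime] (hfac : (Nat.card G).factorization p = 1)
    {K L : Subgroup G} (hK : Nat.card K = p) (hL : Nat.card L = p) :
    ∃ k : G, ∀ g, g ∈ L ↔ k⁻¹ * g * k ∈ K := by
  obtain ⟨k, hk⟩ := MulAction.exists_smul_eq G (Sylow.ofCard K (by rw [hK, hfac, pow_one]))
    (Sylow.ofCard L (by rw [hL, hfac, pow_one]))
  refine ⟨k, fun g => ?_⟩
  have e := congrArg (fun S : Sylow p G => (S : Subgroup G)) hk
  simp only [Sylow.smul_def, Sylow.pointwise_smul_def, Sylow.coe_ofCard] at e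
  rw [← e, Subgroup.mem_pointwise_smul_iff_inv_smul_mem]
  simp [MulAut.smul_def, mul_assoc]

theorem usum_const [Fintype G] {p : ℕ} [Fact p.Prime] (hfac : (Nat.card G).factorization p = 1)
    {χ : G → ℂ} (hχ : Cfsg.IsClassFunction G χ) {K L : Subgroup G} (hK : Nat.card K = p)
    (hL : Nat.card L = p) : usum χ L = usum χ K := by
  classical
  obtain ⟨k, hk⟩ := exists_conj_map hfac hK hL
  refine Finset.sum_bij' (fun g _ => k⁻¹ * g * k) (fun g _ => k * g * k⁻¹)
    (fun g hg => ?_) (fun g hg => ?_) (fun g _ => by group) (fun g _ => by group) fun g _ => ?_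
  · obtain ⟨-, hgL, hg1⟩ := Finset.mem_filter.1 hg
    refine Finset.mem_filter.2 ⟨Finset.mem_univ _, (hk g).1 hgL, fun h => hg1 ?_⟩
    rw [mul_assoc, inv_mul_eq_one] at h
    exact mul_eq_right.1 h.symm
  · obtain ⟨-, hgK, hg1⟩ := Finset.mem_filter.1 hg
    refine Finset.mem_filter.2 ⟨Finset.mem_univ _, (hk _).2 (by
      rwa [show k⁻¹ * (k * g * k⁻¹) * k = g by group]), fun h => hg1 ?_⟩
    simpa using h
  · exact (Char.classFun_isConj hχ (isConj_iff.2 ⟨k⁻¹, by group⟩))

/-- A sum over the elements of order `p`, by the Sylow subgroups. -/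
theorem sum_orderOf {H : Type} [Group H] [Fintype H] {p : ℕ} [hp : Fact p.Prime]
    (hcard : ∀ Q : Sylow p H, Nat.card (Q : Subgroup H) = p) (f : H → ℂ) (c : ℂ)
    [DecidableEq H] [∀ Q : Sylow p H, DecidablePred (· ∈ (Q : Subgroup H))]
    (hc : ∀ Q : Sylow p H,
      ∑ g ∈ Finset.univ.filter (fun g : H => g ∈ (Q : Subgroup H) ∧ g ≠ 1), f g = c) :
    ∑ g ∈ Finset.univ.filter (fun g : H => orderOf g = p), f g =
      (Nat.card (Sylow p H) : ℂ) * c := by
  classical
  have := Fintype.ofFinite (Sylow p H)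
  have hone : ∀ g : H, orderOf g = p →
      (Finset.univ.filter fun Q : Sylow p H => g ∈ (Q : Subgroup H) ∧ g ≠ 1).card = 1 := by
    intro g hg
    obtain ⟨Q, hQ⟩ := (IsPGroup.of_card (p := p) (n := 1)
      (by rw [Nat.card_zpowers, hg, pow_one]) :
      IsPGroup p (Subgroup.zpowers g)).exists_le_sylow
    refine Finset.card_eq_one.2 ⟨Q, Finset.eq_singleton_iff_unique_mem.2
      ⟨Finset.mem_filter.2 ⟨Finset.mem_univ _, hQ (Subgroup.mem_zpowers g),
        fun h => hp.out.ne_one (by rw [← hg, h, orderOf_one])⟩, fun R hR => ?_⟩⟩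
    have e : ∀ S : Sylow p H, g ∈ (S : Subgroup H) → Subgroup.zpowers g = (S : Subgroup H) :=
      fun S hS => Subgroup.eq_of_le_of_card_ge (Subgroup.zpowers_le.2 hS)
        (by rw [hcard S, Nat.card_zpowers, hg])
    exact Sylow.ext ((e R (Finset.mem_filter.1 hR).2.1).symm.trans (e Q (hQ (Subgroup.mem_zpowers g))))
  have hord : ∀ (Q : Sylow p H) (g : H), g ∈ (Q : Subgroup H) → g ≠ 1 → orderOf g = p := by
    intro Q g hg hg1
    have h1 : orderOf g ∣ p := hcard Q ▸ Subgroup.orderOf_dvd_natCard _ hg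
    exact ((Nat.dvd_prime hp.out).1 h1).resolve_left fun h => hg1 (orderOf_eq_one_iff.1 h)
  have hswap : ∑ Q : Sylow p H,
      ∑ g ∈ Finset.univ.filter (fun g : H => g ∈ (Q : Subgroup H) ∧ g ≠ 1), f g =
      ∑ g ∈ Finset.univ.filter (fun g : H => orderOf g = p),
        ∑ _Q ∈ Finset.univ.filter (fun Q : Sylow p H => g ∈ (Q : Subgroup H) ∧ g ≠ 1), f g := by
    refine Finset.sum_comm' fun Q g => ?_
    simp only [Finset.mem_univ, Finset.mem_filter, true_and]
    exact ⟨fun h => ⟨h, hord Q g h.1 h.2⟩, fun h => h.1⟩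
  rw [Finset.sum_congr rfl (fun Q _ => hc Q), Finset.sum_const, Finset.card_univ, nsmul_eq_mul,
    ← Nat.card_eq_fintype_card] at hswap
  rw [hswap]
  refine Finset.sum_congr rfl fun g hg => ?_
  rw [Finset.sum_const, hone g (Finset.mem_filter.1 hg).2, one_smul]

/-! ### Commuting involutions -/

theorem exists_inv (j : ℕ) (hj : j < 2) : ∃ t : G, orderOf t = 2 ∧
    (M24Cent.fxg t).card = if j = 0 then 8 else 0 := by
  have hl : j < Compute.syl2Reps.length := by simpa [Compute.syl2Reps] using hj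
  have hh := Compute.classReps_facts.1
  rw [List.all_append, Bool.and_eq_true, List.all_eq_true, List.all_eq_true] at hh
  have hmem := (Compute.mem_M24_of_check (hh.1 _ (List.getElem_mem hl))).2
  rw [← List.getD_eq_getElem _ Compute.rep24.one hl] at hmem
  have hord : orderOf (Compute.rep24.den (Compute.syl2Reps.getD j Compute.rep24.one)) = 2 := by
    have h := List.all_eq_true.mp Compute.classReps_facts.2.1 _ (List.getElem_mem hl)
    rw [← List.getD_eq_getElem _ Compute.rep24.one hl, Bool.and_eq_true, Bool.not_eq_true',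
      Bool.eq_false_iff] at h
    have hok := (Compute.rep_ok j).1
    obtain ⟨hokp, hdenp⟩ := Compute.rep24.powCode_spec hok 2
    have := Fact.mk Nat.prime_two
    exact orderOf_eq_prime (hdenp ▸ (Compute.idB_iff hokp).mp h.2)
      fun e => h.1 ((Compute.idB_iff hok).mpr e)
  refine ⟨⟨_, hmem⟩, by rw [← Subgroup.orderOf_coe]; exact hord, ?_⟩
  rcases (by omega : j = 0 ∨ j = 1) with rfl | rfl
  · rw [if_pos rfl]
    show (Finset.univ.filter fun p => _ = p).card = 8
    rw [Compute.fixFilter_rep (Compute.rep_ok 0).1, Compute.card_suppM]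
    have h := Compute.fixMask_facts.1
    rw [Bool.and_eq_true, Nat.beq_eq] at h
    exact h.1
  · rw [if_neg (by norm_num)]
    exact Compute.card_fixFilter_zero (Compute.fixFilter_zero (Compute.rep_ok 1).1
      Compute.fixMask_facts.2.1)

/-- Every element of order 5 or 7 commutes with an involution. -/
theorem exists_commuting_inv (x : G) {p : ℕ} (hp : p = 5 ∨ p = 7) (hx : orderOf x = p) :
    ∃ t : G, orderOf t = 2 ∧ Commute x t := by
  have : Fact p.Prime := ⟨by rcases hp with rfl | rfl <;> norm_num⟩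
  obtain ⟨t, ht, htd⟩ : ∃ t : G, orderOf t = 2 ∧
      p ∣ Nat.card (Subgroup.centralizer ({t} : Set G)) := by
    rcases hp with rfl | rfl
    · obtain ⟨t, ht, hf⟩ := exists_inv 1 (by norm_num)
      rw [if_neg (by norm_num)] at hf
      rcases M24Cent.card_centralizer_inv t ht with ⟨h, -⟩ | ⟨-, h⟩
      · omega
      · exact ⟨t, ht, by rw [h]; norm_num⟩
    · obtain ⟨t, ht, hf⟩ := exists_inv 0 (by norm_num)
      rw [if_pos rfl] at hf
      rcases M24Cent.card_centralizer_inv t ht with ⟨-, h⟩ | ⟨h, -⟩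
      · exact ⟨t, ht, by rw [h]; norm_num⟩
      · omega
  obtain ⟨z, hz⟩ := exists_prime_orderOf_dvd_card' p htd
  have hzo : orderOf (z : G) = p := by rw [Subgroup.orderOf_coe, hz]
  obtain ⟨k, hk⟩ := exists_conj_map (p := p) (M24Cent.fac_G (by omega))
    (K := Subgroup.zpowers (z : G)) (L := Subgroup.zpowers x)
    (by rw [Nat.card_zpowers, hzo]) (by rw [Nat.card_zpowers, hx])
  obtain ⟨i, hi⟩ := Subgroup.mem_zpowers_iff.1 ((hk x).1 (Subgroup.mem_zpowers x))
  refine ⟨k * t * k⁻¹, ?_, ?_⟩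
  · rw [← ht]
    exact orderOf_injective (MulAut.conj k).toMonoidHom (MulAut.conj k).injective t
  · have hc : Commute ((z : G) ^ i) t :=
      Commute.zpow_left (show Commute (z : G) t from
        Subgroup.mem_centralizer_singleton_iff.1 z.2) i
    rw [show x = k * ((z : G) ^ i) * k⁻¹ by rw [hi]; group]
    exact (hc.map (MulAut.conj k).toMonoidHom)

/-! ### A character of degree 1024 -/

/-- the inclusion of M22 -/
def iota : ↥Cfsg.Spor.M22 →* G := Subgroup.inclusion fun _ h => h.1.1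

theorem iota_injective : Function.Injective iota := Subgroup.inclusion_injective _

theorem restriction_sum [Fintype G] [Fintype ↥Cfsg.Spor.M22] (θ : Cfsg.IrrCharacter G)
    (hd : Cfsg.charDegree (θ : G → ℂ) = 1024) :
    ∑ h : ↥Cfsg.Spor.M22, (θ : G → ℂ) (iota h) = 0 := by
  classical
  obtain ⟨n, ρ, hρ, hθ⟩ := θ.2
  by_contra hne
  let P : Module.End ℂ (Fin n → ℂ) := ∑ h : ↥Cfsg.Spor.M22, ρ (iota h)
  have htr : LinearMap.trace ℂ _ P = ∑ h : ↥Cfsg.Spor.M22, (θ : G → ℂ) (iota h) := by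
    rw [map_sum, ← hθ]; rfl
  have hP : P ≠ 0 := fun h => hne (by rw [← htr, h, map_zero])
  obtain ⟨w, hw⟩ : ∃ w, P w ≠ 0 := by
    by_contra h
    push Not at h
    exact hP (LinearMap.ext h)
  have hfix : ∀ k, ρ (iota k) (P w) = P w := by
    intro k
    have e : ρ (iota k) * P = P := by
      simp only [P, Finset.mul_sum, ← map_mul]
      exact Equiv.sum_comp (Equiv.mulLeft k) (fun h => ρ (iota h))
    exact LinearMap.congr_fun e w
  let H := iota.range
  let F : G ⧸ H → (Fin n → ℂ) := Quotient.lift (fun g => ρ g (P w)) (by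
    intro a b hab
    obtain ⟨k, hk⟩ := QuotientGroup.leftRel_apply.1 hab
    rw [show b = a * iota k by rw [hk]; group, map_mul, Module.End.mul_apply, hfix])
  have hinv : ∀ g : G, ∀ x ∈ Submodule.span ℂ (Set.range F),
      ρ g x ∈ Submodule.span ℂ (Set.range F) := by
    intro g x hx
    have h1 := Submodule.mem_map_of_mem (f := ρ g) hx
    rw [Submodule.map_span] at h1
    refine Submodule.span_mono ?_ h1
    rintro _ ⟨_, ⟨q, rfl⟩, rfl⟩
    obtain ⟨a, rfl⟩ := QuotientGroup.mk_surjective q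
    exact ⟨QuotientGroup.mk (g * a), show ρ (g * a) (P w) = ρ g (ρ a (P w)) by
      rw [map_mul, Module.End.mul_apply]⟩
  rcases (Char.isIrreducible_iff.1 hρ).2 _ hinv with h | h
  · have hmem : P w ∈ Submodule.span ℂ (Set.range F) :=
      Submodule.subset_span ⟨QuotientGroup.mk 1, show ρ 1 (P w) = P w by simp⟩
    rw [h, Submodule.mem_bot] at hmem
    exact hw hmem
  · have := Fintype.ofFinite (G ⧸ H)
    have hle := finrank_range_le_card (R := ℂ) F
    rw [Set.finrank, h, finrank_top] at hle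
    have hn : Module.finrank ℂ (Fin n → ℂ) = 1024 := by
      rw [← hd]
      symm
      exact charDegree_eq (by rw [← hθ]; exact ρ.char_one)
    have hidx : Fintype.card (G ⧸ H) = 552 := by
      have h1 := H.card_mul_index
      rw [show Nat.card H = 443520 by
        rw [← S5005.card_G]
        exact (Nat.card_congr (MonoidHom.ofInjective iota_injective).toEquiv).symm, card_G] at h1
      rw [← Nat.card_eq_fintype_card, ← Subgroup.index]
      omega
    omega

theorem vanish [Fintype G] (θ : Cfsg.IrrCharacter G) (hd : Cfsg.charDegree (θ : G → ℂ) = 1024)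
    (g : G) (hg : 2 ∣ orderOf g) : (θ : G → ℂ) g = 0 :=
  Char.defect_zero θ.2 Nat.prime_two (n := 10) (by rw [card_G]; norm_num)
    (by rw [card_G]; norm_num) (charDegree_cast (Char.IsIrr.isCharacter θ.2)).symm
    (by rw [hd]; norm_num) g hg

theorem div_integral [Fintype G] (θ : Cfsg.IrrCharacter G)
    (hd : Cfsg.charDegree (θ : G → ℂ) = 1024) (x : G) (hx : ¬ 2 ∣ orderOf x) (D : Subgroup G)
    (hD : IsPGroup 2 D) (hc : ∀ u ∈ D, Commute x u) :
    IsIntegral ℤ ((θ : G → ℂ) x / (Nat.card D : ℂ)) := by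
  classical
  have := Fintype.ofFinite D
  have := Fact.mk Nat.prime_two
  have h := BlockChar.isIntegral_mean_centralized (Char.IsIrr.isCharacter θ.2) x D hc
  rw [Finset.sum_eq_single (1 : D)] at h
  · rwa [Subgroup.coe_one, mul_one, inv_mul_eq_div] at h
  · intro u _ hu
    refine vanish θ hd _ ?_
    obtain ⟨k, hk⟩ := IsPGroup.iff_orderOf.1 hD u
    have hk0 : k ≠ 0 := fun h => hu (orderOf_eq_one_iff.1 (by rw [hk, h, pow_zero]))
    have hk' : orderOf (u : G) = 2 ^ k := by rw [Subgroup.orderOf_coe, hk]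
    rw [(hc u u.2).orderOf_mul_eq_mul_orderOf_of_coprime (by
      rw [hk']; exact ((Nat.prime_two.coprime_iff_not_dvd.2 hx).pow_left k).symm), hk']
    exact Dvd.dvd.mul_left (dvd_pow_self 2 hk0) _
  · simp

theorem twin [Fintype G] (θ : Cfsg.IrrCharacter G) (hd : Cfsg.charDegree (θ : G → ℂ) = 1024) :
    ∃ θ' : Cfsg.IrrCharacter G, θ' ≠ θ ∧ Cfsg.charDegree (θ' : G → ℂ) = 1024 ∧
      ∀ g, ¬ 23 ∣ orderOf g → (θ' : G → ℂ) g = (θ : G → ℂ) g := by
  classical
  have : Fact (Nat.Prime 23) := ⟨by norm_num⟩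
  obtain ⟨e, hS, hC, he⟩ := big_data (p := 23) (by norm_num) default
  obtain rfl : e = 11 := by omega
  obtain ⟨N, hN⟩ := exists_isPModular 23 (by norm_num)
  obtain ⟨X, Y, a, s, -, -, hYc, hmem, -, hX, -, hYY, -⟩ := hS.principal_structure hN
  have hY : θ ∈ Y := by
    refine ((hmem θ).1 ?_).resolve_left fun h => ?_
    · by_contra h
      have := PrimeData.dvd_of_notMem hS hC hN h
      rw [hd] at this
      norm_num at this
    · obtain ⟨ha, hm, -⟩ := hX θ h
      rw [hd] at hm
      rcases ha with ha | ha <;> rw [ha] at hm <;> exact absurd hm (by decide)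
  obtain ⟨θ', hθ', hne⟩ := Finset.exists_mem_ne (show 1 < Y.card by rw [hYc]; norm_num) θ
  refine ⟨θ', hne, ?_, fun g hg => hYY θ' hθ' θ hY g hg⟩
  rw [← hd]
  refine charDegree_eq ?_
  rw [hYY θ' hθ' θ hY 1 (by simp), charDegree_cast (Char.IsIrr.isCharacter θ.2)]

theorem twin_bound [Fintype G] (θ : Cfsg.IrrCharacter G)
    (hd : Cfsg.charDegree (θ : G → ℂ) = 1024) (g : G) (hg : ¬ 23 ∣ orderOf g) :
    2 * Complex.normSq ((θ : G → ℂ) g) ≤ Nat.card (Subgroup.centralizer ({g} : Set G)) := by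
  classical
  obtain ⟨θ', hne, -, heq⟩ := twin θ hd
  have h := Char.second_orthogonality g g
  rw [if_pos (IsConj.refl g)] at h
  have h' : ∑ χ : Cfsg.IrrCharacter G, Complex.normSq ((χ : G → ℂ) g) =
      (Nat.card (Subgroup.centralizer ({g} : Set G)) : ℝ) := by
    apply Complex.ofReal_injective
    push_cast
    rw [← h]
    exact Finset.sum_congr rfl fun χ _ => (Complex.mul_conj _).symm
  rw [← h']
  calc 2 * Complex.normSq ((θ : G → ℂ) g)
      = ∑ χ ∈ ({θ, θ'} : Finset (Cfsg.IrrCharacter G)), Complex.normSq ((χ : G → ℂ) g) := by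
        rw [Finset.sum_pair hne.symm, heq g hg]; ring
    _ ≤ _ := Finset.sum_le_univ_sum_of_nonneg fun χ => Complex.normSq_nonneg _

theorem eleven_value [Fintype G] (θ : Cfsg.IrrCharacter G)
    (hd : Cfsg.charDegree (θ : G → ℂ) = 1024) (g : G) (hg : orderOf g = 11) :
    (θ : G → ℂ) g = 1 := by
  classical
  have : Fact (Nat.Prime 11) := ⟨by norm_num⟩
  obtain ⟨θ', hne, hd', heq⟩ := twin θ hd
  obtain ⟨Q, hQ⟩ := (IsPGroup.of_card (p := 11) (n := 1)
    (by rw [Nat.card_zpowers, hg, pow_one]) :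
    IsPGroup 11 (Subgroup.zpowers g)).exists_le_sylow
  obtain ⟨e, hS, hC, he⟩ := big_data (p := 11) (by norm_num) Q
  obtain rfl : e = 10 := by omega
  obtain ⟨N, hN⟩ := exists_isPModular 11 (by norm_num)
  obtain ⟨X, Y, a, s, -, -, hYc, hmem, -, hX, -, -, -⟩ := hS.principal_structure hN
  have hg1 : g ≠ 1 := fun h => by rw [h, orderOf_one] at hg; omega
  have hin : ∀ ψ : Cfsg.IrrCharacter G, Cfsg.charDegree (ψ : G → ℂ) = 1024 → ψ ∈ X →
      (ψ : G → ℂ) g = 1 := by
    intro ψ hψ hψX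
    obtain ⟨ha, hm, hval⟩ := hX ψ hψX
    have h1 := hval g (hQ (Subgroup.mem_zpowers g)) hg1 1 (one_mem _)
      (by rw [orderOf_one]; norm_num)
    rw [mul_one] at h1
    rw [hψ] at hm
    rcases ha with ha | ha <;> rw [ha] at hm h1
    · simpa using h1
    · exact absurd hm (by decide)
  have hpr : ∀ ψ : Cfsg.IrrCharacter G, Cfsg.charDegree (ψ : G → ℂ) = 1024 → ψ ∈ X ∨ ψ ∈ Y := by
    intro ψ hψ
    refine (hmem ψ).1 (by_contra fun h => ?_)
    have := PrimeData.dvd_of_notMem hS hC hN h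
    rw [hψ] at this
    norm_num at this
  rcases hpr θ hd with h | h
  · exact hin θ hd h
  rcases hpr θ' hd' with h' | h'
  · rw [← heq g (by rw [hg]; norm_num)]
    exact hin θ' hd' h'
  · exact absurd (Finset.card_le_one.1 (le_of_eq (hYc.trans (by norm_num))) _ h' _ h) hne

theorem rat_integral {z : ℂ} {a : ℤ} {b : ℕ} (hb : b ≠ 0) (hz : IsIntegral ℤ z)
    (h : (b : ℂ) * z = (a : ℂ)) : (b : ℤ) ∣ a := by
  have hb' : (b : ℂ) ≠ 0 := Nat.cast_ne_zero.2 hb
  obtain ⟨k, hk⟩ := Char.exists_int_of_isIntegral_rat (q := (a : ℚ) / (b : ℚ)) (by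
    push_cast
    rwa [← h, mul_div_cancel_left₀ _ hb'])
  refine ⟨k, ?_⟩
  have : (a : ℚ) = (b : ℚ) * k := by rw [hk, mul_div_cancel₀ _ (Nat.cast_ne_zero.2 hb)]
  exact_mod_cast this

/-- The sum over a subgroup of order 5 or 7: an even integer within the bound. -/
theorem usum_small [Fintype G] (θ : Cfsg.IrrCharacter G)
    (hd : Cfsg.charDegree (θ : G → ℂ) = 1024) {p : ℕ} (hp : p = 5 ∨ p = 7) (K : Subgroup G)
    (hK : Nat.card K = p) :
    ∃ U : ℤ, usum (θ : G → ℂ) K = U ∧ 2 ∣ U ∧ (p = 5 → U.natAbs ≤ 22) ∧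
      (p = 7 → U.natAbs ≤ 27) := by
  classical
  have hpp : p.Prime := by rcases hp with rfl | rfl <;> norm_num
  have hχ := Char.IsIrr.isCharacter θ.2
  obtain ⟨m, hm⟩ := usum_eq hχ K
  rw [hK, ← charDegree_cast hχ, hd] at hm
  refine ⟨(p : ℤ) * m - 1024, by rw [hm]; push_cast; ring, ?_, ?_⟩
  · have hint : IsIntegral ℤ (∑ g ∈ Finset.univ.filter (fun g : G => g ∈ K ∧ g ≠ 1),
        (θ : G → ℂ) g / 2) := by
      refine IsIntegral.sum _ fun g hg => ?_
      obtain ⟨-, hgK, hg1⟩ := Finset.mem_filter.1 hg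
      have hgo : orderOf g = p :=
        ((Nat.dvd_prime hpp).1 (hK ▸ Subgroup.orderOf_dvd_natCard _ hgK)).resolve_left
          fun h => hg1 (orderOf_eq_one_iff.1 h)
      obtain ⟨t, ht, htc⟩ := exists_commuting_inv g hp hgo
      have h2 := div_integral θ hd g (by rw [hgo]; rcases hp with rfl | rfl <;> norm_num)
        (Subgroup.zpowers t) (IsPGroup.of_card (n := 1) (by rw [Nat.card_zpowers, ht, pow_one]))
        (fun u hu => by obtain ⟨i, rfl⟩ := hu; exact htc.zpow_right i)
      rw [Nat.card_zpowers, ht] at h2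
      simpa using h2
    refine rat_integral (z := usum (θ : G → ℂ) K / 2) two_ne_zero
      (by rw [usum, Finset.sum_div]; exact hint) ?_
    rw [hm]; push_cast; ring
  have hcard : (Finset.univ.filter fun g : G => g ∈ K ∧ g ≠ 1).card = p - 1 := by
    rw [show (Finset.univ.filter fun g : G => g ∈ K ∧ g ≠ 1) =
      (Finset.univ.filter fun g : G => g ∈ K).erase 1 by ext g; simp [and_comm],
      Finset.card_erase_of_mem (Finset.mem_filter.2 ⟨Finset.mem_univ _, one_mem K⟩),
      ← Fintype.card_subtype, ← Nat.card_eq_fintype_card, ← hK]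
  have hre : (((p : ℤ) * m - 1024 : ℤ) : ℝ) =
      ∑ g ∈ Finset.univ.filter (fun g : G => g ∈ K ∧ g ≠ 1), ((θ : G → ℂ) g).re := by
    rw [← Complex.re_sum, show (∑ g ∈ Finset.univ.filter (fun g : G => g ∈ K ∧ g ≠ 1),
      (θ : G → ℂ) g) = usum (θ : G → ℂ) K from rfl, hm]
    simp
  have hb : ∀ g ∈ Finset.univ.filter (fun g : G => g ∈ K ∧ g ≠ 1),
      |((θ : G → ℂ) g).re| ≤ if p = 5 then (11 / 2 : ℝ) else 23 / 5 := by
    intro g hg
    obtain ⟨-, hgK, hg1⟩ := Finset.mem_filter.1 hg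
    have hgo : orderOf g = p :=
      ((Nat.dvd_prime hpp).1 (hK ▸ Subgroup.orderOf_dvd_natCard _ hgK)).resolve_left
        fun h => hg1 (orderOf_eq_one_iff.1 h)
    have h1 := twin_bound θ hd g (by rw [hgo]; rcases hp with rfl | rfl <;> norm_num)
    have h2 : ((θ : G → ℂ) g).re ^ 2 ≤ Complex.normSq ((θ : G → ℂ) g) := by
      rw [Complex.normSq_apply, sq]; nlinarith [mul_self_nonneg ((θ : G → ℂ) g).im]
    rcases hp with rfl | rfl
    · have h3 : (Nat.card (Subgroup.centralizer ({g} : Set G)) : ℝ) ≤ 60 := by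
        exact_mod_cast (M24Cent.five_bound g hgo).2
      rw [if_pos rfl, abs_le]
      constructor <;> nlinarith
    · have h3 : (Nat.card (Subgroup.centralizer ({g} : Set G)) : ℝ) ≤ 42 := by
        exact_mod_cast (M24Cent.seven_bound g hgo).2
      rw [if_neg (by norm_num), abs_le]
      constructor <;> nlinarith
  have habs := (Finset.abs_sum_le_sum_abs _ _).trans (Finset.sum_le_sum hb)
  rw [Finset.sum_const, hcard, nsmul_eq_mul, ← hre, abs_le] at habs
  rcases hp with rfl | rfl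
  · refine ⟨fun _ => ?_, fun h => absurd h (by norm_num)⟩
    rw [if_pos rfl] at habs
    norm_num at habs
    have h1 : ((-22 : ℤ) : ℝ) ≤ (((5 : ℤ) * m - 1024 : ℤ) : ℝ) := by push_cast; linarith [habs.1]
    have h2 : (((5 : ℤ) * m - 1024 : ℤ) : ℝ) ≤ ((22 : ℤ) : ℝ) := by push_cast; linarith [habs.2]
    rw [Int.cast_le] at h1 h2
    omega
  · refine ⟨fun h => absurd h (by norm_num), fun _ => ?_⟩
    rw [if_neg (by norm_num)] at habs
    norm_num at habs
    have h1 : (((-28 : ℤ)) : ℝ) < (((7 : ℤ) * m - 1024 : ℤ) : ℝ) := by push_cast; linarith [habs.1]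
    have h2 : (((7 : ℤ) * m - 1024 : ℤ) : ℝ) < ((28 : ℤ) : ℝ) := by push_cast; linarith [habs.2]
    rw [Int.cast_lt] at h1 h2
    omega

theorem three_value [Fintype G] (θ : Cfsg.IrrCharacter G)
    (hd : Cfsg.charDegree (θ : G → ℂ) = 1024) :
    ∀ h : ↥Cfsg.Spor.M22, orderOf h = 3 → (θ : G → ℂ) (iota h) = 16 := by
  classical
  have := Fintype.ofFinite ↥Cfsg.Spor.M22
  have h3 : Fact (Nat.Prime 3) := ⟨Nat.prime_three⟩
  have := Fact.mk Nat.prime_two
  intro y hy
  have hfix : ∀ z : ↥Cfsg.Spor.M22, orderOf z = 3 → (M24Cent.fxg (iota z)).card = 6 := fun z hz =>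
    (by simpa using S5005.fix_count z Nat.prime_three hz :
      (MathieuCommute.fx (z : Equiv.Perm GolayPt)).card = 6)
  have hio : ∀ z : ↥Cfsg.Spor.M22, orderOf (iota z) = orderOf z := fun z =>
    orderOf_injective iota iota_injective z
  have hconst : ∀ z : ↥Cfsg.Spor.M22, orderOf z = 3 →
      (θ : G → ℂ) (iota z) = (θ : G → ℂ) (iota y) := by
    intro z hz
    refine Char.classFun_isConj (Char.isClassFunction_of_isIrr θ.2) ?_
    rcases Compute.three_cases (iota z).2 (by rw [Subgroup.orderOf_coe, hio, hz]) with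
      ⟨-, k, hk, e⟩ | ⟨a, -⟩
    · rcases Compute.three_cases (iota y).2 (by rw [Subgroup.orderOf_coe, hio, hy]) with
        ⟨-, l, hl, e'⟩ | ⟨a, -⟩
      · refine isConj_iff.2 ⟨(⟨l, hl⟩ : G)⁻¹ * ⟨k, hk⟩, Subtype.ext ?_⟩
        simp only [Subgroup.coe_mul, Subgroup.coe_inv, mul_inv_rev, inv_inv]
        calc l⁻¹ * k * ((iota z : G) : Equiv.Perm GolayPt) * (k⁻¹ * l)
            = l⁻¹ * (k * ((iota z : G) : Equiv.Perm GolayPt) * k⁻¹) * l := by group
          _ = _ := by rw [e, ← e']; group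
      · exact absurd (hfix y hy) (by
          rw [show (M24Cent.fxg (iota y)).card = 0 from Compute.card_fixFilter_zero a]; norm_num)
    · exact absurd (hfix z hz) (by
        rw [show (M24Cent.fxg (iota z)).card = 0 from Compute.card_fixFilter_zero a]; norm_num)
  -- the subgroups of order nine
  let Q : Sylow 3 ↥Cfsg.Spor.M22 := default
  have hQ : Nat.card (Q : Subgroup ↥Cfsg.Spor.M22) = 9 := by
    rw [Q.card_eq_multiplicity, S5005.card_G, show (443520 : ℕ) = 3 ^ 2 * 49280 by norm_num,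
      Nat.factorization_mul (by norm_num) (by norm_num), Finsupp.add_apply,
      Nat.prime_three.factorization_pow, Finsupp.single_eq_same,
      Nat.factorization_eq_zero_of_not_dvd (by norm_num)]
    norm_num
  obtain ⟨m, hm⟩ := exists_sum_hom (iota.comp (Q : Subgroup ↥Cfsg.Spor.M22).subtype)
    (Char.IsIrr.isCharacter θ.2)
  have hterm : ∀ u : (Q : Subgroup ↥Cfsg.Spor.M22), u ≠ 1 →
      (θ : G → ℂ) (iota (u : ↥Cfsg.Spor.M22)) = (θ : G → ℂ) (iota y) := by
    intro u hu
    refine hconst _ ?_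
    obtain ⟨k, hk⟩ := IsPGroup.iff_orderOf.1 Q.isPGroup' u
    have hu3 := M24Certs.pow_three_eq_one (u : ↥Cfsg.Spor.M22).2.1.1 (k := k)
      (by rw [Subgroup.orderOf_coe, Subgroup.orderOf_coe, hk])
    exact orderOf_eq_prime (Subtype.ext hu3) (fun e => hu (Subtype.ext e))
  simp only [MonoidHom.comp_apply, Subgroup.coe_subtype] at hm
  rw [hQ, ← Finset.add_sum_erase _ _ (Finset.mem_univ (1 : (Q : Subgroup ↥Cfsg.Spor.M22))),
    Finset.sum_congr rfl (g := fun _ => (θ : G → ℂ) (iota y)) (fun u hu =>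
      hterm u (Finset.mem_erase.1 hu).1), Finset.sum_const,
    Finset.card_erase_of_mem (Finset.mem_univ _), Finset.card_univ, ← Nat.card_eq_fintype_card,
    hQ, Subgroup.coe_one, map_one, ← charDegree_cast (Char.IsIrr.isCharacter θ.2), hd] at hm
  norm_num at hm
  -- the 2-part of the centralizer
  have hy' : orderOf (iota y) = 3 := by rw [hio, hy]
  let D : Sylow 2 (Subgroup.centralizer ({iota y} : Set G)) := default
  have hD8 : Nat.card (D : Subgroup (Subgroup.centralizer ({iota y} : Set G))) = 8 := by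
    rw [D.card_eq_multiplicity, le_antisymm (M24Cent.three_bound _ hy') (M24Cent.three_lower _ hy')]
    norm_num
  have hint := div_integral θ hd (iota y) (by rw [hy']; norm_num)
    ((D : Subgroup (Subgroup.centralizer ({iota y} : Set G))).map
      (Subgroup.centralizer ({iota y} : Set G)).subtype) (D.isPGroup'.map _)
    (by
      rintro _ ⟨u, -, rfl⟩
      exact (Subgroup.mem_centralizer_singleton_iff.1 u.2).symm)
  rw [Subgroup.card_map_of_injective Subtype.val_injective, hD8] at hint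
  have hdiv : (64 : ℤ) ∣ 9 * (m : ℤ) - 1024 := by
    refine rat_integral (by norm_num) hint ?_
    push_cast
    linear_combination hm
  obtain ⟨k, hk⟩ := hdiv
  have hkC : (9 : ℂ) * m - 1024 = 64 * (k : ℂ) := by exact_mod_cast congrArg (fun x : ℤ => (x : ℂ)) hk
  have hv : (θ : G → ℂ) (iota y) = ((8 * k : ℤ) : ℂ) := by
    push_cast
    linear_combination (1 / 8 : ℂ) * hm + (1 / 8 : ℂ) * hkC
  have hb := twin_bound θ hd (iota y) (by rw [hy']; norm_num)
  have hC : (Nat.card (Subgroup.centralizer ({iota y} : Set G)) : ℝ) ≤ 2160 := by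
    exact_mod_cast M24Cent.threeA_card_le _ hy' (hfix y hy)
  rw [hv, Complex.normSq_intCast] at hb
  have hk2 : k * k ≤ 16 := by
    have : ((k * k : ℤ) : ℝ) < ((17 : ℤ) : ℝ) := by push_cast at hb ⊢; nlinarith
    rw [Int.cast_lt] at this
    omega
  have hk4 : -4 ≤ k ∧ k ≤ 4 := by constructor <;> nlinarith
  obtain rfl : k = 2 := by omega
  rw [hv]; norm_num

theorem no_1024 (θ : Cfsg.IrrCharacter G) : Cfsg.charDegree (θ : G → ℂ) ≠ 1024 := by
  classical
  intro hd
  have := Fintype.ofFinite G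
  have := Fintype.ofFinite ↥Cfsg.Spor.M22
  have h5 : Fact (Nat.Prime 5) := ⟨by norm_num⟩
  have h7 : Fact (Nat.Prime 7) := ⟨by norm_num⟩
  have hcl := Char.isClassFunction_of_isIrr θ.2
  have hio : ∀ z : ↥Cfsg.Spor.M22, orderOf (iota z) = orderOf z := fun z =>
    orderOf_injective iota iota_injective z
  have hsum : ∀ (p : ℕ) [Fact p.Prime], p = 5 ∨ p = 7 → ∃ U : ℤ, 2 ∣ U ∧
      (p = 5 → U.natAbs ≤ 22) ∧ (p = 7 → U.natAbs ≤ 27) ∧
      ∑ h ∈ Finset.univ.filter (fun h : ↥Cfsg.Spor.M22 => orderOf h = p), (θ : G → ℂ) (iota h) =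
        (Nat.card (Sylow p ↥Cfsg.Spor.M22) : ℂ) * U := by
    intro p _ hp
    let Q₀ : Sylow p G := default
    have hK0 : Nat.card (Q₀ : Subgroup G) = p := by
      rw [Q₀.card_eq_multiplicity, M24Cent.fac_G (by omega), pow_one]
    obtain ⟨U, hU, h2, hb5, hb7⟩ := usum_small θ hd hp _ hK0
    have hQc : ∀ Q : Sylow p ↥Cfsg.Spor.M22, Nat.card (Q : Subgroup ↥Cfsg.Spor.M22) = p := fun Q =>
      (S5005.sylow_data (p := p) (by omega) Q).choose_spec.1.card
    refine ⟨U, h2, hb5, hb7, sum_orderOf hQc (fun h => (θ : G → ℂ) (iota h)) _ fun Q => ?_⟩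
    rw [← hU, ← usum_const (p := p) (M24Cent.fac_G (by omega)) hcl hK0
      (L := (Q : Subgroup ↥Cfsg.Spor.M22).map iota)
      (by rw [Subgroup.card_map_of_injective iota_injective, hQc Q]), usum]
    refine Finset.sum_bij (fun h _ => iota h) (fun h hh => ?_)
      (fun a _ b _ e => iota_injective e) (fun g hg => ?_) fun _ _ => rfl
    · obtain ⟨-, h1, h2⟩ := Finset.mem_filter.1 hh
      exact Finset.mem_filter.2 ⟨Finset.mem_univ _, ⟨h, h1, rfl⟩,
        fun e => h2 (iota_injective (e.trans (map_one iota).symm))⟩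
    · obtain ⟨-, ⟨h, h1, rfl⟩, h2⟩ := Finset.mem_filter.1 hg
      exact ⟨h, Finset.mem_filter.2 ⟨Finset.mem_univ _, h1, fun e => h2 (by rw [e, map_one])⟩, rfl⟩
  obtain ⟨U, hU2, hUb, -, hUs⟩ := hsum 5 (Or.inl rfl)
  obtain ⟨T, hT2, -, hTb, hTs⟩ := hsum 7 (Or.inr rfl)
  have hUb' := hUb rfl
  have hTb' := hTb rfl
  obtain ⟨e5, -, -, he5, hn5⟩ := S5005.sylow_data (p := 5) (by norm_num) default
  obtain ⟨e7, -, -, he7, hn7⟩ := S5005.sylow_data (p := 7) (by norm_num) default
  obtain rfl : e5 = 4 := by omega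
  obtain rfl : e7 = 3 := by omega
  have hn5' : Nat.card (Sylow 5 ↥Cfsg.Spor.M22) * (4 * 5) = 443520 := hn5
  have hn7' : Nat.card (Sylow 7 ↥Cfsg.Spor.M22) * (3 * 7) = 443520 := hn7
  rw [show Nat.card (Sylow 5 ↥Cfsg.Spor.M22) = 22176 by omega] at hUs
  rw [show Nat.card (Sylow 7 ↥Cfsg.Spor.M22) = 21120 by omega] at hTs
  have h3s : ∑ h ∈ Finset.univ.filter (fun h : ↥Cfsg.Spor.M22 => orderOf h = 3),
      (θ : G → ℂ) (iota h) = 12320 * 16 := by
    rw [Finset.sum_congr rfl (fun h hh => three_value θ hd h (Finset.mem_filter.1 hh).2),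
      Finset.sum_const, ← Fintype.card_subtype, ← Nat.card_eq_fintype_card, M22Count.card_three,
      nsmul_eq_mul]
    norm_num
  have : Fact (Nat.Prime 11) := ⟨by norm_num⟩
  have h11s : ∑ h ∈ Finset.univ.filter (fun h : ↥Cfsg.Spor.M22 => orderOf h = 11),
      (θ : G → ℂ) (iota h) = 80640 := by
    rw [Finset.sum_congr rfl (fun h hh => eleven_value θ hd _
      ((hio h).trans (Finset.mem_filter.1 hh).2)), Finset.sum_const, ← Fintype.card_subtype,
      ← Nat.card_eq_fintype_card, S5005.card_elements (by norm_num)]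
    obtain ⟨e, -, -, he, hn⟩ := S5005.sylow_data (p := 11) (by norm_num) default
    obtain rfl : e = 5 := by omega
    have hn' : Nat.card (Sylow 11 ↥Cfsg.Spor.M22) * (5 * 11) = 443520 := hn
    rw [show Nat.card (Sylow 11 ↥Cfsg.Spor.M22) = 8064 by omega]
    norm_num
  have hpt : ∀ h : ↥Cfsg.Spor.M22, (θ : G → ℂ) (iota h) =
      (if h = 1 then 1024 else 0) + (if orderOf h = 3 then (θ : G → ℂ) (iota h) else 0) +
      (if orderOf h = 5 then (θ : G → ℂ) (iota h) else 0) +
      (if orderOf h = 7 then (θ : G → ℂ) (iota h) else 0) +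
      (if orderOf h = 11 then (θ : G → ℂ) (iota h) else 0) := by
    intro h
    by_cases h1 : h = 1
    · subst h1
      simp [← charDegree_cast (Char.IsIrr.isCharacter θ.2), hd]
    by_cases he : 2 ∣ orderOf h
    · rw [vanish θ hd (iota h) (by rw [hio]; exact he), if_neg h1]
      simp
    rcases M22Count.odd_orders h he with e | e | e | e | e
    · exact absurd (orderOf_eq_one_iff.1 e) h1
    all_goals simp [e, h1]
  have h0 := restriction_sum θ hd
  rw [Finset.sum_congr rfl (fun h _ => hpt h), Finset.sum_add_distrib, Finset.sum_add_distrib,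
    Finset.sum_add_distrib, Finset.sum_add_distrib, ← Finset.sum_filter, ← Finset.sum_filter,
    ← Finset.sum_filter, ← Finset.sum_filter, ← Finset.sum_filter, h3s, hUs, hTs, h11s] at h0
  simp only [Finset.sum_filter, Finset.sum_ite_eq', Finset.mem_univ, if_true] at h0
  have h0' : ((1024 + 12320 * 16 + 22176 * U + 21120 * T + 80640 : ℤ) : ℂ) = ((0 : ℤ) : ℂ) := by
    push_cast
    linear_combination h0
  rw [Int.cast_inj] at h0'
  omega

/-! ### The blocks -/

theorem fac_deg {d k r : ℕ} (h : d = 2 ^ k * r) (hr : ¬ 2 ∣ r) : d.factorization 2 = k := by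
  rw [h, Nat.factorization_mul (by positivity) (fun e => hr (by rw [e]; exact dvd_zero 2)), Finsupp.add_apply,
    Nat.prime_two.factorization_pow, Finsupp.single_eq_same,
    Nat.factorization_eq_zero_of_not_dvd hr, add_zero]

theorem all_principal (M : Ideal Cfsg.AlgInt) (hM : Cfsg.IsPModular 2 M)
    (χ : Cfsg.IrrCharacter G) : χ ∈ Cfsg.principalBlock M G := by
  classical
  have := Fintype.ofFinite G
  obtain ⟨B, hBdef⟩ : ∃ B, B = Cfsg.blockOf M (χ : G → ℂ) := ⟨_, rfl⟩
  have hB : Cfsg.IsPBlock M B := hBdef ▸ isPBlock_blockOf χ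
  have hχB : χ ∈ B := hBdef ▸ mem_blockOf_self hM χ
  have hB0 := isPBlock_principalBlock (G := G) M
  have hd0 : Cfsg.blockDefect 2 (Cfsg.principalBlock M G) = 10 := by
    have h1 := BlockChar.minVal_le (p := 2) (triv_mem_principalBlock (G := G) hM)
    rw [charDegree_eq (n := 1) (by simp [triv]), Nat.factorization_one] at h1
    have h2 : BlockChar.minVal 2 (Cfsg.principalBlock M G) = 0 := by simpa using h1
    rw [BlockChar.blockDefect_eq, h2, fac_two]
  obtain ⟨g, hg⟩ := exists_isDefectClass hM hB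
  obtain ⟨hgd, hgreg⟩ := BlockChar.factorization_centralizer_eq hM hB hg
  by_cases hd10 : Cfsg.blockDefect 2 B = 10
  · have hone : Nat.card {C : ConjClasses G // ∃ g : G, ConjClasses.mk g = C ∧ ¬ 2 ∣ orderOf g ∧
        (Nat.card (Subgroup.centralizer ({g} : Set G))).factorization 2 = 10} ≤ 1 := by
      rw [Finite.card_le_one_iff_subsingleton]
      refine ⟨fun a b => ?_⟩
      obtain ⟨_, x, rfl, hx, hxc⟩ := a
      obtain ⟨_, y, rfl, hy, hyc⟩ := b
      have h1 : x = 1 := by_contra fun h => absurd (le_of_eq_of_le hxc.symm (M24Cent.regular_bound x hx h).1) (by norm_num)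
      have h2 : y = 1 := by_contra fun h => absurd (le_of_eq_of_le hyc.symm (M24Cent.regular_bound y hy h).1) (by norm_num)
      subst h1 h2
      rfl
    have hS := (BlockChar.card_blocks_defect_le hM 10).trans hone
    rw [Finite.card_le_one_iff_subsingleton] at hS
    have h := congrArg Subtype.val
      (Subsingleton.elim (α := {B : Set (Cfsg.IrrCharacter G) //
        Cfsg.IsPBlock M B ∧ Cfsg.blockDefect 2 B = 10}) ⟨B, hB, hd10⟩ ⟨_, hB0, hd0⟩)
    simp only at h
    exact h ▸ hχB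
  exfalso
  have hg1 : g ≠ 1 := fun hg1 => hd10 (by
    rw [← hgd, hg1, show Subgroup.centralizer ({(1 : G)} : Set G) = ⊤ from
      Subgroup.centralizer_eq_top_iff_subset.2 (Set.singleton_subset_iff.2 (one_mem _)),
      Subgroup.card_top, fac_two])
  obtain ⟨hle3, hfive⟩ := M24Cent.regular_bound g hgreg hg1
  rw [hgd] at hle3 hfive
  have hmd : BlockChar.minVal 2 B + Cfsg.blockDefect 2 B = 10 := by
    have := (BlockChar.minVal_le (p := 2) hχB).trans (BlockChar.degree_val_le χ)
    rw [fac_two] at this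
    rw [BlockChar.blockDefect_eq, fac_two]
    omega
  obtain ⟨ψ, hψB, hψv⟩ := BlockChar.exists_height_zero (p := 2) (IsPBlock.nonempty hM hB)
  have hopt : ∀ φ ∈ B, Cfsg.charDegree (φ : G → ℂ) = 3840 ∨ Cfsg.charDegree (φ : G → ℂ) = 8832 ∨
      Cfsg.charDegree (φ : G → ℂ) = 9856 ∨ Cfsg.charDegree (φ : G → ℂ) = 12672 := fun φ hφ =>
    (deg_options φ ((Nat.pow_dvd_pow 2 (by omega : 7 ≤ BlockChar.minVal 2 B)).trans
      (BlockChar.pow_minVal_dvd hφ))).resolve_left (no_1024 φ)
  have f0 : (3840 : ℕ).factorization 2 = 8 := fac_deg (k := 8) (r := 15) (by norm_num) (by norm_num)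
  have f1 : (8832 : ℕ).factorization 2 = 7 := fac_deg (k := 7) (r := 69) (by norm_num) (by norm_num)
  have f2 : (9856 : ℕ).factorization 2 = 7 := fac_deg (k := 7) (r := 77) (by norm_num) (by norm_num)
  have f3 : (12672 : ℕ).factorization 2 = 7 := fac_deg (k := 7) (r := 99) (by norm_num) (by norm_num)
  rcases hopt ψ hψB with hψd | hψd
  · -- defect two
    rw [hψd, f0] at hψv
    have h5 := hfive (by omega)
    refine hg.2.2 ψ hψB ?_
    have h0 : (ψ : G → ℂ) g = 0 :=
      Char.defect_zero ψ.2 (by norm_num) (n := 1) (by rw [card_G]; norm_num)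
        (by rw [card_G]; norm_num) (charDegree_cast (Char.IsIrr.isCharacter ψ.2)).symm
        (by rw [hψd]; norm_num) g h5
    have : Cfsg.centralChar (ψ : G → ℂ) g = 0 := by simp [Cfsg.centralChar, h0]
    rw [this]
    exact memLocalIdeal_zero hM
  · -- defect three
    have h7 : BlockChar.minVal 2 B = 7 := by
      rcases hψd with h | h | h <;> rw [h] at hψv <;> omega
    obtain ⟨W, hW⟩ : ∃ W : Finset (Cfsg.IrrCharacter G),
        W = Finset.univ.filter fun φ => φ ∈ B ∧ Cfsg.charDegree (φ : G → ℂ) ≠ 3840 := ⟨_, rfl⟩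
    have hW4 : (4 : ℤ) ∣ (W.card : ℤ) := by
      have hdv := (BlockChar.redDeg_sq_sum hM hB).1
      rw [show Cfsg.blockDefect 2 B = 3 by omega, BlockChar.bsum, ← Finset.sum_filter] at hdv
      have h4 : (4 : ℤ) ∣ ∑ φ ∈ Finset.univ.filter (fun φ : Cfsg.IrrCharacter G => φ ∈ B),
          ((BlockChar.redDeg 2 B φ : ℤ) ^ 2 -
            if Cfsg.charDegree (φ : G → ℂ) ≠ 3840 then 1 else 0) := by
        refine Finset.dvd_sum fun φ hφ => ?_
        rw [BlockChar.redDeg, h7]
        rcases hopt φ (Finset.mem_filter.1 hφ).2 with h | h | h | h <;> rw [h] <;> norm_num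
      rw [Finset.sum_sub_distrib, ← Finset.sum_filter, Finset.filter_filter, ← hW,
        Finset.sum_const, nsmul_one] at h4
      have h8 := (show (4 : ℤ) ∣ ((2 : ℕ) : ℤ) ^ 3 by norm_num).trans hdv
      simpa using dvd_sub h8 h4
    have hpos : 0 < W.card := Finset.card_pos.2 ⟨ψ, by
      rw [hW]
      exact Finset.mem_filter.2 ⟨Finset.mem_univ _, hψB, by omega⟩⟩
    have hlow : W.card * 8832 ^ 2 ≤ 244823040 := by
      refine le_trans ?_ (deg_sum_le W)
      rw [← smul_eq_mul]
      refine Finset.card_nsmul_le_sum _ _ _ fun φ hφ => Nat.pow_le_pow_left ?_ 2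
      rw [hW] at hφ
      obtain ⟨-, hφB, hφ0⟩ := Finset.mem_filter.1 hφ
      rcases hopt φ hφB with h | h | h | h <;> omega
    omega

/-- All irreducible complex characters of the Mathieu group `M₂₄` lie in a single 2-block: any two of them lie in the same block relative to every maximal ideal of the algebraic integers containing 2. -/
theorem result (M : Ideal Cfsg.AlgInt) (hM : Cfsg.IsPModular 2 M)
    (χ ψ : Cfsg.IrrCharacter ↥Cfsg.M24) : Cfsg.SameBlock M (χ : ↥Cfsg.M24 → ℂ) (ψ : ↥Cfsg.M24 → ℂ) := by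
  exact Blocks.sameBlock_trans hM (Blocks.sameBlock_symm (all_principal M hM χ))
    (all_principal M hM ψ)

end Cfsg.Agent.S5006
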