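import Cfsg.Statements.S5011
-- import your own Cfsg.Agent.* helpers here

set_option autoImplicit false
open Cfsg

namespace Cfsg.Agent.S5011

/-- Let G be a finite non-abelian simple group and ρ an irreducible complex representation of G on a space of dimension greater than one (irreducible in the sense that the only subspaces invariant under every ρ(x) are 0 and the whole space). Then for every non-identity element g of G, the centralizer of g does not act irreducibly: there is a non-zero proper subspace invariant under ρ(c) for every c commuting with g. -/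
theorem result {G : Type*} [Group G] [Finite G] [IsSimpleGroup G]
    (hG : ¬ IsMulCommutative G) {V : Type*} [AddCommGroup V] [Module ℂ V] [FiniteDimensional ℂ V]
    (ρ : Representation ℂ G V)
    (hirr : ∀ W : Submodule ℂ V, (∀ x : G, ∀ v ∈ W, ρ x v ∈ W) → W = ⊥ ∨ W = ⊤)
    (hdim : 1 < Module.finrank ℂ V) (g : G) (hg : g ≠ 1) :
    ∃ W : Submodule ℂ V, W ≠ ⊥ ∧ W ≠ ⊤ ∧ ∀ c ∈ Subgroup.centralizer ({g} : Set G), ∀ v ∈ W, ρ c v ∈ W := by
  classical
  have hnt : Nontrivial V := Module.nontrivial_of_finrank_pos (R := ℂ) (by omega)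
  have hinj : ρ.ker = ⊥ := by
    refine (Subgroup.Normal.eq_bot_or_eq_top (MonoidHom.normal_ker ρ)).resolve_right fun htop => ?_
    have htriv : ∀ x : G, ρ x = 1 := fun x => MonoidHom.mem_ker.1 (htop ▸ Subgroup.mem_top x)
    obtain ⟨v, hv⟩ := exists_ne (0 : V)
    rcases hirr (Submodule.span ℂ {v}) (fun x w hw => by rwa [htriv x]) with h | h
    · exact hv (Submodule.span_singleton_eq_bot.1 h)
    · have h1 := finrank_span_singleton (K := ℂ) hv
      rw [h, finrank_top] at h1
      omega
  obtain ⟨c, hc⟩ := Module.End.exists_eigenvalue (ρ g)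
  refine ⟨Module.End.eigenspace (ρ g) c, hc, fun htop => ?_, fun x hx v hv => ?_⟩
  · have hsc : ∀ v, ρ g v = c • v := fun v =>
      Module.End.mem_eigenspace_iff.1 (htop ▸ Submodule.mem_top)
    have hgZ : g ∈ Subgroup.center G := Subgroup.mem_center_iff.2 fun x => by
      refine (MonoidHom.ker_eq_bot_iff ρ).1 hinj (LinearMap.ext fun v => ?_)
      rw [map_mul, map_mul]
      show ρ x (ρ g v) = ρ g (ρ x v)
      rw [hsc, hsc, map_smul]
    rcases Subgroup.Normal.eq_bot_or_eq_top (inferInstance : (Subgroup.center G).Normal) with h | h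
    · exact hg (Subgroup.mem_bot.1 (h ▸ hgZ))
    · exact hG ⟨⟨fun a b => (Subgroup.mem_center_iff.1 (h ▸ Subgroup.mem_top b) a)⟩⟩
  · rw [Module.End.mem_eigenspace_iff] at hv ⊢
    have h2 := congrArg (fun z => ρ z v) (Subgroup.mem_centralizer_singleton_iff.1 hx)
    simp only [map_mul, Module.End.mul_apply, hv, map_smul] at h2
    exact h2.symm

end Cfsg.Agent.S5011
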