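import Cfsg.Statements.S5012
import Cfsg.Agent.RadProp.Classical
import Cfsg.Agent.RadProp.Linear
import Cfsg.Agent.RadProp.RankOne
import Cfsg.Agent.RadProp.ReeF4
import Cfsg.Agent.RadProp.Twisted

set_option autoImplicit false
open Cfsg

namespace Cfsg.Agent.S5012

/-- Let G be a finite simple group of Lie type in characteristic p. Then every p-block of G has defect zero or full defect: its defect is 0 or the exponent of p in the order of G (its defect groups are trivial or Sylow p-subgroups). -/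
theorem result {G : Type*} [Group G] [Finite G] (p : ℕ) [Fact p.Prime] (hG : Cfsg.IsLieTypeChar p G) (M : Ideal Cfsg.AlgInt) (hM : Cfsg.IsPModular p M) (B : Set (Cfsg.IrrCharacter G)) (hB : Cfsg.IsPBlock M B) : Cfsg.blockDefect p B = 0 ∨ Cfsg.blockDefect p B = (Nat.card G).factorization p := by
  refine Cfsg.Agent.RadProp.blockDefect_zero_or_full ?_ hM hB
  rcases hG with ⟨F, _, _, _, n, hn, -, ⟨e⟩⟩ | ⟨F, _, _, _, m, hm, -, ⟨e⟩⟩ |
    ⟨F, _, _, _, n, q, hF, hn, -, ⟨e⟩⟩ | ⟨F, _, _, _, m, hm, hodd, ⟨e⟩⟩ |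
    ⟨F, _, _, _, m, hm, ⟨e⟩⟩ | ⟨F, _, _, _, m, a, b, hm, hab, ⟨e⟩⟩ | hE | hT | ⟨hp, hz⟩ |
    ⟨hp, h4⟩ | ⟨hp, hr⟩
  · exact Agent.RadProp.rad_of_mulEquiv e.symm (Agent.RadProp.rad_psl hn)
  · exact Agent.RadProp.rad_of_mulEquiv e.symm (Agent.RadProp.rad_psp hm)
  · exact Agent.RadProp.rad_of_mulEquiv e.symm (Agent.RadProp.rad_psu hF hn)
  · exact Agent.RadProp.rad_of_mulEquiv e.symm (Agent.RadProp.rad_omega_odd hm hodd)
  · exact Agent.RadProp.rad_of_mulEquiv e.symm (Agent.RadProp.rad_omega_plus hm)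
  · exact Agent.RadProp.rad_of_mulEquiv e.symm (Agent.RadProp.rad_omega_minus hm a b hab)
  · exact Agent.RadProp.rad_exceptional hE
  · exact Agent.RadProp.rad_twistedE6D4 hT
  · subst hp; exact Agent.RadProp.rad_isoSuzuki hz
  · subst hp; exact Agent.RadProp.rad_iso2F4 h4
  · subst hp; exact Agent.RadProp.rad_isoRee hr

end Cfsg.Agent.S5012
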