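import Cfsg.Statements.S5015
import Cfsg.Agent.RootSub.Basic

set_option autoImplicit false
open Cfsg

namespace Cfsg.Agent.S5015

/-- Let a group Y act doubly transitively on a set Ω with at least three points, and suppose that the stabilizer of a point α contains a nilpotent subgroup A, normalized by that stabilizer, which acts regularly on the points other than α. Then for any y in Y moving α, the subgroups A and y A y⁻¹ are the unipotent subgroups of a rank one group, and the normal closure of A in Y (the subgroup generated by all conjugates of A) is generated by A and y A y⁻¹ alone. -/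
theorem result {Y Ω : Type*} [Group Y] [MulAction Y Ω]
    (h2 : MulAction.IsMultiplyPretransitive Y Ω 2) (hΩ : 3 ≤ ENat.card Ω) (α : Ω) (A : Subgroup Y)
    (hA : A ≤ MulAction.stabilizer Y α) (hAn : ∀ y ∈ MulAction.stabilizer Y α, Cfsg.conjBy A y = A)
    (hnil : Group.IsNilpotent A) (hreg : ∀ β γ : Ω, β ≠ α → γ ≠ α → ∃! a : Y, a ∈ A ∧ a • β = γ)
    (y : Y) (hy : y ∉ MulAction.stabilizer Y α) :
    Cfsg.IsRankOnePair A (Cfsg.conjBy A y) ∧ Subgroup.normalClosure (A : Set Y) = A ⊔ Cfsg.conjBy A y := by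
  set β := y • α with hβdef
  have hβ : β ≠ α := hy
  have hthird : ∀ γ δ : Ω, ∃ ε, ε ≠ γ ∧ ε ≠ δ := by
    intro γ δ
    by_contra hcon
    push Not at hcon
    have hsub : (Set.univ : Set Ω) ⊆ {γ, δ} := fun ε _ => by
      by_cases h : ε = γ
      · exact Or.inl h
      · exact Or.inr (hcon ε h)
    have h1 : Set.encard (Set.univ : Set Ω) ≤ 2 :=
      (Set.encard_le_encard hsub).trans ((Set.encard_insert_le _ _).trans (by
        rw [Set.encard_singleton]; norm_num))
    rw [Set.encard_univ] at h1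
    exact absurd (hΩ.trans h1) (by decide)
  have hA0 : ∀ a ∈ A, a • α = α := fun a ha => hA ha
  have hfix : ∀ a ∈ A, ∀ γ : Ω, γ ≠ α → a • γ = γ → a = 1 := by
    intro a ha γ hγ h
    exact (hreg γ γ hγ hγ).unique ⟨ha, h⟩ ⟨one_mem A, one_smul Y γ⟩
  have hwd : ∀ g g' : Y, g • α = g' • α → Cfsg.conjBy A g = Cfsg.conjBy A g' := by
    intro g g' h
    have hm : g⁻¹ * g' ∈ MulAction.stabilizer Y α := by
      rw [MulAction.mem_stabilizer_iff, mul_smul, ← h, inv_smul_smul]
    conv_lhs => rw [← hAn _ hm]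
    rw [RootSub.conjBy_conjBy, mul_inv_cancel_left]
  have hnt : ∃ a ∈ A, a ≠ 1 := by
    obtain ⟨γ, hγa, hγb⟩ := hthird α β
    obtain ⟨a, ⟨ha, hae⟩, -⟩ := hreg β γ hβ hγa
    refine ⟨a, ha, ?_⟩
    rintro rfl
    exact hγb (by rw [← hae, one_smul])
  have hBfix : ∀ x ∈ Cfsg.conjBy A y, x • β = β := by
    intro x hx
    have := hA0 _ (RootSub.mem_conjBy.mp hx)
    rw [mul_smul, mul_smul, inv_smul_eq_iff] at this
    exact this
  have hneq : A ≠ Cfsg.conjBy A y := by
    intro he
    obtain ⟨a, ha, ha1⟩ := hnt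
    exact ha1 (hfix a ha β hβ (hBfix a (he ▸ ha)))
  have hBreg : ∀ γ δ : Ω, γ ≠ β → δ ≠ β → ∃ b ∈ Cfsg.conjBy A y, b • γ = δ := by
    intro γ δ hγ hδ
    obtain ⟨a, ⟨ha, hae⟩, -⟩ := hreg (y⁻¹ • γ) (y⁻¹ • δ)
      (fun h => hγ (by rw [hβdef, ← h, smul_inv_smul]))
      (fun h => hδ (by rw [hβdef, ← h, smul_inv_smul]))
    refine ⟨y * a * y⁻¹, RootSub.conjBy_mem ha y, ?_⟩
    rw [mul_smul, mul_smul, hae, smul_inv_smul]
  have hnB : Group.IsNilpotent ↥(Cfsg.conjBy A y) := by
    have := hnil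
    exact Group.nilpotent_of_surjective ((MulAut.conj y).toMonoidHom.subgroupMap A)
      ((MulAut.conj y).toMonoidHom.subgroupMap_surjective A)
  refine ⟨⟨hneq, hnil, hnB, ?_, ?_⟩, ?_⟩
  · intro a ha ha1
    have hγa : a⁻¹ • β ≠ α := fun h => hβ (by rw [← smul_inv_smul a β, h, hA0 a ha])
    have hγb : a⁻¹ • β ≠ β := fun h =>
      ha1 (inv_eq_one.mp (hfix _ (inv_mem ha) β hβ h))
    obtain ⟨b, hb, hbe⟩ := hBreg α (a⁻¹ • β) hβ.symm hγb
    refine ⟨b⁻¹, inv_mem hb, fun h => hγa ?_, ?_⟩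
    · rw [← hbe, inv_eq_one.mp h, one_smul]
    · rw [inv_inv, RootSub.conjBy_conjBy]
      exact hwd _ _ (by rw [hbe, mul_smul, hβdef])
  · intro b hb hb1
    have hγb : b⁻¹ • α ≠ β := fun h => hβ (by
      have := congrArg (b • ·) h
      simp only [smul_inv_smul, hBfix b hb] at this
      exact this.symm)
    have hγa : b⁻¹ • α ≠ α := by
      intro h
      apply hb1
      have h1 : y⁻¹ * b⁻¹ * y ∈ A := RootSub.mem_conjBy.mp (inv_mem hb)
      have h2 := hfix _ h1 (y⁻¹ • α) (fun he => hβ (by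
        rw [hβdef]; conv_lhs => rw [← he]
        rw [smul_inv_smul]))
        (by rw [mul_smul, mul_smul, smul_inv_smul, h])
      have h3 : b⁻¹ = 1 := by
        have := congrArg (fun t => y * t * y⁻¹) h2
        simpa [mul_assoc] using this
      exact inv_eq_one.mp h3
    obtain ⟨a, ⟨ha, hae⟩, -⟩ := hreg β (b⁻¹ • α) hβ hγa
    refine ⟨a⁻¹, inv_mem ha, fun h => hγb ?_, ?_⟩
    · rw [← hae, inv_eq_one.mp h, one_smul]
    · rw [inv_inv, RootSub.conjBy_conjBy]
      exact hwd _ _ (by rw [mul_smul, ← hβdef, hae])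
  · refine le_antisymm ?_ (sup_le Subgroup.le_normalClosure ?_)
    · rw [Subgroup.normalClosure, Subgroup.closure_le]
      intro x hx
      obtain ⟨a, ha, hc⟩ := Group.mem_conjugatesOfSet_iff.mp hx
      obtain ⟨g, rfl⟩ := isConj_iff.mp hc
      by_cases hg : g • α = α
      · exact Subgroup.mem_sup_left (hAn g hg ▸ RootSub.conjBy_mem ha g)
      · obtain ⟨c, ⟨hc', hce⟩, -⟩ := hreg β (g • α) hβ hg
        have he : Cfsg.conjBy A g = Cfsg.conjBy (Cfsg.conjBy A y) c := by
          rw [RootSub.conjBy_conjBy]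
          exact hwd _ _ (by rw [mul_smul, ← hβdef, hce])
        exact RootSub.conjBy_le_of_mem le_sup_right (Subgroup.mem_sup_left hc')
          (he ▸ RootSub.conjBy_mem ha g)
    · intro x hx
      have hn : (Subgroup.normalClosure (A : Set Y)).Normal := inferInstance
      have := hn.conj_mem _ (Subgroup.le_normalClosure (RootSub.mem_conjBy.mp hx)) y
      simpa [mul_assoc] using this

end Cfsg.Agent.S5015
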