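import Cfsg.Statements.S5017
import Cfsg.Agent.RootSub.Sets

set_option autoImplicit false
open Cfsg

namespace Cfsg.Agent.S5017

/-- Let X be a rank one group with unipotent subgroups A and B and N a normal subgroup of X. Then either X = N A or N lies in the centre of X. Consequently a perfect rank one group is quasisimple. -/
theorem result {X : Type*} [Group X] {A B : Subgroup X} (h : Cfsg.IsRankOneGroup X A B) :
    (∀ N : Subgroup X, N.Normal → N ⊔ A = ⊤ ∨ N ≤ Subgroup.center X) ∧
    (Group.IsPerfect X → Cfsg.IsQuasisimple X) := by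
  refine ⟨fun N hN => RootSub.RankOne.normal_cases h.1 h.2 N, fun hP => ⟨hP, ?_⟩⟩
  have hnt : Subgroup.center X ≠ ⊤ := by
    intro ht
    obtain ⟨a, ha, ha1⟩ := RootSub.RankOne.exists_ne_one h.2
    obtain ⟨b, hb, hb1⟩ := RootSub.RankOne.exists_ne_one (RankOnePair_symm h.2)
    exact RootSub.RankOne.not_commute h.2 ha ha1 hb hb1
      (Subgroup.mem_center_iff.mp (ht ▸ Subgroup.mem_top b) a)
  have : Nontrivial (X ⧸ Subgroup.center X) :=
    QuotientGroup.nontrivial_iff.mpr hnt
  refine ⟨fun M hM => ?_⟩
  have hN : (M.comap (QuotientGroup.mk' (Subgroup.center X))).Normal := hM.comap _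
  set N := M.comap (QuotientGroup.mk' (Subgroup.center X)) with hNdef
  have hmap : N.map (QuotientGroup.mk' (Subgroup.center X)) = M :=
    Subgroup.map_comap_eq_self_of_surjective (QuotientGroup.mk'_surjective _) M
  rcases RootSub.RankOne.normal_cases h.1 h.2 N with ht | hc
  · right
    rw [← hmap]
    suffices N = ⊤ by
      rw [this, Subgroup.map_top_of_surjective _ (QuotientGroup.mk'_surjective _)]
    have hnil : Group.IsNilpotent (X ⧸ N) := by
      have := h.2.nilpotent_left
      refine Group.nilpotent_of_surjective ((QuotientGroup.mk' N).comp A.subtype) ?_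
      intro q
      obtain ⟨x, rfl⟩ := QuotientGroup.mk'_surjective N q
      obtain ⟨n, hn, a, ha, rfl⟩ := Subgroup.mem_sup_of_normal_left.mp (ht ▸ Subgroup.mem_top x)
      exact ⟨⟨a, ha⟩, by simp [(QuotientGroup.eq_one_iff n).mpr hn]⟩
    by_contra hne
    have : Nontrivial (X ⧸ N) := QuotientGroup.nontrivial_iff.mpr hne
    have hperf : Group.IsPerfect (X ⧸ N) :=
      Group.IsPerfect.ofSurjective (f := QuotientGroup.mk' N) (QuotientGroup.mk'_surjective N)
    exact (Group.IsPerfect.not_isNilpotent (G := X ⧸ N)) hnil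
  · left
    rw [← hmap, eq_bot_iff]
    rintro _ ⟨n, hn, rfl⟩
    rw [Subgroup.mem_bot, QuotientGroup.mk'_apply, QuotientGroup.eq_one_iff]
    exact hc hn

end Cfsg.Agent.S5017
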