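import Cfsg.Statements.S5018
import Cfsg.Agent.RootSub.Sets

set_option autoImplicit false
open Cfsg

namespace Cfsg.Agent.S5018

/-- A rank one group is not nilpotent, and its second centre equals its centre. -/
theorem result {X : Type*} [Group X] {A B : Subgroup X} (h : Cfsg.IsRankOneGroup X A B) :
    Subgroup.upperCentralSeries X 2 = Subgroup.center X ∧ ¬ Group.IsNilpotent X := by
  obtain ⟨hX, hr⟩ := h
  have hnn := RootSub.RankOne.not_isNilpotent hX hr
  refine ⟨le_antisymm ?_ ?_, hnn⟩
  · have hn2 : (Subgroup.upperCentralSeries X 2).Normal := inferInstance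
    rcases RootSub.RankOne.normal_cases hX hr (Subgroup.upperCentralSeries X 2) with ht | hc
    · refine absurd ?_ hnn
      have hnil : Group.IsNilpotent (X ⧸ Subgroup.upperCentralSeries X 2) := by
        have := hr.nilpotent_left
        refine Group.nilpotent_of_surjective
          ((QuotientGroup.mk' (Subgroup.upperCentralSeries X 2)).comp A.subtype) ?_
        intro q
        obtain ⟨x, rfl⟩ := QuotientGroup.mk'_surjective (Subgroup.upperCentralSeries X 2) q
        obtain ⟨n, hn, a, ha, rfl⟩ := Subgroup.mem_sup_of_normal_left.mp (ht ▸ Subgroup.mem_top x)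
        exact ⟨⟨a, ha⟩, by simp [(QuotientGroup.eq_one_iff n).mpr hn]⟩
      obtain ⟨k, hk⟩ := Subgroup.nilpotent_iff_lowerCentralSeries.mp hnil
      rw [Subgroup.nilpotent_iff_lowerCentralSeries]
      refine ⟨k + 2, ?_⟩
      have hle : Subgroup.lowerCentralSeries (⊤ : Subgroup X) k ≤ Subgroup.upperCentralSeries X 2 := by
        intro x hx
        have := Subgroup.lowerCentralSeries.map
          (QuotientGroup.mk' (Subgroup.upperCentralSeries X 2)) k ⟨x, hx, rfl⟩
        rw [hk, Subgroup.mem_bot, QuotientGroup.mk'_apply, QuotientGroup.eq_one_iff] at this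
        exact this
      have h1 : Subgroup.lowerCentralSeries (⊤ : Subgroup X) (k + 1) ≤ Subgroup.center X := by
        rw [Subgroup.lowerCentralSeries_succ, Subgroup.commutator_le]
        intro x hx g _
        have := (Subgroup.mem_upperCentralSeries_succ_iff (n := 1)).mp (hle hx) g
        rwa [Subgroup.upperCentralSeries_one] at this
      rw [Subgroup.lowerCentralSeries_succ, eq_bot_iff, Subgroup.commutator_le]
      intro x hx g _
      rw [Subgroup.mem_bot, commutatorElement_eq_one_iff_mul_comm]
      exact ((Subgroup.mem_center_iff.mp (h1 hx)) g).symm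
    · exact hc
  · rw [← Subgroup.upperCentralSeries_one]
    exact Subgroup.upperCentralSeries_mono X (by norm_num)

end Cfsg.Agent.S5018
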