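import Cfsg.Statements.S5023
import Cfsg.Agent.RootSub.Special.Quadratic

set_option autoImplicit false
open Cfsg

namespace Cfsg.Agent.S5023

/-- Let X be a rank one group with unipotent subgroups A and B that acts faithfully on an abelian group V (written additively) with A acting quadratically: a' • (a • v − v) = a • v − v for all a, a' in A and v in V. Then A is either torsion-free or an elementary abelian p-group for some prime p. -/
theorem result {X : Type*} [Group X] {A B : Subgroup X} (h : Cfsg.IsRankOneGroup X A B)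
    {V : Type*} [AddCommGroup V] [DistribMulAction X V] (hf : ∀ x : X, (∀ v : V, x • v = v) → x = 1)
    (hq : ∀ a ∈ A, ∀ a' ∈ A, ∀ v : V, a' • (a • v - v) = a • v - v) :
    (∀ a ∈ A, a ≠ 1 → ¬ IsOfFinOrder a) ∨ ∃ p : ℕ, p.Prime ∧ Cfsg.IsElementaryAbelian p A := by
  by_cases htf : ∀ a ∈ A, a ≠ 1 → ¬ IsOfFinOrder a
  · exact Or.inl htf
  refine Or.inr ?_
  push Not at htf
  obtain ⟨a, ha, ha1, hfin⟩ := htf
  have hn1 : orderOf a ≠ 1 := fun he => ha1 (orderOf_eq_one_iff.mp he)
  have hp : (orderOf a).minFac.Prime := Nat.minFac_prime hn1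
  have hd : orderOf a / (orderOf a).minFac ∣ orderOf a := Nat.div_dvd_of_dvd (Nat.minFac_dvd _)
  have hn0 : orderOf a ≠ 0 := hfin.orderOf_pos.ne'
  have hb1 : a ^ (orderOf a / (orderOf a).minFac) ≠ 1 := by
    refine pow_ne_one_of_lt_orderOf ?_ (Nat.div_lt_self hfin.orderOf_pos hp.one_lt)
    exact (Nat.div_pos (Nat.minFac_le hfin.orderOf_pos) hp.pos).ne'
  refine ⟨(orderOf a).minFac, hp, ⟨⟨fun x y => Subtype.ext
    (RootSub.Quadratic.commute_of_faithful hf hq x.2 y.2)⟩⟩, fun x hx => ?_⟩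
  refine RootSub.Quadratic.exponent_of_faithful h.1 h.2 hf hq (pow_mem ha _) hb1 ?_ hx
  rw [← pow_mul, Nat.div_mul_cancel (Nat.minFac_dvd _), pow_orderOf_eq_one]

end Cfsg.Agent.S5023
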