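import Cfsg.Statements.S5024
import Cfsg.Agent.RootSub.Sets

set_option autoImplicit false
open Cfsg

namespace Cfsg.Agent.S5024

/-- Let S be a set of abstract root subgroups of G, A and C members of S, B a rank one partner of A in S and D a rank one partner of C in S. If the rank one group ⟨A, B⟩ is contained in ⟨C, D⟩ then the two coincide, and C and D are conjugates of A inside ⟨A, B⟩. -/
theorem result {G : Type*} [Group G] {S : Set (Subgroup G)} (hS : Cfsg.IsRootSubgroupSet S)
    {A B C D : Subgroup G} (hA : A ∈ S) (hC : C ∈ S) (hB : B ∈ Cfsg.rankOnePartners S A) (hD : D ∈ Cfsg.rankOnePartners S C)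
    (hle : A ⊔ B ≤ C ⊔ D) : A ⊔ B = C ⊔ D ∧ C ∈ Cfsg.unipotentSubgroups A B ∧ D ∈ Cfsg.unipotentSubgroups A B := by
  obtain ⟨hBS, hAB⟩ := hB
  obtain ⟨hDS, hCD⟩ := hD
  obtain ⟨a, ha, ha1⟩ := RootSub.RankOne.exists_ne_one hAB
  obtain ⟨b, hb, hb1⟩ := RootSub.RankOne.exists_ne_one (RankOnePair_symm hAB)
  have hcen : ∀ {E F : Subgroup G}, E ∈ S → E ≤ C ⊔ D → F ≤ C ⊔ D → ⁅E, F⁆ ≠ ⊥ →
      E ∈ Cfsg.unipotentSubgroups C D := by
    intro E F hES hEle hFle hne
    rcases RootSub.mem_or_centralize hS hC hCD hES hEle with hm | ⟨h1, h2⟩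
    · exact hm
    · refine absurd (RootSub.bot_of_commute fun e he f hf => ?_) hne
      have hcl : C ⊔ D ≤ Subgroup.centralizer ({e} : Set G) := by
        refine sup_le (fun y hy => ?_) (fun y hy => ?_) <;>
          rw [Subgroup.mem_centralizer_singleton_iff]
        exacts [(RootSub.commute_of_bot h1 he hy).symm, (RootSub.commute_of_bot h2 he hy).symm]
      exact (Subgroup.mem_centralizer_singleton_iff.mp (hcl (hFle hf))).symm
  have hAle : A ≤ C ⊔ D := le_sup_left.trans hle
  have hBle : B ≤ C ⊔ D := le_sup_right.trans hle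
  have hne := RootSub.RankOne.commutator_ne_bot hAB
  have hAm := hcen hA hAle hBle hne
  have hBm := hcen hBS hBle hAle (by rwa [Subgroup.commutator_comm])
  obtain ⟨-, hsup⟩ := RootSub.RankOne.pair_of_ne hCD hAm hBm hAB.ne
  have hΩ := RootSub.RankOne.unipotent_congr hCD hAm hBm hAB.ne
  exact ⟨hsup, hΩ ▸ RootSub.self_mem_unipotent C D, hΩ ▸ RootSub.RankOne.right_mem hCD⟩

end Cfsg.Agent.S5024
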