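import Cfsg.Statements.S5026
import Cfsg.Agent.RootSub.Sets

set_option autoImplicit false
open Cfsg

namespace Cfsg.Agent.S5026

/-- Let S be a degenerate set of abstract root subgroups of G (a set of abstract transvection groups) and let a, b be commuting non-identity elements of members of S with a b ≠ 1. Then the members of S centralizing a b are exactly those centralizing both a and b. -/
theorem result {G : Type*} [Group G] {S : Set (Subgroup G)} (hS : Cfsg.IsRootSubgroupSet S) (hdeg : Cfsg.IsDegenerateRootSet S)
    {a b : G} (ha : a ∈ Cfsg.rootElements S) (hb : b ∈ Cfsg.rootElements S) (hab : a * b = b * a) (hab1 : a * b ≠ 1) :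
    Cfsg.centralizingMembers S (Subgroup.zpowers (a * b)) =
      Cfsg.centralizingMembers S (Subgroup.zpowers a) ∩ Cfsg.centralizingMembers S (Subgroup.zpowers b) := by
  ext E
  simp only [Cfsg.centralizingMembers, Set.mem_setOf_eq, Set.mem_inter_iff]
  have hz : ∀ (x : G), E ≤ Subgroup.centralizer (Subgroup.zpowers x : Set G) ↔
      ∀ e ∈ E, x * e = e * x := by
    intro x
    constructor
    · intro h e he; exact h he x (Subgroup.mem_zpowers x)
    · intro h e he y hy
      obtain ⟨n, rfl⟩ := Subgroup.mem_zpowers_iff.mp hy
      exact (Commute.zpow_left (h e he) n).eq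
  simp only [hz]
  constructor
  · rintro ⟨hE, hc⟩
    suffices ha' : ∀ e ∈ E, a * e = e * a by
      refine ⟨⟨hE, ha'⟩, hE, fun e he => ?_⟩
      have h1 := hc e he
      rw [mul_assoc] at h1
      have h2 : a * (b * e) = a * (e * b) := by
        rw [h1, ← mul_assoc, ← mul_assoc, ← ha' e he]
      exact mul_left_cancel h2
    obtain ⟨ha1, A, hA, haA⟩ := ha
    obtain ⟨hb1, B, hB, hbB⟩ := hb
    intro e he
    rcases hS.pair E hE A hA with h | h | h
    · exact (RootSub.commute_of_bot h he haA).symm
    · exfalso
      have hfix : Cfsg.conjBy E (a * b) = E := RootSub.fix_of_commute hc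
      rcases hS.pair E hE B hB with h' | h' | h'
      · have h1 : Cfsg.conjBy E b = E :=
          RootSub.fix_of_bot (by rwa [Subgroup.commutator_comm]) hbB
        rw [← RootSub.conjBy_conjBy, h1] at hfix
        exact ha1 (RootSub.RankOne.eq_one_of_fix (RankOnePair_symm h) haA hfix)
      · have he' : Cfsg.conjBy E b = Cfsg.conjBy E a⁻¹ := by
          conv_rhs => rw [← hfix, RootSub.conjBy_conjBy]
          rw [show a⁻¹ * (a * b) = b by group]
        have hne : E ≠ Cfsg.conjBy E b := fun hh =>
          hb1 (RootSub.RankOne.eq_one_of_fix (RankOnePair_symm h') hbB hh.symm)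
        have hm1 : Cfsg.conjBy E b ∈ Cfsg.unipotentSubgroups E A := he' ▸
          RootSub.conjBy_mem_unipotent (inv_mem (Subgroup.mem_sup_right haA))
            (RootSub.self_mem_unipotent E A)
        have hm2 : Cfsg.conjBy E b ∈ Cfsg.unipotentSubgroups E B :=
          RootSub.conjBy_mem_unipotent (Subgroup.mem_sup_right hbB)
            (RootSub.self_mem_unipotent E B)
        have e1 := RootSub.RankOne.unipotent_congr h (RootSub.self_mem_unipotent E A) hm1 hne
        have e2 := RootSub.RankOne.unipotent_congr h' (RootSub.self_mem_unipotent E B) hm2 hne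
        have hBm : B ∈ Cfsg.unipotentSubgroups E A := by
          rw [← e1, e2]; exact RootSub.RankOne.right_mem h'
        have hAfix : Cfsg.conjBy A b = Cfsg.conjBy A b := rfl
        have hA'mem : a ∈ Cfsg.conjBy A b := by
          rw [RootSub.mem_conjBy, show b⁻¹ * a * b = b⁻¹ * (a * b) by group, hab,
            inv_mul_cancel_left]
          exact haA
        have hA'Ω : Cfsg.conjBy A b ∈ Cfsg.unipotentSubgroups E A :=
          RootSub.conjBy_mem_unipotent (RootSub.unipotent_le hBm hbB)
            (RootSub.RankOne.right_mem h)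
        have hfixA := RootSub.RankOne.eq_of_mem_mem h (RootSub.RankOne.right_mem h) hA'Ω haA
          hA'mem ha1
        have hAB : A = B := RootSub.RankOne.eq_of_fix_mem h hBm (RootSub.RankOne.right_mem h)
          hbB hb1 hfixA
        exact hab1 (RootSub.RankOne.eq_one_of_fix (RankOnePair_symm h)
          (mul_mem haA (hAB ▸ hbB)) hfix)
      · exact hdeg E hE B hB h'
    · exact absurd h (hdeg E hE A hA)
  · rintro ⟨⟨hE, h1⟩, -, h2⟩
    exact ⟨hE, fun e he => ((Commute.mul_left (h1 e he) (h2 e he))).eq⟩

end Cfsg.Agent.S5026
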