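import Cfsg.Statements.S5027
import Cfsg.Agent.RootSub.Sets

set_option autoImplicit false
open Cfsg
open scoped commutatorElement

namespace Cfsg.Agent.S5027

/-- Let S be a set of abstract root subgroups of G such that every member of S has a rank one partner in S (the graph of rank one pairs on S has no isolated vertex). Then the second centre of G equals its centre. -/
theorem result {G : Type*} [Group G] {S : Set (Subgroup G)} (hS : Cfsg.IsRootSubgroupSet S)
    (hF : ∀ A ∈ S, ¬ Cfsg.IsIsolatedIn (Cfsg.FAdj S) S A) : Subgroup.upperCentralSeries G 2 = Subgroup.center G := by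
  refine le_antisymm ?_ ?_
  · intro z hz
    have hz' : ∀ g : G, ⁅z, g⁆ ∈ Subgroup.center G := by
      intro g
      have := (Subgroup.mem_upperCentralSeries_succ_iff (n := 1)).mp hz g
      rwa [Subgroup.upperCentralSeries_one] at this
    have htop : ⊤ ≤ Subgroup.centralizer ({z} : Set G) := by
      rw [← hS.generates]
      refine iSup₂_le fun A hA a ha => ?_
      rw [Subgroup.mem_centralizer_singleton_iff]
      obtain ⟨C, hC, hAC⟩ := RootSub.exists_partner_of_not_isolated (hF A hA) hA
      by_cases ha1 : a = 1
      · simp [ha1]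
      by_contra hne
      have hc1 : ⁅z, a⁆ ≠ 1 := fun h =>
        hne ((commutatorElement_eq_one_iff_mul_comm.mp h).symm)
      have hcc : ∀ x : G, ⁅z, a⁆ * x = x * ⁅z, a⁆ :=
        fun x => (Subgroup.mem_center_iff.mp (hz' a) x).symm
      apply RootSub.mul_not_mem_rootElements hS hC hAC (fun x _ => hcc x) (fun x _ => hcc x)
        hc1 ha ha1
      have he : ⁅z, a⁆ * a = z * a * z⁻¹ := by rw [commutatorElement_def]; group
      rw [he]
      exact ⟨fun h => ha1 (conj_eq_one_iff.mp h), _, hS.conj_mem A hA z, RootSub.conjBy_mem ha z⟩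
    rw [Subgroup.mem_center_iff]
    exact fun g => Subgroup.mem_centralizer_singleton_iff.mp (htop (Subgroup.mem_top g))
  · rw [← Subgroup.upperCentralSeries_one]
    exact Subgroup.upperCentralSeries_mono G (by norm_num)

end Cfsg.Agent.S5027
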