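import Cfsg.Statements.S5035
import Cfsg.Agent.RootSub.Sets

set_option autoImplicit false
open Cfsg

namespace Cfsg.Agent.S5035

/-- Let S be a set of abstract root subgroups of G whose graph of rank one pairs is connected, and f a homomorphism from G onto a group H. Then either the images of the members of S form a set of abstract root subgroups of H whose graph of rank one pairs is again connected, or H equals the image of a member of S. -/
theorem result {G H : Type*} [Group G] [Group H] {S : Set (Subgroup G)} (hS : Cfsg.IsRootSubgroupSet S)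
    (hc : Cfsg.IsConnectedFamily (Cfsg.FAdj S) S) (f : G →* H) (hf : Function.Surjective f) :
    (Cfsg.IsRootSubgroupSet ((fun A : Subgroup G => A.map f) '' S) ∧
      Cfsg.IsConnectedFamily (Cfsg.FAdj ((fun A : Subgroup G => A.map f) '' S)) ((fun A : Subgroup G => A.map f) '' S)) ∨
    ∃ A ∈ S, A.map f = ⊤ := by
  by_cases hcase : ∃ A ∈ S, A.map f = ⊤
  · exact Or.inr hcase
  refine Or.inl ?_
  push Not at hcase
  have hsurj : ∀ g' : H, ∃ g, f g = g' := hf
  have hmapconj : ∀ (A : Subgroup G) (g : G),
      (Cfsg.conjBy A g).map f = Cfsg.conjBy (A.map f) (f g) := by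
    intro A g
    unfold Cfsg.conjBy
    rw [Subgroup.map_map, Subgroup.map_map]
    congr 1
    ext x
    simp
  have hne : ∀ A ∈ S, A.map f ≠ ⊥ := by
    intro A hA hbot
    have key : ∀ B ∈ S, B.map f = ⊥ := by
      intro B hB
      have hr := hc A hA B hB
      clear hB
      induction hr with
      | refl => exact hbot
      | @tail C D _ hCD ih =>
        obtain ⟨x, -, hx⟩ := RootSub.RankOne.right_eq_conj hCD.2.2
        rw [hx, hmapconj, ih]
        exact Subgroup.map_bot _
    refine hcase A hA ?_
    rw [hbot]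
    refine le_antisymm bot_le ?_
    rw [← Subgroup.map_top_of_surjective f hf, ← hS.generates, Subgroup.map_iSup]
    refine iSup_le fun B => ?_
    rw [Subgroup.map_iSup]
    exact iSup_le fun hB => (key B hB).le
  have hpair : ∀ A ∈ S, ∀ B ∈ S, IsRankOnePair A B → A.map f ≠ B.map f →
      IsRankOnePair (A.map f) (B.map f) := by
    intro A _ B _ hr hn
    have hcond : ∀ {C D : Subgroup G}, RankOneCondition C D → C.map f ≠ D.map f →
        RankOneCondition (C.map f) (D.map f) := by
      rintro C D hCD hne' _ ⟨c, hc', rfl⟩ hc1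
      obtain ⟨d, hd, -, heq⟩ := hCD c hc' (fun he => hc1 (by rw [he, map_one]))
      have heq' : Cfsg.conjBy (C.map f) (f d)⁻¹ = Cfsg.conjBy (D.map f) (f c)⁻¹ := by
        rw [← map_inv, ← map_inv, ← hmapconj, ← hmapconj, heq]
      refine ⟨f d, Subgroup.mem_map_of_mem f hd, fun he => hne' ?_, heq'⟩
      rw [he, inv_one, RootSub.conjBy_one] at heq'
      have := congrArg (fun E : Subgroup H => Cfsg.conjBy E (f c)) heq'
      simp only [RootSub.conjBy_cancel_inv,
        RootSub.conjBy_mem_self (Subgroup.mem_map_of_mem f hc')] at this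
      exact this
    have := hr.nilpotent_left
    have := hr.nilpotent_right
    exact ⟨hn, Group.nilpotent_of_surjective (f.subgroupMap A) (f.subgroupMap_surjective A),
      Group.nilpotent_of_surjective (f.subgroupMap B) (f.subgroupMap_surjective B),
      hcond hr.cond_left hn, hcond hr.cond_right hn.symm⟩
  have hab : ∀ A ∈ S, IsMulCommutative ↥(A.map f) := fun A hA => by
    have := hS.commutative A hA
    infer_instance
  refine ⟨⟨?_, ?_, ?_, ?_, ?_⟩, ?_⟩
  · rintro _ ⟨A, hA, rfl⟩; exact hab A hA
  · rintro _ ⟨A, hA, rfl⟩; exact hne A hA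
  · rw [iSup_image]
    have := congrArg (Subgroup.map f) hS.generates
    simp only [Subgroup.map_iSup, Subgroup.map_top_of_surjective f hf] at this
    exact this
  · rintro _ ⟨A, hA, rfl⟩ g'
    obtain ⟨g, rfl⟩ := hsurj g'
    exact ⟨Cfsg.conjBy A g, hS.conj_mem A hA g, hmapconj A g⟩
  · rintro _ ⟨A, hA, rfl⟩ _ ⟨B, hB, rfl⟩
    simp only
    rcases hS.pair A hA B hB with h | h | h
    · left; rw [← Subgroup.map_commutator, h, Subgroup.map_bot]
    · by_cases hn : A.map f = B.map f
      · left
        rw [hn]
        exact RootSub.bot_of_commute fun a ha b hb => by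
          have := hab B hB
          exact congrArg Subtype.val (mul_comm' (⟨a, ha⟩ : ↥(B.map f)) ⟨b, hb⟩)
      · exact Or.inr (Or.inl (hpair A hA B hB h hn))
    · obtain ⟨hm, hcen, hl, hr⟩ := h
      refine Or.inr (Or.inr ⟨?_, ?_, ?_, ?_⟩)
      · exact ⟨⁅A, B⁆, hm, Subgroup.map_commutator A B f⟩
      · intro c hc' x hx
        rw [← Subgroup.map_commutator] at hc'
        rw [← Subgroup.map_sup] at hx
        obtain ⟨c, hc', rfl⟩ := hc'
        obtain ⟨x, hx, rfl⟩ := hx
        rw [← map_mul, ← map_mul, hcen c hc' x hx]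
      · rintro _ ⟨a, ha, rfl⟩ ha1
        rw [← Subgroup.map_commutator, ← hl a ha (fun he => ha1 (by rw [he, map_one])),
          MonoidHom.map_closure, Subgroup.coe_map, Set.image_image, Set.image_image]
        simp [map_mul, map_inv]
      · rintro _ ⟨b, hb, rfl⟩ hb1
        rw [← Subgroup.map_commutator, ← hr b hb (fun he => hb1 (by rw [he, map_one])),
          MonoidHom.map_closure, Subgroup.coe_map, Set.image_image, Set.image_image]
        simp [map_mul, map_inv]
  · rintro _ ⟨A, hA, rfl⟩ _ ⟨B, hB, rfl⟩
    have hr := hc A hA B hB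
    clear hB
    induction hr with
    | refl => exact Relation.ReflTransGen.refl
    | @tail C D _ hCD ih =>
      simp only at ih ⊢
      by_cases hn : C.map f = D.map f
      · exact hn ▸ ih
      · exact ih.tail ⟨⟨C, hCD.1, rfl⟩, ⟨D, hCD.2.1, rfl⟩, hpair C hCD.1 D hCD.2.1 hCD.2.2 hn⟩

end Cfsg.Agent.S5035
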