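import Cfsg.Statements.S5037
import Cfsg.Agent.RootSub.Containment

set_option autoImplicit false
open Cfsg

namespace Cfsg.Agent.S5037

/-- Let S be a class of abstract root subgroups of G that is either degenerate or non-degenerate (so either the commutator case never occurs, or all three cases occur), and A ≠ C members of S. If every member of S commuting with A commutes with C, then A and C have the same commuting members of S; and if every rank one partner of A is a rank one partner of C, then A and C commute and have the same rank one partners. -/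
theorem result {G : Type*} [Group G] {S : Set (Subgroup G)} (hS : Cfsg.IsRootSubgroupClass S)
    (hdn : Cfsg.IsDegenerateRootSet S ∨ Cfsg.IsNondegenerateRootSet S)
    {A C : Subgroup G} (hA : A ∈ S) (hC : C ∈ S) (hAC : A ≠ C) :
    (Cfsg.centralizingMembers S A ⊆ Cfsg.centralizingMembers S C →
      Cfsg.centralizingMembers S A = Cfsg.centralizingMembers S C) ∧
    (Cfsg.rankOnePartners S A ⊆ Cfsg.rankOnePartners S C →
      ⁅A, C⁆ = ⊥ ∧ Cfsg.rankOnePartners S A = Cfsg.rankOnePartners S C) := by
  by_cases hex : ∃ A₀ ∈ S, ∃ B₀ ∈ S, IsRankOnePair A₀ B₀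
  · obtain ⟨A₀, hA₀, B₀, hB₀, hp⟩ := hex
    have hpart := RootSub.partners_of_class hS hA₀ hB₀ hp
    refine ⟨fun hsub => Set.Subset.antisymm hsub fun E hE => ?_, fun hsub => ?_⟩
    · rw [RootSub.mem_centralizing] at hE ⊢
      exact ⟨hE.1, RootSub.cent_subset_eq hS.1 hpart hA hC hsub hE.1 hE.2⟩
    · exact ⟨RootSub.bot_of_partners_subset hS.1 hpart hA hC hsub, Set.Subset.antisymm hsub
        fun E hE => ⟨hE.1, RootSub.partners_subset_eq hS.1 hpart hA hC hsub hE.1 hE.2⟩⟩
  · -- no rank one pairs: then the class is degenerate and abelian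
    rcases hdn with hdeg | hnd
    · have hcomm : ∀ P ∈ S, ∀ Q ∈ S, ⁅P, Q⁆ = ⊥ := fun P hP Q hQ => by
        rcases hS.1.pair P hP Q hQ with h | h | h
        · exact h
        · exact absurd ⟨P, hP, Q, hQ, h⟩ hex
        · exact absurd h (hdeg P hP Q hQ)
      refine ⟨fun _ => ?_, fun _ => ⟨hcomm A hA C hC, ?_⟩⟩
      · ext E
        rw [RootSub.mem_centralizing, RootSub.mem_centralizing]
        exact ⟨fun h => ⟨h.1, hcomm E h.1 C hC⟩, fun h => ⟨h.1, hcomm E h.1 A hA⟩⟩
      · ext E
        exact ⟨fun h => absurd ⟨A, hA, E, h.1, h.2⟩ hex, fun h => absurd ⟨C, hC, E, h.1, h.2⟩ hex⟩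
    · exact absurd hnd.2.1 hex

end Cfsg.Agent.S5037
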