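import Cfsg.Statements.S5039
import Cfsg.Agent.RootSub.Special.Degenerate

set_option autoImplicit false
universe u
open Cfsg

namespace Cfsg.Agent.S5039

/-- Let S be a class of abstract root subgroups of G containing two different commuting members. Suppose that, in case S is degenerate and every element of every member of S has order at most 3, the following holds: for every A ∈ S and every rank one partner B of A there are subgroups A₀ ≤ A and B₀ ≤ B generating an image of SL₂(k) with central kernel, k a field with at least four elements, A₀ and B₀ being the images of the unitriangular subgroups. Then every rank one pair A, B in S is special. -/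
theorem result {G : Type u} [Group G] {S : Set (Subgroup G)} (hS : Cfsg.IsRootSubgroupClass S)
    (hcomm : ∃ A ∈ S, ∃ C ∈ S, A ≠ C ∧ ⁅A, C⁆ = ⊥)
    (hH : Cfsg.IsDegenerateRootSet S → (∀ A ∈ S, ∀ a ∈ A, 0 < orderOf a ∧ orderOf a ≤ 3) →
      ∀ A ∈ S, ∀ B ∈ Cfsg.rankOnePartners S A, ∃ A₀ B₀ : Subgroup G, A₀ ≤ A ∧ B₀ ≤ B ∧
        ∃ (k : Type u) (_ : Field k), 3 < ENat.card k ∧ Cfsg.IsPSL2PairOver k A₀ B₀)
    {A B : Subgroup G} (hA : A ∈ S) (hB : B ∈ Cfsg.rankOnePartners S A) : Cfsg.IsSpecialRankOnePair A B := by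
  by_cases hdeg : IsDegenerateRootSet S
  · refine Agent.RootSub.Degenerate.special hS hdeg hcomm hA hB.1 hB.2 fun hord => ?_
    obtain ⟨A₀, B₀, hA₀, hB₀, k, _, hk, hpair⟩ := hH hdeg hord A hA B hB
    obtain ⟨x, hx, y, hy, hm, hne⟩ := Agent.RootSub.Degenerate.exists_sl2_commutator hk hpair
    exact ⟨x, (sup_le_sup hA₀ hB₀) hx, y, Subgroup.mem_sup_left (hA₀ hy), hA₀ hm, hne⟩
  · unfold IsDegenerateRootSet at hdeg
    push Not at hdeg
    exact (Agent.RootSub.nondegenerate_partner hS
      ⟨hcomm, ⟨A, hA, B, hB.1, hB.2⟩, hdeg⟩ hA hB).2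

end Cfsg.Agent.S5039
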