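import Cfsg.Statements.S5049
import Cfsg.Agent.Core.PCore

set_option autoImplicit false
open Cfsg
open scoped commutatorElement

namespace Cfsg.Agent.S5049

/-- Let G be a finite group generated by a set D of odd transpositions (root involutions with no product of order 4), Q = O₂(G), and for a ∈ D let Q_a be the commutator subgroup of Q with a. Then every member of D commuting with a centralizes Q_a; and for b ∈ D with ab of odd order greater than 1, the centralizer of ab in Q is the intersection of the centralizers of a and b in Q. -/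
theorem result {G : Type*} [Group G] [Finite G] {D : Set G} (hD : Cfsg.IsOddTranspositionSet D) {a : G} (ha : a ∈ D) :
    (∀ e ∈ Cfsg.commutingMembers D a, ∀ q ∈ ⁅Cfsg.pCore 2 G, Subgroup.zpowers a⁆, e * q = q * e) ∧
    (∀ b ∈ Cfsg.oddPartners D a,
      Cfsg.pCore 2 G ⊓ Subgroup.centralizer {a * b} = Cfsg.pCore 2 G ⊓ Subgroup.centralizer {a} ⊓ Subgroup.centralizer {b}) := by
  obtain ⟨hR, hno4⟩ := hD
  have hsq : ∀ d ∈ D, d * d = 1 := fun d hd => by
    rw [← sq, ← hR.orderOf_eq d hd]; exact pow_orderOf_eq_one d
  have hinvd : ∀ d ∈ D, d⁻¹ = d := fun d hd => inv_eq_of_mul_eq_one_left (hsq d hd)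
  set Q := Cfsg.pCore 2 G with hQdef
  have hQn : Q.Normal := Core.pCore_normal
  set π := QuotientGroup.mk' Q with hπ
  have hπQ : ∀ x, π x = 1 ↔ x ∈ Q := fun x => QuotientGroup.eq_one_iff x
  have htwo : ∀ d ∈ D, ∀ e ∈ D, (∃ k : ℕ, orderOf (d * e) = 2 ^ k) → d * e = e * d := by
    intro d hd e he ⟨k, hk⟩
    rcases hR.pair d hd e he with h | h | h
    · exact h
    · have hk0 : k = 0 := by
        by_contra hk0
        rw [hk, Nat.odd_pow_iff hk0] at h
        exact absurd h (by decide)
      rw [hk0, pow_zero, orderOf_eq_one_iff] at hk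
      rw [eq_inv_of_mul_eq_one_left hk, hinvd e he]
    · exact absurd h.1 (hno4 d hd e he)
  -- commutation with the conjugates of a under the 2-core
  have hconj : ∀ e ∈ D, e * a = a * e → ∀ x ∈ Q, e * (x * a * x⁻¹) = (x * a * x⁻¹) * e := by
    intro e he hea x hx
    refine htwo e he _ (hR.conj_mem a ha x) ?_
    have hsq2 : (e * (x * a * x⁻¹)) ^ 2 ∈ Q := by
      rw [← hπQ, map_pow, map_mul, map_mul, map_mul, map_inv, (hπQ x).mpr hx, inv_one, one_mul,
        mul_one, ← map_mul, ← map_pow, Commute.mul_pow hea, sq, sq, hsq e he, hsq a ha,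
        one_mul, map_one]
    obtain ⟨k, hk⟩ := (IsPGroup.iff_orderOf.mp (Core.pCore_isPGroup (p := 2) (G := G))) ⟨_, hsq2⟩
    rw [Subgroup.orderOf_mk] at hk
    have hdvd : orderOf (e * (x * a * x⁻¹)) ∣ 2 ^ (k + 1) := by
      rw [orderOf_dvd_iff_pow_eq_one, pow_succ', pow_mul, ← hk]
      exact pow_orderOf_eq_one _
    obtain ⟨j, -, hj⟩ := (Nat.dvd_prime_pow Nat.prime_two).mp hdvd
    exact ⟨j, hj⟩
  refine ⟨fun e he => ?_, fun b hb => le_antisymm ?_ ?_⟩
  · obtain ⟨heD, hea⟩ := he
    have hle : ⁅Q, Subgroup.zpowers a⁆ ≤ Subgroup.centralizer ({e} : Set G) := by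
      rw [Subgroup.commutator_le]
      intro x hx y hy
      rw [Subgroup.mem_centralizer_singleton_iff]
      obtain ⟨n, rfl⟩ := Subgroup.mem_zpowers_iff.mp hy
      have h1 : Commute e (x * a ^ n * x⁻¹) := by
        have : Commute e (x * a * x⁻¹) := hconj e heD hea x hx
        rw [← conj_zpow]
        exact this.zpow_right n
      have h2 : Commute e (a ^ n)⁻¹ := ((show Commute e a from hea).zpow_right n).inv_right
      rw [commutatorElement_def]
      exact (h1.mul_right h2).eq.symm
    intro q hq
    exact (Subgroup.mem_centralizer_singleton_iff.mp (hle hq)).symm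
  · intro x hx
    obtain ⟨hxQ, hxc⟩ := hx
    have hxab : (a * b) * x = x * (a * b) := (Subgroup.mem_centralizer_singleton_iff.mp hxc).symm
    obtain ⟨hbD, hbne, hbodd⟩ := hb
    suffices hax : a * x = x * a by
      have hbx : b * x = x * b := by
        have : a * (b * x) = a * (x * b) := by
          rw [← mul_assoc, hxab, ← mul_assoc, ← mul_assoc, hax]
        exact mul_left_cancel this
      refine ⟨⟨hxQ, ?_⟩, ?_⟩ <;> refine Subgroup.mem_centralizer_singleton_iff.mpr ?_
      exacts [hax.symm, hbx.symm]
    set a' := x * a * x⁻¹ with ha'def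
    have ha'D : a' ∈ D := hR.conj_mem a ha x
    set q := a * a' with hqdef
    have haa' : a * a' = a' * a := hconj a ha rfl x hxQ
    have hq2 : q * q = 1 := by
      rw [hqdef, mul_assoc, ← mul_assoc a', ← haa', mul_assoc, hsq a' ha'D, mul_one, hsq a ha]
    have hba : b * a = (a * b)⁻¹ := by rw [mul_inv_rev, hinvd a ha, hinvd b hbD]
    have hcx : Commute (b * a) x := by rw [hba]; exact (show Commute (a * b) x from hxab).inv_left
    have hcq : Commute (b * a) q := by
      have hconj' : ∀ y, Commute (b * a) y → Commute (b * a) (a * y * a) := by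
        intro y hy
        have h1 : Commute (a * b) y := by
          have h2 := hy.inv_left
          rwa [hba, inv_inv] at h2
        show b * a * (a * y * a) = a * y * a * (b * a)
        calc b * a * (a * y * a) = b * (a * a) * y * a := by simp only [mul_assoc]
          _ = a * ((a * b) * y) * a := by
            rw [hsq a ha, mul_one, show a * (a * b * y) = (a * a) * b * y by simp only [mul_assoc],
              hsq a ha, one_mul]
          _ = a * (y * (a * b)) * a := by rw [h1.eq]
          _ = a * y * a * (b * a) := by simp only [mul_assoc]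
      rw [hqdef, ha'def, show a * (x * a * x⁻¹) = (a * x * a) * x⁻¹ by simp only [mul_assoc]]
      exact (hconj' x hcx).mul_right hcx.inv_right
    -- the product of b with the conjugate a' of a
    have hba' : b * a' = (b * a) * q := by
      rw [hqdef, mul_assoc b a, ← mul_assoc a a a', hsq a ha, one_mul]
    have hm : orderOf (b * a) = orderOf (a * b) := by rw [hba, orderOf_inv]
    have hmodd : Odd (orderOf (b * a)) := hm ▸ hbodd
    have hq1 : q = 1 := by
      rcases hR.pair b hbD a' ha'D with h | h | h
      · exfalso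
        have h0 : (b * a') ^ 2 = 1 := by
          rw [Commute.mul_pow h, sq, sq, hsq b hbD, hsq a' ha'D, one_mul]
        rw [hba', hcq.mul_pow, sq q, hq2, mul_one] at h0
        have h1 : orderOf (b * a) ∣ 2 := orderOf_dvd_of_pow_eq_one h0
        rcases (Nat.dvd_prime Nat.prime_two).mp h1 with h2 | h2
        · rw [orderOf_eq_one_iff] at h2
          exact hbne (by rw [eq_inv_of_mul_eq_one_left h2, hinvd a ha])
        · rw [h2] at hmodd
          exact absurd hmodd (by decide)
      · rw [hba'] at h
        set N := orderOf (b * a * q)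
        have h1 : (b * a) ^ N * q ^ N = 1 := by
          rw [← hcq.mul_pow]; exact pow_orderOf_eq_one _
        have hqN : q ^ N = q := by
          obtain ⟨t, ht⟩ := h
          rw [ht, pow_succ, pow_mul, sq, hq2, one_pow, one_mul]
        rw [hqN] at h1
        have h2 : q ^ orderOf (b * a) = 1 := by
          rw [eq_inv_of_mul_eq_one_right h1, inv_pow, ← pow_mul, mul_comm, pow_mul,
            pow_orderOf_eq_one, one_pow, inv_one]
        obtain ⟨t, ht⟩ := hmodd
        rw [ht, pow_succ, pow_mul, sq, hq2, one_pow, one_mul] at h2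
        exact h2
      · exact absurd h.1 (hno4 b hbD a' ha'D)
    rw [hqdef] at hq1
    have : a' = a := by rw [eq_inv_of_mul_eq_one_right hq1, hinvd a ha]
    rw [ha'def, mul_inv_eq_iff_eq_mul] at this
    exact this.symm
  · intro x hx
    obtain ⟨⟨hxQ, hxa⟩, hxb⟩ := hx
    refine ⟨hxQ, Subgroup.mem_centralizer_singleton_iff.mpr ?_⟩
    have h1 : Commute x a := Subgroup.mem_centralizer_singleton_iff.mp hxa
    have h2 : Commute x b := Subgroup.mem_centralizer_singleton_iff.mp hxb
    exact (h1.mul_right h2).eq

end Cfsg.Agent.S5049
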