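import Cfsg.Statements.S5057

set_option autoImplicit false
open Cfsg

namespace Cfsg.Agent.S5057

/-- The involutions of the alternating group of degree 6 form a class of root involutions (a single conjugacy class of involutions generating the group, any two of which commute, have product of odd order, or have product of order 4 whose square is again an involution of the class), and the product of any two of them has order at most 5. -/
theorem result :
    Cfsg.IsRootInvolutionClass {g : ↥(alternatingGroup (Fin 6)) | orderOf g = 2} ∧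
    ∀ d ∈ {g : ↥(alternatingGroup (Fin 6)) | orderOf g = 2}, ∀ e ∈ {g : ↥(alternatingGroup (Fin 6)) | orderOf g = 2},
      orderOf (d * e) ≤ 5 := by
  set D : Set ↥(alternatingGroup (Fin 6)) := {g | orderOf g = 2} with hD
  have hord : ∀ x : ↥(alternatingGroup (Fin 6)), x ^ 3 = 1 ∨ x ^ 4 = 1 ∨ x ^ 5 = 1 := by
    decide +kernel
  have hle : ∀ x : ↥(alternatingGroup (Fin 6)), orderOf x = 1 ∨ orderOf x = 2 ∨ orderOf x = 3 ∨
      orderOf x = 4 ∨ orderOf x = 5 := by
    intro x
    rcases hord x with h | h | h
    · rcases (Nat.dvd_prime Nat.prime_three).mp (orderOf_dvd_of_pow_eq_one h) with h1 | h1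
      · exact Or.inl h1
      · exact Or.inr (Or.inr (Or.inl h1))
    · have h1 := Nat.le_of_dvd (by norm_num) (orderOf_dvd_of_pow_eq_one h)
      have h0 : 0 < orderOf x := orderOf_pos x
      omega
    · have h1 := Nat.le_of_dvd (by norm_num) (orderOf_dvd_of_pow_eq_one h)
      have h0 : 0 < orderOf x := orderOf_pos x
      omega
  have hsq : ∀ d ∈ D, d * d = 1 := fun d hd => by
    have h := pow_orderOf_eq_one d
    rw [show orderOf d = 2 from hd, sq] at h; exact h
  have hconjall : ∀ d : ↥(alternatingGroup (Fin 6)), d * d = 1 → d ≠ 1 →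
      ∃ g : ↥(alternatingGroup (Fin 6)), g * (⟨Equiv.swap 0 1 * Equiv.swap 2 3, Equiv.Perm.mem_alternatingGroup.mpr (by decide +kernel)⟩ :
        ↥(alternatingGroup (Fin 6))) * g⁻¹ = d := by
    decide +kernel
  have hne : D.Nonempty := by
    refine ⟨⟨Equiv.swap 0 1 * Equiv.swap 2 3, Equiv.Perm.mem_alternatingGroup.mpr (by decide +kernel)⟩, ?_⟩
    exact orderOf_eq_prime (by decide +kernel) (by decide +kernel)
  have hgen : Subgroup.closure D = ⊤ := by
    have hn : (Subgroup.closure D).Normal := by
      refine ⟨fun x hx g => ?_⟩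
      have h : (Subgroup.closure D).map (MulAut.conj g).toMonoidHom ≤ Subgroup.closure D := by
        rw [MonoidHom.map_closure]
        refine Subgroup.closure_mono ?_
        rintro _ ⟨d, hd, rfl⟩
        exact (MulEquiv.orderOf_eq (MulAut.conj g) d).trans hd
      exact h ⟨x, hx, rfl⟩
    have : IsSimpleGroup ↥(alternatingGroup (Fin 6)) := alternatingGroup.isSimpleGroup (by simp)
    rcases hn.eq_bot_or_eq_top with h | h
    · exfalso
      obtain ⟨d, hd⟩ := hne
      have hd1 : d ∈ Subgroup.closure D := Subgroup.subset_closure hd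
      rw [h, Subgroup.mem_bot] at hd1
      subst hd1
      rw [hD, Set.mem_ofPred_eq, orderOf_one] at hd
      exact absurd hd (by decide)
    · exact h
  refine ⟨⟨⟨fun d hd => hd, hgen, fun d hd g => ?_, fun a ha b hb => ?_⟩, hne, fun a ha b hb => ?_⟩,
    fun d _ e _ => by rcases hle (d * e) with h | h | h | h | h <;> omega⟩
  · exact (MulEquiv.orderOf_eq (MulAut.conj g) d).trans hd
  · have hab : orderOf (a * b) = 1 ∨ orderOf (a * b) = 2 → a * b = b * a := by
      intro h
      have h2 : (a * b) * (a * b) = 1 := by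
        rcases h with h | h
        · rw [orderOf_eq_one_iff.mp h, one_mul]
        · have h3 := pow_orderOf_eq_one (a * b); rw [h, sq] at h3; exact h3
      rw [eq_inv_of_mul_eq_one_left h2, mul_inv_rev, inv_eq_of_mul_eq_one_left (hsq a ha),
        inv_eq_of_mul_eq_one_left (hsq b hb)]
    rcases hle (a * b) with h | h | h | h | h
    · exact Or.inl (hab (Or.inl h))
    · exact Or.inl (hab (Or.inr h))
    · exact Or.inr (Or.inl (by rw [h]; decide))
    · refine Or.inr (Or.inr ⟨h, ?_⟩)
      show orderOf _ = 2
      rw [orderOf_pow' (a * b) (by norm_num), h]; rfl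
    · exact Or.inr (Or.inl (by rw [h]; decide))
  · have hne1 : ∀ d ∈ D, d ≠ 1 := fun d hd h => by
      rw [hD, Set.mem_ofPred_eq, h, orderOf_one] at hd; exact absurd hd (by decide)
    obtain ⟨g, rfl⟩ := hconjall a (hsq a ha) (hne1 a ha)
    obtain ⟨g', rfl⟩ := hconjall b (hsq b hb) (hne1 b hb)
    exact ⟨g' * g⁻¹, by group⟩

end Cfsg.Agent.S5057
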