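import Cfsg.Statements.S5058
import Cfsg.Agent.RootSub.TransSL

set_option autoImplicit false
open Matrix
open Cfsg

namespace Cfsg.Agent.S5058

/-- Let F be a finite field of characteristic 2 and n a natural number. Then the transvections of SL_{n+3}(F) (so in every dimension at least 3) (the conjugates of the elementary matrices 1 + c E₁₂, c ≠ 0) form a class of root involutions of SL_{n+3}(F); when F has two elements they form a class of {3,4}⁺-transpositions (every product of odd order has order 1 or 3). -/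
theorem result (F : Type*) [Field F] [Fintype F] [CharP F 2] (n : ℕ) :
    Cfsg.IsRootInvolutionClass {t : Matrix.SpecialLinearGroup (Fin (n + 3)) F | ∃ c : F, c ≠ 0 ∧
        ∃ g : Matrix.SpecialLinearGroup (Fin (n + 3)) F, ((g⁻¹ * t * g : Matrix.SpecialLinearGroup (Fin (n + 3)) F) :
          Matrix (Fin (n + 3)) (Fin (n + 3)) F) = Matrix.transvection 0 1 c} ∧
    (Fintype.card F = 2 → Cfsg.IsThreeFourPlusTranspositionSet {t : Matrix.SpecialLinearGroup (Fin (n + 3)) F | ∃ c : F, c ≠ 0 ∧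
        ∃ g : Matrix.SpecialLinearGroup (Fin (n + 3)) F, ((g⁻¹ * t * g : Matrix.SpecialLinearGroup (Fin (n + 3)) F) :
          Matrix (Fin (n + 3)) (Fin (n + 3)) F) = Matrix.transvection 0 1 c}) := by
  have hset : {t : Matrix.SpecialLinearGroup (Fin (n + 3)) F | ∃ c : F, c ≠ 0 ∧
        ∃ g : Matrix.SpecialLinearGroup (Fin (n + 3)) F, ((g⁻¹ * t * g : Matrix.SpecialLinearGroup (Fin (n + 3)) F) :
          Matrix (Fin (n + 3)) (Fin (n + 3)) F) = Matrix.transvection 0 1 c} =
      Cfsg.Agent.RootSub.TransFam.transSet (n + 3) F := by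
    have h01 : (0 : Fin (n + 3)) ≠ 1 := by simp [Fin.ext_iff]
    have hN : 2 ≤ n + 3 := by omega
    ext t
    constructor
    · rintro ⟨c, hc, g, hg⟩
      have h := Cfsg.Agent.RootSub.TransFam.transSet_conj
        (a := g⁻¹ * t * g) ⟨_, Cfsg.Agent.RootSub.TransFam.stdPair_mem h01, c, hc,
          Cfsg.Agent.RootSub.TransFam.tv_stdPair.mpr hg⟩ g hN
      simpa [mul_assoc] using h
    · intro ht
      obtain ⟨t0, ht0⟩ := (Cfsg.Agent.RootSub.TransFam.slFam (F := F) hN).full _
        (Cfsg.Agent.RootSub.TransFam.stdPair_mem h01) (1 : F)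
      obtain ⟨g, hg⟩ := Cfsg.Agent.RootSub.TransFam.transSet_conjugate hN
        ⟨_, Cfsg.Agent.RootSub.TransFam.stdPair_mem h01, 1, one_ne_zero, ht0⟩ ht
      refine ⟨1, one_ne_zero, g, ?_⟩
      rw [hg, show g⁻¹ * (g * t0 * g⁻¹) * g = t0 by group]
      exact Cfsg.Agent.RootSub.TransFam.tv_stdPair.mp ht0
  rw [hset]
  obtain ⟨h1, h2⟩ := Cfsg.Agent.RootSub.TransFam.transSet_isRootInvolutionClass (F := F) (N := n + 3) (by omega)
  exact ⟨h1, fun h => h2 (Nat.card_eq_fintype_card.trans h)⟩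

end Cfsg.Agent.S5058
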