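import Cfsg.Statements.S5059

set_option autoImplicit false
universe u
open Cfsg

namespace Cfsg.Agent.S5059

/-- Let k be a field of characteristic not 2 with k not of order 3, M a finite-dimensional k-vector space and G ≤ GL(M) such that (G, M) is a quadratic pair (M irreducible for G, and G generated by its quadratically acting elements σ whose scalar family 1 + c(σ − 1), c ∈ k, lies in G). Write 𝒬_d for the quadratic elements of G of minimal commutator rank, E(σ) for the subgroup generated by the members of 𝒬_d with the same fixed space and commutator space as σ, and Σ for the set of these subgroups. Then for σ ∈ 𝒬_d the subgroup E(σ) consists exactly of those members together with the identity, it is abelian, and if k has prime characteristic p every element of E(σ) has order dividing p. -/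
theorem result {k : Type u} [Field k] (hk2 : ringChar k ≠ 2) (hk3 : Nat.card k ≠ 3)
    {M : Type u} [AddCommGroup M] [Module k M] [FiniteDimensional k M]
    {G : Subgroup (LinearMap.GeneralLinearGroup k M)} (hG : Cfsg.IsQuadraticPair G)
    {σ : LinearMap.GeneralLinearGroup k M} (hσ : σ ∈ Cfsg.minimalQuadraticElements G) :
    (Cfsg.sameActionSubgroup G σ : Set (LinearMap.GeneralLinearGroup k M)) = Cfsg.sameActionClass G σ ∪ {1} ∧
    IsMulCommutative ↥(Cfsg.sameActionSubgroup G σ) ∧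
    (∀ p : ℕ, p.Prime → ringChar k = p → ∀ x ∈ Cfsg.sameActionSubgroup G σ, x ^ p = 1) := by
  classical
  obtain ⟨hσQ, hσmin⟩ := hσ
  set n : M →ₗ[k] M := (σ : M →ₗ[k] M) - 1 with hn
  have hR : LinearMap.range n ≤ LinearMap.ker n := by
    rintro _ ⟨m, rfl⟩
    rw [LinearMap.mem_ker]
    exact LinearMap.congr_fun hσQ.2.1.1 m
  have hrange : ∀ τ ∈ Cfsg.sameActionClass G σ,
      LinearMap.range ((τ : M →ₗ[k] M) - 1) = LinearMap.range n ∧
      LinearMap.ker ((τ : M →ₗ[k] M) - 1) = LinearMap.ker n := fun τ hτ => ⟨hτ.2.2, hτ.2.1⟩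
  have hprod0 : ∀ τ₁ τ₂ : LinearMap.GeneralLinearGroup k M,
      LinearMap.range ((τ₂ : M →ₗ[k] M) - 1) ≤ LinearMap.ker ((τ₁ : M →ₗ[k] M) - 1) →
      ((τ₁ * τ₂ : LinearMap.GeneralLinearGroup k M) : M →ₗ[k] M) - 1 =
        ((τ₁ : M →ₗ[k] M) - 1) + ((τ₂ : M →ₗ[k] M) - 1) := by
    intro τ₁ τ₂ h
    have h0 : ((τ₁ : M →ₗ[k] M) - 1) * ((τ₂ : M →ₗ[k] M) - 1) = 0 :=
      LinearMap.ext fun m => LinearMap.mem_ker.mp (h ⟨m, rfl⟩)
    rw [Units.val_mul]
    calc (τ₁ : M →ₗ[k] M) * (τ₂ : M →ₗ[k] M) - 1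
        = ((τ₁ : M →ₗ[k] M) - 1) * ((τ₂ : M →ₗ[k] M) - 1) + (((τ₁ : M →ₗ[k] M) - 1) + ((τ₂ : M →ₗ[k] M) - 1)) := by
          noncomm_ring
      _ = _ := by rw [h0, zero_add]
  have hinE : ∀ τ, τ ∈ Cfsg.sameActionClass G σ ∨ τ = 1 →
      LinearMap.range ((τ : M →ₗ[k] M) - 1) ≤ LinearMap.range n ∧
      LinearMap.ker n ≤ LinearMap.ker ((τ : M →ₗ[k] M) - 1) := by
    rintro τ (h | rfl)
    · exact ⟨(hrange τ h).1.le, (hrange τ h).2.ge⟩
    · simp
  have hmemG : ∀ τ, τ ∈ Cfsg.sameActionClass G σ ∨ τ = 1 → ∀ c : k,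
      ∃ u ∈ G, (u : M →ₗ[k] M) = 1 + c • ((τ : M →ₗ[k] M) - 1) := by
    rintro τ (h | rfl) c
    · have hq := h.1.1
      let e : M →ₗ[k] M := c • ((τ : M →ₗ[k] M) - 1)
      have he : e * e = 0 := by
        simp only [e, smul_mul_assoc, mul_smul_comm, hq.2.1.1, smul_zero]
      let u : LinearMap.GeneralLinearGroup k M :=
        ⟨1 + e, 1 - e, by
          rw [show (1 + e) * (1 - e) = 1 - e * e by noncomm_ring, he, sub_zero], by
          rw [show (1 - e) * (1 + e) = 1 - e * e by noncomm_ring, he, sub_zero]⟩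
      exact ⟨u, hq.2.2 ⟨c, rfl⟩, rfl⟩
    · exact ⟨1, one_mem G, by simp⟩
  have hmul : ∀ τ₁ τ₂, (τ₁ ∈ Cfsg.sameActionClass G σ ∨ τ₁ = 1) →
      (τ₂ ∈ Cfsg.sameActionClass G σ ∨ τ₂ = 1) →
      τ₁ * τ₂ ∈ Cfsg.sameActionClass G σ ∨ τ₁ * τ₂ = 1 := by
    intro τ₁ τ₂ h₁ h₂
    by_cases hone : τ₁ * τ₂ = 1
    · exact Or.inr hone
    refine Or.inl ?_
    have he := hprod0 τ₁ τ₂ ((hinE τ₂ h₂).1.trans (hR.trans (hinE τ₁ h₁).2))
    set e := ((τ₁ * τ₂ : LinearMap.GeneralLinearGroup k M) : M →ₗ[k] M) - 1 with hedef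
    have her : LinearMap.range e ≤ LinearMap.range n := by
      rintro _ ⟨m, rfl⟩
      rw [he, LinearMap.add_apply]
      exact add_mem ((hinE τ₁ h₁).1 ⟨m, rfl⟩) ((hinE τ₂ h₂).1 ⟨m, rfl⟩)
    have hek : LinearMap.ker n ≤ LinearMap.ker e := by
      intro m hm
      rw [LinearMap.mem_ker, he, LinearMap.add_apply, LinearMap.mem_ker.mp ((hinE τ₁ h₁).2 hm),
        LinearMap.mem_ker.mp ((hinE τ₂ h₂).2 hm), add_zero]
    have hG : τ₁ * τ₂ ∈ G := by
      refine mul_mem ?_ ?_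
      · rcases h₁ with h | h
        exacts [h.1.1.1, h ▸ one_mem G]
      · rcases h₂ with h | h
        exacts [h.1.1.1, h ▸ one_mem G]
    have hq : τ₁ * τ₂ ∈ Cfsg.quadraticElements G := by
      refine ⟨hG, ⟨LinearMap.ext fun m => LinearMap.mem_ker.mp (hek (hR (her ⟨m, rfl⟩))),
        fun h => hone (Units.ext (sub_eq_zero.mp h))⟩, ?_⟩
      rintro τ ⟨c, hc⟩
      obtain ⟨u₁, hu₁, hu₁e⟩ := hmemG τ₁ h₁ c
      obtain ⟨u₂, hu₂, hu₂e⟩ := hmemG τ₂ h₂ c
      suffices τ = u₁ * u₂ by rw [this]; exact mul_mem hu₁ hu₂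
      have h0 : ((τ₁ : M →ₗ[k] M) - 1) * ((τ₂ : M →ₗ[k] M) - 1) = 0 :=
        LinearMap.ext fun m => LinearMap.mem_ker.mp
          ((hinE τ₁ h₁).2 (hR ((hinE τ₂ h₂).1 ⟨m, rfl⟩)))
      refine Units.ext ?_
      rw [Units.val_mul, hu₁e, hu₂e, hc, ← hedef, he, smul_add]
      rw [show (1 + c • ((τ₁ : M →ₗ[k] M) - 1)) * (1 + c • ((τ₂ : M →ₗ[k] M) - 1)) =
        1 + (c • ((τ₁ : M →ₗ[k] M) - 1) + c • ((τ₂ : M →ₗ[k] M) - 1)) +
          (c • ((τ₁ : M →ₗ[k] M) - 1)) * (c • ((τ₂ : M →ₗ[k] M) - 1)) by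
            rw [add_mul, one_mul, mul_add, mul_one]; abel]
      rw [smul_mul_smul_comm, h0, smul_zero, add_zero]
    have hreq : LinearMap.range e = LinearMap.range n :=
      Submodule.eq_of_le_of_finrank_le her (hσmin _ hq)
    have hkeq : LinearMap.ker e = LinearMap.ker n := by
      refine (Submodule.eq_of_le_of_finrank_le hek ?_).symm
      have h1 := e.finrank_range_add_finrank_ker
      have h2 := n.finrank_range_add_finrank_ker
      rw [hreq] at h1
      omega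
    refine ⟨⟨hq, fun τ hτ => ?_⟩, hkeq, hreq⟩
    refine le_trans (le_of_eq ?_) (hσmin τ hτ)
    show Module.finrank k (LinearMap.range e) = _
    rw [hreq]
    rfl
  have hinv : ∀ τ, (τ ∈ Cfsg.sameActionClass G σ ∨ τ = 1) →
      (τ⁻¹ ∈ Cfsg.sameActionClass G σ ∨ τ⁻¹ = 1) := by
    rintro τ (h | rfl)
    · refine Or.inl ?_
      have hsq := h.1.1.2.1.1
      have hi : ((τ⁻¹ : LinearMap.GeneralLinearGroup k M) : M →ₗ[k] M) =
          1 - ((τ : M →ₗ[k] M) - 1) := by
        refine Units.inv_eq_of_mul_eq_one_right ?_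
        rw [show (τ : M →ₗ[k] M) * (1 - ((τ : M →ₗ[k] M) - 1)) =
          1 - ((τ : M →ₗ[k] M) - 1) * ((τ : M →ₗ[k] M) - 1) by noncomm_ring, hsq, sub_zero]
      have he : ((τ⁻¹ : LinearMap.GeneralLinearGroup k M) : M →ₗ[k] M) - 1 =
          -((τ : M →ₗ[k] M) - 1) := by rw [hi]; abel
      have hr : LinearMap.range (((τ⁻¹ : LinearMap.GeneralLinearGroup k M) : M →ₗ[k] M) - 1) =
          LinearMap.range ((τ : M →ₗ[k] M) - 1) := by rw [he, LinearMap.range_neg]
      have hkk : LinearMap.ker (((τ⁻¹ : LinearMap.GeneralLinearGroup k M) : M →ₗ[k] M) - 1) =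
          LinearMap.ker ((τ : M →ₗ[k] M) - 1) := by rw [he, LinearMap.ker_neg]
      refine ⟨⟨⟨inv_mem h.1.1.1, ⟨by rw [he, neg_mul_neg, hsq],
        by rw [he]; exact neg_ne_zero.mpr h.1.1.2.1.2⟩, ?_⟩, ?_⟩, hkk.trans h.2.1, hr.trans h.2.2⟩
      · rintro u ⟨c, hc⟩
        refine h.1.1.2.2 ⟨-c, ?_⟩
        rw [hc, he, smul_neg, neg_smul]
      · intro t ht
        exact le_trans (le_of_eq (by unfold Cfsg.commutatorRank; rw [hr])) (h.1.2 t ht)
    · exact Or.inr inv_one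
  have hset : (Cfsg.sameActionSubgroup G σ : Set (LinearMap.GeneralLinearGroup k M)) =
      Cfsg.sameActionClass G σ ∪ {1} := by
    refine Set.Subset.antisymm (fun x hx => ?_) ?_
    · show x ∈ Cfsg.sameActionClass G σ ∨ x = 1
      induction hx using Subgroup.closure_induction with
      | mem y hy => exact Or.inl hy
      | one => exact Or.inr rfl
      | mul a b _ _ ha hb => exact hmul a b ha hb
      | inv a _ ha => exact hinv a ha
    · rintro x (hx | hx)
      · exact Subgroup.subset_closure hx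
      · rw [Set.mem_singleton_iff.mp hx]; exact one_mem _
  have hmem : ∀ x, x ∈ Cfsg.sameActionSubgroup G σ → x ∈ Cfsg.sameActionClass G σ ∨ x = 1 := by
    intro x hx
    rw [← SetLike.mem_coe, hset] at hx
    exact hx
  refine ⟨hset, ?_, ?_⟩
  · constructor
    constructor
    rintro ⟨a, ha⟩ ⟨b, hb⟩
    refine Subtype.ext (Units.ext ?_)
    have h1 := hprod0 a b ((hinE b (hmem b hb)).1.trans (hR.trans (hinE a (hmem a ha)).2))
    have h2 := hprod0 b a ((hinE a (hmem a ha)).1.trans (hR.trans (hinE b (hmem b hb)).2))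
    have := h1.trans ((add_comm _ _).trans h2.symm)
    exact sub_left_inj.mp this
  · intro p hp hchar x hx
    have hx' := hinE x (hmem x hx)
    have hpow : ∀ m : ℕ, ((x ^ m : LinearMap.GeneralLinearGroup k M) : M →ₗ[k] M) - 1 =
        m • ((x : M →ₗ[k] M) - 1) := by
      intro m
      induction m with
      | zero => simp
      | succ m ih =>
        rw [pow_succ, hprod0 _ _ ?_, ih, succ_nsmul]
        rintro _ ⟨v, rfl⟩
        rw [LinearMap.mem_ker, ih, LinearMap.smul_apply,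
          LinearMap.mem_ker.mp (hx'.2 (hR (hx'.1 ⟨v, rfl⟩))), smul_zero]
    refine Units.ext (sub_eq_zero.mp ?_)
    rw [Units.val_one, hpow p, ← Nat.cast_smul_eq_nsmul k]
    have : (p : k) = 0 := by rw [← hchar]; exact ringChar.Nat.cast_ringChar
    rw [this, zero_smul]

end Cfsg.Agent.S5059
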