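import Cfsg.Statements.S5060
import Cfsg.Agent.RootSub.Dickson.Main

set_option autoImplicit false
open Cfsg

namespace Cfsg.Agent.S5060

/-- Let k ⊆ K be fields with the characteristic of k not 2 and k not of order 3, and let α ∈ K be a non-zero element algebraic over k. Then the subgroup of SL₂(K) generated by the upper unitriangular matrices with entry c and the lower unitriangular matrices with entry cα, c ranging over k, is exactly the group of matrices of SL₂(K) with all entries in k(α). -/
theorem result {k K : Type*} [Field k] [Field K] [Algebra k K] (hk2 : ringChar k ≠ 2) (hk3 : Nat.card k ≠ 3)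
    (α : K) (hα : IsAlgebraic k α) (hα0 : α ≠ 0) :
    (Subgroup.closure ({g : Matrix.SpecialLinearGroup (Fin 2) K | ∃ c : k, (g : Matrix (Fin 2) (Fin 2) K) = !![1, algebraMap k K c; 0, 1]} ∪
        {g : Matrix.SpecialLinearGroup (Fin 2) K | ∃ c : k, (g : Matrix (Fin 2) (Fin 2) K) = !![1, 0; algebraMap k K c * α, 1]}) :
      Set (Matrix.SpecialLinearGroup (Fin 2) K)) =
    {g : Matrix.SpecialLinearGroup (Fin 2) K | ∀ i j : Fin 2, (g : Matrix (Fin 2) (Fin 2) K) i j ∈ IntermediateField.adjoin k ({α} : Set K)} := by
  open Cfsg.Agent.RootSub.Dickson in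
    have h2 : (2 : k) ≠ 0 := Ring.two_ne_zero hk2
    haveI : FiniteDimensional k (IntermediateField.adjoin k ({α} : Set K)) :=
      IntermediateField.adjoin.finiteDimensional hα.isIntegral
    set L := IntermediateField.adjoin k ({α} : Set K) with hL
    set l : L := IntermediateField.AdjoinSimple.gen k α with hl
    have hval : (L.val : L →ₐ[k] K) l = α := rfl
    have hgen : Algebra.adjoin k ({l} : Set L) = ⊤ := by
      have h : (Algebra.adjoin k ({l} : Set L)).map L.val = (⊤ : Subalgebra k L).map L.val := by
        rw [AlgHom.map_adjoin, Set.image_singleton, hval, Algebra.map_top, IntermediateField.range_val,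
          IntermediateField.adjoin_simple_toSubalgebra_of_isAlgebraic hα]
      exact Subalgebra.map_injective L.val.injective h
    have hl0 : l ≠ 0 := fun h => hα0 (by rw [← hval, h, map_zero])
    have htop := dicksonGroup_eq_top h2 hk3 hl0 hgen
    have hset : Subgroup.closure ({g : Matrix.SpecialLinearGroup (Fin 2) K | ∃ c : k, (g : Matrix (Fin 2) (Fin 2) K) = !![1, algebraMap k K c; 0, 1]} ∪
        {g : Matrix.SpecialLinearGroup (Fin 2) K | ∃ c : k, (g : Matrix (Fin 2) (Fin 2) K) = !![1, 0; algebraMap k K c * α, 1]}) =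
        dicksonGroup k α := by
      rw [dicksonGroup]
      congr 1
      ext g
      constructor
      · rintro (⟨c, hc⟩ | ⟨c, hc⟩)
        · exact Or.inl ⟨c, Subtype.ext hc.symm⟩
        · exact Or.inr ⟨c, Subtype.ext hc.symm⟩
      · rintro (⟨c, rfl⟩ | ⟨c, rfl⟩)
        · exact Or.inl ⟨c, rfl⟩
        · exact Or.inr ⟨c, rfl⟩
    rw [hset, ← hval, ← map_dicksonGroup k L.val l, htop]
    ext g
    constructor
    · rintro ⟨N, -, rfl⟩ i j
      exact (N i j).2
    · intro hg
      refine ⟨⟨Matrix.of fun i j => (⟨g i j, hg i j⟩ : L), ?_⟩, Subgroup.mem_top _, ?_⟩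
      · apply Subtype.ext
        rw [Matrix.det_fin_two]
        exact det2 g
      · exact Subtype.ext (by ext i j; rfl)

end Cfsg.Agent.S5060
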