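import Cfsg.Statements.S5064
import Cfsg.Agent.RootSub.Quad.Scalar

set_option autoImplicit false
universe u
open Cfsg

namespace Cfsg.Agent.S5064

/-- Let k be a field of characteristic not 2 with k not of order 3, M a finite-dimensional k-vector space and G ≤ GL(M) such that (G, M) is a quadratic pair (M irreducible for G, and G generated by its quadratically acting elements σ whose scalar family 1 + c(σ − 1), c ∈ k, lies in G). Write 𝒬_d for the quadratic elements of G of minimal commutator rank, E(σ) for the subgroup generated by the members of 𝒬_d with the same fixed space and commutator space as σ, and Σ for the set of these subgroups. If σ, τ ∈ 𝒬_d and the subgroup H generated by their two scalar families does not act unipotently on M, then H is isomorphic to SL₂ over a simple algebraic extension k(λ) of k. -/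
theorem result {k : Type u} [Field k] (hk2 : ringChar k ≠ 2) (hk3 : Nat.card k ≠ 3)
    {M : Type u} [AddCommGroup M] [Module k M] [FiniteDimensional k M]
    {G : Subgroup (LinearMap.GeneralLinearGroup k M)} (hG : Cfsg.IsQuadraticPair G)
    {σ τ : LinearMap.GeneralLinearGroup k M} (hσ : σ ∈ Cfsg.minimalQuadraticElements G) (hτ : τ ∈ Cfsg.minimalQuadraticElements G)
    (hH : ¬ Cfsg.IsUnipotentOn (Subgroup.closure (Cfsg.scalarFamily σ ∪ Cfsg.scalarFamily τ))) :
    ∃ (K : Type u) (_ : Field K) (_ : Algebra k K) (lam : K), IsAlgebraic k lam ∧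
      IntermediateField.adjoin k ({lam} : Set K) = ⊤ ∧
      Nonempty (↥(Subgroup.closure (Cfsg.scalarFamily σ ∪ Cfsg.scalarFamily τ)) ≃* Matrix.SpecialLinearGroup (Fin 2) K) := by
  open Cfsg.Agent.RootSub Cfsg.Agent.RootSub.Quad Polynomial in
    have h2 : (2 : k) ≠ 0 := Ring.two_ne_zero hk2
    have ha := (isMin_iff σ).mp hσ
    have hb := (isMin_iff τ).mp hτ
    set a : Module.End k M := (σ : Module.End k M) - 1
    set b : Module.End k M := (τ : Module.End k M) - 1
    have hab : IsOpp a b := by
      by_contra hn
      exact hH (isUnipotentOn_mono (closure_families_le ha.self_mem hb.self_mem)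
        (isUnipotentOn_sup_rootGroup h2 hk3 ha hb hn))
    letI := (hab.field h2 hk3 ha hb).toField
    refine ⟨k[X] ⧸ stabIdeal a b, inferInstance, inferInstance,
      Ideal.Quotient.mk (stabIdeal a b) X, ?_, ?_, ?_⟩
    · exact Algebra.IsAlgebraic.isAlgebraic _
    · rw [eq_top_iff]
      intro x _
      refine IntermediateField.algebra_adjoin_le_adjoin k _ ?_
      have : Algebra.adjoin k ({(Ideal.Quotient.mkₐ k (stabIdeal a b)) X} : Set (k[X] ⧸ stabIdeal a b)) = ⊤ := by
        rw [← Set.image_singleton, ← AlgHom.map_adjoin, adjoin_X, Algebra.map_top,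
          AlgHom.range_eq_top]
        exact Ideal.Quotient.mkₐ_surjective k _
      exact this ▸ Algebra.mem_top
    · exact ⟨((MulEquiv.subgroupCongr (closure_families_eq_range ha.toIsQuad hb.toIsQuad)).trans
        (QuotientGroup.quotientKerEquivRange _).symm).trans
        ((QuotientGroup.quotientMulEquivOfEq (ker_wordHom h2 hk3 ha hb hab)).trans
          (QuotientGroup.quotientKerEquivOfSurjective _ (resid_surjective h2 hk3 ha hb hab)))⟩

end Cfsg.Agent.S5064
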