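import Cfsg.Statements.S5066
import Cfsg.Agent.RootSub.Quad.Unipotents

set_option autoImplicit false
universe u
open Cfsg
open scoped commutatorElement

namespace Cfsg.Agent.S5066

/-- Let k be a field of characteristic not 2 with k not of order 3, M a finite-dimensional k-vector space and G ≤ GL(M) such that (G, M) is a quadratic pair (M irreducible for G, and G generated by its quadratically acting elements σ whose scalar family 1 + c(σ − 1), c ∈ k, lies in G). Write 𝒬_d for the quadratic elements of G of minimal commutator rank, E(σ) for the subgroup generated by the members of 𝒬_d with the same fixed space and commutator space as σ, and Σ for the set of these subgroups. Let E, F ∈ Σ generate a subgroup that is nilpotent of class exactly two. Then D = ⁅E, F⁆ belongs to Σ, equals the subgroup generated by the commutators of e with F, and also of E with f, for every non-identity e ∈ E, f ∈ F, and ⟨E, F⟩ lies in U(D), the set of elements g of G normalizing D with (g − 1)M inside the fixed space of D, (g − 1) mapping that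 fixed space into the commutator space of D, and g acting trivially on the commutator space of D. -/
theorem result {k : Type u} [Field k] (hk2 : ringChar k ≠ 2) (hk3 : Nat.card k ≠ 3)
    {M : Type u} [AddCommGroup M] [Module k M] [FiniteDimensional k M]
    {G : Subgroup (LinearMap.GeneralLinearGroup k M)} (hG : Cfsg.IsQuadraticPair G)
    {E F : Subgroup (LinearMap.GeneralLinearGroup k M)} (hE : E ∈ Cfsg.quadraticRootSubgroups G) (hF : F ∈ Cfsg.quadraticRootSubgroups G)
    (h2 : ⁅E ⊔ F, E ⊔ F⁆ ≠ ⊥ ∧ ⁅⁅E ⊔ F, E ⊔ F⁆, E ⊔ F⁆ = ⊥) :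
    ⁅E, F⁆ ∈ Cfsg.quadraticRootSubgroups G ∧
    (∀ e ∈ E, e ≠ 1 → Subgroup.closure ((fun f : LinearMap.GeneralLinearGroup k M => e * f * e⁻¹ * f⁻¹) '' (F : Set (LinearMap.GeneralLinearGroup k M))) = ⁅E, F⁆) ∧
    (∀ f ∈ F, f ≠ 1 → Subgroup.closure ((fun e : LinearMap.GeneralLinearGroup k M => e * f * e⁻¹ * f⁻¹) '' (E : Set (LinearMap.GeneralLinearGroup k M))) = ⁅E, F⁆) ∧
    ((E ⊔ F : Subgroup (LinearMap.GeneralLinearGroup k M)) : Set (LinearMap.GeneralLinearGroup k M)) ⊆ Cfsg.quadraticUnipotentCore G ⁅E, F⁆ := by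
  open Cfsg.Agent.RootSub Cfsg.Agent.RootSub.Quad in
    have h2' : (2 : k) ≠ 0 := Ring.two_ne_zero hk2
    obtain ⟨a, ha, rfl⟩ := mem_quadraticRootSubgroups.mp hE
    obtain ⟨b, hb, rfl⟩ := mem_quadraticRootSubgroups.mp hF
    have hopp : ¬ IsOpp a b := by
      intro hab
      letI := (hab.field h2' hk3 ha hb).toField
      obtain ⟨A₀, B₀, hA₀, hB₀, hcard, φ, hr, hker, -, -⟩ := exists_psl2 h2' hk3 ha hb hab
      have hle : φ.range ≤ rootGroup G a ⊔ rootGroup G b := hr ▸ sup_le_sup hA₀ hB₀
      obtain ⟨c, hc0, hc1⟩ := Dickson.exists_sq_ne_one hk3 h2'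
      have hperf : ⁅φ.range, φ.range⁆ = φ.range := by
        rw [MonoidHom.range_eq_map, ← Subgroup.map_commutator, ← commutator_def,
          commutator_sl2_eq_top]
        refine ⟨algebraMap k _ c, by simpa using hc0, fun h => hc1 ((algebraMap k
          (Polynomial k ⧸ stabIdeal a b)).injective ?_)⟩
        rwa [map_pow, map_one]
      have h1 := Subgroup.commutator_mono hle hle
      rw [hperf] at h1
      have h3 := Subgroup.commutator_mono h1 hle
      rw [hperf, h2.2] at h3
      have hbot : φ.range = ⊥ := le_bot_iff.mp h3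
      rw [MonoidHom.range_eq_bot_iff] at hbot
      have htop : (⊤ : Subgroup (Matrix.SpecialLinearGroup (Fin 2) _)) ≤
          Subgroup.center _ := le_trans (fun g _ => by rw [MonoidHom.mem_ker, hbot]; rfl) hker
      have hup := htop (Subgroup.mem_top (Dickson.upR (1 : Polynomial k ⧸ stabIdeal a b)))
      have := Subgroup.mem_center_iff.mp hup (Dickson.lowR 1)
      have h00 := congrArg (fun g : Matrix.SpecialLinearGroup (Fin 2) (Polynomial k ⧸ stabIdeal a b) =>
        g 0 0) this
      simp [Dickson.coe_upR, Dickson.coe_lowR, Matrix.mul_apply, Fin.sum_univ_two] at h00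
    have hc : a * b - b * a ≠ 0 := by
      intro hc
      have hbot := (commutator_eq_bot_iff h2' hk3 ha hb hopp).mpr hc
      refine h2.1 (le_bot_iff.mp (commutator_sup_le (rootGroup_comm a) (rootGroup_comm b)
        (fun u hu v hv => hbot ▸ Subgroup.commutator_mem_commutator hu hv) fun w hw x hx => ?_))
      rw [Subgroup.mem_bot.mp hw, one_mul, mul_one]
    obtain ⟨h1, hA, hB⟩ := commutator_case h2' hk3 (noUnipNormal_of_irreducible hG.1) ha hb hopp hc
    obtain ⟨hcm, -⟩ := commutator_data h2' hk3 ha hb hopp ha.self_mem hb.self_mem hc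
    refine ⟨h1.symm ▸ hcm.mem_sigma, fun e he he1 => ?_, fun f hf hf1 => ?_, ?_⟩
    · rw [h1]; exact hA e he he1
    · rw [h1]; exact hB f hf hf1
    · rw [h1]; exact sup_subset_core h2' hk3 ha hb hopp hc

end Cfsg.Agent.S5066
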