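import Cfsg.Statements.S5067

set_option autoImplicit false
open Cfsg
open scoped commutatorElement

namespace Cfsg.Agent.S5067

/-- Let P be a non-abelian nilpotent p-group (every element of p-power order; P possibly infinite) generated by two abelian subgroups E and F. Then the normal closure of E in P, and likewise that of F, has nilpotency class strictly smaller than that of P. -/
theorem result {P : Type*} [Group P] {p : ℕ} [Fact p.Prime] (hP : IsPGroup p P) [Group.IsNilpotent P]
    (hna : ¬ IsMulCommutative P) {E F : Subgroup P} (hE : IsMulCommutative ↥E) (hF : IsMulCommutative ↥F) (hgen : E ⊔ F = ⊤) :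
    Group.nilpotencyClass ↥(Subgroup.normalClosure (E : Set P)) < Group.nilpotencyClass P ∧
    Group.nilpotencyClass ↥(Subgroup.normalClosure (F : Set P)) < Group.nilpotencyClass P := by
  classical
  have key : ∀ {A : Subgroup P}, IsMulCommutative ↥A →
      Group.nilpotencyClass ↥(Subgroup.normalClosure (A : Set P)) < Group.nilpotencyClass P := by
    intro A hA
    set c := Group.nilpotencyClass P with hc
    set T : Subgroup P := A ⊔ commutator P with hT
    have hTn : T.Normal := ⟨fun t ht g => by
      have h1 : ⁅g, t⁆ ∈ T := Subgroup.mem_sup_right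
        (Subgroup.commutator_mem_commutator (Subgroup.mem_top g) (Subgroup.mem_top t))
      have h2 := mul_mem h1 ht
      rwa [commutatorElement_def, inv_mul_cancel_right] at h2⟩
    have hle : Subgroup.normalClosure (A : Set P) ≤ T :=
      Subgroup.normalClosure_le_normal (le_sup_left (b := commutator P))
    have hL1 : Subgroup.lowerCentralSeries (⊤ : Subgroup P) 1 = commutator P := by
      rw [Subgroup.lowerCentralSeries_succ, Subgroup.lowerCentralSeries_zero]; rfl
    have hbase : ⁅T, T⁆ ≤ Subgroup.lowerCentralSeries (⊤ : Subgroup P) 2 := by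
      set K := Subgroup.lowerCentralSeries (⊤ : Subgroup P) 2 with hK
      set π := QuotientGroup.mk' K with hπ
      rw [← QuotientGroup.ker_mk' K, ← Subgroup.map_eq_bot_iff, Subgroup.map_commutator,
        Subgroup.map_sup, Subgroup.commutator_eq_bot_iff_le_centralizer]
      have hcent : ∀ d ∈ commutator P, ∀ x : P, π d * π x = π x * π d := by
        intro d hd x
        have h1 : ⁅d, x⁆ ∈ K := by
          rw [hK, Subgroup.lowerCentralSeries_succ, hL1]
          exact Subgroup.commutator_mem_commutator hd (Subgroup.mem_top x)
        have h2 : π ⁅d, x⁆ = 1 := (QuotientGroup.eq_one_iff _).mpr h1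
        rw [map_commutatorElement] at h2
        exact commutatorElement_eq_one_iff_mul_comm.mp h2
      have hAA : ∀ a ∈ A, ∀ b ∈ A, a * b = b * a := fun a ha b hb =>
        congrArg Subtype.val (mul_comm' (⟨a, ha⟩ : ↥A) ⟨b, hb⟩)
      refine sup_le ?_ ?_
      · rintro _ ⟨a, ha, rfl⟩
        rw [Subgroup.mem_centralizer_iff]
        intro y hy
        have : A.map π ⊔ (commutator P).map π ≤ Subgroup.centralizer ({π a} : Set (P ⧸ K)) := by
          refine sup_le ?_ ?_
          · rintro _ ⟨b, hb, rfl⟩
            rw [Subgroup.mem_centralizer_singleton_iff, ← map_mul, hAA b hb a ha, map_mul]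
          · rintro _ ⟨d, hd, rfl⟩
            rw [Subgroup.mem_centralizer_singleton_iff]
            exact hcent d hd a
        exact Subgroup.mem_centralizer_singleton_iff.mp (this hy)
      · rintro _ ⟨d, hd, rfl⟩
        rw [Subgroup.mem_centralizer_iff]
        intro y _
        obtain ⟨x, rfl⟩ := QuotientGroup.mk'_surjective K y
        exact (hcent d hd x).symm
    have hind : ∀ n : ℕ, Subgroup.lowerCentralSeries T (n + 1) ≤
        Subgroup.lowerCentralSeries (⊤ : Subgroup P) (n + 2) := by
      intro n
      induction n with
      | zero => rw [Subgroup.lowerCentralSeries_succ, Subgroup.lowerCentralSeries_zero]; exact hbase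
      | succ n ih =>
        rw [Subgroup.lowerCentralSeries_succ, Subgroup.lowerCentralSeries_succ _ (n + 2)]
        exact Subgroup.commutator_mono ih le_top
    have hc2 : 2 ≤ c := by
      by_contra hlt
      apply hna
      constructor
      constructor
      intro a b
      have hbot : Subgroup.lowerCentralSeries (⊤ : Subgroup P) 1 = ⊥ := by
        rw [Subgroup.lowerCentralSeries_eq_bot_iff_nilpotencyClass_le]; omega
      have h1 : ⁅a, b⁆ = 1 := by
        rw [← Subgroup.mem_bot, ← hbot, hL1]
        exact Subgroup.commutator_mem_commutator (Subgroup.mem_top a) (Subgroup.mem_top b)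
      exact commutatorElement_eq_one_iff_mul_comm.mp h1
    have hbot : Subgroup.lowerCentralSeries (Subgroup.normalClosure (A : Set P)) (c - 1) = ⊥ := by
      rw [eq_bot_iff]
      refine (Subgroup.lowerCentralSeries_mono _ hle).trans ?_
      obtain ⟨d, hd⟩ : ∃ d, c - 1 = d + 1 := ⟨c - 2, by omega⟩
      rw [hd]
      refine (hind d).trans ?_
      rw [show d + 2 = Group.nilpotencyClass P by omega, Subgroup.lowerCentralSeries_nilpotencyClass]
    have hbot' : Subgroup.lowerCentralSeries
        (⊤ : Subgroup ↥(Subgroup.normalClosure (A : Set P))) (c - 1) = ⊥ := by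
      refine (Subgroup.map_eq_bot_iff_of_injective _
        (Subgroup.normalClosure (A : Set P)).subtype_injective).mp ?_
      rw [eq_bot_iff]
      refine (le_of_eq ?_).trans hbot.le
      exact Subgroup.top_subtype_lowerCentralSeries _ _
    have hP' : Group.IsNilpotent ↥(Subgroup.normalClosure (A : Set P)) := inferInstance
    have := (Subgroup.lowerCentralSeries_eq_bot_iff_nilpotencyClass_le).mp hbot'
    omega
  exact ⟨key hE, key hF⟩

end Cfsg.Agent.S5067
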