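import Cfsg.Statements.S5068
import Cfsg.Agent.RootSub.Quad.Unipotents

set_option autoImplicit false
universe u
open Cfsg

namespace Cfsg.Agent.S5068

/-- Let k be a field of characteristic not 2 with k not of order 3, M a finite-dimensional k-vector space and G ≤ GL(M) such that (G, M) is a quadratic pair (M irreducible for G, and G generated by its quadratically acting elements σ whose scalar family 1 + c(σ − 1), c ∈ k, lies in G). Write 𝒬_d for the quadratic elements of G of minimal commutator rank, E(σ) for the subgroup generated by the members of 𝒬_d with the same fixed space and commutator space as σ, and Σ for the set of these subgroups. Let E, F ∈ Σ generate a subgroup acting unipotently on M. Then either E and F commute elementwise, or L = ⁅E, F⁆ belongs to Σ, equals the subgroup generated by the commutators of e with F, and of E with f, for all non-identity e ∈ E, f ∈ F, the group ⟨E, F⟩ is nilpotent of class two, and ⟨E, F⟩ lies in U(L), the set of elements g of G normalizing L with (g − 1)M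 inside the fixed space of L, (g − 1) mapping that fixed space into the commutator space of L, and g acting trivially on the commutator space of L. -/
theorem result {k : Type u} [Field k] (hk2 : ringChar k ≠ 2) (hk3 : Nat.card k ≠ 3)
    {M : Type u} [AddCommGroup M] [Module k M] [FiniteDimensional k M]
    {G : Subgroup (LinearMap.GeneralLinearGroup k M)} (hG : Cfsg.IsQuadraticPair G)
    {E F : Subgroup (LinearMap.GeneralLinearGroup k M)} (hE : E ∈ Cfsg.quadraticRootSubgroups G) (hF : F ∈ Cfsg.quadraticRootSubgroups G)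
    (hu : Cfsg.IsUnipotentOn (E ⊔ F)) :
    ⁅E, F⁆ = ⊥ ∨
    (⁅E, F⁆ ∈ Cfsg.quadraticRootSubgroups G ∧
      (∀ e ∈ E, e ≠ 1 → Subgroup.closure ((fun f : LinearMap.GeneralLinearGroup k M => e * f * e⁻¹ * f⁻¹) '' (F : Set (LinearMap.GeneralLinearGroup k M))) = ⁅E, F⁆) ∧
      (∀ f ∈ F, f ≠ 1 → Subgroup.closure ((fun e : LinearMap.GeneralLinearGroup k M => e * f * e⁻¹ * f⁻¹) '' (E : Set (LinearMap.GeneralLinearGroup k M))) = ⁅E, F⁆) ∧
      ⁅E ⊔ F, E ⊔ F⁆ ≠ ⊥ ∧ ⁅⁅E ⊔ F, E ⊔ F⁆, E ⊔ F⁆ = ⊥ ∧
      ((E ⊔ F : Subgroup (LinearMap.GeneralLinearGroup k M)) : Set (LinearMap.GeneralLinearGroup k M)) ⊆ Cfsg.quadraticUnipotentCore G ⁅E, F⁆) := by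
  open Cfsg.Agent.RootSub Cfsg.Agent.RootSub.Quad in
    have h2 : (2 : k) ≠ 0 := Ring.two_ne_zero hk2
    obtain ⟨a, ha, rfl⟩ := mem_quadraticRootSubgroups.mp hE
    obtain ⟨b, hb, rfl⟩ := mem_quadraticRootSubgroups.mp hF
    have hopp : ¬ IsOpp a b := fun h => h.not_isUnipotentOn h2 ha hb hu
    by_cases hc : a * b - b * a = 0
    · exact Or.inl ((commutator_eq_bot_iff h2 hk3 ha hb hopp).mpr hc)
    · obtain ⟨h1, h2', h3'⟩ := commutator_case h2 hk3 (noUnipNormal_of_irreducible hG.1) ha hb hopp hc
      obtain ⟨hcm, -⟩ := commutator_data h2 hk3 ha hb hopp ha.self_mem hb.self_mem hc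
      obtain ⟨c1, c2⟩ := class_two h2 hk3 ha hb hopp hc (noUnipNormal_of_irreducible hG.1)
      refine Or.inr ⟨h1.symm ▸ hcm.mem_sigma, fun e he he1 => ?_, fun f hf hf1 => ?_, c1, c2, ?_⟩
      · rw [h1]; exact h2' e he he1
      · rw [h1]; exact h3' f hf hf1
      · rw [h1]; exact sup_subset_core h2 hk3 ha hb hopp hc

end Cfsg.Agent.S5068
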