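import Cfsg.Statements.S5073
import Cfsg.Agent.RootSub.Quad.Unipotents

set_option autoImplicit false
universe u
open Cfsg
open scoped commutatorElement

namespace Cfsg.Agent.S5073

/-- Let k be a field of characteristic not 2 with k not of order 3, M a finite-dimensional k-vector space and G ≤ GL(M) such that (G, M) is a quadratic pair (M irreducible for G, and G generated by its quadratically acting elements σ whose scalar family 1 + c(σ − 1), c ∈ k, lies in G). Write 𝒬_d for the quadratic elements of G of minimal commutator rank, E(σ) for the subgroup generated by the members of 𝒬_d with the same fixed space and commutator space as σ, and Σ for the set of these subgroups. Let E, F ∈ Σ. If some non-identity element of E commutes with some non-identity element of F, or some non-identity element of E normalizes F, then E and F commute elementwise. -/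
theorem result {k : Type u} [Field k] (hk2 : ringChar k ≠ 2) (hk3 : Nat.card k ≠ 3)
    {M : Type u} [AddCommGroup M] [Module k M] [FiniteDimensional k M]
    {G : Subgroup (LinearMap.GeneralLinearGroup k M)} (hG : Cfsg.IsQuadraticPair G)
    {E F : Subgroup (LinearMap.GeneralLinearGroup k M)} (hE : E ∈ Cfsg.quadraticRootSubgroups G) (hF : F ∈ Cfsg.quadraticRootSubgroups G)
    (h : (∃ e ∈ E, e ≠ 1 ∧ ∃ f ∈ F, f ≠ 1 ∧ e * f = f * e) ∨ E ⊓ Subgroup.normalizer (F : Set (LinearMap.GeneralLinearGroup k M)) ≠ ⊥) :
    ⁅E, F⁆ = ⊥ := by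
  open Cfsg.Agent.RootSub Cfsg.Agent.RootSub.Quad in
    have h2 : (2 : k) ≠ 0 := Ring.two_ne_zero hk2
    obtain ⟨a, ha, rfl⟩ := mem_quadraticRootSubgroups.mp hE
    obtain ⟨b, hb, rfl⟩ := mem_quadraticRootSubgroups.mp hF
    -- an element of each commutes, or we are done
    by_cases hopp : IsOpp a b
    · exfalso
      rcases h with ⟨e, he, he1, f, hf, hf1, hef⟩ | hn
      · obtain ⟨hx, hx0⟩ := exists_quadratic_ne_one_rep he he1
        obtain ⟨hy, hy0⟩ := exists_quadratic_ne_one_rep hf hf1
        refine commute_of_opp h2 hk3 ha hb hopp hx hx0 hy hy0 ?_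
        have hef' := congrArg Units.val hef
        simp only [Units.val_mul] at hef'
        simp only [mul_sub, sub_mul, one_mul, mul_one, hef']
        abel
      · apply hn
        rw [eq_bot_iff]
        intro e he
        obtain ⟨heE, heN⟩ := Subgroup.mem_inf.mp he
        rw [Subgroup.mem_bot]
        refine eq_of_conj_eq h2 hk3 hb ha hopp.symm heE (one_mem _) ?_
        rw [conjBy_eq_self_iff.mpr heN, conjBy_eq_self_iff.mpr (one_mem _)]
    · have key : ∀ x ∈ rootSpace G a, x ≠ 0 → ∀ y ∈ rootSpace G b, y ≠ 0 → x * y = y * x →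
          ⁅rootGroup G a, rootGroup G b⁆ = ⊥ := fun x hx hx0 y hy hy0 hxy =>
        (commutator_eq_bot_iff h2 hk3 ha hb hopp).mpr (sub_eq_zero.mpr
          (commute_all h2 hk3 ha hb hopp hx hx0 hy hy0 hxy ha.self_mem hb.self_mem))
      rcases h with ⟨e, he, he1, f, hf, hf1, hef⟩ | hn
      · obtain ⟨hx, hx0⟩ := exists_quadratic_ne_one_rep he he1
        obtain ⟨hy, hy0⟩ := exists_quadratic_ne_one_rep hf hf1
        refine key _ hx hx0 _ hy hy0 ?_
        have hef' := congrArg Units.val hef
        simp only [Units.val_mul] at hef'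
        simp only [mul_sub, sub_mul, one_mul, mul_one, hef']
        abel
      · obtain ⟨e, he, he1⟩ : ∃ e ∈ rootGroup G a ⊓ Subgroup.normalizer (rootGroup G b : Set _), e ≠ 1 := by
          by_contra hcon
          push Not at hcon
          exact hn (eq_bot_iff.mpr fun e he => Subgroup.mem_bot.mpr (hcon e he))
        obtain ⟨heE, heN⟩ := Subgroup.mem_inf.mp he
        obtain ⟨hx, hx0⟩ := exists_quadratic_ne_one_rep heE he1
        by_contra hne
        have hc : a * b - b * a ≠ 0 := fun h0 => hne ((commutator_eq_bot_iff h2 hk3 ha hb hopp).mpr h0)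
        set v := oneAddUnit b hb.sq with hv
        have hvm : v ∈ rootGroup G b := oneAddUnit_mem hb.self_mem _
        have hcomm : ⁅e, v⁆ ∈ rootGroup G b := by
          have := mul_mem ((Subgroup.mem_normalizer_iff.mp heN v).mp hvm) (inv_mem hvm)
          exact this
        rw [mem_rootGroup, commutatorElement_root h2 hk3 ha hb hopp heE hvm, add_sub_cancel_left,
          hv, coe_oneAddUnit, add_sub_cancel_left] at hcomm
        have hz0 := commutator_ne_zero h2 hk3 ha hb hopp hc hx hx0 hb.self_mem hb.ne_zero
        obtain ⟨e1, e2⟩ := commutator_annihilates h2 hk3 ha hb hopp hc hx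
          (commutator_mem h2 hk3 ha hb hopp hc hx hb.self_mem)
        exact hne (key _ hx hx0 _ hcomm hz0 (by rw [e1, e2]))

end Cfsg.Agent.S5073
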