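import Cfsg.Statements.S5094
import Cfsg.Agent.Invol.ZStarElt
import Cfsg.Agent.FusSys.Normal
import Cfsg.Agent.Core.Basics

set_option autoImplicit false
open Cfsg

namespace Cfsg.Agent.S5094

/-- Glauberman's Z*-Theorem in fusion language: for a finite group G with Sylow 2-subgroup S, the centre of the fusion system of G on S is the set of elements of S whose image in G/O(G) is central, O(G) being the largest normal subgroup of odd order. -/
theorem result {G : Type*} [Group G] [Finite G] (S : Sylow 2 G) : (Cfsg.groupFusionSystem (S : Subgroup G)).center = (S : Subgroup G) ⊓ (Subgroup.center (G ⧸ Cfsg.oddCore G)).comap (QuotientGroup.mk' (Cfsg.oddCore G)) := by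
  set O := Cfsg.oddCore G with hOdef
  have hOS : ∀ w ∈ O, w ∈ (S : Subgroup G) → w = 1 := by
    intro w hw hwS
    obtain ⟨j, hj⟩ := IsPGroup.iff_orderOf.1 S.2 ⟨w, hwS⟩
    rw [Subgroup.orderOf_mk] at hj
    have h2 := orderOf_dvd_natCard (⟨w, hw⟩ : O)
    rw [Subgroup.orderOf_mk, hj] at h2
    rcases Nat.eq_zero_or_pos j with rfl | hj0
    · exact orderOf_eq_one_iff.1 (by simpa using hj)
    · exact absurd ((dvd_pow_self 2 hj0.ne').trans h2) Cfsg.Agent.Core.not_dvd_card_pPrimeCore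
  refine le_antisymm (fun x hx => ?_) (Cfsg.Agent.FusSys.le_center ?_)
  · have hc := Cfsg.Agent.FusSys.isCentral_center (F := Cfsg.groupFusionSystem (S : Subgroup G))
    have hiso : ∀ y ∈ Subgroup.zpowers x, ∀ g : G, g * y * g⁻¹ ∈ S → g * y * g⁻¹ = y := by
      intro y hy g hg
      have hyC := (Subgroup.zpowers_le.2 hx) hy
      obtain ⟨ψ, -, h1, h2⟩ := hc.2 (Subgroup.zpowers y)
        ((MulAut.conj g).toMonoidHom.comp (Subgroup.zpowers y).subtype)
        ⟨Subgroup.zpowers_le.2 (hc.1 hyC), fun w => by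
          obtain ⟨i, hi⟩ := Subgroup.mem_zpowers_iff.1 w.2
          show g * (w : G) * g⁻¹ ∈ S
          rw [← hi, ← conj_zpow]
          exact zpow_mem hg i, g, fun w => rfl⟩
      have e1 := h1 ⟨y, Subgroup.mem_zpowers y⟩
      have e2 := h2 ⟨y, hyC⟩
      exact e1.symm.trans e2
    refine ⟨hc.1 hx, Subgroup.mem_center_iff.2 fun q => ?_⟩
    obtain ⟨g, rfl⟩ := QuotientGroup.mk'_surjective O q
    have h := (QuotientGroup.eq_one_iff _).2 (Cfsg.Agent.Invol.zstar_elt S (hc.1 hx) hiso g)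
    rw [QuotientGroup.mk_mul, QuotientGroup.mk_mul, QuotientGroup.mk_mul, QuotientGroup.mk_inv,
      QuotientGroup.mk_inv, mul_inv_eq_one, mul_inv_eq_iff_eq_mul] at h
    exact h.symm
  set Q := (S : Subgroup G) ⊓ (Subgroup.center (G ⧸ O)).comap (QuotientGroup.mk' O) with hQ
  have hcomO : ∀ x ∈ Q, ∀ g : G, g * x * g⁻¹ * x⁻¹ ∈ O := fun x hx g => by
    refine (QuotientGroup.eq_one_iff _).1 ?_
    have h := Subgroup.mem_center_iff.1 hx.2 (QuotientGroup.mk' O g)
    simp only [QuotientGroup.mk'_apply] at h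
    rw [QuotientGroup.mk_mul, QuotientGroup.mk_mul, QuotientGroup.mk_mul, QuotientGroup.mk_inv,
      QuotientGroup.mk_inv, h, mul_inv_cancel_right, mul_inv_cancel]
  have hQS : ∀ x ∈ Q, ∀ s ∈ (S : Subgroup G), s * x = x * s := fun x hx s hs => by
    have h := hOS _ (hcomO x hx s) (mul_mem (mul_mem (mul_mem hs hx.1) (inv_mem hs)) (inv_mem hx.1))
    rwa [mul_inv_eq_one, mul_inv_eq_iff_eq_mul] at h
  refine ⟨inf_le_left, fun P φ hφ => ?_⟩
  obtain ⟨hPS, hφS, g, hg⟩ := hφ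
  set K := (O ⊔ Q) ⊓ Subgroup.centralizer (Set.range φ) with hK
  have hQK : Q ≤ K := fun x hx => ⟨Subgroup.mem_sup_right hx, Subgroup.mem_centralizer_iff.2
    fun w ⟨p, hp⟩ => hp ▸ hQS x hx _ (hφS p)⟩
  have hgQK : Q.map (MulAut.conj g).toMonoidHom ≤ K := by
    rintro _ ⟨x, hx, rfl⟩
    refine ⟨?_, Subgroup.mem_centralizer_iff.2 ?_⟩
    · have : g * x * g⁻¹ = g * x * g⁻¹ * x⁻¹ * x := by group
      show g * x * g⁻¹ ∈ O ⊔ Q
      rw [this]
      exact mul_mem (Subgroup.mem_sup_left (hcomO x hx g)) (Subgroup.mem_sup_right hx)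
    · rintro w ⟨p, rfl⟩
      show φ p * (g * x * g⁻¹) = g * x * g⁻¹ * φ p
      rw [hg p]
      calc g * (p : G) * g⁻¹ * (g * x * g⁻¹) = g * ((p : G) * x) * g⁻¹ := by group
        _ = g * (x * (p : G)) * g⁻¹ := by rw [hQS x hx _ (hPS p.2)]
        _ = _ := by group
  have hidx : ∀ R : Subgroup G, R ≤ K → Nat.card R = Nat.card Q → ¬ 2 ∣ (R.subgroupOf K).index := by
    intro R hRK hR h2
    have e : Nat.card R * (R.subgroupOf K).index = Nat.card K := by
      rw [← Nat.card_congr (Subgroup.subgroupOfEquivOfLe hRK).toEquiv]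
      exact Subgroup.card_mul_index _
    have hd : Nat.card K ∣ Nat.card Q * Nat.card O := by
      refine (Subgroup.card_dvd_of_le (show K ≤ Q ⊔ O from inf_le_left.trans (sup_comm O Q).le)).trans ?_
      exact Cfsg.Agent.Core.card_sup_dvd_mul Q O
    rw [← e, hR] at hd
    exact Cfsg.Agent.Core.not_dvd_card_pPrimeCore
      (h2.trans ((Nat.mul_dvd_mul_iff_left Nat.card_pos).1 hd))
  have hQp : IsPGroup 2 (Q.subgroupOf K) := (S.2.to_le inf_le_left).comap_subtype
  have hQ'p : IsPGroup 2 ((Q.map (MulAut.conj g).toMonoidHom).subgroupOf K) :=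
    ((S.2.to_le inf_le_left).map _).comap_subtype
  obtain ⟨d, hd⟩ := MulAction.exists_smul_eq K
    (hQ'p.toSylow (hidx _ hgQK (Nat.card_congr
      (Q.equivMapOfInjective _ (MulAut.conj g).injective).toEquiv).symm))
    (hQp.toSylow (hidx _ hQK rfl))
  have hfix : ∀ x ∈ Q, ((d : G) * g) * x * ((d : G) * g)⁻¹ = x := by
    intro x hx
    have hmem : d * ⟨g * x * g⁻¹, hgQK ⟨x, hx, rfl⟩⟩ * d⁻¹ ∈
        ((hQp.toSylow (hidx _ hQK rfl) : Sylow 2 K) : Subgroup K) := by
      rw [← hd, Sylow.coe_subgroup_smul]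
      exact ⟨⟨g * x * g⁻¹, hgQK ⟨x, hx, rfl⟩⟩, ⟨x, hx, rfl⟩, rfl⟩
    have hmem' : ((d : G) * g) * x * ((d : G) * g)⁻¹ ∈ Q := by
      rw [show ((d : G) * g) * x * ((d : G) * g)⁻¹ = (d : G) * (g * x * g⁻¹) * (d : G)⁻¹ by group]
      exact hmem
    exact mul_inv_eq_one.1 (hOS _ (hcomO x hx _) (mul_mem hmem'.1 (inv_mem hx.1)))
  refine ⟨(MulAut.conj ((d : G) * g)).toMonoidHom.comp (P ⊔ Q).subtype,
    ⟨sup_le hPS inf_le_left, fun y => ?_, _, fun _ => rfl⟩, fun p => ?_, fun x => hfix x x.2⟩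
  · have hle : P ⊔ Q ≤ (S : Subgroup G).comap (MulAut.conj ((d : G) * g)).toMonoidHom := by
      refine sup_le (fun p hp => ?_) (fun x hx => ?_)
      · show (d : G) * g * p * ((d : G) * g)⁻¹ ∈ (S : Subgroup G)
        have hcd := Subgroup.mem_centralizer_iff.1 d.2.2 _ ⟨⟨p, hp⟩, rfl⟩
        have hS := hφS ⟨p, hp⟩
        rw [hg] at hcd hS
        rw [show (d : G) * g * p * ((d : G) * g)⁻¹ = (d : G) * (g * p * g⁻¹) * (d : G)⁻¹ by group,
          ← hcd, mul_inv_cancel_right]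
        exact hS
      · show (d : G) * g * x * ((d : G) * g)⁻¹ ∈ (S : Subgroup G)
        rw [hfix x hx]
        exact hx.1
    exact hle y.2
  · show (d : G) * g * (p : G) * ((d : G) * g)⁻¹ = φ p
    have hcd := Subgroup.mem_centralizer_iff.1 d.2.2 _ ⟨p, rfl⟩
    rw [hg] at hcd ⊢
    rw [show (d : G) * g * (p : G) * ((d : G) * g)⁻¹ = (d : G) * (g * p * g⁻¹) * (d : G)⁻¹ by group,
      ← hcd, mul_inv_cancel_right]

end Cfsg.Agent.S5094
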