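import Cfsg.Statements.S5102
import Cfsg.Agent.FusSys.GroupSys

set_option autoImplicit false
open Cfsg

namespace Cfsg.Agent.S5102

/-- A normal p-subgroup of a finite group G is normal in the fusion system of G on a Sylow p-subgroup. -/
theorem result {G : Type*} [Group G] [Finite G] (p : ℕ) [Fact p.Prime] (S : Sylow p G) (R : Subgroup G) [R.Normal] (hR : IsPGroup p R) : (Cfsg.groupFusionSystem (S : Subgroup G)).IsNormal R := by
  have hRS : R ≤ (S : Subgroup G) := by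
    obtain ⟨g, hg⟩ := Cfsg.Agent.FusSys.exists_conj_mem_sylow hR S
    intro x hx
    have h1 := hg (g⁻¹ * x * g) (Subgroup.Normal.conj_mem' inferInstance x hx g)
    simpa [mul_assoc] using h1
  refine Cfsg.Agent.FusSys.isNormal_iff.2 ⟨hRS, fun P f hf => ?_⟩
  obtain ⟨hP, hfS, g, hg⟩ := Cfsg.Agent.FusSys.mor_gfs.1 hf
  refine ⟨fun x => g * x * g⁻¹, Cfsg.Agent.FusSys.mor_gfs.2 ⟨sup_le hP hRS, fun x hx => ?_, g,
    fun _ _ => rfl⟩, fun x hx => (hg x hx).symm, fun y => ⟨fun hy => ?_, ?_⟩⟩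
  · obtain ⟨a, ha, r, hr, rfl⟩ := Subgroup.mem_sup_of_normal_right.1 hx
    have e : g * (a * r) * g⁻¹ = g * a * g⁻¹ * (g * r * g⁻¹) := by group
    rw [e]
    exact S.mul_mem (hg a ha ▸ hfS a ha) (hRS (Subgroup.Normal.conj_mem inferInstance r hr g))
  · exact ⟨g⁻¹ * y * g, Subgroup.Normal.conj_mem' inferInstance y hy g, by group⟩
  · rintro ⟨x, hx, rfl⟩
    exact Subgroup.Normal.conj_mem inferInstance x hx g

end Cfsg.Agent.S5102
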