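import Cfsg.Statements.S5107
import Cfsg.Agent.FusSys.GroupSys
import Cfsg.Agent.FusSys.Series

set_option autoImplicit false
open Cfsg

namespace Cfsg.Agent.S5107

/-- If a Sylow p-subgroup S of a finite group G has nilpotency class at most two and its centre is strongly closed in S with respect to G, then every map of the fusion system of G on S is conjugation by an element of N_G(S), and S is the largest subgroup normal in that fusion system. -/
theorem result {G : Type*} [Group G] [Finite G] (p : ℕ) [Fact p.Prime] (S : Sylow p G) (hcl : ⁅(S : Subgroup G), (S : Subgroup G)⁆ ≤ (S : Subgroup G) ⊓ Subgroup.centralizer ((S : Subgroup G) : Set G)) (hZ : Cfsg.IsStronglyClosed ((S : Subgroup G) ⊓ Subgroup.centralizer ((S : Subgroup G) : Set G)) (S : Subgroup G)) : (∀ (P : Subgroup G) (φ : P →* G), φ ∈ (Cfsg.groupFusionSystem (S : Subgroup G)).Hom P → ∃ g ∈ Subgroup.normalizer ((S : Subgroup G) : Set G), ∀ x : P, φ x = g * (x : G) * g⁻¹) ∧ (Cfsg.groupFusionSystem (S :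 Subgroup G)).core = S := by
  have hsat := Cfsg.Agent.FusSys.gfs_saturated S
  have hZc : (Cfsg.groupFusionSystem (S : Subgroup G)).StronglyClosed
      ((S : Subgroup G) ⊓ Subgroup.centralizer ((S : Subgroup G) : Set G)) := by
    refine Cfsg.Agent.FusSys.stronglyClosed_iff.2 ⟨inf_le_left, fun R f hR hf x hx => ?_⟩
    obtain ⟨-, hfS, g, hg⟩ := Cfsg.Agent.FusSys.mor_gfs.1 hf
    have h1 := hfS x hx
    rw [hg x hx] at h1 ⊢
    exact hZ.2 x (hR hx) g h1
  have hSc : (Cfsg.groupFusionSystem (S : Subgroup G)).StronglyClosed (S : Subgroup G) :=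
    Cfsg.Agent.FusSys.stronglyClosed_iff.2 ⟨le_rfl, fun R f _ hf x hx => hf.mem_S hx⟩
  have hSn : (Cfsg.groupFusionSystem (S : Subgroup G)).IsNormal (S : Subgroup G) := by
    refine Cfsg.Agent.FusSys.isNormal_of_closed_series S.2 hsat (n := 2)
      (C := ![⊥, (S : Subgroup G) ⊓ Subgroup.centralizer ((S : Subgroup G) : Set G), (S : Subgroup G)])
      rfl rfl ?_ fun i => ?_
    · intro i j hij
      fin_cases i <;> fin_cases j <;> simp_all
    · fin_cases i
      · refine ⟨hZc, ?_⟩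
        show ⁅(S : Subgroup G), (S : Subgroup G) ⊓ Subgroup.centralizer _⁆ ≤ ⊥
        rw [Subgroup.commutator_le]
        intro a ha b hb
        rw [Subgroup.mem_bot, commutatorElement_eq_one_iff_mul_comm]
        exact Subgroup.mem_centralizer_iff.1 hb.2 a ha
      · exact ⟨hSc, hcl⟩
  refine ⟨fun P φ hφ => ?_, le_antisymm (Cfsg.Agent.FusSys.isNormal_core).1
    (Cfsg.Agent.FusSys.le_core hSn)⟩
  obtain ⟨k, hk, hkφ, hkS⟩ := (Cfsg.Agent.FusSys.isNormal_iff.1 hSn).2 P _
    (Cfsg.Agent.FusSys.mor_extendFn hφ)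
  obtain ⟨-, -, g, hg⟩ := Cfsg.Agent.FusSys.mor_gfs.1 hk
  refine ⟨g, Subgroup.mem_normalizer_fintype (S := ((S : Subgroup G) : Set G)) fun y hy => ?_,
    fun x => ?_⟩
  · rw [← hg y (Subgroup.mem_sup_right hy)]
    exact (hkS _).2 ⟨y, hy, rfl⟩
  · rw [← Cfsg.Agent.FusSys.extendFn_coe φ x, ← hkφ x x.2, hg x (Subgroup.mem_sup_left x.2)]

end Cfsg.Agent.S5107
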