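import Cfsg.Statements.S5115
import Cfsg.Agent.FusSys.ConstrainedGfs

set_option autoImplicit false
open Cfsg

namespace Cfsg.Agent.S5115

/-- If the 2-fusion system of a finite group G on a Sylow 2-subgroup S is constrained, then for every subnormal subgroup H of G the 2-fusion system of H on S ∩ H is constrained. -/
theorem result {G : Type*} [Group G] [Finite G] (S : Sylow 2 G) (hF : (Cfsg.groupFusionSystem (S : Subgroup G)).IsConstrained 2) (H : Subgroup G) (hH : H.IsSubnormal) : (Cfsg.groupFusionSystem ((S : Subgroup G).subgroupOf H)).IsConstrained 2 := by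
  suffices h : ∃ T : Sylow 2 H, (T : Subgroup H) = (S : Subgroup G).subgroupOf H ∧
      (Cfsg.groupFusionSystem (T : Subgroup H)).IsConstrained 2 by
    obtain ⟨T, hT, h⟩ := h
    exact hT ▸ h
  induction hH with
  | top =>
    let e : (⊤ : Subgroup G) →* G := (⊤ : Subgroup G).subtype
    obtain ⟨T, hT⟩ : ∃ T : Sylow 2 (⊤ : Subgroup G), (T : Subgroup (⊤ : Subgroup G)) = (S : Subgroup G).subgroupOf ⊤ :=
      ⟨S.subtype le_top, S.coe_subtype le_top⟩
    refine ⟨T, hT, ?_⟩
    haveI : e.range.Normal := by rw [Subgroup.range_subtype]; infer_instance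
    refine Cfsg.Agent.FusSys.gfs_constrained_normal (Subgroup.subtype_injective _) S T ?_ hF
    rw [hT, Subgroup.subgroupOf_map_subtype, Subgroup.range_subtype]
  | step H K hle _ hN ih =>
    obtain ⟨R, hR, hRc⟩ := ih
    haveI := hN
    have hs := (Cfsg.Agent.FusSys.sylow_inter_normal R (H.subgroupOf K)).2
    rw [Subgroup.inf_relIndex_right, hR, Subgroup.relIndex_subgroupOf hle] at hs
    have hp : IsPGroup 2 ((S : Subgroup G).subgroupOf H) := S.2.comap_subtype
    refine ⟨hp.toSylow hs, rfl, ?_⟩
    haveI : (Subgroup.inclusion hle).range.Normal := by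
      rw [Subgroup.inclusion_range]; exact hN
    refine Cfsg.Agent.FusSys.gfs_constrained_normal (Subgroup.inclusion_injective hle) R _ ?_ hRc
    ext x
    simp only [Subgroup.mem_map, Subgroup.mem_inf, hR, Subgroup.mem_subgroupOf, MonoidHom.mem_range]
    constructor
    · rintro ⟨y, hy, rfl⟩
      exact ⟨hy, y, rfl⟩
    · rintro ⟨hx, y, rfl⟩
      exact ⟨y, hx, rfl⟩

end Cfsg.Agent.S5115
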