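import Cfsg.Statements.S5119
import Cfsg.Agent.FusSys.InvariantCrit

set_option autoImplicit false
open Cfsg

namespace Cfsg.Agent.S5119

/-- Let F be a saturated fusion system over a finite p-group S and E a subsystem of F over a subgroup T that is strongly closed in F. Then E is invariant in F (invariance under Aut_F(T) plus the Frattini condition) if and only if the strong invariance condition holds: for P ≤ Q ≤ T, every map φ of E from P into Q and every map ψ of F with source Q, the transported map ψ φ ψ⁻¹ on ψ(P) is a map of E. -/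
theorem result {Ω : Type*} [Group Ω] {S : Subgroup Ω} [Finite S] (p : ℕ) [Fact p.Prime] (hS : IsPGroup p S) (F : Cfsg.FusionSystem S) (hF : F.IsSaturated p) {T : Subgroup Ω} (E : Cfsg.FusionSystem T) (hE : E.IsSubsystemOf F) (hT : F.StronglyClosed T) : E.IsInvariantIn F ↔ ∀ (P Q : Subgroup Ω) (hPQ : P ≤ Q) (_ : Q ≤ T) (φ : P →* Ω) (_ : φ ∈ E.Hom P) (hφQ : ∀ x : P, φ x ∈ Q) (ψ : Q →* Ω) (_ : ψ ∈ F.Hom Q), ∃ χ ∈ E.Hom ((P.subgroupOf Q).map ψ), ∀ (x : P) (hx : ψ (Subgroup.inclusion hPQ x) ∈ (P.subgroupOf Q).map ψ), χ ⟨ψ (Subgroup.inclusion hPQ x), hx⟩ = ψ ⟨φ x, hφQ x⟩ := by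
  constructor
  · intro hI P Q hPQ hQT φ hφ hφQ ψ hψ
    obtain ⟨β, hβ, g, hg, hfg⟩ := Cfsg.Agent.FusSys.exists_frattini hI hQT (Cfsg.Agent.FusSys.mor_extendFn hψ)
    have hφ' := Cfsg.Agent.FusSys.mor_extendFn hφ
    obtain ⟨R, hR⟩ := (hg.mono hPQ).exists_iso
    obtain ⟨g', hg', hgl, -⟩ := hR.symm
    have h1 : Cfsg.Agent.FusSys.Mor E R (g ∘ (Cfsg.Agent.FusSys.extendFn φ ∘ g')) := by
      refine (hg'.1.comp hφ' fun y hy => hg'.mem hy).comp hg fun y hy => ?_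
      show Cfsg.Agent.FusSys.extendFn φ (g' y) ∈ Q
      rw [Cfsg.Agent.FusSys.extendFn_apply φ (hg'.mem hy)]
      exact hφQ _
    obtain ⟨h, hh, hhx⟩ := Cfsg.Agent.FusSys.exists_transport hI h1 hβ
    have hle : (P.subgroupOf Q).map ψ ≤ (R.subgroupOf T).map (T.subtype.comp β.toMonoidHom) := by
      rintro _ ⟨x, hx, rfl⟩
      refine ⟨⟨g x, hg.mem_S x.2⟩, hR.mem hx, ?_⟩
      show ((β ⟨g x, _⟩ : T) : Ω) = ψ x
      rw [← Cfsg.Agent.FusSys.apl_apply, ← hfg x x.2, Cfsg.Agent.FusSys.extendFn_coe]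
    obtain ⟨χ, hχ, hχx⟩ := hh.mono hle
    refine ⟨χ, hχ, fun x hx => ?_⟩
    have h2 := hhx _ (hR.mem x.2)
    have h3 := hfg _ (hPQ x.2)
    rw [Cfsg.Agent.FusSys.extendFn_apply ψ (hPQ x.2)] at h3
    have h4 := hfg _ (hφQ x)
    rw [Cfsg.Agent.FusSys.extendFn_apply ψ (hφQ x)] at h4
    rw [hχx]
    show h (ψ (Subgroup.inclusion hPQ x)) = _
    rw [h4, show ψ (Subgroup.inclusion hPQ x) = _ from h3, h2]
    show Cfsg.Agent.FusSys.apl β (g (Cfsg.Agent.FusSys.extendFn φ (g' (g (x : Ω))))) = _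
    rw [hgl _ x.2, Cfsg.Agent.FusSys.extendFn_coe]
  intro h
  have hI : Cfsg.Agent.FusSys.StrongInv E F := by
    intro P Q f g hPQ hQT hf hfQ hg P' hP'
    obtain ⟨φ, hφ, hφf⟩ := hf
    obtain ⟨ψ, hψ, hψg⟩ := hg
    obtain ⟨χ, hχ, hχx⟩ := h P Q hPQ hQT φ hφ (fun x => (hφf x).symm ▸ hfQ x x.2) ψ hψ
    have e : P' = (P.subgroupOf Q).map ψ := by
      ext y
      rw [hP' y]
      exact ⟨fun ⟨x, hx, hxy⟩ => ⟨⟨x, hPQ hx⟩, hx, (hψg _).trans hxy⟩,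
        fun ⟨x, hx, hxy⟩ => ⟨x, hx, (hψg x).symm.trans hxy⟩⟩
    subst e
    refine ⟨_, Cfsg.Agent.FusSys.mor_extendFn hχ, fun x hx => ?_⟩
    have hmem : ψ (Subgroup.inclusion hPQ ⟨x, hx⟩) ∈ (P.subgroupOf Q).map ψ :=
      ⟨Subgroup.inclusion hPQ ⟨x, hx⟩, hx, rfl⟩
    have h1 := hχx ⟨x, hx⟩ hmem
    rw [show g x = ψ (Subgroup.inclusion hPQ ⟨x, hx⟩) from (hψg (Subgroup.inclusion hPQ ⟨x, hx⟩)).symm,
      Cfsg.Agent.FusSys.extendFn_apply χ hmem, h1, hψg]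
    exact congrArg g (hφf ⟨x, hx⟩)
  refine ⟨hE, hT, fun P hPT φ hφ α hα => ?_, fun P hPT φ hφ => ?_⟩
  · obtain ⟨ψ, hψ, hψx⟩ := (Cfsg.Agent.FusSys.iso_apl (F := F) hT.1 hα).1
    obtain rfl : ψ = T.subtype.comp α.toMonoidHom :=
      MonoidHom.ext fun x => (hψx x).trans (Cfsg.Agent.FusSys.apl_coe α x)
    obtain ⟨χ, hχ, hχx⟩ := h P T hPT le_rfl φ hφ (fun x => (E.le_of_mem hφ).2 x) _ hψ
    exact ⟨χ, hχ, fun x _ hαx => hχx x hαx⟩
  · obtain ⟨β, hβ, g, ⟨φ₀, hφ₀, h₀⟩, hfg⟩ := Cfsg.Agent.FusSys.frattini_of_strongInv hT hI hS hF P hPT _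
      (Cfsg.Agent.FusSys.mor_extendFn hφ)
    refine ⟨β, hβ, φ₀, hφ₀, fun x hx => ?_⟩
    rw [← Cfsg.Agent.FusSys.apl_apply β hx, h₀, ← Cfsg.Agent.FusSys.extendFn_coe φ x]
    exact hfg x x.2

end Cfsg.Agent.S5119
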