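import Cfsg.Statements.S5121
import Cfsg.Agent.FusSys.NormalModel

set_option autoImplicit false
open Cfsg

namespace Cfsg.Agent.S5121

/-- Let G be a finite group with Sylow p-subgroup S and C_G(O_p(G)) ≤ O_p(G). For every subgroup T ≤ S and every normal subsystem E over T of the fusion system of G on S there is exactly one normal subgroup H of G containing T as a Sylow p-subgroup whose fusion system on T is E. -/
theorem result {G : Type*} [Group G] [Finite G] (p : ℕ) [Fact p.Prime] (S : Sylow p G) (hG : Subgroup.centralizer ((Cfsg.pCore p G : Subgroup G) : Set G) ≤ Cfsg.pCore p G) (T : Subgroup G) (hTS : T ≤ S) (E : Cfsg.FusionSystem T) (hE : E.IsNormalIn (Cfsg.groupFusionSystem (S : Subgroup G)) p) : ∃ H : Subgroup G, (∃ hTH : T ≤ H, H.Normal ∧ (∃ R : Sylow p H, (R : Subgroup H) = T.subgroupOf H) ∧ ∀ P : Subgroup G, E.Hom P = (Cfsg.fusionSystemOfSubgroup H T hTH).Hom P) ∧ ∀ H' : Subgroup G, (∃ hTH' : T ≤ H', H'.Normal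 ∧ (∃ R : Sylow p H', (R : Subgroup H') = T.subgroupOf H') ∧ ∀ P : Subgroup G, E.Hom P = (Cfsg.fusionSystemOfSubgroup H' T hTH').Hom P) → H' = H := by
  have hQp : IsPGroup p (Cfsg.pCore p G : Subgroup G) := Cfsg.Agent.Core.pCore_isPGroup
  haveI : (Cfsg.pCore p G : Subgroup G).Normal := Cfsg.Agent.Core.pCore_normal
  have hQS : Cfsg.pCore p G ≤ (S : Subgroup G) := Cfsg.Agent.Core.pCore_le_sylow S
  haveI hUn : (T ⊓ Cfsg.pCore p G : Subgroup G).Normal :=
    Cfsg.Agent.FusSys.inter_normal p S hE (Cfsg.pCore p G) hQS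
  have hG' : Subgroup.centralizer ((Cfsg.pCore p G : Subgroup G) : Set G) ≤ Cfsg.pCore p G ∧
      ∀ K : Subgroup G, K.Normal → IsPGroup p K → K ≤ Cfsg.pCore p G :=
    ⟨hG, fun K hK hKp => Cfsg.Agent.Core.le_pCore (hN := hK) hKp⟩
  set H := Cfsg.Agent.FusSys.nmH E p (Cfsg.pCore p G) (T ⊓ Cfsg.pCore p G) with hH
  have hTH : T ≤ H := le_sup_right
  have hTp : IsPGroup p T := S.2.to_le hTS
  have hS : ∀ (C : Subgroup G), C.Normal → Cfsg.Agent.FusSys.SylIn p ((S : Subgroup G) ⊓ C) C :=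
    fun C hC => Cfsg.Agent.FusSys.sylIn_inter_normal (H := ⊤)
      ⟨le_top, by rw [Subgroup.relIndex_top_right]; exact S.not_dvd_index⟩ le_top
      (by haveI := hC; exact Subgroup.normal_subgroupOf)
  refine ⟨H, ⟨hTH, Cfsg.Agent.FusSys.H_normal p S hE rfl hQS hG', ?_, ?_⟩, ?_⟩
  · have h1 : (S : Subgroup G) ⊓ H = T := le_antisymm
      (fun x hx => Cfsg.Agent.FusSys.H_inter_S p S hE rfl hQS hG' hx.2 hx.1) (le_inf hTS hTH)
    have h2 := hS H (Cfsg.Agent.FusSys.H_normal p S hE rfl hQS hG')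
    rw [h1] at h2
    exact (Cfsg.Agent.FusSys.sylIn_iff hTp hTH).1 h2
  · intro P
    ext φ
    rw [Cfsg.Agent.FusSys.mem_hom_iff, Cfsg.Agent.FusSys.mem_hom_iff]
    exact Cfsg.Agent.FusSys.E_iff_H p S hE rfl hQS hG' hTH
  · rintro H' ⟨hTH', hn, ⟨R, hR⟩, hHom⟩
    refine Cfsg.Agent.FusSys.H_unique p S hE rfl hQS hG' hTH' hn ?_ hHom
    intro x hx hxS
    have hp1 : IsPGroup p (((S : Subgroup G) ⊓ H').subgroupOf H') := (S.2.to_le inf_le_left).comap_subtype
    have h1 := R.3 hp1 (hR.le.trans fun y hy => ⟨hTS hy, y.2⟩)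
    have h2 : (⟨x, hx⟩ : H') ∈ ((S : Subgroup G) ⊓ H').subgroupOf H' := ⟨hxS, hx⟩
    rw [h1, hR] at h2
    exact h2

end Cfsg.Agent.S5121
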