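import Cfsg.Statements.S5125
import Cfsg.Agent.FusSys.Series

set_option autoImplicit false
open Cfsg

namespace Cfsg.Agent.S5125

/-- Let F be a saturated fusion system over a finite p-group S and Q a subgroup strongly closed in F. If Q has a subgroup Q₁ that is normal in F, with Q/Q₁ abelian and Aut_F(Q₁) a p-group, then Q is normal in F. -/
theorem result {Ω : Type*} [Group Ω] {S : Subgroup Ω} [Finite S] (p : ℕ) [Fact p.Prime] (hS : IsPGroup p S) (F : Cfsg.FusionSystem S) (hF : F.IsSaturated p) (Q Q₁ : Subgroup Ω) (hQ : F.StronglyClosed Q) (hQ₁Q : Q₁ ≤ Q) (hQ₁ : F.IsNormal Q₁) (hab : ⁅Q, Q⁆ ≤ Q₁) (hAut : IsPGroup p ↥(F.autGroup Q₁)) : F.IsNormal Q := by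
  refine Cfsg.Agent.FusSys.isNormal_of_series hS hF hQ (C := fun i => if i = 0 then Q₁ else Q)
    ?_ (n := 1) rfl (fun P hc hr => ⟨fun α hα i hi x hx => ?_, ?_⟩) ?_
  · intro i j hij
    rcases Nat.eq_zero_or_pos i with rfl | hi
    · rcases Nat.eq_zero_or_pos j with rfl | hj
      · exact le_rfl
      · simpa [Nat.pos_iff_ne_zero.1 hj] using hQ₁Q
    · have hj : j ≠ 0 := by omega
      simp [Nat.pos_iff_ne_zero.1 hi, hj]
  · by_cases h0 : i = 0
    · rw [h0]
      exact Cfsg.Agent.FusSys.apl_invariant_of_stronglyClosed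
        (Cfsg.Agent.FusSys.stronglyClosed_of_isNormal hQ₁) hc.1 hα hx
    · simp only [h0, if_false]
      exact Cfsg.Agent.FusSys.apl_invariant_of_stronglyClosed hQ hc.1 hα hx
  · intro δ hδ hord x hx hx0
    have hQP : Q₁ ≤ P := Cfsg.Agent.FusSys.le_of_normal_centric_radical hS hQ₁ hc hr
    have hx1 : x ∈ Q₁ := by simpa using hx0
    have hi : Cfsg.Agent.FusSys.Iso F Q₁ Q₁ (Cfsg.Agent.FusSys.apl δ) :=
      Cfsg.Agent.FusSys.StronglyClosed.iso_self (Cfsg.Agent.FusSys.stronglyClosed_of_isNormal hQ₁)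
        (Cfsg.Agent.FusSys.iso_apl hc.1 hδ).1 hQP
    obtain ⟨β, hβ, hβx⟩ := hi.exists_mem_autGroup
    obtain ⟨e, he⟩ := hAut ⟨β, hβ⟩
    have hβ1 : β = 1 := by
      have h1 : β ^ orderOf δ = 1 := Cfsg.Agent.FusSys.apl_ext fun y hy => by
        rw [← Cfsg.Agent.FusSys.apl_pow hQP (fun z hz => (hβx z hz).symm) (orderOf δ) y hy,
          pow_orderOf_eq_one, Cfsg.Agent.FusSys.apl_one (hQP hy), Cfsg.Agent.FusSys.apl_one hy]
      have h2 : β ^ p ^ e = 1 := congrArg Subtype.val he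
      rw [← orderOf_eq_one_iff]
      exact Nat.eq_one_of_dvd_coprimes (Nat.Coprime.pow_right e hord)
        (orderOf_dvd_of_pow_eq_one h1) (orderOf_dvd_of_pow_eq_one h2)
    rw [← hβx x hx1, hβ1, Cfsg.Agent.FusSys.apl_one hx1]
  · intro i hi a ha x hx
    have hi0 : i = 0 := by omega
    subst hi0
    simp only [Nat.zero_add, if_true, if_false, one_ne_zero] at hx ⊢
    exact Cfsg.Agent.FusSys.conj_commutator_mem hab ha hx

end Cfsg.Agent.S5125
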