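import Cfsg.Statements.S5126
import Cfsg.Agent.FusSys.Realized
import Cfsg.Agent.FusSys.Criteria
import Cfsg.Agent.FusSys.InnerCrit

set_option autoImplicit false
open Cfsg

namespace Cfsg.Agent.S5126

/-- In a saturated fusion system over a finite p-group S, the normalizer system of a fully normalized, centric, radical subgroup R is constrained, and in every model of that normalizer system the largest normal p-subgroup is the image of R. -/
theorem result {Ω : Type*} [Group Ω] {S : Subgroup Ω} [Finite S] (p : ℕ) [Fact p.Prime] (hS : IsPGroup p S) (F : Cfsg.FusionSystem S) (hF : F.IsSaturated p) (R : Subgroup Ω) (hRn : F.IsFullyNormalized R) (hRc : F.IsCentric R) (hRr : F.IsRadical p R) (E : Cfsg.FusionSystem (Cfsg.FusionSystem.normalizerIn S R)) (hE : F.IsNormalizerSystem R E) {G : Type*} [Group G] (ι : ↥(Cfsg.FusionSystem.normalizerIn S R) →* G) : E.IsConstrained p ∧ (E.IsModel p G ι → (Cfsg.pCore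 p G : Subgroup G) = (R.subgroupOf (Cfsg.FusionSystem.normalizerIn S R)).map ι) := by
  classical
  have hRT : R ≤ (Cfsg.FusionSystem.normalizerIn S R) := le_inf hRc.1 Subgroup.le_normalizer
  haveI : Finite (Cfsg.FusionSystem.normalizerIn S R) := Cfsg.Agent.FusSys.finite_of_le inf_le_left
  have hsat := Cfsg.Agent.FusSys.normalizerSystem_saturated hS hF hRn hE
  have hnorm := Cfsg.Agent.FusSys.normalizerSystem_isNormal hE hRc.1
  have hsc := Cfsg.Agent.FusSys.stronglyClosed_of_isNormal hnorm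
  have hcen : E.IsCentric R := by
    refine ⟨hRT, fun R' hR' => ?_⟩
    obtain ⟨f, hf⟩ := Cfsg.Agent.FusSys.isConj_iff.1 hR'
    have hle : R' ≤ R := fun y hy => by
      obtain ⟨x, hx, rfl⟩ := hf.exists_eq hy
      exact (Cfsg.Agent.FusSys.stronglyClosed_iff.1 hsc).2 _ _ le_rfl hf.1 x hx
    rw [Cfsg.Agent.FusSys.eq_of_le_of_card hRT hle hf.card_eq.le]
    rintro z ⟨hz, hzc⟩
    exact Cfsg.Agent.FusSys.centric_self hRc ⟨hz.1, hzc⟩
  refine ⟨⟨hsat, R, hnorm, hcen⟩, fun hM => ?_⟩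
  haveI : Finite G := hM.1
  obtain ⟨hn0, -⟩ := Cfsg.Agent.FusSys.model_core_centric hM
  have himg := Cfsg.Agent.FusSys.model_normal_image hM hnorm
  have hle := Cfsg.Agent.FusSys.pCore_le_range (ι := ι) hM.2.2.1
  refine le_antisymm ?_ ?_
  swap
  · exact Cfsg.Agent.Core.le_pCore (((hS.to_le inf_le_left).to_subgroup _).map ι)
  intro y hy
  obtain ⟨x, rfl⟩ := hle hy
  refine ⟨x, ?_, rfl⟩
  show (x : Ω) ∈ R
  set Q0 := ((Cfsg.pCore p G).comap ι).map (Cfsg.FusionSystem.normalizerIn S R).subtype with hQ0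
  have hx0 : (x : Ω) ∈ Q0 := ⟨x, hy, rfl⟩
  have hQ0S : Q0 ≤ S := (Subgroup.map_subtype_le _).trans inf_le_left
  refine Cfsg.Agent.FusSys.mem_of_normal_pGroup hRc hRr (hQ0S hx0) x.2.2
    (Γ := Cfsg.autInducedBy Q0 R) ((Cfsg.Agent.FusSys.autInducedBy_mono hQ0S).trans
      (Cfsg.Agent.FusSys.autInducedBy_le_autGroup hRc.1))
    (Cfsg.Agent.FusSys.isPGroup_autInducedBy (hS.to_le hQ0S)) ?_
    (fun γ _ hγ => Cfsg.Agent.FusSys.mem_autInducedBy_iff.2 ⟨x, hx0, x.2.2, hγ⟩)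
  intro α hα γ hγ
  obtain ⟨q, hq, hqn, hqx⟩ := Cfsg.Agent.FusSys.mem_autInducedBy_iff.1 hγ
  have hαi := Cfsg.Agent.FusSys.iso_apl hRc.1 hα
  have hmor : Cfsg.Agent.FusSys.Mor E R (Cfsg.Agent.FusSys.apl α) :=
    (Cfsg.Agent.FusSys.mor_normalizerSystem hE).2 ⟨hαi.1, hRT, fun z hz => hRT (hαi.mem hz), _,
      hαi.1.mono (sup_le le_rfl le_rfl), fun _ _ => rfl, hαi.2⟩
  obtain ⟨k, hk, hkf, hkQ⟩ := (Cfsg.Agent.FusSys.isNormal_iff.1 hn0).2 R _ hmor
  have hkq : k q ∈ Q0 := (hkQ _).2 ⟨q, hq, rfl⟩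
  have hkqT : k q ∈ (Cfsg.FusionSystem.normalizerIn S R) := (Subgroup.map_subtype_le _) hkq
  refine Cfsg.Agent.FusSys.mem_autInducedBy_iff.2 ⟨k q, hkq, hkqT.2, fun z hz => ?_⟩
  rw [Cfsg.Agent.FusSys.apl_mul _ _ hz, Cfsg.Agent.FusSys.apl_mul _ _
    (Cfsg.Agent.FusSys.apl_mem _ hz), hqx _ (Cfsg.Agent.FusSys.apl_mem _ hz)]
  have h1 := hkf _ ((Subgroup.mem_normalizer_iff.1 hqn _).1 (Cfsg.Agent.FusSys.apl_mem α⁻¹ hz))
  rw [hk.map_conj (Subgroup.mem_sup_right hq) (Subgroup.mem_sup_left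
      (Cfsg.Agent.FusSys.apl_mem α⁻¹ hz)), hkf _ (Cfsg.Agent.FusSys.apl_mem α⁻¹ hz),
    Cfsg.Agent.FusSys.apl_apl_inv α hz] at h1
  exact h1.symm

end Cfsg.Agent.S5126
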