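import Cfsg.Statements.S5129
import Cfsg.Agent.FusSys.AMap.Meet.Largest
-- import your own Cfsg.Agent.* helpers here

set_option autoImplicit false
open Cfsg

namespace Cfsg.Agent.S5129

/-- Let F be a saturated fusion system over a finite p-group S and E₁, E₂ normal subsystems over T₁, T₂. Then there is a normal subsystem of F over T₁ ∩ T₂ that is normal in E₁ and in E₂ and contains every other such subsystem. -/
theorem result {Ω : Type*} [Group Ω] {S : Subgroup Ω} [Finite S] (p : ℕ) [Fact p.Prime] (hS : IsPGroup p S) (F : Cfsg.FusionSystem S) (hF : F.IsSaturated p) {T₁ T₂ : Subgroup Ω} (E₁ : Cfsg.FusionSystem T₁) (E₂ : Cfsg.FusionSystem T₂) (h₁ : E₁.IsNormalIn F p) (h₂ : E₂.IsNormalIn F p) : ∃ D : Cfsg.FusionSystem (T₁ ⊓ T₂), (D.IsNormalIn F p ∧ D.IsNormalIn E₁ p ∧ D.IsNormalIn E₂ p) ∧ ∀ D' : Cfsg.FusionSystem (T₁ ⊓ T₂), D'.IsNormalIn F p → D'.IsNormalIn E₁ p → D'.IsNormalIn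 E₂ p → D'.IsSubsystemOf D := by
  have hsc : F.StronglyClosed (T₁ ⊓ T₂) := FusSys.stronglyClosed_iff.2
    ⟨inf_le_left.trans h₁.1.2.2.2.1.1, fun R f hR hf x hx =>
      ⟨FusSys.StronglyClosed.mor_mem h₁.1.2.2.2.1 hf hx (hR hx).1,
        FusSys.StronglyClosed.mor_mem h₂.1.2.2.2.1 hf hx (hR hx).2⟩⟩
  have h : FusSys.AM.Pair p F (T₁ ⊓ T₂) E₁ E₂ :=
    ⟨hS, hF, hsc, h₁.1, h₂.1, inf_le_left, inf_le_right, le_rfl⟩
  exact ⟨h.meetSys, ⟨h.meet_normal, h.meet_normal₁, h.meet_normal₂⟩,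
    fun D' hF' hE₁ hE₂ => FusSys.AM.le_meet hS h hF' hE₁ hE₂⟩

end Cfsg.Agent.S5129
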