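import Cfsg.Statements.S5130
import Cfsg.Agent.FusSys.DirectFactor

set_option autoImplicit false
open Cfsg

namespace Cfsg.Agent.S5130

open Cfsg.Agent.FusSys

/-- Let F be a saturated fusion system over a finite p-group S that is the direct product of two subgroups S₁ and S₂, each strongly closed in F. Let R be the full subsystem of F over S₁ (all maps of F between subgroups of S₁) and R′ the subsystem over S₁ of those maps that extend to the subgroup generated with S₂ fixing S₂ elementwise. Then R and R′ are saturated, R′ is normal in F and in R, and R is weakly normal in F. -/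
theorem result {Ω : Type*} [Group Ω] {S : Subgroup Ω} [Finite S] (p : ℕ) [Fact p.Prime] (hS : IsPGroup p S) (F : Cfsg.FusionSystem S) (hF : F.IsSaturated p) (S₁ S₂ : Subgroup Ω) (hprod : Cfsg.IsInternalDirectProduct S₁ S₂ S) (h₁ : F.StronglyClosed S₁) (h₂ : F.StronglyClosed S₂) (R R' : Cfsg.FusionSystem S₁) (hR : ∀ P : Subgroup Ω, P ≤ S₁ → R.Hom P = F.Hom P) (hR' : ∀ P : Subgroup Ω, P ≤ S₁ → R'.Hom P = F.centralizerHom S₂ P) : R.IsSaturated p ∧ R'.IsSaturated p ∧ R'.IsNormalIn F p ∧ R'.IsNormalIn R p ∧ R.IsWeaklyNormalIn F p := by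
  have hS₂ : S₂ ≤ S := hprod.2.1
  have h12 : S₁ ⊔ S₂ = S := hprod.2.2.2.2
  have hmR : ∀ {P : Subgroup Ω} {f : Ω → Ω}, P ≤ S₁ → (Mor R P f ↔ Mor F P f) := fun hP =>
    mor_of_hom_eq (hR _ hP)
  have hC := isCentralizerSystem_centralizerSys (F := F) hS₂
  have hR'C : ∀ P : Subgroup Ω, P ≤ S₁ → R'.Hom P = (centralizerSys F hS₂).Hom P := fun P hP =>
    (hR' P hP).trans (hC P).symm
  have hmR' : ∀ {P : Subgroup Ω} {f : Ω → Ω}, P ≤ S₁ → (Mor R' P f ↔ Mor F P f ∧ CRel F S₂ P f) :=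
    fun hP => (mor_of_hom_eq (hR'C _ hP)).trans (mor_centralizerSystem hC)
  have hS1C : S₁ ≤ Cfsg.FusionSystem.centralizerIn S S₂ := fun a ha =>
    ⟨h₁.1 ha, dprod_centralizes hprod ha⟩
  have hRs : R.IsSaturated p := saturated_restrict hS hF h₁ (fun s hs => by
    obtain ⟨a, ha, b, hb, rfl⟩ := dprod_decomp hprod hs
    exact ⟨a, ha, b, dprod_centralizes' hprod hb, rfl⟩) R hR
  have hR's : R'.IsSaturated p := by
    haveI := finite_of_le (centralizerIn_le S S₂)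
    have hfc : F.IsFullyCentralized S₂ := ⟨hS₂, fun Q hQ => by
      obtain ⟨k, hk⟩ := isConj_iff.1 hQ
      rw [hk.eq_image (StronglyClosed.iso_self h₂ hk.1 le_rfl)]⟩
    refine saturated_restrict (hS.to_le (centralizerIn_le S S₂)) (centralizerSystem_saturated hS hF hfc hC)
      (stronglyClosed_iff.2 ⟨hS1C, fun X k hX hk x hx =>
        StronglyClosed.mor_mem h₁ ((mor_centralizerSystem hC).1 hk).1 hx (hX hx)⟩) (fun s hs => ?_) R' hR'C
    obtain ⟨a, ha, b, hb, rfl⟩ := dprod_decomp hprod hs.1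
    exact ⟨a, ha, b, dprod_centralizes' hprod hb, rfl⟩
  have hsubRF : R.IsSubsystemOf F := fun P φ hφ => hR P (R.le_of_mem hφ).1 ▸ hφ
  have hsub'F : R'.IsSubsystemOf F := fun P φ hφ => (hR' P (R'.le_of_mem hφ).1 ▸ hφ).1
  have hsub'R : R'.IsSubsystemOf R := fun P φ hφ => (hR P (R'.le_of_mem hφ).1).symm ▸ hsub'F P hφ
  have hautR : R.autGroup S₁ = F.autGroup S₁ := by
    ext α
    rw [mem_autGroup_iff le_rfl, mem_autGroup_iff h₁.1]
    exact and_congr_left fun _ => hmR le_rfl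
  have hsc1 : R.StronglyClosed S₁ := stronglyClosed_iff.2 ⟨le_rfl, fun X k _ hk x hx => hk.mem_S hx⟩
  -- conjugation by automorphisms of the factor
  have himage : ∀ (α : MulAut S₁), α ∈ F.autGroup S₁ → ∀ P : Subgroup Ω, P ≤ S₁ →
      ∃ R₀ d, Iso F P R₀ (apl α) ∧ Iso F R₀ P d ∧ (∀ x ∈ P, d (apl α x) = x) ∧ R₀ ≤ S₁ ∧
        (P.subgroupOf S₁).map (S₁.subtype.comp α.toMonoidHom) = R₀ := by
    intro α hα P hP
    obtain ⟨R₀, hR₀⟩ := ((iso_apl h₁.1 hα).1.mono hP).exists_iso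
    obtain ⟨d, hd, hdl, -⟩ := hR₀.symm
    refine ⟨R₀, d, hR₀, hd, hdl, fun y hy => ?_, ?_⟩
    · obtain ⟨x, hx, rfl⟩ := hR₀.exists_eq hy
      exact apl_mem α (hP hx)
    ext y
    constructor
    · rintro ⟨x, hx, rfl⟩
      show ((α x : S₁) : Ω) ∈ R₀
      rw [← apl_coe α x]
      exact hR₀.mem hx
    · intro hy
      obtain ⟨x, hx, rfl⟩ := hR₀.exists_eq hy
      exact ⟨⟨x, hP hx⟩, hx, (apl_coe α ⟨x, hP hx⟩).symm⟩
  have hcomp : ∀ (α : MulAut S₁), α ∈ F.autGroup S₁ → ∀ (P : Subgroup Ω), P ≤ S₁ → ∀ (φ : P →* Ω),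
      φ ∈ F.Hom P → ∀ R₀ d, Iso F R₀ P d →
        Mor F R₀ (fun z => apl α (extendFn φ (d z))) := fun α hα P hP φ hφ R₀ d hd =>
    (hd.1.comp (mor_extendFn hφ) fun x hx => hd.mem hx).comp (iso_apl h₁.1 hα).1 fun x hx =>
      StronglyClosed.mor_mem h₁ (mor_extendFn hφ) (hd.mem hx) (hP (hd.mem hx))
  -- the third invariance clause for `R'`
  have hthird : ∀ (P : Subgroup Ω) (hPT : P ≤ S₁) (φ : P →* Ω), φ ∈ R'.Hom P → ∀ α ∈ F.autGroup S₁,
      ∃ χ ∈ R'.Hom ((P.subgroupOf S₁).map (S₁.subtype.comp α.toMonoidHom)),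
        ∀ (x : P) (hφx : φ x ∈ S₁)
          (hαx : ((α ⟨x, hPT x.2⟩ : S₁) : Ω) ∈ (P.subgroupOf S₁).map (S₁.subtype.comp α.toMonoidHom)),
          χ ⟨(α ⟨x, hPT x.2⟩ : S₁), hαx⟩ = ((α ⟨φ x, hφx⟩ : S₁) : Ω) := by
    intro P hP φ hφ α hα
    obtain ⟨R₀, d, hαi, hd, hdl, hR₀, he⟩ := himage α hα P hP
    rw [he]
    obtain ⟨-, -, hφS, g, hg, hgφ, hg2⟩ := (hmR' hP).1 (mor_extendFn hφ)
    obtain ⟨a, ha, haα, ha2⟩ := exists_extend_factor hprod hS hF h₁ h₂ le_rfl (iso_apl h₁.1 hα).1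
    rw [h12] at ha
    have hai : Iso F S S a := ⟨ha, fun y => ⟨fun hy =>
      ha.surj_of_card le_rfl (fun x hx => ha.mem_S hx) le_rfl hy, fun ⟨x, hx, hxy⟩ => hxy ▸ ha.mem_S hx⟩⟩
    obtain ⟨a', ha', ha'l, -⟩ := hai.symm
    have hle : R₀ ⊔ S₂ ≤ S := sup_le hαi.right_le hS₂
    have himg : ∀ z ∈ R₀, a' z = d z ∧ d z ∈ P := fun z hz => by
      obtain ⟨x, hx, hxz⟩ := hαi.exists_eq hz
      subst hxz
      rw [hdl x hx]
      refine ⟨?_, hx⟩
      rw [← haα x (hP hx)]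
      exact ha'l x (h₁.1 (hP hx))
    have hS2' : ∀ b ∈ S₂, a' b ∈ S₂ ∧ a (a' b) = b := fun b hb => by
      obtain ⟨c, hc, hcb⟩ := ha2.exists_eq hb
      rw [← hcb, ha'l c (hS₂ hc)]
      exact ⟨hc, rfl⟩
    have hm1 : Mor F (R₀ ⊔ S₂) (fun z => a (g (a' z))) :=
      ((ha'.1.mono hle).comp hg fun z hz => (ha'.1.mono hle).mem_of_sup
        (fun u hu => Subgroup.mem_sup_left ((himg u hu).1 ▸ (himg u hu).2))
        (fun u hu => Subgroup.mem_sup_right (hS2' u hu).1) hz).comp ha fun z hz => hg.mem_S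
          ((ha'.1.mono hle).mem_of_sup
            (fun u hu => Subgroup.mem_sup_left ((himg u hu).1 ▸ (himg u hu).2))
            (fun u hu => Subgroup.mem_sup_right (hS2' u hu).1) hz)
    have hval : ∀ z ∈ R₀, apl α (extendFn φ (d z)) = a (g (a' z)) ∧ extendFn φ (d z) ∈ S₁ := fun z hz => by
      obtain ⟨h1, h2⟩ := himg z hz
      have h3 : extendFn φ (d z) ∈ S₁ :=
        StronglyClosed.mor_mem h₁ (mor_extendFn (hsub'F P hφ)) h2 (hP h2)
      rw [h1, hgφ _ h2, haα _ h3]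
      exact ⟨rfl, h3⟩
    obtain ⟨χ, hχ, hχx⟩ := (hmR' hR₀).2 ⟨hcomp α hα P hP φ (hsub'F P hφ) R₀ d hd,
      hR₀.trans hS1C, fun z hz => hS1C (apl_mem α (hval z hz).2),
      _, hm1, fun z hz => (hval z hz).1.symm, fun b hb => by
        obtain ⟨h1, h2⟩ := hS2' b hb
        show a (g (a' b)) = b
        rw [hg2 _ h1, h2]⟩
    refine ⟨χ, hχ, fun x hφx hαx => ?_⟩
    rw [hχx]
    show apl α (extendFn φ (d _)) = _
    rw [← apl_coe α ⟨_, hP x.2⟩, hdl _ x.2, extendFn_coe, apl_apply α hφx]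
  -- the Frattini clause for `R'`
  have hfourth : ∀ (P : Subgroup Ω), P ≤ S₁ → ∀ (φ : P →* Ω), φ ∈ F.Hom P →
      ∃ α ∈ F.autGroup S₁, ∃ φ₀ ∈ R'.Hom P, ∀ (x : P) (hx : φ₀ x ∈ S₁), φ x = ((α ⟨φ₀ x, hx⟩ : S₁) : Ω) := by
    intro P hP φ hφ
    obtain ⟨g, hg, hgφ, hg2⟩ := exists_extend_factor hprod hS hF h₁ h₂ hP (mor_extendFn hφ)
    obtain ⟨b, hb, hbg⟩ := exists_top_of_factor hprod hS hF h₁ h₂ hg2
    obtain ⟨b', hb', hb'l, hb'r⟩ := hb.symm
    obtain ⟨α, hα, hαx⟩ := (StronglyClosed.iso_self h₁ hb.1 h₁.1).exists_mem_autGroup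
    have hk : Mor F (P ⊔ S₂) (fun z => b' (g z)) := hg.comp hb'.1 fun z hz => hg.mem_S hz
    have hk1 : ∀ z ∈ P, b' (g z) ∈ S₁ := fun z hz =>
      StronglyClosed.mor_mem h₁ hk (Subgroup.mem_sup_left hz) (hP hz)
    obtain ⟨φ₀, hφ₀, h0⟩ := (hmR' hP).2 ⟨hk.mono le_sup_left, hP.trans hS1C, fun z hz => hS1C (hk1 z hz),
      _, hk, fun _ _ => rfl, fun z hz => by
        show b' (g z) = z
        rw [← hbg z hz]
        exact hb'l z (hS₂ hz)⟩
    refine ⟨α, hα, φ₀, hφ₀, fun x hx => ?_⟩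
    rw [← apl_apply α hx, hαx _ hx, h0]
    show φ x = b (b' (g x))
    rw [hb'r _ (hg.mem_S (Subgroup.mem_sup_left x.2)), hgφ x x.2, extendFn_coe]
  refine ⟨hRs, hR's, ⟨⟨hR's, hF, hsub'F, h₁, hthird, hfourth⟩, fun α hα => ?_⟩,
    ⟨⟨hR's, hRs, hsub'R, hsc1, ?_, ?_⟩, fun α hα => ?_⟩, hRs, hF, hsubRF, h₁, ?_, ?_⟩
  · obtain ⟨-, -, -, g, hg, hgα, hg2⟩ := (hmR' le_rfl).1 (iso_apl le_rfl hα).1
    have hW : S₁ ⊔ Cfsg.FusionSystem.centralizerIn S S₁ = S :=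
      le_antisymm (sup_le h₁.1 (centralizerIn_le S S₁)) (h12.ge.trans (sup_le le_sup_left
        fun b hb => Subgroup.mem_sup_right ⟨hS₂ hb, dprod_centralizes' hprod hb⟩))
    rw [h12] at hg
    have hgi : Iso F (S₁ ⊔ Cfsg.FusionSystem.centralizerIn S S₁) (S₁ ⊔ Cfsg.FusionSystem.centralizerIn S S₁) g := by
      rw [hW]
      exact ⟨hg, fun y => ⟨fun hy => hg.surj_of_card le_rfl (fun x hx => hg.mem_S hx) le_rfl hy,
        fun ⟨x, hx, hxy⟩ => hxy ▸ hg.mem_S hx⟩⟩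
    obtain ⟨β, hβ, hβx⟩ := hgi.exists_mem_autGroup
    refine ⟨β, hβ, fun x => ?_, fun c hc => ?_⟩
    · rw [← apl_coe β, ← apl_coe α]
      exact (hβx _ (Subgroup.mem_sup_left x.2)).trans (hgα x x.2)
    · rw [← apl_coe β, hβx _ c.2]
      obtain ⟨a, ha, b, hb, hcab⟩ := dprod_decomp hprod hc.1
      have he : (c : Ω)⁻¹ * g c = a⁻¹ * apl α a := by
        rw [hcab, hg.map_mul (h₁.1 ha) (hS₂ hb), hgα a ha, hg2 b hb]
        have h := Subgroup.mem_centralizer_iff.1 (dprod_centralizes' hprod hb) _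
          (S₁.mul_mem (S₁.inv_mem ha) (apl_mem α ha))
        calc (a * b)⁻¹ * (apl α a * b) = b⁻¹ * (a⁻¹ * apl α a * b) := by group
          _ = a⁻¹ * apl α a := by rw [h]; group
      have haC : a ∈ Subgroup.centralizer (S₁ : Set Ω) := by
        have := Subgroup.mul_mem _ hc.2 (Subgroup.inv_mem _ (dprod_centralizes' hprod hb))
        rwa [hcab, mul_inv_cancel_right] at this
      rw [he]
      refine ⟨S₁.mul_mem (S₁.inv_mem ha) (apl_mem α ha), Subgroup.mul_mem _ (Subgroup.inv_mem _ haC)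
        (Subgroup.mem_centralizer_iff.2 fun y hy => ?_)⟩
      obtain ⟨z, hz, hzy⟩ := (iso_apl le_rfl hα).exists_eq hy
      rw [← hzy, ← (iso_apl le_rfl hα).1.map_mul hz ha, ← (iso_apl le_rfl hα).1.map_mul ha hz,
        Subgroup.mem_centralizer_iff.1 haC z hz]
  · intro P hP φ hφ α hα
    exact hthird P hP φ hφ α (hautR ▸ hα)
  · intro P hP φ hφ
    rw [hautR]
    exact hfourth P hP φ (hsubRF P hφ)
  · haveI := finite_of_le h₁.1
    have hW : S₁ ⊔ Cfsg.FusionSystem.centralizerIn S₁ S₁ = S₁ := sup_eq_left.2 (centralizerIn_le S₁ S₁)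
    have hai : Iso R (S₁ ⊔ Cfsg.FusionSystem.centralizerIn S₁ S₁) (S₁ ⊔ Cfsg.FusionSystem.centralizerIn S₁ S₁) (apl α) := by
      rw [hW]
      exact ⟨isSubsystemOf_iff_mor.1 hsub'R _ _ (iso_apl le_rfl hα).1, (iso_apl le_rfl hα).2⟩
    obtain ⟨β, hβ, hβx⟩ := hai.exists_mem_autGroup
    refine ⟨β, hβ, fun x => ?_, fun c hc => ?_⟩
    · rw [← apl_coe β, ← apl_coe α]
      exact hβx _ (Subgroup.mem_sup_left x.2)
    · rw [← apl_coe β, hβx _ c.2]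
      refine ⟨S₁.mul_mem (S₁.inv_mem hc.1) (apl_mem α hc.1), Subgroup.mul_mem _ (Subgroup.inv_mem _ hc.2)
        (Subgroup.mem_centralizer_iff.2 fun y hy => ?_)⟩
      obtain ⟨z, hz, hzy⟩ := (iso_apl le_rfl hα).exists_eq hy
      rw [← hzy, ← (iso_apl le_rfl hα).1.map_mul hz hc.1, ← (iso_apl le_rfl hα).1.map_mul hc.1 hz,
        Subgroup.mem_centralizer_iff.1 hc.2 z hz]
  · intro P hP φ hφ α hα
    obtain ⟨R₀, d, hαi, hd, hdl, hR₀, he⟩ := himage α hα P hP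
    rw [he]
    obtain ⟨χ, hχ, hχx⟩ := (hmR hR₀).2 (hcomp α hα P hP φ (hsubRF P hφ) R₀ d hd)
    refine ⟨χ, hχ, fun x hφx hαx => ?_⟩
    rw [hχx]
    show apl α (extendFn φ (d _)) = _
    rw [← apl_coe α ⟨_, hP x.2⟩, hdl _ x.2, extendFn_coe, apl_apply α hφx]
  · intro P hP φ hφ
    exact ⟨1, Subgroup.one_mem _, φ, (hR P hP).symm ▸ hφ, fun x hx => rfl⟩

end Cfsg.Agent.S5130
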