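import Cfsg.Statements.S5135
import Cfsg.Agent.FusSys.Factor
import Cfsg.Agent.FusSys.GroupSys

set_option autoImplicit false
open Cfsg

namespace Cfsg.Agent.S5135

/-- Let G be a finite group, S a Sylow p-subgroup and H a normal subgroup of G. Then the fusion system of G/H on the image SH/H of S is the factor system of the fusion system of G on S modulo S ∩ H, read through the quotient map restricted to S: for each subgroup P' of SH/H, the conjugation maps by elements of G/H defined on P' with values in SH/H are exactly the homomorphisms induced by the conjugation maps by elements of G defined on the full preimage of P' in S with values in S. -/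
theorem result {G : Type*} [Group G] [Finite G] (p : ℕ) [Fact p.Prime] (S : Sylow p G) (H : Subgroup G) [H.Normal] : (Cfsg.groupFusionSystem (S : Subgroup G)).IsFactorSystem ((S : Subgroup G) ⊓ H) ((QuotientGroup.mk' H).comp (S : Subgroup G).subtype) (Cfsg.groupFusionSystem ((S : Subgroup G).map (QuotientGroup.mk' H))) := by
  have hker : ∀ s : (S : Subgroup G),
      (QuotientGroup.mk' H).comp (S : Subgroup G).subtype s = 1 ↔ (s : G) ∈ (S : Subgroup G) ⊓ H :=
    fun s => ⟨fun h => ⟨s.2, (QuotientGroup.eq_one_iff _).1 h⟩,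
      fun h => (QuotientGroup.eq_one_iff _).2 h.2⟩
  have hrange : ((QuotientGroup.mk' H).comp (S : Subgroup G).subtype).range =
      (S : Subgroup G).map (QuotientGroup.mk' H) := by
    rw [MonoidHom.range_comp, Subgroup.range_subtype]
  refine ⟨inf_le_left, hker, hrange, fun P' φ' => ⟨?_, ?_⟩⟩
  · rintro ⟨hP', hval, gq, hconj⟩
    obtain ⟨g, rfl⟩ := QuotientGroup.mk'_surjective H gq
    refine ⟨hP', ?_⟩
    have hP : Cfsg.FusionSystem.preimageAlong ((QuotientGroup.mk' H).comp (S : Subgroup G).subtype) P'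
        ≤ (S : Subgroup G) := fun x hx => by
      obtain ⟨s, -, rfl⟩ := Subgroup.mem_map.1 hx
      exact s.2
    have hR : IsPGroup p ↥((Cfsg.FusionSystem.preimageAlong
        ((QuotientGroup.mk' H).comp (S : Subgroup G).subtype) P').map (MulAut.conj g).toMonoidHom) :=
      (S.2.to_le hP).map _
    have hle : (Cfsg.FusionSystem.preimageAlong
        ((QuotientGroup.mk' H).comp (S : Subgroup G).subtype) P').map (MulAut.conj g).toMonoidHom ≤
        (S : Subgroup G) ⊔ H := by
      rintro _ ⟨x, hx, rfl⟩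
      obtain ⟨s, hs, rfl⟩ := Subgroup.mem_map.1 hx
      have h1 := hval ⟨_, hs⟩
      rw [hconj] at h1
      obtain ⟨t, ht, hts⟩ := Subgroup.mem_map.1 h1
      have h2 : (t : G)⁻¹ * (g * s * g⁻¹) ∈ H := by
        rw [← QuotientGroup.eq_one_iff]
        show QuotientGroup.mk' H _ = 1
        rw [map_mul, map_inv, inv_mul_eq_one, hts, map_mul, map_mul, map_inv]
        rfl
      have h3 := Subgroup.mul_mem_sup ht h2
      rwa [mul_inv_cancel_left] at h3
    obtain ⟨k, hk, hkS⟩ := Cfsg.Agent.FusSys.exists_conj_mem_sylow_of_le_sup S H hR hle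
    have hS' : ∀ x ∈ Cfsg.FusionSystem.preimageAlong
        ((QuotientGroup.mk' H).comp (S : Subgroup G).subtype) P', (k * g) * x * (k * g)⁻¹ ∈ (S : Subgroup G) := by
      intro x hx
      have h := hkS _ (Subgroup.mem_map_of_mem _ hx)
      rw [MulEquiv.coe_toMonoidHom, MulAut.conj_apply] at h
      rwa [mul_inv_rev, show k * g * x * (g⁻¹ * k⁻¹) = k * (g * x * g⁻¹) * k⁻¹ from by group]
    refine ⟨Cfsg.conjHom _ (k * g), ⟨hP, fun x => hS' x x.2, k * g, fun x => rfl⟩,
      hP, fun x => hS' x x.2, fun x => ?_, fun x => ?_⟩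
    · obtain ⟨s, hs, hsx⟩ := Subgroup.mem_map.1 x.2
      rw [show (⟨(x : G), hP x.2⟩ : (S : Subgroup G)) = s from Subtype.ext hsx.symm]
      exact hs
    · rw [hconj]
      have hk1 : QuotientGroup.mk' H k = 1 := (QuotientGroup.eq_one_iff _).2 hk
      show _ = QuotientGroup.mk' H ((k * g) * (x : G) * (k * g)⁻¹)
      rw [map_mul, map_mul, map_inv, map_mul, hk1, one_mul]
      rfl
  · rintro ⟨hP', φ, ⟨-, hval, g, hφ⟩, hind⟩
    obtain ⟨hle, hv, hm, heq⟩ := hind
    have hc : ∀ z : P', φ' z = QuotientGroup.mk' H g * z * (QuotientGroup.mk' H g)⁻¹ ∧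
        φ' z ∈ (S : Subgroup G).map (QuotientGroup.mk' H) := by
      intro z
      obtain ⟨t, ht, htz⟩ := Subgroup.mem_map.1 (hP' z.2)
      have hx : t ∈ Cfsg.FusionSystem.preimageAlong
          ((QuotientGroup.mk' H).comp (S : Subgroup G).subtype) P' :=
        Subgroup.mem_map.2 ⟨⟨t, ht⟩, show QuotientGroup.mk' H t ∈ P' from htz.symm ▸ z.2, rfl⟩
      have h1 := heq ⟨t, hx⟩
      have e : (⟨_, hm ⟨t, hx⟩⟩ : P') = z := Subtype.ext htz
      rw [e] at h1
      rw [h1]
      refine ⟨?_, _, hv ⟨t, hx⟩, rfl⟩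
      show QuotientGroup.mk' H (φ ⟨t, hx⟩) = _
      rw [hφ, map_mul, map_mul, map_inv, htz]
    exact ⟨hP', fun z => (hc z).2, _, fun z => (hc z).1⟩

end Cfsg.Agent.S5135
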