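import Cfsg.Statements.S5139
import Cfsg.Agent.FusSys.PIndexUnique
import Cfsg.Agent.FusSys.NormalSub
import Cfsg.Agent.FusSys.HyperfocalGroup

set_option autoImplicit false
open Cfsg

namespace Cfsg.Agent.S5139

/-- Let G be a finite group with Sylow p-subgroup S and O^p(G) the subgroup generated by the elements of order prime to p. Then the p-residual subsystem of the fusion system of G on S — the saturated subsystem of p-power index over the hyperfocal subgroup — is the fusion system of O^p(G) on S ∩ O^p(G): its maps are exactly the conjugation maps by elements of O^p(G) between subgroups of S ∩ O^p(G). -/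
theorem result {G : Type*} [Group G] [Finite G] (p : ℕ) [Fact p.Prime] (S : Sylow p G) (E : Cfsg.FusionSystem ((Cfsg.groupFusionSystem (S : Subgroup G)).hyperfocalSubgroup p)) (hE : (Cfsg.groupFusionSystem (S : Subgroup G)).IsPResidual p E) : ∃ h : (S : Subgroup G) ⊓ Cfsg.pResidual p G ≤ Cfsg.pResidual p G, ∀ P : Subgroup G, E.Hom P = (Cfsg.fusionSystemOfSubgroup (Cfsg.pResidual p G) ((S : Subgroup G) ⊓ Cfsg.pResidual p G) h).Hom P := by
  refine ⟨inf_le_right, ?_⟩
  obtain ⟨hEs, hEsub, -, hEres⟩ := hE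
  have e := Cfsg.Agent.FusSys.hyperfocal_gfs (p := p) S
  revert E
  generalize hT : (Cfsg.groupFusionSystem (S : Subgroup G)).hyperfocalSubgroup p = T at e
  subst e
  intro E hEs hEsub hEres P
  have hTp : IsPGroup p ↥((S : Subgroup G) ⊓ Cfsg.pResidual p G) := S.2.to_le inf_le_left
  refine Cfsg.Agent.FusSys.eq_of_pPowerIndex (F := Cfsg.groupFusionSystem (S : Subgroup G)) hTp hEs
    (Cfsg.Agent.FusSys.sub_saturated inf_le_right hTp
      (Cfsg.Agent.FusSys.sylow_inter_normal S (Cfsg.pResidual p G)))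
    ⟨hEsub, hT.le, hEres⟩ ⟨?_, hT.le, ?_⟩ P
  · rintro Q φ ⟨h1, h2, g, -, hg⟩
    exact ⟨h1.trans inf_le_left, fun x => (h2 x).1, g, hg⟩
  intro Q hQ
  have hQS : Q ≤ (S : Subgroup G) := hQ.trans inf_le_left
  let N : Subgroup G := Subgroup.normalizer (Q : Set G)
  let ρ : N →* (Cfsg.groupFusionSystem (S : Subgroup G)).autGroup Q :=
    Q.normalizerMonoidHom.codRestrict _ fun n => (Cfsg.Agent.FusSys.autGroup_gfs hQS).ge
      (Cfsg.Agent.FusSys.mem_autInducedBy_iff.2
        ⟨n, trivial, n.2, fun _ hy => Cfsg.Agent.FusSys.apl_normalizerMonoidHom n hy⟩)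
  have hρ : Function.Surjective ρ := by
    rintro ⟨β, hβ⟩
    obtain ⟨g, -, hn, hg⟩ := Cfsg.Agent.FusSys.mem_autInducedBy_iff.1
      ((Cfsg.Agent.FusSys.autGroup_gfs hQS).le hβ)
    exact ⟨⟨g, hn⟩, Subtype.ext (Cfsg.Agent.FusSys.apl_ext fun y hy =>
      (Cfsg.Agent.FusSys.apl_normalizerMonoidHom ⟨g, hn⟩ hy).trans (hg y hy).symm)⟩
  rw [← Cfsg.Agent.Fusion.map_pResidual_of_surjective ρ hρ, Subgroup.map_map]
  rintro _ ⟨n, hn, rfl⟩
  have hnG : (n : G) ∈ Cfsg.pResidual p G :=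
    Cfsg.Agent.Fusion.map_pResidual_le N.subtype (Subgroup.mem_map_of_mem _ hn)
  have hv := fun x (hx : x ∈ Q) => Cfsg.Agent.FusSys.apl_normalizerMonoidHom (P := Q) n hx
  exact Subgroup.subset_closure ((Cfsg.Agent.FusSys.mor_sub.2 ⟨hQ, fun x hx =>
      hQ (Cfsg.Agent.FusSys.apl_mem _ hx), (n : G), hnG, hv⟩ :
    Cfsg.Agent.FusSys.Mor (Cfsg.fusionSystemOfSubgroup (Cfsg.pResidual p G)
      ((S : Subgroup G) ⊓ Cfsg.pResidual p G) inf_le_right) Q
      (Cfsg.Agent.FusSys.apl (Q.normalizerMonoidHom n))).hom_eq fun x =>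
        (Cfsg.Agent.FusSys.apl_coe _ x).symm)

end Cfsg.Agent.S5139
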