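import Cfsg.Statements.S5147
import Cfsg.Agent.FusSys.ConstrainedFactor
import Cfsg.Agent.FusSys.ConstrainedGfs
import Cfsg.Agent.S5135
import Cfsg.Agent.S5115

set_option autoImplicit false
open Cfsg

namespace Cfsg.Agent.S5147

/-- Let G be a finite group with Sylow 2-subgroup S whose 2-fusion system on S is constrained, and L a component of G (a subnormal quasisimple subgroup). Then the 2-fusion system of L/Z(L) on the image of S ∩ L is constrained. -/
theorem result {G : Type*} [Group G] [Finite G] (S : Sylow 2 G) (hF : (Cfsg.groupFusionSystem (S : Subgroup G)).IsConstrained 2) (L : Subgroup G) (hL : Cfsg.IsComponent L) : (Cfsg.groupFusionSystem (((S : Subgroup G).subgroupOf L).map (QuotientGroup.mk' (Subgroup.center L)))).IsConstrained 2 := by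
  have hidx : ∀ H : Subgroup G, H.IsSubnormal → ¬ 2 ∣ ((S : Subgroup G).subgroupOf H).index := by
    intro H hH
    induction hH with
    | top =>
      rw [← Subgroup.relIndex, Subgroup.relIndex_top_right]
      exact S.not_dvd_index
    | step H K hle _ hN ih =>
      haveI := hN
      obtain ⟨R, hR⟩ : ∃ R : Sylow 2 K, (R : Subgroup K) = (S : Subgroup G).subgroupOf K :=
        ⟨(S.2.comap_subtype).toSylow ih, rfl⟩
      have hs := (Cfsg.Agent.FusSys.sylow_inter_normal R (H.subgroupOf K)).2
      rwa [Subgroup.inf_relIndex_right, hR, Subgroup.relIndex_subgroupOf hle] at hs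
  obtain ⟨T, hT⟩ : ∃ T : Sylow 2 L, (T : Subgroup L) = (S : Subgroup G).subgroupOf L :=
    ⟨(S.2.comap_subtype).toSylow (hidx L hL.1), rfl⟩
  have hc := Cfsg.Agent.S5115.result S hF L hL.1
  rw [← hT] at hc ⊢
  refine Cfsg.Agent.FusSys.constrained_factor T.2 (Cfsg.Agent.FusSys.gfs_saturated T)
    (Cfsg.Agent.S5135.result 2 T (Subgroup.center L)) ?_ hc ?_
  · refine Cfsg.Agent.FusSys.stronglyClosed_iff.2 ⟨inf_le_left, fun R f hR hf x hx => ⟨hf.mem_S hx, ?_⟩⟩
    obtain ⟨-, -, g, hg⟩ := Cfsg.Agent.FusSys.mor_gfs.1 hf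
    rw [hg x hx]
    exact Subgroup.Normal.conj_mem inferInstance x (hR hx).2 g
  · exact fun t ht s _ => Subgroup.mem_center_iff.1 ht.2 s

end Cfsg.Agent.S5147
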