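import Cfsg.Statements.S5154
import Cfsg.Agent.FusSys.ComponentMap

set_option autoImplicit false
open Cfsg

namespace Cfsg.Agent.S5154

/-- Let F be a saturated fusion system over a finite p-group S, C a component of F over T, and γ a map of F with source T. Then the image of C under γ — the fusion system over γ(T) whose maps are the homomorphisms induced along γ by the maps of C — is again a component of F. -/
theorem result {Ω : Type*} [Group Ω] {S : Subgroup Ω} [Finite S] (p : ℕ) [Fact p.Prime] (hS : IsPGroup p S) (F : Cfsg.FusionSystem S) (hF : F.IsSaturated p) {T : Subgroup Ω} (C : Cfsg.FusionSystem T) (hC : C.IsComponentIn F p) (γ : T →* Ω) (hγ : γ ∈ F.Hom T) (E : Cfsg.FusionSystem γ.range) (hE : C.IsFactorSystem ⊥ γ E) : E.IsComponentIn F p := by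
    obtain ⟨hTS, T₁, C₁, δ, h, hcomp⟩ := Cfsg.Agent.FusSys.component_map hS hC (Cfsg.Agent.FusSys.mor_extendFn hγ)
    have hf := h.isFactorSystem γ fun x => (Cfsg.Agent.FusSys.extendFn_coe γ x).symm
    obtain rfl : T₁ = γ.range := hf.2.2.1.symm
    have hEC : E = C₁ := Cfsg.Agent.FusSys.hom_ext_iff.2 fun P =>
      Set.ext fun φ => (hE.2.2.2 P φ).trans (hf.2.2.2 P φ).symm
    rw [hEC]
    exact hcomp

end Cfsg.Agent.S5154
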