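import Cfsg.Statements.S5160
import Cfsg.Agent.GroupSub.Saturation

set_option autoImplicit false
open Cfsg

namespace Cfsg.Agent.S5160

/-- Let G be a finite group with nontrivial Sylow p-subgroup S and F its fusion system on S. Suppose (a) no nontrivial proper subgroup of S is strongly closed in F, and (b) the automorphisms of S induced by G are generated by those induced, for R running over the fully normalized radical centric subgroups of F, by the subgroup of N_G(R) generated by its elements of p-power order. Then F is simple. -/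
theorem result {G : Type*} [Group G] [Finite G] (p : ℕ) [Fact p.Prime] (S : Sylow p G) (hS1 : (S : Subgroup G) ≠ ⊥) (ha : ∀ T : Subgroup G, (Cfsg.groupFusionSystem (S : Subgroup G)).StronglyClosed T → T = ⊥ ∨ T = (S : Subgroup G)) (hb : Cfsg.autInducedBy ⊤ (S : Subgroup G) = ⨆ (R : Subgroup G) (_ : (Cfsg.groupFusionSystem (S : Subgroup G)).IsFullyNormalized R ∧ (Cfsg.groupFusionSystem (S : Subgroup G)).IsRadical p R ∧ (Cfsg.groupFusionSystem (S : Subgroup G)).IsCentric R), Cfsg.autInducedBy (Subgroup.closure {g : G | g ∈ Subgroup.normalizer (R : Set G) ∧ ∃ k : ℕ, orderOf g = p ^ k}) (S : Subgroup G)) : (Cfsg.groupFusionSystem (S : Subgroup G)).IsSimple p := by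
  refine ⟨GroupSub.groupFusionSystem_isSaturated S, hS1, fun T E hE => ?_⟩
  rcases ha T hE.1.2.2.2.1 with h | h
  · exact Or.inl h
  · subst h
    refine Or.inr ⟨rfl, GroupSub.eq_of_normal hE fun g hg => ?_⟩
    have hsub := GroupSub.isGroupSub_of_subsystem S hE.1.2.2.1
    have hle : autInducedBy ⊤ (S : Subgroup G) ≤ E.autGroup (S : Subgroup G) := by
      rw [hb]
      refine iSup_le fun R => iSup_le fun hR => (Subgroup.closure_le _).2 ?_
      rintro α ⟨h, hh, hv⟩
      have hhS : h ∈ Subgroup.normalizer ((S : Subgroup G) : Set G) := GroupSub.mem_normalizer_of_cj_le (by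
        rintro _ ⟨x, hx, rfl⟩
        show h * x * h⁻¹ ∈ (S : Subgroup G)
        rw [← hv ⟨x, hx⟩]; exact (α ⟨x, hx⟩).2)
      have hm := GroupSub.homConj_of_normal hE hR.1 hR.2.2 hh hhS
      refine Subgroup.subset_closure ?_
      show (S : Subgroup G).subtype.comp α.toMonoidHom ∈ E.Hom (S : Subgroup G)
      have : (S : Subgroup G).subtype.comp α.toMonoidHom = conjHom (S : Subgroup G) h :=
        GroupSub.conjHom_eq hv
      rw [this]; exact hm
    have hα : (S : Subgroup G).normalizerMonoidHom ⟨g, hg⟩ ∈ E.autGroup (S : Subgroup G) :=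
      hle (Subgroup.subset_closure ⟨g, trivial, fun x => rfl⟩)
    have h1 := GroupSub.autGroup_hom E le_rfl hα
    show conjHom (S : Subgroup G) g ∈ E.Hom (S : Subgroup G)
    rw [← GroupSub.conjHom_eq (φ := (S : Subgroup G).subtype.comp
      ((S : Subgroup G).normalizerMonoidHom ⟨g, hg⟩).toMonoidHom) (g := g) (fun x => rfl)]
    exact h1

end Cfsg.Agent.S5160
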