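import Cfsg.Statements.S5163
import Cfsg.Agent.GroupSub.Data
import Cfsg.Agent.UniTri.Root
import Cfsg.Agent.Classical.LinearBasic
import Cfsg.Agent.Core.Solvable

set_option autoImplicit false
open Cfsg

namespace Cfsg.Agent.S5163

open Matrix
open Matrix.SpecialLinearGroup (diag2n)

variable {n : ℕ} {K : Type*} [Field K]

/-- The projection to PSL. -/
abbrev proj : SpecialLinearGroup (Fin n) K →* Matrix.ProjectiveSpecialLinearGroup (Fin n) K :=
  QuotientGroup.mk' _

variable (n K) in
/-- The image of the unitriangular group in PSL. -/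
abbrev uBar : Subgroup (Matrix.ProjectiveSpecialLinearGroup (Fin n) K) :=
  (UniTri.unitri n K).map proj

theorem proj_eq_one {x : SpecialLinearGroup (Fin n) K} :
    proj x = 1 ↔ x ∈ Subgroup.center (SpecialLinearGroup (Fin n) K) :=
  QuotientGroup.eq_one_iff x

/-- A central element of `p`-power order is trivial. -/
theorem central_p_trivial (p : ℕ) [Fact p.Prime] [CharP K p] {z : SpecialLinearGroup (Fin n) K}
    (hz : z ∈ Subgroup.center (SpecialLinearGroup (Fin n) K)) {k : ℕ} (hk : z ^ p ^ k = 1) : z = 1 := by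
  obtain ⟨r, -, hr⟩ := Matrix.SpecialLinearGroup.mem_center_iff.1 hz
  refine UniTri.sl_ext fun i j => ?_
  have hz' : (Matrix.scalar (Fin n) r) ^ p ^ k = 1 := by
    rw [hr]
    exact congrArg (fun X : SpecialLinearGroup (Fin n) K => (X : Matrix (Fin n) (Fin n) K)) hk
  show (z : Matrix (Fin n) (Fin n) K) i j = (1 : Matrix (Fin n) (Fin n) K) i j
  rw [← hr]
  have hr1 : r = 1 := by
    rw [← map_pow] at hz'
    have h1 : r ^ p ^ k = 1 := by simpa using congrFun (congrFun hz' i) i
    have h2 : (r - 1) ^ p ^ k = 0 := by rw [sub_pow_char_pow, h1, one_pow, sub_self]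
    exact sub_eq_zero.1 (eq_zero_of_pow_eq_zero h2)
  rw [hr1, map_one]

/-- An element of `U` which is trivial in PSL is trivial. -/
theorem unitri_proj_inj (p : ℕ) [Fact p.Prime] [CharP K p] {x : SpecialLinearGroup (Fin n) K}
    (hx : x ∈ UniTri.unitri n K) (h : proj x = 1) : x = 1 := by
  obtain ⟨k, hk⟩ := UniTri.isPGroup_unitri p ⟨x, hx⟩
  exact central_p_trivial p (proj_eq_one.1 h) (by simpa using congrArg Subtype.val hk)

theorem image_ne_bot (hn : 3 ≤ n) : uBar n K ≠ ⊥ := by
  intro h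
  have hlt : (⟨0, by omega⟩ : Fin n) < ⟨1, by omega⟩ := Nat.zero_lt_one
  have h1 : proj (SpecialLinearGroup.transvection hlt.ne (1 : K)) = 1 :=
    Subgroup.mem_bot.1 (h ▸ ⟨_, UniTri.tv_mem hlt 1, rfl⟩)
  exact one_ne_zero ((Matrix.SpecialLinearGroup.transvection_mem_center_iff hlt.ne (1 : K)).1
    (proj_eq_one.1 h1))

theorem strongly_closed [Finite K] (p : ℕ) [Fact p.Prime] [CharP K p] (hn : 3 ≤ n)
    (T : Subgroup (Matrix.ProjectiveSpecialLinearGroup (Fin n) K)) (hT : GroupSub.EltClosed (uBar n K) T) :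
    T = ⊥ ∨ T = uBar n K := by
  by_cases hb : T = ⊥
  · exact Or.inl hb
  refine Or.inr (le_antisymm hT.1 ?_)
  set U := UniTri.unitri n K with hUdef
  set V : Subgroup U := (T.comap proj).subgroupOf U with hV
  haveI hVn : V.Normal := ⟨fun v hv u => by
    have h := hT.2 _ (show proj (v : SpecialLinearGroup (Fin n) K) ∈ T from hv) (proj (u : SpecialLinearGroup (Fin n) K))
    have hm := h (by
      rw [← map_inv, ← map_mul, ← map_mul]
      exact ⟨_, U.mul_mem (U.mul_mem u.2 v.2) (U.inv_mem u.2), rfl⟩)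
    show proj ((u * v * u⁻¹ : U) : SpecialLinearGroup (Fin n) K) ∈ T
    simpa [map_mul, map_inv] using hm⟩
  have hVne : V ≠ ⊥ := by
    intro h
    apply hb
    rw [Subgroup.eq_bot_iff_forall]
    intro t ht
    obtain ⟨u, hu, rfl⟩ := hT.1 ht
    have hb' := Subgroup.mem_bot.1 (h ▸ (show (⟨u, hu⟩ : U) ∈ V from ht))
    rw [show u = 1 from congrArg Subtype.val hb', map_one]
  haveI : Group.IsNilpotent U := (UniTri.isPGroup_unitri p).isNilpotent
  obtain ⟨x, hx, hx1⟩ := (Subgroup.bot_or_exists_ne_one _).resolve_left (Core.inf_center_ne_bot hVne)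
  have ho : ∀ i : Fin n, (⟨0, by omega⟩ : Fin n) ≤ i := fun i => Nat.zero_le _
  have ht : ∀ i : Fin n, i ≤ (⟨n - 1, by omega⟩ : Fin n) := fun i => by
    show (i : ℕ) ≤ n - 1
    omega
  have hot : (⟨0, by omega⟩ : Fin n) < ⟨n - 1, by omega⟩ := show 0 < n - 1 by omega
  have hcor := UniTri.central_eq_corner x.2 (fun i j hij =>
    congrArg Subtype.val (Subgroup.mem_center_iff.1 hx.2 ⟨_, UniTri.tv_mem hij 1⟩)) hot ho ht
  set a := (((x : U) : SpecialLinearGroup (Fin n) K) : Matrix (Fin n) (Fin n) K) ⟨0, by omega⟩ ⟨n - 1, by omega⟩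
  have ha : a ≠ 0 := fun h => hx1 (Subtype.ext (by
    rw [hcor, h, Matrix.SpecialLinearGroup.transvection_coeff_zero]; rfl))
  refine Subgroup.map_le_iff_le_comap.2 (UniTri.unitri_le _ fun i j hij b => ?_)
  by_cases hb0 : b = 0
  · rw [hb0, Matrix.SpecialLinearGroup.transvection_coeff_zero]; exact Subgroup.one_mem _
  · obtain ⟨g, hg⟩ := UniTri.exists_conj_tv hn hot.ne hij.ne ha hb0
    have hin : proj (SpecialLinearGroup.transvection hot.ne a) ∈ T := by rw [← hcor]; exact hx.1
    have := hT.2 _ hin (proj g) (by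
      rw [← map_inv, ← map_mul, ← map_mul, hg]
      exact ⟨_, UniTri.tv_mem hij b, rfl⟩)
    rw [← map_inv, ← map_mul, ← map_mul, hg] at this
    exact this

theorem tv_p_element (p : ℕ) [Fact p.Prime] [CharP K p] {i j : Fin n} (hij : i ≠ j) (c : K) :
    ∃ k : ℕ, orderOf (proj (SpecialLinearGroup.transvection hij c)) = p ^ k := by
  have hpow : ∀ m : ℕ, (SpecialLinearGroup.transvection hij c : SpecialLinearGroup (Fin n) K) ^ m =
      SpecialLinearGroup.transvection hij ((m : K) * c) := by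
    intro m
    induction m with
    | zero => simp
    | succ m ih =>
      rw [pow_succ, ih, ← Matrix.SpecialLinearGroup.transvection_add]
      congr 1
      push_cast; ring
  have h1 : proj (SpecialLinearGroup.transvection hij c) ^ p = 1 := by
    rw [← map_pow, hpow, CharP.cast_eq_zero, zero_mul, Matrix.SpecialLinearGroup.transvection_coeff_zero, map_one]
  obtain ⟨k, -, hk⟩ := (Nat.dvd_prime_pow (Fact.out : p.Prime)).1
    (show orderOf (proj (SpecialLinearGroup.transvection hij c)) ∣ p ^ 1 by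
      rw [pow_one]; exact orderOf_dvd_of_pow_eq_one h1)
  exact ⟨k, hk⟩

theorem normalizer_gen [Finite K] (p : ℕ) [Fact p.Prime] [CharP K p] (hn : 3 ≤ n) :
    Subgroup.normalizer (uBar n K : Set (Matrix.ProjectiveSpecialLinearGroup (Fin n) K)) ≤
      uBar n K ⊔ Subgroup.centralizer (uBar n K : Set (Matrix.ProjectiveSpecialLinearGroup (Fin n) K)) ⊔
        Subgroup.closure (GroupSub.radGens p (uBar n K)) := by
  set U := UniTri.unitri n K with hUdef
  set H := uBar n K ⊔ Subgroup.centralizer (uBar n K : Set (Matrix.ProjectiveSpecialLinearGroup (Fin n) K)) ⊔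
    Subgroup.closure (GroupSub.radGens p (uBar n K)) with hH
  obtain ⟨P, hP⟩ := UniTri.exists_sylow (n := n) (K := K) p
  let S₀ : Sylow p (Matrix.ProjectiveSpecialLinearGroup (Fin n) K) :=
    P.mapSurjective (f := proj) (QuotientGroup.mk'_surjective _)
  have hS₀ : (S₀ : Subgroup (Matrix.ProjectiveSpecialLinearGroup (Fin n) K)) = uBar n K := by
    rw [Sylow.coe_mapSurjective, hP]
  intro γ hγ
  obtain ⟨g, rfl⟩ := QuotientGroup.mk'_surjective _ γ
  have hgU : g ∈ Subgroup.normalizer (U : Set (SpecialLinearGroup (Fin n) K)) := by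
    refine GroupSub.mem_normalizer_of_cj_le ?_
    rintro _ ⟨u, hu, rfl⟩
    show g * u * g⁻¹ ∈ U
    have hm : proj (g * u * g⁻¹) ∈ uBar n K := by
      rw [map_mul, map_mul, map_inv]
      exact (Subgroup.mem_normalizer_iff.1 hγ _).1 ⟨u, hu, rfl⟩
    obtain ⟨v, hv, hvz⟩ := hm
    have hz : v⁻¹ * (g * u * g⁻¹) ∈ Subgroup.center (SpecialLinearGroup (Fin n) K) :=
      proj_eq_one.1 (by rw [map_mul, map_inv, hvz, inv_mul_cancel])
    set z := v⁻¹ * (g * u * g⁻¹) with hzdef
    have e : g * u * g⁻¹ = v * z := by rw [hzdef, mul_inv_cancel_left]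
    obtain ⟨a, ha⟩ := UniTri.isPGroup_unitri p ⟨u, hu⟩
    obtain ⟨b, hb⟩ := UniTri.isPGroup_unitri p ⟨v, hv⟩
    have hua : u ^ p ^ a = 1 := by simpa using congrArg Subtype.val ha
    have hvb : v ^ p ^ b = 1 := by simpa using congrArg Subtype.val hb
    have hz1 : z = 1 := by
      refine central_p_trivial p hz (k := a + b) ?_
      have h1 : (g * u * g⁻¹) ^ p ^ (a + b) = 1 := by
        rw [conj_pow, pow_add, pow_mul, hua, one_pow, mul_one, mul_inv_cancel]
      have hcomm : Commute v z := (Subgroup.mem_center_iff.1 hz v)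
      rw [e, hcomm.mul_pow, pow_add, mul_comm (p ^ a) (p ^ b), pow_mul v, hvb, one_pow, one_mul,
        mul_comm (p ^ b) (p ^ a), ← pow_add] at h1
      exact h1
    rw [e, hz1, mul_one]; exact hv
  have hUH : U ≤ H.comap proj := fun u hu => Subgroup.mem_sup_left (Subgroup.mem_sup_left ⟨u, hu, rfl⟩)
  refine UniTri.upper_le (H.comap proj) hUH (fun k k1 hk hadj a ha => ?_)
    (UniTri.blockTriangular_of_mem_normalizer hgU)
  refine Subgroup.mem_sup_right (Subgroup.subset_closure ⟨?_, ?_⟩)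
  · refine GroupSub.mem_normalizer_of_cj_le ?_
    rintro _ ⟨_, ⟨u, hu, rfl⟩, rfl⟩
    exact ⟨_, UniTri.diag2n_conj_unitri hk.ne a ha hu, by simp [MulAut.conj_apply]⟩
  · set R := (UniTri.radical (K := K) k k1 hk hadj).map proj with hR
    have hRU : R ≤ uBar n K := Subgroup.map_mono fun A hA => hA.1
    have hn' : uBar n K ≤ Subgroup.normalizer (R : Set (Matrix.ProjectiveSpecialLinearGroup (Fin n) K)) := by
      rintro _ ⟨u, hu, rfl⟩
      refine GroupSub.mem_normalizer_of_cj_le ?_
      rintro _ ⟨_, ⟨A, hA, rfl⟩, rfl⟩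
      exact ⟨_, UniTri.unitri_conj_radical hk hadj hu hA, by simp [MulAut.conj_apply]⟩
    refine ⟨R, ?_, hn', ?_⟩
    · rw [← hS₀]
      refine GroupSub.pCentric_of_normal S₀ (hS₀.symm ▸ hRU) (hS₀.symm ▸ hn') ?_
      rw [hS₀]
      rintro _ ⟨⟨u, hu, rfl⟩, hc⟩
      refine ⟨u, UniTri.centralizer_radical hn hk hadj hu fun A hA => ?_, rfl⟩
      have h1 := hc (proj A) ⟨A, hA, rfl⟩
      have h2 : (A * u)⁻¹ * (u * A) = 1 := by
        refine unitri_proj_inj p (U.mul_mem (U.inv_mem (U.mul_mem hA.1 hu)) (U.mul_mem hu hA.1)) ?_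
        rw [map_mul, map_inv, map_mul, map_mul, h1, inv_mul_cancel]
      exact (inv_mul_eq_one.1 h2).symm
    · rw [Classical.diag2n_decompose]
      have hup : ∀ c : K, proj (SpecialLinearGroup.transvection hk.ne c) ∈
          Subgroup.closure {u | u ∈ Subgroup.normalizer (R : Set (Matrix.ProjectiveSpecialLinearGroup (Fin n) K)) ∧
            ∃ k : ℕ, orderOf u = p ^ k} :=
        fun c => Subgroup.subset_closure ⟨hn' ⟨_, UniTri.tv_mem hk c, rfl⟩, tv_p_element p _ c⟩
      have hlo : ∀ c : K, proj (SpecialLinearGroup.transvection hk.ne' c) ∈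
          Subgroup.closure {u | u ∈ Subgroup.normalizer (R : Set (Matrix.ProjectiveSpecialLinearGroup (Fin n) K)) ∧
            ∃ k : ℕ, orderOf u = p ^ k} := by
        refine fun c => Subgroup.subset_closure ⟨GroupSub.mem_normalizer_of_cj_le ?_, tv_p_element p _ c⟩
        rintro _ ⟨_, ⟨A, hA, rfl⟩, rfl⟩
        exact ⟨_, UniTri.lower_conj_radical hk hadj c hA, by simp [MulAut.conj_apply]⟩
      simp only [map_mul]
      exact mul_mem (mul_mem (mul_mem (mul_mem (mul_mem (hup _) (hlo _)) (hup _)) (hup _)) (hlo _)) (hup _)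

/-- For a finite field K of characteristic p and n ≥ 3, the p-fusion system of the projective special linear group PSL_n(K) on a Sylow p-subgroup is simple. -/
theorem result {K : Type*} [Field K] [Fintype K] (p : ℕ) [Fact p.Prime] [CharP K p] (n : ℕ) (hn : 3 ≤ n) (S : Sylow p (Matrix.ProjectiveSpecialLinearGroup (Fin n) K)) : (Cfsg.groupFusionSystem (S : Subgroup (Matrix.ProjectiveSpecialLinearGroup (Fin n) K))).IsSimple p := by
  obtain ⟨U, hU⟩ := UniTri.exists_sylow (n := n) (K := K) p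
  refine GroupSub.isSimple_of_data (U.mapSurjective (QuotientGroup.mk'_surjective _)) ?_ ?_ ?_ S
  all_goals rw [Sylow.coe_mapSurjective, hU]
  · exact image_ne_bot hn
  · exact fun T hT => strongly_closed p hn T hT
  · exact normalizer_gen p hn

end Cfsg.Agent.S5163
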