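import Cfsg.Statements.S5164
import Cfsg.Agent.GroupSub.TwoGroupInv

set_option autoImplicit false
open Cfsg

namespace Cfsg.Agent.S5164

open Equiv

/-- Embedding of permutations of a smaller set. -/
noncomputable def embedPerm (n : ℕ) {α : Type} [Fintype α] (h : Fintype.card α ≤ n) :
    Equiv.Perm α →* Equiv.Perm (Fin n) :=
  Equiv.Perm.extendDomainHom
    (Fintype.equivOfCardEq (α := α) (β := {i : Fin n // (i : ℕ) < Fintype.card α})
      (by rw [Fintype.card_subtype, Fin.card_filter_val_lt, min_eq_right h]))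

theorem embedPerm_injective (n : ℕ) {α : Type} [Fintype α] (h : Fintype.card α ≤ n) :
    Function.Injective (embedPerm n h) :=
  Equiv.Perm.extendDomainHom_injective _

theorem sign_embedPerm (n : ℕ) {α : Type} [Fintype α] [DecidableEq α] (h : Fintype.card α ≤ n)
    (σ : Equiv.Perm α) : Equiv.Perm.sign (embedPerm n h σ) = Equiv.Perm.sign σ :=
  Equiv.Perm.sign_extendDomain _ _

/-- Translation of `ZMod m`. -/
def trans1 (m : ℕ) : Equiv.Perm (ZMod m) := Equiv.addRight 1

/-- Multiplication by `1 + p` on `ZMod (p ^ 2)`. -/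
def mulP (p : ℕ) : Equiv.Perm (ZMod (p ^ 2)) where
  toFun x := (1 + p) * x
  invFun x := (1 - p) * x
  left_inv x := by
    have h : ((p : ZMod (p ^ 2))) ^ 2 = 0 := by exact_mod_cast ZMod.natCast_self (p ^ 2)
    show (1 - (p : ZMod (p ^ 2))) * ((1 + p) * x) = x
    linear_combination -x * h
  right_inv x := by
    have h : ((p : ZMod (p ^ 2))) ^ 2 = 0 := by exact_mod_cast ZMod.natCast_self (p ^ 2)
    show (1 + (p : ZMod (p ^ 2))) * ((1 - p) * x) = x
    linear_combination -x * h

theorem trans1_pow (m k : ℕ) (x : ZMod m) : (trans1 m ^ k) x = x + k := by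
  induction k with
  | zero => simp
  | succ k ih =>
    rw [pow_succ', Equiv.Perm.mul_apply, ih]
    show x + k + 1 = x + ((k + 1 : ℕ) : ZMod m)
    push_cast; ring

theorem mulP_pow (p k : ℕ) (x : ZMod (p ^ 2)) : (mulP p ^ k) x = (1 + k * p) * x := by
  have h : ((p : ZMod (p ^ 2))) ^ 2 = 0 := by exact_mod_cast ZMod.natCast_self (p ^ 2)
  induction k with
  | zero => simp
  | succ k ih =>
    rw [pow_succ' (mulP p), Equiv.Perm.mul_apply, ih]
    show (1 + (p : ZMod (p ^ 2))) * ((1 + k * p) * x) = (1 + ((k + 1 : ℕ) : ZMod (p ^ 2)) * p) * x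
    push_cast
    linear_combination (k * x) * h

theorem isPGroup_pair {G : Type*} [Group G] [Finite G] {p : ℕ} {a b : G} {i j k : ℕ}
    (ha : a ^ p ^ i = 1) (hb : b ^ p ^ j = 1) (hab : b * a * b⁻¹ = a ^ k) :
    IsPGroup p (Subgroup.zpowers a ⊔ Subgroup.zpowers b : Subgroup G) := by
  refine (GroupSub.isPGroup_zpowers_of_pow ha).to_sup_of_normal_left' (GroupSub.isPGroup_zpowers_of_pow hb) ?_
  rw [Subgroup.zpowers_le]
  refine GroupSub.mem_normalizer_of_cj_le ?_
  show (Subgroup.zpowers a).map (MulAut.conj b).toMonoidHom ≤ Subgroup.zpowers a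
  rw [MonoidHom.map_zpowers, Subgroup.zpowers_le]
  show b * a * b⁻¹ ∈ _
  rw [hab]
  exact Subgroup.pow_mem _ (Subgroup.mem_zpowers a) k

/-- A dihedral pair in degree 6. -/
def d6a : Equiv.Perm (Fin 6) := Equiv.swap 0 3 * Equiv.swap 0 2 * Equiv.swap 0 1 * Equiv.swap 4 5

/-- A dihedral pair in degree 6. -/
def d6b : Equiv.Perm (Fin 6) := Equiv.swap 1 3 * Equiv.swap 4 5

theorem exists_nonabelian (n p : ℕ) (hn : 6 ≤ n) [Fact p.Prime] (hp : p ^ 2 ≤ n) :
    ∃ a b : alternatingGroup (Fin n), a * b ≠ b * a ∧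
      IsPGroup p (Subgroup.zpowers a ⊔ Subgroup.zpowers b : Subgroup (alternatingGroup (Fin n))) := by
  have key : ∀ {α : Type} [Fintype α] [DecidableEq α] (h : Fintype.card α ≤ n) (a b : Equiv.Perm α)
      (i j k : ℕ), Equiv.Perm.sign a = 1 → Equiv.Perm.sign b = 1 → a ^ p ^ i = 1 → b ^ p ^ j = 1 →
      b * a * b⁻¹ = a ^ k → a * b ≠ b * a → ∃ a b : alternatingGroup (Fin n), a * b ≠ b * a ∧
      IsPGroup p (Subgroup.zpowers a ⊔ Subgroup.zpowers b : Subgroup (alternatingGroup (Fin n))) := by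
    intro α _ _ h a b i j k hsa hsb ha hb hab hne
    refine ⟨⟨embedPerm n h a, ?_⟩, ⟨embedPerm n h b, ?_⟩, ?_, ?_⟩
    · rw [Equiv.Perm.mem_alternatingGroup, sign_embedPerm, hsa]
    · rw [Equiv.Perm.mem_alternatingGroup, sign_embedPerm, hsb]
    · intro e
      have e' := congrArg Subtype.val e
      simp only [Subgroup.coe_mul, ← map_mul] at e'
      exact hne (embedPerm_injective n h e')
    · refine isPGroup_pair (i := i) (j := j) (k := k) (Subtype.ext ?_) (Subtype.ext ?_) (Subtype.ext ?_)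
      · simp only [SubmonoidClass.coe_pow, ← map_pow, ha, map_one, OneMemClass.coe_one]
      · simp only [SubmonoidClass.coe_pow, ← map_pow, hb, map_one, OneMemClass.coe_one]
      · simp only [Subgroup.coe_mul, InvMemClass.coe_inv, SubmonoidClass.coe_pow, ← map_pow, ← map_inv,
          ← map_mul, hab]
  have hpp := (Fact.out : p.Prime)
  rcases hpp.eq_two_or_odd' with rfl | hodd
  · exact key (α := Fin 6) (by simpa using hn) d6a d6b 2 1 3 (by decide) (by decide) (by decide)
      (by decide) (by decide) (by decide)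
  haveI : NeZero (p ^ 2) := ⟨pow_ne_zero _ hpp.ne_zero⟩
  have h0 : ((p : ZMod (p ^ 2))) ^ 2 = 0 := by exact_mod_cast ZMod.natCast_self (p ^ 2)
  have ha : trans1 (p ^ 2) ^ p ^ 2 = 1 := Equiv.ext fun x => by
    rw [trans1_pow, ZMod.natCast_self, add_zero]; rfl
  have hb : mulP p ^ p ^ 1 = 1 := Equiv.ext fun x => by
    rw [pow_one, mulP_pow, ← pow_two, h0, add_zero, one_mul]; rfl
  have hsign : ∀ {σ : Equiv.Perm (ZMod (p ^ 2))} {i : ℕ}, σ ^ p ^ i = 1 → Equiv.Perm.sign σ = 1 := by
    intro σ i hσ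
    have h1 := congrArg Equiv.Perm.sign hσ
    rw [map_pow, map_one] at h1
    obtain ⟨m, hm⟩ : Odd (p ^ i) := hodd.pow
    rw [hm, pow_succ, pow_mul, Int.units_sq, one_pow, one_mul] at h1
    exact h1
  refine key (α := ZMod (p ^ 2)) (by rw [ZMod.card]; exact hp) (trans1 (p ^ 2)) (mulP p) 2 1 (1 + p)
    (hsign ha) (hsign hb) ha hb ?_ ?_
  · rw [mul_inv_eq_iff_eq_mul]
    refine Equiv.ext fun x => ?_
    rw [Equiv.Perm.mul_apply, Equiv.Perm.mul_apply, trans1_pow]
    show (1 + (p : ZMod (p ^ 2))) * (x + 1) = (1 + p) * x + ((1 + p : ℕ) : ZMod (p ^ 2))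
    push_cast; ring
  · intro e
    have h := congrArg (fun σ : Equiv.Perm (ZMod (p ^ 2)) => σ 0) e
    have h' : (1 + (p : ZMod (p ^ 2))) * 0 + 1 = (1 + p) * (0 + 1) := h
    have h'' : (p : ZMod (p ^ 2)) = 0 := by linear_combination -h'
    rw [ZMod.natCast_eq_zero_iff] at h''
    have := Nat.le_of_dvd hpp.pos h''
    have := hpp.two_le
    nlinarith

theorem perm_comm (n p : ℕ) [Fact p.Prime] (hlt : n < p ^ 2) (P : Subgroup (alternatingGroup (Fin n)))
    (hP : IsPGroup p P) (x y : P) :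
    ((x * y : P) : alternatingGroup (Fin n)).1 = ((y * x : P) : alternatingGroup (Fin n)).1 := by
  classical
  have hpp := (Fact.out : p.Prime)
  refine Equiv.ext fun a => ?_
  have hO : Nat.card (MulAction.orbit P a) ≤ p := by
    obtain ⟨i, hi⟩ := hP.card_orbit a
    have hle : Nat.card (MulAction.orbit P a) ≤ n :=
      (Nat.card_le_card_of_injective _ Subtype.val_injective).trans_eq (Nat.card_fin n)
    rw [hi] at hle ⊢
    rcases Nat.lt_or_ge i 2 with h | h
    · calc p ^ i ≤ p ^ 1 := Nat.pow_le_pow_right hpp.pos (by omega)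
        _ = p := pow_one p
    · exact absurd ((Nat.pow_le_pow_right hpp.pos h).trans hle) (not_le.2 hlt)
  set φ := MulAction.toPermHom P (MulAction.orbit P a) with hφ
  have hR : IsPGroup p φ.range := hP.of_surjective φ.rangeRestrict φ.rangeRestrict_surjective
  obtain ⟨j, hj⟩ := IsPGroup.iff_card.1 hR
  have hdvd : p ^ j ∣ p.factorial := by
    rw [← hj]
    refine (Subgroup.card_subgroup_dvd_card _).trans ?_
    rw [Nat.card_perm]
    exact Nat.factorial_dvd_factorial hO
  have hj1 : j ≤ 1 := by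
    by_contra hj2
    have h2 : p * p ∣ p * (p - 1).factorial := by
      rw [Nat.mul_factorial_pred hpp.ne_zero, ← pow_two]
      exact (Nat.pow_dvd_pow p (by omega : 2 ≤ j)).trans hdvd
    have := (hpp.dvd_factorial).1 (Nat.dvd_of_mul_dvd_mul_left hpp.pos h2)
    have := hpp.pos
    omega
  haveI : IsCyclic φ.range := by
    rcases Nat.le_one_iff_eq_zero_or_eq_one.1 hj1 with rfl | rfl
    · rw [pow_zero] at hj
      haveI := (Nat.card_eq_one_iff_unique.1 hj).1
      infer_instance
    · rw [pow_one] at hj; exact isCyclic_of_prime_card hj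
  have hc : φ (x * y) = φ (y * x) := by
    rw [map_mul, map_mul]
    exact congrArg Subtype.val
      ((IsCyclic.commGroup (α := φ.range)).mul_comm ⟨φ x, x, rfl⟩ ⟨φ y, y, rfl⟩)
  have := congrArg (fun σ : Equiv.Perm (MulAction.orbit P a) => (σ ⟨a, MulAction.mem_orbit_self a⟩ : Fin n)) hc
  exact this

/-- For n ≥ 6 and a prime p, a nontrivial Sylow p-subgroup of the alternating group of degree n is abelian if and only if n < p². -/
theorem result (n p : ℕ) (hn : 6 ≤ n) [Fact p.Prime] (S : Sylow p (alternatingGroup (Fin n))) (hS : (S : Subgroup (alternatingGroup (Fin n))) ≠ ⊥) : IsMulCommutative S ↔ n < p ^ 2 := by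
  constructor
  · intro hab
    by_contra hlt
    obtain ⟨a, b, hne, hH⟩ := exists_nonabelian n p hn (not_lt.1 hlt)
    obtain ⟨T, hT⟩ := hH.exists_le_sylow
    obtain ⟨g, hg⟩ := MulAction.exists_smul_eq (alternatingGroup (Fin n)) T S
    apply hne
    have hmem : ∀ x ∈ (T : Subgroup (alternatingGroup (Fin n))), g * x * g⁻¹ ∈ (S : Subgroup (alternatingGroup (Fin n))) := by
      intro x hx
      rw [← hg]
      exact ⟨x, hx, rfl⟩
    have ha := hmem a (hT (Subgroup.mem_sup_left (Subgroup.mem_zpowers a)))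
    have hb := hmem b (hT (Subgroup.mem_sup_right (Subgroup.mem_zpowers b)))
    have h := congrArg Subtype.val (hab.is_comm.comm ⟨_, ha⟩ ⟨_, hb⟩)
    simp only [Subgroup.coe_mul] at h
    have h' : g * (a * b) * g⁻¹ = g * (b * a) * g⁻¹ := by
      calc g * (a * b) * g⁻¹ = g * a * g⁻¹ * (g * b * g⁻¹) := by group
        _ = g * b * g⁻¹ * (g * a * g⁻¹) := h
        _ = g * (b * a) * g⁻¹ := by group
    exact mul_left_cancel (mul_right_cancel h')
  · intro hlt
    exact ⟨⟨fun x y => Subtype.ext (Subtype.ext (perm_comm n p hlt _ S.isPGroup' x y))⟩⟩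

end Cfsg.Agent.S5164
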