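import Cfsg.Statements.S5165
import Cfsg.Agent.GroupSub.NormalPElem
import Cfsg.Agent.AltFus.Closed
import Cfsg.Agent.AltFus.Local
import Cfsg.Agent.SymSylow.Alt

set_option autoImplicit false
open Cfsg

namespace Cfsg.Agent.S5165

open Equiv GroupSub GroupSub.AffWreath AltFus

section

variable {p : ℕ} [hp : Fact p.Prime] {K L J : Type} [Fintype K] [DecidableEq K] [Fintype L] [DecidableEq L]
  [Fintype J] [DecidableEq J]

local notation "I2" => (K × ZMod p) ⊕ L
local notation "Pt" => (((((K × ZMod p) ⊕ L)) × ZMod p) ⊕ J)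

/-- `Aut_G(S)` lies in every normal subsystem over `S`, for `p` odd. -/
theorem allAut_odd [Subsingleton J] {G : Type*} [Group G] [Finite G] {S : Sylow p G} (θ : G →* Perm Pt)
    (hinj : Function.Injective θ) (hrange : ∀ y : Perm Pt, Perm.sign y = 1 → ∃ x, θ x = y)
    (hθs : ∀ x, Perm.sign (θ x) = 1) (hodd : Odd p) (hI : p ≤ Fintype.card I2) {P' : Subgroup (Perm K)}
    (hP' : IsPGroup p P') (k₀ : K)
    (hS : ∀ x : G, x ∈ (S : Subgroup G) ↔ θ x ∈ wr (wr P' : Subgroup (Perm I2)))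
    (E : Cfsg.FusionSystem (S : Subgroup G))
    (hE : E.IsNormalIn (Cfsg.groupFusionSystem (S : Subgroup G)) p)
    (γ : G) (hγ : γ ∈ Subgroup.normalizer ((S : Subgroup G) : Set G)) :
    HomConj E (S : Subgroup G) γ := by
  classical
  have hsub : E.IsSubsystemOf (Cfsg.groupFusionSystem (S : Subgroup G)) := hE.1.2.2.1
  have hgs := isGroupSub_of_subsystem S hsub
  have hsat : E.IsSaturated p := hE.1.1
  have hpow : ∀ y : G, (∃ k : ℕ, (θ y) ^ p ^ k = 1) → ∃ k : ℕ, y ^ p ^ k = 1 := fun y ⟨k, hk⟩ =>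
    ⟨k, hinj (by rw [map_pow, hk, map_one])⟩
  -- the abelian subgroup
  set A : Subgroup G :=
    { carrier := {x | ∃ f : I2 → ZMod p, θ x = tr f}
      one_mem' := ⟨0, by rw [map_one, tr_zero]⟩
      mul_mem' := by
        rintro x y ⟨f, hf⟩ ⟨f', hf'⟩
        exact ⟨f + f', by rw [map_mul, hf, hf', tr_mul]⟩
      inv_mem' := by
        rintro x ⟨f, hf⟩
        exact ⟨-f, by rw [map_inv, hf, tr_inv]⟩ } with hAdef
  have hA : ∀ x, x ∈ A ↔ ∃ f : I2 → ZMod p, θ x = tr f := fun x => Iff.rfl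
  have hAS : A ≤ (S : Subgroup G) := by
    intro x hx
    obtain ⟨f, hf⟩ := (hA x).1 hx
    rw [hS, hf]
    exact tr_mem_wr _ f
  have hAc : PCentric p (S : Subgroup G) A := by
    refine ⟨hAS, fun m hm _ => ?_⟩
    have hc : ∀ i : I2, θ m * tr (single i) * (θ m)⁻¹ = tr (single i) := by
      intro i
      obtain ⟨x, hx⟩ := hrange (tr (single i)) (sign_tr_odd hodd _)
      have h := congrArg θ (hm x ((hA x).2 ⟨_, hx⟩))
      rw [map_mul, map_mul, hx] at h
      rw [← h, mul_inv_cancel_right]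
    obtain ⟨σ, t, f, e⟩ := exists_gaff (θ m) (fun i => ⟨1, single i, hc i⟩)
    have h1 : ∀ i k : I2, (t (σ⁻¹ k) : ZMod p) * single i (σ⁻¹ k) = single i k := by
      intro i k
      have h := hc i
      rw [e, gaff_conj_tr] at h
      exact congrFun (gaff_inj (J := J) h).2.2 k
    have hσ : σ = 1 := by
      refine Equiv.ext fun i => by_contra fun hi => ?_
      have h := h1 i (σ i)
      simp [single, Pi.single_apply, show σ i ≠ i from hi] at h
    subst hσ
    have ht : t = 1 := funext fun i => Units.ext (by have h := h1 i i; rw [inv_one] at h; simpa [single] using h)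
    subst ht
    exact (hA m).2 ⟨f, e⟩
  -- block-affine elements normalise `A`
  have hAn : ∀ y : G, (∃ σ t f, θ y = gaff σ t f) → y ∈ Subgroup.normalizer (A : Set G) := by
    rintro y ⟨σ, t, f, e⟩
    refine mem_normalizer_of_cj_le ?_
    rintro _ ⟨x, hx, rfl⟩
    obtain ⟨f', hf'⟩ := (hA x).1 hx
    refine (hA _).2 ⟨fun i => (t (σ⁻¹ i) : ZMod p) * f' (σ⁻¹ i), ?_⟩
    show θ (y * x * y⁻¹) = _
    rw [map_mul, map_mul, map_inv, e, hf', gaff_conj_tr]
  -- the regular subgroup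
  set R : Subgroup G := (Rs p K L J).comap θ with hR
  have hRs : ∀ r ∈ Rs p K L J, r ∈ (wr (wr P' : Subgroup (Perm I2)) : Subgroup (Perm Pt)) ∧ Perm.sign r = 1 := by
    rintro _ ⟨v, g, rfl⟩
    have h : (rEl v g : Perm Pt) ∈ (wr (wr P' : Subgroup (Perm I2)) : Subgroup (Perm Pt)) :=
      ⟨_, ⟨1, P'.one_mem, _, rfl⟩, _, rfl⟩
    refine ⟨h, sign_of_pow hodd (k := 1) ?_⟩
    have hk : ∀ k : ℕ, (rEl v g : Perm Pt) ^ k = rEl (k • v) (k • g) := by
      intro k
      induction k with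
      | zero => refine Equiv.ext fun x => ?_; rcases x with ⟨(⟨s, a⟩ | l), b⟩ | j <;> simp
      | succ k ih =>
        rw [pow_succ, ih]
        refine Equiv.ext fun x => ?_
        rcases x with ⟨(⟨s, a⟩ | l), b⟩ | j <;> simp [succ_nsmul, add_assoc, add_mul] <;> first | ring1 | (constructor <;> ring1) | exact ⟨trivial, trivial⟩
    rw [pow_one, hk]
    refine Equiv.ext fun x => ?_
    rcases x with ⟨(⟨s, a⟩ | l), b⟩ | j <;> simp
  have hRS : R ≤ (S : Subgroup G) := fun x hx => (hS x).2 (hRs _ hx).1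
  have hRc : PCentric p (S : Subgroup G) R := by
    refine ⟨hRS, fun m hm _ => mem_Rs_of_commute fun r hr => ?_⟩
    obtain ⟨x, rfl⟩ := hrange r (hRs r hr).2
    rw [← map_mul, ← map_mul, hm x hr]
  -- the torus element
  obtain ⟨u, hu⟩ := IsCyclic.exists_generator (α := (ZMod p)ˣ)
  set U : Finset K := (MulAction.orbit P' k₀).toFinset with hU
  have hUinv : ∀ π ∈ P', ∀ s, π s ∈ U ↔ s ∈ U := by
    intro π hπ s
    simp only [hU, Set.mem_toFinset]
    show (⟨π, hπ⟩ : P') • s ∈ MulAction.orbit P' k₀ ↔ _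
    rw [← MulAction.orbit_eq_iff, MulAction.orbit_smul, MulAction.orbit_eq_iff]
  obtain ⟨i, hi⟩ := hP'.card_orbit k₀
  have hUc : U.card = p ^ i := by
    rw [hU, ← hi, Set.toFinset_card, Nat.card_eq_fintype_card]
  have hup : ∀ (x : (ZMod p)ˣ) (k : ℕ), x ^ p ^ k = x := by
    intro x k
    have h1 : x ^ p = x := by
      have h2 : x ^ p = x ^ (p - 1) * x := by
        rw [← pow_succ]
        congr 1
        have := hp.out.pos
        omega
      rw [h2, ZMod.units_pow_card_sub_one_eq_one, one_mul]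
    induction k with
    | zero => rw [pow_zero, pow_one]
    | succ k ih => rw [pow_succ, pow_mul, ih, h1]
  have hd : ∀ d : (ZMod p)ˣ, d ∈ Subgroup.zpowers (∏ j, (t0 U u : I2 → (ZMod p)ˣ) j) := fun d => by
    rw [prod_t0, hUc, ← pow_succ, hup, Subgroup.zpowers_inv]
    exact hu d
  -- it lies in the automiser of `R` and normalises `S`
  have hgR : (g0 U u : Perm Pt) ∈ (autElems E R hRS).map θ := by
    refine g0_mem U u _ fun x hx hxn => ?_
    obtain ⟨y, rfl⟩ := hrange x (sign_of_pow hodd (k := 1) (by rw [pow_one]; exact hx))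
    refine ⟨y, mem_autElems_of_pElem hE hRS (mem_normalizer_of_cj_le ?_) (hpow y ⟨1, by rw [pow_one]; exact hx⟩), rfl⟩
    rintro _ ⟨r, hr, rfl⟩
    show θ (y * r * y⁻¹) ∈ Rs p K L J
    rw [map_mul, map_mul, map_inv]
    exact hxn _ hr
  obtain ⟨γ₀, hγ₀, hγ₀e⟩ := hgR
  have hγ₀S : γ₀ ∈ Subgroup.normalizer ((S : Subgroup G) : Set G) := by
    refine mem_normalizer_of_cj_le ?_
    rintro _ ⟨x, hx, rfl⟩
    show γ₀ * x * γ₀⁻¹ ∈ (S : Subgroup G)
    rw [hS, map_mul, map_mul, map_inv, hγ₀e]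
    exact g0_conj U u hUinv ((hS x).1 hx)
  have hγ₀A : γ₀ ∈ autElems E A hAS :=
    ⟨hAn _ ⟨_, _, _, hγ₀e.trans (g0_eq_gaff U u)⟩,
      (homConj_extend_top S.isPGroup' hgs hsat hRc hγ₀S hγ₀.2).mono hAS⟩
  have hK : Kp p I2 J ≤ (autElems E A hAS).map θ := by
    refine (Subgroup.closure_le _).2 ?_
    rintro x ⟨hx, k, hk⟩
    obtain ⟨y, rfl⟩ := hrange x (sign_of_pow hodd hk)
    exact ⟨y, mem_autElems_of_pElem hE hAS (hAn y hx) (hpow y ⟨k, hk⟩), rfl⟩
  -- the given element is block-affine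
  obtain ⟨σ, t, f, e⟩ := exists_gaff (θ γ) (fun i => by
    obtain ⟨x, hx⟩ := hrange (tr (single i)) (sign_tr_odd hodd _)
    have h := (Subgroup.mem_normalizer_iff.1 hγ x).1 (hAS ((hA x).2 ⟨_, hx⟩))
    rw [hS, map_mul, map_mul, map_inv, hx] at h
    obtain ⟨σ, -, f, h⟩ := h
    exact ⟨σ, f, h⟩)
  have hmem : θ γ ∈ Kp p I2 J ⊔ Subgroup.zpowers (g0 U u : Perm Pt) := by
    rw [e, g0_eq_gaff]
    exact mem_sup_of_generator hodd hI (by rw [← g0_eq_gaff, ← hγ₀e]; exact hθs _) hd (by rw [← e]; exact hθs _)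
  obtain ⟨γ', hγ', hγe⟩ := (sup_le hK (Subgroup.zpowers_le.2 ⟨γ₀, hγ₀A, hγ₀e⟩) :
    _ ≤ (autElems E A hAS).map θ) hmem
  rw [hinj hγe] at hγ'
  exact homConj_extend_top S.isPGroup' hgs hsat hAc hγ hγ'.2

end

/-- For n ≥ 6, a prime p with p² ≤ n, and n congruent to 0 or 1 modulo p, the p-fusion system of the alternating group of degree n on a Sylow p-subgroup is simple. -/
theorem result (n p : ℕ) (hn : 6 ≤ n) [Fact p.Prime] (hnp : p ^ 2 ≤ n) (hb : n % p ≤ 1) (S : Sylow p (alternatingGroup (Fin n))) : (Cfsg.groupFusionSystem (S : Subgroup (alternatingGroup (Fin n)))).IsSimple p := by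
  classical
  have hp := (Fact.out : p.Prime)
  have hm : p ≤ n / p := (Nat.le_div_iff_mul_le hp.pos).2 (by rw [← pow_two]; exact hnp)
  have hm3 : 3 ≤ n / p := by
    rcases hp.eq_two_or_odd' with h2 | ⟨k, hk⟩
    · subst h2; omega
    · have := hp.two_le; omega
  have hN : 1 ≤ n / p / p := (Nat.le_div_iff_mul_le hp.pos).2 (by rw [one_mul]; exact hm)
  set N := n / p / p
  set a₀ := n / p % p
  set ε := n % p
  haveI : Subsingleton (Fin ε) := Fin.subsingleton_iff_le_one.2 hb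
  obtain ⟨P', hP'⟩ := exists_isGenSylow (p := p) N (Fin N) (Nat.card_fin N)
  have hcI : Fintype.card ((Fin N × ZMod p) ⊕ Fin a₀) = n / p := by
    rw [Fintype.card_sum, Fintype.card_prod, ZMod.card, Fintype.card_fin, Fintype.card_fin]
    exact Nat.div_add_mod' (n / p) p
  have hcPt : Fintype.card ((((Fin N × ZMod p) ⊕ Fin a₀) × ZMod p) ⊕ Fin ε) = n := by
    rw [Fintype.card_sum, Fintype.card_prod, hcI, ZMod.card, Fintype.card_fin]
    exact Nat.div_add_mod' n p
  have hPb : IsGenSylow p (wr P' : Subgroup (Perm ((Fin N × ZMod p) ⊕ Fin a₀))) :=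
    isGenSylow_wr (by rw [Nat.card_fin]; exact Nat.mod_lt _ hp.pos) hP'
  have hW : IsGenSylow p (wr (wr P' : Subgroup (Perm ((Fin N × ZMod p) ⊕ Fin a₀))) :
      Subgroup (Perm ((((Fin N × ZMod p) ⊕ Fin a₀) × ZMod p) ⊕ Fin ε))) :=
    isGenSylow_wr (by rw [Nat.card_fin]; exact Nat.mod_lt _ hp.pos) hPb
  set W : Subgroup (Perm ((((Fin N × ZMod p) ⊕ Fin a₀) × ZMod p) ⊕ Fin ε)) :=
    wr (wr P' : Subgroup (Perm ((Fin N × ZMod p) ⊕ Fin a₀))) with hWdef
  -- the embedding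
  let e : Fin n ≃ ((((Fin N × ZMod p) ⊕ Fin a₀) × ZMod p) ⊕ Fin ε) := (Fintype.equivFinOfCardEq hcPt).symm
  let θ₁ : alternatingGroup (Fin n) →* Perm ((((Fin N × ZMod p) ⊕ Fin a₀) × ZMod p) ⊕ Fin ε) :=
    e.permCongrHom.toMonoidHom.comp (alternatingGroup (Fin n)).subtype
  have hθ₁ : ∀ x, Perm.sign (θ₁ x) = 1 := fun x => by
    show Perm.sign (e.permCongr (x : Perm (Fin n))) = 1
    rw [Perm.sign_permCongr]
    exact Perm.mem_alternatingGroup.1 x.2
  obtain ⟨V, hV⟩ := (S.isPGroup'.map θ₁).exists_le_sylow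
  obtain ⟨a, ha⟩ := MulAction.exists_smul_eq (Perm ((((Fin N × ZMod p) ⊕ Fin a₀) × ZMod p) ⊕ Fin ε)) V
    (Sylow.ofCard W (by rw [Nat.card_perm]; exact hW.1))
  let θ : alternatingGroup (Fin n) →* Perm ((((Fin N × ZMod p) ⊕ Fin a₀) × ZMod p) ⊕ Fin ε) :=
    (MulAut.conj a).toMonoidHom.comp θ₁
  have hθs : ∀ x, Perm.sign (θ x) = 1 := fun x => by
    show Perm.sign (a * θ₁ x * a⁻¹) = 1
    rw [map_mul, map_mul, hθ₁, mul_one, map_inv, mul_inv_cancel]
  have hinj : Function.Injective θ :=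
    (MulAut.conj a).injective.comp (e.permCongrHom.injective.comp Subtype.val_injective)
  have hrange : ∀ y, Perm.sign y = 1 → ∃ x, θ x = y := by
    intro y hy
    have hs : Perm.sign (e.symm.permCongr (a⁻¹ * y * a)) = 1 := by
      rw [Perm.sign_permCongr, map_mul, map_mul, hy, mul_one, map_inv, inv_mul_cancel]
    refine ⟨⟨_, Perm.mem_alternatingGroup.2 hs⟩, ?_⟩
    show a * e.permCongr (e.symm.permCongr (a⁻¹ * y * a)) * a⁻¹ = y
    rw [show e.permCongr (e.symm.permCongr (a⁻¹ * y * a)) = a⁻¹ * y * a from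
      Equiv.ext fun v => by simp]
    group
  have hWp : IsPGroup p W := isPGroup_of_genSylow hW
  have hSW : (S : Subgroup (alternatingGroup (Fin n))) = W.comap θ := by
    refine (S.is_maximal' (hWp.comap_of_injective θ hinj) ?_).symm
    intro x hx
    show a * θ₁ x * a⁻¹ ∈ W
    have h : a * θ₁ x * a⁻¹ ∈ (a • V : Sylow p _) := ⟨θ₁ x, hV ⟨x, hx, rfl⟩, rfl⟩
    rw [ha] at h
    exact h
  have hS : ∀ x, x ∈ (S : Subgroup (alternatingGroup (Fin n))) ↔ θ x ∈ W := fun x => by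
    rw [hSW]; rfl
  refine isSimple_of_allAut ?_ (fun T hT => ?_) (fun E hE γ hγ => ?_)
  · -- nontrivial
    intro hbot
    obtain ⟨i, j, hij⟩ := Fintype.exists_pair_of_one_lt_card (α := (Fin N × ZMod p) ⊕ Fin a₀) (by omega)
    set f : (Fin N × ZMod p) ⊕ Fin a₀ → ZMod p := Pi.single i 1 - Pi.single j 1 with hf
    have hs : Perm.sign (tr f : Perm ((((Fin N × ZMod p) ⊕ Fin a₀) × ZMod p) ⊕ Fin ε)) = 1 := by
      rcases hp.eq_two_or_odd' with h2 | hodd
      · subst h2; rw [sign_tr_two, if_pos]; simp [hf]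
      · exact sign_tr_odd hodd f
    obtain ⟨x, hx⟩ := hrange _ hs
    have hxS : x ∈ (S : Subgroup (alternatingGroup (Fin n))) := (hS x).2 (hx ▸ tr_mem_wr _ f)
    rw [hbot, Subgroup.mem_bot] at hxS
    rw [hxS, map_one, ← tr_zero] at hx
    have h := congrFun (gaff_inj hx).2.2 i
    simp [hf, hij] at h
  · by_cases hT0 : T = ⊥
    · exact Or.inl hT0
    refine Or.inr (le_antisymm hT.1 ?_)
    have hle : W ⊓ alternatingGroup _ ≤ T.map θ := by
      refine even_part_le (by omega) (by rw [Fintype.card_fin]; exact Nat.mod_lt _ hp.pos)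
        (isPGroup_of_genSylow hPb) hPb.2 ?_ ?_ ?_ ?_
      · intro h2
        subst h2
        refine ⟨Sum.inl (⟨0, hN⟩, 0), Sum.inl (⟨0, hN⟩, 1), by simp, 1, P'.one_mem, Pi.single ⟨0, hN⟩ 1, ?_⟩
        refine Equiv.ext fun x => ?_
        rcases x with ⟨s, b⟩ | l
        · by_cases hs : s = ⟨0, hN⟩
          · subst hs
            rcases zmod2_cases b with rfl | rfl
            · simp
            · simp [zmod2_one_add]
          · rw [gaff_inl, Equiv.swap_apply_of_ne_of_ne]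
            · simp [hs]
            · simp [hs]
            · simp [hs]
        · rw [gaff_inr, Equiv.swap_apply_of_ne_of_ne] <;> simp
      · rintro _ ⟨x, hx, rfl⟩
        exact ⟨(hS x).1 (hT.1 hx), Perm.mem_alternatingGroup.2 (hθs x)⟩
      · rwa [Ne, Subgroup.map_eq_bot_iff_of_injective _ hinj]
      · rintro _ ⟨x, hx, rfl⟩ g hg hmem
        obtain ⟨g', rfl⟩ := hrange g hg
        rw [← map_inv, ← map_mul, ← map_mul] at hmem ⊢
        exact ⟨_, hT.2 x hx g' ((hS _).2 hmem), rfl⟩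
    intro x hx
    obtain ⟨y, hy, hye⟩ := hle ⟨(hS x).1 hx, Perm.mem_alternatingGroup.2 (hθs x)⟩
    rwa [hinj hye] at hy
  · rcases hp.eq_two_or_odd' with h2 | hodd
    · subst h2
      rw [SymSylow.normalizer_sylow_alt hn S] at hγ
      exact homConj_mem le_rfl hγ
    · exact allAut_odd θ hinj hrange hθs hodd (by rw [hcI]; exact hm) (isPGroup_of_genSylow hP')
        ⟨0, hN⟩ hS E hE γ hγ

end Cfsg.Agent.S5165
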