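import Cfsg.Statements.S5171
import Cfsg.Agent.FormTri.Symp
-- import your own Cfsg.Agent.* helpers here

set_option autoImplicit false
open Cfsg

namespace Cfsg.Agent.S5171

/-- For a finite field K of characteristic p and m ≥ 2, excluding the case m = 2 with K of two elements, the p-fusion system of the projective symplectic group PSp_{2m}(K) on a Sylow p-subgroup is simple. -/
theorem result {K : Type*} [Field K] [Fintype K] (p : ℕ) [Fact p.Prime] [CharP K p] (m : ℕ) (hm : 2 ≤ m) (hex : m = 2 → 3 ≤ Fintype.card K) (S : Sylow p (Cfsg.PSp m K)) : (Cfsg.groupFusionSystem (S : Subgroup (Cfsg.PSp m K))).IsSimple p := by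
  let e : Matrix.symplecticGroup (Fin m) K ≃* (Cfsg.Agent.FormTri.Symp.ctx m K).G :=
    MulEquiv.ofBijective _ Cfsg.Agent.FormTri.Symp.toG_bijective
  let φ : (Cfsg.Agent.FormTri.Symp.ctx m K).G →* Cfsg.PSp m K :=
    (QuotientGroup.mk' (Subgroup.center (Matrix.symplecticGroup (Fin m) K))).comp e.symm.toMonoidHom
  have hker : ∀ x, φ x = 1 → x ∈ Subgroup.center (Cfsg.Agent.FormTri.Symp.ctx m K).G := by
    intro x hx
    have h1 : e.symm x ∈ Subgroup.center (Matrix.symplecticGroup (Fin m) K) :=
      (QuotientGroup.eq_one_iff _).1 hx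
    refine Subgroup.mem_center_iff.2 fun g => e.symm.injective ?_
    rw [map_mul, map_mul]
    exact Subgroup.mem_center_iff.1 h1 _
  haveI : Finite (Cfsg.PSp m K) := Quotient.finite _
  refine Cfsg.Agent.FormTri.isSimple hker p (by omega) (fun _ => ?_)
    ((QuotientGroup.mk'_surjective _).comp e.symm.surjective) S
  by_cases h : m = 2
  · right
    classical
    by_contra hc
    push Not at hc
    have hs : (Finset.univ : Finset K) ⊆ {0, 1} := fun t _ => by
      by_cases ht : t = 0
      · simp [ht]
      · simp [hc t ht]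
    have h3 := (Finset.card_le_card hs).trans Finset.card_le_two
    rw [Finset.card_univ] at h3
    have := hex h
    omega
  · left; omega

end Cfsg.Agent.S5171
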