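import Cfsg.Statements.S5172
import Cfsg.Agent.FormTri.Unitary
-- import your own Cfsg.Agent.* helpers here

set_option autoImplicit false
open Cfsg

namespace Cfsg.Agent.S5172

/-- For a finite field K with q² elements of characteristic p and n ≥ 4, the p-fusion system of the projective special unitary group PSU_n(q) (realised over K) on a Sylow p-subgroup is simple. -/
theorem result {K : Type*} [Field K] [Fintype K] (p q : ℕ) [Fact p.Prime] [CharP K p] (hK : Fintype.card K = q ^ 2) (n : ℕ) (hn : 4 ≤ n) (S : Sylow p (Cfsg.PSU n K q)) : (Cfsg.groupFusionSystem (S : Subgroup (Cfsg.PSU n K q))).IsSimple p := by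
  obtain ⟨σ, hσq, hinv, -, -⟩ := Cfsg.Agent.Classical.exists_powHom hK
  obtain ⟨P, hP⟩ := Cfsg.Agent.FormTri.Unitary.exists_basis n hinv
  let e := Cfsg.Agent.FormTri.Unitary.suEquiv hP hσq
  let φ : (Cfsg.Agent.FormTri.Unitary.ctx n hinv).G →* Cfsg.PSU n K q :=
    (QuotientGroup.mk' (Subgroup.center (Cfsg.SU n K q))).comp e.symm.toMonoidHom
  have hker : ∀ x, φ x = 1 → x ∈ Subgroup.center (Cfsg.Agent.FormTri.Unitary.ctx n hinv).G := by
    intro x hx
    have h1 : e.symm x ∈ Subgroup.center (Cfsg.SU n K q) := (QuotientGroup.eq_one_iff _).1 hx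
    refine Subgroup.mem_center_iff.2 fun g => e.symm.injective ?_
    rw [map_mul, map_mul]
    exact Subgroup.mem_center_iff.1 h1 _
  haveI : Finite (Cfsg.PSU n K q) := Quotient.finite _
  exact Cfsg.Agent.FormTri.isSimple hker p hn (fun h => absurd (RingHom.ext h) hinv.ne_id)
    ((QuotientGroup.mk'_surjective _).comp e.symm.surjective) S

end Cfsg.Agent.S5172
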