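import Cfsg.Statements.S5191

set_option autoImplicit false
open Cfsg

namespace Cfsg.Agent.S5191

/-- Fusion in a finite group G and in its quotient by O_{p'}(G) agree. Let S be a Sylow p-subgroup of G, N = O_{p'}(G) and P ≤ S. If an element of G/N conjugates the image of P into the image of S, then some element g of G conjugates P into S and induces the same map on P modulo N. (Together with the injectivity of S → G/N this says that g ↦ gN induces an isomorphism of the fusion system of G on S with that of G/N on SN/N.) -/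
theorem result {G : Type*} [Group G] [Finite G] {p : ℕ} [Fact p.Prime]
    [hN : (Cfsg.pPrimeCore p G).Normal] (S : Sylow p G) (P : Subgroup G) (hP : P ≤ (S : Subgroup G))
    (γ : G ⧸ Cfsg.pPrimeCore p G)
    (hγ : ∀ x ∈ P, γ * QuotientGroup.mk x * γ⁻¹ ∈ ((S : Subgroup G).map (QuotientGroup.mk' (Cfsg.pPrimeCore p G)))) :
    ∃ g : G, ∀ x ∈ P, g * x * g⁻¹ ∈ S ∧
      (QuotientGroup.mk (g * x * g⁻¹) : G ⧸ Cfsg.pPrimeCore p G) = γ * QuotientGroup.mk x * γ⁻¹ := by
  obtain ⟨g₀, hg₀⟩ := QuotientGroup.mk_surjective γ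
  subst hg₀
  set N := pPrimeCore p G
  have hmem : ∀ x ∈ P, g₀ * x * g₀⁻¹ ∈ (S : Subgroup G) ⊔ N := by
    intro x hx
    have h : QuotientGroup.mk' N (g₀ * x * g₀⁻¹) ∈ (S : Subgroup G).map (QuotientGroup.mk' N) := by
      simpa using hγ x hx
    rwa [← Subgroup.mem_comap, Subgroup.comap_map_eq, QuotientGroup.ker_mk'] at h
  set K := (S : Subgroup G) ⊔ N with hK
  have hP' : P.map (MulAut.conj g₀).toMonoidHom ≤ K := by
    rintro _ ⟨x, hx, rfl⟩; exact hmem x hx
  obtain ⟨U, hU⟩ := (((S.isPGroup'.to_le hP).map (MulAut.conj g₀).toMonoidHom).comap_of_injective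
    K.subtype Subtype.val_injective).exists_le_sylow
  obtain ⟨w, hw⟩ := MulAction.exists_smul_eq K U (S.subtype (le_sup_left : (S : Subgroup G) ≤ K))
  obtain ⟨s, hs, n, hn, hsn⟩ := Subgroup.mem_sup_of_normal_right.1 w.2
  refine ⟨n * g₀, fun x hx => ⟨?_, ?_⟩⟩
  · have hm : (MulAut.conj g₀) x ∈ P.map (MulAut.conj g₀).toMonoidHom := ⟨x, hx, rfl⟩
    have h1 : w * ⟨(MulAut.conj g₀) x, hP' hm⟩ * w⁻¹ ∈
        (S.subtype (le_sup_left : (S : Subgroup G) ≤ K) : Subgroup K) := by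
      rw [← hw]; exact ⟨⟨(MulAut.conj g₀) x, hP' hm⟩, hU (Subgroup.mem_comap.2 hm), rfl⟩
    have h2 : (w : G) * (g₀ * x * g₀⁻¹) * (w : G)⁻¹ ∈ (S : Subgroup G) := h1
    rw [← hsn] at h2
    have := (S : Subgroup G).mul_mem ((S : Subgroup G).mul_mem ((S : Subgroup G).inv_mem hs) h2) hs
    show n * g₀ * x * (n * g₀)⁻¹ ∈ (S : Subgroup G)
    simpa [mul_assoc] using this
  · have hn1 : (QuotientGroup.mk n : G ⧸ N) = 1 := (QuotientGroup.eq_one_iff n).2 hn
    show (QuotientGroup.mk (n * g₀ * x * (n * g₀)⁻¹) : G ⧸ N) = _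
    rw [QuotientGroup.mk_mul, QuotientGroup.mk_mul, QuotientGroup.mk_inv, QuotientGroup.mk_mul, hn1, one_mul]

end Cfsg.Agent.S5191
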