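import Cfsg.Statements.S5196
import Cfsg.Agent.FusSys.GenCtl

set_option autoImplicit false
universe u
open Cfsg

namespace Cfsg.Agent.S5196

/-- Let p be an odd prime and W a positive characteristic p-functor: W assigns to every finite p-group Q (in a fixed universe) a subgroup W(Q), nontrivial when Q is, carried to W(R) by every isomorphism Q ≅ R; assume also Z(Q) ≤ W(Q) for every finite p-group Q. Suppose W satisfies the local condition: for every finite group G with Sylow p-subgroup P, O_p(G) ∩ Z(G) = O_p(G) ∩ Z(N_G(W(P))). Then W controls weak closure of elements in every saturated fusion system F over a finite p-group S: the centre of the normalizer fusion system of W(S) in F equals the centre of F. (For p = 2 no functor satisfies the local condition, so p is taken odd.) -/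
theorem result {p : ℕ} [Fact p.Prime] (hp : p ≠ 2) (W : ∀ (Q : Type u) [Group Q], Subgroup Q) (hW1 : ∀ (Q : Type u) [Group Q] [Finite Q], IsPGroup p Q → Nontrivial Q → W Q ≠ ⊥) (hW2 : ∀ (Q R : Type u) [Group Q] [Group R] [Finite Q], IsPGroup p Q → ∀ φ : Q ≃* R, (W Q).map φ.toMonoidHom = W R) (hWZ : ∀ (Q : Type u) [Group Q] [Finite Q], IsPGroup p Q → Subgroup.center Q ≤ W Q) (hC : ∀ (G : Type u) [Group G] [Finite G] (P : Sylow p G), Cfsg.pCore p G ⊓ Subgroup.center G = Cfsg.pCore p G ⊓ (Subgroup.center ↥(Subgroup.normalizer (((W ↥(P : Subgroup G)).map (P : Subgroup G).subtype : Subgroup G) : Set G))).map (Subgroup.normalizer (((W ↥(P : Subgroup G)).map (P : Subgroup G).subtype : Subgroup G) : Set G)).subtype) {Ω : Type u} [Group Ω] {S : Subgroup Ω} [Finite S] (hS : IsPGroup p S) (F : Cfsg.FusionSystem S) (hF : F.IsSaturated p) (N : Cfsg.FusionSystem (Cfsg.FusionSystem.normalizerIn S ((W ↥S).map S.subtype))) (hN : F.IsNormalizerSystem ((W ↥S).map S.subtype) N) : N.center = F.center := by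
  refine FusSys.normalizer_center_eq (GP := fun _ _ => True) (⟨hW1, hW2⟩ : FusSys.PosFunctor p W)
    FusSys.hereditary_true (by intros; trivial) ?_ hS hF trivial hN
  intro L _ _ P hc _ V hV hfx hn
  refine ⟨⊤, inferInstance, fun g _ => ?_, ?_⟩
  · refine Subgroup.mem_centralizer_iff.2 fun x hx => ?_
    obtain ⟨w, hw, hwx⟩ := hV x hx
    rw [pow_one] at hwx
    subst hwx
    have hP : (P : Subgroup L) ≤ Subgroup.normalizer (FusSys.wsub W (P : Subgroup L) : Set L) :=
      fun s hs => by
        have h := FusSys.normalizerIn_le_normalizerIn_wsub (S := (P : Subgroup L))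
          (⟨hW1, hW2⟩ : FusSys.PosFunctor p W) le_rfl P.2 (FusSys.le_normalizerIn le_rfl hs)
        exact h.2
    have hxO : w ∈ Cfsg.pCore p L :=
      hc (Subgroup.centralizer_le (Cfsg.Agent.Core.pCore_le_sylow P) hw.2)
    have hxZ : w ∈ Cfsg.pCore p L ⊓ Subgroup.center L := by
      rw [hC L P]
      refine ⟨hxO, ⟨w, hP hw.1⟩, Subgroup.mem_center_iff.2 fun n => Subtype.ext ?_, rfl⟩
      exact (Subgroup.mem_centralizer_iff.1 (hfx trivial n.2) w hx).symm
    exact (Subgroup.mem_center_iff.1 hxZ.2 g).symm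
  · rw [inf_top_eq]
    intro hPn
    refine hn ?_
    have hPt : (P : Subgroup L) ≤ ⊤ := le_top
    refine (Subgroup.normalizer_eq_top_iff).1 (eq_top_iff.2 fun g _ => ?_)
    have h := FusSys.normalizerIn_le_normalizerIn_wsub (S := (⊤ : Subgroup L))
      (⟨hW1, hW2⟩ : FusSys.PosFunctor p W) hPt P.2
    exact (h ⟨Subgroup.mem_top g, by rw [Subgroup.normalizer_eq_top]; exact Subgroup.mem_top g⟩).2

end Cfsg.Agent.S5196
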