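import Cfsg.Statements.S5200
import Cfsg.Agent.FusSys.CentFix

set_option autoImplicit false
open Cfsg

namespace Cfsg.Agent.S5200

/-- Let F be a saturated fusion system over a finite p-group S and E a normal subsystem of F over T whose centralizer in S lies in T: every subgroup Y of C_S(T) such that E is contained in the centralizer fusion system of Y in F satisfies Y ≤ T. Then T·C_S(T)/T is abelian (the commutator subgroup of T·C_S(T) lies in T), and if p is odd then C_S(T) ≤ T. -/
theorem result {Ω : Type*} [Group Ω] {S : Subgroup Ω} [Finite S] (p : ℕ) [Fact p.Prime] (hS : IsPGroup p S) (F : Cfsg.FusionSystem S) (hF : F.IsSaturated p) {T : Subgroup Ω} (E : Cfsg.FusionSystem T) (hE : E.IsNormalIn F p) (hCE : ∀ Y : Subgroup Ω, Y ≤ Cfsg.FusionSystem.centralizerIn S T → (∀ C : Cfsg.FusionSystem (Cfsg.FusionSystem.centralizerIn S Y), F.IsCentralizerSystem Y C → E.IsSubsystemOf C) → Y ≤ T) : ⁅T ⊔ Cfsg.FusionSystem.centralizerIn S T, T ⊔ Cfsg.FusionSystem.centralizerIn S T⁆ ≤ T ∧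 (p ≠ 2 → Cfsg.FusionSystem.centralizerIn S T ≤ T) := by
    open Cfsg.FusionSystem Cfsg.Agent.FusSys Cfsg.Agent.FusSys.CentE Cfsg.Agent.FusSys.CentFocal Cfsg.Agent.FusSys.ThompsonKey in
    have hT : F.StronglyClosed T := hE.1.2.2.2.1
    open Cfsg.FusionSystem Cfsg.Agent.FusSys Cfsg.Agent.FusSys.CentE Cfsg.Agent.FusSys.CentFocal Cfsg.Agent.FusSys.ThompsonKey in
    exact by
      have hTn : S ≤ Subgroup.normalizer (T : Set Ω) := fun _ hs => StronglyClosed.le_normalizer hT hs
      have hcT : cE E F p hT.1 ≤ T := hCE _ (cE_le hT.1) fun C hC Q φ hφ =>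
        (hC Q).symm ▸ cE_centralized hS hF hE hT Q hφ
      have hCC : ∀ a ∈ centralizerIn S T, ∀ b ∈ centralizerIn S T, a⁻¹ * (b * a * b⁻¹) ∈ T :=
        fun a ha b hb => hcT (cFoc_le_cE hS hF hE hT (quot_mem_focal (F := centralizerSys F hT.1)
          (mor_conj (F := centralizerSys F hT.1) (P := centralizerIn S T) le_rfl hb) ha))
      refine ⟨?_, fun hp x hx => ?_⟩
      · haveI := finite_of_le hT.1
        rw [Subgroup.commutator_le]
        intro g hg h hh
        have hCn : centralizerIn S T ≤ Subgroup.normalizer (T : Set Ω) :=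
          (centralizerIn_le S T).trans hTn
        have key : ∀ g ∈ T ⊔ centralizerIn S T, ∃ t ∈ T, ∃ c ∈ centralizerIn S T, g = t * c := by
          intro g hg
          have hg' : g ∈ ((T ⊔ centralizerIn S T : Subgroup Ω) : Set Ω) := hg
          rw [Subgroup.coe_mul_of_right_le_normalizer_left _ _ hCn] at hg'
          obtain ⟨t, ht, c, hc, rfl⟩ := hg'
          exact ⟨t, ht, c, hc, rfl⟩
        obtain ⟨t, ht, c, hc, rfl⟩ := key g hg
        obtain ⟨t', ht', c', hc', rfl⟩ := key h hh
        have e1 : c * t' = t' * c := (Subgroup.mem_centralizer_iff.1 hc.2 t' ht').symm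
        have e2 : c' * t = t * c' := (Subgroup.mem_centralizer_iff.1 hc'.2 t ht).symm
        rw [commutatorElement_def]
        have e4 : c⁻¹ * t⁻¹ = t⁻¹ * c⁻¹ := by
          rw [← mul_inv_rev, ← mul_inv_rev, (Subgroup.mem_centralizer_iff.1 hc.2 t ht)]
        have h1 : c * c' * c⁻¹ * c'⁻¹ ∈ T ⊓ centralizerIn S T := by
          refine ⟨?_, Subgroup.mul_mem _ (Subgroup.mul_mem _ (Subgroup.mul_mem _ hc hc')
            (Subgroup.inv_mem _ hc)) (Subgroup.inv_mem _ hc')⟩
          have := hCC c⁻¹ (Subgroup.inv_mem _ hc) c' hc'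
          simpa [mul_assoc] using this
        have h5 : t * c * (t' * c') * (t * c)⁻¹ * (t' * c')⁻¹ =
            t * t' * t⁻¹ * (c * c' * c⁻¹ * c'⁻¹) * t'⁻¹ := by
          calc t * c * (t' * c') * (t * c)⁻¹ * (t' * c')⁻¹
              = t * (c * t') * c' * (c⁻¹ * t⁻¹) * c'⁻¹ * t'⁻¹ := by group
            _ = t * t' * c * (c' * t⁻¹) * c⁻¹ * c'⁻¹ * t'⁻¹ := by rw [e1, e4]; group
            _ = t * t' * (c * t⁻¹) * c' * c⁻¹ * c'⁻¹ * t'⁻¹ := by
              rw [← Subgroup.mem_centralizer_iff.1 hc'.2 _ (T.inv_mem ht)]; group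
            _ = t * t' * t⁻¹ * (c * c' * c⁻¹ * c'⁻¹) * t'⁻¹ := by
              rw [← Subgroup.mem_centralizer_iff.1 hc.2 _ (T.inv_mem ht)]; group
        rw [h5]
        exact T.mul_mem (T.mul_mem (T.mul_mem (T.mul_mem ht ht') (T.inv_mem ht)) h1.1) (T.inv_mem ht')
      · haveI := finite_of_le hT.1
        have hTfn : F.IsFullyNormalized T := ⟨hT.1, fun Q _ => by
          rw [show normalizerIn S T = S from le_antisymm inf_le_left fun s hs => ⟨hs, hTn hs⟩]
          exact Subgroup.card_le_of_le inf_le_left⟩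
        have hTc := fullyCentralized_of_fullyNormalized hS hF hTfn
        have hJn : S ≤ Subgroup.normalizer (jA T : Set Ω) := fun s hs =>
          mem_normalizer_jA hT.1 hs (hTn hs)
        have hJfn : F.IsFullyNormalized (jA T) := ⟨(jA_le T).trans hT.1, fun Q _ => by
          rw [show normalizerIn S (jA T) = S from le_antisymm inf_le_left fun s hs => ⟨hs, hJn hs⟩]
          exact Subgroup.card_le_of_le inf_le_left⟩
        have hN : T ⊔ centralizerIn S T ≤ S := sup_le hT.1 (centralizerIn_le S T)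
        have hTinv : ∀ a ∈ F.autGroup (T ⊔ centralizerIn S T), Iso F T T (apl a) := fun a ha =>
          StronglyClosed.iso_self hT (iso_apl hN ha).1 le_sup_left
        have hJinv : ∀ a ∈ F.autGroup (T ⊔ centralizerIn S T), Iso F (jA T) (jA T) (apl a) :=
          fun a ha => (mor_key (hTinv a ha)).1
        obtain ⟨v₁, hv₁, h1⟩ := exists_fixAt_shift hS hF hE hT le_rfl hTn (centralizerIn_le T T) hx
        obtain ⟨v₂, hv₂, h2⟩ :=
          exists_fixAt_inter hS hF hE hT (jA_le T) hJn centralizerIn_jA_le hJinv h1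
        have hmain := centralizes_of_fixAt hS hF hE hT hp
          (X := fixAt E F p (le_refl T) hT.1 ⊓ fixAt E F p (jA_le T) hT.1) inf_le_left inf_le_right
          fun δ hδ y hy => ⟨fixAt_invariant hS hF hE hT le_rfl hTc hδ (hTinv δ hδ) hy.1,
            fixAt_invariant hS hF hE hT (jA_le T) (fullyCentralized_of_fullyNormalized hS hF hJfn) hδ
              (hJinv δ hδ) hy.2⟩
        have hy : x * v₁ * v₂ ∈ T := hcT (le_cE hS hF hE hT
          (Y := fixAt E F p (le_refl T) hT.1 ⊓ fixAt E F p (jA_le T) hT.1) (fun z hz => hz.1.1)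
          (fun Q φ hφ => mem_centralizerHom_iff.2
            ⟨hE.1.2.2.1 Q hφ, hmain Q _ (mor_extendFn hφ)⟩) h2)
        have := T.mul_mem (T.mul_mem hy (T.inv_mem hv₂.1)) (T.inv_mem hv₁.1)
        simpa [mul_assoc] using this

end Cfsg.Agent.S5200
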