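import Cfsg.Statements.S5201
import Cfsg.Agent.FusSys.AutTEnvelope

set_option autoImplicit false
open Cfsg

namespace Cfsg.Agent.S5201

/-- A reduction to normal subsystems. Let F be a saturated fusion system over a finite p-group S and E a normal subsystem of F over T whose centralizer in S lies in T (every subgroup Y of C_S(T) with E contained in the centralizer fusion system of Y in F satisfies Y ≤ T), and suppose Aut_F(T)/Aut_E(T) is p-solvable. Then F and E have the same residual limit: if F∞ is the residual limit of F (reached by alternately passing to the p-residual and the p'-residual subsystem until nothing changes) and E∞ that of E, then F∞ and E∞ have the same maps. -/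
theorem result {Ω : Type*} [Group Ω] {S : Subgroup Ω} [Finite S] (p : ℕ) [Fact p.Prime] (hS : IsPGroup p S) (F : Cfsg.FusionSystem S) (hF : F.IsSaturated p) {T : Subgroup Ω} (E : Cfsg.FusionSystem T) (hE : E.IsNormalIn F p) (hCE : ∀ Y : Subgroup Ω, Y ≤ Cfsg.FusionSystem.centralizerIn S T → (∀ C : Cfsg.FusionSystem (Cfsg.FusionSystem.centralizerIn S Y), F.IsCentralizerSystem Y C → E.IsSubsystemOf C) → Y ≤ T) [hn : ((E.autGroup T).subgroupOf (F.autGroup T)).Normal] (hsolv : Cfsg.IsPSolvable p (↥(F.autGroup T) ⧸ (E.autGroup T).subgroupOf (F.autGroup T))) {U V : Subgroup Ω} (Finf : Cfsg.FusionSystem U) (hFinf : Finf.IsResidualLimitOf F p) (Einf : Cfsg.FusionSystem V) (hEinf : Einf.IsResidualLimitOf E p) : ∀ P : Subgroup Ω, Finf.Hom P = Einf.Hom P := by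
    open Cfsg.Agent.FusSys Cfsg.Agent.FusSys.CentE Cfsg.FusionSystem in
    exact by
      obtain ⟨G, -, h⟩ := AutT.exists_envelope hS hE hsolv
      haveI := finite_of_le h.base
      have hGp := hS.to_le h.base
      have hC : centralizerIn (T ⊔ centralizerIn S T) T = centralizerIn S T :=
        AutT.centralizer_eq h.base le_sup_right
      have hT : G.StronglyClosed T := h.normal.1.2.2.2.1
      have hcE : cE E G p hT.1 ≤ T := hCE _ ((cE_le hT.1).trans hC.le) fun C hCs Q φ hφ => by
        obtain ⟨hmem, hQ, hQf, g, hg, hgf, hgY⟩ :=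
          mem_centralizerHom_iff.1 (cE_centralized hGp h.sat h.normal hT Q hφ)
        exact (hCs Q).symm ▸ mem_centralizerHom_iff.2 ⟨h.sub Q hmem,
          hQ.trans (inf_le_inf_right _ h.base), fun x hx => ⟨h.base (hQf x hx).1, (hQf x hx).2⟩,
          g, isSubsystemOf_iff_mor.1 h.sub _ _ hg, hgf, hgY⟩
      have hi := AutT.pPowerIndex_of_envelope hGp h.normal hT (hC.symm ▸ le_rfl) h.autT hcE
      obtain ⟨W, L₀, hL₀⟩ := PrimeLimit.exists_limit hGp h.sat
      exact fun P => (h.limit hFinf hL₀ P).trans
        (limit_eq_of_pPower hGp h.sat hT.1 hE.1.1 hi hL₀ hEinf P)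

end Cfsg.Agent.S5201
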