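import Cfsg.Statements.S5204
import Cfsg.Agent.FusSys.GT

set_option autoImplicit false
open Cfsg

namespace Cfsg.Agent.S5204

/-- The Glauberman–Thompson normal p-complement criterion for fusion systems, p odd. Let F be a saturated fusion system over a finite p-group S with p odd, and let Z(J(S)) be the centre of the subgroup generated by the abelian subgroups of S of largest order. Then F is the inner fusion system of S if and only if the normalizer fusion system of Z(J(S)) in F is the inner fusion system of N_S(Z(J(S))) = S. -/
theorem result {Ω : Type*} [Group Ω] {S : Subgroup Ω} [Finite S] (p : ℕ) [Fact p.Prime] (hS : IsPGroup p S) (F : Cfsg.FusionSystem S) (hF : F.IsSaturated p) (hp : p ≠ 2) : (∀ P : Subgroup Ω, F.Hom P = (Cfsg.innerFusionSystem S).Hom P) ↔ ∀ N : Cfsg.FusionSystem (Cfsg.FusionSystem.normalizerIn S (Cfsg.centerThompsonAOf S)), F.IsNormalizerSystem (Cfsg.centerThompsonAOf S) N → ∀ P : Subgroup Ω, N.Hom P = (Cfsg.innerFusionSystem (Cfsg.FusionSystem.normalizerIn S (Cfsg.centerThompsonAOf S))).Hom P := by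
  open Cfsg.Agent.FusSys Cfsg.FusionSystem in
  exact by
    have hle : centerThompsonAOf S ≤ S := wsub_zjW S ▸ wsub_le zjW S
    have hT : normalizerIn S (centerThompsonAOf S) = S := normalizerIn_eq_of_le fun s hs => by
      rw [← wsub_zjW S]
      exact (normalizerIn_le_normalizerIn_wsub posFunctor_zjW le_rfl hS
        (le_normalizerIn le_rfl hs)).2
    constructor
    · intro h N hN
      exact allInner_iff.1
        (allInner_normalizer_of_innerAt hT hN ((allInner_iff.2 h).innerAt _))
    · intro h
      exact allInner_iff.1 (allInner_of_zj hp hS hF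
        (innerAt_of_allInner_normalizer hle fun N hN => allInner_iff.2 (h N hN)))

end Cfsg.Agent.S5204
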