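import Cfsg.Statements.S5214
import Cfsg.Agent.Suzuki2.Order
import Cfsg.Agent.FusSys.ElemCrit

set_option autoImplicit false
open Cfsg

namespace Cfsg.Agent.S5214

/-- Let S be a Suzuki 2-group (a finite nonabelian 2-group with more than one involution admitting a cyclic group of automorphisms permuting its involutions regularly). Then S is normal in every saturated fusion system over S (such a group is resistant). -/
theorem result {Ω : Type*} [Group Ω] {S : Subgroup Ω} [Finite S] (hS : IsPGroup 2 S) (F : Cfsg.FusionSystem S) (hF : F.IsSaturated 2) (hsz : Cfsg.IsSuzukiTwoGroup ↥S) : F.IsNormal S := by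
    obtain ⟨D⟩ := Cfsg.Agent.Suzuki2.exists_setup hsz
    let Z : Subgroup Ω := (Subgroup.center S).map S.subtype
    let C : ℕ → Subgroup Ω := fun i => if i = 0 then ⊥ else if i = 1 then Z else S
    refine Cfsg.Agent.FusSys.isNormal_top_of_small hS hF (C := C) (n := 2) (fun x hx => by simpa [C] using hx)
      (fun x hx _ => ?_) (fun i hi x hx _ hxC s hs => ?_) (fun P hP α hα x hxP _ _ i hi hxC => ?_)
    · simpa [C] using (Cfsg.Agent.FusSys.stronglyClosed_iff.1 (Cfsg.Agent.FusSys.stronglyClosed_hyperfocal hS hF)).1 hx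
    · obtain rfl | rfl : i = 0 ∨ i = 1 := by omega
      · obtain ⟨z, hz, rfl⟩ : x ∈ Z := by simpa [C] using hxC
        have h := congrArg Subtype.val (Subgroup.mem_center_iff.1 hz ⟨s, hs⟩)
        simp only [Subgroup.coe_mul] at h
        simp [C, h]
      · have hxS : x ∈ S := by simpa [C] using hxC
        refine (show _ ∈ Z → _ from fun h => by simpa [C] using h)
          ⟨_, Cfsg.Agent.Suzuki2.comm_mem_center D (⟨x, hxS⟩ : S)⁻¹ ⟨s, hs⟩, ?_⟩
        simp [commutatorElement_def, mul_assoc]
    · have hαx : Cfsg.Agent.FusSys.apl α x ∈ P := Cfsg.Agent.FusSys.apl_mem α hxP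
      obtain rfl | rfl | rfl : i = 0 ∨ i = 1 ∨ i = 2 := by omega
      · have hx1 : x = 1 := by simpa [C] using hxC
        subst hx1
        simp [C, Cfsg.Agent.FusSys.apl_apply α P.one_mem, show (⟨1, P.one_mem⟩ : P) = 1 from rfl]
      · obtain ⟨z, hz, hzx⟩ : x ∈ Z := by simpa [C] using hxC
        have hx2 : x * x = 1 := by
          rw [← hzx, ← map_mul, D.center_exp z hz, map_one]
        refine (show _ ∈ Z → _ from fun h => by simpa [C] using h)
          ⟨⟨_, hP hαx⟩, D.inv_center _ (Subtype.ext ?_), rfl⟩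
        show Cfsg.Agent.FusSys.apl α x * Cfsg.Agent.FusSys.apl α x = 1
        rw [Cfsg.Agent.FusSys.apl_apply α hxP, ← Subgroup.coe_mul, ← map_mul,
          show (⟨x, hxP⟩ : P) * ⟨x, hxP⟩ = 1 from Subtype.ext hx2, map_one, Subgroup.coe_one]
      · simpa [C] using hP hαx

end Cfsg.Agent.S5214
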