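import Cfsg.Statements.S5220
import Cfsg.Agent.FusSys.GenCtl

set_option autoImplicit false
open Cfsg

namespace Cfsg.Agent.S5220

/-- Let F be a saturated fusion system over a nontrivial finite p-group S, let J(S) be the subgroup generated by the abelian subgroups of S of largest order, and let V be the subgroup generated by the p-th powers of the elements of Z(S). Then F is generated by the centralizer fusion system of V and the normalizer fusion system of J(S): every fusion system over S containing the maps of both contains every map of F. -/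
theorem result {Ω : Type*} [Group Ω] {S : Subgroup Ω} [Finite S] (p : ℕ) [Fact p.Prime] (hS : IsPGroup p S) (F : Cfsg.FusionSystem S) (hF : F.IsSaturated p) (hS1 : S ≠ ⊥) (C : Cfsg.FusionSystem (Cfsg.FusionSystem.centralizerIn S (Cfsg.powerClosure p 1 (S ⊓ Subgroup.centralizer (S : Set Ω))))) (hC : F.IsCentralizerSystem (Cfsg.powerClosure p 1 (S ⊓ Subgroup.centralizer (S : Set Ω))) C) (N : Cfsg.FusionSystem (Cfsg.FusionSystem.normalizerIn S (Cfsg.thompsonSubgroupAOf S))) (hN : F.IsNormalizerSystem (Cfsg.thompsonSubgroupAOf S) N) (E : Cfsg.FusionSystem S) (hCE : C.IsSubsystemOf E) (hNE : N.IsSubsystemOf E) : F.IsSubsystemOf E := by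
  set V := Cfsg.powerClosure p 1 (S ⊓ Subgroup.centralizer (S : Set Ω))
  have hZ : S ⊓ Subgroup.centralizer (S : Set Ω) ≤
      Subgroup.centralizer ((S ⊓ Subgroup.centralizer (S : Set Ω) : Subgroup Ω) : Set Ω) :=
    inf_le_right.trans (Subgroup.centralizer_le inf_le_left)
  have hV : ∀ x ∈ V, ∃ w ∈ S ⊓ Subgroup.centralizer (S : Set Ω), w ^ p = x := fun x hx => by
    obtain ⟨w, hw, hwx⟩ := FusSys.exists_pow_of_mem_powerClosure hZ hx
    exact ⟨w, hw, by rwa [pow_one] at hwx⟩
  have h := FusSys.mem_of_goodAt_agemo FusSys.posFunctor_jW FusSys.quadCond_jW hS hF hV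
    (FusSys.subRel_mor E)
    (fun X f hf hfN => FusSys.mor_of_sub hNE ((FusSys.mor_normalizerSystem hN).2
      ⟨hf, by rwa [FusSys.wsub_jW] at hfN⟩))
    (fun X f hf hfC => FusSys.mor_of_sub hCE ((FusSys.mor_centralizerSystem hC).2 ⟨hf, hfC⟩))
  exact FusSys.isSubsystemOf_iff_mor.2 h

end Cfsg.Agent.S5220
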