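import Cfsg.Statements.S5222
import Cfsg.Agent.FusSys.InnerCrit

set_option autoImplicit false
open Cfsg

namespace Cfsg.Agent.S5222

/-- Let F be a saturated fusion system over a finite p-group S whose normalizer fusion system of S is the inner fusion system of S (Aut_F(S) is a p-group). Then for every subgroup Q of S with [S, S] ≤ Q ≤ Φ(S), the normalizer fusion system of Q in F is the inner fusion system of N_S(Q) = S. -/
theorem result {Ω : Type*} [Group Ω] {S : Subgroup Ω} [Finite S] (p : ℕ) [Fact p.Prime] (hS : IsPGroup p S) (F : Cfsg.FusionSystem S) (hF : F.IsSaturated p) (hN : ∀ N : Cfsg.FusionSystem (Cfsg.FusionSystem.normalizerIn S S), F.IsNormalizerSystem S N → ∀ P : Subgroup Ω, N.Hom P = (Cfsg.innerFusionSystem (Cfsg.FusionSystem.normalizerIn S S)).Hom P) (Q : Subgroup Ω) (h1 : (commutator ↥S).map S.subtype ≤ Q) (h2 : Q ≤ (frattini ↥S).map S.subtype) : ∀ N : Cfsg.FusionSystem (Cfsg.FusionSystem.normalizerIn S Q), F.IsNormalizerSystem Q N →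 ∀ P : Subgroup Ω, N.Hom P = (Cfsg.innerFusionSystem (Cfsg.FusionSystem.normalizerIn S Q)).Hom P := by
  classical
  intro N hN'
  have hQS : Q ≤ S := h2.trans (Subgroup.map_subtype_le _)
  have hQsub : ∀ g ∈ S, g ∈ Subgroup.normalizer (Q : Set Ω) := by
    have hc : ∀ a ∈ S, ∀ b ∈ Q, a * b * a⁻¹ ∈ Q := fun a ha b hb => by
      have h : a * b * a⁻¹ * b⁻¹ ∈ Q := h1 (by
        rw [Cfsg.Agent.FusSys.map_subtype_commutator_eq]
        exact Subgroup.commutator_mem_commutator ha (hQS hb))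
      simpa using Subgroup.mul_mem _ h hb
    intro g hg
    refine Subgroup.mem_normalizer_iff.2 fun x => ⟨hc g hg x, fun hx => ?_⟩
    simpa [mul_assoc] using hc g⁻¹ (S.inv_mem hg) _ hx
  have hT : Cfsg.FusionSystem.normalizerIn S Q = S := inf_eq_left.2 hQsub
  have hTS : Cfsg.FusionSystem.normalizerIn S S = S := inf_eq_left.2 Subgroup.le_normalizer
  have hQn : F.IsFullyNormalized Q := ⟨hQS, fun R _ => by
    rw [hT]
    exact Nat.card_le_card_of_injective _ (Subgroup.inclusion_injective inf_le_left)⟩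
  haveI : Finite (Cfsg.FusionSystem.normalizerIn S Q) :=
    Cfsg.Agent.FusSys.finite_of_le inf_le_left
  have hp : IsPGroup p (Cfsg.FusionSystem.normalizerIn S Q) := hS.to_le inf_le_left
  have hsat := Cfsg.Agent.FusSys.normalizerSystem_saturated hS hF hQn hN'
  have h1' : (commutator (Cfsg.FusionSystem.normalizerIn S Q)).map
      (Cfsg.FusionSystem.normalizerIn S Q).subtype ≤ Q := by rw [hT]; exact h1
  have h2' : Q ≤ (frattini (Cfsg.FusionSystem.normalizerIn S Q)).map
      (Cfsg.FusionSystem.normalizerIn S Q).subtype := by rw [hT]; exact h2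
  have hM := Cfsg.Agent.FusSys.isNormalizerSystem_normalizerSys (F := F) (le_refl S)
  have htop : ∀ α ∈ N.autGroup (Cfsg.FusionSystem.normalizerIn S Q),
      α ∈ Cfsg.autInducedBy (Cfsg.FusionSystem.normalizerIn S Q)
        (Cfsg.FusionSystem.normalizerIn S Q) := by
    intro α hα
    have hiso := Cfsg.Agent.FusSys.iso_apl le_rfl hα
    obtain ⟨hF1, -, -, -⟩ := (Cfsg.Agent.FusSys.mor_normalizerSystem hN').1 hiso.1
    replace hF1 := hF1.mono hT.ge
    have hM1 : Cfsg.Agent.FusSys.Mor (Cfsg.Agent.FusSys.normalizerSys F (le_refl S)) S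
        (Cfsg.Agent.FusSys.apl α) := by
      refine (Cfsg.Agent.FusSys.mor_normalizerSystem hM).2 ⟨hF1, hTS.ge,
        fun x hx => hTS.symm ▸ hF1.mem_S hx, _, hF1.mono (sup_le le_rfl le_rfl),
        fun _ _ => rfl, fun y => ?_⟩
      constructor
      · intro hy
        obtain ⟨x, hx, hxy⟩ := hiso.exists_eq (hT.symm ▸ hy)
        exact ⟨x, hT ▸ hx, hxy⟩
      · rintro ⟨x, hx, rfl⟩
        exact hF1.mem_S hx
    have hM2 : Cfsg.Agent.FusSys.Mor (Cfsg.innerFusionSystem (Cfsg.FusionSystem.normalizerIn S S)) S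
        (Cfsg.Agent.FusSys.apl α) := by
      obtain ⟨φ, hφ, hφf⟩ := hM1
      exact ⟨φ, (hN _ hM S) ▸ hφ, hφf⟩
    obtain ⟨-, g, hg, hgx⟩ := Cfsg.Agent.FusSys.mor_inner.1 hM2
    exact Cfsg.Agent.FusSys.mem_autInducedBy_iff.2 ⟨g, hT.symm ▸ hTS ▸ hg,
      Subgroup.le_normalizer (hT.symm ▸ hTS ▸ hg), fun x hx => hgx x (hT ▸ hx)⟩
  intro P
  rw [Cfsg.Agent.FusSys.eq_inner_of_normal_between hp hsat htop
    (Cfsg.Agent.FusSys.normalizerSystem_isNormal hN' hQS) h1' h2']

end Cfsg.Agent.S5222
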