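import Cfsg.Statements.S5223
import Cfsg.Agent.FusSys.Inner
import Cfsg.Agent.FusSys.Series

set_option autoImplicit false
open Cfsg

namespace Cfsg.Agent.S5223

/-- Let F be a saturated fusion system over a finite p-group S. Suppose there are subgroups Q₀ = S, Q₁, …, Qₙ = 1 (not required to be nested) such that for each i < n the focal subgroup of Qᵢ (generated by the elements x⁻¹φ(x), x ∈ Qᵢ, φ a map of F defined on the cyclic group generated by x) lies in Qᵢ₊₁. Then F is the inner fusion system of S. -/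
theorem result {Ω : Type*} [Group Ω] {S : Subgroup Ω} [Finite S] (p : ℕ) [Fact p.Prime] (hS : IsPGroup p S) (F : Cfsg.FusionSystem S) (hF : F.IsSaturated p) (n : ℕ) (Q : Fin (n + 1) → Subgroup Ω) (hQ0 : Q 0 = S) (hQn : Q (Fin.last n) = ⊥) (hstep : ∀ i : Fin n, Subgroup.closure {y : Ω | ∃ x ∈ Q i.castSucc, ∃ φ ∈ F.Hom (Subgroup.zpowers x), y = x⁻¹ * φ ⟨x, Subgroup.mem_zpowers x⟩} ≤ Q i.succ) : ∀ P : Subgroup Ω, F.Hom P = (Cfsg.innerFusionSystem S).Hom P := by
  have heq : F = Cfsg.innerFusionSystem S := by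
    refine Cfsg.Agent.FusSys.eq_inner_of_pGroups hS hF fun P hP => ?_
    haveI := Cfsg.Agent.FusSys.finite_of_le hP
    rintro ⟨δ, hδ⟩
    haveI : Finite (MulAut P) := Finite.of_injective _ MulEquiv.toEquiv_injective
    obtain ⟨k, m, hm, hord⟩ := Nat.exists_eq_pow_mul_and_not_dvd (orderOf_pos δ).ne' p
      (Fact.out : p.Prime).ne_one
    refine ⟨k, Subtype.ext ?_⟩
    show δ ^ p ^ k = 1
    have hco : (orderOf (δ ^ p ^ k)).Coprime p := by
      refine Nat.Coprime.coprime_dvd_left (orderOf_dvd_of_pow_eq_one (x := δ ^ p ^ k) ?_)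
        ((Nat.Prime.coprime_iff_not_dvd Fact.out).2 hm).symm
      rw [← pow_mul, ← hord, pow_orderOf_eq_one]
    have hε : δ ^ p ^ k ∈ F.autGroup P := Subgroup.pow_mem _ hδ _
    have hi := Cfsg.Agent.FusSys.iso_apl hP hε
    refine Cfsg.Agent.FusSys.eq_one_of_chain (hS.to_le hP) (n := n)
      (C := fun i => Cfsg.Agent.FusSys.natChain Q (n - i)) ?_ hco ?_ ?_
    · show P ≤ Cfsg.Agent.FusSys.natChain Q (n - n)
      rw [Nat.sub_self, Cfsg.Agent.FusSys.natChain_zero, hQ0]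
      exact hP
    · intro x hx hx0
      rw [Nat.sub_zero, Cfsg.Agent.FusSys.natChain_last, hQn, Subgroup.mem_bot] at hx0
      subst hx0
      exact hi.1.map_one
    · intro i hi' x hx hxC
      have hj : n - (i + 1) < n := by omega
      rw [Cfsg.Agent.FusSys.natChain_castSucc Q ⟨n - (i + 1), hj⟩] at hxC
      rw [show n - i = n - (i + 1) + 1 by omega, Cfsg.Agent.FusSys.natChain_succ Q ⟨n - (i + 1), hj⟩]
      refine hstep ⟨n - (i + 1), hj⟩ (Subgroup.subset_closure ?_)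
      obtain ⟨φ, hφ, hφf⟩ := hi.1.mono ((Subgroup.zpowers_le).2 hx)
      exact ⟨x, hxC, φ, hφ, congrArg (x⁻¹ * ·) (hφf ⟨x, Subgroup.mem_zpowers x⟩).symm⟩
  intro P
  rw [heq]

end Cfsg.Agent.S5223
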