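import Cfsg.Statements.S5226
import Cfsg.Agent.FusSys.Series

set_option autoImplicit false
open Cfsg

namespace Cfsg.Agent.S5226

/-- Let F be a saturated fusion system over a finite p-group S and Q a subgroup of S. Then Q is normal in F (F equals the normalizer system of Q) if and only if Q is strongly closed in F and admits a central series 1 = Q₀ ≤ Q₁ ≤ ⋯ ≤ Qₙ = Q ([Qᵢ₊₁, Q] ≤ Qᵢ) all of whose proper terms are weakly closed in F. -/
theorem result {Ω : Type*} [Group Ω] {S : Subgroup Ω} [Finite S] (p : ℕ) [Fact p.Prime] (hS : IsPGroup p S) (F : Cfsg.FusionSystem S) (hF : F.IsSaturated p) (Q : Subgroup Ω) : F.IsNormal Q ↔ F.StronglyClosed Q ∧ ∃ (n : ℕ) (C : Fin (n + 1) → Subgroup Ω), C 0 = ⊥ ∧ C (Fin.last n) = Q ∧ Monotone C ∧ (∀ i : Fin n, ⁅C i.succ, Q⁆ ≤ C i.castSucc) ∧ ∀ i : Fin n, F.WeaklyClosed (C i.castSucc) := by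
  constructor
  · intro hQ
    refine ⟨Cfsg.Agent.FusSys.stronglyClosed_of_isNormal hQ, ?_⟩
    obtain ⟨n, C, h0, hn, hmono, h⟩ := (Cfsg.Agent.FusSys.isNormal_iff_series hS hF).1 hQ
    refine ⟨n, C, h0, hn, hmono, fun i => ?_, fun i => ?_⟩
    · rw [Subgroup.commutator_comm]; exact (h i).2
    · have hcl : F.StronglyClosed (C i.castSucc) := by
        rcases Nat.eq_zero_or_pos (i : ℕ) with h' | h'
        · have : i.castSucc = 0 := Fin.ext h'
          rw [this, h0]
          exact Cfsg.Agent.FusSys.stronglyClosed_of_isNormal Cfsg.Agent.FusSys.isNormal_bot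
        · have h2 := i.2
          have e : i.castSucc = (⟨(i : ℕ) - 1, by omega⟩ : Fin n).succ := Fin.ext (by
            simp only [Fin.val_castSucc, Fin.val_succ]; omega)
          rw [e]
          exact (h _).1
      refine ⟨hcl.1, fun φ hφ => ?_⟩
      exact Cfsg.Agent.FusSys.Iso.eq_image (Cfsg.Agent.FusSys.iso_extendFn hφ)
        (Cfsg.Agent.FusSys.StronglyClosed.iso_self hcl (Cfsg.Agent.FusSys.mor_extendFn hφ) le_rfl)
  · rintro ⟨hQ, n, C, h0, hn, hmono, hcomm, hw⟩
    refine Cfsg.Agent.FusSys.isNormal_of_stronglyClosed_le hS hF hQ fun P hc hr => ?_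
    have key : ∀ i ≤ n, Cfsg.Agent.FusSys.natChain C i ≤ P := by
      intro i
      induction i using Nat.strong_induction_on with
      | h i ih =>
        intro hi
        rcases Nat.eq_zero_or_pos i with rfl | hpos
        · rw [Cfsg.Agent.FusSys.natChain_zero, h0]
          exact bot_le
        have hsub : Cfsg.Agent.FusSys.natChain C i ≤ Q := by
          rw [← hn, ← Cfsg.Agent.FusSys.natChain_last C]
          exact Cfsg.Agent.FusSys.natChain_mono hmono hi
        have hinv : ∀ α ∈ F.autGroup P, ∀ j < i, ∀ x ∈ P,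
            Cfsg.Agent.FusSys.apl α x ∈ Cfsg.Agent.FusSys.natChain C j ↔
              x ∈ Cfsg.Agent.FusSys.natChain C j := by
          intro α hα j hj x hx
          have hle := ih j hj (by omega)
          have hwj : F.WeaklyClosed (Cfsg.Agent.FusSys.natChain C j) := by
            rw [Cfsg.Agent.FusSys.natChain_castSucc C ⟨j, by omega⟩]
            exact hw _
          have hi' := Cfsg.Agent.FusSys.iso_apl hc.1 hα
          obtain ⟨J, hJ, -⟩ := hi'.restrict hle
          have hJe : J = Cfsg.Agent.FusSys.natChain C j := by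
            obtain ⟨φ, hφ, hφf⟩ := hJ.1
            rw [← hwj.2 φ hφ]
            refine Subgroup.ext fun y => (hJ.2 y).trans ?_
            exact ⟨fun ⟨z, hz, hzy⟩ => ⟨⟨z, hz⟩, (hφf _).trans hzy⟩,
              fun ⟨z, hz⟩ => ⟨z, z.2, (hφf z).symm.trans hz⟩⟩
          constructor
          · intro h
            obtain ⟨z, hz, hzy⟩ := hJ.exists_eq (hJe.ge h)
            exact hi'.1.injOn (hle hz) hx hzy ▸ hz
          · intro h
            exact hJe.le (hJ.mem h)
        have hnorm : S ≤ Subgroup.normalizer (Cfsg.Agent.FusSys.natChain C i : Set Ω) := by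
          rcases Nat.lt_or_ge i n with hlt | hge
          · rw [Cfsg.Agent.FusSys.natChain_castSucc C ⟨i, hlt⟩]
            intro s hs
            refine Subgroup.mem_normalizer_iff_map_conj_eq.2 ?_
            have hsub' : C (Fin.castSucc ⟨i, hlt⟩) ≤ S := (hw ⟨i, hlt⟩).1
            have h5 := (Cfsg.Agent.FusSys.iso_conj (F := F) hsub' hs)
            obtain ⟨φ, hφ, hφf⟩ := h5.1
            have h4 := (hw ⟨i, hlt⟩).2 φ hφ
            refine Subgroup.ext fun y => (h5.2 y).trans (Iff.trans ?_ (SetLike.ext_iff.1 h4 y))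
            exact ⟨fun ⟨z, hz, hzy⟩ => ⟨⟨z, hz⟩, (hφf _).trans hzy⟩,
              fun ⟨z, hz⟩ => ⟨z, z.2, (hφf z).symm.trans hz⟩⟩
          · have : i = n := by omega
            rw [this, Cfsg.Agent.FusSys.natChain_last, hn]
            exact Cfsg.Agent.FusSys.StronglyClosed.le_normalizer hQ
        have hstep : ∀ a ∈ Cfsg.Agent.FusSys.natChain C i, a ∈ Subgroup.normalizer (P : Set Ω) → a ∈ P := by
          intro a ha han
          let D : ℕ → Subgroup Ω := fun j =>
            if j < i then Cfsg.Agent.FusSys.natChain C j else if j = i then Q else S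
          refine Cfsg.Agent.FusSys.mem_of_chain hS hc hr (hQ.1 (hsub ha)) han (C := D) ?_
            (n := i + 1) (by simp [D, hc.1]) ?_ ?_ ?_
          · refine monotone_nat_of_le_succ fun j => ?_
            simp only [D]
            split_ifs <;> try omega
            · exact Cfsg.Agent.FusSys.natChain_mono hmono (Nat.le_succ j)
            · rw [← hn, ← Cfsg.Agent.FusSys.natChain_last C]
              exact Cfsg.Agent.FusSys.natChain_mono hmono (by omega)
            · exact hQ.1
            · exact le_rfl
          · intro α hα j hj x hx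
            simp only [D]
            split_ifs with h1 h2
            · exact hinv α hα j h1 x hx
            · exact Cfsg.Agent.FusSys.apl_invariant_of_stronglyClosed hQ hc.1 hα hx
            · exact iff_of_true (hc.1 (Cfsg.Agent.FusSys.apl_mem α hx)) (hc.1 hx)
          · intro δ hδ _ x hx hx0
            simp only [D, if_pos hpos] at hx0
            rw [Cfsg.Agent.FusSys.natChain_zero, h0, Subgroup.mem_bot] at hx0
            subst hx0
            exact Cfsg.Agent.FusSys.Mor.map_one (Cfsg.Agent.FusSys.iso_apl hc.1 hδ).1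
          · intro j hj x hx hxD
            simp only [D] at hxD ⊢
            rcases lt_trichotomy (j + 1) i with h1 | h1 | h1
            · rw [if_pos h1] at hxD
              rw [if_pos (by omega)]
              rw [Cfsg.Agent.FusSys.natChain_succ C ⟨j, by omega⟩] at hxD
              rw [Cfsg.Agent.FusSys.natChain_castSucc C ⟨j, by omega⟩]
              refine Cfsg.Agent.FusSys.conj_commutator_mem ?_ (hsub ha) hxD
              rw [Subgroup.commutator_comm]; exact hcomm _
            · rw [if_neg (by omega), if_pos h1] at hxD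
              rw [if_pos (by omega)]
              rw [← h1, Cfsg.Agent.FusSys.natChain_succ C ⟨j, by omega⟩] at ha
              rw [Cfsg.Agent.FusSys.natChain_castSucc C ⟨j, by omega⟩]
              have h3 := hcomm ⟨j, by omega⟩ (Subgroup.commutator_mem_commutator ha (Q.inv_mem hxD))
              have h4 := (C (Fin.castSucc ⟨j, by omega⟩)).inv_mem h3
              rw [commutatorElement_def] at h4
              have e : (a * x⁻¹ * a⁻¹ * x⁻¹⁻¹)⁻¹ = x⁻¹ * (a * x * a⁻¹) := by group
              rwa [e] at h4
            · have : j = i := by omega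
              subst this
              rw [if_neg (lt_irrefl _), if_pos rfl]
              have h4 := (Subgroup.mem_normalizer_iff''.1
                (Cfsg.Agent.FusSys.StronglyClosed.le_normalizer hQ (hc.1 hx)) a).1 (hsub ha)
              have e : x⁻¹ * (a * x * a⁻¹) = x⁻¹ * a * x * a⁻¹ := by group
              rw [e]
              exact Q.mul_mem h4 (Q.inv_mem (hsub ha))
        by_contra hne
        have hlt : P < P ⊔ Cfsg.Agent.FusSys.natChain C i :=
          lt_of_le_of_ne le_sup_left fun h => hne (h.symm ▸ le_sup_right)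
        obtain ⟨c, ⟨hc1, hcn⟩, hcP⟩ := SetLike.exists_of_lt
          (Cfsg.Agent.FusSys.lt_inf_normalizer hS (sup_le hc.1 (hsub.trans hQ.1)) hlt)
        have hc1' : c ∈ ((P ⊔ Cfsg.Agent.FusSys.natChain C i : Subgroup Ω) : Set Ω) := hc1
        rw [Subgroup.coe_mul_of_left_le_normalizer_right _ _ (hc.1.trans hnorm)] at hc1'
        obtain ⟨x, hx, q, hq, rfl⟩ := hc1'
        have hqn : q ∈ Subgroup.normalizer (P : Set Ω) := by
          have := Subgroup.mul_mem _ (Subgroup.inv_mem _ (Subgroup.le_normalizer hx)) hcn
          rwa [inv_mul_cancel_left] at this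
        exact hcP (P.mul_mem hx (hstep q hq hqn))
    rw [← hn, ← Cfsg.Agent.FusSys.natChain_last C]
    exact key n le_rfl

end Cfsg.Agent.S5226
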