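import Cfsg.Statements.S5233
import Cfsg.Agent.FusSys.StrongExtra
import Cfsg.Agent.LargeExtra.SingularSubgroup
-- import your own Cfsg.Agent.* helpers here

set_option autoImplicit false
open Cfsg

open Cfsg.Agent.FusSys Cfsg.Agent.FusSys.StrongExtra

namespace Cfsg.Agent.S5233

theorem exists_type_model (G : Type*) [Group G] [Finite G] :
    ∃ (H : Type) (_ : Group H), Finite H ∧ Nonempty (G ≃* H) := by
  haveI : Small.{0} G := Countable.toSmall G
  exact ⟨Shrink.{0} G, inferInstance, Finite.of_equiv G (equivShrink G), ⟨Shrink.mulEquiv.symm⟩⟩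


/-- Let F be a saturated fusion system over a finite p-group S and P a subgroup of S strongly closed in F that is generalized extraspecial (its Frattini subgroup equals its commutator subgroup and has order p) and not isomorphic to E × A with A elementary abelian and E dihedral of order 8 (p = 2) or extraspecial of order p³ and exponent p (p odd). Then P is normal in F. -/
theorem result {Ω : Type*} [Group Ω] {S : Subgroup Ω} [Finite S] (p : ℕ) [Fact p.Prime] (hS : IsPGroup p S) (F : Cfsg.FusionSystem S) (hF : F.IsSaturated p) (P : Subgroup Ω) (hP : F.StronglyClosed P) (hge : frattini ↥P = commutator ↥P ∧ Nat.card ↥(commutator ↥P) = p) (h2 : p = 2 → ¬ ∃ (A : Type) (_ : CommGroup A), (∀ a : A, a ^ 2 = 1) ∧ Nonempty (↥P ≃* DihedralGroup 4 × A)) (hodd : p ≠ 2 → ¬ ∃ (E : Type) (_ : Group E) (A : Type) (_ : CommGroup A), Cfsg.IsExtraspecial p E ∧ Nat.card E = p ^ 3 ∧ Monoid.exponent E = p ∧ (∀ a : A, a ^ p = 1) ∧ Nonempty (↥P ≃* E × A)) : F.IsNormal P := by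
  haveI : Finite P := finite_of_le hP.1
  have hn : ∀ s ∈ S, ∀ a ∈ P, s * a * s⁻¹ ∈ P := fun s hs a ha =>
    (Subgroup.mem_normalizer_iff.1 (StronglyClosed.le_normalizer hP hs) a).1 ha
  have hs := setting_of hS hP.1 hn hge
  rcases exception_or_closed hS hF hP hs with hZ | ⟨w, y, x, hf, hy⟩
  · exact isNormal_of_closed hS hF hP hs hZ
  exfalso
  obtain ⟨E, A, hEP, hAP, hEw, hES, hcard, hexp, hAc, hAexp, ⟨e⟩⟩ := hf.product hs hy
  haveI : Finite E := Finite.of_injective _ (Subgroup.inclusion_injective hEP)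
  haveI : Finite A := Finite.of_injective _ (Subgroup.inclusion_injective hAP)
  obtain ⟨A', gA, -, ⟨eA⟩⟩ := exists_type_model A
  letI : CommGroup A' := { gA with
    mul_comm := fun a b => eA.symm.injective (by
      rw [map_mul, map_mul]; exact Subtype.ext (hAc _ (eA.symm a).2 _ (eA.symm b).2).eq) }
  have hA' : ∀ a : A', a ^ p = 1 := fun a => eA.symm.injective (by
    rw [map_pow, map_one]; exact Subtype.ext (hAexp _ (eA.symm a).2))
  by_cases hp : p = 2
  · subst hp
    have hwE : w ∈ E := hEw ▸ Subgroup.subset_closure (Or.inl rfl)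
    have hyE : y ∈ E := hEw ▸ Subgroup.subset_closure (Or.inr rfl)
    have hw2 : w ^ 2 = 1 := hf.exp w hf.w_mem (by simp [br])
    have hne : ∀ {g : Ω}, (br y w ≠ 1) → (g = 1 → br y w = 1) → g ≠ 1 := fun h1 h2 h3 => h1 (h2 h3)
    have hw1 : w ≠ 1 := hne hf.br_ne (fun h => by simp [br, h])
    have hy1 : y ≠ 1 := hne hf.br_ne (fun h => by simp [br, h])
    have hwy : (⟨w, hwE⟩ : E) ≠ ⟨y, hyE⟩ := fun h =>
      hf.br_ne (by rw [show w = y from congrArg Subtype.val h]; simp [br])
    obtain ⟨eD⟩ := Cfsg.Agent.S0206.result (⟨w, hwE⟩ : E) ⟨y, hyE⟩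
      (orderOf_eq_prime (Subtype.ext hw2) (fun h => hw1 (congrArg Subtype.val h)))
      (orderOf_eq_prime (Subtype.ext hy) (fun h => hy1 (congrArg Subtype.val h))) hwy
    have htop : Subgroup.closure ({⟨w, hwE⟩, ⟨y, hyE⟩} : Set E) = ⊤ := by
      apply Subgroup.map_injective E.subtype_injective
      rw [MonoidHom.map_closure, Set.image_pair, ← MonoidHom.range_eq_map, Subgroup.range_subtype]
      exact hEw.symm
    have eE : E ≃* DihedralGroup (orderOf ((⟨w, hwE⟩ : E) * ⟨y, hyE⟩)) :=
      Subgroup.topEquiv.symm.trans ((MulEquiv.subgroupCongr htop.symm).trans eD)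
    have h4 : orderOf ((⟨w, hwE⟩ : E) * ⟨y, hyE⟩) = 4 := by
      have := Nat.card_congr eE.toEquiv
      rw [hcard, DihedralGroup.nat_card] at this
      omega
    rw [h4] at eE
    exact h2 rfl ⟨A', inferInstance, hA', ⟨e.trans (eE.prodCongr eA)⟩⟩
  · obtain ⟨E', gE, hEfin, ⟨eE⟩⟩ := exists_type_model E
    haveI := hEfin
    have hE' := Cfsg.Agent.LargeExtra.extraspecial_congr eE hES
    have hcE : Nat.card E' = p ^ 3 := by rw [← Nat.card_congr eE.toEquiv, hcard]
    have hexp' : Monoid.exponent E' = p := by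
      have hd : Monoid.exponent E' ∣ p := Monoid.exponent_dvd_of_forall_pow_eq_one fun a =>
        eE.symm.injective (by rw [map_pow, map_one]; exact Subtype.ext (hexp hp _ (eE.symm a).2))
      rcases (Nat.dvd_prime (Fact.out : p.Prime)).1 hd with h | h
      · haveI := Monoid.exp_eq_one_iff.1 h
        rw [Nat.card_unique] at hcE
        have := Nat.one_lt_pow (n := 3) (by norm_num) (Fact.out : p.Prime).one_lt
        omega
      · exact h
    exact hodd hp ⟨E', gE, A', inferInstance, hE', hcE, hexp', hA', ⟨e.trans (eE.prodCongr eA)⟩⟩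

end Cfsg.Agent.S5233
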