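import Cfsg.Statements.S5236
import Cfsg.Agent.FusSys.ElemCrit
import Cfsg.Agent.FusSys.SolvableSys

set_option autoImplicit false
open Cfsg
open scoped commutatorElement

namespace Cfsg.Agent.S5236

/-- Let p be an odd prime, F a saturated fusion system over a finite p-group S and P a subgroup of S strongly closed in F. Then P is normal in F if and only if Ω₁(P) (the subgroup generated by the elements of order p of P) has a chain of subgroups 1 = Q₀ ≤ Q₁ ≤ ⋯ ≤ Qₙ = Ω₁(P), each strongly closed in F, with [Qᵢ₊₁, P] ≤ Qᵢ for all i. -/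
theorem result {Ω : Type*} [Group Ω] {S : Subgroup Ω} [Finite S] (p : ℕ) [Fact p.Prime] (hS : IsPGroup p S) (F : Cfsg.FusionSystem S) (hF : F.IsSaturated p) (hp : p ≠ 2) (P : Subgroup Ω) (hP : F.StronglyClosed P) : F.IsNormal P ↔ ∃ (n : ℕ) (Q : Fin (n + 1) → Subgroup Ω), Q 0 = ⊥ ∧ Q (Fin.last n) = Cfsg.omegaOne p P ∧ Monotone Q ∧ (∀ i : Fin (n + 1), F.StronglyClosed (Q i)) ∧ ∀ i : Fin n, ⁅Q i.succ, P⁆ ≤ Q i.castSucc := by
  classical
  open Cfsg.Agent.FusSys in
  haveI := finite_of_le hP.1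
  have hPp : IsPGroup p P := hS.to_le hP.1
  have hWP : Cfsg.omegaOne p P ≤ P := (Subgroup.closure_le _).2 fun x hx => hx.1
  constructor
  · intro hn
    haveI := hPp.isNilpotent
    obtain ⟨N, hN⟩ := Group.IsNilpotent.nilpotent' (G := P)
    have hWc : ((Cfsg.omegaOne p P).subgroupOf P).Characteristic := by
      refine Subgroup.characteristic_iff_le_comap.2 fun φ => ?_
      have key : Cfsg.omegaOne p P ≤
          ((((Cfsg.omegaOne p P).subgroupOf P).comap φ.toMonoidHom).map P.subtype) := by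
        refine (Subgroup.closure_le _).2 fun x hx => ⟨⟨x, hx.1⟩, Subgroup.subset_closure ⟨(φ _).2, ?_⟩, rfl⟩
        show ((φ ⟨x, hx.1⟩ : P) : Ω) ^ p = 1
        rw [← SubmonoidClass.coe_pow, ← map_pow, show (⟨x, hx.1⟩ : P) ^ p = 1 from Subtype.ext hx.2,
          map_one]
        rfl
      intro x hx
      obtain ⟨y, hy, hyx⟩ := key hx
      rwa [← Subtype.ext hyx]
    have hWn : F.IsNormal (Cfsg.omegaOne p P) :=
      Cfsg.Agent.FusSys.isNormal_of_characteristic hn hWP hWc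
    refine ⟨N, fun i => Cfsg.omegaOne p P ⊓ (Subgroup.upperCentralSeries P i).map P.subtype, ?_, ?_, ?_, ?_, ?_⟩
    · simp
    · show Cfsg.omegaOne p P ⊓ (Subgroup.upperCentralSeries P N).map P.subtype = _
      rw [hN, ← MonoidHom.range_eq_map, Subgroup.range_subtype]
      exact inf_eq_left.2 hWP
    · intro i j hij
      exact inf_le_inf_left _ (Subgroup.map_mono (Subgroup.upperCentralSeries_mono P hij))
    · intro i
      have h1 : F.IsNormal ((Subgroup.upperCentralSeries P i).map P.subtype) :=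
        Cfsg.Agent.FusSys.isNormal_of_characteristic hn (Subgroup.map_subtype_le _) (by
          rw [show ((Subgroup.upperCentralSeries P i).map P.subtype).subgroupOf P =
            Subgroup.upperCentralSeries P i from
            Subgroup.comap_map_eq_self_of_injective P.subtype_injective _]
          infer_instance)
      have hA := Cfsg.Agent.FusSys.stronglyClosed_of_isNormal hWn
      have hB := Cfsg.Agent.FusSys.stronglyClosed_of_isNormal h1
      exact Cfsg.Agent.FusSys.stronglyClosed_iff.2 ⟨inf_le_left.trans hA.1, fun X f hX hf x hx =>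
        ⟨Cfsg.Agent.FusSys.StronglyClosed.mor_mem hA hf hx (hX hx).1,
          Cfsg.Agent.FusSys.StronglyClosed.mor_mem hB hf hx (hX hx).2⟩⟩
    · intro i
      rw [Subgroup.commutator_le]
      rintro x ⟨hxW, ⟨y, hy, rfl⟩⟩ g hg
      refine ⟨?_, ⟨⁅y, ⟨g, hg⟩⁆, ?_, rfl⟩⟩
      · have h := (Subgroup.normal_of_characteristic ((Cfsg.omegaOne p P).subgroupOf P)).conj_mem
          _ ((((Cfsg.omegaOne p P).subgroupOf P)).inv_mem hxW) ⟨g, hg⟩
        have := (Cfsg.omegaOne p P).mul_mem hxW h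
        simpa [commutatorElement_def, mul_assoc] using this
      · simpa [commutatorElement_def] using (Subgroup.mem_upperCentralSeries_succ_iff.1 hy) ⟨g, hg⟩
  rintro ⟨n, Q, h0, hn, hmono, hQ, hcomm⟩
  open Cfsg.Agent.FusSys in
  refine isNormal_of_stronglyClosed_le hS hF hP fun R hc hr => ?_
  open Cfsg.Agent.FusSys in
  refine le_of_normalizer_le hS hF hP hc.1 fun a ha han => ?_
  open Cfsg.Agent.FusSys in
  haveI := finite_of_le hc.1
  have hR : IsPGroup p R := hS.to_le hc.1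
  let Γ : Subgroup (MulAut R) := F.autGroup R ⊓
    (Cfsg.Agent.FusSys.chainStab.subgroupOfFiniteSubmonoid
      { carrier := {α | (∀ x ∈ R, x⁻¹ * Cfsg.Agent.FusSys.apl α x ∈ P) ∧
          (∀ i, ∀ x ∈ R, x ∈ Q i → Cfsg.Agent.FusSys.apl α x ∈ Q i) ∧
          ∀ i : Fin n, ∀ x ∈ R, x ∈ Q i.succ → x⁻¹ * Cfsg.Agent.FusSys.apl α x ∈ Q i.castSucc}
        one_mem' := ⟨fun x hx => by rw [Cfsg.Agent.FusSys.apl_one hx, inv_mul_cancel]; exact P.one_mem,
          fun i x hx hxQ => by rw [Cfsg.Agent.FusSys.apl_one hx]; exact hxQ,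
          fun i x hx _ => by rw [Cfsg.Agent.FusSys.apl_one hx, inv_mul_cancel]; exact Subgroup.one_mem _⟩
        mul_mem' := by
          rintro α β ⟨hα, hα', hα''⟩ ⟨hβ, hβ', hβ''⟩
          refine ⟨fun x hx => ?_, fun i x hx hxQ => ?_, fun i x hx hxQ => ?_⟩ <;>
            rw [Cfsg.Agent.FusSys.apl_mul _ _ hx]
          · have := P.mul_mem (hβ x hx) (hα _ (Cfsg.Agent.FusSys.apl_mem β hx))
            rwa [mul_assoc, mul_inv_cancel_left] at this
          · exact hα' i _ (Cfsg.Agent.FusSys.apl_mem β hx) (hβ' i x hx hxQ)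
          · have := Subgroup.mul_mem _ (hβ'' i x hx hxQ)
              (hα'' i _ (Cfsg.Agent.FusSys.apl_mem β hx) (hβ' _ x hx hxQ))
            rwa [mul_assoc, mul_inv_cancel_left] at this })
  open Cfsg.Agent.FusSys in
  refine mem_of_normal_pGroup hc hr (hP.1 ha) han (Γ := Γ) inf_le_left ?_ ?_ ?_
  · refine Cfsg.Agent.FusSys.isPGroup_of_coprime_eq_one fun g hg => ?_
    obtain ⟨δ, hδF, hδP, hδQ, hδc⟩ := g
    refine Subtype.ext (Cfsg.Agent.FusSys.apl_ext fun x hx => ?_)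
    rw [← Subgroup.orderOf_coe] at hg
    have key : ∀ i : Fin (n + 1), ∀ y ∈ R, y ∈ Q i → Cfsg.Agent.FusSys.apl δ y = y := by
      intro i
      induction i using Fin.induction with
      | zero =>
        intro y hy hyQ
        have hy1 : y = 1 := Subgroup.mem_bot.1 (h0.le hyQ)
        subst hy1
        rw [Cfsg.Agent.FusSys.apl_apply δ hy]
        exact congrArg Subtype.val (map_one δ)
      | succ i ih =>
        intro y hy hyQ
        exact Cfsg.Agent.FusSys.eq_of_fixed_quot hR hg hy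
          (ih _ (R.mul_mem (R.inv_mem hy) (Cfsg.Agent.FusSys.apl_mem δ hy)) (hδc i y hy hyQ))
    have hfix : ∀ y ∈ R ⊓ P, Cfsg.Agent.FusSys.apl δ y = y := by
      refine Cfsg.Agent.FusSys.fix_of_small hR hg inf_le_left (fun y hy => ⟨Cfsg.Agent.FusSys.apl_mem δ hy.1,
        Cfsg.Agent.FusSys.StronglyClosed.mor_mem hP (Cfsg.Agent.FusSys.iso_apl hc.1 hδF).1 hy.1 hy.2⟩) ?_
      intro y hy hs
      exact key (Fin.last n) y hy.1 (hn.ge (Subgroup.subset_closure ⟨hy.2, hs.resolve_right fun e => hp e.1⟩))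
    show Cfsg.Agent.FusSys.apl δ x = Cfsg.Agent.FusSys.apl (1 : MulAut R) x
    rw [Cfsg.Agent.FusSys.apl_one hx]
    exact Cfsg.Agent.FusSys.eq_of_fixed_quot hR hg hx
      (hfix _ ⟨R.mul_mem (R.inv_mem hx) (Cfsg.Agent.FusSys.apl_mem δ hx), hδP x hx⟩)
  · rintro α hα γ ⟨hγF, hγP, hγQ, hγc⟩
    have hm := (Cfsg.Agent.FusSys.iso_apl hc.1 hα).1
    have hQinv : ∀ β ∈ F.autGroup R, ∀ i, ∀ x ∈ R, x ∈ Q i → Cfsg.Agent.FusSys.apl β x ∈ Q i :=
      fun β hβ i x hx hxQ =>
        Cfsg.Agent.FusSys.StronglyClosed.mor_mem (hQ i) (Cfsg.Agent.FusSys.iso_apl hc.1 hβ).1 hx hxQ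
    have hF' : α * γ * α⁻¹ ∈ F.autGroup R :=
      Subgroup.mul_mem _ (Subgroup.mul_mem _ hα hγF) (Subgroup.inv_mem _ hα)
    refine ⟨hF', fun x hx => ?_, hQinv _ hF', fun i x hx hxQ => ?_⟩ <;>
      rw [mul_assoc, Cfsg.Agent.FusSys.apl_mul _ _ hx, Cfsg.Agent.FusSys.apl_mul _ _ hx]
    · have hz := Cfsg.Agent.FusSys.apl_mem α⁻¹ hx
      have h := Cfsg.Agent.FusSys.StronglyClosed.mor_mem hP hm
        (R.mul_mem (R.inv_mem hz) (Cfsg.Agent.FusSys.apl_mem γ hz)) (hγP _ hz)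
      rwa [hm.map_mul (R.inv_mem hz) (Cfsg.Agent.FusSys.apl_mem γ hz), hm.map_inv hz,
        Cfsg.Agent.FusSys.apl_apl_inv α hx] at h
    · have hz := Cfsg.Agent.FusSys.apl_mem α⁻¹ hx
      have hzQ := hQinv _ (Subgroup.inv_mem _ hα) _ x hx hxQ
      have h := Cfsg.Agent.FusSys.StronglyClosed.mor_mem (hQ _) hm
        (R.mul_mem (R.inv_mem hz) (Cfsg.Agent.FusSys.apl_mem γ hz)) (hγc i _ hz hzQ)
      rwa [hm.map_mul (R.inv_mem hz) (Cfsg.Agent.FusSys.apl_mem γ hz), hm.map_inv hz,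
        Cfsg.Agent.FusSys.apl_apl_inv α hx] at h
  · intro γ hγ hγx
    refine ⟨hγ, fun x hx => ?_, fun i x hx hxQ => Cfsg.Agent.FusSys.StronglyClosed.mor_mem (hQ i)
      (Cfsg.Agent.FusSys.iso_apl hc.1 hγ).1 hx hxQ, fun i x hx hxQ => ?_⟩ <;> rw [hγx x hx]
    · have h := P.mul_mem (Cfsg.Agent.FusSys.isStronglyClosed_normal hP (S.inv_mem (hc.1 hx)) ha)
        (P.inv_mem ha)
      simpa [mul_assoc] using h
    · have h := hcomm i (Subgroup.commutator_mem_commutator (Subgroup.inv_mem _ hxQ) ha)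
      simpa [commutatorElement_def, mul_assoc] using h

end Cfsg.Agent.S5236
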