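import Cfsg.Statements.S5238
import Cfsg.Agent.MaxClass.Pearl
import Cfsg.Agent.FusSys.Criteria
-- import your own Cfsg.Agent.* helpers here

set_option autoImplicit false
open Cfsg
open Cfsg.Agent.FusSys Cfsg.Agent.MaxClass

namespace Cfsg.Agent.S5238

/-- Let p be an odd prime and F a saturated fusion system over a finite p-group S having a pearl: an F-essential subgroup E that is elementary abelian of order p² or nonabelian of order p³. Then S has maximal nilpotency class (if S has order pⁿ with n ≥ 3, the term of index n − 2 of its lower central series, counting S itself as the term of index 0, is nontrivial), and every subgroup of S can be generated by at most p elements (the sectional rank of S is at most p). -/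
theorem result {Ω : Type*} [Group Ω] {S : Subgroup Ω} [Finite S] (p : ℕ) [Fact p.Prime] (hS : IsPGroup p S) (F : Cfsg.FusionSystem S) (hF : F.IsSaturated p) (hp : p ≠ 2) (E : Subgroup Ω) (hE : F.IsEssential p E) (hpearl : (Nat.card E = p ^ 2 ∧ ∀ x ∈ E, x ^ p = 1 ∧ IsMulCommutative ↥E) ∨ (Nat.card E = p ^ 3 ∧ ¬ IsMulCommutative ↥E)) : (∀ n : ℕ, Nat.card S = p ^ n → 3 ≤ n → Subgroup.lowerCentralSeries S (n - 2) ≠ ⊥) ∧ ∀ H : Subgroup Ω, H ≤ S → ∃ T : Finset Ω, T.card ≤ p ∧ Subgroup.closure (T : Set Ω) = H := by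
  classical
  have hpp := (Fact.out : p.Prime)
  have hES : E ≤ S := hE.1.1
  have hC : S ⊓ Subgroup.centralizer (E : Set Ω) ≤ E := centric_self hE.1
  haveI : Finite E := finite_of_le hES
  set A : Subgroup S := E.subgroupOf S with hA
  have hAcard : Nat.card A = Nat.card E := Nat.card_congr (Subgroup.subgroupOfEquivOfLe hES).toEquiv
  have hAC : Subgroup.centralizer (A : Set S) ≤ A := fun y hy => Subgroup.mem_subgroupOf.2
    (hC ⟨y.2, Subgroup.mem_centralizer_iff.2 fun u hu =>
      congrArg Subtype.val (Subgroup.mem_centralizer_iff.1 hy ⟨u, hES hu⟩ (Subgroup.mem_subgroupOf.2 hu))⟩)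
  obtain ⟨n, hn⟩ := IsPGroup.iff_card.1 hS
  have hmain : 3 ≤ n → Group.nilpotencyClass S = n - 1 ∧ ∃ x : S,
      Nat.card (Subgroup.centralizer ({x} : Set S)) = p ^ 2 := by
    intro h3
    rcases hpearl with ⟨hc, -⟩ | ⟨hc, hna⟩
    · exact ⟨class_of_selfcent_sq n S hn A (hAcard.trans hc) hAC,
        Graded.exists_cent_sq hn h3 A (hAcard.trans hc) hAC⟩
    · have hna' : ¬ IsMulCommutative A := fun h => hna ⟨⟨fun a b => Subtype.ext
        (congrArg (fun y : A => ((y : S) : Ω)) (h.is_comm.comm
          ⟨⟨a, hES a.2⟩, Subgroup.mem_subgroupOf.2 a.2⟩ ⟨⟨b, hES b.2⟩, Subgroup.mem_subgroupOf.2 b.2⟩))⟩⟩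
      exact ⟨class_of_selfcent_cube hn A (hAcard.trans hc) hna' hAC,
        Graded.exists_cent_cube hn A (hAcard.trans hc) hna' hAC⟩
  refine ⟨fun m hm h3 => ?_, fun H hH => ?_⟩
  · obtain rfl : m = n := Nat.pow_right_injective hpp.two_le (hm.symm.trans hn)
    obtain ⟨hcl, -⟩ := hmain h3
    haveI := hS.isNilpotent
    rw [← Subgroup.top_subtype_lowerCentralSeries, Ne,
      Subgroup.map_eq_bot_iff_of_injective _ S.subtype_injective,
      Subgroup.lowerCentralSeries_eq_bot_iff_nilpotencyClass_le]
    omega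
  · have hgoal : ∃ T : Finset S, T.card ≤ p ∧ Subgroup.closure (T : Set S) = H.subgroupOf S := by
      by_cases h3 : 3 ≤ n
      · obtain ⟨hcl, x, hx⟩ := hmain h3
        exact (Graded.mx_of_class hn h3 hcl hx).gens (by have := hpp.two_le; omega) _
      · have hle := Nat.le_of_dvd Nat.card_pos (Subgroup.card_dvd_of_le hES)
        rw [hn] at hle
        rcases hpearl with ⟨hc, hexp⟩ | ⟨hc, -⟩
        swap
        · rw [hc] at hle
          exact absurd ((Nat.pow_le_pow_iff_right hpp.one_lt).1 hle) (by omega)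
        obtain rfl : n = 2 := by
          rw [hc] at hle
          have := (Nat.pow_le_pow_iff_right hpp.one_lt).1 hle
          omega
        set K := H.subgroupOf S
        obtain ⟨j, hj⟩ := IsPGroup.iff_card.1 (hS.to_subgroup K)
        -- a maximal chain
        by_cases hK : K = ⊥
        · exact ⟨∅, by simp, by rw [hK, Finset.coe_empty, Subgroup.closure_empty]⟩
        obtain ⟨u, hu, hu1⟩ := (Subgroup.bot_or_exists_ne_one K).resolve_left hK
        by_cases hKu : K ≤ Subgroup.zpowers u
        · refine ⟨{u}, by simpa using hpp.one_le, ?_⟩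
          rw [Finset.coe_singleton, ← Subgroup.zpowers_eq_closure]
          exact le_antisymm (Subgroup.zpowers_le.2 hu) hKu
        obtain ⟨v, hv, hvu⟩ := SetLike.not_le_iff_exists.1 hKu
        refine ⟨{u, v}, Finset.card_le_two.trans hpp.two_le, ?_⟩
        rw [Finset.coe_insert, Finset.coe_singleton]
        have hle' : Subgroup.closure ({u, v} : Set S) ≤ K := (Subgroup.closure_le _).2 (by
          rintro y (rfl | rfl) <;> assumption)
        refine Subgroup.eq_of_le_of_card_ge hle' ?_
        obtain ⟨l, hl⟩ := IsPGroup.iff_card.1 (hS.to_subgroup (Subgroup.closure ({u, v} : Set S)))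
        refine le_trans (Subgroup.card_le_card_group K) ?_
        rw [hn, hl]
        refine Nat.pow_le_pow_right hpp.pos ?_
        by_contra hl2
        refine hvu ((Subgroup.eq_of_le_of_card_ge (Subgroup.zpowers_le.2 (Subgroup.subset_closure
          (by simp) : u ∈ Subgroup.closure ({u, v} : Set S))) ?_).symm ▸ Subgroup.subset_closure (by simp))
        obtain ⟨r, hr⟩ := IsPGroup.iff_orderOf.1 hS u
        rw [hl, Nat.card_zpowers, hr]
        refine Nat.pow_le_pow_right hpp.pos ?_
        have : r ≠ 0 := fun h0 => hu1 (orderOf_eq_one_iff.1 (by rw [hr, h0, pow_zero]))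
        omega
    obtain ⟨T, hT, hTH⟩ := hgoal
    refine ⟨T.image S.subtype, Finset.card_image_le.trans hT, ?_⟩
    rw [Finset.coe_image, ← MonoidHom.map_closure, hTH, Subgroup.subgroupOf_map_subtype, inf_eq_left]
    exact hH

end Cfsg.Agent.S5238
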