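import Cfsg.Statements.S5239
import Cfsg.Agent.MaxClass.Three
import Cfsg.Agent.FusSys.SmallCentral
import Cfsg.Agent.Fusion.RankTwoAut
-- import your own Cfsg.Agent.* helpers here

set_option autoImplicit false
open Cfsg
open Cfsg.Agent.FusSys Cfsg.Agent.MaxClass
open Cfsg.Agent.FusSys.SmallCentral (zS zS_comm)
open scoped commutatorElement

namespace Cfsg.Agent.S5239

/-- Let F be a saturated fusion system over a finite 3-group S having a pearl: an F-essential subgroup E that is elementary abelian of order 9 or nonabelian of order 27. Then either S is extraspecial of order 27 and exponent 3, or S has order at least 81 and every subgroup of S can be generated by at most two elements, or S is isomorphic to the wreath product C₃ ≀ C₃ (a Sylow 3-subgroup of the symmetric group of degree 9). -/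
theorem result {Ω : Type*} [Group Ω] {S : Subgroup Ω} [Finite S] (hS : IsPGroup 3 S) (F : Cfsg.FusionSystem S) (hF : F.IsSaturated 3) [Fact (Nat.Prime 3)] (E : Subgroup Ω) (hE : F.IsEssential 3 E) (hpearl : (Nat.card E = 9 ∧ ∀ x ∈ E, x ^ 3 = 1 ∧ IsMulCommutative ↥E) ∨ (Nat.card E = 27 ∧ ¬ IsMulCommutative ↥E)) : (Cfsg.IsExtraspecial 3 ↥S ∧ Nat.card S = 27 ∧ Monoid.exponent ↥S = 3) ∨ (81 ≤ Nat.card S ∧ ∀ H : Subgroup Ω, H ≤ S → ∃ T : Finset Ω, T.card ≤ 2 ∧ Subgroup.closure (T : Set Ω) = H) ∨ (∃ W : Sylow 3 (Equiv.Perm (Fin 9)), Nonempty (↥S ≃* ↥(W : Subgroup (Equiv.Perm (Fin 9))))) := by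
  classical
  have hES : E ≤ S := hE.1.1
  haveI : Finite E := finite_of_le hES
  have hC : S ⊓ Subgroup.centralizer (E : Set Ω) ≤ E := centric_self hE.1
  set A : Subgroup S := E.subgroupOf S with hA
  have hAcard : Nat.card A = Nat.card E := Nat.card_congr (Subgroup.subgroupOfEquivOfLe hES).toEquiv
  have hAC : Subgroup.centralizer (A : Set S) ≤ A := fun y hy => Subgroup.mem_subgroupOf.2
    (hC ⟨y.2, Subgroup.mem_centralizer_iff.2 fun u hu =>
      congrArg Subtype.val (Subgroup.mem_centralizer_iff.1 hy ⟨u, hES hu⟩ (Subgroup.mem_subgroupOf.2 hu))⟩)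
  obtain ⟨n, hn⟩ := IsPGroup.iff_card.1 hS
  have hne : E ≠ S := fun e => SmallCentral.not_essential_top' hS hF (e ▸ hE)
  have hlt := card_lt_of_lt' le_rfl (lt_of_le_of_ne hES hne)
  have hEcard : 9 ≤ Nat.card E := by rcases hpearl with ⟨hc, -⟩ | ⟨hc, -⟩ <;> omega
  have h3 : 3 ≤ n := by
    by_contra h3
    have : (3:ℕ) ^ n ≤ 3 ^ 2 := Nat.pow_le_pow_right (by norm_num) (by omega)
    omega
  obtain ⟨hcl, x, hx⟩ : Group.nilpotencyClass S = n - 1 ∧
      ∃ x : S, Nat.card (Subgroup.centralizer ({x} : Set S)) = 3 ^ 2 := by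
    rcases hpearl with ⟨hc, -⟩ | ⟨hc, hna⟩
    · exact ⟨class_of_selfcent_sq n S hn A (hAcard.trans hc) hAC,
        Graded.exists_cent_sq hn h3 A (hAcard.trans hc) hAC⟩
    · have hna' : ¬ IsMulCommutative A := fun h => hna ⟨⟨fun a b => Subtype.ext
        (congrArg (fun y : A => ((y : S) : Ω)) (h.is_comm.comm
          ⟨⟨a, hES a.2⟩, Subgroup.mem_subgroupOf.2 a.2⟩ ⟨⟨b, hES b.2⟩, Subgroup.mem_subgroupOf.2 b.2⟩))⟩⟩
      exact ⟨class_of_selfcent_cube hn A (hAcard.trans hc) hna' hAC,
        Graded.exists_cent_cube hn A (hAcard.trans hc) hna' hAC⟩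
  have hMX := Graded.mx_of_class hn h3 hcl hx
  rcases eq_or_lt_of_le h3 with h | h4
  · -- order 27
    subst h
    left
    have hE9 : Nat.card E = 9 := by
      rcases hpearl with ⟨hc, -⟩ | ⟨hc, -⟩
      · exact hc
      · omega
    set L1 := (⊤ : Subgroup S).lowerCentralSeries 1 with hL1
    have hL1c : L1 ≤ Subgroup.center S := fun z hz => Subgroup.mem_center_iff.2 fun g =>
      (hMX.top_central hz g).eq
    have hcent : Nat.card (Subgroup.center S) = 3 := by
      obtain ⟨j, hj⟩ := IsPGroup.iff_card.1 (hS.to_subgroup (Subgroup.center S))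
      have h1 : j < 2 := by
        by_contra hge
        have e := Subgroup.eq_of_le_of_card_ge (Subgroup.center_le_centralizer ({x} : Set S))
          (by rw [hx, hj]; exact Nat.pow_le_pow_right (by norm_num) (by omega))
        have hxc : x ∈ Subgroup.center S := e ▸ Subgroup.mem_centralizer_singleton_iff.2 rfl
        have htop : Subgroup.centralizer ({x} : Set S) = ⊤ := Subgroup.eq_top_iff' _ |>.2 fun g =>
          Subgroup.mem_centralizer_singleton_iff.2 (Subgroup.mem_center_iff.1 hxc g)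
        rw [htop, Subgroup.card_top, hn] at hx
        norm_num at hx
      have h2 := Subgroup.card_le_of_le hL1c
      rw [hL1, hMX.cardL 1 le_rfl, hj] at h2
      interval_cases j <;> simp_all
    have hzc : zS S = (Subgroup.center S).map S.subtype := SmallCentral.zS_map
    have hzcard : Nat.card (zS S) = 3 := by rw [hzc, Subgroup.card_subtype, hcent]
    have hAmb : SmallCentral.Amb 3 S := by
      refine ⟨hS, by rw [hzcard, hn]; norm_num, fun a ha b hb => ?_, fun a ha => ?_, ?_⟩
      · rw [hzc]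
        exact ⟨⁅(⟨a, ha⟩ : S), ⟨b, hb⟩⁆, hL1c (Subgroup.commutator_mem_commutator (Subgroup.mem_top _)
          (Subgroup.mem_top _)), by simp [StrongExtra.br, commutatorElement_def]⟩
      · rw [hzc]
        exact ⟨(⟨a, ha⟩ : S) ^ 3, hL1c (hMX.pow_L1 _), rfl⟩
      · by_contra! hall
        have htop : Subgroup.center S = ⊤ := Subgroup.eq_top_iff' _ |>.2 fun a => Subgroup.mem_center_iff.2 fun b =>
          Subtype.ext (StrongExtra.br_eq_one.1 (hall b b.2 a a.2))
        rw [htop, Subgroup.card_top, hn] at hcent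
        norm_num at hcent
    obtain ⟨C, z, w, hess, hodd, -⟩ := SmallCentral.exists_ess hAmb hF hE
    obtain ⟨δ, hδ, -, hδz, hδE⟩ := hodd (by norm_num)
    have hzS : zS S ≤ S := inf_le_left
    haveI := finite_of_le hzS
    have hCbot : C = ⊥ := by
      haveI := finite_of_le (hess.C_le.trans hzS)
      obtain ⟨j, hj⟩ := IsPGroup.iff_card.1 (hS.to_le (hess.C_le.trans hzS))
      rcases Nat.eq_zero_or_pos j with rfl | hpos
      · exact Subgroup.card_eq_one.1 (by rw [hj, pow_zero])
      · exfalso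
        refine hess.z_not ((Subgroup.eq_of_le_of_card_ge hess.C_le ?_).symm ▸ hess.z_mem)
        rw [hzcard, hj]
        exact Nat.le_self_pow hpos.ne' 3
    have hexp : ∀ a ∈ S, a ^ 3 = 1 := by
      intro a ha
      have he := hδE a ha
      have hm := (iso_apl (F := F) le_rfl hδ).1
      have hap : apl δ a = a * (a⁻¹ * apl δ a) := by rw [mul_inv_cancel_left]
      have h1 : apl δ (a ^ 3) = a ^ 3 := by
        rw [hm.map_pow ha, hap, StrongExtra.mul_pow_class_two hAmb.classTwo ha (hess.le he),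
          hess.pow_E hCbot he, mul_one,
          show Nat.choose 3 2 = 3 from rfl]
        have h2 := hAmb.br_mem _ (hess.le he) a ha
        obtain ⟨k, hk⟩ := hess.br_mem _ (hess.le he) a ha
        rw [hk, ← pow_mul, mul_comm k, pow_mul, hess.z_pow, one_pow, mul_one]
      obtain ⟨i, hi⟩ : ∃ i : ℕ, a ^ 3 = z ^ i := by
        obtain ⟨c, hc, i, hi⟩ := hess.mem_C (hAmb.pow_mem a ha)
        rw [hCbot, Subgroup.mem_bot] at hc
        exact ⟨i, by rw [hi, hc, one_mul]⟩
      rw [hi, hm.map_pow hess.z_mem.1, hδz, inv_pow, inv_eq_iff_mul_eq_one, ← pow_add, ← two_mul] at h1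
      have h2 := orderOf_dvd_of_pow_eq_one h1
      rw [orderOf_eq_prime hess.z_pow hess.z_ne] at h2
      obtain ⟨r, rfl⟩ : 3 ∣ i := by omega
      rw [hi, pow_mul, hess.z_pow, one_pow]
    have hexpX : ∀ a : S, a ^ 3 = 1 := fun a => Subtype.ext (hexp a a.2)
    have hcomm : commutator S = Subgroup.center S := Subgroup.eq_of_le_of_card_ge
      (show commutator S ≤ _ from hL1c) (by
        rw [hcent, show commutator S = L1 from rfl, hL1, hMX.cardL 1 le_rfl]; norm_num)
    refine ⟨⟨⟨hS, le_antisymm ?_ ?_, hcomm⟩, hcent⟩, hn, ?_⟩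
    · exact Cfsg.Agent.Fusion.frattini_le_center_of_exponent hexpX hcomm.le
    · haveI := hS.isNilpotent
      rw [← hcomm]; exact Cfsg.Agent.Core.commutator_le_frattini
    · refine Nat.dvd_antisymm (Monoid.exponent_dvd_of_forall_pow_eq_one hexpX) ?_
      rw [← orderOf_eq_prime (hexpX x) (fun e => hMX.x_not (e ▸ one_mem _))]
      exact Monoid.order_dvd_exponent x
  · by_cases hcase : 5 ≤ n ∨ ∃ v ∈ Graded.G1 S, v ∉ (⊤ : Subgroup S).lowerCentralSeries 1 ∧ v ^ 3 ≠ 1
    · refine Or.inr (Or.inl ⟨?_, fun H hH => ?_⟩)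
      · rw [hn]; exact le_trans (by norm_num) (Nat.pow_le_pow_right (by norm_num) h4)
      · obtain ⟨T, hT, hTH⟩ := hMX.gens_two h4 hcase (H.subgroupOf S)
        refine ⟨T.image S.subtype, Finset.card_image_le.trans hT, ?_⟩
        rw [Finset.coe_image, ← MonoidHom.map_closure, hTH, Subgroup.subgroupOf_map_subtype, inf_eq_left]
        exact hH
    · push Not at hcase
      exact Or.inr (Or.inr (hMX.exceptional (by omega) hcase.2))

end Cfsg.Agent.S5239
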