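import Cfsg.Statements.S5243
import Cfsg.Agent.FusSys.NormalChar

set_option autoImplicit false
open Cfsg

namespace Cfsg.Agent.S5243

/-- Let F be a saturated fusion system over a finite p-group S, E a normal subsystem of F over T ≤ S, and χ a surjective homomorphism from Aut_F(T) onto a nontrivial finite group Δ of order prime to p whose kernel contains Aut_E(T). Then there is a proper normal subsystem F₀ of F over S containing E such that Aut_{F₀}(S) consists of those α ∈ Aut_F(S) whose restriction to T is an element of Aut_F(T) in the kernel of χ; moreover every p'-residual subsystem O^{p'}(F) of F is contained in F₀. -/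
theorem result {Ω : Type*} [Group Ω] {S : Subgroup Ω} [Finite S] (p : ℕ) [Fact p.Prime] (hS : IsPGroup p S) (F : Cfsg.FusionSystem S) (hF : F.IsSaturated p) {T : Subgroup Ω} (hTS : T ≤ S) (E : Cfsg.FusionSystem T) (hE : E.IsNormalIn F p) {Δ : Type*} [Group Δ] [Finite Δ] [Nontrivial Δ] (hΔ : (Nat.card Δ).Coprime p) (χ : ↥(F.autGroup T) →* Δ) (hχ : Function.Surjective χ) (hker : (E.autGroup T).subgroupOf (F.autGroup T) ≤ χ.ker) : ∃ F₀ : Cfsg.FusionSystem S, F₀.IsNormalIn F p ∧ ¬ (∀ P : Subgroup Ω, F₀.Hom P = F.Hom P) ∧ E.IsSubsystemOf F₀ ∧ (∀ α : MulAut ↥S, α ∈ F₀.autGroup S ↔ α ∈ F.autGroup S ∧ ∃ β : ↥(F.autGroup T), χ β = 1 ∧ ∀ t : ↥T, (((β : MulAut ↥T) t : ↥T) : Ω) = ((α ⟨(t : Ω), hTS t.2⟩ : ↥S) : Ω)) ∧ ∀ R : Cfsg.FusionSystem S, F.IsPPrimeResidual p R → R.IsSubsystemOf F₀ := by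
  classical
  set K : Subgroup (MulAut T) := χ.ker.map (F.autGroup T).subtype with hKdef
  have hEaut : E.autGroup T ≤ F.autGroup T :=
    Subgroup.closure_mono fun α hα => hE.1.2.2.1 T hα
  have hK : Cfsg.Agent.FusSys.CharKer E F p K := by
    refine ⟨Subgroup.map_subtype_le _, fun α hα => ?_, ?_, fun α hα k hk => ?_⟩
    · have h : (⟨α, hEaut hα⟩ : F.autGroup T) ∈ χ.ker := hker (Subgroup.mem_subgroupOf.2 hα)
      exact Subgroup.mem_map_of_mem (F.autGroup T).subtype h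
    · intro α hα κ hκ
      obtain ⟨c, hc, rfl⟩ := Subgroup.mem_map.1 hκ
      have hn : χ.ker.Normal := inferInstance
      have h : (⟨α, hα⟩ : F.autGroup T) * c * (⟨α, hα⟩ : F.autGroup T)⁻¹ ∈ χ.ker :=
        hn.conj_mem c hc _
      exact Subgroup.mem_map_of_mem (F.autGroup T).subtype h
    · obtain ⟨c, hc, hcα⟩ := Subgroup.mem_map.1 hk
      refine Subgroup.mem_map.2 ⟨⟨α, hα⟩, ?_, rfl⟩
      have h1 : (⟨α, hα⟩ : F.autGroup T) ^ p ^ k = c := Subtype.ext hcα.symm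
      have h2 : χ ⟨α, hα⟩ ^ p ^ k = 1 := by rw [← map_pow, h1]; exact hc
      rw [MonoidHom.mem_ker, ← orderOf_eq_one_iff]
      exact Nat.eq_one_of_dvd_coprimes (Nat.Coprime.pow_right k hΔ) (orderOf_dvd_natCard _)
        (orderOf_dvd_of_pow_eq_one h2)
  have hne : K ≠ F.autGroup T := by
    intro h
    obtain ⟨d, hd⟩ := exists_ne (1 : Δ)
    obtain ⟨a, rfl⟩ := hχ d
    obtain ⟨c, hc, hca⟩ := Subgroup.mem_map.1 (h.ge a.2 : (a : MulAut T) ∈ K)
    exact hd (Subtype.ext hca ▸ hc)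
  refine ⟨_, Cfsg.Agent.FusSys.charSys_normal hS hE.1 hK,
    Cfsg.Agent.FusSys.charSys_proper hS hE.1 hK hne, Cfsg.Agent.FusSys.le_charSys hS hE.1 hK,
    fun α => ?_, fun R hR => ?_⟩
  · refine (Cfsg.Agent.FusSys.mem_autGroup_charSys hS hE.1 hK).trans ⟨?_, ?_⟩
    · rintro ⟨hα, κ, hκ, hx⟩
      obtain ⟨c, hc, rfl⟩ := Subgroup.mem_map.1 hκ
      refine ⟨hα, c, hc, fun t => ?_⟩
      have h := hx t t.2
      rw [Cfsg.Agent.FusSys.apl_apply α (hTS t.2), Cfsg.Agent.FusSys.apl_apply _ t.2] at h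
      exact h.symm
    · rintro ⟨hα, c, hc, hx⟩
      refine ⟨hα, c, Subgroup.mem_map.2 ⟨c, hc, rfl⟩, fun x hxT => ?_⟩
      rw [Cfsg.Agent.FusSys.apl_apply α (hTS hxT), Cfsg.Agent.FusSys.apl_apply _ hxT]
      exact (hx ⟨x, hxT⟩).symm
  · exact hR.2.2 _ (Cfsg.Agent.FusSys.clsSys_saturated _ hS hF)
      (Cfsg.Agent.FusSys.clsSys_hasPrimeIndex _ hS hF)

end Cfsg.Agent.S5243
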