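import Cfsg.Statements.S5244
import Cfsg.Agent.FusSys.AbIndexPCore
-- import your own Cfsg.Agent.* helpers here

set_option autoImplicit false
open Cfsg
open Cfsg.Agent.FusSys Cfsg.Agent.FusSys.AbIndexP
open Cfsg.Agent.FusSys.SmallCentral (zS zS_comm)
open scoped commutatorElement

namespace Cfsg.Agent.S5244

/-- Let p be an odd prime, S a finite nonabelian p-group with a unique abelian subgroup A of index p, and F a saturated fusion system over S with no nontrivial normal subgroup (O_p(F) = 1) in which A is not F-essential. Then some subgroup Z(S)⟨x⟩ with x ∈ S outside A is F-essential, the centre Z(S) is contained in the commutator subgroup of S, and S has maximal nilpotency class (if S has order pⁿ with n ≥ 3, the term of index n − 2 of its lower central series, counting S itself as the term of index 0, is nontrivial). -/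
theorem result {Ω : Type*} [Group Ω] {S : Subgroup Ω} [Finite S] (p : ℕ) [Fact p.Prime] (hS : IsPGroup p S) (F : Cfsg.FusionSystem S) (hF : F.IsSaturated p) (hp : p ≠ 2) (hna : ¬ IsMulCommutative ↥S) (A : Subgroup Ω) (hA : A ≤ S ∧ IsMulCommutative ↥A ∧ (A.subgroupOf S).index = p) (huniq : ∀ B : Subgroup Ω, B ≤ S → IsMulCommutative ↥B → (B.subgroupOf S).index = p → B = A) (hcore : F.core = ⊥) (hAe : ¬ F.IsEssential p A) : (∃ x ∈ S, x ∉ A ∧ F.IsEssential p ((S ⊓ Subgroup.centralizer (S : Set Ω)) ⊔ Subgroup.zpowers x)) ∧ (S ⊓ Subgroup.centralizer (S : Set Ω)) ≤ (commutator ↥S).map S.subtype ∧ ∀ n : ℕ, Nat.card S = p ^ n → 3 ≤ n → Subgroup.lowerCentralSeries S (n - 2) ≠ ⊥ := by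
  have hAI : AI p S A := by
    refine ⟨hp, hS, hA.1, fun a ha b hb => congrArg Subtype.val (hA.2.1.is_comm.comm ⟨a, ha⟩ ⟨b, hb⟩), ?_, huniq, hna⟩
    have h1 := (A.subgroupOf S).index_mul_card
    rw [hA.2.2, Nat.card_congr (Subgroup.subgroupOfEquivOfLe hA.1).toEquiv] at h1
    exact h1.symm
  obtain ⟨h1, h2, hZ⟩ := hAI.core_free hF hAe hcore
  obtain ⟨P, x, hP, hsh, -⟩ := hAI.exists_mover hF hAe hcore
  refine ⟨h1, h2, fun n hn h3 hbot => ?_⟩
  have hp' := (Fact.out : p.Prime)
  obtain ⟨v, hv, hvS, hvZ⟩ : ∃ v ∈ Subgroup.lowerCentralSeries S (n - 3), v ∈ S ∧ v ∉ zS S := by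
    rcases (by omega : n = 3 ∨ 4 ≤ n) with rfl | h4
    · obtain ⟨a, ha, hax⟩ := hAI.not_comm (hP.1.1 hsh.x_mem) hsh.x_not
      refine ⟨a, by simpa using hAI.le ha, hAI.le ha, fun hz => hax ?_⟩
      exact StrongExtra.br_eq_one.2 (zS_comm hz (hP.1.1 hsh.x_mem)).eq.symm
    · have hcA : Nat.card A = p ^ (n - 1 - 1) * Nat.card (zS S) := by
        refine Nat.eq_of_mul_eq_mul_left hp'.pos ?_
        rw [← hAI.index, hn, hZ, ← pow_succ, ← pow_succ']
        congr 1
        omega
      have := hAI.lcs_not_le hF hP (ne_A hAe hP) hcA (by omega)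
      rw [show n - 1 - 2 = n - 3 by omega] at this
      obtain ⟨v, hv, hvZ⟩ := SetLike.not_le_iff_exists.1 this
      exact ⟨v, hv, Subgroup.lowerCentralSeries_le_self _ _ hv, hvZ⟩
  refine hvZ ⟨hvS, Subgroup.mem_centralizer_iff.2 fun t ht => ?_⟩
  have h5 : ⁅v, t⁆ ∈ Subgroup.lowerCentralSeries S (n - 2) := by
    rw [show n - 2 = n - 3 + 1 by omega]
    exact Subgroup.commutator_mem_commutator hv ht
  rw [hbot, Subgroup.mem_bot, commutatorElement_eq_one_iff_mul_comm] at h5
  exact h5.symm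

end Cfsg.Agent.S5244
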