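import Cfsg.Statements.S5246
import Cfsg.Agent.FusSys.StableNorm

set_option autoImplicit false
open Cfsg

namespace Cfsg.Agent.S5246

/-- Let p be an odd prime, G a finite group and P a Sylow p-subgroup. Call a fusion system F p-stable when, for every fully normalized subgroup Q and every χ ∈ Aut_F(Q) acting quadratically on Q (that is, χ fixes a⁻¹χ(a) for every a ∈ Q; equivalently χ(a⁻¹)·a·χ(a⁻¹)·χ(χ(a)) = 1), χ lies in O_p(Aut_F(Q)). Then G is p-stable in the normalizer form (for every p-subgroup Q and x ∈ N_G(Q) with [Q, x, x] = 1, the image of x lies in O_p(N_G(Q)/C_G(Q))) if and only if the fusion system of G on P is p-stable. -/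
theorem result {Ω : Type*} [Group Ω] [Finite Ω] {p : ℕ} [Fact p.Prime] (hp : p ≠ 2) (P : Sylow p Ω) : Cfsg.IsNormalizerPStable p Ω ↔ (∀ Q : Subgroup Ω, (Cfsg.groupFusionSystem (P : Subgroup Ω)).IsFullyNormalized Q → ∀ χ : MulAut ↥Q, χ ∈ (Cfsg.groupFusionSystem (P : Subgroup Ω)).autGroup Q → (∀ a : ↥Q, (χ a⁻¹) * a * (χ a⁻¹) * (χ (χ a)) = 1) → χ ∈ ((Cfsg.pCore p ↥((Cfsg.groupFusionSystem (P : Subgroup Ω)).autGroup Q)).map ((Cfsg.groupFusionSystem (P : Subgroup Ω)).autGroup Q).subtype : Subgroup (MulAut ↥Q))) := by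
  open Cfsg.Agent.FusSys Cfsg.FusionSystem in
  rw [isNormalizerPStable_iff]
  constructor
  · intro h Q hQ χ hχ hq
    have he := autGroup_gfs (S := (P : Subgroup Ω)) hQ.1
    exact (mem_map_pCore_congr p he).2 (h Q (P.2.to_le hQ.1) χ (he ▸ hχ) hq)
  · intro h Q hQ
    obtain ⟨c, hc⟩ := exists_conj_mem_sylow hQ P
    have hle : Q.map (MulAut.conj c).toMonoidHom ≤ (P : Subgroup Ω) := by
      rintro _ ⟨x, hx, rfl⟩
      exact hc x hx
    obtain ⟨R, hR, hRn⟩ := exists_fullyNormalized_conj (F := groupFusionSystem (P : Subgroup Ω)) hle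
    obtain ⟨f, hf⟩ := isConj_iff.1 hR
    obtain ⟨g, -, hg⟩ := hf.exists_conj_gfs
    have e : R = (Q.map (MulAut.conj c).toMonoidHom).map (MulAut.conj g).toMonoidHom := by
      ext y
      rw [Subgroup.mem_map_equiv, hg]
      simp [mul_assoc]
    refine stableAt_of_conj c (stableAt_of_conj g ?_)
    rw [← e]
    intro χ hχ hq
    have he := autGroup_gfs (S := (P : Subgroup Ω)) hRn.1
    exact (mem_map_pCore_congr p he).1 (h R hRn χ (he.symm ▸ hχ) hq)

end Cfsg.Agent.S5246
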