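import Cfsg.Statements.S5247
import Cfsg.Agent.FusSys.StableNorm

set_option autoImplicit false
open Cfsg

namespace Cfsg.Agent.S5247

/-- Let p be an odd prime and F a saturated fusion system over a finite p-group S. Call a fusion system E (over any subgroup) p-stable when, for every fully E-normalized subgroup Q and every χ ∈ Aut_E(Q) with χ(a⁻¹)·a·χ(a⁻¹)·χ(χ(a)) = 1 for all a ∈ Q (χ acts quadratically), χ lies in O_p(Aut_E(Q)). Then F is p-stable if and only if every normalizer fusion system N_F(R) of every non-cyclic fully F-normalized subgroup R of S is p-stable. -/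
theorem result {Ω : Type*} [Group Ω] {S : Subgroup Ω} [Finite S] (p : ℕ) [Fact p.Prime] (hS : IsPGroup p S) (F : Cfsg.FusionSystem S) (hF : F.IsSaturated p) (hp : p ≠ 2) : (∀ Q : Subgroup Ω, F.IsFullyNormalized Q → ∀ χ : MulAut ↥Q, χ ∈ F.autGroup Q → (∀ a : ↥Q, (χ a⁻¹) * a * (χ a⁻¹) * (χ (χ a)) = 1) → χ ∈ ((Cfsg.pCore p ↥(F.autGroup Q)).map (F.autGroup Q).subtype : Subgroup (MulAut ↥Q))) ↔ ∀ R : Subgroup Ω, F.IsFullyNormalized R → ¬ IsCyclic ↥R → ∀ N : Cfsg.FusionSystem (Cfsg.FusionSystem.normalizerIn S R), F.IsNormalizerSystem R N → (∀ Q : Subgroup Ω, N.IsFullyNormalized Q → ∀ χ : MulAut ↥Q, χ ∈ N.autGroup Q → (∀ a : ↥Q, (χ a⁻¹) * a * (χ a⁻¹) * (χ (χ a)) = 1) → χ ∈ ((Cfsg.pCore p ↥(N.autGroup Q)).map (N.autGroup Q).subtype : Subgroup (MulAut ↥Q))) := by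
  open Cfsg.Agent.FusSys Cfsg.FusionSystem in
  constructor
  · intro h R hR hnc N hN Q hQ χ hχ hq
    have hQN : Q ≤ normalizerIn S R := hQ.1
    have hQS : Q ≤ S := hQN.trans inf_le_left
    have hsub : N.autGroup Q ≤ F.autGroup Q := by
      rw [FusionSystem.autGroup, Subgroup.closure_le]
      intro α hα
      have h1 : Q.subtype.comp α.toMonoidHom ∈ N.Hom Q := hα
      rw [hN Q] at h1
      exact Subgroup.subset_closure h1.1
    obtain ⟨Q', hc, hQ'⟩ := exists_fullyNormalized_conj (F := F) hQS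
    obtain ⟨f, hf⟩ := isConj_iff.1 hc
    have h2 := h Q' hQ' (hf.conjAut χ) (hf.conjAut_mem (hsub hχ)) (fun b => by
      obtain ⟨a, rfl⟩ := hf.toEquiv.surjective b
      have := congrArg hf.toEquiv (hq a)
      simpa [Iso.conjAut, MulAut.congr] using this)
    rw [mem_map_pCore_congr p hf.map_autGroup.symm, ← map_pCore_subgroup] at h2
    obtain ⟨y, hy, hy'⟩ := h2
    obtain rfl := hf.conjAut.injective hy'
    obtain ⟨z, hz, hzy⟩ := hy
    haveI : (Cfsg.pCore p (F.autGroup Q)).Normal := Cfsg.Agent.Core.pCore_normal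
    let M : Subgroup (N.autGroup Q) := ((Cfsg.pCore p (F.autGroup Q))).comap (Subgroup.inclusion hsub)
    have hMp : IsPGroup p M :=
      (Cfsg.Agent.Core.pCore_isPGroup (p := p) (G := F.autGroup Q)).comap_of_injective _
        (Subgroup.inclusion_injective hsub)
    refine Subgroup.mem_map.2 ⟨⟨y, hχ⟩, Cfsg.Agent.Core.le_pCore (N := M) (hN := Subgroup.normal_comap _) hMp ?_, rfl⟩
    show Subgroup.inclusion hsub ⟨y, hχ⟩ ∈ Cfsg.pCore p (F.autGroup Q)
    have e : Subgroup.inclusion hsub ⟨y, hχ⟩ = z := Subtype.ext hzy.symm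
    exact e ▸ hz
  · intro h Q hQ χ hχ hq
    haveI := finite_of_le hQ.1
    haveI : Finite (MulAut Q) := Finite.of_injective _ MulEquiv.toEquiv_injective
    obtain ⟨n, hn⟩ := IsPGroup.iff_card.1 (hS.to_le hQ.1)
    by_cases hc : IsCyclic Q
    · have hpe : χ ^ p ^ n = 1 := MulEquiv.ext fun a => by
        rw [← zpow_natCast, zpow_of_fixed χ ((quadAut_iff χ).1 hq) (p ^ n : ℕ) a, zpow_natCast, ← hn,
          pow_card_eq_one', mul_one]
        rfl
      let a : F.autGroup Q := ⟨χ, hχ⟩
      haveI hnorm : (Subgroup.zpowers a).Normal := by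
        refine ⟨fun x hx y => ?_⟩
        have e : y * x * y⁻¹ = x := by
          rw [mul_inv_eq_iff_eq_mul]
          refine Subtype.ext (MulEquiv.ext fun q => ?_)
          obtain ⟨g, hg⟩ := hc.exists_generator
          obtain ⟨j, rfl⟩ := hg q
          show (y : MulAut Q) ((x : MulAut Q) (g ^ j)) = (x : MulAut Q) ((y : MulAut Q) (g ^ j))
          obtain ⟨k, hk⟩ := hg ((x : MulAut Q) g)
          obtain ⟨l, hl⟩ := hg ((y : MulAut Q) g)
          dsimp only at hk hl
          simp only [map_zpow, ← hk, ← hl, ← zpow_mul]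
          rw [mul_left_comm]
        exact e.symm ▸ hx
      refine Subgroup.mem_map.2 ⟨a, ?_, rfl⟩
      exact Cfsg.Agent.Core.le_pCore (N := Subgroup.zpowers a)
        (isPGroup_zpowers_of_pow_eq_one (e := n) (Subtype.ext hpe)) (Subgroup.mem_zpowers a)
    · let N := normalizerSys F hQ.1
      have hN : F.IsNormalizerSystem Q N := fun P => Set.ext fun φ => by
        rw [mem_normalizerHom_iff]; rfl
      have hle : N.autGroup Q ≤ F.autGroup Q := by
        rw [FusionSystem.autGroup, Subgroup.closure_le]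
        exact fun α hα => Subgroup.subset_closure (hα : _ ∧ _).1
      have hge : F.autGroup Q ≤ N.autGroup Q := fun α hα => Subgroup.subset_closure
        (((mor_subSys (subRel_nRel (F := F) hQ.1)).2 ⟨(iso_apl hQ.1 hα).1, le_normalizerIn hQ.1,
          fun x hx => le_normalizerIn hQ.1 (apl_mem α hx), apl α,
          by rw [sup_idem]; exact (iso_apl hQ.1 hα).1, fun _ _ => rfl,
          (iso_apl hQ.1 hα).2⟩).hom_eq fun x => (apl_coe α x).symm)
      have hQN : N.IsFullyNormalized Q := by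
        refine ⟨le_normalizerIn hQ.1, fun Q' hc' => ?_⟩
        obtain ⟨φ, hφ, rfl⟩ := hc'
        refine le_trans ?_ (Nat.le_of_eq (congrArg (fun (H : Subgroup Ω) => Nat.card H)
          (le_antisymm (le_inf le_rfl inf_le_right) inf_le_left)))
        haveI := finite_of_le (normalizerIn_le S Q)
        exact Subgroup.card_le_of_le inf_le_left
      have h1 := h Q hQ hc N hN Q hQN χ (hge hχ) hq
      exact (mem_map_pCore_congr p (le_antisymm hle hge)).1 h1

end Cfsg.Agent.S5247
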