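import Cfsg.Statements.S5249
-- import your own Cfsg.Agent.* helpers here

import Cfsg.Agent.FusSys.GroupFree

set_option autoImplicit false
open Cfsg

namespace Cfsg.Agent.S5249


/-- Let p be an odd prime, G a finite group in which Qd(p) (the natural semidirect product of an elementary abelian group of order p² by SL₂(p)) is not involved, and P a Sylow p-subgroup of G. Then the fusion system of G on P is a solvable fusion system. -/
theorem result {G : Type*} [Group G] [Finite G] {p : ℕ} [Fact p.Prime] (hp : p ≠ 2) (hqd : ¬ Cfsg.Involves ↥(Cfsg.qd p) G) (P : Sylow p G) : (Cfsg.groupFusionSystem (P : Subgroup G)).IsSolvableSystem := by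
  open Cfsg.Agent.FusSys Cfsg.Agent.FusSys.GroupFree in
  exact fun R hR hRS _ E hE => by
    have hq : IsPGroup p (⊤ : Subgroup ((P : Subgroup G) ⧸ R.subgroupOf (P : Subgroup G))) :=
      (P.2.to_quotient _).to_subgroup _
    refine core_ne_bot_of_free hp hq (factor_saturated P.2 (gfs_saturated P) hE hR)
      (free_factor_stronglyClosed P.2 (gfs_saturated P) (gfs_free P hqd) hR hE) fun htop => hRS ?_
    refine le_antisymm hR.1 fun s hs => ?_
    have h : (QuotientGroup.mk' (R.subgroupOf (P : Subgroup G)) ⟨s, hs⟩) ∈
        (⊥ : Subgroup ((P : Subgroup G) ⧸ R.subgroupOf (P : Subgroup G))) := htop ▸ Subgroup.mem_top _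
    rw [Subgroup.mem_bot, QuotientGroup.mk'_apply, QuotientGroup.eq_one_iff, Subgroup.mem_subgroupOf] at h
    exact h

end Cfsg.Agent.S5249
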