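import Cfsg.Statements.S5253
import Cfsg.Agent.FusSys.GenCtl

set_option autoImplicit false
universe u
open Cfsg

namespace Cfsg.Agent.S5253

/-- Let p be a prime and W a positive characteristic p-functor with Z(Q) ≤ W(Q): W assigns to every finite p-group Q (in a fixed universe) a subgroup W(Q), nontrivial when Q is, carried to W(R) by every isomorphism Q ≅ R, and containing the centre of Q. Suppose that for every finite group G with Sylow p-subgroup P in which W(P) is not normal there is g ∈ P outside O_p(G) with [Z(O_p(G)), g, g] = 1. Then for every saturated fusion system F over a finite p-group S and every normalizer fusion system N of W(S) in F, every p-th power of an element of Z(S) that lies in the centre of N lies in the centre of F. -/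
theorem result {p : ℕ} [Fact p.Prime] (W : ∀ (Q : Type u) [Group Q], Subgroup Q) (hW1 : ∀ (Q : Type u) [Group Q] [Finite Q], IsPGroup p Q → Nontrivial Q → W Q ≠ ⊥) (hW2 : ∀ (Q R : Type u) [Group Q] [Group R] [Finite Q], IsPGroup p Q → ∀ φ : Q ≃* R, (W Q).map φ.toMonoidHom = W R) (hWZ : ∀ (Q : Type u) [Group Q] [Finite Q], IsPGroup p Q → Subgroup.center Q ≤ W Q) (hq : ∀ (G : Type u) [Group G] [Finite G] (P : Sylow p G), ¬ (((W ↥(P : Subgroup G)).map (P : Subgroup G).subtype : Subgroup G)).Normal → ∃ g : G, g ∈ (P : Subgroup G) ∧ g ∉ Cfsg.pCore p G ∧ ⁅⁅Subgroup.center ↥(Cfsg.pCore p G) |>.map (Cfsg.pCore p G).subtype, Subgroup.zpowers g⁆, Subgroup.zpowers g⁆ = ⊥) {Ω : Type u} [Group Ω] {S : Subgroup Ω} [Finite S] (hS : IsPGroup p S) (F : Cfsg.FusionSystem S) (hF : F.IsSaturated p) (N : Cfsg.FusionSystem (Cfsg.FusionSystem.normalizerIn S ((W ↥S).map S.subtype))) (hN : F.IsNormalizerSystem ((W ↥S).map S.subtype) N) : Subgroup.closure ((fun z => z ^ p) '' ((S ⊓ Subgroup.centralizer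 (S : Set Ω) : Subgroup Ω) : Set Ω)) ⊓ N.center ≤ F.center := by
  have hW : FusSys.PosFunctor p W := ⟨hW1, hW2⟩
  have hQ : FusSys.QuadCond p W := fun G _ _ P _ hn => by
    obtain ⟨g, hg, hgO, h⟩ := hq G P hn
    refine ⟨g, hg, hgO, ?_⟩
    have he : Cfsg.pCore p G ⊓ Subgroup.centralizer ((Cfsg.pCore p G : Subgroup G) : Set G) =
        (Subgroup.center ↥(Cfsg.pCore p G)).map (Cfsg.pCore p G).subtype := by
      ext x
      constructor
      · rintro ⟨hx, hxc⟩
        exact ⟨⟨x, hx⟩, Subgroup.mem_center_iff.2 fun y =>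
          Subtype.ext (Subgroup.mem_centralizer_iff.1 hxc y y.2), rfl⟩
      · rintro ⟨y, hy, rfl⟩
        exact ⟨y.2, Subgroup.mem_centralizer_iff.2 fun z hz =>
          congrArg Subtype.val (Subgroup.mem_center_iff.1 hy ⟨z, hz⟩)⟩
    rw [he]
    exact h
  set V := Subgroup.closure ((fun z : Ω => z ^ p) ''
    ((S ⊓ Subgroup.centralizer (S : Set Ω) : Subgroup Ω) : Set Ω)) ⊓ N.center with hVdef
  have hV : ∀ x ∈ V, ∃ w ∈ S ⊓ Subgroup.centralizer (S : Set Ω), w ^ p = x := by
    intro x hx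
    have hx1 : x ∈ Cfsg.powerClosure p 1 (S ⊓ Subgroup.centralizer (S : Set Ω)) := by
      refine Subgroup.closure_mono ?_ hx.1
      rintro y ⟨z, hz, rfl⟩
      exact ⟨z, hz, by rw [pow_one]⟩
    obtain ⟨w, hw, hwx⟩ := FusSys.exists_pow_of_mem_powerClosure
      (inf_le_right.trans (Subgroup.centralizer_le inf_le_left)) hx1
    exact ⟨w, hw, by rwa [pow_one] at hwx⟩
  have hVS : V ≤ S := fun x hx => by
    obtain ⟨w, hw, rfl⟩ := hV x hx
    exact S.pow_mem hw.1 p
  have hSV : S ≤ Subgroup.centralizer (V : Set Ω) := fun s hs =>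
    Subgroup.mem_centralizer_iff.2 fun x hx => by
      obtain ⟨w, hw, rfl⟩ := hV x hx
      exact (Commute.pow_left
        (show Commute w s from (Subgroup.mem_centralizer_iff.1 hw.2 s hs).symm) p).eq
  have hC : FusionSystem.centralizerIn S V = S := le_antisymm inf_le_left (le_inf le_rfl hSV)
  have hM : FusSys.SubRel F S (FusSys.CRel F V) := by
    have h := FusSys.subRel_cRel (F := F) hVS
    rwa [hC] at h
  haveI : Finite ↥(FusionSystem.normalizerIn S ((W ↥S).map S.subtype)) :=
    FusSys.finite_of_le inf_le_left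
  obtain ⟨hcS, hc⟩ := FusSys.isCentral_iff.1 (FusSys.isCentral_center (F := N))
  refine FusSys.le_center (FusSys.isCentral_iff.2 ⟨hVS, fun P f hf =>
    (FusSys.mem_of_goodAt_agemo hW hQ hS hF hV hM (fun X g hg hgW => ?_) (fun _ _ _ h => h)
      P f hf).2.2⟩)
  obtain ⟨k, hk, hkg, hkc⟩ := hc X g ((FusSys.mor_normalizerSystem hN).2 ⟨hg, hgW⟩)
  exact FusSys.cRel_of_fixes hSV
    ((((FusSys.mor_normalizerSystem hN).1 hk).1).mono (sup_le_sup_left inf_le_right X)) hkg
    fun x hx => hkc x hx.2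

end Cfsg.Agent.S5253
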