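import Cfsg.Statements.S5254
import Cfsg.Agent.FusSys.AbIndexPGlobal
-- import your own Cfsg.Agent.* helpers here

set_option autoImplicit false
open Cfsg
open Cfsg.Agent.FusSys Cfsg.Agent.FusSys.AbIndexP
open Cfsg.Agent.FusSys.SmallCentral (zS)

namespace Cfsg.Agent.S5254

/-- Let p be an odd prime, S a finite nonabelian p-group with a unique abelian subgroup A of index p, and F a saturated fusion system over S. Then every F-essential subgroup P is A, or Z(S)⟨x⟩ for some x ∈ S outside A, or (when the second centre Z₂(S) lies in A) Z₂(S)⟨x⟩ for some x ∈ S outside A; and P has index p in its normalizer in S. -/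
theorem result {Ω : Type*} [Group Ω] {S : Subgroup Ω} [Finite S] (p : ℕ) [Fact p.Prime] (hS : IsPGroup p S) (F : Cfsg.FusionSystem S) (hF : F.IsSaturated p) (hp : p ≠ 2) (hna : ¬ IsMulCommutative ↥S) (A : Subgroup Ω) (hA : A ≤ S ∧ IsMulCommutative ↥A ∧ (A.subgroupOf S).index = p) (huniq : ∀ B : Subgroup Ω, B ≤ S → IsMulCommutative ↥B → (B.subgroupOf S).index = p → B = A) (P : Subgroup Ω) (hP : F.IsEssential p P) : (P = A ∨ (∃ x ∈ S, x ∉ A ∧ P = (S ⊓ Subgroup.centralizer (S : Set Ω)) ⊔ Subgroup.zpowers x) ∨ (((upperCentralSeries ↥S 2).map S.subtype) ≤ A ∧ ∃ x ∈ S, x ∉ A ∧ P = ((upperCentralSeries ↥S 2).map S.subtype) ⊔ Subgroup.zpowers x)) ∧ (P.subgroupOf (S ⊓ Subgroup.normalizer (P : Set Ω))).index = p := by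
  have hAI : AI p S A := by
    refine ⟨hp, hS, hA.1, fun a ha b hb => congrArg Subtype.val (hA.2.1.is_comm.comm ⟨a, ha⟩ ⟨b, hb⟩), ?_, huniq, hna⟩
    have h1 := (A.subgroupOf S).index_mul_card
    rw [hA.2.2, Nat.card_congr (Subgroup.subgroupOfEquivOfLe hA.1).toEquiv] at h1
    exact h1.symm
  rw [show ((upperCentralSeries ↥S 2).map S.subtype) = z2 S from upperCentral_two_eq S]
  by_cases hPA : P = A
  · subst hPA
    refine ⟨Or.inl rfl, ?_⟩
    have hn : S ≤ Subgroup.normalizer (P : Set Ω) := fun s hs => by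
      haveI := finite_of_le hAI.le
      exact mem_normalizer_of_maps fun a ha => hAI.conj_mem hs ha
    rw [inf_eq_left.2 hn]
    exact hA.2.2
  refine ⟨?_, hAI.normalizer_index hF hP hPA⟩
  obtain ⟨x, hsh⟩ := hAI.shape hF hP hPA
  have hx := hP.1.1 hsh.x_mem
  rcases hsh.base with hb | ⟨hb, -⟩
  · exact Or.inr (Or.inl ⟨x, hx, hsh.x_not, hsh.gen.trans (by rw [hb]; rfl)⟩)
  · have hle := hAI.z2_le hF hP hPA
    exact Or.inr (Or.inr ⟨hle, x, hx, hsh.x_not, hsh.gen.trans (by rw [hb, inf_eq_left.2 hle])⟩)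

end Cfsg.Agent.S5254
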