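import Cfsg.Statements.S5257
import Cfsg.Agent.FusSys.AbIndexPGlobal
-- import your own Cfsg.Agent.* helpers here

set_option autoImplicit false
open Cfsg
open Cfsg.Agent.FusSys Cfsg.Agent.FusSys.AbIndexP
open Cfsg.Agent.FusSys.SmallCentral (zS)

namespace Cfsg.Agent.S5257

/-- Let p be an odd prime, S a finite nonabelian p-group with a unique abelian subgroup A of index p, and F a saturated fusion system over S having an F-essential subgroup other than A. Then the second centre Z₂(S) lies in A; Z(S) ∩ [S, S] has order p; Z(S)[S, S] has index p in A; Z(S) has index p in Z₂(S); and S/Z(S) has maximal nilpotency class (if S/Z(S) has order pᵐ with m ≥ 3 then the term of index m − 2 of the lower central series of S, counting S as index 0, is not contained in Z(S)). -/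
theorem result {Ω : Type*} [Group Ω] {S : Subgroup Ω} [Finite S] (p : ℕ) [Fact p.Prime] (hS : IsPGroup p S) (F : Cfsg.FusionSystem S) (hF : F.IsSaturated p) (hp : p ≠ 2) (hna : ¬ IsMulCommutative ↥S) (A : Subgroup Ω) (hA : A ≤ S ∧ IsMulCommutative ↥A ∧ (A.subgroupOf S).index = p) (huniq : ∀ B : Subgroup Ω, B ≤ S → IsMulCommutative ↥B → (B.subgroupOf S).index = p → B = A) (P : Subgroup Ω) (hP : F.IsEssential p P) (hPA : P ≠ A) : ((upperCentralSeries ↥S 2).map S.subtype) ≤ A ∧ Nat.card ↥((S ⊓ Subgroup.centralizer (S : Set Ω)) ⊓ ((commutator ↥S).map S.subtype)) = p ∧ (((S ⊓ Subgroup.centralizer (S : Set Ω)) ⊔ ((commutator ↥S).map S.subtype)).subgroupOf A).index = p ∧ (((S ⊓ Subgroup.centralizer (S : Set Ω))).subgroupOf ((upperCentralSeries ↥S 2).map S.subtype)).index = p ∧ ∀ m : ℕ, ((S ⊓ Subgroup.centralizer (S : Set Ω)).subgroupOf S).index = p ^ m → 3 ≤ m → ¬ Subgroup.lowerCentralSeries S (m - 2) ≤ (S ⊓ Subgroup.centralizer (S : Set Ω)) := by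
  have hAI : AI p S A := by
    refine ⟨hp, hS, hA.1, fun a ha b hb => congrArg Subtype.val (hA.2.1.is_comm.comm ⟨a, ha⟩ ⟨b, hb⟩), ?_, huniq, hna⟩
    have h1 := (A.subgroupOf S).index_mul_card
    rw [hA.2.2, Nat.card_congr (Subgroup.subgroupOfEquivOfLe hA.1).toEquiv] at h1
    exact h1.symm
  rw [show ((upperCentralSeries ↥S 2).map S.subtype) = z2 S from upperCentral_two_eq S]
  have hle := hAI.z2_le hF hP hPA
  have hz2 := hAI.z2_card hF hP hPA
  rw [inf_eq_left.2 hle] at hz2
  obtain ⟨x, hx, hxA⟩ := hAI.exists_out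
  rw [hAI.commutator_eq hx hxA]
  have hcZ := hAI.card_zimg hF hP hPA hx hxA
  have hcA := hAI.card_img hx hxA
  haveI := finite_of_le hAI.le
  have hzS : zS S ≤ S := inf_le_left
  haveI := finite_of_le hzS
  have hzz : zS S ≤ z2 S := fun c hc => ⟨hc.1, fun t ht => by
    rw [StrongExtra.br_eq_one.2 (SmallCentral.zS_comm hc ht).eq.symm]; exact Subgroup.one_mem _⟩
  refine ⟨hle, hcZ, ?_, ?_, fun m hm h3 => ?_⟩
  · have hsup : zS S ⊔ hAI.img hx ≤ A := sup_le hAI.zS_le (hAI.img_le hx)
    have h1 := Cfsg.Agent.S0606.card_sup_mul_card_inf_of_le_normalizer (H := zS S) (N := hAI.img hx)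
      (fun c hc => Subgroup.mem_normalizer_iff.2 fun i => by
        constructor
        · intro hi
          rwa [(hAI.comm c (hAI.zS_le hc) i (hAI.img_le hx hi)).eq, mul_inv_cancel_right]
        · intro hi
          have h2 := hAI.comm c⁻¹ (A.inv_mem (hAI.zS_le hc)) _ (hAI.img_le hx hi)
          have e : i = c * i * c⁻¹ := by
            calc i = c⁻¹ * (c * i * c⁻¹) * c := by group
              _ = _ := by rw [h2.eq]; group
          rwa [e])
    rw [← hcA, hcZ] at h1
    have h2 := ((zS S ⊔ hAI.img hx).subgroupOf A).index_mul_card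
    rw [Nat.card_congr (Subgroup.subgroupOfEquivOfLe hsup).toEquiv] at h2
    rw [← h1, mul_comm _ p] at h2
    haveI := finite_of_le (hsup.trans hAI.le)
    exact Nat.eq_of_mul_eq_mul_right Nat.card_pos h2
  · have h2 := ((zS S).subgroupOf (z2 S)).index_mul_card
    rw [Nat.card_congr (Subgroup.subgroupOfEquivOfLe hzz).toEquiv, hz2] at h2
    exact Nat.eq_of_mul_eq_mul_right Nat.card_pos h2
  · refine hAI.lcs_not_le hF hP hPA ?_ h3
    have h2 := ((zS S).subgroupOf S).index_mul_card
    change ((zS S).subgroupOf S).index = p ^ m at hm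
    rw [Nat.card_congr (Subgroup.subgroupOfEquivOfLe hzS).toEquiv, hm, hAI.index,
      show m = m - 1 + 1 by omega, pow_succ', mul_assoc] at h2
    exact (Nat.eq_of_mul_eq_mul_left (Fact.out : p.Prime).pos h2).symm

end Cfsg.Agent.S5257
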