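import Cfsg.Agent.FusSys.SemiExtraCore
import Cfsg.Agent.UniTri.Basic

/-!
An exotic system on a Sylow p-subgroup of SL(3, q) has trivial core.
-/

set_option autoImplicit false

namespace Cfsg.Agent.S5259

open Matrix Cfsg.Agent.UniTri Cfsg.Agent.FusSys

universe u

variable {K : Type*} [Field K]

local notation:1024 "⇈" A:1024 => ((A : Matrix.SpecialLinearGroup (Fin 3) K) : Matrix (Fin 3) (Fin 3) K)

/-- Coordinates of an element of the unitriangular group. -/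
noncomputable def mk3 (x y z : K) : ↥(unitri 3 K) :=
  ⟨⟨!![1, x, z; 0, 1, y; 0, 0, 1], by simp [Matrix.det_fin_three]⟩, mem_unitri.2
    ⟨fun i j h => by fin_cases i <;> fin_cases j <;> simp_all,
     fun i => by fin_cases i <;> simp⟩⟩

theorem mul_formula (A B : ↥(unitri 3 K)) :
    ⇈(A * B : ↥(unitri 3 K)) 0 1 = ⇈A 0 1 + ⇈B 0 1 ∧ ⇈(A * B : ↥(unitri 3 K)) 1 2 = ⇈A 1 2 + ⇈B 1 2 ∧
      ⇈(A * B : ↥(unitri 3 K)) 0 2 = ⇈A 0 2 + ⇈B 0 2 + ⇈A 0 1 * ⇈B 1 2 := by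
  obtain ⟨hA, hA1⟩ := mem_unitri.1 A.2
  obtain ⟨hB, hB1⟩ := mem_unitri.1 B.2
  have e : ⇈(A * B : ↥(unitri 3 K)) = ⇈A * ⇈B := rfl
  simp only [e, Matrix.mul_apply, Fin.sum_univ_three, hA1, hB1, hA 1 0 (by decide), hA 2 0 (by decide),
    hA 2 1 (by decide), hB 1 0 (by decide), hB 2 0 (by decide), hB 2 1 (by decide)]
  refine ⟨by ring, by ring, by ring⟩

theorem ext3 {A B : ↥(unitri 3 K)} (h1 : ⇈A 0 1 = ⇈B 0 1) (h2 : ⇈A 1 2 = ⇈B 1 2)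
    (h3 : ⇈A 0 2 = ⇈B 0 2) : A = B := by
  obtain ⟨hA, hA1⟩ := mem_unitri.1 A.2
  obtain ⟨hB, hB1⟩ := mem_unitri.1 B.2
  refine Subtype.ext (Subtype.ext ?_)
  ext i j
  fin_cases i <;> fin_cases j <;> first
    | exact h1 | exact h2 | exact h3 | exact (hA1 _).trans (hB1 _).symm
    | exact (hA _ _ (by decide)).trans (hB _ _ (by decide)).symm

theorem commute_iff (A B : ↥(unitri 3 K)) :
    Commute A B ↔ ⇈A 0 1 * ⇈B 1 2 = ⇈B 0 1 * ⇈A 1 2 := by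
  obtain ⟨a1, a2, a3⟩ := mul_formula A B
  obtain ⟨b1, b2, b3⟩ := mul_formula B A
  refine ⟨fun h => ?_, fun h => ext3 (by rw [a1, b1]; ring) (by rw [a2, b2]; ring) ?_⟩
  · have h' : ⇈(A * B : ↥(unitri 3 K)) 0 2 = ⇈(B * A : ↥(unitri 3 K)) 0 2 := by rw [h.eq]
    rw [a3, b3] at h'
    linear_combination h'
  · rw [a3, b3]; linear_combination h

theorem comm_formula (A B : ↥(unitri 3 K)) :
    ⇈(A * B * A⁻¹ * B⁻¹ : ↥(unitri 3 K)) 0 1 = 0 ∧ ⇈(A * B * A⁻¹ * B⁻¹ : ↥(unitri 3 K)) 1 2 = 0 ∧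
      ⇈(A * B * A⁻¹ * B⁻¹ : ↥(unitri 3 K)) 0 2 = ⇈A 0 1 * ⇈B 1 2 - ⇈B 0 1 * ⇈A 1 2 := by
  set C := A * B * A⁻¹ * B⁻¹ with hC
  have h : C * (B * A) = A * B := by rw [hC]; group
  obtain ⟨a1, a2, a3⟩ := mul_formula A B
  obtain ⟨b1, b2, b3⟩ := mul_formula B A
  obtain ⟨c1, c2, c3⟩ := mul_formula C (B * A)
  rw [h] at c1 c2 c3
  rw [a1, b1] at c1
  rw [a2, b2] at c2
  have e1 : ⇈C 0 1 = 0 := by linear_combination -c1
  refine ⟨e1, by linear_combination -c2, ?_⟩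
  rw [a3, b3, e1] at c3
  linear_combination -c3

variable (K) in
/-- The centre. -/
noncomputable def Zc : Subgroup ↥(unitri 3 K) where
  carrier := {A | ⇈A 0 1 = 0 ∧ ⇈A 1 2 = 0}
  one_mem' := by simp
  mul_mem' {A B} hA hB := ⟨by rw [(mul_formula A B).1, hA.1, hB.1, add_zero],
    by rw [(mul_formula A B).2.1, hA.2, hB.2, add_zero]⟩
  inv_mem' {A} hA := by
    have h1 := (mul_formula A⁻¹ A).1
    have h2 := (mul_formula A⁻¹ A).2.1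
    rw [inv_mul_cancel, hA.1, add_zero] at h1
    rw [inv_mul_cancel, hA.2, add_zero] at h2
    simp at h1 h2
    exact ⟨h1.symm, h2.symm⟩

theorem mem_Zc {A : ↥(unitri 3 K)} : A ∈ Zc K ↔ ⇈A 0 1 = 0 ∧ ⇈A 1 2 = 0 := Iff.rfl

theorem mk3_apply (x y z : K) :
    ⇈(mk3 x y z) 0 1 = x ∧ ⇈(mk3 x y z) 1 2 = y ∧ ⇈(mk3 x y z) 0 2 = z := ⟨rfl, rfl, rfl⟩

theorem full {A : ↥(unitri 3 K)} (hA : A ∉ Zc K) {C : ↥(unitri 3 K)} (hC : C ∈ Zc K) :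
    ∃ B : ↥(unitri 3 K), A * B * A⁻¹ * B⁻¹ = C := by
  by_cases h0 : ⇈A 0 1 = 0
  · have h1 : ⇈A 1 2 ≠ 0 := fun e => hA ⟨h0, e⟩
    refine ⟨mk3 (-(⇈C 0 2) / ⇈A 1 2) 0 0, ?_⟩
    obtain ⟨c1, c2, c3⟩ := comm_formula A (mk3 (-(⇈C 0 2) / ⇈A 1 2) 0 0)
    refine ext3 (c1.trans hC.1.symm) (c2.trans hC.2.symm) (c3.trans ?_)
    rw [(mk3_apply _ _ _).1, (mk3_apply _ _ _).2.1, h0]
    field_simp
    ring
  · refine ⟨mk3 0 (⇈C 0 2 / ⇈A 0 1) 0, ?_⟩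
    obtain ⟨c1, c2, c3⟩ := comm_formula A (mk3 0 (⇈C 0 2 / ⇈A 0 1) 0)
    refine ext3 (c1.trans hC.1.symm) (c2.trans hC.2.symm) (c3.trans ?_)
    rw [(mk3_apply _ _ _).1, (mk3_apply _ _ _).2.1]
    field_simp
    ring

theorem ab {A B C : ↥(unitri 3 K)} (hA : A ∉ Zc K) (hAB : Commute A B) (hAC : Commute A C) :
    Commute B C := by
  rw [commute_iff] at hAB hAC ⊢
  by_cases h0 : ⇈A 0 1 = 0
  · have h1 : ⇈A 1 2 ≠ 0 := fun e => hA ⟨h0, e⟩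
    have hB : ⇈B 0 1 = 0 := by
      refine (mul_eq_zero.1 (?_ : ⇈B 0 1 * ⇈A 1 2 = 0)).resolve_right h1
      rw [← hAB, h0, zero_mul]
    have hC : ⇈C 0 1 = 0 := by
      refine (mul_eq_zero.1 (?_ : ⇈C 0 1 * ⇈A 1 2 = 0)).resolve_right h1
      rw [← hAC, h0, zero_mul]
    rw [hB, hC, zero_mul, zero_mul]
  · refine mul_left_cancel₀ h0 ?_
    linear_combination ⇈B 0 1 * hAC - ⇈C 0 1 * hAB

/-- The statement. -/
theorem result {Ω : Type*} [Group Ω] {S : Subgroup Ω} [Finite S] (p : ℕ) [Fact p.Prime] (hS : IsPGroup p S) (F : Cfsg.FusionSystem S) (hF : F.IsSaturated p) {K : Type*} [Field K] [Fintype K] [CharP K p] (T : Sylow p (Matrix.SpecialLinearGroup (Fin 3) K)) (e : ↥S ≃* ↥(T : Subgroup (Matrix.SpecialLinearGroup (Fin 3) K))) (hex : F.IsExotic p) : F.core = ⊥ := by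
  obtain ⟨P, hP⟩ := UniTri.exists_sylow (n := 3) (K := K) p
  let ψ : ↥S ≃* ↥(unitri 3 K) := e.trans ((Sylow.equiv T P).trans (MulEquiv.subgroupCongr hP))
  set Z := ((Zc K).comap ψ.toMonoidHom).map S.subtype with hZ
  have memZ : ∀ (a : Ω) (ha : a ∈ S), a ∈ Z ↔ ψ ⟨a, ha⟩ ∈ Zc K := fun a ha =>
    Subgroup.mem_map_iff_mem S.subtype_injective (x := ⟨a, ha⟩)
  by_contra hcore
  refine hex.2 (SemiExtra.isRealizable (Z := Z) ?_ hS hF hcore)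
  refine ⟨Subgroup.map_subtype_le _, ?_, ?_, ?_, ?_, ?_, ?_⟩
  · refine ⟨(ψ.symm (mk3 0 0 1) : Ω), (memZ _ (ψ.symm (mk3 0 0 1)).2).2 ?_, fun h => ?_⟩
    · rw [Subtype.coe_eta, ψ.apply_symm_apply]
      exact ⟨(mk3_apply _ _ _).1, (mk3_apply _ _ _).2.1⟩
    · have h1 : ψ.symm (mk3 (0 : K) 0 1) = 1 := Subtype.ext h
      rw [MulEquiv.map_eq_one_iff] at h1
      have h2 := congrArg (fun A : ↥(unitri 3 K) => (((A : Matrix.SpecialLinearGroup (Fin 3) K)) : Matrix (Fin 3) (Fin 3) K) 0 2) h1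
      simp only [(mk3_apply _ _ _).2.2] at h2
      simp at h2
  · intro z hz s hs
    have hz' := (memZ z (Subgroup.map_subtype_le _ hz)).1 hz
    have h1 : Commute (ψ ⟨s, hs⟩) (ψ ⟨z, Subgroup.map_subtype_le _ hz⟩) := by
      rw [commute_iff, (mem_Zc.1 hz').1, (mem_Zc.1 hz').2, mul_zero, zero_mul]
    exact congrArg Subtype.val (ψ.injective (by rw [map_mul, map_mul]; exact h1.eq) :
      (⟨s, hs⟩ : ↥S) * ⟨z, Subgroup.map_subtype_le _ hz⟩ = ⟨z, Subgroup.map_subtype_le _ hz⟩ * ⟨s, hs⟩)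
  · intro a ha b hb
    refine (memZ _ (S.mul_mem (S.mul_mem (S.mul_mem ha hb) (S.inv_mem ha)) (S.inv_mem hb))).2 ?_
    show ψ (⟨a, ha⟩ * ⟨b, hb⟩ * ⟨a, ha⟩⁻¹ * ⟨b, hb⟩⁻¹) ∈ Zc K
    rw [map_mul, map_mul, map_mul, map_inv, map_inv]
    exact ⟨(comm_formula _ _).1, (comm_formula _ _).2.1⟩
  · intro a ha haZ z hz
    obtain ⟨B, hB⟩ := full (fun hh => haZ ((memZ a ha).2 hh)) ((memZ z (Subgroup.map_subtype_le _ hz)).1 hz)
    refine ⟨(ψ.symm B : Ω), (ψ.symm B).2, ?_⟩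
    refine congrArg Subtype.val (ψ.injective ?_ :
      (⟨a, ha⟩ : ↥S) * ψ.symm B * ⟨a, ha⟩⁻¹ * (ψ.symm B)⁻¹ = ⟨z, Subgroup.map_subtype_le _ hz⟩)
    rw [map_mul, map_mul, map_mul, map_inv, map_inv, ψ.apply_symm_apply, hB]
  · intro a ha haZ b hb c hc hab hac
    have cm : ∀ x (hx : x ∈ S) y (hy : y ∈ S), Commute x y → Commute (ψ ⟨x, hx⟩) (ψ ⟨y, hy⟩) :=
      fun x hx y hy h => by
        show _ = _
        rw [← map_mul, ← map_mul]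
        exact congrArg ψ (Subtype.ext h)
    have h1 := ab (fun hh => haZ ((memZ a ha).2 hh)) (cm a ha b hb hab) (cm a ha c hc hac)
    exact congrArg Subtype.val (ψ.injective (by rw [map_mul, map_mul]; exact h1.eq) :
      (⟨b, hb⟩ : ↥S) * ⟨c, hc⟩ = ⟨c, hc⟩ * ⟨b, hb⟩)
  · refine ⟨(ψ.symm (mk3 1 0 0) : Ω), (ψ.symm (mk3 1 0 0)).2, fun h => ?_⟩
    have h1 := (memZ _ (ψ.symm (mk3 1 0 0)).2).1 h
    rw [Subtype.coe_eta, ψ.apply_symm_apply, mem_Zc, (mk3_apply _ _ _).1] at h1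
    exact one_ne_zero h1.1

end Cfsg.Agent.S5259
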