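import Cfsg.Statements.S5264
import Cfsg.Agent.FusFive.Main

set_option autoImplicit false
open Cfsg

namespace Cfsg.Agent.S5264

/-- Let p be an odd prime other than 7, S a finite p-group of order p^5, and F a saturated fusion system over S with no nontrivial normal subgroup and with hyperfocal subgroup equal to S (so F is its own p-residual subsystem). Then S has an abelian subgroup of index p. -/
theorem result {Ω : Type*} [Group Ω] {S : Subgroup Ω} [Finite S] (p : ℕ) [Fact p.Prime] (hS : IsPGroup p ↥S) (F : Cfsg.FusionSystem S) (hF : F.IsSaturated p) (hp : p ≠ 2) (hp7 : p ≠ 7) (hcard : Nat.card S = p ^ 5) (hcore : F.core = ⊥) (hhyp : F.hyperfocalSubgroup p = S) : ∃ A : Subgroup Ω, A ≤ S ∧ IsMulCommutative ↥A ∧ (A.subgroupOf S).index = p := by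
  by_contra hno
  refine Cfsg.Agent.FusFive.no_counterexample hS hF hp hp7 hcard (fun A hA hab => hno
    ⟨A.map S.subtype, Subgroup.map_subtype_le A, ⟨⟨?_⟩⟩, ?_⟩) hhyp hcore
  · rintro ⟨_, a, ha, rfl⟩ ⟨_, b, hb, rfl⟩
    exact Subtype.ext (show (a : Ω) * b = b * a from congrArg Subtype.val (hab a ha b hb))
  · rw [show (A.map S.subtype).subgroupOf S = A from Subgroup.comap_map_eq_self_of_injective
      S.subtype_injective A, hA]

end Cfsg.Agent.S5264
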