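import Cfsg.Statements.S5265
import Cfsg.Agent.FusSys.SmallCentral
import Cfsg.Agent.S0206
-- import your own Cfsg.Agent.* helpers here

set_option autoImplicit false
open Cfsg
open Cfsg.Agent.FusSys Cfsg.Agent.FusSys.StrongExtra Cfsg.Agent.FusSys.SmallCentral

namespace Cfsg.Agent.S5265

/-- Let p be a prime, S a nontrivial finite p-group whose centre has index at most p², and F a saturated fusion system over S with no nontrivial normal subgroup and with hyperfocal subgroup equal to S. Then S is extraspecial of order p³; for odd p it has exponent p, and for p = 2 it is dihedral of order 8. -/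
theorem result {Ω : Type*} [Group Ω] {S : Subgroup Ω} [Finite S] (p : ℕ) [Fact p.Prime] (hS : IsPGroup p ↥S) (F : Cfsg.FusionSystem S) (hF : F.IsSaturated p) (hS1 : S ≠ ⊥) (hcore : F.core = ⊥) (hhyp : F.hyperfocalSubgroup p = S) (hZ : (Subgroup.center ↥S).index ≤ p ^ 2) : Cfsg.IsExtraspecial p ↥S ∧ Nat.card S = p ^ 3 ∧ (p ≠ 2 → Monoid.exponent ↥S = p) ∧ (p = 2 → Nonempty (↥S ≃* DihedralGroup 4)) := by
  classical
  have hp := (Fact.out : p.Prime)
  haveI : Finite (MulAut S) := Finite.of_injective _ MulEquiv.toEquiv_injective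
  have hess : ∃ E, F.IsEssential p E := by
    by_contra h
    push Not at h
    refine hS1 (eq_bot_iff.2 (hcore ▸ le_core ((isNormal_iff_essential hS hF).2 fun P hP => ?_)))
    rcases hP with rfl | hP
    · exact ⟨le_rfl, fun α _ => invariant_of_apl fun x hx => ⟨fun _ => hx, fun _ => apl_mem α hx⟩⟩
    · exact absurd hP (h P)
  have hcomS : ¬ ∀ a b : S, a * b = b * a := by
    intro hc
    obtain ⟨E, hE⟩ := hess
    have hES : E = S := le_antisymm hE.1.1 fun s hs => centric_self hE.1 ⟨hs,
      Subgroup.mem_centralizer_iff.2 fun u hu => congrArg Subtype.val (hc ⟨u, hE.1.1 hu⟩ ⟨s, hs⟩)⟩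
    subst hES
    obtain ⟨-, -, _, R, hR⟩ := hE
    haveI := innIn_normal F E
    obtain ⟨-, T, hT⟩ := top_fullyAutomized hS hF
    refine T.not_dvd_index (hR.1.trans ?_)
    rw [hT, ← Subgroup.index_eq_card, autInducedBy_self_eq_inn]
  obtain ⟨n, hn⟩ := IsPGroup.iff_card.1 (hS.to_quotient (Subgroup.center S))
  rw [← Subgroup.index_eq_card] at hn
  have hn2 : n = 2 := by
    have h1 : n ≤ 2 := (Nat.pow_le_pow_iff_right hp.one_lt).1 (hn ▸ hZ)
    by_contra hne
    refine hcomS fun a b => ?_
    haveI : IsCyclic (S ⧸ Subgroup.center S) := by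
      rw [Subgroup.index_eq_card] at hn
      obtain rfl | rfl : n = 0 ∨ n = 1 := by omega
      · haveI : Subsingleton (S ⧸ Subgroup.center S) := (Nat.card_eq_one_iff_unique.1 hn).1
        exact isCyclic_of_subsingleton
      · exact isCyclic_of_prime_card (p := p) (by rw [hn, pow_one])
    exact ((QuotientGroup.mk' (Subgroup.center S)).isMulCommutative_of_isCyclic_of_ker_le_center
      (QuotientGroup.ker_mk' _).le).is_comm.comm a b
  subst hn2
  have hquot : Nat.card (S ⧸ Subgroup.center S) = p ^ 2 := by rw [← Subgroup.index_eq_card, hn]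
  have hmem : ∀ x : S, x ∈ Subgroup.center S ↔ (x : Ω) ∈ zS S := by
    intro x
    rw [zS_map]
    exact (Subgroup.mem_map_iff_mem S.subtype_injective).symm
  have hzcard : Nat.card (zS S) = Nat.card (Subgroup.center S) := by rw [zS_map, Subgroup.card_subtype]
  have hA : Amb p S := by
    refine ⟨hS, ?_, fun a ha b hb => ?_, fun a ha => ?_, ?_⟩
    · rw [hzcard, ← hn, Subgroup.index_mul_card]
    · refine (hmem (⟨a, ha⟩ * ⟨b, hb⟩ * ⟨a, ha⟩⁻¹ * ⟨b, hb⟩⁻¹)).1 ((QuotientGroup.eq_one_iff _).1 ?_)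
      rw [QuotientGroup.mk_mul, QuotientGroup.mk_mul, QuotientGroup.mk_mul, QuotientGroup.mk_inv,
        QuotientGroup.mk_inv, (IsPGroup.isMulCommutative_of_card_eq_prime_sq hquot).is_comm.comm
          (↑(⟨a, ha⟩ : S) : S ⧸ Subgroup.center S) ↑(⟨b, hb⟩ : S)]
      group
    · refine (hmem (⟨a, ha⟩ ^ p)).1 ((QuotientGroup.eq_one_iff _).1 ?_)
      rw [QuotientGroup.mk_pow]
      set A : S ⧸ Subgroup.center S := QuotientGroup.mk (⟨a, ha⟩ : S)
      haveI : Finite (S ⧸ Subgroup.center S) := inferInstance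
      obtain ⟨i, hi, hA⟩ := (Nat.dvd_prime_pow hp).1 (hquot ▸ orderOf_dvd_natCard A)
      have hi1 : i ≤ 1 := by
        by_contra hi1
        obtain rfl : i = 2 := by omega
        haveI : IsCyclic (S ⧸ Subgroup.center S) := isCyclic_of_orderOf_eq_card A (by rw [hA, hquot])
        exact hcomS fun a b => ((QuotientGroup.mk'
          (Subgroup.center S)).isMulCommutative_of_isCyclic_of_ker_le_center
          (QuotientGroup.ker_mk' _).le).is_comm.comm a b
      rw [← orderOf_dvd_iff_pow_eq_one, hA]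
      exact (pow_dvd_pow p hi1).trans (by rw [pow_one])
    · by_contra h
      push Not at h
      exact hcomS fun a b => Subtype.ext (br_eq_one.1 (h a a.2 b b.2))
  have hfoc : F.focalSubgroup = S :=
    le_antisymm (focal_le F) (hhyp.ge.trans (hyperfocal_le_focal (F := F) (p := p)))
  have hextra : Nat.card (zS S) = p → Cfsg.IsExtraspecial p S ∧ Nat.card S = p ^ 3 := by
    intro hc
    rw [hzcard] at hc
    haveI := hS.isNilpotent
    have hcomm : commutator S = Subgroup.center S := by
      refine Subgroup.eq_of_le_of_card_ge ?_ ?_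
      · rw [commutator_def, Subgroup.commutator_le]
        exact fun a _ b _ => (hmem _).2 (hA.br_mem a a.2 b b.2)
      · rw [hc]
        obtain ⟨k, hk⟩ := IsPGroup.iff_card.1 (hS.to_subgroup (commutator S))
        rw [hk]
        refine Nat.le_self_pow (fun h0 => hcomS fun a b => ?_) p
        rw [h0, pow_zero] at hk
        have h1 := Subgroup.commutator_mem_commutator (Subgroup.mem_top a) (Subgroup.mem_top b)
        rw [← commutator_def, Subgroup.card_eq_one.1 hk, Subgroup.mem_bot,
          commutatorElement_eq_one_iff_mul_comm] at h1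
        exact h1
    refine ⟨⟨⟨hS, ?_, hcomm⟩, hc⟩, ?_⟩
    · refine le_antisymm (Cfsg.Agent.Fusion.frattini_le_of_elementary (p := p) _ hcomm.le fun x => ?_) ?_
      · exact (hmem _).2 (hA.pow_mem x x.2)
      · exact hcomm.ge.trans Cfsg.Agent.Core.commutator_le_frattini
    · rw [hA.card, hzcard, hc]; ring
  by_cases hp2 : p = 2
  · subst hp2
    obtain ⟨hc, w₁, hw₁, w₂, hw₂, ho₁, ho₂, hne, hcl⟩ := two_case hA hF hcore hfoc hess
    obtain ⟨hext, hcard⟩ := hextra hc
    refine ⟨hext, hcard, fun h => absurd rfl h, fun _ => ?_⟩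
    obtain ⟨eD⟩ := Cfsg.Agent.S0206.result (⟨w₁, hw₁⟩ : S) ⟨w₂, hw₂⟩
      (by rw [← Subgroup.orderOf_coe, ho₁]) (by rw [← Subgroup.orderOf_coe, ho₂])
      (fun h => hne (congrArg Subtype.val h))
    have htop : Subgroup.closure ({⟨w₁, hw₁⟩, ⟨w₂, hw₂⟩} : Set S) = ⊤ := by
      apply Subgroup.map_injective S.subtype_injective
      rw [MonoidHom.map_closure, Set.image_pair, ← MonoidHom.range_eq_map, Subgroup.range_subtype]
      exact hcl
    have e : S ≃* DihedralGroup (orderOf ((⟨w₁, hw₁⟩ : S) * ⟨w₂, hw₂⟩)) :=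
      Subgroup.topEquiv.symm.trans ((MulEquiv.subgroupCongr htop.symm).trans eD)
    have h4 : orderOf ((⟨w₁, hw₁⟩ : S) * ⟨w₂, hw₂⟩) = 4 := by
      have := Nat.card_congr e.toEquiv
      rw [hcard, DihedralGroup.nat_card] at this
      omega
    rw [h4] at e
    exact ⟨e⟩
  · obtain ⟨hc, hexp⟩ := odd_case hA hF hp2 hcore hess
    obtain ⟨hext, hcard⟩ := hextra hc
    refine ⟨hext, hcard, fun _ => ?_, fun h => absurd h hp2⟩
    rcases (Nat.dvd_prime hp).1 (Monoid.exponent_dvd_of_forall_pow_eq_one fun a : S =>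
      Subtype.ext (hexp a a.2)) with h | h
    · haveI := Monoid.exp_eq_one_iff.1 h
      exact absurd (fun a b : S => Subsingleton.elim _ _) hcomS
    · exact h

end Cfsg.Agent.S5265
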