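import Cfsg.Statements.S5269
import Cfsg.Agent.MaxClassNormal.Main

set_option autoImplicit false
open Cfsg
open Cfsg.Agent.MaxClass.TwoStep Cfsg.Agent.MaxClassNormal
open scoped commutatorElement

namespace Cfsg.Agent.S5269

/-- Let p ≥ 5 be a prime, S a finite p-group of maximal class of order p^n with n ≥ 4, F a saturated fusion system over S, and E an F-essential subgroup that is normal in S. Then E has index p in S; moreover E is the two-step centralizer Γ₁ = C_S([S,S]/γ₄(S)) or E = C_S(Z₂(S)), unless S has order p^4 and E is extraspecial of order p³ and exponent p. -/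
theorem result {Ω : Type*} [Group Ω] {S : Subgroup Ω} [Finite S] (p : ℕ) [Fact p.Prime] (hS : IsPGroup p ↥S) (n : ℕ) (hn : Nat.card S = p ^ n) (h4 : 4 ≤ n) (hmax : Subgroup.lowerCentralSeries S (n - 2) ≠ ⊥) (F : Cfsg.FusionSystem S) (hF : F.IsSaturated p) (hp : 5 ≤ p) (Γ₁ : Subgroup Ω) (hΓ₁ : ∀ x : Ω, x ∈ Γ₁ ↔ x ∈ S ∧ ∀ y ∈ Subgroup.lowerCentralSeries S 1, x * y * x⁻¹ * y⁻¹ ∈ Subgroup.lowerCentralSeries S 3) (E : Subgroup Ω) (hE : F.IsEssential p E) (hEn : (E.subgroupOf S).Normal) : (E.subgroupOf S).index = p ∧ (E = Γ₁ ∨ E = (S ⊓ Subgroup.centralizer (((Subgroup.upperCentralSeries ↥S 2).map S.subtype) : Set Ω)) ∨ (n = 4 ∧ Nat.card ↥E = p ^ 3 ∧ Cfsg.IsExtraspecial p ↥E ∧ Monoid.exponent ↥E = p)) := by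
  classical
  have hcl : (⊤ : Subgroup S).lowerCentralSeries (n - 2) ≠ ⊥ := by
    intro h
    apply hmax
    rw [← Subgroup.top_subtype_lowerCentralSeries, h, Subgroup.map_bot]
  have h : MCl p n S := mcl_of_ne_bot hn (by omega) hcl
  have hp3 : 3 ≤ p := by omega
  obtain ⟨hL1, hidx⟩ := index_eq hp hS h h4 hF hE
  refine ⟨hidx, ?_⟩
  have hES := hE.1.1
  by_cases hK1 : E.subgroupOf S = K S 1
  · left
    have hlcs : ∀ (k : ℕ) (g : S), g ∈ (⊤ : Subgroup S).lowerCentralSeries k ↔ (g : Ω) ∈ Subgroup.lowerCentralSeries S k := fun k g => by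
      conv_rhs => rw [← Subgroup.top_subtype_lowerCentralSeries]
      exact (Subgroup.mem_map_iff_mem S.subtype_injective).symm
    ext x
    rw [hΓ₁]
    constructor
    · intro hx
      refine ⟨hES hx, fun y hy => ?_⟩
      have h1 : (⟨x, hES hx⟩ : S) ∈ K S 1 := hK1.le hx
      rw [← Subgroup.top_subtype_lowerCentralSeries] at hy
      obtain ⟨v, hv, rfl⟩ := hy
      have h2 := (hlcs 3 _).1 (mem_K.1 h1 v hv)
      simpa [commutatorElement_def] using h2
    · rintro ⟨hxS, hx⟩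
      refine hK1.ge (x := (⟨x, hxS⟩ : S)) (mem_K.2 fun v hv => (hlcs 3 _).2 ?_)
      simpa [commutatorElement_def] using hx v ((hlcs 1 v).1 hv)
  by_cases hKl : E.subgroupOf S = K S (n - 3)
  · right; left
    have hC : ∀ g : S, (g : Ω) ∈ Subgroup.centralizer (((Subgroup.upperCentralSeries S 2).map S.subtype) : Set Ω) ↔
        g ∈ K S (n - 3) := fun g => by
      rw [mem_K_last h h4, Subgroup.mem_centralizer_iff, upperCentralSeries_two h h4]
      constructor
      · exact fun h1 v hv => Subtype.ext (h1 v ⟨v, hv, rfl⟩)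
      · rintro h1 _ ⟨v, hv, rfl⟩
        exact congrArg Subtype.val (h1 v hv)
    ext x
    constructor
    · exact fun hx => ⟨hES hx, (hC ⟨x, hES hx⟩).2 (hKl.le hx)⟩
    · rintro ⟨hxS, hx⟩
      exact hKl.ge (x := (⟨x, hxS⟩ : S)) ((hC ⟨x, hxS⟩).1 hx)
  right; right
  exact extraspecial_case hp3 hS h h4 hE hL1 hidx hK1 hKl

end Cfsg.Agent.S5269
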