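import Cfsg.Statements.S5270
import Cfsg.Agent.MaxClass.UpperCard
import Cfsg.Agent.FusSys.Embedded
import Cfsg.Agent.FusSys.Criteria
-- import your own Cfsg.Agent.* helpers here

set_option autoImplicit false
open Cfsg
open Cfsg.FusionSystem Cfsg.Agent.FusSys
open scoped commutatorElement

namespace Cfsg.Agent.S5270

set_option maxHeartbeats 1600000 in
/-- Let p ≥ 5 be a prime, S a finite p-group of maximal class of order p^n with n ≥ 4, and F a saturated fusion system over S. If some map of F defined on the second centre Z₂(S) with image Z₂(S) does not carry Z(S) into itself, then the centralizer C_S(Z₂(S)) is an F-essential subgroup. -/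
theorem result {Ω : Type*} [Group Ω] {S : Subgroup Ω} [Finite S] (p : ℕ) [Fact p.Prime] (hS : IsPGroup p ↥S) (n : ℕ) (hn : Nat.card S = p ^ n) (h4 : 4 ≤ n) (hmax : Subgroup.lowerCentralSeries S (n - 2) ≠ ⊥) (F : Cfsg.FusionSystem S) (hF : F.IsSaturated p) (hp : 5 ≤ p) (φ : ↥((Subgroup.upperCentralSeries ↥S 2).map S.subtype) →* Ω) (hφ : φ ∈ F.Hom ((Subgroup.upperCentralSeries ↥S 2).map S.subtype)) (hφZ : φ.range = ((Subgroup.upperCentralSeries ↥S 2).map S.subtype)) (hmove : ∃ (z : Ω) (hz : z ∈ ((Subgroup.upperCentralSeries ↥S 2).map S.subtype)), z ∈ ((Subgroup.center ↥S).map S.subtype) ∧ φ ⟨z, hz⟩ ∉ ((Subgroup.center ↥S).map S.subtype)) : F.IsEssential p (S ⊓ Subgroup.centralizer (((Subgroup.upperCentralSeries ↥S 2).map S.subtype) : Set Ω)) := by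
  classical
  have hpp := (Fact.out : p.Prime)
  haveI := hS.isNilpotent
  have hcl : (⊤ : Subgroup S).lowerCentralSeries (n - 2) ≠ ⊥ := by
    intro h
    apply hmax
    rw [← Subgroup.top_subtype_lowerCentralSeries, h, Subgroup.map_bot]
  have hc1 := MaxClass.card_upperCentralSeries hn (by omega) hcl (i := 1) (by omega)
  rw [Subgroup.upperCentralSeries_one, pow_one] at hc1
  let W := Subgroup.upperCentralSeries S 2
  have hW : W = Subgroup.upperCentralSeries S 2 := rfl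
  have hc2 : Nat.card W = p ^ 2 := MaxClass.card_upperCentralSeries hn (by omega) hcl (i := 2) (by omega)
  let Z2 := W.map S.subtype
  show F.IsEssential p (S ⊓ Subgroup.centralizer (Z2 : Set Ω))
  set C := S ⊓ Subgroup.centralizer (Z2 : Set Ω) with hCdef
  have hZ2S : Z2 ≤ S := Subgroup.map_subtype_le _
  have hCS : C ≤ S := inf_le_left
  haveI : Finite C := finite_of_le hCS
  haveI : Finite Z2 := finite_of_le hZ2S
  haveI hWn : W.Normal := by rw [hW]; infer_instance
  have hconjW : ∀ t ∈ S, ∀ x ∈ Z2, t * x * t⁻¹ ∈ Z2 := by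
    intro t ht x hx
    obtain ⟨v, hv, hvx⟩ := Subgroup.mem_map.1 hx
    obtain ⟨u, hu⟩ : ∃ u : S, (u : Ω) = t := ⟨⟨t, ht⟩, rfl⟩
    refine Subgroup.mem_map.2 ⟨u * v * u⁻¹, ?_, ?_⟩
    · exact hWn.conj_mem v hv u
    · rw [map_mul, map_mul, map_inv, hvx]
      show (u : Ω) * x * (u : Ω)⁻¹ = _
      rw [hu]
  have hnW : ∀ t ∈ S, t ∈ Subgroup.normalizer (Z2 : Set Ω) := fun t ht =>
    Subgroup.mem_normalizer_iff.2 fun x => ⟨hconjW t ht x, fun h => by
      have := hconjW _ (S.inv_mem ht) _ h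
      simpa [mul_assoc] using this⟩
  have hnC : ∀ t ∈ S, t ∈ Subgroup.normalizer (C : Set Ω) := by
    have key : ∀ t ∈ S, ∀ x ∈ C, t * x * t⁻¹ ∈ C := fun t ht x hx =>
      ⟨S.mul_mem (S.mul_mem ht hx.1) (S.inv_mem ht), Subgroup.mem_centralizer_iff.2 fun u hu => by
        have h1 := Subgroup.mem_centralizer_iff.1 hx.2 _ (hconjW _ (S.inv_mem ht) u hu)
        calc u * (t * x * t⁻¹) = t * ((t⁻¹ * u * t⁻¹⁻¹) * x) * t⁻¹ := by group
          _ = t * x * t⁻¹ * u := by rw [h1]; group⟩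
    exact fun t ht => Subgroup.mem_normalizer_iff.2 fun x => ⟨key t ht x, fun h => by
      have := key _ (S.inv_mem ht) _ h
      simpa [mul_assoc] using this⟩
  -- fully normalized
  have hfull : ∀ R : Subgroup Ω, R ≤ S → (∀ t ∈ S, t ∈ Subgroup.normalizer (R : Set Ω)) → F.IsFullyNormalized R :=
    fun R hR hn' => haveI : Finite ↥(normalizerIn S R) := finite_of_le inf_le_left
      ⟨hR, fun Q _ => Nat.le_of_dvd Nat.card_pos (Subgroup.card_dvd_of_le
      (show normalizerIn S Q ≤ normalizerIn S R from fun t ht => ⟨ht.1, hn' t ht.1⟩))⟩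
  -- a generator of the second centre modulo the centre
  obtain ⟨a, haW, haZ⟩ : ∃ a ∈ W, a ∉ Subgroup.center S := by
    by_contra! h
    have := Subgroup.card_le_of_le h
    rw [hc1, hc2] at this
    have := hpp.two_le
    nlinarith
  have hcom : ∀ s : S, ⁅a, s⁆ ∈ Subgroup.center S := fun s => by
    rw [← Subgroup.upperCentralSeries_one]
    exact Subgroup.mem_upperCentralSeries_succ_iff.1 haW s
  have hWgen : ∀ w ∈ W, w ∈ Subgroup.center S ⊔ Subgroup.zpowers a := by
    have hle : Subgroup.center S ⊔ Subgroup.zpowers a ≤ W := sup_le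
      (by rw [← Subgroup.upperCentralSeries_one]; exact Subgroup.upperCentralSeries_mono S (by omega))
      (Subgroup.zpowers_le.2 haW)
    have heq : Subgroup.center S ⊔ Subgroup.zpowers a = W := by
      refine Subgroup.eq_of_le_of_card_ge hle ?_
      obtain ⟨j, hj⟩ := IsPGroup.iff_card.1 (hS.to_subgroup (Subgroup.center S ⊔ Subgroup.zpowers a))
      have hlt : Nat.card (Subgroup.center S) < Nat.card ↥(Subgroup.center S ⊔ Subgroup.zpowers a) :=
        lt_of_le_of_ne (Subgroup.card_le_of_le le_sup_left) fun h => haZ (by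
          rw [Subgroup.eq_of_le_of_card_ge le_sup_left h.ge]
          exact Subgroup.mem_sup_right (Subgroup.mem_zpowers a))
      rw [hc1, hj] at hlt
      rw [hc2, hj]
      refine Nat.pow_le_pow_right hpp.pos ?_
      by_contra hj2
      have := Nat.pow_le_pow_right hpp.pos (show j ≤ 1 by omega)
      rw [pow_one] at this
      omega
    exact fun w hw => heq ▸ hw
  -- the index of `C`
  let ψ : S →* Subgroup.center S :=
    { toFun := fun s => ⟨⁅a, s⁆, hcom s⟩
      map_one' := Subtype.ext (commutatorElement_one_right a)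
      map_mul' := fun s t => Subtype.ext (by
        show ⁅a, s * t⁆ = ⁅a, s⁆ * ⁅a, t⁆
        have h1 := Subgroup.mem_center_iff.1 (hcom t) s
        calc ⁅a, s * t⁆ = ⁅a, s⁆ * (s * ⁅a, t⁆ * s⁻¹) := by simp only [commutatorElement_def]; group
          _ = ⁅a, s⁆ * ⁅a, t⁆ := by rw [h1, mul_inv_cancel_right]) }
  have hCker : ∀ s : S, (s : Ω) ∈ C ↔ s ∈ ψ.ker := by
    intro s
    rw [MonoidHom.mem_ker]
    constructor
    · intro hs
      refine Subtype.ext (commutatorElement_eq_one_iff_mul_comm.2 (Subtype.ext ?_))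
      exact Subgroup.mem_centralizer_iff.1 hs.2 (a : Ω) ⟨a, haW, rfl⟩
    · intro hs
      have has : a * s = s * a := commutatorElement_eq_one_iff_mul_comm.1 (congrArg Subtype.val hs)
      refine ⟨s.2, Subgroup.mem_centralizer_iff.2 ?_⟩
      rintro _ ⟨w, hw, rfl⟩
      have hle : Subgroup.center S ⊔ Subgroup.zpowers a ≤ Subgroup.centralizer ({s} : Set S) := sup_le
        (fun c hc => Subgroup.mem_centralizer_singleton_iff.2 (Subgroup.mem_center_iff.1 hc s).symm)
        (Subgroup.zpowers_le.2 (Subgroup.mem_centralizer_singleton_iff.2 has))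
      exact congrArg Subtype.val (Subgroup.mem_centralizer_singleton_iff.1 (hle (hWgen w hw)))
  obtain ⟨c, hc⟩ : ∃ c : S, (c : Ω) ∉ C := by
    by_contra! h
    refine haZ (Subgroup.mem_center_iff.2 fun s => ?_)
    have h1 := (hCker s).1 (h s)
    rw [MonoidHom.mem_ker] at h1
    exact (commutatorElement_eq_one_iff_mul_comm.1 (congrArg Subtype.val h1)).symm
  have hcp : ∀ s : S, ((s : Ω)) ^ p ∈ C := fun s => by
    rw [← Subgroup.coe_pow, hCker, MonoidHom.mem_ker, map_pow, ← hc1, pow_card_eq_one']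
  have hgen : ∀ s : S, ∃ j : ℤ, ((c : Ω) ^ j)⁻¹ * s ∈ C := by
    intro s
    have hne : ψ c ≠ 1 := fun h => hc ((hCker c).2 h)
    haveI : Fact p.Prime := ⟨hpp⟩
    obtain ⟨j, hj⟩ := Subgroup.mem_zpowers_iff.1 (mem_zpowers_of_prime_card (g := ψ c) (g' := ψ s) hc1 hne)
    refine ⟨j, ?_⟩
    rw [← Subgroup.coe_zpow, ← Subgroup.coe_inv, ← Subgroup.coe_mul, hCker, MonoidHom.mem_ker, map_mul, map_inv,
      map_zpow, hj, inv_mul_cancel]
  -- centric and fully normalized
  have hCfn := hfull C hCS hnC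
  have hcen' : ∀ u ∈ Z2, u ∈ C := by
    rintro _ ⟨u', hu', rfl⟩
    refine ⟨u'.2, Subgroup.mem_centralizer_iff.2 ?_⟩
    rintro _ ⟨v', hv', rfl⟩
    have hle2 : Subgroup.center S ⊔ Subgroup.zpowers a ≤ Subgroup.centralizer ({a} : Set S) := sup_le
      (fun c hc => Subgroup.mem_centralizer_singleton_iff.2 (Subgroup.mem_center_iff.1 hc a).symm)
      (Subgroup.zpowers_le.2 (Subgroup.mem_centralizer_singleton_iff.2 rfl))
    have hle : Subgroup.center S ⊔ Subgroup.zpowers a ≤ Subgroup.centralizer ({u'} : Set S) := sup_le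
      (fun c hc => Subgroup.mem_centralizer_singleton_iff.2 (Subgroup.mem_center_iff.1 hc u').symm)
      (Subgroup.zpowers_le.2 (Subgroup.mem_centralizer_singleton_iff.2
        (Subgroup.mem_centralizer_singleton_iff.1 (hle2 (hWgen u' hu'))).symm))
    exact congrArg Subtype.val (Subgroup.mem_centralizer_singleton_iff.1 (hle (hWgen v' hv')))
  have hcen : centralizerIn S C ≤ C := fun x hx => ⟨hx.1, Subgroup.mem_centralizer_iff.2 fun u hu =>
    Subgroup.mem_centralizer_iff.1 hx.2 u (hcen' u hu)⟩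
  have hCc : F.IsCentric C :=
    centric_of_fullyCentralized (fullyCentralized_of_fullyNormalized hS hF hCfn) hcen
  -- an automorphism of `C` moving the centre
  obtain ⟨α, hα, z, hzZ, hzmove⟩ : ∃ α ∈ F.autGroup C, ∃ z, z ∈ (Subgroup.center S).map S.subtype ∧
      apl α z ∉ (Subgroup.center S).map S.subtype := by
    obtain ⟨z, hz, hzZ, hzm⟩ := hmove
    have hf : Iso F Z2 Z2 (extendFn φ) := by
      have := iso_extendFn hφ
      rwa [hφZ] at this
    have hrec := receptive_of_fullyNormalized hS hF (hfull Z2 hZ2S hnW)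
    obtain ⟨g, hg, hgf⟩ := (isReceptive_iff.1 hrec).2 Z2 _ hf
    have hCn : C ≤ nPhi S Z2 (extendFn φ) := fun t ht => ⟨ht.1, hnW t ht.1, 1, S.one_mem, fun x hx => by
      rw [one_mul, inv_one, mul_one]
      congr 1
      rw [← Subgroup.mem_centralizer_iff.1 ht.2 x hx, mul_inv_cancel_right]⟩
    have hZ2C : Z2 ≤ C := fun u hu => hcen' u hu
    obtain ⟨T, hT⟩ := (hg.mono hCn).exists_iso
    obtain rfl : T = C := eq_of_le_of_card hCS (fun y hy => by
      obtain ⟨x, hx, rfl⟩ := hT.exists_eq hy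
      refine ⟨(hg.mono hCn).mem_S hx, Subgroup.mem_centralizer_iff.2 fun u hu => ?_⟩
      obtain ⟨v, hv, rfl⟩ := hf.exists_eq hu
      rw [← hgf v hv, ← (hg.mono hCn).map_mul (hZ2C hv) hx, ← (hg.mono hCn).map_mul hx (hZ2C hv),
        Subgroup.mem_centralizer_iff.1 hx.2 v hv]) (le_of_eq hT.card_eq)
    obtain ⟨α, hα, hαg⟩ := hT.exists_mem_autGroup
    refine ⟨α, hα, z, hzZ, ?_⟩
    rw [hαg z (hZ2C hz), hgf z hz, extendFn_apply φ hz]
    exact hzm
  -- the Sylow subgroup of the outer automorphism group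
  haveI := innIn_normal F C
  haveI : Finite (MulAut C) := Finite.of_injective _ MulEquiv.toEquiv_injective
  obtain ⟨T, hT⟩ := exists_sylow_out hS hF hCfn
  obtain ⟨γ, hγ, hγx⟩ := exists_mem_autInducedBy (P := C) c.2 (hnC c c.2)
  set γb : F.autGroup C ⧸ innIn F C :=
    QuotientGroup.mk' (innIn F C) ⟨γ, autInducedBy_le_autGroup hCS hγ⟩ with hγb
  have hγne : γb ≠ 1 := fun h => hc (mem_of_conj_mem_inn hcen hCS c.2 hγx
    (Subgroup.mem_subgroupOf.1 ((QuotientGroup.eq_one_iff (⟨γ, autInducedBy_le_autGroup hCS hγ⟩ : F.autGroup C)).1 h)))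
  have hγp : γb ^ p = 1 := by
    rw [hγb, ← map_pow, QuotientGroup.mk'_apply, QuotientGroup.eq_one_iff]
    refine ⟨⟨(c : Ω) ^ p, hcp c⟩, apl_ext fun x hx => ?_⟩
    rw [apl_conj _ hx]
    show (c : Ω) ^ p * x * ((c : Ω) ^ p)⁻¹ = apl (γ ^ p) x
    suffices ∀ q : ℕ, (c : Ω) ^ q * x * ((c : Ω) ^ q)⁻¹ = apl (γ ^ q) x from this p
    intro q
    induction q with
    | zero => rw [pow_zero, pow_zero, apl_one hx]; simp
    | succ q ih =>
      rw [pow_succ' γ, apl_mul _ _ hx, ← ih, hγx _ ((Subgroup.mem_normalizer_iff.1 (Subgroup.pow_mem _ (hnC c c.2) q) x).1 hx),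
        pow_succ']
      group
  have hTgen : (T : Subgroup (F.autGroup C ⧸ innIn F C)) = Subgroup.zpowers γb := by
    refine le_antisymm ?_ (Subgroup.zpowers_le.2 (hT ▸ ⟨_, hγ, rfl⟩))
    rw [hT]
    rintro _ ⟨β, hβ, rfl⟩
    obtain ⟨s, hs, -, hsx⟩ := mem_autInducedBy_iff.1 (Subgroup.mem_subgroupOf.1 hβ)
    obtain ⟨j, hj⟩ := hgen ⟨s, hs⟩
    refine Subgroup.mem_zpowers_iff.2 ⟨j, ?_⟩
    rw [hγb, ← map_zpow, QuotientGroup.mk'_apply, QuotientGroup.mk'_apply, QuotientGroup.eq]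
    refine ⟨⟨_, hj⟩, apl_ext fun x hx => ?_⟩
    rw [apl_conj _ hx]
    show ((c : Ω) ^ j)⁻¹ * s * x * (((c : Ω) ^ j)⁻¹ * s)⁻¹ = apl ((γ ^ j)⁻¹ * (β : MulAut C)) x
    have hγj : ∀ y ∈ C, apl (γ ^ (-j)) y = (c : Ω) ^ (-j) * y * ((c : Ω) ^ (-j))⁻¹ := by
      have hn0 : γ = C.normalizerMonoidHom ⟨c, hnC c c.2⟩ :=
        apl_ext fun y hy => (hγx y hy).trans (apl_normalizerMonoidHom ⟨(c : Ω), hnC c c.2⟩ hy).symm
      intro y hy
      rw [hn0, ← map_zpow, apl_normalizerMonoidHom _ hy]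
      rfl
    rw [← zpow_neg, ← zpow_neg, apl_mul _ _ hx, hγj _ (apl_mem _ hx), hsx x hx]
    group
  have hTcard : Nat.card (T : Subgroup (F.autGroup C ⧸ innIn F C)) = p := by
    rw [hTgen, Nat.card_zpowers, orderOf_eq_prime hγp hγne]
  have hTnn : Subgroup.normalizer ((T : Subgroup (F.autGroup C ⧸ innIn F C)) : Set (F.autGroup C ⧸ innIn F C)) ≠ ⊤ := by
    intro htop
    haveI hTn : (T : Subgroup (F.autGroup C ⧸ innIn F C)).Normal := Subgroup.normalizer_eq_top_iff.1 htop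
    refine hzmove ?_
    have hAn : ∀ β ∈ autInducedBy S C, α * β * α⁻¹ ∈ autInducedBy S C := by
      intro β hβ
      have h1 : QuotientGroup.mk' (innIn F C) ((⟨α, hα⟩ : F.autGroup C) * ⟨β, autInducedBy_le_autGroup hCS hβ⟩ *
          (⟨α, hα⟩ : F.autGroup C)⁻¹) ∈ (T : Subgroup (F.autGroup C ⧸ innIn F C)) := by
        rw [map_mul, map_mul, map_inv]
        exact hTn.conj_mem _ (hT ▸ ⟨_, hβ, rfl⟩) _
      rw [hT, ← Subgroup.mem_comap, Subgroup.comap_map_eq, QuotientGroup.ker_mk',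
        sup_of_le_left (fun δ hδ => inn_le_autInducedBy hCS hδ)] at h1
      exact h1
    have hiα := iso_apl hCS hα
    obtain ⟨g, hg, hgα⟩ := (isReceptive_iff.1 (receptive_of_fullyNormalized hS hF hCfn)).2 C _ hiα
    have hSn : S ≤ nPhi S C (apl α) := by
      intro t ht
      obtain ⟨β, hβ, hβx⟩ := exists_mem_autInducedBy (P := C) ht (hnC t ht)
      obtain ⟨u, hu, -, hux⟩ := mem_autInducedBy_iff.1 (hAn β hβ)
      refine ⟨ht, hnC t ht, u, hu, fun x hx => ?_⟩
      rw [← hux _ (apl_mem α hx), apl_mul _ _ (apl_mem α hx), apl_inv_apl _ hx, apl_mul _ _ hx, hβx x hx]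
    obtain ⟨z', hz', rfl⟩ := hzZ
    have hzC : (z' : Ω) ∈ C := ⟨z'.2, Subgroup.mem_centralizer_iff.2 fun u ⟨u', _, hu'⟩ => by
      rw [← hu']
      exact congrArg Subtype.val (Subgroup.mem_center_iff.1 hz' u')⟩
    show apl α (z' : Ω) ∈ _
    rw [← hgα _ hzC]
    have hgS : Mor F S g := hg.mono hSn
    obtain ⟨T', hT'⟩ := hgS.exists_iso
    obtain rfl : T' = S := eq_of_le_of_card le_rfl (fun y hy => by
      obtain ⟨x, hx, rfl⟩ := hT'.exists_eq hy
      exact hgS.mem_S hx) (le_of_eq hT'.card_eq)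
    refine ⟨⟨g z', hgS.mem_S z'.2⟩, Subgroup.mem_center_iff.2 fun u => ?_, rfl⟩
    obtain ⟨v, hv, hvu⟩ := hT'.exists_eq u.2
    apply Subtype.ext
    show (u : Ω) * g z' = g z' * u
    rw [← hvu, ← hgS.map_mul hv z'.2, ← hgS.map_mul z'.2 hv]
    exact congrArg g (congrArg Subtype.val (Subgroup.mem_center_iff.1 hz' ⟨v, hv⟩))
  refine ⟨hCc, hCfn, inferInstance, Subgroup.normalizer ((T : Subgroup (F.autGroup C ⧸ innIn F C)) : Set (F.autGroup C ⧸ innIn F C)), ?_⟩
  refine ⟨?_, hTnn, T, kGen_le T fun Q hQT hQ => ?_⟩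
  · exact hTcard ▸ Subgroup.card_subgroup_dvd_card _
  · have hQeq : Q = T := by
      refine Subgroup.eq_of_le_of_card_ge hQT ?_
      rcases (Nat.dvd_prime hpp).1 (hTcard ▸ Subgroup.card_dvd_of_le hQT) with h | h
      · exact absurd (Subgroup.card_eq_one.1 h) hQ
      · rw [hTcard, h]
    rw [hQeq]

end Cfsg.Agent.S5270
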