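import Cfsg.Statements.S5271
import Cfsg.Agent.FusSys.WeakEmbed
import Cfsg.Agent.FusSys.SuperMeta

set_option autoImplicit false
open Cfsg

namespace Cfsg.Agent.S5271

/-- A nilpotency criterion for fusion systems. Let F be a saturated fusion system over a finite p-group S of order at least p². Call a subgroup Q of S weakly embedded in F when there is a subgroup P of S strongly closed in F such that both the product QP and the intersection Q ∩ P are strongly closed in F. Then F is the inner fusion system of S if and only if there is a subgroup D of S with 1 < D < S such that every subgroup of S of the same order as D is weakly embedded in F and, for every fully normalized subgroup H of S of that order, the normalizer fusion system of H in F is the inner fusion system of N_S(H). -/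
theorem result {Ω : Type*} [Group Ω] {S : Subgroup Ω} [Finite S] (p : ℕ) [Fact p.Prime] (hS : IsPGroup p ↥S) (F : Cfsg.FusionSystem S) (hF : F.IsSaturated p) (hcard : p ^ 2 ≤ Nat.card S) : (∀ P : Subgroup Ω, F.Hom P = (Cfsg.innerFusionSystem S).Hom P) ↔ ∃ D : Subgroup Ω, ⊥ < D ∧ D < S ∧ (∀ Q : Subgroup Ω, Q ≤ S → Nat.card ↥Q = Nat.card ↥D → ∃ P : Subgroup Ω, F.StronglyClosed P ∧ F.StronglyClosed (Q ⊔ P) ∧ F.StronglyClosed (Q ⊓ P)) ∧ (∀ H : Subgroup Ω, F.IsFullyNormalized H → Nat.card ↥H = Nat.card ↥D → ∀ N : Cfsg.FusionSystem (Cfsg.FusionSystem.normalizerIn S H), F.IsNormalizerSystem H N → ∀ P : Subgroup Ω, N.Hom P = (Cfsg.innerFusionSystem (Cfsg.FusionSystem.normalizerIn S H)).Hom P) := by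
  have hp := (Fact.out : p.Prime)
  obtain ⟨l, hl⟩ := Cfsg.Agent.FusSys.WeakEmbed.exists_card_eq hS (le_refl S)
  have hl2 : 2 ≤ l := (Nat.pow_le_pow_iff_right hp.one_lt).1 (hl ▸ hcard)
  constructor
  · intro h
    have hFi : F = Cfsg.innerFusionSystem S := Cfsg.Agent.FusSys.hom_ext_iff.2 h
    obtain ⟨D, -, hDS, hDc⟩ := Cfsg.Agent.FusSys.WeakEmbed.exists_between hS (A := ⊥) (B := S)
      (k := l - 1) bot_le le_rfl (by rw [Subgroup.card_bot]; exact Nat.one_le_pow _ _ hp.pos)
      (hl ▸ Nat.pow_le_pow_right hp.pos (by omega))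
    have hn : ∀ Q : Subgroup Ω, Q ≤ S → Nat.card Q = Nat.card D →
        S ≤ Subgroup.normalizer (Q : Set Ω) := by
      intro Q hQ hQc
      haveI := Cfsg.Agent.FusSys.finite_of_le hQ
      by_contra hne
      have hlt : Q < S ⊓ Subgroup.normalizer (Q : Set Ω) :=
        Cfsg.Agent.FusSys.lt_normalizerIn hS (lt_of_le_of_ne hQ fun e => hne (e ▸ Subgroup.le_normalizer))
      have h1 := Cfsg.Agent.FusSys.card_lt_of_lt' inf_le_left hlt
      have h2 := Cfsg.Agent.FusSys.card_lt_of_lt' le_rfl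
        (lt_of_le_of_ne (inf_le_left : S ⊓ Subgroup.normalizer (Q : Set Ω) ≤ S)
          fun e => hne (e ▸ inf_le_right))
      obtain ⟨i, hi⟩ := Cfsg.Agent.FusSys.WeakEmbed.exists_card_eq hS
        (inf_le_left : S ⊓ Subgroup.normalizer (Q : Set Ω) ≤ S)
      rw [hi, hQc, hDc] at h1
      rw [hi, hl] at h2
      have := (Nat.pow_lt_pow_iff_right hp.one_lt).1 h1
      have := (Nat.pow_lt_pow_iff_right hp.one_lt).1 h2
      omega
    refine ⟨D, bot_lt_iff_ne_bot.2 ?_, lt_of_le_of_ne hDS ?_, fun Q hQ hQc => ⟨S, ?_⟩,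
      fun H hH hHc N hN => ?_⟩
    · rintro rfl
      rw [Subgroup.card_bot] at hDc
      exact absurd hDc.symm (Nat.one_lt_pow (by omega) hp.one_lt).ne'
    · rintro rfl
      rw [hl] at hDc
      exact absurd (Nat.pow_right_injective hp.two_le hDc) (by omega)
    · rw [hFi, sup_eq_right.2 hQ, inf_eq_left.2 hQ]
      exact ⟨Cfsg.Agent.FusSys.SuperMeta.stronglyClosed_self _, Cfsg.Agent.FusSys.SuperMeta.stronglyClosed_self _,
        Cfsg.Agent.FusSys.SuperMeta.stronglyClosed_inner hQ fun s hs x hx =>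
          (Subgroup.mem_normalizer_iff.1 (hn Q hQ hQc hs) x).1 hx⟩
    · refine Cfsg.Agent.FusSys.allInner_iff.1 (Cfsg.Agent.FusSys.allInner_normalizer_of_innerAt
        (le_antisymm inf_le_left (le_inf le_rfl (hn H hH.1 hHc))) hN ?_)
      exact (Cfsg.Agent.FusSys.allInner_iff.2 h).innerAt H
  · rintro ⟨D, hD0, hDS, hweak, hN⟩
    obtain ⟨k, hk⟩ := Cfsg.Agent.FusSys.WeakEmbed.exists_card_eq hS hDS.le
    haveI := Cfsg.Agent.FusSys.finite_of_le hDS.le
    refine Cfsg.Agent.FusSys.allInner_iff.1 (Cfsg.Agent.FusSys.WeakEmbed.allInner _ hS hF rfl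
      (k := k) ⟨?_, hk ▸ Cfsg.Agent.FusSys.card_lt_of_lt' le_rfl hDS, fun Q hQ hQc => ?_,
        fun H hH hHn hHc => ?_⟩)
    · rcases Nat.eq_zero_or_pos k with rfl | h
      · exact absurd (Subgroup.eq_bot_of_card_eq _ (by rw [hk, pow_zero])) hD0.ne'
      · exact h
    · exact hweak Q hQ (hQc.trans hk.symm)
    · haveI : Finite (Cfsg.FusionSystem.normalizerIn S H) := Cfsg.Agent.FusSys.finite_of_le inf_le_left
      have hfn : F.IsFullyNormalized H := ⟨hH, fun Q _ => Subgroup.card_le_of_le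
        (inf_le_left.trans (le_inf le_rfl hHn))⟩
      exact Cfsg.Agent.FusSys.innerAt_of_allInner_normalizer hH fun N hNs =>
        Cfsg.Agent.FusSys.allInner_iff.2 (hN H hfn (hHc.trans hk.symm) N hNs)

end Cfsg.Agent.S5271
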