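import Cfsg.Statements.S5276
import Cfsg.Agent.FusSys.Abelian

set_option autoImplicit false
open Cfsg

namespace Cfsg.Agent.S5276

/-- Let p be a prime and F a saturated fusion system over a finite p-group S. Then F is the inner fusion system of S if and only if the normalizer fusion system of S itself in F is the inner fusion system (equivalently, Aut_F(S) is induced by S) and the Frattini subgroup Φ(S) is strongly closed in F. -/
theorem result {Ω : Type*} [Group Ω] {S : Subgroup Ω} [Finite S] (p : ℕ) [Fact p.Prime] (hS : IsPGroup p ↥S) (F : Cfsg.FusionSystem S) (hF : F.IsSaturated p) : (∀ P : Subgroup Ω, F.Hom P = (Cfsg.innerFusionSystem S).Hom P) ↔ (∀ N : Cfsg.FusionSystem (Cfsg.FusionSystem.normalizerIn S S), F.IsNormalizerSystem S N → ∀ P : Subgroup Ω, N.Hom P = (Cfsg.innerFusionSystem (Cfsg.FusionSystem.normalizerIn S S)).Hom P) ∧ F.StronglyClosed ((frattini ↥S).map S.subtype) := by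
  constructor
  · intro h
    have hFi : F = Cfsg.innerFusionSystem S := Cfsg.Agent.FusSys.hom_ext_iff.2 h
    subst hFi
    refine ⟨fun N hN P => Set.ext fun φ => ?_, Cfsg.Agent.FusSys.stronglyClosed_iff.2
      ⟨Subgroup.map_subtype_le _, fun R f hR hf x hx => ?_⟩⟩
    · rw [Cfsg.Agent.FusSys.mem_hom_iff, Cfsg.Agent.FusSys.mem_hom_iff,
        Cfsg.Agent.FusSys.mor_normalizerSystem hN, Cfsg.Agent.FusSys.mor_inner,
        Cfsg.Agent.FusSys.mor_inner]
      constructor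
      · rintro ⟨⟨hP, g, hg, hx⟩, hPN, -, -⟩
        exact ⟨hPN, g, ⟨hg, Subgroup.le_normalizer hg⟩, hx⟩
      · rintro ⟨hPN, g, hg, hx⟩
        refine ⟨⟨fun x hx' => (hPN hx').1, g, hg.1, hx⟩, hPN, fun x hx' => ?_,
          fun x => g * x * g⁻¹, Cfsg.Agent.FusSys.mor_inner.2
            ⟨sup_le (fun x hx' => (hPN hx').1) le_rfl, g, hg.1, fun x _ => rfl⟩,
          fun x hx' => (hx x hx').symm, fun y => ⟨fun hy => ⟨g⁻¹ * y * g,
            S.mul_mem (S.mul_mem (S.inv_mem hg.1) hy) hg.1, by group⟩, ?_⟩⟩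
        · rw [hx x hx']
          exact Subgroup.mul_mem _ (Subgroup.mul_mem _ hg (hPN hx')) (Subgroup.inv_mem _ hg)
        · rintro ⟨x, hx', rfl⟩
          exact S.mul_mem (S.mul_mem hg.1 hx') (S.inv_mem hg.1)
    · obtain ⟨-, g, hg, hgx⟩ := Cfsg.Agent.FusSys.mor_inner.1 hf
      obtain ⟨z, hz, rfl⟩ := hR hx
      rw [hgx _ hx]
      exact ⟨⟨g, hg⟩ * z * (⟨g, hg⟩ : S)⁻¹, Subgroup.Normal.conj_mem inferInstance z hz _, rfl⟩
  · rintro ⟨hN, hΦ⟩ P
    have hNm : ∀ α ∈ F.autGroup S, α ∈ Cfsg.autInducedBy S S := by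
      intro α hα
      have hi := Cfsg.Agent.FusSys.iso_apl le_rfl hα
      have hSN : S ≤ Cfsg.FusionSystem.normalizerIn S S := le_inf le_rfl Subgroup.le_normalizer
      have hN' := Cfsg.Agent.FusSys.isNormalizerSystem_normalizerSys (F := F) (le_refl S)
      have h1 := (Cfsg.Agent.FusSys.mor_normalizerSystem hN').2
        ⟨hi.1, hSN, fun x hx => hSN (hi.mem hx), Cfsg.Agent.FusSys.apl α,
          by rw [sup_idem]; exact hi.1, fun _ _ => rfl, hi.2⟩
      obtain ⟨φ, hφ, hφx⟩ := h1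
      rw [hN _ hN' S] at hφ
      obtain ⟨-, g, hg, hgx⟩ := hφ
      exact Cfsg.Agent.FusSys.mem_autInducedBy_iff.2
        ⟨g, hg.1, hg.2, fun x hx => (hφx ⟨x, hx⟩).symm.trans (hgx ⟨x, hx⟩)⟩
    rw [Cfsg.Agent.FusSys.eq_inner_iff_frattini hS hF hNm hΦ]

end Cfsg.Agent.S5276
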