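import Cfsg.Statements.S5286
import Cfsg.Agent.FusSys.LoopModel
import Cfsg.Agent.FusSys.Mor

set_option autoImplicit false
universe u
open Cfsg

namespace Cfsg.Agent.S5286

/-- Every fusion system F over a finite p-group S, saturated or not, is realized by a possibly infinite group: there are a group G and an injective homomorphism ι of S into G such that the maps of F are exactly the conjugations by elements of G between subgroups of ι(S), every finite subgroup of G is conjugate to a subgroup of ι(S), and G has a free normal subgroup whose index divides (#S)!. -/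
theorem result {Ω : Type u} [Group Ω] {S : Subgroup Ω} [Finite S] (p : ℕ) [Fact p.Prime] (hS : IsPGroup p ↥S) (F : Cfsg.FusionSystem S) : ∃ (G : Type u) (_ : Group G) (ι : ↥S →* G), F.IsRealizedBy ι ∧ (∀ H : Subgroup G, Finite ↥H → ∃ g : G, ∀ h ∈ H, g * h * g⁻¹ ∈ ι.range) ∧ ∃ N : Subgroup G, N.Normal ∧ IsFreeGroup ↥N ∧ N.index ∣ (Nat.card ↥S).factorial := by
    classical
    open Cfsg.Agent.FusSys in
    let lift : (↥S → ↥S) → Ω → Ω := fun f w => if h : w ∈ S then (f ⟨w, h⟩ : Ω) else w
    have hlift : ∀ (f : ↥S → ↥S) (a : S), lift f a = f a := fun f a => by simp [lift]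
    let M : Subgroup S → (↥S → ↥S) → Prop := fun A f => Cfsg.Agent.FusSys.Mor F (A.map S.subtype) (lift f)
    have hMmul : ∀ A f, M A f → ∀ a ∈ A, ∀ b ∈ A, f (a * b) = f a * f b := fun A f hf a ha b hb => by
      refine Subtype.ext ?_
      have h := hf.map_mul (Subgroup.mem_map_of_mem _ ha) (Subgroup.mem_map_of_mem _ hb)
      calc ((f (a * b) : S) : Ω) = lift f ((a : Ω) * b) := (hlift f (a * b)).symm
        _ = lift f (a : Ω) * lift f (b : Ω) := h
        _ = _ := by rw [hlift, hlift]; rfl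
    have hMinj : ∀ A f, M A f → ∀ a ∈ A, ∀ b ∈ A, f a = f b → a = b := fun A f hf a ha b hb e =>
      Subtype.ext (hf.injOn (Subgroup.mem_map_of_mem _ ha) (Subgroup.mem_map_of_mem _ hb)
        (((hlift f a).trans (congrArg Subtype.val e)).trans (hlift f b).symm))
    let J := {q : Subgroup S × (↥S → ↥S) // M q.1 q.2}
    let φ : ∀ j : J, j.1.1 →* S := fun j =>
      MonoidHom.mk' (fun a => j.1.2 a) fun a b => hMmul _ _ j.2 a a.2 b b.2
    have hφ : ∀ j, Function.Injective (φ j) := fun j a b e => Subtype.ext (hMinj _ _ j.2 a a.2 b b.2 e)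
    choose σ hσ using fun j : J => Cfsg.Agent.FusSys.LoopModel.exists_intertwine _ (φ j) (hφ j)
    let L : Cfsg.Agent.FusSys.LoopModel.Loops S := ⟨J, fun j => j.1.1, φ, hφ, σ, hσ⟩
    refine ⟨L.group, inferInstance, L.emb.codRestrict L.group Cfsg.Agent.FusSys.LoopModel.emb_mem,
      ⟨fun a b h => Cfsg.Agent.FusSys.LoopModel.emb_injective (congrArg Subtype.val h), ?_⟩, ?_,
      L.core, inferInstanceAs (MonoidHom.ker _).Normal, Cfsg.Agent.FusSys.LoopModel.core_free,
      Cfsg.Agent.FusSys.LoopModel.core_index⟩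
    · intro P hP ψ hψ
      have hmap : (P.subgroupOf S).map S.subtype = P := by
        rw [Subgroup.subgroupOf_map_subtype, inf_eq_left.2 hP]
      constructor
      · intro h
        let f : ↥S → ↥S := fun a => if ha : (a : Ω) ∈ P then ⟨ψ ⟨a, ha⟩, hψ _⟩ else a
        have hM : M (P.subgroupOf S) f := by
          show Cfsg.Agent.FusSys.Mor F ((P.subgroupOf S).map S.subtype) (lift f)
          rw [hmap]
          refine ⟨ψ, h, fun x => ?_⟩
          rw [show ((x : P) : Ω) = ((⟨x, hP x.2⟩ : S) : Ω) from rfl, hlift]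
          simp [f, x.2]
        refine ⟨⟨L.gen ⟨(P.subgroupOf S, f), hM⟩, Cfsg.Agent.FusSys.LoopModel.gen_mem _⟩, fun x => Subtype.ext ?_⟩
        have hg := Cfsg.Agent.FusSys.LoopModel.gen_conj (L := L) ⟨(P.subgroupOf S, f), hM⟩
          (⟨⟨x, hP x.2⟩, x.2⟩ : P.subgroupOf S)
        show L.emb ⟨ψ x, hψ x⟩ = _
        refine eq_mul_inv_of_mul_eq (Eq.trans ?_ hg.symm)
        congr 2
        exact Subtype.ext (by simp [L, φ, f, x.2])
      · rintro ⟨g, hg⟩
        obtain ⟨l, s, hv, hr⟩ := Cfsg.Agent.FusSys.LoopModel.exists_reduced (inv_mem g.2)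
        have hconj : ∀ (A : Subgroup S) (t : S), M A fun y => t⁻¹ * y * t := fun A t => by
          refine (Cfsg.Agent.FusSys.mor_conj (S.map_subtype_le A) (S.inv_mem t.2)).congr fun w hw => ?_
          obtain ⟨a, -, rfl⟩ := Subgroup.mem_map.1 hw
          simp only [lift, Subgroup.coe_subtype, SetLike.coe_mem, dite_true, Subtype.coe_eta]
          simp
        have hgen : ∀ (j : J) (b : Bool) (f : ↥S → ↥S), (∀ y ∈ L.D j b, cond b
            (∃ h : f y ∈ L.Q j, L.φ j ⟨f y, h⟩ = y) (∃ h : y ∈ L.Q j, L.φ j ⟨y, h⟩ = f y)) → M (L.D j b) f :=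
          fun j b f hf => by
          cases b
          · refine j.2.congr fun w hw => ?_
            obtain ⟨a, ha, rfl⟩ := Subgroup.mem_map.1 hw
            obtain ⟨h, e⟩ := hf a ha
            show lift f (a : Ω) = lift j.1.2 (a : Ω)
            rw [hlift, hlift, ← e]
            rfl
          · obtain ⟨Q', hQ'⟩ := j.2.exists_iso
            obtain ⟨k, hk, hk1, -⟩ := hQ'.symm
            have hle : ((L.φ j).range).map S.subtype ≤ Q' := by
              rintro _ ⟨_, ⟨q, rfl⟩, rfl⟩
              have := hQ'.mem (Subgroup.mem_map_of_mem S.subtype q.2)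
              simpa [L, φ, hlift] using this
            refine (hk.1.mono hle).congr fun w hw => ?_
            obtain ⟨a, ha, rfl⟩ := Subgroup.mem_map.1 hw
            obtain ⟨h, e⟩ := hf a ha
            show lift f (a : Ω) = k (a : Ω)
            rw [hlift]
            conv_rhs => rw [← e]
            have h2 := hk1 ((f a : S) : Ω) (Subgroup.mem_map_of_mem S.subtype h)
            rw [hlift] at h2
            exact h2.symm
        have hcomp : ∀ (A B : Subgroup S) (f g : ↥S → ↥S), M A f → M B g → (∀ y ∈ A, f y ∈ B) → M A (g ∘ f) :=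
          fun A B f g hf hg hAB => by
          refine ((Cfsg.Agent.FusSys.Mor.comp hf hg fun w hw => ?_)).congr fun w hw => ?_
          · obtain ⟨a, ha, rfl⟩ := Subgroup.mem_map.1 hw
            exact ⟨f a, hAB a ha, (hlift f a).symm⟩
          · obtain ⟨a, -, rfl⟩ := Subgroup.mem_map.1 hw
            show lift _ (a : Ω) = lift g (lift f (a : Ω))
            rw [hlift, hlift, hlift]
            rfl
        obtain ⟨f, hf, hfv⟩ := Cfsg.Agent.FusSys.LoopModel.exists_map (L := L) M hconj hgen hcomp l s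
        have hfx : ∀ x : P, (⟨x, hP x.2⟩ : S) ∈ L.stab l ∧ f ⟨x, hP x.2⟩ = ⟨ψ x, hψ x⟩ := fun x => by
          have h1 := congrArg Subtype.val (hg x)
          change L.emb ⟨ψ x, hψ x⟩ = (g : L.W) * L.emb ⟨x, hP x.2⟩ * (g : L.W)⁻¹ at h1
          have hmem : (⟨x, hP x.2⟩ : S) ∈ L.stab l := by
            refine Cfsg.Agent.FusSys.LoopModel.mem_stab (s := s) (x := ⟨ψ x, hψ x⟩) hr ?_
            rw [hv, h1]; group
          refine ⟨hmem, Cfsg.Agent.FusSys.LoopModel.emb_injective (L := L) ?_⟩
          rw [← hfv _ hmem, hv, h1, inv_inv]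
        refine Cfsg.Agent.FusSys.Mor.hom_eq (f := lift f) (hf.mono fun y hy =>
          ⟨⟨y, hP hy⟩, (hfx ⟨y, hy⟩).1, rfl⟩) fun x => ?_
        rw [show ((x : P) : Ω) = ((⟨x, hP x.2⟩ : S) : Ω) from rfl, hlift, (hfx x).2]
    · intro H hH
      haveI : Finite (H.map L.group.subtype) := Set.Finite.to_subtype ((Set.toFinite (H : Set L.group)).image _)
      obtain ⟨g, hg, hgl⟩ := Cfsg.Agent.FusSys.LoopModel.conj_into (H.map L.group.subtype) (Subgroup.map_subtype_le H)
      refine ⟨⟨g, hg⟩, fun h hh => ?_⟩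
      obtain ⟨x, hx⟩ := hgl _ (Subgroup.mem_map_of_mem _ hh)
      exact ⟨x, Subtype.ext hx⟩

end Cfsg.Agent.S5286
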