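import Cfsg.Statements.S5290
import Cfsg.Agent.FusSys.WeaklyNormalAux

set_option autoImplicit false
open Cfsg

namespace Cfsg.Agent.S5290

/-- Let F be a saturated fusion system over a finite p-group S and Q a subgroup of S. Then Q is normal in F (F = N_F(Q)) if and only if the inner fusion system of Q, consisting of the conjugations by elements of Q on subgroups of Q, is a weakly normal subsystem of F (both saturated, Q strongly closed, invariant under F-conjugation, with the Frattini property). -/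
theorem result {Ω : Type*} [Group Ω] {S : Subgroup Ω} [Finite S] (p : ℕ) [Fact p.Prime] (hS : IsPGroup p S)
    (F : Cfsg.FusionSystem S) (hF : F.IsSaturated p)
    (Q : Subgroup Ω) (hQ : Q ≤ S) :
    F.IsNormal Q ↔ (Cfsg.innerFusionSystem Q).IsWeaklyNormalIn F p := by
  haveI := Cfsg.Agent.FusSys.finite_of_le hQ
  constructor
  · intro hn
    have hsc := Cfsg.Agent.FusSys.stronglyClosed_of_isNormal hn
    refine ⟨Cfsg.Agent.FusSys.inner_saturated' (hS.to_le hQ), hF, fun P φ hφ => ?_, hsc, ?_, ?_⟩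
    · obtain ⟨hP, g, hg, hgx⟩ := Cfsg.Agent.FusSys.mor_inner.1 (Cfsg.Agent.FusSys.mor_extendFn hφ)
      exact ((Cfsg.Agent.FusSys.mor_conj (hP.trans hQ) (hQ hg)).congr hgx).hom_eq
        fun x => (Cfsg.Agent.FusSys.extendFn_coe φ x).symm
    · intro P hPQ φ hφ α hα
      obtain ⟨-, g, hg, hgx⟩ := Cfsg.Agent.FusSys.mor_inner.1 (Cfsg.Agent.FusSys.mor_extendFn hφ)
      obtain ⟨χ, hχ, hχx⟩ := (Cfsg.Agent.FusSys.mor_inner (S := Q)
        (P := (P.subgroupOf Q).map (Q.subtype.comp α.toMonoidHom))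
        (f := fun y => ((α ⟨g, hg⟩ : Q) : Ω) * y * ((α ⟨g, hg⟩ : Q) : Ω)⁻¹)).2
        ⟨by rintro _ ⟨x, -, rfl⟩; exact (α x).2, _, (α ⟨g, hg⟩).2, fun _ _ => rfl⟩
      refine ⟨χ, hχ, fun x hφx hαx => ?_⟩
      rw [hχx]
      have e : (⟨φ x, hφx⟩ : Q) = ⟨g, hg⟩ * ⟨x, hPQ x.2⟩ * (⟨g, hg⟩ : Q)⁻¹ := Subtype.ext (by
        show φ x = _
        rw [← Cfsg.Agent.FusSys.extendFn_coe φ x, hgx x x.2]; rfl)
      rw [e, map_mul, map_mul, map_inv]
      rfl
    · intro P hPQ φ hφ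
      obtain ⟨g, hg, hgf, hgQ⟩ :=
        (Cfsg.Agent.FusSys.isNormal_iff.1 hn).2 P _ (Cfsg.Agent.FusSys.mor_extendFn hφ)
      obtain ⟨α, hα, hαx⟩ := Cfsg.Agent.FusSys.Iso.exists_mem_autGroup
        (show Cfsg.Agent.FusSys.Iso F Q Q g from ⟨hg.mono le_sup_right, hgQ⟩)
      obtain ⟨φ₀, hφ₀, h₀⟩ := (Cfsg.Agent.FusSys.mor_inner (S := Q) (P := P) (f := id)).2
        ⟨hPQ, 1, Q.one_mem, fun x _ => by simp⟩
      refine ⟨α, hα, φ₀, hφ₀, fun x hx => ?_⟩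
      rw [← Cfsg.Agent.FusSys.apl_apply α hx, h₀ x, ← Cfsg.Agent.FusSys.extendFn_coe φ x]
      show _ = Cfsg.Agent.FusSys.apl α (x : Ω)
      rw [hαx _ (hPQ x.2), hgf x x.2]
  · intro hE
    refine Cfsg.Agent.FusSys.isNormal_of_weaklyNormal hS hE ?_ fun β _ w hw =>
      Cfsg.Agent.FusSys.apl_mem β hw
    refine Cfsg.Agent.FusSys.isNormal_iff.2 ⟨le_rfl, fun P f hf => ?_⟩
    obtain ⟨hP, g, hg, hgf⟩ := Cfsg.Agent.FusSys.mor_inner.1 hf
    obtain ⟨ψ, hψ⟩ := Cfsg.Agent.FusSys.mor_conj (F := innerFusionSystem Q) (sup_le hP le_rfl) hg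
    refine ⟨fun x => g * x * g⁻¹, ⟨ψ, hψ⟩, fun x hx => (hgf x hx).symm, fun y => ?_⟩
    constructor
    · exact fun hy => ⟨g⁻¹ * y * g, Q.mul_mem (Q.mul_mem (Q.inv_mem hg) hy) hg, by group⟩
    · rintro ⟨x, hx, rfl⟩
      exact Q.mul_mem (Q.mul_mem hg hx) (Q.inv_mem hg)

end Cfsg.Agent.S5290
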