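import Cfsg.Statements.S5291
import Cfsg.Agent.FusSys.WeaklyNormalAux

set_option autoImplicit false
open Cfsg

namespace Cfsg.Agent.S5291

/-- Let F be a saturated fusion system over a finite p-group S and E a weakly normal subsystem of F over a subgroup T. Suppose a subgroup R of T is normal in E (E = N_E(R)), and let R* be the subgroup of T generated by the images of R under all maps of F with source R. Then R* is normal in F (F = N_F(R*)). -/
theorem result {Ω : Type*} [Group Ω] {S : Subgroup Ω} [Finite S] (p : ℕ) [Fact p.Prime] (hS : IsPGroup p S)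
    (F : Cfsg.FusionSystem S) (hF : F.IsSaturated p)
    {T : Subgroup Ω} (E : Cfsg.FusionSystem T) (hE : E.IsWeaklyNormalIn F p)
    (R : Subgroup Ω) (hR : E.IsNormal R) :
    F.IsNormal (Subgroup.closure {x : Ω | ∃ φ ∈ F.Hom R, ∃ r : R, x = φ r}) := by
  have hT := hE.2.2.2.1
  have hRT : R ≤ T := hR.1
  set W := Subgroup.closure {x : Ω | ∃ φ ∈ F.Hom R, ∃ r : R, x = φ r} with hWdef
  haveI := Cfsg.Agent.FusSys.finite_of_le hT.1
  let ims : Set (Subgroup Ω) :=
    {U | ∃ β ∈ F.autGroup T, U = (R.subgroupOf T).map (T.subtype.comp β.toMonoidHom)}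
  have hims : E.IsNormal (sSup ims) := by
    refine Cfsg.Agent.FusSys.sSup_closed_of_finite
      (Cfsg.Agent.FusSys.finite_subgroups_le (S := T) (fun U => U ∈ ims) fun U hU => ?_) ?_
      Cfsg.Agent.FusSys.isNormal_bot (fun _ _ => Cfsg.Agent.FusSys.isNormal_sup)
    · obtain ⟨β, -, rfl⟩ := hU
      rintro _ ⟨x, -, rfl⟩
      exact (β x).2
    · rintro U ⟨β, hβ, rfl⟩
      exact Cfsg.Agent.FusSys.isNormal_image hE.2.2 hR hβ
  have hW : W = sSup ims := by
    refine le_antisymm ((Subgroup.closure_le _).2 ?_) (sSup_le ?_)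
    · rintro x ⟨φ, hφ, r, rfl⟩
      obtain ⟨β, hβ, g, hg, hfg⟩ := Cfsg.Agent.FusSys.exists_frattini hE.2.2 hRT
        (Cfsg.Agent.FusSys.mor_extendFn hφ)
      refine le_sSup (show (R.subgroupOf T).map (T.subtype.comp β.toMonoidHom) ∈ ims from ⟨β, hβ, rfl⟩) ?_
      have h := hfg r r.2
      rw [Cfsg.Agent.FusSys.extendFn_coe] at h
      have hgR := Cfsg.Agent.FusSys.StronglyClosed.mor_mem
        (Cfsg.Agent.FusSys.stronglyClosed_of_isNormal hR) hg r.2 r.2
      rw [h, Cfsg.Agent.FusSys.apl_apply β (hRT hgR)]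
      exact ⟨⟨_, hRT hgR⟩, hgR, rfl⟩
    · rintro U ⟨β, hβ, rfl⟩
      rintro _ ⟨x, hx, rfl⟩
      obtain ⟨φ, hφ, hφx⟩ := (Cfsg.Agent.FusSys.iso_apl (F := F) hT.1 hβ).1.mono hRT
      refine Subgroup.subset_closure ⟨φ, hφ, ⟨x, hx⟩, ?_⟩
      exact ((hφx ⟨x, hx⟩).trans (Cfsg.Agent.FusSys.apl_coe β x)).symm
  refine Cfsg.Agent.FusSys.isNormal_of_weaklyNormal hS hE (hW ▸ hims) fun β hβ => ?_
  intro w hw
  have hWT : W ≤ T := hW ▸ hims.1
  have hm := (Cfsg.Agent.FusSys.iso_apl (F := F) hT.1 hβ).1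
  rw [hWdef] at hw
  induction hw using Subgroup.closure_induction with
  | mem x hx =>
    obtain ⟨φ, hφ, r, rfl⟩ := hx
    obtain ⟨ψ, hψ, hψx⟩ := (Cfsg.Agent.FusSys.mor_extendFn hφ).comp hm
      (fun y hy => hWT (Subgroup.subset_closure ⟨φ, hφ, ⟨y, hy⟩, Cfsg.Agent.FusSys.extendFn_apply φ hy⟩))
    exact Subgroup.subset_closure ⟨ψ, hψ, r, ((hψx r).trans
      (congrArg (Cfsg.Agent.FusSys.apl β) (Cfsg.Agent.FusSys.extendFn_coe φ r))).symm⟩
  | one => rw [hm.map_one]; exact W.one_mem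
  | mul x y hx hy ihx ihy => rw [hm.map_mul (hWT hx) (hWT hy)]; exact W.mul_mem ihx ihy
  | inv x hx ih => rw [hm.map_inv (hWT hx)]; exact W.inv_mem ih

end Cfsg.Agent.S5291
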