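import Cfsg.Statements.S5292
import Cfsg.Agent.FusSys.RealizedQuot
import Cfsg.Agent.FusSys.Unique

set_option autoImplicit false
universe u
open Cfsg

namespace Cfsg.Agent.S5292

/-- Let F be a saturated fusion system over a finite p-group S. Then F is the fusion system of some finite p-solvable group on a Sylow p-subgroup if and only if F is constrained (some subgroup normal in F is centric in F) and the group of automorphisms that F induces on its largest normal subgroup O_p(F) is p-solvable. -/
theorem result {Ω : Type u} [Group Ω] {S : Subgroup Ω} [Finite S] (p : ℕ) [Fact p.Prime] (hS : IsPGroup p S)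
    (F : Cfsg.FusionSystem S) (hF : F.IsSaturated p) :
    (∃ (G : Type u) (_ : Group G) (_ : Finite G) (ι : S →* G), Cfsg.IsPSolvable p G ∧ F.IsRealizedBy ι ∧
        ∃ T : Sylow p G, (T : Subgroup G) = ι.range) ↔
      (F.IsConstrained p ∧ Cfsg.IsPSolvable p ↥(F.autGroup F.core)) := by
  classical
  have hcoreN : F.IsNormal F.core := Cfsg.Agent.FusSys.isNormal_core
  have hcoreSN := Cfsg.Agent.FusSys.StronglyClosed.le_normalizer
    (Cfsg.Agent.FusSys.stronglyClosed_of_isNormal hcoreN)
  constructor
  · rintro ⟨G, _, _, ι, hsol, hr, hT⟩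
    obtain ⟨hr', hT'⟩ := Cfsg.Agent.FusSys.realized_quotient hS hr hT (Cfsg.pPrimeCore p G)
      Cfsg.Agent.Core.coprime_card_pPrimeCore
    have hsol' : Cfsg.IsPSolvable p (G ⧸ Cfsg.pPrimeCore p G) :=
      Cfsg.Agent.Layer.isPSolvable_of_surjective hsol (QuotientGroup.mk'_surjective _)
    have hM : F.IsModel p (G ⧸ Cfsg.pPrimeCore p G)
        ((QuotientGroup.mk' (Cfsg.pPrimeCore p G)).comp ι) :=
      ⟨inferInstance, hr', hT', Cfsg.Agent.Layer.pCoreSelfCentral_of_isPSolvable hsol'
        Cfsg.Agent.Core.pPrimeCore_quotient_eq_bot⟩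
    obtain ⟨pr, -, -, hsurj⟩ := Cfsg.Agent.FusSys.exists_autHom hM hcoreN hcoreSN
    exact ⟨Cfsg.Agent.FusSys.model_constrained hM,
      Cfsg.Agent.Layer.isPSolvable_of_surjective hsol' hsurj⟩
  · rintro ⟨hcon, n, H, h0, hl, hm, hn, hi⟩
    obtain ⟨hsat, Q, hQn, hQc⟩ := hcon
    obtain ⟨G, hG, ι, hM, -⟩ := Cfsg.Agent.FusSys.exists_model hS hsat hQn hQc
    haveI : Finite G := hM.1
    have hcc : F.IsCentric F.core :=
      Cfsg.Agent.FusSys.centric_of_le hQc (Cfsg.Agent.FusSys.le_core hQn) hcoreN.1
    obtain ⟨pr, hpr, -, hsurj⟩ := Cfsg.Agent.FusSys.exists_autHom hM hcoreN hcoreSN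
    refine ⟨G, hG, inferInstance, ι, ?_, hM.2.1, hM.2.2.1⟩
    have hker : IsPGroup p pr.ker := by
      refine ((hS.to_subgroup (F.core.subgroupOf S)).map ι).to_le fun g hg =>
        Cfsg.Agent.FusSys.model_centralizer hM hcoreN hcc (Subgroup.mem_centralizer_iff.2 ?_)
      rintro _ ⟨x, hx, rfl⟩
      have h1 : g * ι x * g⁻¹ = ι x := (hpr g x hx).trans (congrArg ι (Subtype.ext (by
        show Cfsg.Agent.FusSys.apl (pr g : MulAut F.core) x = x
        rw [show pr g = 1 from hg]
        exact Cfsg.Agent.FusSys.apl_one hx)))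
      calc ι x * g = g * ι x * g⁻¹ * g := by rw [h1]
        _ = g * ι x := by group
    obtain ⟨k, hk⟩ := IsPGroup.iff_card.1 hker
    refine ⟨n + 1, Fin.cons ⊥ (fun i => (H i).comap pr), rfl, ?_, ?_, ?_, ?_⟩
    · rw [← Fin.succ_last, Fin.cons_succ, hl, Subgroup.comap_top]
    · intro a b hab
      induction a using Fin.cases with
      | zero => simp
      | succ a =>
        induction b using Fin.cases with
        | zero => simp [Fin.succ_ne_zero] at hab
        | succ b =>
          simp only [Fin.cons_succ]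
          exact Subgroup.comap_mono (hm (Fin.succ_le_succ_iff.1 hab))
    · intro i
      induction i using Fin.cases with
      | zero => simpa using (inferInstance : (⊥ : Subgroup G).Normal)
      | succ i =>
        simp only [Fin.cons_succ]
        exact (hn i).comap pr
    · intro i
      induction i using Fin.cases with
      | zero =>
        refine Or.inl ⟨k, ?_⟩
        rw [Fin.castSucc_zero, Fin.cons_zero, Fin.cons_succ, h0, Subgroup.relIndex_bot_left,
          MonoidHom.comap_bot, hk]
      | succ i =>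
        rw [← Fin.succ_castSucc, Fin.cons_succ, Fin.cons_succ, Subgroup.relIndex_comap,
          Subgroup.map_comap_eq_self_of_surjective hsurj]
        exact hi i

end Cfsg.Agent.S5292
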