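import Cfsg.Statements.S5294
import Cfsg.Agent.FusSys.Criteria

set_option autoImplicit false
universe u
open Cfsg

namespace Cfsg.Agent.S5294

/-- Let F be a saturated fusion system over a finite p-group S whose centre Z(S) lies in the largest subgroup O_p(F) normal in F. Then the centre Z(F) of F is a direct factor of Z(S): there is a subgroup K of Z(S) with Z(F) ∩ K = 1 and Z(F)K = Z(S). -/
theorem result {Ω : Type u} [Group Ω] {S : Subgroup Ω} [Finite S] (p : ℕ) [Fact p.Prime] (hS : IsPGroup p S)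
    (F : Cfsg.FusionSystem S) (hF : F.IsSaturated p) (hZ : (S ⊓ Subgroup.centralizer (S : Set Ω)) ≤ F.core) :
    ∃ K : Subgroup Ω, K ≤ (S ⊓ Subgroup.centralizer (S : Set Ω)) ∧ F.center ⊓ K = ⊥ ∧ F.center ⊔ K = (S ⊓ Subgroup.centralizer (S : Set Ω)) := by
  open Cfsg.Agent.FusSys Cfsg.FusionSystem in
  classical
  have hQn : F.IsNormal F.core := isNormal_core
  have hQsc := stronglyClosed_of_isNormal hQn
  have hQS : F.core ≤ S := hQn.1
  haveI := finite_of_le hQS
  haveI : Finite (MulAut F.core) := Finite.of_injective _ MulEquiv.toEquiv_injective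
  have hQf : F.IsFullyNormalized F.core := ⟨hQS, fun R hR => by
    obtain ⟨f, hf⟩ := isConj_iff.1 hR
    rw [hf.eq_image (StronglyClosed.iso_self hQsc hf.1 le_rfl)]⟩
  obtain ⟨-, B, hB⟩ := fullyAutomized_of_fullyNormalized hS hF hQf
  set Z : Subgroup Ω := S ⊓ Subgroup.centralizer (S : Set Ω) with hZdef
  -- fixed points of `Aut_F(Q)`
  have hcen : ∀ x ∈ F.center, ∀ α ∈ F.autGroup F.core, ∀ hx : x ∈ F.core, apl α x = x := by
    intro x hx α hα hxQ
    obtain ⟨φ, hφ, hφα⟩ := (iso_apl hQS hα).1.mono (Subgroup.zpowers_le.2 hxQ)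
    exact ((isCentral_iff_singleton hS hF).1 isCentral_center).2 x hx _
      ⟨φ, hφ, hφα ⟨x, Subgroup.mem_zpowers x⟩⟩
  have hfix : ∀ x ∈ F.core, (∀ α ∈ F.autGroup F.core, apl α x = x) → x ∈ F.center := by
    intro x hx h
    refine le_center ((isCentral_iff_singleton hS hF).2
      ⟨(Subgroup.zpowers_le.2 hx).trans hQS, ?_⟩) (Subgroup.mem_zpowers x)
    rintro z ⟨k, rfl⟩ y ⟨φ, hφ, rfl⟩
    obtain ⟨g, hg, hgf, hgQ⟩ := (isNormal_iff.1 hQn).2 _ _ (mor_extendFn hφ)
    obtain ⟨α, hα, hαx⟩ :=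
      Iso.exists_mem_autGroup (show Iso F F.core F.core g from ⟨hg.mono le_sup_right, hgQ⟩)
    rw [← extendFn_apply φ (Subgroup.mem_zpowers _), ← hgf _ (Subgroup.mem_zpowers _),
      ← hαx _ (F.core.zpow_mem hx k)]
    have hz : apl α (x ^ k) = apl α x ^ k := by
      have hm := (iso_apl hQS hα).1
      obtain ⟨ψ, -, hψ⟩ := hm
      rw [← hψ ⟨x, hx⟩, ← hψ ⟨x ^ k, F.core.zpow_mem hx k⟩]
      exact map_zpow ψ ⟨x, hx⟩ k
    show apl α (x ^ k) = x ^ k
    rw [hz, h α hα]
  -- the norm map on `Z(Q)`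
  let act : F.autGroup F.core → (Subgroup.center F.core →* Subgroup.center F.core) := fun a =>
    (Subgroup.centerCongr (a : MulAut F.core)).toMonoidHom
  have hact : ∀ (a : F.autGroup F.core) (v : Subgroup.center F.core),
      ((act a v : F.core) : Ω) = apl (a : MulAut F.core) ((v : F.core) : Ω) := fun a v => by
    rw [apl_coe]; rfl
  letI : CommGroup (Subgroup.center F.core) :=
    { (inferInstance : Group (Subgroup.center F.core)) with
      mul_comm := fun a b => Subtype.ext (Subgroup.mem_center_iff.1 b.2 a) }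
  haveI : Fintype (F.autGroup F.core ⧸ (B : Subgroup (F.autGroup F.core))) := Fintype.ofFinite _
  let N : Subgroup.center F.core →* Subgroup.center F.core :=
    ∏ q : F.autGroup F.core ⧸ (B : Subgroup (F.autGroup F.core)), act q.out
  have hN : ∀ v, N v = ∏ q : F.autGroup F.core ⧸ (B : Subgroup (F.autGroup F.core)), act q.out v :=
    fun v => MonoidHom.finsetProd_apply _ _ v
  have hmul : ∀ (a b : F.autGroup F.core) v, act (a * b) v = act a (act b v) := fun a b v => rfl
  have hBfix : ∀ b ∈ (B : Subgroup (F.autGroup F.core)), ∀ v : Subgroup.center F.core,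
      ((v : F.core) : Ω) ∈ Z → act b v = v := by
    intro b hb v hv
    obtain ⟨g, hg, -, hgx⟩ := mem_autInducedBy_iff.1 ((autInducedBy_subgroupOf_eq B hB).1 hb)
    refine Subtype.ext (Subtype.ext ?_)
    rw [hact, hgx _ (v : F.core).2, Subgroup.mem_centralizer_iff.1 hv.2 g hg]
    group
  have hout : ∀ (a : F.autGroup F.core) (v : Subgroup.center F.core), ((v : F.core) : Ω) ∈ Z →
      act (QuotientGroup.mk a : F.autGroup F.core ⧸ (B : Subgroup (F.autGroup F.core))).out v = act a v := by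
    intro a v hv
    obtain ⟨b, hb⟩ := QuotientGroup.mk_out_eq_mul (B : Subgroup (F.autGroup F.core)) a
    rw [hb, hmul, hBfix b b.2 v hv]
  have hNinv : ∀ (a : F.autGroup F.core) (v : Subgroup.center F.core), ((v : F.core) : Ω) ∈ Z →
      act a (N v) = N v := by
    intro a v hv
    rw [hN, map_prod]
    refine Fintype.prod_equiv (MulAction.toPerm a) _ _ fun q => ?_
    rw [← hmul]
    have h := hout (a * q.out) v hv
    rw [← h]
    congr 2
    show (QuotientGroup.mk (a * q.out) : F.autGroup F.core ⧸ (B : Subgroup (F.autGroup F.core))).out = _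
    conv_rhs => rw [show q = QuotientGroup.mk q.out from (QuotientGroup.out_eq' q).symm]
    rfl
  have hNfix : ∀ v : Subgroup.center F.core, (∀ a, act a v = v) →
      N v = v ^ (B : Subgroup (F.autGroup F.core)).index := by
    intro v hv
    rw [hN, Finset.prod_congr rfl fun q _ => hv q.out, Finset.prod_const, Finset.card_univ,
      ← Nat.card_eq_fintype_card, ← Subgroup.index_eq_card]
  obtain ⟨n, hn⟩ := IsPGroup.iff_card.1
    ((hS.to_le hQS).to_subgroup (Subgroup.center F.core))
  have hco : Nat.Coprime (B : Subgroup (F.autGroup F.core)).index (p ^ n) :=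
    Nat.Coprime.pow_right n ((Nat.Prime.coprime_iff_not_dvd Fact.out).2 B.not_dvd_index).symm
  obtain ⟨j, hj⟩ : ∃ j, (B : Subgroup (F.autGroup F.core)).index * j ≡ 1 [MOD p ^ n] := by
    obtain ⟨j, -, hj⟩ := Nat.exists_mul_mod_eq_of_coprime 1 hco
      (pow_ne_zero n (Fact.out : p.Prime).ne_zero)
    exact ⟨j, hj⟩
  have hpow : ∀ (v : Subgroup.center F.core), v ^ ((B : Subgroup (F.autGroup F.core)).index * j) = v := by
    intro v
    conv_rhs => rw [← pow_one v]
    exact pow_eq_pow_iff_modEq.2 (Nat.ModEq.of_dvd (hn ▸ orderOf_dvd_natCard v) hj)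
  let W : Subgroup (Subgroup.center F.core) :=
    Z.comap (F.core.subtype.comp (Subgroup.center F.core).subtype)
  refine ⟨(W ⊓ N.ker).map (F.core.subtype.comp (Subgroup.center F.core).subtype), ?_, ?_, ?_⟩
  · rintro _ ⟨v, hv, rfl⟩
    exact hv.1
  · refine (Subgroup.eq_bot_iff_forall _).2 ?_
    rintro x ⟨hxF, v, ⟨hvW, hvN⟩, rfl⟩
    have hfx : ∀ a, act a v = v := fun a => Subtype.ext (Subtype.ext (by
      rw [hact]; exact hcen _ hxF a a.2 (v : F.core).2))
    have h1 : v = 1 := by
      rw [← hpow v, pow_mul, ← hNfix v hfx, MonoidHom.mem_ker.1 hvN, one_pow]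
    rw [h1, map_one]
  · have hFZ : F.center ≤ Z := fun x hx => by
      refine ⟨(isCentral_center (F := F)).1 hx, Subgroup.mem_centralizer_iff.2 fun s hs => ?_⟩
      obtain ⟨φ, hφ, hφs⟩ := (mor_conj (F := F) le_rfl hs).mono
        (Subgroup.zpowers_le.2 ((isCentral_center (F := F)).1 hx))
      have h := ((isCentral_iff_singleton hS hF).1 isCentral_center).2 x hx _
        ⟨φ, hφ, hφs ⟨x, Subgroup.mem_zpowers x⟩⟩
      calc s * x = s * x * s⁻¹ * s := by group
        _ = x * s := by rw [show s * x * s⁻¹ = x from h]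
    refine le_antisymm (sup_le hFZ ?_) fun x hx => ?_
    · rintro _ ⟨v, hv, rfl⟩
      exact hv.1
    let v : Subgroup.center F.core := ⟨⟨x, hZ hx⟩, Subgroup.mem_center_iff.2 fun y =>
      Subtype.ext (Subgroup.mem_centralizer_iff.1 hx.2 y (hQS y.2))⟩
    have hfx : ∀ a, act a (N v ^ j) = N v ^ j := fun a => by rw [map_pow, hNinv a v hx]
    have hF' : (((N v ^ j : Subgroup.center F.core) : F.core) : Ω) ∈ F.center :=
      hfix _ ((N v ^ j : Subgroup.center F.core) : F.core).2 fun α hα => by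
        rw [← hact ⟨α, hα⟩]; rw [hfx]
    have hker : (N v ^ j)⁻¹ * v ∈ N.ker := by
      rw [MonoidHom.mem_ker, map_mul, map_inv, hNfix _ hfx, ← pow_mul, mul_comm j, hpow,
        inv_mul_cancel]
    have hW : (N v ^ j)⁻¹ * v ∈ W := W.mul_mem (W.inv_mem (hFZ hF')) hx
    have hWN : (N v ^ j)⁻¹ * v ∈ W ⊓ N.ker := ⟨hW, hker⟩
    have h := Subgroup.mul_mem_sup hF' (Subgroup.mem_map_of_mem
      (F.core.subtype.comp (Subgroup.center F.core).subtype) hWN)
    have e : (((N v ^ j : Subgroup.center F.core) : F.core) : Ω) *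
        (F.core.subtype.comp (Subgroup.center F.core).subtype) ((N v ^ j)⁻¹ * v) = x := by
      show ((((N v ^ j) * ((N v ^ j)⁻¹ * v) : Subgroup.center F.core) : F.core) : Ω) = x
      rw [mul_inv_cancel_left]
    rwa [e] at h

end Cfsg.Agent.S5294
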