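import Cfsg.Statements.S5297
import Cfsg.Agent.FusSys.ElemCritCor

set_option autoImplicit false
universe u
open Cfsg

namespace Cfsg.Agent.S5297

/-- Let F be a saturated fusion system over a finite p-group S. If every map of F between cyclic subgroups of the hyperfocal subgroup of F of order p or 4 is a map of the normalizer system of S (it extends to a map of F defined on all of S), then S is normal in F. -/
theorem result {Ω : Type u} [Group Ω] {S : Subgroup Ω} [Finite S] (p : ℕ) [Fact p.Prime] (hS : IsPGroup p S)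
    (F : Cfsg.FusionSystem S) (hF : F.IsSaturated p)
    (h : ∀ A B : Subgroup Ω, A ≤ (F.hyperfocalSubgroup p) → B ≤ (F.hyperfocalSubgroup p) → IsCyclic ↥A → (Nat.card ↥A = p ∨ Nat.card ↥A = 4) → IsCyclic ↥B → (Nat.card ↥B = p ∨ Nat.card ↥B = 4) →
      F.homSet A B ⊆ F.normalizerHom S A) :
    F.IsNormal S := by
  haveI := hS.isNilpotent
  obtain ⟨N, hN⟩ := Group.IsNilpotent.nilpotent' (G := ↥S)
  refine Cfsg.Agent.FusSys.isNormal_top_of_small hS hF
    (C := fun i => (Subgroup.upperCentralSeries S i).map S.subtype) (n := N) ?_ ?_ ?_ ?_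
  · intro x hx
    simpa using hx
  · intro x hx _
    exact ⟨⟨x, Cfsg.Agent.FusSys.hyperfocal_le F p hx⟩, hN ▸ Subgroup.mem_top _, rfl⟩
  · rintro i - _ - - ⟨x, hx, rfl⟩ s hs
    refine ⟨x⁻¹ * ⟨s, hs⟩ * x * ⟨s, hs⟩⁻¹, ?_, by simp [mul_assoc]⟩
    have := (Subgroup.mem_upperCentralSeries_succ_iff.1
      ((Subgroup.upperCentralSeries S (i + 1)).inv_mem hx)) ⟨s, hs⟩
    simpa [commutatorElement_def, mul_assoc] using this
  intro P hP α hα x hx hxh hs i _ hxC
  rcases Cfsg.Agent.FusSys.exists_hom_zpowers hS hF hP hα hx hxh hs with ⟨rfl, h1⟩ | ⟨φ, hφ, hval, hA, hB, hcA, hcB⟩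
  · rw [h1]; exact Subgroup.one_mem _
  obtain ⟨-, -, -, g, hg, hgφ, hgS⟩ := Cfsg.Agent.FusSys.mem_normalizerHom_iff.1
    (h _ _ hA hB (Subgroup.isCyclic_zpowers x) hcA (Subgroup.isCyclic_zpowers _) hcB hφ)
  obtain ⟨β, -, hβ⟩ := Cfsg.Agent.FusSys.Iso.exists_mem_autGroup
    (show Cfsg.Agent.FusSys.Iso F S S g from ⟨hg.mono le_sup_right, hgS⟩)
  have hxS : x ∈ S := hP hx
  have hval' : Cfsg.Agent.FusSys.apl α x = ((β ⟨x, hxS⟩ : S) : Ω) := by
    rw [← hval, ← Cfsg.Agent.FusSys.extendFn_coe φ, ← hgφ x (Subgroup.mem_zpowers x), ← hβ x hxS,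
      Cfsg.Agent.FusSys.apl_apply β hxS]
  obtain ⟨z, hz, hzx⟩ := hxC
  rw [hval', show (⟨x, hxS⟩ : S) = z from Subtype.ext hzx.symm]
  refine ⟨β z, ?_, rfl⟩
  exact (Subgroup.characteristic_iff_le_comap.1 inferInstance β) hz

end Cfsg.Agent.S5297
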