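import Cfsg.Statements.S5299
import Cfsg.Agent.QdFree.Involve
import Cfsg.Agent.Fusion.Residual
import Cfsg.Agent.FusSys.SylowAux

set_option autoImplicit false
universe u
open Cfsg

namespace Cfsg.Agent.S5299

/-- Let F be a saturated fusion system over a finite p-group S, H a finite group and Q a p-subgroup of H. If Q is not involved in S (no section of S is isomorphic to Q), then F is H-free: H is involved in no model of the normalizer system of a fully normalized centric subgroup. -/
theorem result {Ω : Type u} [Group Ω] {S : Subgroup Ω} [Finite S] (p : ℕ) [Fact p.Prime] (hS : IsPGroup p S)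
    (F : Cfsg.FusionSystem S) (hF : F.IsSaturated p) (H : Type*) [Group H] [Finite H] (Q : Subgroup H) (hQ : IsPGroup p Q)
    (hfree : ¬ Cfsg.Involves (↥Q) (↥S)) : F.IsSectionFree p H := by
  intro R _ _ N _ L _ ι hL hH
  obtain ⟨hLfin, ⟨hinj, -⟩, ⟨T, hT⟩, -⟩ := hL
  haveI := hLfin
  obtain ⟨K, f, hf⟩ := Cfsg.Agent.QdFree.exists_surjective_of_involves hH
  have hQH : Cfsg.Involves (↥Q) H :=
    Cfsg.Agent.QdFree.involves_mk Q (MonoidHom.id _) Function.surjective_id
  obtain ⟨K', g, -, hg⟩ := Cfsg.Agent.QdFree.exists_le_of_sec hQH hf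
  let P : Sylow p K' := default
  have hsup : (P : Subgroup K') ⊔ g.ker = ⊤ :=
    Cfsg.Agent.Fusion.sylow_sup_eq_top_of_isPGroup_quotient P g.ker
      (hQ.of_equiv (QuotientGroup.quotientKerEquivOfSurjective g hg).symm)
  have hgP : Function.Surjective (g.comp (P : Subgroup K').subtype) := by
    intro q
    obtain ⟨x, rfl⟩ := hg q
    have hx : x ∈ (P : Subgroup K') ⊔ g.ker := hsup.symm ▸ Subgroup.mem_top x
    rw [Subgroup.mem_sup_of_normal_right] at hx
    obtain ⟨y, hy, z, hz, rfl⟩ := hx
    exact ⟨⟨y, hy⟩, by simp [MonoidHom.mem_ker.1 hz]⟩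
  obtain ⟨c, hc⟩ := Cfsg.Agent.FusSys.exists_conj_mem_sylow (P.2.map K'.subtype) T
  let θ : (P : Subgroup K') →* ι.range :=
    (((MulAut.conj c).toMonoidHom.comp K'.subtype).comp (P : Subgroup K').subtype).codRestrict ι.range
      (fun x => hT.le (hc _ (Subgroup.mem_map_of_mem _ x.2)))
  let θ' : (P : Subgroup K') →* S :=
    ((Subgroup.inclusion (inf_le_left : Cfsg.FusionSystem.normalizerIn S R ≤ S)).comp
      (MonoidHom.ofInjective hinj).symm.toMonoidHom).comp θ
  have hθ : Function.Injective θ' := by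
    intro a b hab
    have h1 := (MonoidHom.ofInjective hinj).symm.injective (Subgroup.inclusion_injective inf_le_left hab)
    have h2 : c * ((a : K') : L) * c⁻¹ = c * ((b : K') : L) * c⁻¹ := congrArg Subtype.val h1
    exact Subtype.ext (Subtype.ext (mul_left_cancel (mul_right_cancel h2)))
  exact hfree (Cfsg.Agent.QdFree.involves_mk θ'.range
    ((g.comp (P : Subgroup K').subtype).comp (MonoidHom.ofInjective hθ).symm.toMonoidHom)
    (hgP.comp (MonoidHom.ofInjective hθ).symm.surjective))

end Cfsg.Agent.S5299
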