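import Cfsg.Statements.S5300
import Cfsg.Agent.FusSys.ElemCritCor

set_option autoImplicit false
universe u
open Cfsg

namespace Cfsg.Agent.S5300

/-- Let F be a saturated fusion system over a finite p-group S. If every cyclic subgroup of the focal subgroup of F of order p (of order 2 or 4 when p = 2) is normal in S, then S is normal in F. -/
theorem result {Ω : Type u} [Group Ω] {S : Subgroup Ω} [Finite S] (p : ℕ) [Fact p.Prime] (hS : IsPGroup p S)
    (F : Cfsg.FusionSystem S) (hF : F.IsSaturated p)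
    (hnorm : ∀ x ∈ F.focalSubgroup, (x ^ p = 1 ∨ (p = 2 ∧ x ^ 4 = 1)) → ∀ s ∈ S, s * x * s⁻¹ ∈ Subgroup.zpowers x) :
    F.IsNormal S := by
  classical
  have hfoc : F.hyperfocalSubgroup p ≤ F.focalSubgroup := Cfsg.Agent.FusSys.hyperfocal_le_focal
  have hfS : F.focalSubgroup ≤ S := Cfsg.Agent.FusSys.focal_le F
  have hcen : ∀ x ∈ F.focalSubgroup, x ^ p = 1 → ∀ s ∈ S, s * x * s⁻¹ = x := fun x hx hxp s hs =>
    Cfsg.Agent.FusSys.commute_of_conj_mem_zpowers hS hs hxp (hnorm x hx (Or.inl hxp) s hs)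
  let I : Subgroup Ω := Subgroup.closure {x | x ∈ F.hyperfocalSubgroup p ∧ x ^ p = 1}
  have hIc : ∀ y ∈ I, y ^ p = 1 ∧ y ∈ F.hyperfocalSubgroup p := by
    intro y hy
    induction hy using Subgroup.closure_induction with
    | mem y hy => exact ⟨hy.2, hy.1⟩
    | one => exact ⟨one_pow p, Subgroup.one_mem _⟩
    | mul a b _ _ ha hb =>
      refine ⟨?_, Subgroup.mul_mem _ ha.2 hb.2⟩
      have hc : Commute a b := by
        have h := hcen b (hfoc hb.2) hb.1 a (hfS (hfoc ha.2))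
        calc a * b = a * b * a⁻¹ * a := by group
          _ = b * a := by rw [h]
      rw [hc.mul_pow, ha.1, hb.1, one_mul]
    | inv a _ ha => exact ⟨by rw [inv_pow, ha.1, inv_one], Subgroup.inv_mem _ ha.2⟩
  refine Cfsg.Agent.FusSys.isNormal_top_of_small hS hF
    (C := fun i => if i = 0 then ⊥ else if i = 1 then I else S) (n := 2) ?_ ?_ ?_ ?_
  · intro x hx
    simpa using hx
  · intro x hx _
    simpa using hfS (hfoc hx)
  · intro i hi x hxh hs hxC s hsS
    obtain rfl | rfl : i = 0 ∨ i = 1 := by omega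
    · have hxI : x ∈ I := by simpa using hxC
      simpa [hcen x (hfoc hxh) (hIc x hxI).1 s hsS] using inv_mul_cancel x
    · show x⁻¹ * (s * x * s⁻¹) ∈ I
      rcases hs with hxp | ⟨rfl, hx4⟩
      · rw [hcen x (hfoc hxh) hxp s hsS, inv_mul_cancel]
        exact I.one_mem
      obtain ⟨k, hk⟩ := Subgroup.mem_zpowers_iff.1 (hnorm x (hfoc hxh) (Or.inr ⟨rfl, hx4⟩) s hsS)
      refine Subgroup.subset_closure ⟨Subgroup.mul_mem _ (Subgroup.inv_mem _ hxh)
        (hk ▸ Subgroup.zpow_mem _ hxh k), ?_⟩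
      by_cases hx2 : x ^ 2 = 1
      · rw [hcen x (hfoc hxh) hx2 s hsS, inv_mul_cancel, one_pow]
      have hodd : Odd k := by
        rw [← Int.not_even_iff_odd]
        rintro ⟨j, rfl⟩
        refine hx2 ?_
        have h2 : (s * x * s⁻¹) ^ 2 = 1 := by
          rw [← hk, ← zpow_natCast, ← zpow_mul, show (j + j) * ((2 : ℕ) : ℤ) = ((4 : ℕ) : ℤ) * j by
            push_cast; ring, zpow_mul, zpow_natCast, hx4, one_zpow]
        have h3 : (s * x * s⁻¹) ^ 2 = s * x ^ 2 * s⁻¹ := conj_pow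
        rw [h3] at h2
        simpa [mul_inv_eq_one] using h2
      obtain ⟨j, rfl⟩ := hodd
      rw [← hk, show x⁻¹ * x ^ (2 * j + 1) = x ^ (2 * j) by group, ← zpow_natCast, ← zpow_mul,
        show (2 * j) * ((2 : ℕ) : ℤ) = ((4 : ℕ) : ℤ) * j by push_cast; ring, zpow_mul, zpow_natCast,
        hx4, one_zpow]
  intro P hP α hα x hx hxh hs i hi hxC
  have hαh := Cfsg.Agent.FusSys.StronglyClosed.mor_mem
    (Cfsg.Agent.FusSys.stronglyClosed_hyperfocal hS hF) (Cfsg.Agent.FusSys.iso_apl hP hα).1 hx hxh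
  obtain rfl | rfl | rfl : i = 0 ∨ i = 1 ∨ i = 2 := by omega
  · have hx1 : x = 1 := by simpa using hxC
    subst hx1
    simp [Cfsg.Agent.FusSys.apl_apply α hx, show (⟨1, hx⟩ : P) = 1 from rfl]
  · have hxI : x ∈ I := by simpa using hxC
    show Cfsg.Agent.FusSys.apl α x ∈ I
    refine Subgroup.subset_closure ⟨hαh, ?_⟩
    rw [Cfsg.Agent.FusSys.apl_apply α hx, ← SubmonoidClass.coe_pow, ← map_pow,
      show (⟨x, hx⟩ : P) ^ p = 1 from Subtype.ext (hIc x hxI).1, map_one]
    rfl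
  · simpa using hfS (hfoc hαh)

end Cfsg.Agent.S5300
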