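import Cfsg.Statements.S5301
import Cfsg.Agent.FusSys.Series

set_option autoImplicit false
universe u
open Cfsg

namespace Cfsg.Agent.S5301

/-- Let F be a saturated fusion system over a finite p-group S. If for every subgroup P of S that is fully normalized, centric and radical in F the automorphism group that F induces on P has a normal Sylow p-subgroup, then S is normal in F. -/
theorem result {Ω : Type u} [Group Ω] {S : Subgroup Ω} [Finite S] (p : ℕ) [Fact p.Prime] (hS : IsPGroup p S)
    (F : Cfsg.FusionSystem S) (hF : F.IsSaturated p)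
    (hcl : ∀ P : Subgroup Ω, F.IsFullyNormalized P → F.IsCentric P → F.IsRadical p P →
      ∃ R : Sylow p ↥(F.autGroup P), (R : Subgroup ↥(F.autGroup P)).Normal) :
    F.IsNormal S := by
  have hno : ∀ P : Subgroup Ω, ¬ F.IsEssential p P := by
    intro P hP
    have hr := Cfsg.Agent.FusSys.essential_radical hS hF hP
    obtain ⟨hc, hn, hnorm, E, hE⟩ := hP
    haveI := Cfsg.Agent.FusSys.finite_of_le hn.1
    haveI := Cfsg.Agent.FusSys.innIn_normal F P
    obtain ⟨R, hR⟩ := hcl P hn hc hr
    have h1 := Cfsg.Agent.FusSys.pCore_eq_bot_of_stronglyPEmbedded hE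
    have h2 : R.map (QuotientGroup.mk' (Cfsg.Agent.FusSys.innIn F P)) ≤ ⊥ := by
      rw [← h1]
      haveI := hR.map (QuotientGroup.mk' (Cfsg.Agent.FusSys.innIn F P))
        (QuotientGroup.mk'_surjective _)
      exact Cfsg.Agent.Core.le_pCore (R.2.map _)
    have h3 : ¬ p ∣ (R.map (QuotientGroup.mk' (Cfsg.Agent.FusSys.innIn F P))).index := fun h =>
      R.not_dvd_index (h.trans (Subgroup.index_map_dvd _ (QuotientGroup.mk'_surjective _)))
    rw [le_bot_iff.1 h2, Subgroup.index_bot] at h3
    exact h3 hE.1
  refine (Cfsg.Agent.FusSys.isNormal_iff_essential hS hF).2 fun P hP => ?_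
  rcases hP with rfl | hP
  · refine ⟨le_rfl, fun α _ => ?_⟩
    rw [Subgroup.subgroupOf_self]
    exact Subgroup.map_top_of_surjective _ α.surjective
  · exact absurd hP (hno P)

end Cfsg.Agent.S5301
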