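import Cfsg.Statements.S5306

set_option autoImplicit false
open Cfsg

namespace Cfsg.Agent.S5306

/-- Let P be a Sylow p-subgroup of the finite group X and J = J(P) its Thompson subgroup (generated by the elementary abelian subgroups of P of largest order). If x and y lie in the centre of J and y = g x g⁻¹ for some g in X, then y = n x n⁻¹ for some n in the normalizer N_X(J). -/
theorem result {X : Type*} [Group X] [Finite X] (p : ℕ) [Fact p.Prime] (P : Sylow p X) (J : Subgroup X) (hJ : J = Cfsg.thompsonSubgroupOf p (P : Subgroup X))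
    (x y : X) (hx : x ∈ J ∧ ∀ j ∈ J, Commute j x) (hy : y ∈ J ∧ ∀ j ∈ J, Commute j y) (g : X) (hg : g * x * g⁻¹ = y) :
    ∃ n ∈ Subgroup.normalizer (J : Set X), n * x * n⁻¹ = y := by
  subst hJ
  set J := thompsonSubgroupOf p (P : Subgroup X) with hJdef
  have hJP : J ≤ (P : Subgroup X) := Subgroup.map_subtype_le _
  have wc : ∀ h : X, J.map (MulAut.conj h).toMonoidHom ≤ (P : Subgroup X) →
      J.map (MulAut.conj h).toMonoidHom = J := by
    intro h hh
    refine SetLike.coe_injective (Set.eq_of_subset_of_ncard_le ?_ ?_ (Set.toFinite _))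
    · intro z hz
      obtain ⟨w, hw, rfl⟩ := hz
      suffices J ≤ J.comap (MulAut.conj h).toMonoidHom from this hw
      rw [hJdef, thompsonSubgroupOf, Subgroup.map_le_iff_le_comap]
      refine sSup_le fun A hA => ?_
      intro a ha
      have hle : (A.map (P : Subgroup X).subtype).map (MulAut.conj h).toMonoidHom ≤ (P : Subgroup X) := by
        refine le_trans (Subgroup.map_mono ?_) hh
        exact Subgroup.map_mono (le_sSup hA)
      let A' : Subgroup ↥(P : Subgroup X) :=
        ((A.map (P : Subgroup X).subtype).map (MulAut.conj h).toMonoidHom).subgroupOf (P : Subgroup X)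
      have hcard : Nat.card A' = Nat.card A := by
        rw [Nat.card_congr (Subgroup.subgroupOfEquivOfLe hle).toEquiv,
          Subgroup.card_map_of_injective (MulAut.conj h).injective,
          Subgroup.card_map_of_injective Subtype.val_injective]
      have hA' : A' ∈ maxElementaryAbelianSubgroups p ↥(P : Subgroup X) := by
        refine ⟨⟨⟨⟨?_⟩⟩, ?_⟩, fun B hB => hcard ▸ hA.2 B hB⟩
        · rintro ⟨u1, hu1⟩ ⟨u2, hu2⟩
          obtain ⟨_, ⟨a1, h1, rfl⟩, e1⟩ := Subgroup.mem_subgroupOf.1 hu1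
          obtain ⟨_, ⟨a2, h2, rfl⟩, e2⟩ := Subgroup.mem_subgroupOf.1 hu2
          apply Subtype.ext
          apply Subtype.ext
          show (u1 : X) * (u2 : X) = (u2 : X) * (u1 : X)
          rw [← e1, ← e2]
          have hc : a1 * a2 = a2 * a1 :=
            congrArg Subtype.val (hA.1.1.is_comm.comm ⟨a1, h1⟩ ⟨a2, h2⟩)
          have := congrArg (fun z : ↥(P : Subgroup X) => (MulAut.conj h) (z : X)) hc
          simpa using this
        · intro u1 hu1
          obtain ⟨_, ⟨a1, h1, rfl⟩, e1⟩ := Subgroup.mem_subgroupOf.1 hu1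
          apply Subtype.ext
          show (u1 : X) ^ p = 1
          rw [← e1]
          have := congrArg (fun z : ↥(P : Subgroup X) => (MulAut.conj h) (z : X)) (hA.1.2 a1 h1)
          simpa [conj_pow] using this
      show (MulAut.conj h) (a : X) ∈ (thompsonSubgroup p ↥(P : Subgroup X)).map (P : Subgroup X).subtype
      have hmem : (MulAut.conj h) (a : X) ∈ (P : Subgroup X) := hle ⟨_, ⟨a, ha, rfl⟩, rfl⟩
      exact ⟨⟨_, hmem⟩, le_sSup hA' (Subgroup.mem_subgroupOf.2 ⟨_, ⟨a, ha, rfl⟩, rfl⟩), rfl⟩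
    · exact le_of_eq (Subgroup.card_map_of_injective (K := J) (MulAut.conj h).injective).symm
  set C := Subgroup.centralizer ({y} : Set X) with hC
  have hJC : J ≤ C := fun j hj => Subgroup.mem_centralizer_singleton_iff.2 (hy.2 j hj).eq
  have hgC : J.map (MulAut.conj g).toMonoidHom ≤ C := by
    rintro _ ⟨j, hj, rfl⟩
    refine Subgroup.mem_centralizer_singleton_iff.2 ?_
    show g * j * g⁻¹ * y = y * (g * j * g⁻¹)
    rw [← hg]
    calc g * j * g⁻¹ * (g * x * g⁻¹) = g * (j * x) * g⁻¹ := by group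
      _ = g * (x * j) * g⁻¹ := by rw [(hx.2 j hj).eq]
      _ = _ := by group
  have hJp : IsPGroup p J := P.isPGroup'.to_le hJP
  obtain ⟨T₁, hT₁⟩ := (hJp.comap_of_injective C.subtype Subtype.val_injective).exists_le_sylow
  obtain ⟨T₂, hT₂⟩ :=
    ((hJp.map (MulAut.conj g).toMonoidHom).comap_of_injective C.subtype Subtype.val_injective).exists_le_sylow
  obtain ⟨c, hc⟩ := MulAction.exists_smul_eq C T₂ T₁
  obtain ⟨U, hU⟩ := (T₁.isPGroup'.map C.subtype).exists_le_sylow
  obtain ⟨k, hk⟩ := MulAction.exists_smul_eq X U P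
  have toP : ∀ z ∈ (T₁ : Subgroup C).map C.subtype, k * z * k⁻¹ ∈ (P : Subgroup X) := fun z hz => by
    rw [← hk]
    exact ⟨z, hU hz, rfl⟩
  have h1 : J.map (MulAut.conj k).toMonoidHom = J := by
    refine wc k ?_
    rintro _ ⟨j, hj, rfl⟩
    exact toP j ⟨⟨j, hJC hj⟩, hT₁ (Subgroup.mem_comap.2 hj), rfl⟩
  have h2 : J.map (MulAut.conj (k * (c * g))).toMonoidHom = J := by
    refine wc _ ?_
    rintro _ ⟨j, hj, rfl⟩
    have hm : (MulAut.conj g) j ∈ J.map (MulAut.conj g).toMonoidHom := ⟨j, hj, rfl⟩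
    have : c * ⟨(MulAut.conj g) j, hgC hm⟩ * c⁻¹ ∈ (T₁ : Subgroup C) := by
      rw [← hc]
      exact ⟨⟨(MulAut.conj g) j, hgC hm⟩, hT₂ (Subgroup.mem_comap.2 hm), rfl⟩
    have := toP _ ⟨_, this, rfl⟩
    simpa [MulAut.conj_apply, mul_assoc] using this
  refine ⟨(c : X) * g, ?_, ?_⟩
  · have mem : ∀ h : X, J.map (MulAut.conj h).toMonoidHom = J → h ∈ Subgroup.normalizer (J : Set X) := by
      intro h hh
      refine Subgroup.mem_normalizer_iff.2 fun z => ⟨fun hz => hh ▸ ⟨z, hz, rfl⟩, fun hz => ?_⟩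
      rw [← hh] at hz
      obtain ⟨w, hw, hwz⟩ := hz
      have : w = z := (MulAut.conj h).injective hwz
      exact this ▸ hw
    have := (Subgroup.normalizer (J : Set X)).mul_mem
      ((Subgroup.normalizer (J : Set X)).inv_mem (mem k h1)) (mem _ h2)
    simpa using this
  · have hcy : (c : X) * y = y * (c : X) := Subgroup.mem_centralizer_singleton_iff.1 c.2
    calc (c : X) * g * x * ((c : X) * g)⁻¹ = (c : X) * (g * x * g⁻¹) * (c : X)⁻¹ := by group
      _ = y := by rw [hg, hcy, mul_inv_cancel_right]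

end Cfsg.Agent.S5306
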