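import Cfsg.Statements.S5311
import Cfsg.Agent.FusSys.ComponentMap

set_option autoImplicit false
open Cfsg

namespace Cfsg.Agent.S5311

/-- The layer of a saturated fusion system F over a finite p-group S is characteristic in F: for every automorphism α of S that is an automorphism of F (α and its inverse are morphisms from F to F) and every layer E of F over T, α carries T onto T and, for every map φ of E with source P, the map induced by α on α(P) (that is, α ∘ φ ∘ α⁻¹) is a map of E. -/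
theorem result {Ω : Type*} [Group Ω] {S : Subgroup Ω} [Finite S] (p : ℕ) [Fact p.Prime] (hS : IsPGroup p S) (F : Cfsg.FusionSystem S) (hF : F.IsSaturated p)
    (α : ↥S ≃* ↥S) (hα : F.IsMorphism F (S.subtype.comp α.toMonoidHom))
    (hα' : F.IsMorphism F (S.subtype.comp α.symm.toMonoidHom))
    {T : Subgroup Ω} (E : Cfsg.FusionSystem T) (hE : E.IsLayerOf F p) :
    Cfsg.FusionSystem.imageAlong (S.subtype.comp α.toMonoidHom) T = T ∧
      ∀ (P : Subgroup Ω) (φ : ↥P →* Ω), φ ∈ E.Hom P →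
        ∀ φ' : ↥(Cfsg.FusionSystem.imageAlong (S.subtype.comp α.toMonoidHom) P) →* Ω,
          Cfsg.FusionSystem.InducedAlong (S.subtype.comp α.toMonoidHom) φ φ' →
            φ' ∈ E.Hom (Cfsg.FusionSystem.imageAlong (S.subtype.comp α.toMonoidHom) P) := by
    have h := Cfsg.Agent.FusSys.transp_of_morphism α hα hα'
    obtain ⟨hT, hE'⟩ := Cfsg.Agent.FusSys.layer_transp hS h hE
    have hTS : T ≤ S := hE.1.1.2.2.2.1.1
    refine ⟨(Cfsg.Agent.FusSys.tImg_eq_imageAlong hTS).trans hT, fun P φ hφ φ' hind => ?_⟩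
    obtain ⟨hP, hv, hP', heq⟩ := hind
    have h1 := (hE'.mor _ _ (Cfsg.Agent.FusSys.mor_extendFn hφ)).mono (Cfsg.Agent.FusSys.tImg_eq_imageAlong hP).le
    refine h1.hom_eq fun z => ?_
    obtain ⟨x, hx, hxz⟩ := (Cfsg.Agent.FusSys.mem_imageAlong hP).1 z.2
    have e1 : z = ⟨S.subtype.comp α.toMonoidHom ⟨x, hP hx⟩, hP' ⟨x, hx⟩⟩ :=
      Subtype.ext (hxz.symm.trans (Cfsg.Agent.FusSys.thFn_apply (hP hx)))
    rw [← hxz, hE'.left x ((E.le_of_mem hφ).1 hx), Cfsg.Agent.FusSys.extendFn_apply φ hx,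
      Cfsg.Agent.FusSys.thFn_apply (hv ⟨x, hx⟩), e1]
    exact heq ⟨x, hx⟩

end Cfsg.Agent.S5311
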