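import Cfsg.Statements.S5315
import Cfsg.Agent.FusSys.SolvableSys
import Cfsg.Agent.FusSys.ElemCrit
import Cfsg.Agent.FusSys.Hyperfocal

set_option autoImplicit false
open Cfsg

namespace Cfsg.Agent.S5315

/-- An analogue of Grün's lemma for fusion systems. Let F be a saturated fusion system over a finite p-group S that is perfect in the sense that its hyperfocal subgroup is all of S (F coincides with its p-residual subsystem). Then the second centre of F equals its centre: every fusion system over S/(Z(F) ∩ S) that is the factor system of F modulo its centre Z(F), read through the quotient map, has trivial centre. -/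
theorem result {Ω : Type*} [Group Ω] {S : Subgroup Ω} [Finite S] (p : ℕ) [Fact p.Prime] (hS : IsPGroup p S) (F : Cfsg.FusionSystem S) (hF : F.IsSaturated p)
    (hperf : F.hyperfocalSubgroup p = S)
    (E : Cfsg.FusionSystem (⊤ : Subgroup (↥S ⧸ (F.center).subgroupOf S)))
    (hE : F.IsFactorSystem F.center (QuotientGroup.mk' ((F.center).subgroupOf S)) E) : E.center = ⊥ := by
  classical
  open Cfsg.Agent.FusSys in
  set Z := F.center with hZdef
  open Cfsg.Agent.FusSys in
  have hZ : F.IsCentral Z := isCentral_center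
  open Cfsg.Agent.FusSys in
  have hZfix : ∀ P f, Mor F P f → ∀ z ∈ Z, z ∈ P → f z = z := fun P f hf z hz hzP => by
    obtain ⟨g, -, hgf, hgQ⟩ := (isCentral_iff.1 hZ).2 P f hf
    rw [← hgf z hzP, hgQ z hz]
  open Cfsg.Agent.FusSys in
  have hZsc : F.StronglyClosed Z := stronglyClosed_iff.2 ⟨hZ.1, fun R f hR hf x hx => by
    rw [hZfix R f hf x (hR hx) hx]; exact hR hx⟩
  have hZS : ∀ z ∈ Z, ∀ s ∈ S, s * z = z * s := fun z hz s hs =>
    F.center_le_centralizer hz s hs
  set θ := QuotientGroup.mk' (Z.subgroupOf S) with hθ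
  set Z2 := Cfsg.FusionSystem.preimageAlong θ E.center with hZ2def
  open Cfsg.Agent.FusSys in
  have hEc : E.IsCentral E.center := isCentral_center
  open Cfsg.Agent.FusSys in
  have hEfix : ∀ P f, Mor E P f → ∀ z ∈ E.center, z ∈ P → f z = z := fun P f hf z hz hzP => by
    obtain ⟨g, -, hgf, hgQ⟩ := (isCentral_iff.1 hEc).2 P f hf
    rw [← hgf z hzP, hgQ z hz]
  open Cfsg.Agent.FusSys in
  have hker := hE.2.1
  open Cfsg.Agent.FusSys in
  have hmod : ∀ P f, Mor F P f → ∀ x ∈ P, x ∈ Z2 → x⁻¹ * f x ∈ Z := by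
    intro P f hf x hx hxZ2
    obtain ⟨g, hg, hgf⟩ := exists_extend_mod hS hF hZsc hf
    obtain ⟨M, hM⟩ := hg.exists_iso
    obtain ⟨g', hg', hgg⟩ := exists_iso_image hE hZsc hM le_sup_right
    have h1 := hgg x (Subgroup.mem_sup_left hx)
    rw [hEfix _ _ hg'.1 _ (mem_pre.1 hxZ2).2
      ((mem_imageAlong hg.le).2 ⟨x, Subgroup.mem_sup_left hx, rfl⟩)] at h1
    have h2 : x⁻¹ * g x ∈ Z :=
      (thFn_eq_iff hker (hf.le hx) (hg.mem_S (Subgroup.mem_sup_left hx))).1 h1
    have h3 := Z.mul_mem h2 (Z.inv_mem (hgf x hx))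
    rwa [mul_inv_rev, inv_inv, ← mul_assoc, mul_inv_cancel_right] at h3
  open Cfsg.Agent.FusSys in
  have hZ2S : Z2 ≤ S := pre_le
  open Cfsg.Agent.FusSys in
  have hZZ2 : Z ≤ Z2 := le_preimageAlong hker hZ.1 _
  open Cfsg.Agent.FusSys in
  have hcomm : ∀ x ∈ Z2, ∀ s ∈ S, x⁻¹ * (s * x * s⁻¹) ∈ Z := fun x hx s hs =>
    hmod S _ (mor_conj le_rfl hs) x (hZ2S hx) hx
  open Cfsg.Agent.FusSys in
  have hZ2sc : F.StronglyClosed Z2 := stronglyClosed_iff.2 ⟨hZ2S, fun R f hR hf x hx => by
    have := Z2.mul_mem (hR hx) (hZZ2 (hmod R f hf x hx (hR hx)))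
    rwa [mul_inv_cancel_left] at this⟩
  open Cfsg.Agent.FusSys in
  have hZ2n : F.IsNormal Z2 := by
    let C' : ℕ → Subgroup Ω := fun i => if i = 0 then ⊥ else if i = 1 then Z else Z2
    have hC' : ∀ i, F.StronglyClosed (C' i) := fun i => by
      show F.StronglyClosed (if i = 0 then ⊥ else if i = 1 then Z else Z2)
      split_ifs
      exacts [stronglyClosed_of_isNormal isNormal_bot, hZsc, hZ2sc]
    refine isNormal_of_series hS hF hZ2sc (C := C') (n := 2) ?_ (by simp [C'])
      (fun P hc _ => ⟨fun α hα i _ x hx =>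
        apl_invariant_of_stronglyClosed (hC' i) hc.1 hα hx, fun δ _ _ x hx hx0 => ?_⟩)
      fun i hi a ha x hx => ?_
    · refine monotone_nat_of_le_succ fun i => ?_
      show (if i = 0 then ⊥ else if i = 1 then Z else Z2) ≤
        if i + 1 = 0 then ⊥ else if i + 1 = 1 then Z else Z2
      rcases i with - | - | i <;> simp [hZZ2]
    · have h1 : x = 1 := by simpa [C'] using hx0
      subst h1
      rw [apl_apply δ hx]
      exact congrArg Subtype.val (map_one δ)
    · obtain rfl | rfl : i = 0 ∨ i = 1 := by omega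
      · have hxZ : x ∈ Z := by simpa [C'] using hx
        simp [C', hZS x hxZ a (hZ2S ha)]
      · simpa [C'] using hcomm x (by simpa [C'] using hx) a (hZ2S ha)
  open Cfsg.Agent.FusSys in
  have hZ2cen : ∀ x ∈ Z2, ∀ s ∈ S, s * x = x * s := by
    intro x hx s hs
    have hfoc : F.focalSubgroup ≤ S ⊓ Subgroup.centralizer {x} := by
      refine le_inf (focal_le F) ((Subgroup.closure_le _).2 ?_)
      rintro _ ⟨P, φ, y, hφ, rfl⟩
      obtain ⟨g, hg, hgφ, -⟩ := (isNormal_iff.1 hZ2n).2 P _ (mor_extendFn hφ)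
      have hyS : (y : Ω) ∈ S := hg.le (Subgroup.mem_sup_left y.2)
      have hxm : x ∈ P ⊔ Z2 := Subgroup.mem_sup_right hx
      have hym : (y : Ω) ∈ P ⊔ Z2 := Subgroup.mem_sup_left y.2
      have hgy : g y = φ y := (hgφ y y.2).trans (extendFn_coe φ y)
      set z := x⁻¹ * g x with hzdef
      have hz : z ∈ Z := hmod _ _ hg x hxm hx
      set w := x⁻¹ * ((y : Ω) * x * (y : Ω)⁻¹) with hwdef
      have hw : w ∈ Z := hcomm x hx y hyS
      have hgx : g x = x * z := by rw [hzdef, mul_inv_cancel_left]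
      have hφS : φ y ∈ S := (F.le_of_mem hφ).2 y
      have h1 : g ((y : Ω) * x * (y : Ω)⁻¹) = φ y * x * (φ y)⁻¹ * z := by
        rw [hg.map_conj hym hxm, hgy, hgx]
        calc φ y * (x * z) * (φ y)⁻¹ = φ y * x * (z * (φ y)⁻¹) := by group
          _ = φ y * x * ((φ y)⁻¹ * z) := by rw [hZS z hz _ (S.inv_mem hφS)]
          _ = φ y * x * (φ y)⁻¹ * z := by group
      have e : (y : Ω) * x * (y : Ω)⁻¹ = x * w := by rw [hwdef, mul_inv_cancel_left]
      rw [e, hg.map_mul hxm (Subgroup.mem_sup_right (hZZ2 hw)), hgx,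
        hZfix _ _ hg w hw (Subgroup.mem_sup_right (hZZ2 hw)), mul_assoc x z w,
        hZS w hw z (hZ.1 hz), ← mul_assoc] at h1
      have h2 : (y : Ω) * x * (y : Ω)⁻¹ = φ y * x * (φ y)⁻¹ := e.trans (mul_right_cancel h1)
      rw [SetLike.mem_coe, Subgroup.mem_centralizer_singleton_iff]
      calc (y : Ω)⁻¹ * φ y * x = (y : Ω)⁻¹ * (φ y * x * (φ y)⁻¹) * φ y := by group
        _ = x * ((y : Ω)⁻¹ * φ y) := by rw [← h2]; group
    have hsx := (hyperfocal_le_focal.trans hfoc (hperf.ge hs)).2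
    exact Subgroup.mem_centralizer_singleton_iff.1 hsx
  open Cfsg.Agent.FusSys in
  have hfix : ∀ x ∈ Z2, ∀ P f, Mor F P f → CRel F (Subgroup.zpowers x) P f := by
    intro x hx
    have hxS : Subgroup.zpowers x ≤ S := Subgroup.zpowers_le.2 (hZ2S hx)
    have hC : Cfsg.FusionSystem.centralizerIn S (Subgroup.zpowers x) = S :=
      le_antisymm inf_le_left fun s hs => ⟨hs, Subgroup.mem_centralizer_iff.2 fun y hy => by
        obtain ⟨k, rfl⟩ := Subgroup.mem_zpowers_iff.1 hy
        exact (Commute.zpow_right (hZ2cen x hx s hs) k).symm⟩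
    have hM : SubRel F S (CRel F (Subgroup.zpowers x)) := by
      have h1 := subRel_cRel (F := F) hxS
      rwa [hC] at h1
    have hgen : ∀ R ≤ S, (pResidual p (F.autGroup R)).map (F.autGroup R).subtype ≤
        (subSys hM).autGroup R := by
      intro R hRS
      rw [pResidual, MonoidHom.map_closure, Subgroup.closure_le]
      rintro _ ⟨⟨α, hα⟩, hcop, rfl⟩
      have hcop' : (orderOf α).Coprime p := by
        rw [← Subgroup.orderOf_mk α hα]; exact hcop
      obtain ⟨g, hg, hgα, hgZ⟩ := (isNormal_iff.1 hZ2n).2 R _ (iso_apl hRS hα).1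
      set M := R ⊔ Z2 with hMdef
      have hMS : M ≤ S := sup_le hRS hZ2S
      haveI := finite_of_le hMS
      have hmaps : ∀ y ∈ M, g y ∈ M := fun y hy => hg.mem_of_sup
        (fun a ha => Subgroup.mem_sup_left (hgα a ha ▸ apl_mem α ha))
        (fun a ha => Subgroup.mem_sup_right ((hgZ _).2 ⟨a, ha, rfl⟩)) hy
      obtain ⟨β, hβ, hβx⟩ := (show Iso F M M g from ⟨hg, fun y =>
        ⟨fun hy => hg.surj_of_card hMS hmaps le_rfl hy,
          fun ⟨z, hz, hzy⟩ => hzy ▸ hmaps z hz⟩⟩).exists_mem_autGroup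
      haveI : Finite (MulAut M) := Finite.of_injective _ MulEquiv.toEquiv_injective
      obtain ⟨k, m, hm, hkm⟩ := Nat.exists_eq_pow_mul_and_not_dvd (orderOf_pos β).ne' p
        (Fact.out : p.Prime).ne_one
      haveI := finite_of_le hRS
      have hco : (p ^ k).Coprime (orderOf α) := hcop'.symm.pow_left k
      obtain ⟨j, hj⟩ := exists_pow_eq_self_of_coprime hco
      set β' := (β ^ p ^ k) ^ j with hβ'
      have hβ'F : β' ∈ F.autGroup M := Subgroup.pow_mem _ (Subgroup.pow_mem _ hβ _) _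
      have hβ'c : (orderOf β').Coprime p := by
        refine Nat.Coprime.coprime_dvd_left (?_ : orderOf β' ∣ m)
          ((Fact.out : p.Prime).coprime_iff_not_dvd.2 hm).symm
        refine orderOf_dvd_of_pow_eq_one ?_
        rw [hβ', ← pow_mul, ← pow_mul, show p ^ k * (j * m) = orderOf β * j by rw [hkm]; ring,
          pow_mul, pow_orderOf_eq_one, one_pow]
      have hpow : ∀ n : ℕ, ∀ y ∈ R, apl (β ^ n) y = apl (α ^ n) y := by
        intro n
        induction n with
        | zero =>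
          intro y hy
          rw [pow_zero, pow_zero, apl_one hy, apl_one (Subgroup.mem_sup_left hy)]
        | succ n ih =>
          intro y hy
          rw [pow_succ, pow_succ, apl_mul _ _ (Subgroup.mem_sup_left hy), apl_mul _ _ hy,
            hβx y (Subgroup.mem_sup_left hy), hgα y hy]
          exact ih _ (apl_mem α hy)
      have hβR : ∀ y ∈ R, apl β' y = apl α y := by
        intro y hy
        rw [hβ', ← pow_mul, hpow _ y hy, pow_mul, hj]
      have hm' := (iso_apl hMS hβ'F).1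
      have hxM : x ∈ M := Subgroup.mem_sup_right hx
      have hx' : apl β' x = x :=
        eq_of_fixed_quot (hS.to_le hMS) hβ'c hxM (hZfix _ _ hm' _ (hmod _ _ hm' x hxM hx)
          (M.mul_mem (M.inv_mem hxM) (apl_mem _ hxM)))
      refine Subgroup.subset_closure (((mor_subSys hM).2 ⟨(iso_apl hRS hα).1,
        fun y hy => hC.symm ▸ hRS hy, fun y hy => hC.symm ▸ hRS (apl_mem α hy), apl β',
        hm'.mono (sup_le le_sup_left (Subgroup.zpowers_le.2 hxM)), hβR, fun y hy => ?_⟩).hom_eq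
          fun y => (apl_coe α y).symm)
      obtain ⟨i, rfl⟩ := Subgroup.mem_zpowers_iff.1 hy
      rw [apl_apply β' (M.zpow_mem hxM i), show (⟨x ^ i, M.zpow_mem hxM i⟩ : M) = ⟨x, hxM⟩ ^ i from
        Subtype.ext (by simp), map_zpow, Subgroup.coe_zpow, ← apl_apply β' hxM, hx']
    refine residual_induction hS hF hM ?_ fun R hR α hα =>
      ((mor_subSys hM).1 (iso_apl hR (hgen R hR hα)).1).2
    intro α hα
    haveI := finite_of_le (le_refl S)
    rw [autGroup_eq_residual_sup hS hF
      ⟨le_rfl, fun Q _ => by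
        haveI := finite_of_le (normalizerIn_le S S)
        exact Subgroup.card_le_of_le (le_inf (normalizerIn_le S Q) ((normalizerIn_le S Q).trans Subgroup.le_normalizer))⟩] at hα
    exact ((mor_subSys hM).1 (iso_apl le_rfl
      ((sup_le (hgen S le_rfl) (autInducedBy_le_autGroup le_rfl)) hα)).1).2
  open Cfsg.Agent.FusSys in
  have hle : Z2 ≤ Z := by
    refine le_center ((isCentral_iff_singleton hS hF).2 ⟨hZ2S, fun x hx y ⟨φ, hφ, hφx⟩ => ?_⟩)
    obtain ⟨-, -, g, -, hgf, hgx⟩ := hfix x hx _ _ (mor_extendFn hφ)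
    rw [← hφx, ← extendFn_apply φ (Subgroup.mem_zpowers x), ← hgf x (Subgroup.mem_zpowers x)]
    exact hgx x (Subgroup.mem_zpowers x)
  refine (Subgroup.eq_bot_iff_forall _).2 fun q hq => ?_
  obtain ⟨s, rfl⟩ := QuotientGroup.mk'_surjective (Z.subgroupOf S) q
  refine (QuotientGroup.eq_one_iff s).2 (Subgroup.mem_subgroupOf.2 (hle ?_))
  exact ⟨s, hq, rfl⟩

end Cfsg.Agent.S5315
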