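import Cfsg.Statements.S5316
import Cfsg.Agent.FusSys.MaxClassCube
import Cfsg.Agent.FusSys.EssentialCube
import Cfsg.Agent.FusSys.EssentialSmall

set_option autoImplicit false
open Cfsg

namespace Cfsg.Agent.S5316

/-- Let p ≥ 5 be a prime, S a finite p-group of maximal class of order p^n with n ≥ 5 (nilpotency class n − 1), F a saturated fusion system over S, and E an F-essential subgroup that is not a pearl (not elementary abelian of order p² and not extraspecial of order p³ and exponent p). Then E has order at least p⁴. -/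
theorem result {Ω : Type*} [Group Ω] {S : Subgroup Ω} [Finite S] (p : ℕ) [Fact p.Prime] (hp : 5 ≤ p) (hS : IsPGroup p ↥S) (n : ℕ) (hn : Nat.card S = p ^ n) (h5 : 5 ≤ n)
    (hmax : Subgroup.lowerCentralSeries S (n - 2) ≠ ⊥) (F : Cfsg.FusionSystem S) (hF : F.IsSaturated p)
    (E : Subgroup Ω) (hE : F.IsEssential p E)
    (hnp : ¬ ((Nat.card ↥E = p ^ 2 ∧ Cfsg.IsElementaryAbelian p E) ∨ (Nat.card ↥E = p ^ 3 ∧ Cfsg.IsExtraspecial p ↥E ∧ Monoid.exponent ↥E = p))) :
    p ^ 4 ≤ Nat.card ↥E := by
    classical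
    have hpp : p.Prime := Fact.out
    open Cfsg.Agent.MaxClass.TwoStep in
    have h : MCl p n S := mcl_of_ne_bot hn (by omega) fun h1 => hmax (by
    rw [← Subgroup.top_subtype_lowerCentralSeries, h1, Subgroup.map_bot])
    have hES := hE.1.1
    haveI := Cfsg.Agent.FusSys.finite_of_le hES
    obtain ⟨k, hk⟩ := IsPGroup.iff_card.1 (hS.to_le hES)
    by_contra hlt
    have hk4 : k < 4 := by
      by_contra hge
      exact hlt (hk ▸ Nat.pow_le_pow_right hpp.pos (not_lt.1 hge))
    have hcen : Cfsg.FusionSystem.centralizerIn S E ≤ E := Cfsg.Agent.FusSys.centric_self hE.1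
    rcases (by omega : k ≤ 1 ∨ k = 2 ∨ k = 3) with h1 | rfl | rfl
    · -- too small to contain its centralizer
      have hEp : Nat.card E ≤ p := hk ▸ (Nat.pow_le_pow_right hpp.pos h1).trans (pow_one p).le
      set Z := (⊤ : Subgroup S).lowerCentralSeries (n - 2) with hZdef
      have hZc : ∀ z ∈ Z, ∀ g : S, Commute z g := fun z hz g =>
        h.commute_of_mem hz (j := 0) (Subgroup.mem_top g) (by omega)
      have hZcard : Nat.card Z = p := by
        rw [hZdef, h.cardL (by omega), show n - 1 - (n - 2) = 1 by omega, pow_one]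
      have hZE : Z.map S.subtype ≤ E := by
        rintro _ ⟨z, hz, rfl⟩
        exact hcen ⟨z.2, Subgroup.mem_centralizer_iff.2 fun a ha =>
          congrArg Subtype.val (hZc z hz ⟨a, hES ha⟩).symm.eq⟩
      have hEeq : Z.map S.subtype = E := Subgroup.eq_of_le_of_card_ge hZE
        (by rw [Cfsg.Agent.FusSys.card_map_subtype, hZcard]; exact hEp)
      have hall : (⊤ : Subgroup S) ≤ Z := fun g _ => by
        have hg : (g : Ω) ∈ E := hcen ⟨g.2, Subgroup.mem_centralizer_iff.2 fun a ha => by
          rw [← hEeq] at ha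
          obtain ⟨z, hz, rfl⟩ := ha
          exact congrArg Subtype.val (hZc z hz g).eq⟩
        rw [← hEeq] at hg
        exact Cfsg.Agent.FusSys.mem_map_iff.1 hg
      have h2 := Subgroup.card_le_of_le hall
      rw [Subgroup.card_top, hn, hZcard] at h2
      have := (Nat.pow_le_pow_iff_right hpp.one_lt).1 (h2.trans (pow_one p).ge)
      omega
    · exact hnp (Or.inl ⟨hk, (Cfsg.Agent.FusSys.elementary_and_sl2 hE hk).1⟩)
    · rcases Cfsg.Agent.FusSys.essential_cube hS hF hE hk with hel | ⟨-, hex, hpow⟩ | ⟨rfl, -⟩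
      · exact Cfsg.Agent.FusSys.no_elementary_cube hS hF hp h h5 hE
          (fun a ha b hb => congrArg Subtype.val (hel.1.is_comm.comm ⟨a, ha⟩ ⟨b, hb⟩)) hel.2 hk
      · refine hnp (Or.inr ⟨hk, hex, ?_⟩)
        have hd : Monoid.exponent E ∣ p :=
          Monoid.exponent_dvd_of_forall_pow_eq_one fun a => Subtype.ext (by simpa using hpow a a.2)
        refine ((Nat.dvd_prime hpp).1 hd).resolve_left fun h1 => ?_
        haveI := Monoid.exp_eq_one_iff.1 h1
        rw [Nat.card_unique] at hk
        have := Nat.one_lt_pow (show 3 ≠ 0 by omega) hpp.one_lt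
        omega
      · omega

end Cfsg.Agent.S5316
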