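import Cfsg.Statements.S5320
import Cfsg.Agent.S5317
import Cfsg.Agent.GroupSub.Data
import Cfsg.Agent.Fusion.PGroup
import Cfsg.Agent.GroupSub.SpFourModel

set_option autoImplicit false
open Cfsg

namespace Cfsg.Agent.S5320

open Matrix GroupSub GroupSub.SpFour

section

variable {F : Type*} [Field F]

local notation "SL2" => Matrix.SpecialLinearGroup (Fin 2) F
set_option quotPrecheck false in
local notation "G4" => ↥(Matrix.symplecticGroup (Fin 2) F)

/-- Square roots of `-1` in SL(2) are conjugate. -/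
theorem conj_sq [Fintype F] (hodd : Fintype.card F % 2 = 1) {c d : SL2} (hc : c * c = -1) (hd : d * d = -1) :
    ∃ P : SL2, P * c * P⁻¹ = d := by
  have ht : ∀ g : SL2, g * g = -1 → (g : Matrix (Fin 2) (Fin 2) F) 1 1 = -(g : Matrix (Fin 2) (Fin 2) F) 0 0 :=
    fun g hg => by
      have h := trace_zero hg
      rw [Matrix.trace_fin_two] at h
      linear_combination h
  obtain ⟨P₁, h₁⟩ := S5317.conj_trace_zero hodd c (ht c hc)
  obtain ⟨P₂, h₂⟩ := S5317.conj_trace_zero hodd d (ht d hd)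
  refine ⟨P₂ * P₁⁻¹, ?_⟩
  rw [show P₂ * P₁⁻¹ * c * (P₂ * P₁⁻¹)⁻¹ = P₂ * (P₁⁻¹ * (c * P₁)) * P₂⁻¹ by group, ← h₁,
    inv_mul_cancel_left, h₂, mul_inv_cancel_right]

/-- Equal up to the central involution. -/
def Pm (x y : G4) : Prop := x * y = y * x ∨ x * y = cc F * (y * x)

theorem pm_symm {x y : G4} (h : Pm x y) : Pm y x := by
  rcases h with h | h
  · exact Or.inl h.symm
  · exact Or.inr (by rw [h, ← mul_assoc (cc F) (cc F), cc_sq, one_mul])

theorem pm_self (x : G4) : Pm x x := Or.inl rfl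

theorem pm_mul {x y y' : G4} (h : Pm x y) (h' : Pm x y') : Pm x (y * y') := by
  have e : ∀ a b : G4, a * (cc F * b) = cc F * (a * b) := fun a b => by
    rw [← mul_assoc, ← cc_comm, mul_assoc]
  unfold Pm at *
  rw [← mul_assoc]
  rcases h with h | h <;> rcases h' with h' | h' <;> rw [h, mul_assoc]
  · left; rw [h', mul_assoc]
  · right; rw [h', e, mul_assoc]
  · right; rw [mul_assoc y x y', h', mul_assoc]
  · left; rw [mul_assoc y x y', h', e, ← mul_assoc (cc F), cc_sq, one_mul, mul_assoc]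

theorem pm_D {a b a' b' : SL2} (h : a * a' = a' * a ∧ b * b' = b' * b ∨
    a * a' = -(a' * a) ∧ b * b' = -(b' * b)) : Pm (D a b) (D a' b') := by
  rcases h with ⟨h1, h3⟩ | ⟨h1, h3⟩
  · left; rw [D_mul, D_mul, h1, h3]
  · right; rw [D_mul, D_mul, cc_mul_D, h1, h3]

variable {Q : Subgroup (Matrix.SpecialLinearGroup (Fin 2) F)} {u X : Matrix.SpecialLinearGroup (Fin 2) F}

theorem q8_sq (hQ : QOk Q u X) {x : SL2} (h : InQ8 u X x) : x * x = 1 ∨ x * x = -1 := by
  rcases h with rfl | rfl | rfl | rfl | rfl | rfl | rfl | rfl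
  all_goals try simp only [neg_mul_neg, mul_one, true_or]
  all_goals try simp only [hQ.uSq, hQ.XSq, or_true]
  all_goals
    right
    rw [mul_assoc u X (u * X), ← mul_assoc X u X, hQ.anti, neg_mul, mul_neg, mul_assoc u X X, hQ.XSq,
      mul_neg, mul_one, mul_neg, hQ.uSq]
    simp

theorem q8_comm (hQ : QOk Q u X) (h8 : ∀ x ∈ Q, InQ8 u X x) {a b : SL2} (ha : a ∈ Q) (hb : b ∈ Q) :
    a * b = b * a ∨ a * b = -(b * a) := by
  have hinv : ∀ x ∈ Q, x⁻¹ = x ∨ x⁻¹ = -x := fun x hx => by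
    rcases q8_sq hQ (h8 x hx) with h | h
    · exact Or.inl (inv_eq_of_mul_eq_one_right h)
    · exact Or.inr (inv_eq_of_mul_eq_one_right (by rw [mul_neg, h, neg_neg]))
  have hab := Q.mul_mem ha hb
  have h : (a * b)⁻¹ = b⁻¹ * a⁻¹ := _root_.mul_inv_rev a b
  rcases hinv _ hab with e | e <;> rcases hinv _ ha with ea | ea <;> rcases hinv _ hb with eb | eb <;>
    rw [e, ea, eb] at h <;> (try simp only [neg_mul, mul_neg, neg_neg] at h) <;>
    first
      | exact Or.inl h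
      | exact Or.inr h
      | exact Or.inl (neg_inj.1 h)
      | exact Or.inr (neg_eq_iff_eq_neg.1 h)

theorem q8_neg (hQ : QOk Q u X) {a : SL2} (ha : a ∈ Q) : -a ∈ Q := by
  simpa using Q.mul_mem hQ.negMem ha

/-- The elementary abelian section. -/
def Rw (Q : Subgroup SL2) (hneg : -1 ∈ Q) : Subgroup G4 :=
  Subgroup.closure ({g | ∃ a ∈ Q, g = D a a} ∪ {zz F, w F})

variable (F) in
theorem pm_w_zz : Pm (w F) (zz F) := by
  right; rw [w_zz, mul_assoc]

theorem D_a_neg (a : SL2) : D a (-a) = D a a * zz F := by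
  rw [zz, D_mul, mul_one, mul_neg_one]

theorem Rw_le (hQ : QOk Q u X) : Rw Q hQ.negMem ≤ Pw Q := by
  refine (Subgroup.closure_le _).2 ?_
  rintro g (⟨a, ha, rfl⟩ | rfl | rfl)
  · exact D_mem_Pw ha ha
  · exact D_mem_Pw Q.one_mem hQ.negMem
  · exact w_mem_Pw Q

theorem D_mem_Rw (hQ : QOk Q u X) {a b : SL2} (ha : a ∈ Q) (h : b = a ∨ b = -a) :
    D a b ∈ Rw Q hQ.negMem := by
  have h1 : D a a ∈ Rw Q hQ.negMem := Subgroup.subset_closure (Or.inl ⟨a, ha, rfl⟩)
  rcases h with rfl | rfl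
  · exact h1
  · rw [D_a_neg]
    exact (Rw Q hQ.negMem).mul_mem h1 (Subgroup.subset_closure (Or.inr (Or.inl rfl)))

theorem w_mem_Rw (hQ : QOk Q u X) : w F ∈ Rw Q hQ.negMem :=
  Subgroup.subset_closure (Or.inr (Or.inr rfl))

theorem pm_closure {x : G4} {s : Set G4} (h : ∀ y ∈ s, Pm x y) {y : G4} (hy : y ∈ Subgroup.closure s) :
    Pm x y := by
  induction hy using Subgroup.closure_induction with
  | mem y hy => exact h y hy
  | one => exact Or.inl (by rw [mul_one, one_mul])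
  | mul a b _ _ ha hb => exact pm_mul ha hb
  | inv a _ ha =>
    rcases ha with e | e
    · exact Or.inl ((show Commute x a from e).inv_right.eq)
    · refine Or.inr ?_
      calc x * a⁻¹ = a⁻¹ * (a * x) * a⁻¹ := by group
        _ = a⁻¹ * (cc F * (x * a)) * a⁻¹ := by
          rw [show a * x = cc F * (x * a) by rw [e, ← mul_assoc, cc_sq, one_mul]]
        _ = a⁻¹ * cc F * x := by group
        _ = cc F * (a⁻¹ * x) := by rw [← cc_comm, mul_assoc]

theorem pm_Rw (hQ : QOk Q u X) (h8 : ∀ x ∈ Q, InQ8 u X x) {x y : G4} (hx : x ∈ Rw Q hQ.negMem)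
    (hy : y ∈ Rw Q hQ.negMem) : Pm x y := by
  refine pm_closure (fun g hg => pm_symm (pm_closure (fun k hk => ?_) hx)) hy
  rcases hg with ⟨a, ha, rfl⟩ | rfl | rfl <;> rcases hk with ⟨b, hb, rfl⟩ | rfl | rfl
  · rcases q8_comm hQ h8 ha hb with e | e
    · exact pm_D (Or.inl ⟨e, e⟩)
    · exact pm_D (Or.inr ⟨e, e⟩)
  · exact pm_D (Or.inl ⟨by rw [mul_one, one_mul], by rw [mul_neg_one, neg_one_mul]⟩)
  · exact Or.inl (w_D a a).symm
  · exact pm_D (Or.inl ⟨by rw [mul_one, one_mul], by rw [mul_neg_one, neg_one_mul]⟩)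
  · exact pm_self _
  · exact pm_symm (pm_w_zz F)
  · exact Or.inl (w_D b b)
  · exact pm_w_zz F
  · exact pm_self _

theorem Rw_normal [Finite F] (hQ : QOk Q u X) (h8 : ∀ x ∈ Q, InQ8 u X x) :
    Pw Q ≤ Subgroup.normalizer ((Rw Q hQ.negMem : Subgroup G4) : Set G4) := by
  have hinv : ∀ x ∈ Q, x⁻¹ = x ∨ x⁻¹ = -x := fun x hx => by
    rcases q8_sq hQ (h8 x hx) with h | h
    · exact Or.inl (inv_eq_of_mul_eq_one_right h)
    · exact Or.inr (inv_eq_of_mul_eq_one_right (by rw [mul_neg, h, neg_neg]))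
  have key : ∀ d ∈ Q, ∀ e ∈ Q, D d e ∈ Subgroup.normalizer ((Rw Q hQ.negMem : Subgroup G4) : Set G4) := by
    intro d hd e he
    refine mem_normalizer_of_cj_le ?_
    rw [Rw, GroupSub.cj, MonoidHom.map_closure, Subgroup.closure_le]
    rintro _ ⟨g, hg, rfl⟩
    show D d e * g * (D d e)⁻¹ ∈ Rw Q hQ.negMem
    rw [D_inv]
    rcases hg with ⟨a, ha, rfl⟩ | rfl | rfl
    · rw [D_mul, D_mul]
      refine D_mem_Rw hQ (Q.mul_mem (Q.mul_mem hd ha) (Q.inv_mem hd)) ?_
      rcases q8_comm hQ h8 hd ha with h | h <;> rcases q8_comm hQ h8 he ha with h' | h' <;>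
        rw [h, h'] <;> simp
    · rw [zz, D_mul, D_mul, mul_one, mul_inv_cancel, mul_neg, mul_one, neg_mul, mul_inv_cancel]
      exact D_mem_Rw hQ Q.one_mem (Or.inr rfl)
    · rw [mul_assoc, w_D, ← mul_assoc, D_mul]
      refine (Rw Q hQ.negMem).mul_mem (D_mem_Rw hQ (Q.mul_mem hd (Q.inv_mem he)) ?_) (w_mem_Rw hQ)
      have h := hinv _ (Q.mul_mem hd (Q.inv_mem he))
      rwa [_root_.mul_inv_rev, inv_inv] at h
  rintro g ⟨a, ha, b, hb, rfl | rfl⟩
  · exact key a ha b hb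
  · exact (Subgroup.normalizer _).mul_mem (key a ha b hb) (Subgroup.le_normalizer (w_mem_Rw hQ))

theorem half_mem [Finite F] (h2 : (2 : F) ≠ 0) (hQ : QOk Q u X) (h8 : ∀ x ∈ Q, InQ8 u X x) {g h : G4}
    (hg : g * g = cc F) (hh : h * h = cc F) (hgR : g ∈ Rw Q hQ.negMem) (hhR : h ∈ Rw Q hQ.negMem) :
    half h2 hg hh ∈ Subgroup.normalizer ((Rw Q hQ.negMem : Subgroup G4) : Set G4) := by
  refine mem_normalizer_of_cj_le ?_
  rintro _ ⟨x, hx, rfl⟩
  show half h2 hg hh * x * (half h2 hg hh)⁻¹ ∈ Rw Q hQ.negMem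
  have hhx := (Rw Q hQ.negMem).mul_mem hhR hx
  obtain ⟨y, hy, e⟩ := half_conj h2 hg hh (pm_Rw hQ h8 hgR hx) (pm_Rw hQ h8 hgR hhx) (pm_Rw hQ h8 hhR hx)
  rw [e, mul_inv_cancel_right]
  rcases hy with rfl | rfl | rfl | rfl
  · exact hx
  · exact (Rw Q hQ.negMem).mul_mem hgR hx
  · exact hhx
  · exact (Rw Q hQ.negMem).mul_mem hgR hhx

/-- An element of `Pw Q` commuting with `Pw Q` modulo the centre. -/
theorem central_cases (h2 : (2 : F) ≠ 0) (hQ : QOk Q u X) {x : G4} (hx : x ∈ Pw Q)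
    (hc : ∀ y ∈ Pw Q, Pm x y) : x = 1 ∨ x = cc F ∨ x = zz F ∨ x = cc F * zz F := by
  have hne := negOne_ne (F := F) h2
  obtain ⟨a, ha, b, hb, rfl | rfl⟩ := hx
  · have hcm : ∀ d ∈ Q, a * d = d * a ∧ b * d = d * b := by
      intro d hd
      constructor
      · rcases hc _ (D_mem_Pw hd Q.one_mem) with e | e
        · rw [D_mul, D_mul] at e; exact (D_inj e).1
        · rw [D_mul, D_mul, cc_mul_D, mul_one, one_mul] at e
          have h := (D_inj e).2
          exact absurd (mul_left_cancel (show b * (-1) = b * 1 by rw [mul_neg, mul_one, ← h])) hne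
      · rcases hc _ (D_mem_Pw Q.one_mem hd) with e | e
        · rw [D_mul, D_mul] at e; exact (D_inj e).2
        · rw [D_mul, D_mul, cc_mul_D, mul_one, one_mul] at e
          have h := (D_inj e).1
          exact absurd (mul_left_cancel (show a * (-1) = a * 1 by rw [mul_neg, mul_one, ← h])) hne
    rcases eq_pm_one_of_comm h2 hQ.uSq hQ.anti (hcm u hQ.uMem).1 (hcm X hQ.XMem).1 with rfl | rfl <;>
      rcases eq_pm_one_of_comm h2 hQ.uSq hQ.anti (hcm u hQ.uMem).2 (hcm X hQ.XMem).2 with rfl | rfl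
    · exact Or.inl D_one
    · exact Or.inr (Or.inr (Or.inl rfl))
    · right; right; right; rw [zz, cc_mul_D, neg_neg]
    · exact Or.inr (Or.inl rfl)
  · exfalso
    have hu1 : u ≠ 1 := fun h => hne (by rw [← hQ.uSq, h, mul_one])
    have hu2 : u ≠ -1 := fun h => hne (by rw [← hQ.uSq, h, neg_mul_neg, mul_one])
    rcases hc _ (D_mem_Pw hQ.uMem Q.one_mem) with e | e <;>
      rw [mul_assoc, w_D, ← mul_assoc, D_mul, ← mul_assoc (D u 1), D_mul, mul_one, one_mul] at e
    · have h := (D_inj (mul_right_cancel e)).2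
      exact hu1 (mul_left_cancel (h.trans (mul_one b).symm))
    · rw [← mul_assoc, cc_mul_D] at e
      have h := (D_inj (mul_right_cancel e)).2
      exact hu2 (mul_left_cancel (h.trans (by rw [mul_neg, mul_one])))

theorem conjD_w (a : SL2) : D a 1 * w F * (D a 1)⁻¹ = D a a⁻¹ * w F := by
  rw [D_inv, inv_one, mul_assoc, w_D, ← mul_assoc, D_mul, mul_one, one_mul]

end

/-- For a finite field F of odd order, the 2-fusion system of the projective symplectic group PSp(4,F) on a Sylow 2-subgroup is simple. -/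
theorem result {F : Type*} [Field F] [Fintype F] (hodd : Fintype.card F % 2 = 1) (S : Sylow 2 (Cfsg.PSp 2 F)) :
    (Cfsg.groupFusionSystem (S : Subgroup (Cfsg.PSp 2 F))).IsSimple 2 := by
  have : Fact (Nat.Prime 2) := ⟨Nat.prime_two⟩
  have hF : Odd (Fintype.card F) := Nat.odd_iff.2 hodd
  have h2 := Classical.two_ne_zero_of_odd hF
  have hne := negOne_ne (F := F) h2
  obtain ⟨u, X, hQ⟩ := exists_qok hF (default : Sylow 2 (Matrix.SpecialLinearGroup (Fin 2) F))
  generalize (default : Sylow 2 (Matrix.SpecialLinearGroup (Fin 2) F)) = Q0 at hQ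
  set Q := (Q0 : Subgroup (Matrix.SpecialLinearGroup (Fin 2) F)) with hQdef
  obtain ⟨P, hP⟩ := exists_sylow_Pw hF Q0
  rw [← hQdef] at hP
  have hccne : cc F ≠ 1 := fun h => hne (D_inj (h.trans D_one.symm)).1
  have hcP : cc F ∈ Pw Q := cc_mem_Pw hQ.negMem
  have hzP : zz F ∈ Pw Q := D_mem_Pw Q.one_mem hQ.negMem
  set π := QuotientGroup.mk' (Subgroup.center (Matrix.symplecticGroup (Fin 2) F)) with hπ
  have hker : ∀ x y, π x = π y → y = x ∨ y = cc F * x := by
    intro x y h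
    have hc := QuotientGroup.eq.1 h
    have hcard : Nat.card (Subgroup.center (Matrix.symplecticGroup (Fin 2) F)) = 2 := by
      rw [Classical.card_center_symplectic one_le_two]
      exact Nat.gcd_eq_left (by omega)
    have hcc : cc F ∈ Subgroup.center (Matrix.symplecticGroup (Fin 2) F) :=
      Subgroup.mem_center_iff.2 fun g => (cc_comm g).symm
    obtain ⟨a, b, hab, huniv⟩ := Nat.card_eq_two_iff.1 hcard
    have hall : ∀ d ∈ Subgroup.center (Matrix.symplecticGroup (Fin 2) F), d = 1 ∨ d = cc F := by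
      intro d hd
      have m1 : (1 : Subgroup.center (Matrix.symplecticGroup (Fin 2) F)) ∈ ({a, b} : Set _) := by
        rw [huniv]; trivial
      have m2 : (⟨_, hcc⟩ : Subgroup.center (Matrix.symplecticGroup (Fin 2) F)) ∈ ({a, b} : Set _) := by
        rw [huniv]; trivial
      have m3 : (⟨d, hd⟩ : Subgroup.center (Matrix.symplecticGroup (Fin 2) F)) ∈ ({a, b} : Set _) := by
        rw [huniv]; trivial
      simp only [Set.mem_insert_iff, Set.mem_singleton_iff] at m1 m2 m3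
      rcases m1 with m1 | m1 <;> rcases m2 with m2 | m2 <;> rcases m3 with m3 | m3 <;>
        first
          | exact Or.inl (congrArg Subtype.val (m3.trans m1.symm))
          | exact Or.inr (congrArg Subtype.val (m3.trans m2.symm))
          | exact absurd (congrArg Subtype.val (m2.trans m1.symm)) hccne
    rcases hall _ hc with e | e
    · exact Or.inl (inv_mul_eq_one.1 e).symm
    · right; rw [cc_comm, ← e, mul_inv_cancel_left]
  have hπc : π (cc F) = 1 := (QuotientGroup.eq_one_iff _).2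
    (Subgroup.mem_center_iff.2 fun g => (cc_comm g).symm)
  have hmemP : ∀ x, π x ∈ (Pw Q).map π → x ∈ Pw Q := by
    rintro x ⟨y, hy, e⟩
    rcases hker _ _ e with rfl | rfl
    · exact hy
    · exact (Pw Q).mul_mem hcP hy
  have hpm : ∀ {x y}, π x * π y = π y * π x → Pm x y := by
    intro x y e
    rw [← map_mul, ← map_mul] at e
    rcases hker _ _ e with e | e
    · exact Or.inl e.symm
    · exact pm_symm (Or.inr e)
  let S₀ : Sylow 2 (Cfsg.PSp 2 F) := P.mapSurjective (QuotientGroup.mk'_surjective _)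
  have hS₀ : (S₀ : Subgroup (Cfsg.PSp 2 F)) = (Pw Q).map π := by
    rw [show (S₀ : Subgroup (Cfsg.PSp 2 F)) = (P : Subgroup _).map π from Sylow.coe_mapSurjective _ P, hP]
  have hzne : π (zz F) ≠ 1 := fun h => by
    rcases hker _ _ (h.trans (map_one π).symm) with e | e
    · exact hne (D_inj (show D (1 : Matrix.SpecialLinearGroup (Fin 2) F) (-1) = D 1 1 by rw [D_one]; exact e.symm)).2
    · rw [← D_one, zz, cc_mul_D] at e
      exact hne (D_inj e).1.symm
  refine GroupSub.isSimple_of_data S₀ ?_ (fun T hT => ?_) ?_ S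
  · rw [hS₀, Ne, Subgroup.eq_bot_iff_forall]
    exact fun h => hzne (h _ ⟨_, hzP, rfl⟩)
  · by_cases hT0 : T = ⊥
    · exact Or.inl hT0
    refine Or.inr (le_antisymm hT.1 ?_)
    have hnorm : (T.subgroupOf (S₀ : Subgroup (Cfsg.PSp 2 F))).Normal :=
      Subgroup.normal_subgroupOf_of_le_normalizer hT.le_normalizer
    have hTne : T.subgroupOf (S₀ : Subgroup (Cfsg.PSp 2 F)) ≠ ⊥ := fun h => by
      rw [Subgroup.subgroupOf_eq_bot, disjoint_iff, inf_eq_left.2 hT.1] at h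
      exact hT0 h
    have hne' := Fusion.pGroup_inf_center_ne_bot S₀.isPGroup' (T.subgroupOf _) hTne
    obtain ⟨⟨y, hyS⟩, ⟨hyT, hyC⟩, hy1⟩ := (Subgroup.bot_or_exists_ne_one _).resolve_left hne'
    have hyT' : y ∈ T := hyT
    have hy1' : y ≠ 1 := fun h => hy1 (Subtype.ext h)
    obtain ⟨x, hx, rfl⟩ : y ∈ (Pw Q).map π := hS₀ ▸ hyS
    have hcomm : ∀ v ∈ Pw Q, Pm x v := fun v hv => hpm
      (congrArg Subtype.val (Subgroup.mem_center_iff.1 hyC ⟨π v, hS₀ ▸ ⟨v, hv, rfl⟩⟩)).symm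
    have hzT : π (zz F) ∈ T := by
      rcases central_cases h2 hQ hx hcomm with rfl | rfl | rfl | rfl
      · exact absurd (map_one π) hy1'
      · exact absurd hπc hy1'
      · exact hyT'
      · rwa [map_mul, hπc, one_mul] at hyT'
    have hcl : ∀ a, π a ∈ T → ∀ g, g * a * g⁻¹ ∈ Pw Q → π (g * a * g⁻¹) ∈ T := by
      intro a ha g hg
      have e : π (g * a * g⁻¹) = π g * π a * (π g)⁻¹ := by rw [map_mul, map_mul, map_inv]
      rw [e]
      refine hT.2 _ ha _ ?_
      rw [← e, hS₀]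
      exact ⟨_, hg, rfl⟩
    set T' := T.comap π
    obtain ⟨M, hM⟩ := exists_conj_zz_w (F := F) h2
    have hwT : w F ∈ T' := by
      show π (w F) ∈ T
      rw [← hM]
      exact hcl _ hzT M (by rw [hM]; exact w_mem_Pw Q)
    have hinvT : ∀ a ∈ Q, D a a⁻¹ ∈ T' := by
      intro a ha
      have h : D a a⁻¹ * w F ∈ T' := by
        show π _ ∈ T
        rw [← conjD_w]
        exact hcl _ hwT _ (by
          rw [conjD_w]; exact (Pw Q).mul_mem (D_mem_Pw ha (Q.inv_mem ha)) (w_mem_Pw Q))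
      simpa [mul_assoc, w_sq] using T'.mul_mem h hwT
    have hfour : ∀ c ∈ Q, ∀ d ∈ Q, c * c = -1 → d * d = -1 → D c d ∈ T' := by
      intro c hc d hd hcc hdd
      have hinv2 : c⁻¹ * c⁻¹ = -1 := by
        rw [← _root_.mul_inv_rev, hcc]
        exact inv_eq_of_mul_eq_one_right (by rw [neg_mul_neg, mul_one])
      obtain ⟨R, hR⟩ := conj_sq hodd hinv2 hdd
      have e : D 1 R * D c c⁻¹ * (D 1 R)⁻¹ = D c d := by
        rw [D_inv, D_mul, D_mul, inv_one, one_mul, mul_one, hR]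
      show π (D c d) ∈ T
      rw [← e]
      exact hcl _ (hinvT c hc) _ (by rw [e]; exact D_mem_Pw hc hd)
    have hone : ∀ x ∈ Q, D 1 x ∈ T' := by
      intro x hx
      obtain ⟨c, hc, d, hd, hcc, hdd, rfl⟩ := hQ.prod x hx
      have hui : u⁻¹ * u⁻¹ = -1 := by
        rw [← _root_.mul_inv_rev, hQ.uSq]
        exact inv_eq_of_mul_eq_one_right (by rw [neg_mul_neg, mul_one])
      have h := T'.mul_mem (hfour u hQ.uMem c hc hQ.uSq hcc) (hfour u⁻¹ (Q.inv_mem hQ.uMem) d hd hui hdd)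
      rwa [D_mul, mul_inv_cancel] at h
    have hle : Pw Q ≤ T' := by
      rintro g ⟨a, ha, b, hb, rfl | rfl⟩
      all_goals
        have hab : D a b ∈ T' := by
          have ha' : D a 1 ∈ T' := by
            have h := T'.mul_mem (T'.mul_mem hwT (hone a ha)) hwT
            rwa [w_D, mul_assoc, w_sq, mul_one] at h
          have h := T'.mul_mem ha' (hone b hb)
          rwa [D_mul, mul_one, one_mul] at h
      · exact hab
      · exact T'.mul_mem hab hwT
    rw [hS₀]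
    exact Subgroup.map_le_iff_le_comap.2 hle
  intro γ hγ
  obtain ⟨g, rfl⟩ := QuotientGroup.mk'_surjective _ γ
  have hgN : ∀ x ∈ Pw Q, g * x * g⁻¹ ∈ Pw Q := fun x hx => hmemP _ (by
    rw [map_mul, map_mul, map_inv, ← hS₀]
    exact (Subgroup.mem_normalizer_iff.1 hγ _).1 (hS₀ ▸ ⟨x, hx, rfl⟩))
  have hgN' : ∀ x ∈ Pw Q, g⁻¹ * x * g ∈ Pw Q := fun x hx => hmemP _ (by
    rw [map_mul, map_mul, map_inv, ← hS₀]
    exact (Subgroup.mem_normalizer_iff''.1 hγ _).1 (hS₀ ▸ ⟨x, hx, rfl⟩))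
  set K := (S₀ : Subgroup (Cfsg.PSp 2 F)) ⊔ Subgroup.centralizer ((S₀ : Subgroup (Cfsg.PSp 2 F)) : Set _) ⊔
    Subgroup.closure (radGens 2 (S₀ : Subgroup (Cfsg.PSp 2 F))) with hK
  have hPK : ∀ x ∈ Pw Q, π x ∈ K := fun x hx =>
    Subgroup.mem_sup_left (Subgroup.mem_sup_left (hS₀ ▸ ⟨x, hx, rfl⟩))
  suffices main : ∀ A B, (∀ x ∈ Pw Q, D A B * x * (D A B)⁻¹ ∈ Pw Q) → π (D A B) ∈ K by
    show π g ∈ K
    have hx := hgN _ hzP
    have hgz : g * zz F * g⁻¹ = zz F ∨ g * zz F * g⁻¹ = cc F * zz F := by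
      have hcz : ∀ y ∈ Pw Q, Pm (zz F) y := by
        rintro y ⟨a, -, b, -, rfl | rfl⟩
        · exact pm_D (Or.inl ⟨by rw [mul_one, one_mul], by rw [mul_neg_one, neg_one_mul]⟩)
        · exact pm_mul (pm_D (Or.inl ⟨by rw [mul_one, one_mul], by rw [mul_neg_one, neg_one_mul]⟩))
            (pm_symm (pm_w_zz F))
      have hcomm : ∀ y ∈ Pw Q, Pm (g * zz F * g⁻¹) y := by
        intro y hy
        have hv := hcz _ (hgN' y hy)
        rcases hv with e | e
        · left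
          calc g * zz F * g⁻¹ * y = g * (zz F * (g⁻¹ * y * g)) * g⁻¹ := by group
            _ = g * ((g⁻¹ * y * g) * zz F) * g⁻¹ := by rw [e]
            _ = _ := by group
        · right
          calc g * zz F * g⁻¹ * y = g * (zz F * (g⁻¹ * y * g)) * g⁻¹ := by group
            _ = g * (cc F * ((g⁻¹ * y * g) * zz F)) * g⁻¹ := by rw [e]
            _ = g * cc F * g⁻¹ * (y * (g * zz F * g⁻¹)) := by group
            _ = _ := by rw [← cc_comm g, mul_inv_cancel_right]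
      have hinj : ∀ v, g * zz F * g⁻¹ = v → g * v = v * g → zz F = v := fun v e e' => by
        calc zz F = g⁻¹ * (g * zz F * g⁻¹) * g := by group
          _ = g⁻¹ * (v * g) := by rw [e, mul_assoc]
          _ = v := by rw [← e', inv_mul_cancel_left]
      rcases central_cases h2 hQ hx hcomm with e | e | e | e
      · exact absurd (congrArg π (hinj 1 e (by rw [mul_one, one_mul]))) (by rw [map_one]; exact hzne)
      · exact absurd (congrArg π (hinj _ e (cc_comm g).symm)) (by rw [hπc]; exact hzne)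
      · exact Or.inl e
      · exact Or.inr e
    rcases hgz with e | e
    · obtain ⟨A, B, rfl⟩ := exists_D_of_comm h2 (mul_inv_eq_iff_eq_mul.1 e)
      exact main A B hgN
    · have e2 : g * w F * zz F = zz F * (g * w F) := by
        rw [mul_assoc, w_zz, ← mul_assoc, ← mul_assoc, ← mul_assoc, ← cc_comm g, mul_assoc (cc F) g,
          mul_inv_eq_iff_eq_mul.1 e, ← mul_assoc, ← mul_assoc, cc_sq, one_mul]
      obtain ⟨A, B, hAB⟩ := exists_D_of_comm h2 e2
      have hm : ∀ x ∈ Pw Q, D A B * x * (D A B)⁻¹ ∈ Pw Q := fun x hx => by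
        rw [← hAB, show g * w F * x * (g * w F)⁻¹ = g * (w F * x * (w F)⁻¹) * g⁻¹ by group]
        exact hgN _ ((Pw Q).mul_mem ((Pw Q).mul_mem (w_mem_Pw Q) hx) ((Pw Q).inv_mem (w_mem_Pw Q)))
      have hg : g = D A B * w F := by rw [← hAB, mul_assoc, w_sq, mul_one]
      rw [hg, map_mul]
      exact K.mul_mem (main A B hm) (hPK _ (w_mem_Pw Q))
  intro A B hAB
  have hBN : B ∈ Subgroup.normalizer (Q : Set (Matrix.SpecialLinearGroup (Fin 2) F)) := by
    refine mem_normalizer_of_cj_le ?_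
    rintro _ ⟨x, hx, rfl⟩
    show B * x * B⁻¹ ∈ Q
    have h := hAB _ (D_mem_Pw Q.one_mem hx)
    rw [D_inv, D_mul, D_mul, D_mem_Pw_iff] at h
    exact h.2
  have hABQ : A * B⁻¹ ∈ Q := by
    have h := hAB _ (w_mem_Pw Q)
    rw [D_inv, mul_assoc, w_D, ← mul_assoc, D_mul] at h
    have h' := (Pw Q).mul_mem h (w_mem_Pw Q)
    rw [mul_assoc, w_sq, mul_one, D_mem_Pw_iff] at h'
    exact h'.1
  have hfac : D A B = D (A * B⁻¹) 1 * D B B := by rw [D_mul, inv_mul_cancel_right, one_mul]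
  rw [hfac, map_mul]
  refine K.mul_mem (hPK _ (D_mem_Pw hABQ Q.one_mem)) ?_
  rcases hQ.norm with hn | h8
  · have hB := mem_of_fix h2 Q0 hQ.XMem hQ.uSq hQ.anti hBN (hn B hBN)
    exact hPK _ (D_mem_Pw hB hB)
  obtain ⟨d, hd, hB⟩ := normalizer_eight h2 Q0 hQ h8 hBN
  suffices htau : π (D (tau h2 hQ.uSq hQ.XSq) (tau h2 hQ.uSq hQ.XSq)) ∈ K by
    rcases hB with rfl | rfl | rfl
    · exact hPK _ (D_mem_Pw hd hd)
    · rw [← D_mul, map_mul]; exact K.mul_mem (hPK _ (D_mem_Pw hd hd)) htau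
    · rw [← D_mul, ← D_inv, map_mul, map_inv]
      exact K.mul_mem (hPK _ (D_mem_Pw hd hd)) (K.inv_mem htau)
  set t := tau h2 hQ.uSq hQ.XSq with ht
  have htN := tau_mem_normalizer h2 hQ h8
  set R := Rw Q hQ.negMem with hR
  refine Subgroup.mem_sup_right (Subgroup.subset_closure ⟨?_, R.map π, ?_, ?_, ?_⟩)
  · refine mem_normalizer_of_cj_le ?_
    rintro _ ⟨y, hy, rfl⟩
    show π (D t t) * y * (π (D t t))⁻¹ ∈ (S₀ : Subgroup (Cfsg.PSp 2 F))
    rw [hS₀] at hy ⊢
    obtain ⟨x, hx, rfl⟩ := hy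
    refine ⟨D t t * x * (D t t)⁻¹, ?_, by rw [map_mul, map_mul, map_inv]⟩
    have hc : ∀ a ∈ Q, t * a * t⁻¹ ∈ Q := fun a ha => (Subgroup.mem_normalizer_iff.1 htN a).1 ha
    obtain ⟨a, ha, b, hb, rfl | rfl⟩ := hx
    · rw [D_inv, D_mul, D_mul]; exact D_mem_Pw (hc a ha) (hc b hb)
    · rw [D_inv, ← mul_assoc, D_mul, mul_assoc, w_D, ← mul_assoc, D_mul]
      exact (Pw Q).mul_mem (D_mem_Pw (hc a ha) (hc b hb)) (w_mem_Pw Q)
  · refine GroupSub.pCentric_of_normal S₀ ?_ ?_ ?_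
    · rw [hS₀]; exact Subgroup.map_mono (Rw_le hQ)
    · rw [hS₀]; exact (Subgroup.map_mono (Rw_normal hQ h8)).trans (Subgroup.le_normalizer_map _)
    · rintro y ⟨hyS, hyC⟩
      obtain ⟨x, hx, rfl⟩ : y ∈ (Pw Q).map π := hS₀ ▸ hyS
      have hw : Pm x (w F) := pm_symm (hpm (hyC _ ⟨_, w_mem_Rw hQ, rfl⟩))
      refine ⟨x, ?_, rfl⟩
      obtain ⟨a, ha, b, hb, rfl | rfl⟩ := hx
      · refine D_mem_Rw hQ ha ?_
        rcases hw with e | e
        · rw [w_D] at e; exact Or.inl (D_inj (mul_right_cancel e)).2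
        · rw [w_D, ← mul_assoc, cc_mul_D] at e; exact Or.inr (by rw [(D_inj (mul_right_cancel e)).1, neg_neg])
      · refine R.mul_mem (D_mem_Rw hQ ha ?_) (w_mem_Rw hQ)
        rcases hw with e | e
        · rw [← mul_assoc (w F), w_D, mul_assoc, mul_assoc, w_sq, mul_one, mul_one] at e
          exact Or.inl (D_inj e).1.symm.symm.symm
        · rw [← mul_assoc (w F), w_D, mul_assoc, mul_assoc, w_sq, mul_one, mul_one, cc_mul_D] at e
          exact Or.inr (by rw [(D_inj e).2])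
  · rw [hS₀]; exact (Subgroup.map_mono (Rw_normal hQ h8)).trans (Subgroup.le_normalizer_map _)
  · set C := Subgroup.closure {v : Cfsg.PSp 2 F | v ∈ Subgroup.normalizer ((R.map π : Subgroup _) : Set _) ∧
      ∃ k : ℕ, orderOf v = 2 ^ k} with hC
    have hmem : ∀ v, v ∈ Subgroup.normalizer (R : Set _) → v ^ 4 = 1 → π v ∈ C := by
      intro v hv h4
      refine Subgroup.subset_closure ⟨Subgroup.le_normalizer_map π ⟨v, hv, rfl⟩, ?_⟩
      obtain ⟨k, -, hk⟩ := (Nat.dvd_prime_pow Nat.prime_two).1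
        (orderOf_dvd_of_pow_eq_one (show π v ^ 2 ^ 2 = 1 by rw [← map_pow]; norm_num [h4]))
      exact ⟨k, hk⟩
    set J := zz F * w F with hJd
    have hJ : J * J = cc F := by
      rw [hJd, mul_assoc, ← mul_assoc (w F), w_zz, mul_assoc, w_sq, mul_one, ← mul_assoc, ← cc_comm,
        mul_assoc, zz_sq, mul_one]
    have hu' : D u u * D u u = cc F := by rw [D_mul, hQ.uSq]; rfl
    have hX' : D X X * D X X = cc F := by rw [D_mul, hQ.XSq]; rfl
    have hJR : J ∈ R := R.mul_mem (Subgroup.subset_closure (Or.inr (Or.inl rfl))) (w_mem_Rw hQ)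
    have hcm : ∀ v, D v v * J = J * D v v := fun v => by
      rw [hJd, ← mul_assoc, mul_assoc (zz F) (w F), w_D, ← mul_assoc, zz, D_mul, D_mul, mul_one, one_mul,
        mul_neg_one, neg_one_mul]
    have huR := D_mem_Rw hQ hQ.uMem (b := u) (Or.inl rfl)
    have hXR := D_mem_Rw hQ hQ.XMem (b := X) (Or.inl rfl)
    have hJ4 : J ^ 4 = 1 := by rw [show 4 = 2 * 2 from rfl, pow_mul, pow_two J, hJ, pow_two, cc_sq]
    have he := D_tau h2 hQ.uSq hQ.XSq hJ (hcm u) hu' hX'
    have he' : D t t = J⁻¹ * (half h2 hu' hJ * half h2 hJ hX') := by rw [he, inv_mul_cancel_left]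
    rw [he', map_mul, map_mul, map_inv]
    exact C.mul_mem (C.inv_mem (hmem _ (Subgroup.le_normalizer hJR) hJ4))
      (C.mul_mem (hmem _ (half_mem h2 hQ h8 hu' hJ huR hJR) (half_pow_four h2 hu' hJ (hcm u)))
        (hmem _ (half_mem h2 hQ h8 hJ hX' hJR hXR) (half_pow_four h2 hJ hX' (hcm X).symm)))

end Cfsg.Agent.S5320
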