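import Cfsg.Statements.S5331
import Cfsg.Agent.FusSys.ElemCrit
import Cfsg.Agent.FusSys.AbelianSimple
import Cfsg.Agent.FusSys.Generation

set_option autoImplicit false
open Cfsg

namespace Cfsg.Agent.S5331

/-- Let S be a finite abelian 2-group that is a direct product of cyclic groups of pairwise distinct orders 2^{a_1} < 2^{a_2} < ⋯ < 2^{a_n} (all a_i ≥ 1). Then every saturated fusion system over S is the inner one: its maps are exactly the conjugations by elements of S. -/
theorem result {Ω : Type*} [Group Ω] {S : Subgroup Ω} [Finite S] (n : ℕ) (a : Fin n → ℕ) (ha : StrictMono a) (ha1 : ∀ i, 1 ≤ a i) (e : ↥S ≃* Multiplicative ((i : Fin n) → ZMod (2 ^ a i))) (F : Cfsg.FusionSystem S) (hF : F.IsSaturated 2) (P : Subgroup Ω) : F.Hom P = (Cfsg.innerFusionSystem S).Hom P := by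
  classical
  have hS : IsPGroup 2 S := by
    refine IsPGroup.iff_card.2 ⟨∑ i, a i, ?_⟩
    rw [Nat.card_congr e.toEquiv, Nat.card_congr Multiplicative.toAdd, Nat.card_pi,
      ← Finset.prod_pow_eq_pow_sum]
    simp [Nat.card_zmod]
  have hab : ∀ x ∈ S, ∀ y ∈ S, x * y = y * x := fun x hx y hy =>
    congrArg Subtype.val (e.injective (by rw [map_mul, map_mul, mul_comm]) :
      (⟨x, hx⟩ : S) * ⟨y, hy⟩ = ⟨y, hy⟩ * ⟨x, hx⟩)
  haveI : Finite S := inferInstance
  -- the coordinates of a root of an involution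
  let co : S → (i : Fin n) → ZMod (2 ^ a i) := fun x => Multiplicative.toAdd (e x)
  have hco_pow : ∀ (x : S) (m : ℕ) i, co (x ^ m) i = m • co x i := fun x m i => by
    simp [co]
  have hM : ∀ (x : S) (j : ℕ), x ^ 2 = 1 → ((∃ z, z ^ 2 ^ j = x) ↔ ∀ i, a i ≤ j → co x i = 0) := by
    intro x j hx
    constructor
    · rintro ⟨z, rfl⟩ i hi
      rw [hco_pow, nsmul_eq_mul]
      have : ((2 ^ j : ℕ) : ZMod (2 ^ a i)) = 0 :=
        (ZMod.natCast_eq_zero_iff _ _).2 (pow_dvd_pow 2 hi) |> fun h => by simpa using h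
      simp [show ((2 : ZMod (2 ^ a i)) ^ j) = 0 by simpa using this]
    intro h
    have h2 : ∀ i, (2 : ℕ) ^ (a i - 1) ∣ (co x i).val := by
      intro i
      have h0 : (((2 : ℕ) * (co x i).val : ℕ) : ZMod (2 ^ a i)) = 0 := by
        rw [Nat.cast_mul, ZMod.natCast_zmod_val, ← nsmul_eq_mul, ← hco_pow, hx]
        simp [co]
      rw [ZMod.natCast_eq_zero_iff] at h0
      have h1 : (2 : ℕ) ^ (a i - 1) * 2 ∣ (co x i).val * 2 := by
        rw [pow_sub_one_mul (by have := ha1 i; omega), mul_comm (co x i).val]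
        exact h0
      exact Nat.dvd_of_mul_dvd_mul_right two_pos h1
    refine ⟨e.symm (Multiplicative.ofAdd fun i => (((co x i).val / 2 ^ j : ℕ) : ZMod (2 ^ a i))),
      e.injective ?_⟩
    refine Multiplicative.toAdd.injective (funext fun i => ?_)
    rw [map_pow, MulEquiv.apply_symm_apply]
    show (2 ^ j) • (((co x i).val / 2 ^ j : ℕ) : ZMod (2 ^ a i)) = co x i
    by_cases hi : a i ≤ j
    · rw [h i hi]; simp
    rw [nsmul_eq_mul, ← Nat.cast_mul, Nat.mul_div_cancel' ((pow_dvd_pow 2 (by omega)).trans (h2 i)),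
      ZMod.natCast_zmod_val]
  have hval : ∀ (x : S) i, x ^ 2 = 1 → co x i ≠ 0 → (co x i).val = 2 ^ (a i - 1) := by
    intro x i hx hne
    have h0 : (((2 : ℕ) * (co x i).val : ℕ) : ZMod (2 ^ a i)) = 0 := by
      rw [Nat.cast_mul, ZMod.natCast_zmod_val, ← nsmul_eq_mul, ← hco_pow, hx]
      simp [co]
    rw [ZMod.natCast_eq_zero_iff] at h0
    obtain ⟨c, hc⟩ := h0
    have hlt := ZMod.val_lt (co x i)
    have hpos : (co x i).val ≠ 0 := fun e => hne ((ZMod.val_eq_zero _).1 e)
    have hb : (2 : ℕ) ^ a i = 2 ^ (a i - 1) * 2 :=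
      (pow_sub_one_mul (by have := ha1 i; omega) 2).symm
    rcases c with - | - | c
    · omega
    · omega
    · exfalso; nlinarith
  have htop : IsPGroup 2 (F.autGroup S) := by
    refine Cfsg.Agent.FusSys.isPGroup_of_coprime_eq_one fun g hg => Subtype.ext ?_
    rw [← Subgroup.orderOf_coe] at hg
    set α : MulAut S := (g : MulAut S)
    have hfix : ∀ x : S, α (x⁻¹ * α x) = x⁻¹ * α x → α x = x := fun x hx => Subtype.ext (by
      rw [← Cfsg.Agent.FusSys.apl_coe]
      refine Cfsg.Agent.FusSys.eq_of_fixed_quot hS hg x.2 ?_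
      have h : ((x : Ω))⁻¹ * Cfsg.Agent.FusSys.apl α x = ((x⁻¹ * α x : S) : Ω) := by
        rw [Cfsg.Agent.FusSys.apl_coe]; rfl
      rw [h, Cfsg.Agent.FusSys.apl_coe, hx])
    set m := Finset.univ.sup a with hm
    have key : ∀ d, ∀ j, m ≤ j + d → ∀ x : S, x ^ 2 = 1 → (∀ i, a i ≤ j → co x i = 0) → α x = x := by
      intro d
      induction d with
      | zero =>
        intro j hj x hx h
        have : x = 1 := e.injective (by
          rw [map_one]
          refine Multiplicative.toAdd.injective (funext fun i => ?_)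
          exact h i ((Finset.le_sup (Finset.mem_univ i)).trans (show m ≤ j from hj)))
        rw [this, map_one]
      | succ d ih =>
        intro j hj x hx h
        refine hfix x (ih (j + 1) (by omega) _ ?_ ?_)
        · rw [(show Commute x⁻¹ (α x) from Subtype.ext (hab _ x⁻¹.2 _ (α x).2)).mul_pow, inv_pow, hx,
            ← map_pow, hx, map_one]
          group
        intro i hi
        have hαx : (α x) ^ 2 = 1 := by rw [← map_pow, hx, map_one]
        have hαh : ∀ i, a i ≤ j → co (α x) i = 0 := by
          obtain ⟨z, hz⟩ := (hM x j hx).2 h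
          exact (hM _ j hαx).1 ⟨α z, by rw [← map_pow, hz]⟩
        have hco : co (x⁻¹ * α x) i = -co x i + co (α x) i := by simp [co]
        rw [hco]
        rcases Nat.lt_or_ge (a i) (j + 1) with hlt | hge
        · rw [h i (by omega), hαh i (by omega)]; simp
        have hai : a i = j + 1 := by omega
        have huniq : ∀ i', a i' ≤ j + 1 → a i' ≤ j ∨ i' = i := fun i' h' => by
          rcases Nat.lt_or_ge (a i') (j + 1) with h1 | h1
          · exact Or.inl (by omega)
          · exact Or.inr (ha.injective (by omega))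
        by_cases h1 : co x i = 0
        · have hall : ∀ i', a i' ≤ j + 1 → co x i' = 0 := fun i' h' => by
            rcases huniq i' h' with h2 | rfl
            · exact h i' h2
            · exact h1
          rw [ih (j + 1) (by omega) x hx hall, h1]; simp
        by_cases h2 : co (α x) i = 0
        · have hall : ∀ i', a i' ≤ j + 1 → co (α x) i' = 0 := fun i' h' => by
            rcases huniq i' h' with h3 | rfl
            · exact hαh i' h3
            · exact h2
          rw [α.injective (ih (j + 1) (by omega) _ hαx hall)] at h2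
          exact absurd h2 h1
        rw [show co (α x) i = co x i from ZMod.val_injective _ (by
          rw [hval _ i hαx h2, hval _ i hx h1])]
        simp
    have hinv : ∀ k, ∀ x : S, x ^ 2 ^ k = 1 → α x = x := by
      intro k
      induction k with
      | zero => intro x hx; rw [show x = 1 by simpa using hx, map_one]
      | succ k ih =>
        intro x hx
        refine hfix x (key m 0 (by omega) _ ?_ fun i hi => absurd hi (by have := ha1 i; omega))
        rw [(show Commute x⁻¹ (α x) from Subtype.ext (hab _ x⁻¹.2 _ (α x).2)).mul_pow, inv_pow,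
          ← map_pow, ih (x ^ 2) (by rw [← pow_mul, ← pow_succ']; exact hx), inv_mul_cancel]
    refine MulEquiv.ext fun x => ?_
    obtain ⟨k, hk⟩ := hS x
    exact hinv k x hk
  haveI : Fact (Nat.Prime 2) := ⟨Nat.prime_two⟩
  rw [Cfsg.Agent.FusSys.eq_inner_of_no_essential hS hF htop ?_]
  intro P hP
  have hle : S ≤ P := fun s hs => Cfsg.Agent.FusSys.centric_self hP.1 ⟨hs,
    Subgroup.mem_centralizer_iff.2 fun x hx => hab x (hP.1.1 hx) s hs⟩
  exact absurd (le_antisymm hP.1.1 hle) (Cfsg.Agent.FusSys.essential_lt_top hS hF hP).ne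

end Cfsg.Agent.S5331
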