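import Cfsg.Statements.S5333
import Cfsg.Agent.FusSys.Alperin
import Cfsg.Agent.FusSys.Centric
import Cfsg.Agent.FusSys.Normal
import Cfsg.Agent.Fusion.PGroup
import Cfsg.Agent.FusSys.Generation

set_option autoImplicit false
open Cfsg

namespace Cfsg.Agent.S5333

/-- Let F′ ≤ F be saturated fusion systems over the same finite p-group S. Suppose that for every subgroup Z ≤ S of order p that is fully centralized in F′, the maps of F and of F′ with source Z coincide and the centralizer systems C_F(Z) and C_{F′}(Z) coincide. Then F = F′. -/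
theorem result {Ω : Type*} [Group Ω] {S : Subgroup Ω} [Finite S] (p : ℕ) [Fact p.Prime] (hS : IsPGroup p S) (F : Cfsg.FusionSystem S) (hF : F.IsSaturated p) (F' : Cfsg.FusionSystem S) (hF' : F'.IsSaturated p) (hle : F' ≤ F) (hZ : ∀ Z : Subgroup Ω, Z ≤ S → Nat.card Z = p → F'.IsFullyCentralized Z → F.Hom Z = F'.Hom Z ∧ ∀ (C C' : Cfsg.FusionSystem (Cfsg.FusionSystem.centralizerIn S Z)), F.IsCentralizerSystem Z C → F'.IsCentralizerSystem Z C' → ∀ P : Subgroup Ω, C.Hom P = C'.Hom P) (P : Subgroup Ω) : F.Hom P = F'.Hom P := by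
  suffices h : F ≤ F' from Set.Subset.antisymm (h P) (hle P)
  refine Cfsg.Agent.FusSys.le_of_aut_le hS hF fun R hR α hα => ?_
  have hRS : R ≤ S := hR.elim (fun e => e.le) fun e => e.1.1
  have hαF : Cfsg.Agent.FusSys.Iso F R R (Cfsg.Agent.FusSys.apl α) :=
    Cfsg.Agent.FusSys.iso_apl hRS hα
  suffices hm : Cfsg.Agent.FusSys.Mor F' R (Cfsg.Agent.FusSys.apl α) from
    Subgroup.subset_closure (hm.hom_eq fun x => (Cfsg.Agent.FusSys.apl_coe α x).symm)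
  by_cases hbot : (⊤ : Subgroup ↥S) = ⊥
  · have h1 : ∀ y ∈ S, y = 1 := fun y hy =>
      congrArg Subtype.val (Subgroup.mem_bot.1 (hbot ▸ Subgroup.mem_top (⟨y, hy⟩ : S)) : (⟨y, hy⟩ : S) = 1)
    exact (Cfsg.Agent.FusSys.mor_id hRS).congr fun x hx =>
      (h1 _ (hαF.1.mem_S hx)).trans (h1 x (hRS hx)).symm
  obtain ⟨Z₀, -, hZc, -, hZp⟩ := Cfsg.Agent.Fusion.exists_central_card_prime hS ⊤ hbot
  set Z : Subgroup Ω := Z₀.map S.subtype with hZdef
  have hZS : Z ≤ S := Subgroup.map_subtype_le _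
  have hZcard : Nat.card Z = p := (Subgroup.card_map_of_injective S.subtype_injective).trans hZp
  have hZcen : ∀ z ∈ Z, ∀ s ∈ S, s * z = z * s := by
    rintro _ ⟨z, hz, rfl⟩ s hs
    exact congrArg Subtype.val (Subgroup.mem_center_iff.1 (hZc hz) ⟨s, hs⟩)
  have hfc : F'.IsFullyCentralized Z := by
    haveI := Cfsg.Agent.FusSys.finite_of_le (Cfsg.Agent.FusSys.centralizerIn_le S Z)
    refine ⟨hZS, fun Q _ => Subgroup.card_le_of_le ?_⟩
    exact fun s hs => ⟨hs.1, Subgroup.mem_centralizer_iff.2 fun z hz => (hZcen z hz s hs.1).symm⟩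
  obtain ⟨hhom, hsys⟩ := hZ Z hZS hZcard hfc
  have hZR : Z ≤ R := by
    rcases hR with rfl | hR
    · exact hZS
    · exact fun z hz => Cfsg.Agent.FusSys.centric_self hR.1 ⟨hZS hz,
        Subgroup.mem_centralizer_iff.2 fun r hr => hZcen z hz r (hRS hr)⟩
  obtain ⟨Z', hZ', hZ'R⟩ := hαF.restrict hZR
  have hm1 : Cfsg.Agent.FusSys.Mor F' Z (Cfsg.Agent.FusSys.apl α) := by
    obtain ⟨φ, hφ, hφx⟩ := hZ'.1
    exact ⟨φ, hhom ▸ hφ, hφx⟩
  obtain ⟨k, hk, hkl, -⟩ := (show Cfsg.Agent.FusSys.Iso F' Z Z' (Cfsg.Agent.FusSys.apl α) from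
    ⟨hm1, hZ'.2⟩).symm
  obtain ⟨g, hg, hgk⟩ := (Cfsg.Agent.FusSys.isReceptive_iff.1
    (Cfsg.Agent.FusSys.receptive_of_fullyCentralized hS hF' hfc)).2 Z' k hk
  have hRn : R ≤ Cfsg.Agent.FusSys.nPhi S Z' k := by
    intro r hr
    refine Cfsg.Agent.FusSys.centralizerIn_le_nPhi ⟨hRS hr, Subgroup.mem_centralizer_iff.2 ?_⟩
    intro y hy
    obtain ⟨z, hz, rfl⟩ := hZ'.exists_eq hy
    obtain ⟨r', hr', rfl⟩ := hαF.exists_eq hr
    rw [← hαF.1.map_mul (hZR hz) hr', ← hαF.1.map_mul hr' (hZR hz), hZcen z hz r' (hRS hr')]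
  have hgR := hg.mono hRn
  have hmaps : ∀ x ∈ R, Cfsg.Agent.FusSys.apl α x ∈ R := fun x hx => hαF.mem hx
  have hγ : Cfsg.Agent.FusSys.Mor F R (g ∘ Cfsg.Agent.FusSys.apl α) :=
    hαF.1.comp (Cfsg.Agent.FusSys.mor_of_le hle hgR) hmaps
  have hinC : ∀ s ∈ S, s ∈ Cfsg.FusionSystem.centralizerIn S Z := fun s hs =>
    ⟨hs, Subgroup.mem_centralizer_iff.2 fun z hz => (hZcen z hz s hs).symm⟩
  have hC : Cfsg.Agent.FusSys.CRel F Z R (g ∘ Cfsg.Agent.FusSys.apl α) := by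
    refine ⟨fun x hx => hinC x (hRS hx), fun x hx => hinC _ (hγ.mem_S hx),
      g ∘ Cfsg.Agent.FusSys.apl α, by rwa [sup_eq_left.2 hZR], fun x _ => rfl, fun z hz => ?_⟩
    show g (Cfsg.Agent.FusSys.apl α z) = z
    rw [hgk _ (hZ'.mem hz)]
    exact hkl z hz
  have hCF := Cfsg.Agent.FusSys.isCentralizerSystem_centralizerSys (F := F) hZS
  have hCF' := Cfsg.Agent.FusSys.isCentralizerSystem_centralizerSys (F := F') hZS
  have heq := hsys _ _ hCF hCF' R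
  have h2 := (Cfsg.Agent.FusSys.mor_centralizerSystem hCF).2 ⟨hγ, hC⟩
  obtain ⟨φ, hφ, hφx⟩ := h2
  have hγ' : Cfsg.Agent.FusSys.Mor F' R (g ∘ Cfsg.Agent.FusSys.apl α) :=
    ((Cfsg.Agent.FusSys.mor_centralizerSystem hCF').1 ⟨φ, heq ▸ hφ, hφx⟩).1
  obtain ⟨R', hR'⟩ := hgR.exists_iso
  obtain ⟨g', hg', hg'l, -⟩ := hR'.symm
  exact (hγ'.comp hg'.1 fun x hx => hR'.mem (hmaps x hx)).congr
    fun x hx => (hg'l _ (hmaps x hx)).symm

end Cfsg.Agent.S5333
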