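import Cfsg.Statements.S5334
import Cfsg.Agent.FusSys.Generation

set_option autoImplicit false
open Cfsg

namespace Cfsg.Agent.S5334

/-- Let F′ ≤ F be saturated fusion systems over the same finite p-group S, let Q and R be F-centric subgroups, φ a map of F with source Q and values in R, and ψ a map of F with source R. If two of φ, ψ and the composite ψ ∘ φ are maps of F′ then so is the third. -/
theorem result {Ω : Type*} [Group Ω] {S : Subgroup Ω} [Finite S] (p : ℕ) [Fact p.Prime] (hS : IsPGroup p S) (F : Cfsg.FusionSystem S) (hF : F.IsSaturated p) (F' : Cfsg.FusionSystem S) (hF' : F'.IsSaturated p) (hle : F' ≤ F) (Q R : Subgroup Ω) (hQ : F.IsCentric Q) (hR : F.IsCentric R) (φ : ↥Q →* Ω) (hφ : φ ∈ F.Hom Q) (hφR : ∀ x : Q, φ x ∈ R) (ψ : ↥R →* Ω) (hψ : ψ ∈ F.Hom R) : (φ ∈ F'.Hom Q → ψ ∈ F'.Hom R → ψ.comp (φ.codRestrict R hφR) ∈ F'.Hom Q) ∧ (ψ ∈ F'.Hom R → ψ.comp (φ.codRestrict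 R hφR) ∈ F'.Hom Q → φ ∈ F'.Hom Q) ∧ (φ ∈ F'.Hom Q → ψ.comp (φ.codRestrict R hφR) ∈ F'.Hom Q → ψ ∈ F'.Hom R) := by
  refine ⟨fun h1 h2 => F'.comp_mem h1 h2 hφR, fun h2 h3 => ?_, fun h1 h3 => ?_⟩
  · -- `φ = ψ⁻¹ ∘ (ψ ∘ φ)`
    obtain ⟨χ, hχ, hχψ⟩ := F'.inv_mem h2
    have hv : ∀ x : Q, (ψ.comp (φ.codRestrict R hφR)) x ∈ ψ.range := fun x => ⟨_, rfl⟩
    have h := F'.comp_mem h3 hχ hv
    have e : χ.comp ((ψ.comp (φ.codRestrict R hφR)).codRestrict ψ.range hv) = φ :=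
      MonoidHom.ext fun x => hχψ (φ.codRestrict R hφR x)
    rwa [e] at h
  · -- `ψ` restricted to `φ(Q)` lies in `F'`
    obtain ⟨χ, hχ, hχφ⟩ := F'.inv_mem h1
    have hv : ∀ y : φ.range, χ y ∈ Q := by
      rintro ⟨_, x, rfl⟩
      rw [hχφ x]; exact x.2
    have h := F'.comp_mem hχ h3 hv
    have hPR : φ.range ≤ R := by
      rintro _ ⟨x, rfl⟩
      exact hφR x
    rw [Cfsg.Agent.FusSys.mem_hom_iff]
    refine Cfsg.Agent.FusSys.mor_of_restrict_centric hS hF hF' hle hPR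
      (Cfsg.Agent.FusSys.centric_of_isConj hQ ⟨φ, hφ, rfl⟩) (Cfsg.Agent.FusSys.mor_extendFn hψ)
      ⟨_, h, ?_⟩
    rintro ⟨y, x, rfl⟩
    show ψ (φ.codRestrict R hφR _) = _
    rw [Cfsg.Agent.FusSys.extendFn_apply ψ (hφR x)]
    refine congrArg ψ (Subtype.ext ?_)
    show φ _ = φ x
    exact congrArg φ (Subtype.ext (hχφ x))

end Cfsg.Agent.S5334
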