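import Cfsg.Statements.S5335
import Cfsg.Agent.FusSys.Generation

set_option autoImplicit false
open Cfsg

namespace Cfsg.Agent.S5335

/-- Let F′ ≤ F be saturated fusion systems over the same finite p-group S. If the maps of F and of F′ with source Q coincide for every F-centric subgroup Q that is minimal among F-centric subgroups, then F = F′. -/
theorem result {Ω : Type*} [Group Ω] {S : Subgroup Ω} [Finite S] (p : ℕ) [Fact p.Prime] (hS : IsPGroup p S) (F : Cfsg.FusionSystem S) (hF : F.IsSaturated p) (F' : Cfsg.FusionSystem S) (hF' : F'.IsSaturated p) (hle : F' ≤ F) (hmin : ∀ Q : Subgroup Ω, F.IsCentric Q → (∀ R : Subgroup Ω, R < Q → ¬ F.IsCentric R) → F.Hom Q = F'.Hom Q) (P : Subgroup Ω) : F.Hom P = F'.Hom P := by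
  open Cfsg.Agent.FusSys in
  have h : F ≤ F' := by
    refine le_of_aut_le hS hF fun R hR α hα => ?_
    have hRS : R ≤ S := hR.elim (fun e => e.le) fun e => e.1.1
    have hRc : F.IsCentric R := hR.elim (fun e => e ▸ centric_top F) fun e => e.1
    obtain ⟨Q, ⟨hQc, hQR⟩, hQm⟩ := (finite_subgroups_le (S := S)
      (fun Q => F.IsCentric Q ∧ Q ≤ R) fun Q h => h.1.1).exists_minimal ⟨R, hRc, le_rfl⟩
    have hf := (iso_apl hRS hα).1
    have hmin' := hmin Q hQc fun Q' hlt hc => hlt.not_ge (hQm ⟨hc, hlt.le.trans hQR⟩ hlt.le)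
    have hQ' : Mor F' Q (apl α) := by
      obtain ⟨φ, hφ, hφf⟩ := hf.mono hQR
      exact ⟨φ, hmin' ▸ hφ, hφf⟩
    exact Subgroup.subset_closure
      ((mor_of_restrict_centric hS hF hF' hle hQR hQc hf hQ').hom_eq fun x => (apl_coe α x).symm)
  exact Set.Subset.antisymm (h P) (hle P)

end Cfsg.Agent.S5335
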