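import Cfsg.Statements.S5336
import Cfsg.Agent.FusSys.RealizedNormal
import Cfsg.Agent.Core.PCore

set_option autoImplicit false
open Cfsg

namespace Cfsg.Agent.S5336

/-- Let G be a finite group with Sylow p-subgroup S whose fusion system F_S(G) is simple. If G has no nontrivial normal subgroup of order prime to p and no proper subgroup H containing S induces the same fusion system on S as G does, then G is a simple group. -/
theorem result {G : Type*} [Group G] [Finite G] (p : ℕ) [Fact p.Prime] (S : Sylow p G) (hsimple : (Cfsg.groupFusionSystem (S : Subgroup G)).IsSimple p) (hcore : Cfsg.pPrimeCore p G = ⊥) (hmin : ∀ (H : Subgroup G) (hSH : (S : Subgroup G) ≤ H), H ≠ ⊤ → ∃ P : Subgroup G, (Cfsg.fusionSystemOfSubgroup H (S : Subgroup G) hSH).Hom P ≠ (Cfsg.groupFusionSystem (S : Subgroup G)).Hom P) : IsSimpleGroup G := by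
  have hp := (Fact.out : p.Prime)
  haveI : Nontrivial G := by
    by_contra h
    rw [not_nontrivial_iff_subsingleton] at h
    exact hsimple.2.1 (Subsingleton.elim _ _)
  refine ⟨fun N hN => ?_⟩
  rcases hsimple.2.2 _ _ (Cfsg.Agent.FusSys.normalSub_isNormalIn S N) with h | ⟨h, hhom⟩
  · left
    have hs := (Cfsg.Agent.FusSys.sylow_inter_normal S N).2
    rw [h, Subgroup.relIndex_bot_left] at hs
    rw [← le_bot_iff, ← hcore]
    exact Cfsg.Agent.Core.le_pPrimeCore (hp.coprime_iff_not_dvd.2 hs).symm
  · right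
    by_contra hne
    have hSN : (S : Subgroup G) ≤ N := inf_eq_left.1 h
    obtain ⟨P, hP⟩ := hmin N hSN hne
    refine hP ?_
    rw [← hhom P]
    ext φ
    show (_ ∧ _ ∧ _) ↔ (_ ∧ _ ∧ _)
    simp only [inf_eq_left.2 hSN]

end Cfsg.Agent.S5336
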