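import Cfsg.Statements.S5338
import Cfsg.Agent.FusSys.Generation

set_option autoImplicit false
open Cfsg Cfsg.FusionSystem

namespace Cfsg.Agent.S5338

/-- Let F be a saturated fusion system over a finite p-group S and F′ ≤ F a saturated subsystem over all of S that is invariant under F in the conjugation sense: for every map φ of F with source Q and every map ψ of F′ between subgroups R ≤ Q (with values in Q), the transported map φψφ⁻¹ defined on φ(R) is again a map of F′. If moreover Aut_{F′}(S) = Aut_F(S), then F′ = F. -/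
theorem result {Ω : Type*} [Group Ω] {S : Subgroup Ω} [Finite S] (p : ℕ) [Fact p.Prime] (hS : IsPGroup p S) (F : Cfsg.FusionSystem S) (hF : F.IsSaturated p) (F' : Cfsg.FusionSystem S) (hF' : F'.IsSaturated p) (hle : F' ≤ F) (hinv : ∀ (Q : Subgroup Ω) (φ : ↥Q →* Ω), φ ∈ F.Hom Q → ∀ (R : Subgroup Ω) (hRQ : R ≤ Q) (ψ : ↥R →* Ω), ψ ∈ F'.Hom R → ∀ (hψQ : ∀ x : R, ψ x ∈ Q), ∃ χ ∈ F'.Hom ((R.subgroupOf Q).map φ), ∀ (x : R) (hx : φ ⟨(x : Ω), hRQ x.2⟩ ∈ (R.subgroupOf Q).map φ), χ ⟨φ ⟨(x : Ω), hRQ x.2⟩, hx⟩ = φ ⟨ψ x, hψQ x⟩) (htop : F'.autGroup S = F.autGroup S) (P : Subgroup Ω) : F'.Hom P = F.Hom P := by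
  open Cfsg.Agent.FusSys in
  have h : F ≤ F' := by
    refine le_of_aut_le' hS hF fun R hR hbig => ?_
    rcases hR with rfl | hR
    · exact htop.ge
    intro α hα
    have hRS : R ≤ S := hR.1.1
    haveI := finite_of_le hRS
    haveI : Finite (MulAut R) := Finite.of_injective _ MulEquiv.toEquiv_injective
    obtain ⟨-, U, hU⟩ := fullyAutomized_of_fullyNormalized hS hF hR.2.1
    let N : Subgroup (F.autGroup R) := (F'.autGroup R).subgroupOf (F.autGroup R)
    haveI : N.Normal := by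
      refine ⟨fun n hn a => ?_⟩
      have ha := iso_apl hRS a.2
      have hn' := iso_apl (F := F') hRS hn
      obtain ⟨φ, hφ, hφa⟩ := ha.1
      obtain ⟨ψ, hψ, hψn⟩ := hn'.1
      obtain ⟨χ, hχ, h⟩ := hinv R φ hφ R le_rfl ψ hψ fun x => by rw [hψn]; exact apl_mem _ x.2
      have e : (R.subgroupOf R).map φ = R := by
        ext y
        rw [Subgroup.subgroupOf_self, ← MonoidHom.range_eq_map]
        exact ⟨fun ⟨x, hx⟩ => hx ▸ (hφa x).symm ▸ apl_mem _ x.2,
          fun hy => ⟨⟨apl (a : MulAut R)⁻¹ y, apl_mem _ hy⟩, (hφa _).trans (apl_apl_inv _ hy)⟩⟩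
      show (a : MulAut R) * (n : MulAut R) * (a : MulAut R)⁻¹ ∈ F'.autGroup R
      refine Subgroup.subset_closure
        ((((mor_extendFn hχ).mono e.ge).congr fun y hy => ?_).hom_eq fun x => (apl_coe _ x).symm)
      have hx : apl (a : MulAut R)⁻¹ y ∈ R := apl_mem _ hy
      have hval : φ ⟨apl (a : MulAut R)⁻¹ y, hx⟩ = y := (hφa _).trans (apl_apl_inv _ hy)
      have hmem : φ ⟨apl (a : MulAut R)⁻¹ y, hx⟩ ∈ (R.subgroupOf R).map φ := by
        rw [hval, e]; exact hy
      have h1 := h ⟨_, hx⟩ hmem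
      rw [← extendFn_coe χ] at h1
      simp only [hval] at h1
      rw [h1, hφa, apl_mul _ _ hy, apl_mul _ _ (apl_mem _ hy)]
      exact (congrArg (apl (a : MulAut R)) (hψn ⟨_, hx⟩)).symm
    have hUN : (U : Subgroup (F.autGroup R)) ≤ N := by
      rw [hU]
      exact fun b hb => autInducedBy_le_autGroup hRS hb
    have hfr := U.normalizer_sup_eq_top' hUN
    have hmem : (⟨α, hα⟩ : F.autGroup R) ∈ (⊤ : Subgroup (F.autGroup R)) := Subgroup.mem_top _
    rw [← hfr, Subgroup.mem_sup_of_normal_right] at hmem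
    obtain ⟨b, hb, k, hk, hbk⟩ := hmem
    have e : α = (b : MulAut R) * k := (congrArg Subtype.val hbk).symm
    rw [e]
    refine mul_mem ?_ hk
    obtain ⟨γ, hγ, hγb⟩ := (isReceptive_iff.1 (receptive_of_fullyNormalized hS hF hR.2.1)).2 R _
      (iso_apl hRS b.2)
    have hle' : normalizerIn S R ≤ nPhi S R (apl (b : MulAut R)) := by
      intro t ht
      obtain ⟨c, hc, hcx⟩ := exists_mem_autInducedBy (P := R) ht.1 ht.2
      have hcU : (⟨c, autInducedBy_le_autGroup hRS hc⟩ : F.autGroup R) ∈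
          (U : Subgroup (F.autGroup R)) := (autInducedBy_subgroupOf_eq U hU).2 hc
      have h2 := (autInducedBy_subgroupOf_eq U hU).1 ((Subgroup.mem_normalizer_iff.1 hb _).1 hcU)
      obtain ⟨d, hd, -, hdx⟩ := mem_autInducedBy_iff.1 h2
      refine mem_nPhi.2 ⟨ht.1, ht.2, d, hd, fun x hx => ?_⟩
      rw [← hcx x hx, ← hdx _ (apl_mem _ hx)]
      show _ = apl ((b : MulAut R) * c * (b : MulAut R)⁻¹) _
      rw [apl_mul _ _ (apl_mem _ hx), apl_inv_apl _ hx, apl_mul _ _ hx]
    have hlt := card_lt_of_lt' (normalizerIn_le S R) (lt_normalizerIn hS (essential_lt_top hS hF hR))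
    have hγ' := (hbig _ γ hlt (hγ.mono hle')).mono (le_normalizerIn hRS)
    exact Subgroup.subset_closure
      ((hγ'.congr fun x hx => (hγb x hx).symm).hom_eq fun x => (apl_coe _ x).symm)
  exact Set.Subset.antisymm (hle P) (h P)

end Cfsg.Agent.S5338
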