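import Cfsg.Statements.S5340
import Cfsg.Agent.S5339

set_option autoImplicit false
open Cfsg

namespace Cfsg.Agent.S5340

/-- Let F be a saturated fusion system over a nontrivial finite p-group S such that S is generated by its elements of order p, any two subgroups of S of order p are F-conjugate, and Aut_F(S) consists of inner automorphisms only. Then F is simple. -/
theorem result {Ω : Type*} [Group Ω] {S : Subgroup Ω} [Finite S] (p : ℕ) [Fact p.Prime] (hS : IsPGroup p S) (F : Cfsg.FusionSystem S) (hF : F.IsSaturated p) (hS1 : S ≠ ⊥) (hgen : Subgroup.closure {x : Ω | x ∈ S ∧ orderOf x = p} = S) (htr : ∀ A B : Subgroup Ω, A ≤ S → B ≤ S → Nat.card A = p → Nat.card B = p → F.IsConj A B) (htop : F.autGroup S = Cfsg.Inn ↥S) : F.IsSimple p := by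
  refine S5339.result p hS F hF hS1 htop fun T hT => ?_
  by_cases hb : T = ⊥
  · exact Or.inl hb
  · refine Or.inr (le_antisymm hT.1 ?_)
    obtain ⟨hTS, hcl⟩ := hT
    have : Finite T := Finite.of_injective _ (Subgroup.inclusion_injective hTS)
    haveI : Nontrivial T := T.nontrivial_iff_ne_bot.2 hb
    have hTp : IsPGroup p T := hS.to_le hTS
    obtain ⟨k, hk⟩ := (IsPGroup.iff_card.1 hTp)
    have hdvd : p ∣ Nat.card T := by
      rw [hk]; refine dvd_pow_self p ?_
      rintro rfl
      simp only [pow_zero] at hk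
      exact absurd hk (Finite.one_lt_card).ne'
    obtain ⟨a, ha⟩ := exists_prime_orderOf_dvd_card' p hdvd
    conv_lhs => rw [← hgen]
    rw [Subgroup.closure_le]
    rintro x ⟨hxS, hx⟩
    have hAT : Subgroup.zpowers (a : Ω) ≤ T := Subgroup.zpowers_le.2 a.2
    obtain ⟨φ, hφ, hr⟩ := htr (Subgroup.zpowers (a : Ω)) (Subgroup.zpowers x) (hAT.trans hTS)
      (Subgroup.zpowers_le.2 hxS) (by rw [Nat.card_zpowers, Subgroup.orderOf_coe, ha])
      (by rw [Nat.card_zpowers, hx])
    have hxr : x ∈ φ.range := hr ▸ Subgroup.mem_zpowers x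
    obtain ⟨y, rfl⟩ := hxr
    exact hcl _ hAT φ hφ y

end Cfsg.Agent.S5340
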