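import Cfsg.Statements.S5342
import Cfsg.Agent.FusSys.ConstrainedWeakly

set_option autoImplicit false
open Cfsg

namespace Cfsg.Agent.S5342

/-- Let F be a constrained saturated fusion system over a finite p-group S. Then every subsystem of F that is subnormal in F (reached from F by a finite chain of successive normal subsystems) is constrained. -/
theorem result {Ω : Type*} [Group Ω] {S : Subgroup Ω} [Finite S] (p : ℕ) [Fact p.Prime] (hS : IsPGroup p S) (F : Cfsg.FusionSystem S) (hF : F.IsConstrained p) {T : Subgroup Ω} (E : Cfsg.FusionSystem T) (hE : E.IsSubnormalIn F p) : E.IsConstrained p := by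
  suffices H : ∀ {S T : Subgroup Ω} (F : Cfsg.FusionSystem S) (E : Cfsg.FusionSystem T) (q : ℕ),
      E.IsSubnormalIn F q → Fact q.Prime → Finite S → IsPGroup q S → F.IsConstrained q →
        E.IsConstrained q from H F E p hE inferInstance inferInstance hS hF
  intro S T F E q hsub
  induction hsub with
  | refl => exact fun _ _ _ h => h
  | step hsub hn ih =>
    intro _ _ hS hF
    have hU := hn.1.2.2.2.1.1
    exact ih inferInstance (Cfsg.Agent.FusSys.finite_of_le hU) (hS.to_le hU)
      (Cfsg.Agent.FusSys.constrained_of_weaklyNormal hS hF hn.1)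

end Cfsg.Agent.S5342
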