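import Cfsg.Statements.S5343
import Cfsg.Agent.FusSys.RealizedNormal
import Cfsg.Agent.Core.PCore

set_option autoImplicit false
universe u
open Cfsg

namespace Cfsg.Agent.S5343

/-- Let F be a simple saturated fusion system over a finite p-group S that is realized by some finite group on a Sylow p-subgroup. Then F is realized by a finite simple group on a Sylow p-subgroup. -/
theorem result {Ω : Type u} [Group Ω] {S : Subgroup Ω} [Finite S] (p : ℕ) [Fact p.Prime] (hS : IsPGroup p S) (F : Cfsg.FusionSystem S) (hsimple : F.IsSimple p) (hreal : F.IsRealizable p) : ∃ (G : Type u) (_ : Group G) (_ : Finite G) (_ : IsSimpleGroup G) (ι : ↥S →* G), F.IsRealizedBy ι ∧ ∃ T : Sylow p G, (T : Subgroup G) = ι.range := by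
  classical
  open Cfsg.Agent.FusSys in
  have hp := (Fact.out : p.Prime)
  have hex : ∃ n, ∃ (G : Type u) (_ : Group G) (_ : Finite G) (ι : ↥S →* G),
      F.IsRealizedBy ι ∧ (∃ T : Sylow p G, (T : Subgroup G) = ι.range) ∧ Nat.card G = n := by
    obtain ⟨G, _, _, ι, h1, h2⟩ := hreal
    exact ⟨_, G, _, ‹_›, ι, h1, h2, rfl⟩
  obtain ⟨G, _, _, ι, hr, ⟨T₀, hT₀⟩, hcard⟩ := Nat.find_spec hex
  have hleast : ∀ (H : Type u) [Group H] [Finite H] (κ : ↥S →* H), F.IsRealizedBy κ →
      (∃ T : Sylow p H, (T : Subgroup H) = κ.range) → Nat.card G ≤ Nat.card H :=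
    fun H _ _ κ h1 h2 => hcard ▸ Nat.find_min' hex ⟨H, _, inferInstance, κ, h1, h2, rfl⟩
  have hcore : Cfsg.pPrimeCore p G = ⊥ := by
    set K := Cfsg.pPrimeCore p G with hK
    have hinf : ∀ x : S, ι x ∈ K → x = 1 := fun x hx => hr.1 (by
      rw [map_one, ← orderOf_eq_one_iff]
      obtain ⟨k, hk⟩ := T₀.2 ⟨ι x, hT₀.ge ⟨x, rfl⟩⟩
      have h1 : orderOf (ι x) ∣ p ^ k := orderOf_dvd_of_pow_eq_one (congrArg Subtype.val hk)
      exact Nat.eq_one_of_dvd_coprimes (Cfsg.Agent.Core.coprime_card_pPrimeCore.pow_right k)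
        (by rw [← Subgroup.orderOf_mk _ hx]; exact orderOf_dvd_natCard _) h1)
    let κ : ↥S →* G ⧸ K := (QuotientGroup.mk' K).comp ι
    have hκ : Function.Injective κ := (injective_iff_map_eq_one κ).2 fun x hx =>
      hinf x ((QuotientGroup.eq_one_iff _).1 hx)
    have hkr : F.IsRealizedBy κ := by
      refine ⟨hκ, fun P hP φ hφ => ⟨fun h => ?_, ?_⟩⟩
      · obtain ⟨g, hg⟩ := (hr.2 P hP φ hφ).1 h
        exact ⟨g, fun x => congrArg (QuotientGroup.mk' K) (hg x)⟩
      rintro ⟨q, hq⟩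
      obtain ⟨g, rfl⟩ := QuotientGroup.mk'_surjective K q
      let f : P →* S :=
        { toFun := fun x => ⟨φ x, hφ x⟩
          map_one' := Subtype.ext φ.map_one
          map_mul' := fun a b => Subtype.ext (φ.map_mul a b) }
      let A := (ι.comp (Subgroup.inclusion hP)).range.map (MulAut.conj g).toMonoidHom
      let B := (ι.comp f).range
      have hA : IsPGroup p A :=
        ((T₀.2.to_le (show (ι.comp (Subgroup.inclusion hP)).range ≤ (T₀ : Subgroup G) by
          rintro _ ⟨x, rfl⟩; exact hT₀.ge ⟨_, rfl⟩)).map _)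
      have hBT : B ≤ (T₀ : Subgroup G) := by rintro _ ⟨x, rfl⟩; exact hT₀.ge ⟨_, rfl⟩
      have hB : Cfsg.Agent.FusSys.SylIn p B (B ⊔ K) := by
        refine ⟨le_sup_left, fun hd => Cfsg.Agent.Core.not_dvd_card_pPrimeCore (G := G) (p := p) ?_⟩
        have : B.relIndex (B ⊔ K) ∣ Nat.card K := by
          have h1 := Subgroup.relIndex_mul_relIndex (⊥ : Subgroup G) B (B ⊔ K) bot_le le_sup_left
          rw [Subgroup.relIndex_bot_left, Subgroup.relIndex_bot_left] at h1
          refine (Nat.mul_dvd_mul_iff_left (Nat.card_pos (α := B))).1 ?_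
          rw [h1]
          exact Cfsg.Agent.Core.card_sup_dvd_mul B K
        exact hd.trans this
      have hAB : ∀ a ∈ A, a ∈ B ⊔ K := by
        rintro _ ⟨_, ⟨x, rfl⟩, rfl⟩
        obtain ⟨k, hk, hk2⟩ := (QuotientGroup.mk'_eq_mk' K).1
          (show QuotientGroup.mk' K (ι (f x)) = QuotientGroup.mk' K
            (g * ι (Subgroup.inclusion hP x) * g⁻¹) from hq x)
        show g * ι (Subgroup.inclusion hP x) * g⁻¹ ∈ _
        rw [← hk2]
        exact Subgroup.mul_mem_sup ⟨x, rfl⟩ hk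
      obtain ⟨m, hm, hmA⟩ := Cfsg.Agent.FusSys.exists_conj_mem_of_sylIn (T₀.2.to_le hBT) hB hA hAB
      rw [Subgroup.mem_sup_of_normal_right] at hm
      obtain ⟨b, hb, k, hk, rfl⟩ := hm
      refine (hr.2 P hP φ hφ).2 ⟨k * g, fun x => ?_⟩
      have h1 : (k * g) * ι (Subgroup.inclusion hP x) * (k * g)⁻¹ ∈ B := by
        have h2 := B.mul_mem (B.mul_mem (B.inv_mem hb) (hmA _ ⟨_, ⟨x, rfl⟩, rfl⟩)) hb
        have e : b⁻¹ * (b * k * (MulAut.conj g).toMonoidHom ((ι.comp (Subgroup.inclusion hP)) x) *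
            (b * k)⁻¹) * b = (k * g) * ι (Subgroup.inclusion hP x) * (k * g)⁻¹ := by
          show b⁻¹ * (b * k * (g * ι (Subgroup.inclusion hP x) * g⁻¹) * (b * k)⁻¹) * b = _
          group
        rwa [e] at h2
      obtain ⟨y, hy⟩ := h1
      have h3 : κ (f x) = κ (f y) := by
        refine (hq x).trans ?_
        show QuotientGroup.mk' K g * QuotientGroup.mk' K (ι (Subgroup.inclusion hP x)) *
          (QuotientGroup.mk' K g)⁻¹ = QuotientGroup.mk' K ((ι.comp f) y)
        rw [hy, ← map_inv, ← map_mul, ← map_mul]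
        refine (QuotientGroup.mk'_eq_mk' K).2
          ⟨(g * ι (Subgroup.inclusion hP x) * g⁻¹)⁻¹ * ((k * g) * ι (Subgroup.inclusion hP x) *
            (k * g)⁻¹), ?_, by group⟩
        have e : (g * ι (Subgroup.inclusion hP x) * g⁻¹)⁻¹ * ((k * g) * ι (Subgroup.inclusion hP x) *
            (k * g)⁻¹) = ((g * ι (Subgroup.inclusion hP x) * g⁻¹)⁻¹ * k *
              (g * ι (Subgroup.inclusion hP x) * g⁻¹)⁻¹⁻¹) * k⁻¹ := by group
        rw [e]
        exact K.mul_mem (Cfsg.Agent.Core.pPrimeCore_normal.conj_mem k hk _) (K.inv_mem hk)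
      show ι (f x) = _
      rw [hκ h3]
      exact hy
    have hTk : ∃ T : Sylow p (G ⧸ K), (T : Subgroup (G ⧸ K)) = κ.range := by
      refine ⟨T₀.mapSurjective (QuotientGroup.mk'_surjective K), ?_⟩
      rw [Sylow.coe_mapSurjective, hT₀, MonoidHom.map_range]
    have h := hleast _ κ hkr hTk
    have h2 := Subgroup.card_eq_card_quotient_mul_card_subgroup K
    rw [← Subgroup.card_eq_one]
    have h3 : 0 < Nat.card K := Nat.card_pos
    have h4 : 0 < Nat.card (G ⧸ K) := Nat.card_pos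
    nlinarith
  have hS' : S ≠ ⊥ := hsimple.2.1
  haveI : Nontrivial G := by
    by_contra h
    rw [not_nontrivial_iff_subsingleton] at h
    exact hS' ((Subgroup.eq_bot_iff_forall S).2 fun x hx =>
      congrArg Subtype.val (hr.1 (Subsingleton.elim (ι ⟨x, hx⟩) (ι 1))))
  haveI : IsSimpleGroup G := by
    refine ⟨fun N hN => ?_⟩
    obtain ⟨E, hE, hmor⟩ := Cfsg.Agent.FusSys.exists_normal_of_normal hr T₀ hT₀ N
    rcases hsimple.2.2 _ _ hE with h | ⟨h, hhom⟩
    · left
      have hs := (Cfsg.Agent.FusSys.sylow_inter_normal T₀ N).2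
      have hb : (T₀ : Subgroup G) ⊓ N = ⊥ := by
        refine (Subgroup.eq_bot_iff_forall _).2 ?_
        rintro y ⟨hy, hyN⟩
        obtain ⟨x, rfl⟩ := hT₀.le hy
        have : (x : Ω) ∈ (⊥ : Subgroup Ω) := h ▸ ⟨x, hyN, rfl⟩
        rw [Subgroup.mem_bot, OneMemClass.coe_eq_one] at this
        rw [this, map_one]
      rw [hb, Subgroup.relIndex_bot_left] at hs
      rw [← le_bot_iff, ← hcore]
      exact Cfsg.Agent.Core.le_pPrimeCore (hp.coprime_iff_not_dvd.2 hs).symm
    · right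
      have hN' : ∀ x : S, ι x ∈ N := fun x => by
        obtain ⟨y, hy, hyx⟩ := h.ge x.2
        exact Subtype.ext hyx ▸ hy
      let κ : ↥S →* N := ι.codRestrict N hN'
      have hkr : F.IsRealizedBy κ := by
        refine ⟨fun a b hab => hr.1 (congrArg Subtype.val hab), fun P hP φ hφ => ⟨fun hφF => ?_, ?_⟩⟩
        · obtain ⟨-, -, -, n, hn, hnx⟩ := (hmor P _).1
            (Cfsg.Agent.FusSys.mor_extendFn ((hhom P).ge hφF))
          refine ⟨⟨n, hn⟩, fun x => Subtype.ext ?_⟩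
          have h1 := hnx ⟨x, hP x.2⟩ x.2
          rw [Cfsg.Agent.FusSys.extendFn_coe, Cfsg.Agent.FusSys.thFn_apply (hφ x)] at h1
          exact h1
        · rintro ⟨n, hn⟩
          exact (hr.2 P hP φ hφ).2 ⟨n, fun x => congrArg Subtype.val (hn x)⟩
      have hTk : ∃ T : Sylow p N, (T : Subgroup N) = κ.range := by
        refine ⟨T₀.subtype (fun y hy => ?_), ?_⟩
        · obtain ⟨x, rfl⟩ := hT₀.le hy
          exact hN' x
        · ext y
          rw [Sylow.coe_subtype, Subgroup.mem_subgroupOf, hT₀]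
          exact ⟨fun ⟨x, hx⟩ => ⟨x, Subtype.ext hx⟩, fun ⟨x, hx⟩ => ⟨x, congrArg Subtype.val hx⟩⟩
      have hc := hleast N κ hkr hTk
      exact Subgroup.eq_top_of_card_eq N (le_antisymm (Subgroup.card_le_card_group N) hc)
  exact ⟨G, inferInstance, inferInstance, inferInstance, ι, hr, T₀, hT₀⟩

end Cfsg.Agent.S5343
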