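import Cfsg.Statements.S5344
import Cfsg.Agent.ThreeTrans.SmallPerm

set_option autoImplicit false
open Cfsg

namespace Cfsg.Agent.S5344

/-- In a set of 3-transpositions, let a, b, c be members with a and c different and commuting, while neither a nor c commutes with b (a 3-string). Then there is an injective homomorphism from the symmetric group of degree 4 into the ambient group sending the transpositions (0 1), (1 2), (2 3) to a, b, c; so a, b, c generate a copy of the symmetric group of degree 4 in which they are transpositions. -/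
theorem result {G : Type*} [Group G] {D : Set G} (hD : Cfsg.IsThreeTranspositionSet D) {a b c : G} (ha : a ∈ D) (hb : b ∈ D) (hc : c ∈ D) (hac : a ≠ c) (hac' : Commute a c) (hab : ¬ Commute a b) (hbc : ¬ Commute b c) : ∃ φ : Equiv.Perm (Fin 4) →* G, Function.Injective φ ∧ φ (Equiv.swap 0 1) = a ∧ φ (Equiv.swap 1 2) = b ∧ φ (Equiv.swap 2 3) = c := by
  have hs := fun {x} (hx : x ∈ D) => ThreeTrans.mul_self hD hx
  let φ := ThreeTrans.SmallPerm.hom (hs ha) (hs hb) (hs hc)
    (ThreeTrans.braid hD hb ha (fun h => hab h.symm)) hac'.symm.eq (ThreeTrans.braid hD hc hb (fun h => hbc h.symm))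
  have h0 : φ (Equiv.swap 0 1) = a := ThreeTrans.SmallPerm.hom_gen _ _ _ _ _ _ 0
  have h1 : φ (Equiv.swap 1 2) = b := ThreeTrans.SmallPerm.hom_gen _ _ _ _ _ _ 1
  have h2 : φ (Equiv.swap 2 3) = c := ThreeTrans.SmallPerm.hom_gen _ _ _ _ _ _ 2
  refine ⟨φ, ?_, h0, h1, h2⟩
  rw [injective_iff_map_eq_one]
  intro σ hσ
  by_contra hne
  have key : ∀ σ : Equiv.Perm (Fin 4), σ ≠ 1 → ∃ g h : Equiv.Perm (Fin 4),
      g * σ * g⁻¹ * (h * σ * h⁻¹) = Equiv.swap 0 1 * Equiv.swap 2 3 := by decide +kernel
  obtain ⟨g, h, hgh⟩ := key σ hne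
  have := congrArg φ hgh
  simp only [map_mul, map_inv, hσ, h0, h2, mul_one, mul_inv_cancel, one_mul] at this
  exact hac ((eq_inv_of_mul_eq_one_left this.symm).trans (ThreeTrans.inv_eq hD hc))

end Cfsg.Agent.S5344
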