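import Cfsg.Statements.S5345
import Cfsg.Agent.ThreeTrans.Basic

set_option autoImplicit false
open Cfsg

namespace Cfsg.Agent.S5345

/-- Let D be a conjugation-invariant generating set of 3-transpositions of a finite group G and T a Sylow 2-subgroup of G. Then the members of D lying in T generate an abelian subgroup, and their number is the width of D (the largest number of pairwise commuting members of D). -/
theorem result {G : Type*} [Group G] [Finite G] {D : Set G} (hD : Cfsg.IsThreeTranspositionGroup D) (T : Sylow 2 G) : IsMulCommutative (Subgroup.closure {d : G | d ∈ D ∧ d ∈ T}) ∧ {d : G | d ∈ D ∧ d ∈ T}.ncard = Cfsg.commutingWidth D := by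
  classical
  have : Fact (Nat.Prime 2) := ⟨Nat.prime_two⟩
  have hTS := hD.1
  set F := {d : G | d ∈ D ∧ d ∈ T}
  have hFc : ∀ a ∈ F, ∀ b ∈ F, Commute a b := fun a ha b hb =>
    ThreeTrans.commute_of_mem_two hTS T.isPGroup' ha.1 hb.1 ha.2 hb.2
  refine ⟨Subgroup.isMulCommutative_closure fun a ha b hb => (hFc a ha b hb).eq, ?_⟩
  refine le_antisymm ?_ ?_
  · refine le_csSup ⟨Nat.card G, ?_⟩ ⟨F, fun a ha => ha.1, Set.toFinite _, hFc, rfl⟩
    rintro n ⟨E, -, -, -, rfl⟩
    exact (Set.ncard_le_ncard (Set.subset_univ E) Set.finite_univ).trans (Set.ncard_univ G).le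
  · refine csSup_le ⟨_, ∅, Set.empty_subset _, Set.finite_empty, by simp, rfl⟩ ?_
    rintro n ⟨E, hED, -, hEc, rfl⟩
    set A := Subgroup.closure E
    have hA : IsPGroup 2 A := by
      have hsq : ∀ m ∈ A, m ^ 2 = 1 ∧ ∀ c ∈ E, Commute m c := by
        intro m hm
        induction hm using Subgroup.closure_induction with
        | mem a ha => exact ⟨by rw [sq, ThreeTrans.mul_self hTS (hED ha)], hEc a ha⟩
        | one => exact ⟨one_pow 2, fun c _ => Commute.one_left c⟩
        | mul a b _ hb' ha hb =>
          have hle : Subgroup.closure E ≤ Subgroup.centralizer {a} := by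
            rw [Subgroup.closure_le]
            intro c hc'
            exact Subgroup.mem_centralizer_singleton_iff.2 (ha.2 c hc').symm.eq
          have hab : Commute a b := (Subgroup.mem_centralizer_singleton_iff.1 (hle hb')).symm
          exact ⟨by rw [hab.mul_pow, ha.1, hb.1, one_mul],
            fun c hc' => (ha.2 c hc').mul_left (hb.2 c hc')⟩
        | inv a _ ha => exact ⟨by rw [inv_pow, ha.1, inv_one], fun c hc' => (ha.2 c hc').inv_left⟩
      exact fun m => ⟨1, Subtype.ext (by simpa using (hsq m.1 m.2).1)⟩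
    obtain ⟨P, hAP⟩ := hA.exists_le_sylow
    obtain ⟨g, hg⟩ := MulAction.exists_smul_eq G P T
    refine Set.ncard_le_ncard_of_injOn (fun e => g * e * g⁻¹) ?_ ?_
    · intro e he
      refine ⟨hD.2.1 g e (hED he), ?_⟩
      rw [← hg]
      exact ⟨e, hAP (Subgroup.subset_closure he), rfl⟩
    · exact fun x _ y _ h => mul_left_cancel (mul_right_cancel h)

end Cfsg.Agent.S5345
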