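import Cfsg.Statements.S5346
import Cfsg.Agent.ThreeTrans.Relations

set_option autoImplicit false
open Cfsg

namespace Cfsg.Agent.S5346

/-- Let D be a conjugation-invariant generating set of 3-transpositions of a finite group G and d a member of D. Then D has width 1 (no two different members of D commute) if and only if G is the product of the subgroup generated by d with the largest normal 3-subgroup of G. -/
theorem result {G : Type*} [Group G] [Finite G] {D : Set G} (hD : Cfsg.IsThreeTranspositionGroup D) {d : G} (hd : d ∈ D) : Cfsg.commutingWidth D = 1 ↔ Subgroup.zpowers d ⊔ Cfsg.pCore 3 G = ⊤ := by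
  classical
  have : Fact (Nat.Prime 3) := ⟨Nat.prime_three⟩
  have hTS := hD.1
  have hc := hD.2.1
  set S := {n : ℕ | ∃ E : Set G, E ⊆ D ∧ E.Finite ∧ (∀ a ∈ E, ∀ b ∈ E, Commute a b) ∧ E.ncard = n}
  have hbdd : BddAbove S := ⟨Nat.card G, by
    rintro n ⟨E, -, -, -, rfl⟩
    exact (Set.ncard_le_ncard (Set.subset_univ E) Set.finite_univ).trans (Set.ncard_univ G).le⟩
  have hone : 1 ∈ S := ⟨{d}, Set.singleton_subset_iff.2 hd, Set.finite_singleton d,
    by simp [Commute.refl], Set.ncard_singleton d⟩
  constructor
  · intro h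
    have hnc : ∀ a ∈ D, ∀ b ∈ D, Commute a b → a = b := by
      intro a ha b hb hab
      by_contra hne
      have h2 : 2 ∈ S := ⟨{a, b}, Set.pair_subset_iff.2 ⟨ha, hb⟩, Set.toFinite _, by
        intro x hx y hy
        simp only [Set.mem_insert_iff, Set.mem_singleton_iff] at hx hy
        rcases hx with rfl | rfl <;> rcases hy with rfl | rfl
        exacts [Commute.refl _, hab, hab.symm, Commute.refl _], Set.ncard_pair hne⟩
      have := le_csSup hbdd h2
      change sSup S = 1 at h
      omega
    have hT : ThreeTrans.IsCubeSet D :=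
      { conj := hc
        ord := hTS.1
        cube := fun a ha b hb => by
          rcases eq_or_ne a b with rfl | hne
          · rw [ThreeTrans.mul_self hTS ha, one_pow]
          · exact ThreeTrans.cube_of_not_commute hTS ha hb fun hab => hne (hnc a ha b hb hab) }
    rw [eq_top_iff, ← hD.2.2, Subgroup.closure_le]
    intro e he
    have : d * (d * e) = e := ThreeTrans.mul_self_mul hTS hd e
    rw [← this]
    exact Subgroup.mul_mem_sup (Subgroup.mem_zpowers d) (hT.mul_mem_pCore hd he)
  · intro htop
    refine le_antisymm (csSup_le ⟨1, hone⟩ ?_) (le_csSup hbdd hone)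
    rintro n ⟨E, hED, hEf, hEc, rfl⟩
    rw [Set.ncard_le_one hEf]
    intro a ha b hb
    by_contra hne
    let π := QuotientGroup.mk' (Cfsg.pCore 3 G)
    have hmap : ∀ x : G, π x ∈ Subgroup.zpowers (π d) := by
      intro x
      have h1 : Subgroup.map π ⊤ = Subgroup.zpowers (π d) := by
        rw [← htop, Subgroup.map_sup, MonoidHom.map_zpowers,
          show (Cfsg.pCore 3 G).map π = ⊥ from QuotientGroup.map_mk'_self _, sup_bot_eq]
      rw [← h1]
      exact ⟨x, Subgroup.mem_top x, rfl⟩
    have hnot : ∀ x ∈ D, π x ≠ 1 := by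
      intro x hx h1
      exact ThreeTrans.ne_one hTS hx (ThreeTrans.eq_one_of_mem_pGroup Core.pCore_isPGroup
        ((QuotientGroup.eq_one_iff _).1 h1) (n := 2) (by rw [sq, ThreeTrans.mul_self hTS hx])
        (by norm_num))
    have hval : ∀ x ∈ D, π x = π d := by
      intro x hx
      obtain ⟨i, hi⟩ := Subgroup.mem_zpowers_iff.1 (hmap x)
      have h2 : π d ^ (2 : ℤ) = 1 := by
        rw [zpow_two, ← map_mul, ThreeTrans.mul_self hTS hd, map_one]
      rcases Int.even_or_odd' i with ⟨k, rfl | rfl⟩
      · rw [zpow_mul, h2, one_zpow] at hi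
        exact absurd hi.symm (hnot x hx)
      · rw [zpow_add, zpow_mul, h2, one_zpow, one_mul, zpow_one] at hi
        exact hi.symm
    have h1 : π (a * b) = 1 := by
      rw [map_mul, hval a (hED ha), hval b (hED hb), ← map_mul, ThreeTrans.mul_self hTS hd, map_one]
    have hab := ThreeTrans.eq_one_of_mem_pGroup Core.pCore_isPGroup ((QuotientGroup.eq_one_iff _).1 h1)
      ((ThreeTrans.sq_eq_one_iff hTS (hED ha) (hED hb)).2 (hEc a ha b hb)) (by norm_num)
    exact hne (by rw [mul_eq_one_iff_eq_inv.1 hab, ThreeTrans.inv_eq hTS (hED hb)])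

end Cfsg.Agent.S5346
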