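import Cfsg.Statements.S5347

set_option autoImplicit false
open Cfsg

namespace Cfsg.Agent.S5347

/-- Let D be a conjugation-invariant generating set of 3-transpositions of a finite group G, p a prime bigger than 3, and P a p-subgroup of G. If a member d of D normalizes P then d centralizes P. -/
theorem result {G : Type*} [Group G] [Finite G] {D : Set G} (hD : Cfsg.IsThreeTranspositionGroup D) {p : ℕ} (hp : p.Prime) (hp3 : 3 < p) (P : Subgroup G) (hP : IsPGroup p P) {d : G} (hd : d ∈ D) (hnorm : d ∈ Subgroup.normalizer (P : Set G)) : ∀ x ∈ P, Commute d x := by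
  intro x hx
  obtain ⟨⟨hord, h3⟩, hconj, -⟩ := hD
  have hdd : d * d = 1 := by
    have := pow_orderOf_eq_one d; rwa [hord d hd, pow_two] at this
  have hinv : d⁻¹ = d := inv_eq_of_mul_eq_one_right hdd
  have hc : (x * d * x⁻¹) * d ∈ P := by
    have h1 : d * x⁻¹ * d⁻¹ ∈ P := (Subgroup.mem_normalizer_iff.1 hnorm x⁻¹).1 (P.inv_mem hx)
    rw [hinv] at h1
    have := P.mul_mem hx h1
    simpa only [mul_assoc] using this
  set c := (x * d * x⁻¹) * d with hcdef
  have : c = 1 := by
    obtain ⟨k, hk⟩ := hP ⟨c, hc⟩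
    have hk' : c ^ (p ^ k) = 1 := by simpa using congrArg Subtype.val hk
    have key : ∀ m : ℕ, c ^ m = 1 → Nat.Coprime (p ^ k) m → c = 1 := fun m hm hco => by
      have h := pow_gcd_eq_one.2 ⟨hk', hm⟩
      rwa [hco.gcd_eq_one, pow_one] at h
    rcases h3 _ (hconj x d hd) d hd with h | h
    · exact key 2 h (Nat.Coprime.pow_left _ ((Nat.coprime_primes hp Nat.prime_two).2 (by omega)))
    · exact key 3 h (Nat.Coprime.pow_left _ ((Nat.coprime_primes hp Nat.prime_three).2 (by omega)))
  have h2 : x * d * x⁻¹ = d := by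
    rw [hcdef, ← eq_inv_iff_mul_eq_one, hinv] at this; exact this
  show d * x = x * d
  calc d * x = (x * d * x⁻¹) * x := by rw [h2]
    _ = x * d := by group

end Cfsg.Agent.S5347
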