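import Cfsg.Statements.S5348
import Cfsg.Agent.ThreeTrans.Relations

set_option autoImplicit false
open Cfsg

namespace Cfsg.Agent.S5348

/-- Let D be a conjugation-invariant generating set of 3-transpositions of a finite group G and d a member of D. Let V be the set of members of D commuting with exactly the same members of D as d, and W the set of members w of D such that the members of D other than w commuting with w are precisely the members of D other than d commuting with d. Then V = {d} or W = {d}. -/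
theorem result {G : Type*} [Group G] [Finite G] {D : Set G} (hD : Cfsg.IsThreeTranspositionGroup D) {d : G} (hd : d ∈ D) : {v : G | v ∈ D ∧ ∀ e ∈ D, Commute v e ↔ Commute d e} = {d} ∨ {w : G | w ∈ D ∧ {y : G | y ∈ D ∧ y ≠ d ∧ Commute d y} = {y : G | y ∈ D ∧ y ≠ w ∧ Commute w y}} = {d} := by
  have hTS := hD.1
  by_contra hne
  push Not at hne
  obtain ⟨hV, hW⟩ := hne
  rw [ThreeTrans.theta_eq_setOf] at hW
  have hdV : d ∈ {v : G | v ∈ D ∧ ∀ e ∈ D, Commute v e ↔ Commute d e} :=
    ⟨hd, fun e _ => Iff.rfl⟩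
  have hdW : d ∈ {w : G | w ∈ D ∧ ThreeTrans.Theta D d w} := ⟨hd, ThreeTrans.theta_refl d⟩
  obtain ⟨v, ⟨hv, hτ⟩, hvd⟩ : ∃ v ∈ {v : G | v ∈ D ∧ ∀ e ∈ D, Commute v e ↔ Commute d e}, v ≠ d := by
    by_contra h
    push Not at h
    exact hV (Set.eq_singleton_iff_unique_mem.2 ⟨hdV, h⟩)
  obtain ⟨w, ⟨hw, hθ⟩, hwd⟩ : ∃ w ∈ {w : G | w ∈ D ∧ ThreeTrans.Theta D d w}, w ≠ d := by
    by_contra h
    push Not at h
    exact hW (Set.eq_singleton_iff_unique_mem.2 ⟨hdW, h⟩)
  have h1 : Commute d v := (hτ v hv).1 (Commute.refl v)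
  have h2 : Commute w v := ((hθ v hv).1 ⟨hvd, h1⟩).2
  have h3 : Commute d w := (hτ w hw).1 h2.symm
  exact ThreeTrans.not_commute_of_theta hw hθ hwd.symm h3

end Cfsg.Agent.S5348
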