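import Cfsg.Statements.S5354
import Cfsg.Agent.ThreeTrans.Primitive

set_option autoImplicit false
open Cfsg

namespace Cfsg.Agent.S5354

/-- Let D be a conjugation-invariant generating set of 3-transpositions of the finite group G on which G acts primitively by conjugation, and suppose two different members of D commute (width at least 2). Then G has a quasisimple normal subgroup L of index at most 2 with the generalized Fitting subgroup of G equal to L times the centre, the commuting graph of D is connected, and for d in D the subgroup generated by the members of D commuting with d is a maximal D-subgroup: it is proper, and every subgroup generated by members of D that contains it is either it or G. -/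
theorem result {G : Type*} [Group G] [Finite G] {D : Set G} (hD : Cfsg.IsThreeTranspositionGroup D) (hprim : Cfsg.IsPrimitiveUnderConj D) (hw : ∃ a ∈ D, ∃ b ∈ D, a ≠ b ∧ Commute a b) : (∃ L : Subgroup G, L.Normal ∧ Cfsg.IsQuasisimple L ∧ L.index ≤ 2 ∧ Cfsg.generalizedFittingSubgroup G = L ⊔ Subgroup.center G) ∧ (Cfsg.commutingGraph D).Connected ∧ ∀ d ∈ D, Subgroup.closure {y : G | y ∈ D ∧ Commute d y} ≠ ⊤ ∧ ∀ H : Subgroup G, Cfsg.IsDSubgroup D H → Subgroup.closure {y : G | y ∈ D ∧ Commute d y} ≤ H → H = Subgroup.closure {y : G | y ∈ D ∧ Commute d y} ∨ H = ⊤ := by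
  have hcls := ThreeTrans.class_of_primitive hD hprim
  obtain ⟨h2, h3, hconn⟩ := ThreeTrans.primitive_facts hD hprim hw
  have hD2 : ∃ a ∈ D, ∃ b ∈ D, a ≠ b := by
    obtain ⟨a, ha, b, hb, hne, -⟩ := hw
    exact ⟨a, ha, b, hb, hne⟩
  obtain ⟨L, hLn, hL, -, hF⟩ := ThreeTrans.exists_quasisimple hcls hD2 h2 h3
  have hidx := ThreeTrans.index_le_two hcls hD2 h2 h3 hL hconn
  refine ⟨⟨L, hLn, hL, hidx, hF⟩, hconn, fun d hd => ⟨?_, fun H hH hle =>
    ThreeTrans.dsubgroup_maximal hcls hD2 h2 h3 hL hidx hd hH hle⟩⟩
  intro htop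
  obtain ⟨e, he, hde⟩ := ThreeTrans.exists_not_commute hcls hD2 hd
  have hle : Subgroup.closure {y : G | y ∈ D ∧ Commute d y} ≤ Subgroup.centralizer ({d} : Set G) := by
    rw [Subgroup.closure_le]
    exact fun y hy => Subgroup.mem_centralizer_singleton_iff.2 hy.2.eq.symm
  rw [htop] at hle
  exact hde ((Subgroup.mem_centralizer_singleton_iff.1 (hle (Subgroup.mem_top e))).symm)

end Cfsg.Agent.S5354
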