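import Cfsg.Statements.S5361
import Cfsg.Agent.ThreeTrans.Primitive

set_option autoImplicit false
open Cfsg

namespace Cfsg.Agent.S5361

open scoped commutatorElement

/-- Let D be a conjugacy class of 3-transpositions generating the finite group G, and suppose the centre of G is trivial and some two different members of D commute. Then the following are equivalent: (1) the commutator subgroup of G is simple (possibly of prime order); (2) G acts primitively on D by conjugation; (3) the largest normal 2-subgroup and the largest normal 3-subgroup of G are trivial and the commuting graph of D is connected. -/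
theorem result {G : Type*} [Group G] [Finite G] {D : Set G} (hD : Cfsg.IsThreeTranspositionClass D) (hZ : Subgroup.center G = ⊥) (hw : ∃ a ∈ D, ∃ b ∈ D, a ≠ b ∧ Commute a b) : (IsSimpleGroup (commutator G) ↔ Cfsg.IsPrimitiveUnderConj D) ∧ (Cfsg.IsPrimitiveUnderConj D ↔ (Cfsg.pCore 2 G = ⊥ ∧ Cfsg.pCore 3 G = ⊥ ∧ (Cfsg.commutingGraph D).Connected)) := by
  have hG := ThreeTrans.class_toGroup hD
  have hD2 : ∃ a ∈ D, ∃ b ∈ D, a ≠ b := by
    obtain ⟨a, ha, b, hb, hne, -⟩ := hw
    exact ⟨a, ha, b, hb, hne⟩
  obtain ⟨a, ha, b, hb, hne, hab⟩ := hw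
  have hT := hD.1
  have hcore : ∀ p : ℕ, p.Prime → Cfsg.pCore p G ≤ Subgroup.center G → Cfsg.pCore p G = ⊥ :=
    fun p _ h => le_bot_iff.1 (h.trans hZ.le)
  -- the three cores condition gives primitivity
  have h31 : (Cfsg.pCore 2 G = ⊥ ∧ Cfsg.pCore 3 G = ⊥ ∧ (Cfsg.commutingGraph D).Connected) →
      Cfsg.IsPrimitiveUnderConj D := by
    rintro ⟨h2, h3, hconn⟩
    obtain ⟨L, hLn, hL, -, -⟩ := ThreeTrans.exists_quasisimple hD hD2 (h2 ▸ bot_le) (h3 ▸ bot_le)
    exact ThreeTrans.primitive hD hD2 (h2 ▸ bot_le) (h3 ▸ bot_le) hL
      (ThreeTrans.index_le_two hD hD2 (h2 ▸ bot_le) (h3 ▸ bot_le) hL hconn)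
  have h23 : Cfsg.IsPrimitiveUnderConj D →
      (Cfsg.pCore 2 G = ⊥ ∧ Cfsg.pCore 3 G = ⊥ ∧ (Cfsg.commutingGraph D).Connected) := fun h => by
    obtain ⟨h2, h3, hconn⟩ := ThreeTrans.primitive_facts hG h ⟨a, ha, b, hb, hne, hab⟩
    exact ⟨hcore 2 Nat.prime_two h2, hcore 3 Nat.prime_three h3, hconn⟩
  -- primitivity gives a simple derived group
  have h21 : Cfsg.IsPrimitiveUnderConj D → IsSimpleGroup (commutator G) := fun h => by
    obtain ⟨h2, h3, hconn⟩ := h23 h
    have h2' : Cfsg.pCore 2 G ≤ Subgroup.center G := h2 ▸ bot_le
    have h3' : Cfsg.pCore 3 G ≤ Subgroup.center G := h3 ▸ bot_le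
    obtain ⟨L, hLn, hL, -, -⟩ := ThreeTrans.exists_quasisimple hD hD2 h2' h3'
    rw [ThreeTrans.commutator_eq hL (ThreeTrans.index_le_two hD hD2 h2' h3' hL hconn)]
    have hcen : Subgroup.center L = ⊥ := by
      apply Subgroup.map_injective L.subtype_injective
      rw [Subgroup.map_bot, Layer.map_center_eq_inf, eq_bot_iff, ← hZ]
      refine le_trans ?_ (ThreeTrans.fitting_le_center hD h2' h3')
      have : IsMulCommutative (L ⊓ Subgroup.centralizer (L : Set G) : Subgroup G) :=
        ⟨⟨fun u v => Subtype.ext (Subgroup.mem_centralizer_iff.1 v.2.2 u.1 u.2.1)⟩⟩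
      exact Core.le_fittingSubgroup_of_isMulCommutative
    have := hL.2
    exact ((QuotientGroup.quotientMulEquivOfEq hcen).trans QuotientGroup.quotientBot).isSimpleGroup_congr.1 this
  -- a simple derived group gives primitivity
  have h12 : IsSimpleGroup (commutator G) → Cfsg.IsPrimitiveUnderConj D := fun hs => by
    have hnonab : ∃ x y : commutator G, x * y ≠ y * x := by
      by_contra hcon
      push Not at hcon
      have hmem : ∀ e ∈ D, a * e ∈ commutator G := fun e he => ThreeTrans.mul_mem_commutator hD ha he
      set u : commutator G := ⟨a * b, hmem b hb⟩ with hu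
      have hu2 : orderOf u = 2 := by
        rw [← Subgroup.orderOf_coe]
        exact ThreeTrans.orderOf_mul_of_commute hT ha hb hab hne
      -- the derived group is generated by `u`
      let : CommGroup (commutator G) := { (inferInstance : Group (commutator G)) with mul_comm := hcon }
      have hz : Subgroup.zpowers u = ⊤ := by
        refine (IsSimpleGroup.eq_bot_or_eq_top_of_normal (Subgroup.zpowers u) inferInstance).resolve_left ?_
        intro h
        have h1 := Subgroup.zpowers_eq_bot.1 h
        rw [h1, orderOf_one] at hu2
        omega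
      have hcard : Nat.card (commutator G) = 2 := by
        rw [← hu2, ← Nat.card_zpowers, hz, Subgroup.card_top]
      have hcen : commutator G ≤ Subgroup.center G := by
        intro x hx
        rw [Subgroup.mem_center_iff]
        intro g
        by_cases hx1 : x = 1
        · simp [hx1]
        have hgx : g * x * g⁻¹ ∈ commutator G :=
          (inferInstance : (commutator G).Normal).conj_mem x hx g
        obtain ⟨p, q, hpq, huniv⟩ := Nat.card_eq_two_iff.1 hcard
        have key : ∀ s t : commutator G, s ≠ 1 → t ≠ 1 → s = t := by
          intro s t hs' ht'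
          have h1 : s = p ∨ s = q := by
            have := huniv.symm ▸ Set.mem_univ s
            simpa using this
          have h2 : t = p ∨ t = q := by
            have := huniv.symm ▸ Set.mem_univ t
            simpa using this
          have h3 : (1 : commutator G) = p ∨ (1 : commutator G) = q := by
            have := huniv.symm ▸ Set.mem_univ (1 : commutator G)
            simpa using this
          rcases h1 with rfl | rfl <;> rcases h2 with rfl | rfl <;> rcases h3 with h3 | h3 <;>
            first
              | rfl
              | exact absurd h3.symm hs'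
              | exact absurd h3.symm ht'
        have := congrArg Subtype.val (key ⟨g * x * g⁻¹, hgx⟩ ⟨x, hx⟩
          (fun h => hx1 (conj_eq_one_iff.1 (congrArg Subtype.val h)))
          (fun h => hx1 (congrArg Subtype.val h)))
        exact mul_inv_eq_iff_eq_mul.1 this
      have hab1 : a * b = 1 := by
        have := hcen (hmem b hb)
        rwa [hZ, Subgroup.mem_bot] at this
      exact hne (by rw [mul_eq_one_iff_eq_inv.1 hab1, ThreeTrans.inv_eq hT hb])
    have hqs : Cfsg.IsQuasisimple (commutator G) := by
      obtain ⟨x, y, hxy⟩ := hnonab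
      have hns : ¬ Group.IsSolvable (commutator G) := fun h =>
        hxy ((IsSimpleGroup.comm_iff_isSolvable (G := commutator G)).2 h x y)
      have : Nontrivial (commutator G) := hs.toNontrivial
      refine Layer.isQuasisimple_of_normal_cases ⟨?_⟩ fun N hN => ?_
      · rcases IsSimpleGroup.eq_bot_or_eq_top_of_normal (commutator (commutator G)) inferInstance
          with h | h
        · exfalso
          refine hns (Group.isSolvable_of_comm fun p q => ?_)
          refine commutatorElement_eq_one_iff_mul_comm.1 ?_
          have hm := Subgroup.commutator_mem_commutator (Subgroup.mem_top p) (Subgroup.mem_top q)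
          rwa [← commutator_def, h, Subgroup.mem_bot] at hm
        · exact h
      · rcases IsSimpleGroup.eq_bot_or_eq_top_of_normal N hN with h | h
        · exact Or.inr (h ▸ bot_le)
        · exact Or.inl h
    have hnsol : ∀ N : Subgroup G, N.Normal → Group.IsSolvable N → N ≤ Subgroup.center G := by
      intro N hN hNs
      refine fun g hg => ThreeTrans.mem_center_of_commute hD.2.2 fun e he => ?_
      have hmemN : ⁅g, e⁆ ∈ N ⊓ commutator G :=
        ⟨by
          rw [commutatorElement_def, show g * e * g⁻¹ * e⁻¹ = g * (e * g⁻¹ * e⁻¹) by group]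
          exact mul_mem hg (hN.conj_mem _ (inv_mem hg) e),
        Subgroup.commutator_mem_commutator (Subgroup.mem_top g) (Subgroup.mem_top e)⟩
      rcases Layer.qs_sub_normalized_cases hqs (inf_le_right : N ⊓ commutator G ≤ _)
        (fun k _ => by rw [Subgroup.normalizer_eq_top]; trivial) with h | h
      · exact absurd (Core.isSolvable_mono (K := N) hNs (h ▸ inf_le_left)) (Layer.qs_not_isSolvable hqs)
      · have hb' : N ⊓ commutator G = ⊥ := by
          apply le_bot_iff.1
          intro z hz
          have hmemG : (⟨z, hz.2⟩ : commutator G) ∈ Subgroup.center (commutator G) :=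
            Subgroup.mem_center_iff.2 fun w => Subtype.ext
              (Layer.commute_of_commutator_eq_bot h hz w.2).symm
          rcases IsSimpleGroup.eq_bot_or_eq_top_of_normal (Subgroup.center (commutator G))
            inferInstance with h' | h'
          · rw [h', Subgroup.mem_bot] at hmemG
            exact Subgroup.mem_bot.2 (congrArg Subtype.val hmemG)
          · exact absurd h' (Layer.qs_center_ne_top hqs)
        rw [hb', Subgroup.mem_bot] at hmemN
        exact commutatorElement_eq_one_iff_commute.1 hmemN
    have h2' : Cfsg.pCore 2 G ≤ Subgroup.center G := by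
      have : Fact (Nat.Prime 2) := ⟨Nat.prime_two⟩
      have := (Core.pCore_isPGroup (p := 2) (G := G)).isNilpotent
      exact hnsol _ inferInstance inferInstance
    have h3' : Cfsg.pCore 3 G ≤ Subgroup.center G := by
      have : Fact (Nat.Prime 3) := ⟨Nat.prime_three⟩
      have := (Core.pCore_isPGroup (p := 3) (G := G)).isNilpotent
      exact hnsol _ inferInstance inferInstance
    refine ThreeTrans.primitive hD hD2 h2' h3' hqs ?_
    -- the abelianisation is generated by one involution
    let π := QuotientGroup.mk' (commutator G)
    have htop : Subgroup.zpowers (π a) = ⊤ := by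
      rw [eq_top_iff, ← Subgroup.map_top_of_surjective π (QuotientGroup.mk'_surjective _), ← hD.2.2,
        MonoidHom.map_closure, Subgroup.closure_le]
      rintro - ⟨e, he, rfl⟩
      rw [show π e = π a from (QuotientGroup.eq.2 (by
        rw [ThreeTrans.inv_eq hT he]; exact ThreeTrans.mul_mem_commutator hD he ha))]
      exact Subgroup.mem_zpowers _
    rw [Subgroup.index_eq_card, ← Subgroup.card_top, ← htop, Nat.card_zpowers]
    refine orderOf_le_of_pow_eq_one two_pos ?_
    rw [sq, ← map_mul, ThreeTrans.mul_self hT ha, map_one]
  exact ⟨⟨h12, h21⟩, ⟨h23, h31⟩⟩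

end Cfsg.Agent.S5361
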