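import Cfsg.Statements.S5363

set_option autoImplicit false
open Cfsg

namespace Cfsg.Agent.S5363

/-- Let D be a conjugation-invariant set of involutions of a finite group G. Then every product of two members of D has odd order or order 2 if and only if, for every a in D and every b in D different from a and commuting with a, the members of D commuting with a b are exactly those commuting with both a and b. -/
theorem result {G : Type*} [Group G] [Finite G] {D : Set G} (hinv : ∀ d ∈ D, orderOf d = 2) (hconj : ∀ g : G, ∀ d ∈ D, g * d * g⁻¹ ∈ D) : (∀ a ∈ D, ∀ b ∈ D, Odd (orderOf (a * b)) ∨ orderOf (a * b) = 2) ↔ ∀ a ∈ D, ∀ b ∈ D, b ≠ a → Commute a b → {y : G | y ∈ D ∧ Commute (a * b) y} = {y : G | y ∈ D ∧ Commute a y} ∩ {y : G | y ∈ D ∧ Commute b y} := by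
  have hinv' : ∀ x ∈ D, x * x = 1 := fun x hx => by
    rw [← pow_two, ← hinv x hx, pow_orderOf_eq_one]
  have hi : ∀ x ∈ D, x⁻¹ = x := fun x hx => inv_eq_of_mul_eq_one_left (hinv' x hx)
  have hs : ∀ x ∈ D, ∀ y : G, x * (x * y) = y := fun x hx y => by rw [← mul_assoc, hinv' x hx, one_mul]
  have hcomm : ∀ x ∈ D, ∀ y ∈ D, (x * y) ^ 2 = 1 → Commute x y := by
    intro x hx y hy h
    rw [pow_two] at h
    have h1 := inv_eq_of_mul_eq_one_right h
    rw [mul_inv_rev, hi x hx, hi y hy] at h1
    exact h1.symm
  constructor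
  · intro hodd a ha b hb hba hab
    apply Set.ext
    intro e
    simp only [Set.mem_inter_iff, Set.mem_ofPred_eq]
    refine ⟨fun ⟨he, h⟩ => ?_, fun ⟨⟨he, h1⟩, ⟨_, h2⟩⟩ => ⟨he, h1.mul_left h2⟩⟩
    suffices Commute a e by
      refine ⟨⟨he, this⟩, he, ?_⟩
      have h2 := this.inv_left.mul_left h
      rwa [inv_mul_cancel_left] at h2
    by_contra hae
    have hbe : ¬ Commute b e := fun hh => by
      refine hae ?_
      have h2 := h.mul_left hh.inv_left
      rw [mul_inv_cancel_right] at h2
      exact h2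
    have ho : ∀ x ∈ D, ¬ Commute x e → Odd (orderOf (x * e)) := fun x hx hh =>
      (hodd x hx e he).resolve_right fun h2 => hh (hcomm x hx e he (h2 ▸ pow_orderOf_eq_one _))
    -- the two products have the same square
    have hsq : (a * e) ^ 2 = (b * e) ^ 2 := by
      have h3 : e * (a * b) * e = a * b := by rw [← h.eq, mul_assoc, hinv' e he, mul_one]
      have h4 : a * e * a * e * (b * e * b * e)⁻¹ = 1 := by
        have h5 : a * e * a * e * (b * e * b * e)⁻¹ = a * (e * (a * b) * e) * b := by
          simp only [mul_inv_rev, hi a ha, hi b hb, hi e he, mul_assoc, hs e he]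
        rw [h5, h3, ← mul_assoc, hinv' a ha, one_mul, hinv' b hb]
      rw [pow_two, pow_two, ← mul_assoc, ← mul_assoc]
      exact mul_inv_eq_one.1 h4
    have hsame : ∀ x : G, Odd (orderOf x) → x = (x ^ 2) ^ ((orderOf (x ^ 2) + 1) / 2) := by
      intro x hx
      have h1 : orderOf (x ^ 2) = orderOf x :=
        Nat.Coprime.orderOf_pow (Nat.coprime_two_right.2 hx)
      obtain ⟨k, hk⟩ := hx
      rw [h1, ← pow_mul, hk, show 2 * ((2 * k + 1 + 1) / 2) = (2 * k + 1) + 1 by omega, pow_succ,
        ← hk, pow_orderOf_eq_one, one_mul]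
    have h6 : a * e = b * e := by
      rw [hsame _ (ho a ha hae), hsq, ← hsame _ (ho b hb hbe)]
    exact hba (mul_right_cancel h6).symm
  · intro H a ha b hb
    by_contra hne
    push Not at hne
    obtain ⟨heven, h2⟩ := hne
    obtain ⟨k, hk⟩ := Nat.not_odd_iff_even.1 heven
    have hpos := orderOf_pos (a * b)
    have hnc : ¬ Commute a b := fun hh => by
      have : (a * b) ^ 2 = 1 := by rw [hh.mul_pow, pow_two, pow_two, hinv' a ha, hinv' b hb, one_mul]
      have := Nat.le_of_dvd (by norm_num) (orderOf_dvd_of_pow_eq_one this)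
      omega
    set z := (a * b) ^ k with hz
    have hz1 : z ≠ 1 := fun h => by
      have := Nat.le_of_dvd (by omega) (orderOf_dvd_of_pow_eq_one h)
      omega
    have hza : ∀ j : ℕ, a * (a * b) ^ j = (b * a) ^ j * a := by
      intro j
      induction j with
      | zero => simp
      | succ j ih => rw [pow_succ, ← mul_assoc, ih, pow_succ]; simp only [mul_assoc, hinv' a ha, hs a ha, mul_one]
    have hzb : ∀ j : ℕ, b * (a * b) ^ j = (b * a) ^ j * b := by
      intro j
      induction j with
      | zero => simp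
      | succ j ih => rw [pow_succ, ← mul_assoc, ih, pow_succ]; simp only [mul_assoc]
    have hinvab : ∀ j : ℕ, (b * a) ^ j = ((a * b) ^ j)⁻¹ := fun j => by
      rw [← inv_pow, mul_inv_rev, hi a ha, hi b hb]
    have hmem : a * z ∈ D := by
      obtain ⟨i, rfl | rfl⟩ := Nat.even_or_odd' k
      · rw [hz, two_mul, pow_add, ← mul_assoc, hza, hinvab]
        simpa using hconj ((a * b) ^ i)⁻¹ a ha
      · rw [hz, pow_succ', two_mul, pow_add, ← mul_assoc, ← mul_assoc, ← mul_assoc,
          hinv' a ha, one_mul, hzb, hinvab]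
        simpa using hconj ((a * b) ^ i)⁻¹ b hb
    have hzz : z⁻¹ = z := by
      refine inv_eq_of_mul_eq_one_left ?_
      rw [hz, ← pow_add, ← hk, pow_orderOf_eq_one]
    have hcb : Commute z b := by
      have h4 := hzb k
      rw [hinvab, hzz] at h4
      exact h4.symm
    have hca : Commute a (a * z) := by
      have h4 := hza k
      rw [hinvab, hzz] at h4
      show a * (a * z) = a * z * a
      rw [mul_assoc, ← h4]
    have hset := H a ha _ hmem (fun h => hz1 (mul_eq_left.1 h)) hca
    have hb' : b ∈ {y : G | y ∈ D ∧ Commute (a * (a * z)) y} := ⟨hb, by rwa [hs a ha]⟩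
    rw [hset] at hb'
    exact hnc hb'.1.2

end Cfsg.Agent.S5363
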