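import Cfsg.Statements.S5364

set_option autoImplicit false
open Cfsg

namespace Cfsg.Agent.S5364

/-- Let D be a conjugation-invariant set of involutions of a finite group G and t an involution in the centre of G such that d t does not lie in D for any d in D. If the images of the members of D in G modulo the subgroup generated by t satisfy the 3-transposition order conditions (each has order 2 and any two have product of order at most 3), then so do the members of D. -/
theorem result {G : Type*} [Group G] [Finite G] {D : Set G} (hinv : ∀ d ∈ D, orderOf d = 2) (hconj : ∀ g : G, ∀ d ∈ D, g * d * g⁻¹ ∈ D) (t : G) (ht : orderOf t = 2) (htZ : t ∈ Subgroup.center G) (hDt : ∀ d ∈ D, d * t ∉ D) [(Subgroup.zpowers t).Normal] (himg : Cfsg.IsThreeTranspositionSet ((QuotientGroup.mk : G → G ⧸ Subgroup.zpowers t) '' D)) : Cfsg.IsThreeTranspositionSet D := by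
  refine ⟨hinv, fun d hd e he => ?_⟩
  have hdd : d * d = 1 := by
    have := pow_orderOf_eq_one d; rwa [hinv d hd, pow_two] at this
  have hee : e * e = 1 := by
    have := pow_orderOf_eq_one e; rwa [hinv e he, pow_two] at this
  have hei : e⁻¹ = e := inv_eq_of_mul_eq_one_right hee
  have hdi : d⁻¹ = d := inv_eq_of_mul_eq_one_right hdd
  have hlift : ∀ k : ℕ, ((QuotientGroup.mk d : G ⧸ Subgroup.zpowers t) * QuotientGroup.mk e) ^ k = 1 →
      (d * e) ^ k = 1 ∨ (d * e) ^ k = t := by
    intro k hk
    rw [← QuotientGroup.mk_mul, ← QuotientGroup.mk_pow, QuotientGroup.eq_one_iff] at hk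
    obtain ⟨i, hi⟩ := hk
    have hi' : t ^ (i % 2) = (d * e) ^ k := by
      rw [← hi]
      have := zpow_mod_orderOf t i
      rw [ht] at this
      exact this
    rcases Int.emod_two_eq_zero_or_one i with h | h <;> rw [h] at hi'
    · left; rw [← hi', zpow_zero]
    · right; rw [← hi', zpow_one]
  rcases himg.2 _ ⟨d, hd, rfl⟩ _ ⟨e, he, rfl⟩ with h | h
  · rcases hlift 2 h with h' | h'
    · exact Or.inl h'
    · exfalso
      apply hDt d hd
      have hc := hconj e d hd
      have : d * t = e * d * e⁻¹ := by
        rw [← h', hei, pow_two]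
        calc d * (d * e * (d * e)) = (d * d) * (e * d * e) := by group
          _ = e * d * e := by rw [hdd, one_mul]
      rwa [this]
  · rcases hlift 3 h with h' | h'
    · exact Or.inr h'
    · exfalso
      apply hDt d hd
      have hc := hconj (e * d) e he
      have : d * t = (e * d) * e * (e * d)⁻¹ := by
        rw [← h', mul_inv_rev, hei, hdi, pow_succ, pow_two]
        calc d * (d * e * (d * e) * (d * e)) = (d * d) * (e * d * e * (d * e)) := by group
          _ = e * d * e * (d * e) := by rw [hdd, one_mul]
      rwa [this]

end Cfsg.Agent.S5364
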