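import Cfsg.Statements.S5366
import Mathlib

set_option autoImplicit false
open Cfsg

namespace Cfsg.Agent.S5366

section Aux

open Cfsg Cfsg.LineSystem

variable {X Y : Type*} {L : Set (Set X)}

theorem exists_third (h3 : ∀ l ∈ L, l.ncard = 3) {l : Set X} (hl : l ∈ L) {x y : X} (hx : x ∈ l)
    (hy : y ∈ l) (hne : x ≠ y) : ∃ z, z ≠ x ∧ z ≠ y ∧ l = {x, y, z} := by
  have hfin : l.Finite := Set.finite_of_ncard_ne_zero (by rw [h3 l hl]; decide)
  have hsub : ({x, y} : Set X) ⊆ l := Set.insert_subset_iff.2 ⟨hx, Set.singleton_subset_iff.2 hy⟩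
  have h1 : (l \ {x, y}).ncard = 1 := by
    rw [Set.ncard_sdiff hsub (Set.toFinite _), h3 l hl, Set.ncard_pair hne]
  obtain ⟨z, hz⟩ := Set.ncard_eq_one.1 h1
  have hz' : z ∈ l \ {x, y} := by rw [hz]; rfl
  simp only [Set.mem_sdiff, Set.mem_insert_iff, Set.mem_singleton_iff, not_or] at hz'
  refine ⟨z, hz'.2.1, hz'.2.2, ?_⟩
  rw [← Set.union_sdiff_cancel hsub, hz]
  ext u
  simp only [Set.mem_union, Set.mem_insert_iff, Set.mem_singleton_iff, or_assoc]

theorem lineMap_eq (hP : IsPartialLinear L) (h3 : ∀ l ∈ L, l.ncard = 3) {l : Set X} (hl : l ∈ L)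
    {x y z : X} (hx : x ∈ l) (hy : y ∈ l) (hz : z ∈ l) (hxy : x ≠ y) (hzx : z ≠ x) (hzy : z ≠ y) :
    lineMap L x y = z := by
  obtain ⟨z', h1, h2, he⟩ := exists_third h3 hl hx hy hxy
  have hzz : z = z' := by
    rw [he] at hz
    rcases hz with h | h | h
    · exact absurd h hzx
    · exact absurd h hzy
    · exact h
  have hex : ∃ w : X, w ≠ x ∧ w ≠ y ∧ x ≠ y ∧ ({x, y, w} : Set X) ∈ L := ⟨z', h1, h2, hxy, he ▸ hl⟩
  unfold lineMap
  rw [dif_pos hex]
  obtain ⟨c1, c2, -, c4⟩ := hex.choose_spec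
  have h := hP _ c4 l hl x y hxy (by simp) (by simp) hx hy
  have hmem : hex.choose ∈ l := h ▸ by simp
  rw [he] at hmem
  rcases hmem with h' | h' | h'
  · exact absurd h' c1
  · exact absurd h' c2
  · exact h'.trans hzz.symm

theorem lineMap_fix {x y : X} (h : ¬ Collinear L x y) : lineMap L x y = y := by
  unfold lineMap
  rw [dif_neg]
  rintro ⟨z, -, -, hxy, hl⟩
  exact h ⟨hxy, _, hl, by simp, by simp⟩

theorem lineMap_self (x : X) : lineMap L x x = x := lineMap_fix fun h => h.1 rfl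

theorem lineMap_mem (hP : IsPartialLinear L) (h3 : ∀ l ∈ L, l.ncard = 3) {l : Set X} (hl : l ∈ L)
    {x y : X} (hx : x ∈ l) (hy : y ∈ l) : lineMap L x y ∈ l := by
  by_cases h : x = y
  · rw [← h, lineMap_self]; exact hx
  · obtain ⟨z, h1, h2, he⟩ := exists_third h3 hl hx hy h
    rw [lineMap_eq hP h3 hl hx hy (he ▸ by simp) h h1 h2, he]
    simp

theorem lineMap_invol (hP : IsPartialLinear L) (h3 : ∀ l ∈ L, l.ncard = 3) (x y : X) :
    lineMap L x (lineMap L x y) = y := by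
  by_cases h : Collinear L x y
  · obtain ⟨hxy, l, hl, hx, hy⟩ := h
    obtain ⟨z, h1, h2, he⟩ := exists_third h3 hl hx hy hxy
    have hz : z ∈ l := he ▸ by simp
    rw [lineMap_eq hP h3 hl hx hy hz hxy h1 h2,
      lineMap_eq hP h3 hl hx hz hy (Ne.symm h1) (Ne.symm hxy) (Ne.symm h2)]
  · rw [lineMap_fix h, lineMap_fix h]

/-- A model of a plane with its involutions. -/
structure Model (M : Set (Set Y)) (f : Y → Y → Y) : Prop where
  invol : ∀ x y, f x (f x y) = y
  self : ∀ x, f x x = x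
  maps : ∀ x, ∀ l ∈ M, f x '' l ∈ M
  third : ∀ l ∈ M, ∀ x ∈ l, ∀ y ∈ l, x ≠ y → f x y ∈ l ∧ f x y ≠ x ∧ f x y ≠ y
  coll : ∀ x y, f x y ≠ y → ∃ l ∈ M, x ∈ l ∧ y ∈ l

theorem model_affine : Model affinePlaneThree fun v w => -v - w where
  invol x y := by abel
  self := by decide +kernel
  maps := by
    rintro x - ⟨v, w, hw, rfl⟩
    refine ⟨-x - v, w, hw, Set.ext fun u => ?_⟩
    constructor
    · rintro ⟨-, ⟨c, rfl⟩, rfl⟩
      exact ⟨-c, by rw [neg_smul]; abel⟩
    · rintro ⟨c, rfl⟩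
      exact ⟨v + (-c) • w, ⟨-c, rfl⟩, by rw [neg_smul]; abel⟩
  third := by
    rintro - ⟨v, w, hw, rfl⟩ x ⟨a, rfl⟩ y ⟨b, rfl⟩ hne
    have h3 : ∀ u : Fin 2 → ZMod 3, u + u + u = 0 := by decide +kernel
    refine ⟨⟨-a - b, ?_⟩, ?_, ?_⟩
    · rw [sub_smul, neg_smul]
      calc -(v + a • w) - (v + b • w) = -(v + v + v) + (v + (-(a • w) - b • w)) := by abel
        _ = _ := by rw [h3, neg_zero, zero_add]
    all_goals
      intro h
      apply hne
      revert h
      generalize v + a • w = p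
      generalize v + b • w = q
      revert p q
      decide +kernel
  coll x y _ := by
    by_cases h : x = y
    · exact ⟨_, ⟨x, ![1, 0], by decide, rfl⟩, ⟨0, by simp⟩, ⟨0, by simp [h]⟩⟩
    · exact ⟨_, ⟨x, y - x, sub_ne_zero.2 (Ne.symm h), rfl⟩, ⟨0, by simp⟩, ⟨1, by simp⟩⟩

/-- The involutions of the dual affine plane. -/
def dualMap (s t : DualAffinePoint) : DualAffinePoint :=
  if h : (symmDiff s.1 t.1).card = 2 then ⟨symmDiff s.1 t.1, h⟩ else t

theorem model_dual : Model dualAffinePlaneTwo dualMap := by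
  have hinv : ∀ x y, dualMap x (dualMap x y) = y := by decide +kernel
  have hmaps : ∀ i : Fin 4, ∀ x : DualAffinePoint, ∃ j : Fin 4, ∀ t : DualAffinePoint,
      i ∉ t.val ↔ j ∉ (dualMap x t).val := by decide +kernel
  have hthird : ∀ i : Fin 4, ∀ x y : DualAffinePoint, i ∉ x.val → i ∉ y.val → x ≠ y →
      i ∉ (dualMap x y).val ∧ dualMap x y ≠ x ∧ dualMap x y ≠ y := by
    have h : ∀ i : Fin 4, ∀ x : DualAffinePoint, ∀ y : DualAffinePoint,
        ¬ (i ∉ x.val ∧ i ∉ y.val ∧ x ≠ y) ∨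
          (i ∉ (dualMap x y).val ∧ dualMap x y ≠ x ∧ dualMap x y ≠ y) := by decide +kernel
    intro i x y h1 h2 h3
    exact (h i x y).resolve_left fun hn => hn ⟨h1, h2, h3⟩
  have hcoll : ∀ x y : DualAffinePoint, dualMap x y ≠ y → ∃ i : Fin 4, i ∉ x.val ∧ i ∉ y.val := by
    decide +kernel
  refine ⟨hinv, by decide +kernel, ?_, ?_, ?_⟩
  · rintro x - ⟨i, rfl⟩
    obtain ⟨j, hj⟩ := hmaps i x
    refine ⟨j, Set.ext fun t => ⟨?_, fun ht => ⟨dualMap x t, ?_, hinv x t⟩⟩⟩
    · rintro ⟨u, hu, rfl⟩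
      exact (hj u).1 hu
    · exact (hj _).2 (by rw [hinv]; exact ht)
  · rintro - ⟨i, rfl⟩ x hx y hy hne
    exact hthird i x y hx hy hne
  · intro x y h
    obtain ⟨i, h1, h2⟩ := hcoll x y h
    exact ⟨_, ⟨i, rfl⟩, h1, h2⟩

theorem maps_of_model (hP : IsPartialLinear L) (h3 : ∀ l ∈ L, l.ncard = 3) {P : Set X}
    (hS : IsSubspace L P) {M : Set (Set Y)} {f : Y → Y → Y} (hM : Model M f)
    (hiso : Isomorphic (restrict L P) M) {x : X} (hx : x ∈ P) {l : Set X} (hl : l ∈ L) (hlP : l ⊆ P) :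
    lineMap L x '' l ∈ L := by
  obtain ⟨e, he⟩ := hiso
  have himg : ∀ k ∈ L, k ⊆ P → e '' {p : P | (p : X) ∈ k} ∈ M := fun k hk hkP =>
    (he _).1 ⟨k, hk, hkP, rfl⟩
  have hcl : ∀ p : P, ∀ q : P, lineMap L (p : X) q ∈ P := by
    intro p q
    by_cases h : Collinear L (p : X) q
    · obtain ⟨hpq, k, hk, hp, hq⟩ := h
      exact hS k hk p p.2 q q.2 hpq hp hq (lineMap_mem hP h3 hk hp hq)
    · rw [lineMap_fix h]; exact q.2
  have hagree : ∀ p q : P, e ⟨lineMap L (p : X) q, hcl p q⟩ = f (e p) (e q) := by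
    intro p q
    by_cases hpq : p = q
    · subst hpq
      have h1 : (⟨lineMap L (p : X) p, hcl p p⟩ : P) = p := Subtype.ext (lineMap_self _)
      rw [h1, hM.self]
    have hpq' : (p : X) ≠ q := fun h => hpq (Subtype.ext h)
    by_cases h : Collinear L (p : X) q
    · obtain ⟨-, k, hk, hp, hq⟩ := h
      have hkP : k ⊆ P := hS k hk p p.2 q q.2 hpq' hp hq
      obtain ⟨h4, h5, h6⟩ := hM.third _ (himg k hk hkP) (e p) ⟨p, hp, rfl⟩ (e q) ⟨q, hq, rfl⟩
        fun hh => hpq (e.injective hh)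
      obtain ⟨r, hr, hre⟩ := h4
      rw [← hre]
      refine congrArg e (Subtype.ext (lineMap_eq hP h3 hk hp hq hr hpq' ?_ ?_))
      · exact fun hh => h5 (hre.symm.trans (congrArg e (Subtype.ext hh)))
      · exact fun hh => h6 (hre.symm.trans (congrArg e (Subtype.ext hh)))
    · rw [show (⟨lineMap L (p : X) q, hcl p q⟩ : P) = q from Subtype.ext (lineMap_fix h)]
      by_contra hne
      obtain ⟨m, hm, hpm, hqm⟩ := hM.coll (e p) (e q) (Ne.symm hne)
      obtain ⟨k, hk, -, hkm⟩ := (he (e.symm '' m)).2 (by rwa [Equiv.image_symm_image])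
      have h1 : p ∈ e.symm '' m := ⟨e p, hpm, e.symm_apply_apply p⟩
      have h2 : q ∈ e.symm '' m := ⟨e q, hqm, e.symm_apply_apply q⟩
      rw [hkm] at h1 h2
      exact h ⟨hpq', k, hk, h1, h2⟩
  obtain ⟨k, hk, hkP, hkm⟩ := (he (e.symm '' (f (e ⟨x, hx⟩) '' (e '' {p : P | (p : X) ∈ l})))).2
    (by rw [Equiv.image_symm_image]; exact hM.maps _ _ (himg l hl hlP))
  suffices lineMap L x '' l = k by rw [this]; exact hk
  ext z
  constructor
  · rintro ⟨q, hq, rfl⟩
    have : (⟨lineMap L x q, hcl ⟨x, hx⟩ ⟨q, hlP hq⟩⟩ : P) ∈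
        e.symm '' (f (e ⟨x, hx⟩) '' (e '' {p : P | (p : X) ∈ l})) :=
      ⟨_, ⟨_, ⟨⟨q, hlP hq⟩, hq, rfl⟩, rfl⟩, by rw [← hagree, e.symm_apply_apply]⟩
    rwa [hkm] at this
  · intro hz
    have : (⟨z, hkP hz⟩ : P) ∈ e.symm '' (f (e ⟨x, hx⟩) '' (e '' {p : P | (p : X) ∈ l})) := by
      rw [hkm]; exact hz
    obtain ⟨_, ⟨_, ⟨q, hq, rfl⟩, rfl⟩, hqz⟩ := this
    rw [← hagree, e.symm_apply_apply] at hqz
    exact ⟨q, hq, congrArg Subtype.val hqz⟩

theorem lineMap_image (hL : IsFischerSpace L) (x : X) {l : Set X} (hl : l ∈ L) :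
    lineMap L x '' l ∈ L := by
  obtain ⟨hP, h3, hplane⟩ := hL
  by_cases hx : x ∈ l
  · have : lineMap L x '' l = l := by
      refine Set.Subset.antisymm (Set.image_subset_iff.2 fun y hy => lineMap_mem hP h3 hl hx hy)
        fun y hy => ⟨lineMap L x y, lineMap_mem hP h3 hl hx hy, lineMap_invol hP h3 x y⟩
    rwa [this]
  by_cases hex : ∃ y ∈ l, Collinear L x y
  · obtain ⟨y, hy, -, m, hm, hxm, hym⟩ := hex
    have hlm : l ≠ m := fun h => hx (h ▸ hxm)
    have hS : IsSubspace L (span L (l ∪ m)) := fun k hk a ha b hb hab hak hbk z hz T hT =>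
      hT.2 k hk a (ha T hT) b (hb T hT) hab hak hbk hz
    have hsub : l ∪ m ⊆ span L (l ∪ m) := fun z hz T hT => hT.1 hz
    rcases hplane l hl m hm hlm ⟨y, hy, hym⟩ with h | h
    · exact maps_of_model hP h3 hS model_dual h (hsub (Or.inr hxm)) hl
        (Set.subset_union_left.trans hsub)
    · exact maps_of_model hP h3 hS model_affine h (hsub (Or.inr hxm)) hl
        (Set.subset_union_left.trans hsub)
  · push Not at hex
    have : lineMap L x '' l = l := by
      rw [Set.image_congr fun y hy => lineMap_fix (hex y hy), Set.image_id']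
    rwa [this]

theorem lineMap_conj (hP : IsPartialLinear L) (h3 : ∀ l ∈ L, l.ncard = 3) {σ : Equiv.Perm X}
    (hσ : IsIso L L σ) (x y : X) : σ (lineMap L x y) = lineMap L (σ x) (σ y) := by
  by_cases h : Collinear L x y
  · obtain ⟨hxy, l, hl, hx, hy⟩ := h
    obtain ⟨z, h1, h2, he⟩ := exists_third h3 hl hx hy hxy
    have hz : z ∈ l := he ▸ by simp
    rw [lineMap_eq hP h3 hl hx hy hz hxy h1 h2,
      lineMap_eq hP h3 ((hσ l).1 hl) ⟨x, hx, rfl⟩ ⟨y, hy, rfl⟩ ⟨z, hz, rfl⟩ (σ.injective.ne hxy)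
        (σ.injective.ne h1) (σ.injective.ne h2)]
  · rw [lineMap_fix h, lineMap_fix]
    rintro ⟨hne, l, hl, hx, hy⟩
    refine h ⟨fun e => hne (by rw [e]), σ.symm '' l, (hσ _).2 (by rwa [Equiv.image_symm_image]), ?_, ?_⟩
    · exact ⟨_, hx, σ.symm_apply_apply x⟩
    · exact ⟨_, hy, σ.symm_apply_apply y⟩

end Aux

/-- Let L be a nondegenerate Fischer space on the point type X (every point on a line). Then for every point x the map t(x) — sending a point collinear with x to the third point of their common line and fixing every other point — is a permutation of X of order 2 and an automorphism of the line system; and the set of all t(x) satisfies the 3-transposition order conditions in the permutation group of X (any two have product of order at most 3). -/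
theorem result {X : Type*} (L : Set (Set X)) (hL : Cfsg.IsFischerSpace L) (hnd : Cfsg.LineSystem.IsNondegenerate L) : (∀ x : X, ∃ σ : Equiv.Perm X, ⇑σ = Cfsg.LineSystem.lineMap L x ∧ orderOf σ = 2 ∧ Cfsg.LineSystem.IsIso L L σ) ∧ Cfsg.IsThreeTranspositionSet {σ : Equiv.Perm X | ∃ x : X, ⇑σ = Cfsg.LineSystem.lineMap L x} := by
  obtain ⟨hP, h3, -⟩ := id hL
  let t : X → Equiv.Perm X := fun x =>
    ⟨Cfsg.LineSystem.lineMap L x, Cfsg.LineSystem.lineMap L x, lineMap_invol hP h3 x, lineMap_invol hP h3 x⟩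
  have ht : ∀ x y, t x y = Cfsg.LineSystem.lineMap L x y := fun _ _ => rfl
  have hiso : ∀ x, Cfsg.LineSystem.IsIso L L (t x) := by
    intro x l
    refine ⟨fun hl => lineMap_image hL x hl, fun hl => ?_⟩
    have h := lineMap_image hL x hl
    rwa [show Cfsg.LineSystem.lineMap L x '' (t x '' l) = l by
      rw [Set.image_image]
      simp [ht, lineMap_invol hP h3]] at h
  have hord : ∀ x, orderOf (t x) = 2 := by
    intro x
    refine orderOf_eq_prime (Equiv.ext fun y => ?_) fun h => ?_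
    · rw [sq, Equiv.Perm.mul_apply, ht, ht, lineMap_invol hP h3, Equiv.Perm.one_apply]
    · obtain ⟨l, hl, hx⟩ := hnd x
      obtain ⟨y, hy, hyx⟩ : ∃ y ∈ l, y ≠ x := by
        by_contra hc
        push Not at hc
        have : l ⊆ {x} := fun u hu => hc u hu
        have := Set.ncard_le_ncard this
        rw [h3 l hl, Set.ncard_singleton] at this
        omega
      obtain ⟨z, h1, h2, he⟩ := exists_third h3 hl hx hy (Ne.symm hyx)
      have := lineMap_eq hP h3 hl hx hy (he ▸ by simp) (Ne.symm hyx) h1 h2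
      rw [← ht, h, Equiv.Perm.one_apply] at this
      exact h2 this.symm
  refine ⟨fun x => ⟨t x, rfl, hord x, hiso x⟩, ?_, ?_⟩
  · rintro σ ⟨x, hσ⟩
    rw [show σ = t x from Equiv.coe_fn_injective hσ]
    exact hord x
  · rintro σ ⟨x, hσ⟩ τ ⟨y, hτ⟩
    rw [show σ = t x from Equiv.coe_fn_injective hσ, show τ = t y from Equiv.coe_fn_injective hτ]
    have hsq : ∀ x, t x * t x = 1 := fun x => by rw [← sq, ← hord x, pow_orderOf_eq_one]
    have hconj : ∀ x y, t x * t y * t x = t (t x y) := by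
      intro x y
      refine Equiv.ext fun w => ?_
      rw [Equiv.Perm.mul_apply, Equiv.Perm.mul_apply, ht y, lineMap_conj hP h3 (hiso x), ← ht (t x y),
        show t x (t x w) = w from lineMap_invol hP h3 x w]
    by_cases h : Cfsg.LineSystem.Collinear L x y
    · right
      obtain ⟨hxy, l, hl, hx, hy⟩ := h
      obtain ⟨z, h1, h2, he⟩ := exists_third h3 hl hx hy hxy
      have hz : z ∈ l := he ▸ by simp
      have hbr : t x * t y * t x = t y * t x * t y := by
        rw [hconj, hconj, ht, ht, lineMap_eq hP h3 hl hx hy hz hxy h1 h2,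
          lineMap_eq hP h3 hl hy hx hz (Ne.symm hxy) h2 h1]
      have hb : t y * t x * t y * (t y * t x * t y) = 1 := by
        rw [show t y * t x * t y * (t y * t x * t y) = t y * t x * (t y * t y) * t x * t y by
          simp only [mul_assoc], hsq, mul_one, mul_assoc (t y) (t x) (t x), hsq, mul_one, hsq]
      calc (t x * t y) ^ 3 = (t x * t y * t x) * (t y * t x * t y) := by
            rw [pow_succ, pow_two]; simp only [mul_assoc]
        _ = 1 := by rw [hbr, hb]
    · left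
      have := hconj x y
      rw [ht x y, lineMap_fix h] at this
      calc (t x * t y) ^ 2 = (t x * t y * t x) * t y := by rw [sq]; simp only [mul_assoc]
        _ = 1 := by rw [this, hsq]

end Cfsg.Agent.S5366
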