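import Cfsg.Statements.S5367
import Cfsg.Agent.ThreeTrans.Plane

set_option autoImplicit false
open Cfsg

namespace Cfsg.Agent.S5367

section Planes

variable {G : Type*} [Group G] {D : Set G}

/-- The line through two noncommuting members. -/
def lineOf (x y : D) : Set D :=
  {z : D | (z : G) = x ∨ (z : G) = y ∨ (z : G) = (y : G) * (x : G) * (y : G)⁻¹}

theorem mem_lines {l : Set D} : l ∈ Cfsg.threeTranspositionLines D ↔
    ∃ x y : D, ¬ Commute (x : G) (y : G) ∧ l = lineOf x y := Iff.rfl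

variable (hD : Cfsg.IsThreeTranspositionSet D) (hc : ∀ g : G, ∀ d ∈ D, g * d * g⁻¹ ∈ D)

include hD hc

theorem line_pair {x y z w : D} (h : ¬ Commute (x : G) y) (hz : z ∈ lineOf x y) (hw : w ∈ lineOf x y)
    (hzw : z ≠ w) : ¬ Commute (z : G) w ∧ lineOf z w = lineOf x y := by
  have hzw' : (z : G) ≠ w := fun hh => hzw (Subtype.ext hh)
  set c : G := (y : G) * x * (y : G)⁻¹ with hcdef
  have hc' : c = (y : G) * x * y := by rw [hcdef, ThreeTrans.inv_eq hD y.2]
  have hb : (x : G) * y * x = c := by rw [hc', ThreeTrans.braid hD x.2 y.2 h]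
  have h1 : ¬ Commute (x : G) c := by
    rw [hc']; exact ThreeTrans.commute_conj_mem hD x.2 y.2 h
  have h2 : ¬ Commute (y : G) c := by
    rw [← hb]; exact ThreeTrans.commute_conj_mem hD y.2 x.2 (fun hh => h hh.symm)
  have hcD : c ∈ D := hc y x x.2
  -- the third point of each pair is the remaining point
  have key : ∀ p q r : G, p ∈ D → q ∈ D → r ∈ D → ¬ Commute p q → q * p * q⁻¹ = r →
      p * q * p⁻¹ = r := by
    intro p q r hp hq _ hpq hr
    rw [← hr, ThreeTrans.inv_eq hD hp, ThreeTrans.inv_eq hD hq, ThreeTrans.braid hD hp hq hpq]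
  have hyc : c * y * c⁻¹ = x := by
    rw [ThreeTrans.inv_eq hD hcD, ← ThreeTrans.braid hD y.2 hcD h2, hc']
    simp only [mul_assoc, ThreeTrans.mul_self_mul hD y.2, ThreeTrans.mul_self hD y.2, mul_one]
  have hxc : c * x * c⁻¹ = y := by
    rw [ThreeTrans.inv_eq hD hcD, ← ThreeTrans.braid hD x.2 hcD h1, ← hb]
    simp only [mul_assoc, ThreeTrans.mul_self_mul hD x.2, ThreeTrans.mul_self hD x.2, mul_one]
  have hall : ∀ p q r : G, p ∈ D → q ∈ D → ¬ Commute p q → q * p * q⁻¹ = r →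
      ∀ (P Q : D), (P : G) = p → (Q : G) = q →
      ¬ Commute (P : G) Q ∧ lineOf P Q = {u : D | (u : G) = p ∨ (u : G) = q ∨ (u : G) = r} := by
    intro p q r _ _ hpq hr P Q hP hQ
    refine ⟨by rwa [hP, hQ], ?_⟩
    apply Set.ext
    intro u
    simp [lineOf, hP, hQ, hr]
  have hperm : ∀ p q r : G, ({u : D | (u : G) = p ∨ (u : G) = q ∨ (u : G) = r} = lineOf x y) ↔
      ∀ u : D, ((u : G) = p ∨ (u : G) = q ∨ (u : G) = r) ↔ ((u : G) = x ∨ (u : G) = y ∨ (u : G) = c) :=
    fun p q r => Set.ext_iff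
  rcases hz with hz | hz | hz <;> rcases hw with hw | hw | hw
  · exact absurd (hz.trans hw.symm) hzw'
  · obtain ⟨e1, e2⟩ := hall x y c x.2 y.2 h rfl z w hz hw
    exact ⟨e1, e2.trans ((hperm _ _ _).2 fun u => Iff.rfl)⟩
  · obtain ⟨e1, e2⟩ := hall x c y x.2 hcD h1 hxc z w hz hw
    exact ⟨e1, e2.trans ((hperm _ _ _).2 fun u => by tauto)⟩
  · obtain ⟨e1, e2⟩ := hall y x c y.2 x.2 (fun hh => h hh.symm) (key x y c x.2 y.2 hcD h rfl) z w hz hw
    exact ⟨e1, e2.trans ((hperm _ _ _).2 fun u => by tauto)⟩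
  · exact absurd (hz.trans hw.symm) hzw'
  · obtain ⟨e1, e2⟩ := hall y c x y.2 hcD h2 hyc z w hz hw
    exact ⟨e1, e2.trans ((hperm _ _ _).2 fun u => by tauto)⟩
  · obtain ⟨e1, e2⟩ := hall c x y hcD x.2 (fun hh => h1 hh.symm) (key x c y x.2 hcD y.2 h1 hxc) z w hz hw
    exact ⟨e1, e2.trans ((hperm _ _ _).2 fun u => by tauto)⟩
  · obtain ⟨e1, e2⟩ := hall c y x hcD y.2 (fun hh => h2 hh.symm) (key y c x y.2 hcD x.2 h2 hyc) z w hz hw
    exact ⟨e1, e2.trans ((hperm _ _ _).2 fun u => by tauto)⟩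
  · exact absurd (hz.trans hw.symm) hzw'

/-- A subspace contains the third point of any two noncommuting points. -/
theorem third_mem {T : Set D} (hT : Cfsg.LineSystem.IsSubspace (Cfsg.threeTranspositionLines D) T)
    {x y : D} (hx : x ∈ T) (hy : y ∈ T) (h : ¬ Commute (x : G) y) {z : D}
    (hz : (z : G) = (y : G) * x * (y : G)⁻¹) : z ∈ T :=
  hT (lineOf x y) ⟨x, y, h, rfl⟩ x hx y hy (fun hh => h (hh ▸ Commute.refl (x : G)))
    (Or.inl rfl) (Or.inr (Or.inl rfl)) (Or.inr (Or.inr hz))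

/-- A model of a plane: an injective family of members with prescribed third points. -/
theorem span_iso {P : Type*} (M : Set (Set P)) (f : P → D) (hinj : Function.Injective f)
    (Adj : P → P → Prop) (th : P → P → P)
    (hadj : ∀ p q, p ≠ q → (Adj p q ↔ ¬ Commute (f p : G) (f q)))
    (hth : ∀ p q, p ≠ q → Adj p q → (f (th p q) : G) = (f q : G) * f p * (f q : G)⁻¹)
    (hM : ∀ m : Set P, m ∈ M ↔ ∃ p q, p ≠ q ∧ Adj p q ∧ ∀ u, u ∈ m ↔ u = p ∨ u = q ∨ u = th p q)
    (gen : Set D) (hgen : gen ⊆ Set.range f)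
    (hmin : ∀ T, gen ⊆ T → Cfsg.LineSystem.IsSubspace (Cfsg.threeTranspositionLines D) T →
      Set.range f ⊆ T) :
    Cfsg.LineSystem.Isomorphic (Cfsg.LineSystem.restrict (Cfsg.threeTranspositionLines D)
      (Cfsg.LineSystem.span (Cfsg.threeTranspositionLines D) gen)) M := by
  have hline : ∀ p q, p ≠ q → Adj p q → ∀ u, u ∈ lineOf (f p) (f q) ↔
      u = f p ∨ u = f q ∨ u = f (th p q) := by
    intro p q hne hA u
    simp only [lineOf, Set.mem_ofPred_eq, ← hth p q hne hA, ← Subtype.ext_iff]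
  have hsub : Cfsg.LineSystem.IsSubspace (Cfsg.threeTranspositionLines D) (Set.range f) := by
    rintro l ⟨x, y, hxy, hl⟩ p' ⟨p, rfl⟩ q' ⟨q, rfl⟩ hne hpl hql u hu
    change l = lineOf x y at hl
    subst hl
    obtain ⟨hpq, heq⟩ := line_pair hD hc hxy hpl hql hne
    rw [← heq] at hu
    have hne' : p ≠ q := fun hh => hne (by rw [hh])
    rcases (hline p q hne' ((hadj p q hne').2 hpq) u).1 hu with h | h | h <;> exact ⟨_, h.symm⟩
  have hspan : Cfsg.LineSystem.span (Cfsg.threeTranspositionLines D) gen = Set.range f :=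
    Set.Subset.antisymm (Set.sInter_subset_of_mem ⟨hgen, hsub⟩)
      (Set.subset_sInter fun T hT => hmin T hT.1 hT.2)
  rw [hspan]
  refine ⟨(Equiv.ofInjective f hinj).symm, fun m => ?_⟩
  set e := Equiv.ofInjective f hinj
  rw [hM]
  constructor
  · rintro ⟨l, hl, hlsub, rfl⟩
    obtain ⟨x, y, hxy, rfl⟩ := mem_lines.1 hl
    have hxl : x ∈ lineOf x y := Or.inl rfl
    have hyl : y ∈ lineOf x y := Or.inr (Or.inl rfl)
    obtain ⟨p, rfl⟩ := hlsub hxl
    obtain ⟨q, rfl⟩ := hlsub hyl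
    have hne : p ≠ q := fun hh => hxy (hh ▸ Commute.refl (f p : G))
    refine ⟨p, q, hne, (hadj p q hne).2 hxy, fun u => ?_⟩
    rw [Equiv.image_eq_preimage_symm, Equiv.symm_symm, Set.mem_preimage]
    show (e u : D) ∈ lineOf (f p) (f q) ↔ _
    rw [hline p q hne ((hadj p q hne).2 hxy)]
    simp [e, hinj.eq_iff]
  · rintro ⟨p, q, hne, hA, hu⟩
    refine ⟨lineOf (f p) (f q), ⟨f p, f q, (hadj p q hne).1 hA, rfl⟩, ?_, ?_⟩
    · intro z hz
      rcases (hline p q hne hA z).1 hz with h | h | h <;> exact ⟨_, h.symm⟩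
    · apply Set.ext
      intro z
      obtain ⟨u, rfl⟩ := e.surjective z
      show e u ∈ m ↔ (e u : D) ∈ lineOf (f p) (f q)
      rw [hline p q hne hA]
      have h1 := hu u
      rw [Set.mem_image] at h1
      simp only [e, Equiv.ofInjective_apply, hinj.eq_iff]
      rw [← h1]
      constructor
      · exact fun h => ⟨_, h, Equiv.ofInjective_symm_apply hinj u⟩
      · rintro ⟨z, hz, hzu⟩
        have : z = e u := e.symm_apply_eq.1 hzu
        rw [this] at hz
        exact hz

/-- The permutation of a point of the dual affine plane. -/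
def dualPerm (s : Cfsg.DualAffinePoint) : Equiv.Perm (Fin 4) :=
  Equiv.swap (s.1.min' (Finset.card_pos.1 (by rw [s.2]; exact Nat.two_pos))) (s.1.max' (Finset.card_pos.1 (by rw [s.2]; exact Nat.two_pos)))

omit hD hc in
theorem dual_facts : (∀ p q : Cfsg.DualAffinePoint, p ≠ q →
      ((p.1 ∩ q.1).card = 1 ↔ dualPerm p * dualPerm q ≠ dualPerm q * dualPerm p)) ∧
    (∀ p q : Cfsg.DualAffinePoint, (p.1 ∩ q.1).card = 1 →
      ∃ r : Cfsg.DualAffinePoint, r.1 = (p.1 ∪ q.1) \ (p.1 ∩ q.1)) ∧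
    (∀ p q r : Cfsg.DualAffinePoint, (p.1 ∩ q.1).card = 1 → r.1 = (p.1 ∪ q.1) \ (p.1 ∩ q.1) →
      dualPerm r = dualPerm q * dualPerm p * (dualPerm q)⁻¹) := by decide +kernel

end Planes

/-- Let D be a conjugation-invariant generating set of 3-transpositions of a finite group G. Then the line system on D whose lines are the triples {x, y, y x y⁻¹} for non-commuting members x, y of D is a Fischer space: two points lie on at most one line, lines have three points, and two different meeting lines generate a subspace isomorphic to the dual affine plane of order two or to the affine plane of order three. -/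
theorem result {G : Type*} [Group G] [Finite G] {D : Set G} (hD : Cfsg.IsThreeTranspositionGroup D) : Cfsg.IsFischerSpace (Cfsg.threeTranspositionLines D) := by
  classical
  obtain ⟨hTS, hc, -⟩ := hD
  refine ⟨?_, ?_, ?_⟩
  · rintro l ⟨x, y, hxy, hl⟩ m ⟨z, w, hzw, hm⟩ p q hpq hpl hql hpm hqm
    change l = lineOf x y at hl
    change m = lineOf z w at hm
    subst hl; subst hm
    rw [← (line_pair hTS hc hxy hpl hql hpq).2, (line_pair hTS hc hzw hpm hqm hpq).2]
  · rintro l ⟨x, y, hxy, hl⟩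
    change l = lineOf x y at hl
    subst hl
    have h1 : (x : G) ≠ y := fun h => hxy (h ▸ Commute.refl (x : G))
    set c : D := ⟨(y : G) * x * (y : G)⁻¹, hc y x x.2⟩
    have h2 : x ≠ c := by
      intro h
      apply hxy
      have h' : (x : G) = (y : G) * x * (y : G)⁻¹ := congrArg Subtype.val h
      rw [eq_mul_inv_iff_mul_eq] at h'
      exact h'
    have h3 : y ≠ c := by
      intro h
      have h' : (y : G) = (y : G) * x * (y : G)⁻¹ := congrArg Subtype.val h
      rw [eq_mul_inv_iff_mul_eq, mul_right_inj] at h'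
      exact h1 h'.symm
    have : lineOf x y = {x, y, c} := by
      apply Set.ext
      intro u
      simp [lineOf, c, Subtype.ext_iff]
    rw [this, Set.ncard_insert_of_notMem (by simp [h2, Subtype.ext_iff, h1, Subtype.ext_iff.not.1 h2]),
      Set.ncard_pair h3]
  intro l hl m hm hlm ⟨x, hxl, hxm⟩
  obtain ⟨l₀, l₁, hl01, rfl⟩ := mem_lines.1 hl
  obtain ⟨m₀, m₁, hm01, rfl⟩ := mem_lines.1 hm
  -- name the two lines from their common point
  have other : ∀ {p q : D}, ¬ Commute (p : G) q → x ∈ lineOf p q →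
      ∃ a : D, ¬ Commute (x : G) a ∧ lineOf p q = lineOf x a := by
    intro p q hpq hx
    by_cases hxp : x = p
    · exact ⟨q, hxp ▸ hpq, by rw [hxp]⟩
    · obtain ⟨h1, h2⟩ := line_pair hTS hc hpq hx (Or.inl rfl) hxp
      exact ⟨p, h1, h2.symm⟩
  obtain ⟨a₀, ha₀, hla⟩ := other hl01 hxl
  obtain ⟨b₀, hb₀, hmb⟩ := other hm01 hxm
  rw [hla, hmb] at hlm ⊢
  by_cases hcase : ∃ a ∈ lineOf x a₀, ∃ b ∈ lineOf x b₀, a ≠ x ∧ b ≠ x ∧ Commute (a : G) b
  · left
    obtain ⟨a, ha, b, hb, hax, hbx, hab⟩ := hcase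
    obtain ⟨hxa, hla'⟩ := line_pair hTS hc ha₀ (Or.inl rfl) ha hax.symm
    obtain ⟨hxb, hmb'⟩ := line_pair hTS hc hb₀ (Or.inl rfl) hb hbx.symm
    rw [← hla', ← hmb'] at hlm ⊢
    have hne : (a : G) ≠ b := fun h => hlm (by rw [Subtype.ext h])
    let φ := ThreeTrans.SmallPerm.hom (ThreeTrans.mul_self hTS a.2) (ThreeTrans.mul_self hTS x.2)
      (ThreeTrans.mul_self hTS b.2) (ThreeTrans.braid hTS x.2 a.2 hxa) hab.symm.eq
      (ThreeTrans.braid hTS b.2 x.2 fun h => hxb h.symm)
    have hφ : ∀ i, φ (ThreeTrans.SmallPerm.s4 i) = ![(a : G), x, b] i :=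
      ThreeTrans.SmallPerm.hom_gen _ _ _ _ _ _
    have hφinj : Function.Injective φ := by
      rw [injective_iff_map_eq_one]
      intro σ hσ
      by_contra hne'
      have key : ∀ σ : Equiv.Perm (Fin 4), σ ≠ 1 → ∃ g h : Equiv.Perm (Fin 4),
          g * σ * g⁻¹ * (h * σ * h⁻¹) = ThreeTrans.SmallPerm.s4 0 * ThreeTrans.SmallPerm.s4 2 := by
        decide +kernel
      obtain ⟨g, h, hgh⟩ := key σ hne'
      have := congrArg φ hgh
      simp only [map_mul, map_inv, hσ, hφ, mul_one, mul_inv_cancel, one_mul] at this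
      exact hne ((eq_inv_of_mul_eq_one_left this.symm).trans (ThreeTrans.inv_eq hTS b.2))
    obtain ⟨dA, dT, dP⟩ := dual_facts
    -- the six points
    have hconj : ∀ s : Cfsg.DualAffinePoint, ∃ g : Equiv.Perm (Fin 4),
        dualPerm s = g * ThreeTrans.SmallPerm.s4 0 * g⁻¹ := by decide +kernel
    have hmem : ∀ s, φ (dualPerm s) ∈ D := by
      intro s
      obtain ⟨g, hg⟩ := hconj s
      rw [hg, map_mul, map_mul, map_inv, hφ 0]
      exact hc _ _ a.2
    let f : Cfsg.DualAffinePoint → D := fun s => ⟨φ (dualPerm s), hmem s⟩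
    have hperm_inj : ∀ p q : Cfsg.DualAffinePoint, dualPerm p = dualPerm q → p = q := by decide +kernel
    have hf : Function.Injective f := fun p q h => hperm_inj p q (hφinj (congrArg Subtype.val h))
    let th : Cfsg.DualAffinePoint → Cfsg.DualAffinePoint → Cfsg.DualAffinePoint := fun p q =>
      if h : (p.1 ∩ q.1).card = 1 then (dT p q h).choose else p
    have hth : ∀ p q, (p.1 ∩ q.1).card = 1 → (th p q).1 = (p.1 ∪ q.1) \ (p.1 ∩ q.1) := fun p q h => by
      simp only [th, dif_pos h]; exact (dT p q h).choose_spec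
    let P01 : Cfsg.DualAffinePoint := ⟨{0, 1}, rfl⟩
    let P12 : Cfsg.DualAffinePoint := ⟨{1, 2}, rfl⟩
    let P23 : Cfsg.DualAffinePoint := ⟨{2, 3}, rfl⟩
    let P02 : Cfsg.DualAffinePoint := ⟨{0, 2}, rfl⟩
    let P13 : Cfsg.DualAffinePoint := ⟨{1, 3}, rfl⟩
    let P03 : Cfsg.DualAffinePoint := ⟨{0, 3}, rfl⟩
    have hperms : dualPerm P01 = ThreeTrans.SmallPerm.s4 0 ∧ dualPerm P12 = ThreeTrans.SmallPerm.s4 1 ∧
        dualPerm P23 = ThreeTrans.SmallPerm.s4 2 := by decide +kernel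
    have hA : f P01 = a := Subtype.ext (by simp [f, hperms.1, hφ])
    have hX : f P12 = x := Subtype.ext (by simp [f, hperms.2.1, hφ])
    have hB : f P23 = b := Subtype.ext (by simp [f, hperms.2.2, hφ])
    have hcomm : ∀ p q, p ≠ q → ((p.1 ∩ q.1).card = 1 ↔ ¬ Commute (f p : G) (f q)) := by
      intro p q hne'
      rw [dA p q hne', ne_eq, not_iff_not]
      exact ⟨fun h => (show Commute (dualPerm p) (dualPerm q) from h).map φ,
        fun h => hφinj (by rw [map_mul, map_mul]; exact h)⟩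
    have hthird : ∀ p q, (p.1 ∩ q.1).card = 1 →
        (f (th p q) : G) = (f q : G) * f p * (f q : G)⁻¹ := by
      intro p q h
      show φ _ = φ _ * φ _ * (φ _)⁻¹
      rw [dP p q _ h (hth p q h), map_mul, map_mul, map_inv]
    refine span_iso hTS hc Cfsg.dualAffinePlaneTwo f hf (fun p q => (p.1 ∩ q.1).card = 1) th hcomm
      (fun p q _ h => hthird p q h) ?_ _ ?_ ?_
    · intro L
      have hk1 : ∀ i : Fin 4, ∃ p q : Cfsg.DualAffinePoint, p ≠ q ∧ (p.1 ∩ q.1).card = 1 ∧
          ∀ u : Cfsg.DualAffinePoint, i ∉ u.1 ↔ u = p ∨ u = q ∨ u.1 = (p.1 ∪ q.1) \ (p.1 ∩ q.1) := by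
        decide +kernel
      have hk2 : ∀ p q : Cfsg.DualAffinePoint, (p.1 ∩ q.1).card = 1 → ∃ i : Fin 4,
          ∀ u : Cfsg.DualAffinePoint, i ∉ u.1 ↔ u = p ∨ u = q ∨ u.1 = (p.1 ∪ q.1) \ (p.1 ∩ q.1) := by
        decide +kernel
      constructor
      · rintro ⟨i, rfl⟩
        obtain ⟨p, q, hpq, h, hu⟩ := hk1 i
        exact ⟨p, q, hpq, h, fun u => (hu u).trans (by rw [← hth p q h, ← Subtype.ext_iff])⟩
      · rintro ⟨p, q, -, h, hu⟩
        obtain ⟨i, hi⟩ := hk2 p q h
        refine ⟨i, Set.ext fun u => ?_⟩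
        rw [hu u, Subtype.ext_iff (a1 := u) (a2 := th p q), hth p q h]
        exact (hi u).symm
    · have e02 : th P01 P12 = P02 := Subtype.ext (by rw [hth P01 P12 (by decide +kernel)]; decide +kernel)
      have e13 : th P23 P12 = P13 := Subtype.ext (by rw [hth P23 P12 (by decide +kernel)]; decide +kernel)
      have l1 := hthird P01 P12 (by decide +kernel)
      have l2 := hthird P23 P12 (by decide +kernel)
      rw [e02, hA, hX] at l1
      rw [e13, hB, hX] at l2
      rintro u ((h | h | h) | (h | h | h))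
      · exact ⟨P12, by rw [hX]; exact Subtype.ext h.symm⟩
      · exact ⟨P01, by rw [hA]; exact Subtype.ext h.symm⟩
      · exact ⟨P02, Subtype.ext (by
          rw [l1, h, ThreeTrans.inv_eq hTS x.2, ThreeTrans.inv_eq hTS a.2,
            ThreeTrans.braid hTS x.2 a.2 hxa])⟩
      · exact ⟨P12, by rw [hX]; exact Subtype.ext h.symm⟩
      · exact ⟨P23, by rw [hB]; exact Subtype.ext h.symm⟩
      · exact ⟨P13, Subtype.ext (by
          rw [l2, h, ThreeTrans.inv_eq hTS x.2, ThreeTrans.inv_eq hTS b.2,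
            ThreeTrans.braid hTS x.2 b.2 hxb])⟩
    · intro T hT hTs u ⟨p, hp⟩
      have hxT : f P12 ∈ T := by rw [hX]; exact hT (Or.inl (Or.inl rfl))
      have haT : f P01 ∈ T := by rw [hA]; exact hT (Or.inl (Or.inr (Or.inl rfl)))
      have hbT : f P23 ∈ T := by rw [hB]; exact hT (Or.inr (Or.inr (Or.inl rfl)))
      have step : ∀ p q r : Cfsg.DualAffinePoint, f p ∈ T → f q ∈ T → p ≠ q →
          (p.1 ∩ q.1).card = 1 → r.1 = (p.1 ∪ q.1) \ (p.1 ∩ q.1) → f r ∈ T := by
        intro p q r h1 h2 hne' hadj hr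
        rw [← show th p q = r from Subtype.ext ((hth p q hadj).trans hr.symm)]
        exact third_mem hTS hc hTs h1 h2 ((hcomm p q hne').1 hadj) (hthird p q hadj)
      have h02 : f P02 ∈ T := step P01 P12 P02 haT hxT (by decide +kernel) (by decide +kernel) (by decide +kernel)
      have h13 : f P13 ∈ T := step P12 P23 P13 hxT hbT (by decide +kernel) (by decide +kernel) (by decide +kernel)
      have h03 : f P03 ∈ T := step P02 P23 P03 h02 hbT (by decide +kernel) (by decide +kernel) (by decide +kernel)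
      have hcases : ∀ p : Cfsg.DualAffinePoint, p.1 = {0, 1} ∨ p.1 = {1, 2} ∨ p.1 = {2, 3} ∨
          p.1 = {0, 2} ∨ p.1 = {1, 3} ∨ p.1 = {0, 3} := by decide +kernel
      rcases hcases p with h | h | h | h | h | h
      · rwa [← hp, show p = P01 from Subtype.ext h]
      · rwa [← hp, show p = P12 from Subtype.ext h]
      · rwa [← hp, show p = P23 from Subtype.ext h]
      · rwa [← hp, show p = P02 from Subtype.ext h]
      · rwa [← hp, show p = P13 from Subtype.ext h]
      · rwa [← hp, show p = P03 from Subtype.ext h]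
  · right
    push Not at hcase
    set a₁ : D := ⟨(a₀ : G) * x * (a₀ : G)⁻¹, hc _ _ x.2⟩ with ha₁
    have hax : a₀ ≠ x := fun h => ha₀ (h ▸ Commute.refl (x : G))
    have hbx : b₀ ≠ x := fun h => hb₀ (h ▸ Commute.refl (x : G))
    have ha₁x : a₁ ≠ x := fun h => ha₀ (by
      have h' : (a₀ : G) * x * (a₀ : G)⁻¹ = x := congrArg Subtype.val h
      exact (mul_inv_eq_iff_eq_mul.1 h').symm)
    have hab : ¬ Commute (a₀ : G) b₀ := hcase a₀ (Or.inr (Or.inl rfl)) b₀ (Or.inr (Or.inl rfl)) hax hbx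
    have hab' : ¬ Commute ((x : G) * a₀ * x) b₀ := by
      rw [ThreeTrans.braid hTS x.2 a₀.2 ha₀]
      have := hcase a₁ (Or.inr (Or.inr rfl)) b₀ (Or.inr (Or.inl rfl)) ha₁x hbx
      rwa [ha₁, show ((⟨(a₀ : G) * x * (a₀ : G)⁻¹, hc _ _ x.2⟩ : D) : G) = (a₀ : G) * x * a₀ by
        show (a₀ : G) * x * (a₀ : G)⁻¹ = _; rw [ThreeTrans.inv_eq hTS a₀.2]] at this
    obtain ⟨f, f0, f1, f2, fD, fop, fnc⟩ :=
      ThreeTrans.exists_affine_plane hTS hc x.2 a₀.2 b₀.2 ha₀ hb₀ hab hab'
    have hth : ∀ v w, f (-v - w) = f w * f v * (f w)⁻¹ := fun v w => by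
      rw [ThreeTrans.inv_eq hTS (fD w), fop]
    -- the nine points are different
    have hper : ∀ p q, f p = f q → ∀ w, f (w + (p - q)) = f w := by
      intro p q h w
      have h1 : f (-(-w - p) - q) = f (-(-w - p) - p) := by
        rw [hth (-w - p) q, hth (-w - p) p, h]
      rw [show -(-w - p) - q = w + (p - q) by abel, show -(-w - p) - p = w by abel] at h1
      exact h1
    have fa : f ![2, 0] = (a₀ : G) * x * (a₀ : G)⁻¹ := by
      rw [← f1, ← f0, ← hth]; congr 1; decide +kernel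
    have fb : f ![0, 2] = (b₀ : G) * x * (b₀ : G)⁻¹ := by
      rw [← f2, ← f0, ← hth]; congr 1; decide +kernel
    have hinj : Function.Injective f := by
      intro p q hpq
      by_contra hne
      have hδ : ∀ δ : Fin 2 → ZMod 3, δ ≠ 0 → δ = ![1, 0] ∨ δ = ![2, 0] ∨ δ = ![0, 1] ∨ δ = ![0, 2] ∨
          δ = ![1, 1] ∨ δ = ![2, 2] ∨ δ = ![1, 2] ∨ δ = ![2, 1] := by decide +kernel
      have bad : ∀ u w : Fin 2 → ZMod 3, f u = f w → Commute (f u) (f w) :=
        fun u w h => h ▸ Commute.refl (f u)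
      have h := hper p q hpq
      have hv : ∀ u w, w = u + (p - q) → f u = f w := fun u w e => (e ▸ h u).symm
      rcases hδ (p - q) (sub_ne_zero.2 hne) with e | e | e | e | e | e | e | e <;> rw [e] at hv
      · exact ha₀ (by have := bad _ _ (hv ![0, 0] ![1, 0] (by decide +kernel)); rwa [f0, f1] at this)
      · exact ha₀ (by have := bad _ _ (hv ![1, 0] ![0, 0] (by decide +kernel)); rw [f0, f1] at this; exact this.symm)
      · exact hb₀ (by have := bad _ _ (hv ![0, 0] ![0, 1] (by decide +kernel)); rwa [f0, f2] at this)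
      · exact hb₀ (by have := bad _ _ (hv ![0, 1] ![0, 0] (by decide +kernel)); rw [f0, f2] at this; exact this.symm)
      · have e' : f ![2, 0] = f ![0, 1] := hv _ _ (by decide +kernel)
        rw [fa, f2] at e'
        refine hab' ?_
        rw [ThreeTrans.braid hTS x.2 a₀.2 ha₀, ThreeTrans.conj_involution hTS a₀.2, e']
      · have e' : f ![0, 1] = f ![2, 0] := hv _ _ (by decide +kernel)
        rw [fa, f2] at e'
        refine hab' ?_
        rw [ThreeTrans.braid hTS x.2 a₀.2 ha₀, ThreeTrans.conj_involution hTS a₀.2, ← e']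
      · exact hab (by have := bad _ _ (hv ![0, 1] ![1, 0] (by decide +kernel)); rw [f1, f2] at this; exact this.symm)
      · exact hab (by have := bad _ _ (hv ![1, 0] ![0, 1] (by decide +kernel)); rwa [f1, f2] at this)
    let F : (Fin 2 → ZMod 3) → D := fun v => ⟨f v, fD v⟩
    have hF : Function.Injective F := fun p q h => hinj (congrArg Subtype.val h)
    refine span_iso hTS hc Cfsg.affinePlaneThree F hF (fun p q => p ≠ q) (fun p q => -p - q) ?_ ?_ ?_ _ ?_ ?_
    · intro p q hne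
      exact ⟨fun _ => fnc p q (hinj.ne hne), fun _ => hne⟩
    · exact fun p q _ _ => hth p q
    · intro L
      have hk : ∀ v w : Fin 2 → ZMod 3, w ≠ 0 → ∀ u, (∃ c : ZMod 3, u = v + c • w) ↔
          (u = v ∨ u = v + w ∨ u = -v - (v + w)) := by decide +kernel
      constructor
      · rintro ⟨v, w, hw, rfl⟩
        refine ⟨v, v + w, ?_, ?_, hk v w hw⟩ <;> simpa using hw
      · rintro ⟨p, q, hne, -, hu⟩
        refine ⟨p, q - p, sub_ne_zero.2 hne.symm, Set.ext fun u => ?_⟩
        show u ∈ L ↔ ∃ c : ZMod 3, u = p + c • (q - p)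
        rw [hu u, hk p (q - p) (sub_ne_zero.2 hne.symm) u, add_sub_cancel]
    · rintro u ((h | h | h) | (h | h | h))
      · exact ⟨![0, 0], Subtype.ext (f0.trans h.symm)⟩
      · exact ⟨![1, 0], Subtype.ext (f1.trans h.symm)⟩
      · exact ⟨![2, 0], Subtype.ext (fa.trans h.symm)⟩
      · exact ⟨![0, 0], Subtype.ext (f0.trans h.symm)⟩
      · exact ⟨![0, 1], Subtype.ext (f2.trans h.symm)⟩
      · exact ⟨![0, 2], Subtype.ext (fb.trans h.symm)⟩
    · intro T hT hTs u ⟨p, hp⟩
      have m00 : F ![0, 0] ∈ T := by rw [show F ![0, 0] = x from Subtype.ext f0]; exact hT (Or.inl (Or.inl rfl))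
      have m10 : F ![1, 0] ∈ T := by
        rw [show F ![1, 0] = a₀ from Subtype.ext f1]; exact hT (Or.inl (Or.inr (Or.inl rfl)))
      have m01 : F ![0, 1] ∈ T := by
        rw [show F ![0, 1] = b₀ from Subtype.ext f2]; exact hT (Or.inr (Or.inr (Or.inl rfl)))
      have step : ∀ p q r, F p ∈ T → F q ∈ T → p ≠ q → r = -p - q → F r ∈ T := by
        rintro p q _ h1 h2 hne rfl
        exact third_mem hTS hc hTs h1 h2 (fnc p q (hinj.ne hne)) (hth p q)
      have m20 := step _ _ ![2, 0] m00 m10 (by decide +kernel) (by decide +kernel)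
      have m02 := step _ _ ![0, 2] m00 m01 (by decide +kernel) (by decide +kernel)
      have m22 := step _ _ ![2, 2] m10 m01 (by decide +kernel) (by decide +kernel)
      have m12 := step _ _ ![1, 2] m20 m01 (by decide +kernel) (by decide +kernel)
      have m21 := step _ _ ![2, 1] m10 m02 (by decide +kernel) (by decide +kernel)
      have m11 := step _ _ ![1, 1] m20 m02 (by decide +kernel) (by decide +kernel)
      have hcases : ∀ v : Fin 2 → ZMod 3, v = ![0, 0] ∨ v = ![1, 0] ∨ v = ![0, 1] ∨ v = ![2, 0] ∨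
          v = ![0, 2] ∨ v = ![2, 2] ∨ v = ![1, 2] ∨ v = ![2, 1] ∨ v = ![1, 1] := by decide +kernel
      rcases hcases p with rfl | rfl | rfl | rfl | rfl | rfl | rfl | rfl | rfl <;> rw [← hp] <;> assumption

end Cfsg.Agent.S5367
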