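import Cfsg.Statements.S5370
import Cfsg.Agent.ThreeTrans.Y332.Iso
import Cfsg.Agent.ThreeTrans.RigidTypeM

set_option autoImplicit false
open Cfsg

namespace Cfsg.Agent.S5370

/-- Uniqueness of the 3-transposition groups of type M(22). Let G₁ and G₂ be finite groups with trivial centres, each generated by a conjugation-invariant set of 3-transpositions Dᵢ on which it acts primitively, such that for some member d of Dᵢ the subgroup generated by the members of Dᵢ other than d commuting with d has central largest normal 2- and 3-subgroups, and suppose each Gᵢ with Dᵢ is of type M(22). Then there is an isomorphism from G₁ to G₂ carrying D₁ onto D₂. -/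
theorem result {G₁ G₂ : Type*} [Group G₁] [Finite G₁] [Group G₂] [Finite G₂] {D₁ : Set G₁} {D₂ : Set G₂} (hD₁ : Cfsg.IsThreeTranspositionGroup D₁) (hprim₁ : Cfsg.IsPrimitiveUnderConj D₁) (hZ₁ : Subgroup.center G₁ = ⊥) (d₁ : G₁) (hd₁ : d₁ ∈ D₁) (h3₁ : Cfsg.pCore 3 ↥(Subgroup.closure {y : G₁ | y ∈ D₁ ∧ y ≠ d₁ ∧ Commute d₁ y}) ≤ Subgroup.center ↥(Subgroup.closure {y : G₁ | y ∈ D₁ ∧ y ≠ d₁ ∧ Commute d₁ y})) (h2₁ : Cfsg.pCore 2 ↥(Subgroup.closure {y : G₁ | y ∈ D₁ ∧ y ≠ d₁ ∧ Commute d₁ y}) ≤ Subgroup.center ↥(Subgroup.closure {y : G₁ | y ∈ D₁ ∧ y ≠ d₁ ∧ Commute d₁ y})) (hD₂ : Cfsg.IsThreeTranspositionGroup D₂) (hprim₂ : Cfsg.IsPrimitiveUnderConj D₂) (hZ₂ : Subgroup.center G₂ = ⊥) (d₂ : G₂) (hd₂ : d₂ ∈ D₂) (h3₂ : Cfsg.pCore 3 ↥(Subgroup.closure {y : G₂ | y ∈ D₂ ∧ y ≠ d₂ ∧ Commute d₂ y}) ≤ Subgroup.center ↥(Subgroup.closure {y : G₂ | y ∈ D₂ ∧ y ≠ d₂ ∧ Commute d₂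 y})) (h2₂ : Cfsg.pCore 2 ↥(Subgroup.closure {y : G₂ | y ∈ D₂ ∧ y ≠ d₂ ∧ Commute d₂ y}) ≤ Subgroup.center ↥(Subgroup.closure {y : G₂ | y ∈ D₂ ∧ y ≠ d₂ ∧ Commute d₂ y})) (ht₁ : Cfsg.IsOfTypeM22 G₁ D₁) (ht₂ : Cfsg.IsOfTypeM22 G₂ D₂) : ∃ e : G₁ ≃* G₂, e '' D₁ = D₂ := by
  obtain ⟨e1, -⟩ := ThreeTrans.Y332.exists_iso hD₁ (ThreeTrans.class_of_primitive hD₁ hprim₁) ht₁
  obtain ⟨e2, -⟩ := ThreeTrans.Y332.exists_iso hD₂ (ThreeTrans.class_of_primitive hD₂ hprim₂) ht₂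
  set e : G₁ ≃* G₂ := e1.symm.trans e2
  refine ⟨e, ThreeTrans.unique_of_M22 hD₂ hprim₂ ht₂ ?_⟩
  obtain ⟨hT, ⟨d, hd, hcl⟩, hgen⟩ := ThreeTrans.class_of_primitive hD₁ hprim₁
  refine ⟨⟨?_, ?_⟩, ⟨e d, Set.mem_image_of_mem _ hd, ?_⟩, ?_⟩
  · rintro - ⟨x, hx, rfl⟩
    rw [MulEquiv.orderOf_eq]
    exact hT.1 x hx
  · rintro - ⟨x, hx, rfl⟩ - ⟨y, hy, rfl⟩
    rcases hT.2 x hx y hy with h | h
    · exact Or.inl (by rw [← map_mul, ← map_pow, h, map_one])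
    · exact Or.inr (by rw [← map_mul, ← map_pow, h, map_one])
  · ext y
    rw [Set.mem_image]
    show _ ↔ IsConj _ y
    constructor
    · rintro ⟨x, hx, rfl⟩
      rw [hcl] at hx
      exact e.toMonoidHom.map_isConj hx
    · intro h
      refine ⟨e.symm y, ?_, e.apply_symm_apply y⟩
      rw [hcl]
      show IsConj d _
      simpa using e.symm.toMonoidHom.map_isConj h
  · rw [show ((e : G₁ → G₂) '' D₁) = e.toMonoidHom '' D₁ from rfl, ← MonoidHom.map_closure, hgen]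
    exact Subgroup.map_top_of_surjective _ e.surjective

end Cfsg.Agent.S5370
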