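import Cfsg.Statements.S5372
import Cfsg.Agent.ThreeTrans.Y542.Iso

set_option autoImplicit false
open Cfsg

namespace Cfsg.Agent.S5372

/-- Uniqueness of the 3-transposition groups of type M(24). Let G₁ and G₂ be finite groups with trivial centres, each generated by a conjugation-invariant set of 3-transpositions Dᵢ on which it acts primitively, such that for some member d of Dᵢ the subgroup generated by the members of Dᵢ other than d commuting with d has central largest normal 2- and 3-subgroups, and suppose each Gᵢ with Dᵢ is of type M(24). Then there is an isomorphism from G₁ to G₂ carrying D₁ onto D₂. -/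
theorem result {G₁ G₂ : Type*} [Group G₁] [Finite G₁] [Group G₂] [Finite G₂] {D₁ : Set G₁} {D₂ : Set G₂} (hD₁ : Cfsg.IsThreeTranspositionGroup D₁) (hprim₁ : Cfsg.IsPrimitiveUnderConj D₁) (hZ₁ : Subgroup.center G₁ = ⊥) (d₁ : G₁) (hd₁ : d₁ ∈ D₁) (h3₁ : Cfsg.pCore 3 ↥(Subgroup.closure {y : G₁ | y ∈ D₁ ∧ y ≠ d₁ ∧ Commute d₁ y}) ≤ Subgroup.center ↥(Subgroup.closure {y : G₁ | y ∈ D₁ ∧ y ≠ d₁ ∧ Commute d₁ y})) (h2₁ : Cfsg.pCore 2 ↥(Subgroup.closure {y : G₁ | y ∈ D₁ ∧ y ≠ d₁ ∧ Commute d₁ y}) ≤ Subgroup.center ↥(Subgroup.closure {y : G₁ | y ∈ D₁ ∧ y ≠ d₁ ∧ Commute d₁ y})) (hD₂ : Cfsg.IsThreeTranspositionGroup D₂) (hprim₂ : Cfsg.IsPrimitiveUnderConj D₂) (hZ₂ : Subgroup.center G₂ = ⊥) (d₂ : G₂) (hd₂ : d₂ ∈ D₂) (h3₂ : Cfsg.pCore 3 ↥(Subgroup.closure {y : G₂ | y ∈ D₂ ∧ y ≠ d₂ ∧ Commute d₂ y}) ≤ Subgroup.center ↥(Subgroup.closure {y : G₂ | y ∈ D₂ ∧ y ≠ d₂ ∧ Commute d₂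 y})) (h2₂ : Cfsg.pCore 2 ↥(Subgroup.closure {y : G₂ | y ∈ D₂ ∧ y ≠ d₂ ∧ Commute d₂ y}) ≤ Subgroup.center ↥(Subgroup.closure {y : G₂ | y ∈ D₂ ∧ y ≠ d₂ ∧ Commute d₂ y})) (ht₁ : Cfsg.IsOfTypeM24 G₁ D₁) (ht₂ : Cfsg.IsOfTypeM24 G₂ D₂) : ∃ e : G₁ ≃* G₂, e '' D₁ = D₂ := by
  obtain ⟨e1, h1⟩ := ThreeTrans.Y542.exists_iso hD₁ hprim₁ ht₁
  obtain ⟨e2, h2⟩ := ThreeTrans.Y542.exists_iso hD₂ hprim₂ ht₂
  set e : G₁ ≃* G₂ := e1.symm.trans e2
  obtain ⟨-, ⟨a, -, ha⟩, -⟩ := ThreeTrans.class_of_primitive hD₁ hprim₁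
  obtain ⟨-, ⟨b, -, hb⟩, -⟩ := ThreeTrans.class_of_primitive hD₂ hprim₂
  have hx : e (e1 (PresentedGroup.of .l)) = e2 (PresentedGroup.of .l) := by simp [e]
  have ha' : IsConj a (e1 (PresentedGroup.of Cfsg.Spor.Fi24.Gen.l)) := by
    have := h1 .l
    rwa [ha] at this
  have hb' : IsConj b (e2 (PresentedGroup.of Cfsg.Spor.Fi24.Gen.l)) := by
    have := h2 .l
    rwa [hb] at this
  refine ⟨e, Set.Subset.antisymm ?_ fun y hy => ?_⟩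
  · rintro - ⟨x, hxD, rfl⟩
    rw [ha] at hxD
    rw [hb]
    have := e.toMonoidHom.map_isConj (ha'.symm.trans hxD)
    exact hb'.trans (by simpa [hx] using this)
  · rw [hb] at hy
    refine ⟨e.symm y, ?_, e.apply_symm_apply y⟩
    rw [ha]
    have := e.symm.toMonoidHom.map_isConj (hb'.symm.trans hy)
    exact ha'.trans (by simpa [← hx] using this)

end Cfsg.Agent.S5372
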