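import Cfsg.Statements.S5373
import Cfsg.Agent.ThreeTrans.CountD
import Cfsg.Agent.ThreeTrans.Primitive

set_option autoImplicit false
open Cfsg

namespace Cfsg.Agent.S5373

/-- Let G be a finite group with trivial centre generated by a conjugation-invariant set D of 3-transpositions on which it acts primitively, of type M(22), and suppose some finite primitive 3-transposition group of type M(24) exists. Then D has exactly 3510 members, G has order 2^17 · 3^9 · 5^2 · 7 · 11 · 13, the width of D (largest number of pairwise commuting members) is 22, and for every d in D the centralizer of d is generated by the members of D other than d commuting with d. -/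
theorem result {G : Type*} [Group G] [Finite G] {D : Set G} (hD : Cfsg.IsThreeTranspositionGroup D) (hprim : Cfsg.IsPrimitiveUnderConj D) (ht : Cfsg.IsOfTypeM22 G D) (hex : ∃ (X : Type) (_ : Group X) (_ : Finite X) (E : Set X), Cfsg.IsThreeTranspositionClass E ∧ Cfsg.IsPrimitiveUnderConj E ∧ Cfsg.IsOfTypeM24 X E) : D.ncard = 3510 ∧ Nat.card G = 2 ^ 17 * 3 ^ 9 * 5 ^ 2 * 7 * 11 * 13 ∧ Cfsg.commutingWidth D = 22 ∧ ∀ d ∈ D, Subgroup.closure {y : G | y ∈ D ∧ y ≠ d ∧ Commute d y} = Subgroup.centralizer ({d} : Set G) := by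
  have hF := ThreeTrans.m22Full hD ht
  have hA : ∀ t ∈ D, ThreeTrans.Arcs (ThreeTrans.dperp D t) := ThreeTrans.arcs_of_M22 hD ht
  have hC := ThreeTrans.layer_counts_M22 hD ht
  have hc := ThreeTrans.counts hD ht
  obtain ⟨a, ha, -⟩ := hprim.2.1
  have hn := ThreeTrans.ncard_members hD ht.1 hF hA hC (fun x hx => (hc x hx).1)
    (fun x hx => (hc x hx).2.1) ha
  refine ⟨hn, ?_, ThreeTrans.width_22 hD ht.1 hF hA hC ha,
    fun d hd => (ThreeTrans.centralizer_eq_closure hD hF ht.1 hd).symm⟩
  rw [← Subgroup.card_top, ThreeTrans.card_eq_orbit_mul ⊤ a D (fun g _ => hD.2.1 g a ha)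
    (fun y hy => (hprim.1 a ha y hy).imp fun g hg => ⟨Subgroup.mem_top g, hg⟩), top_inf_eq,
    (hc a ha).2.2, hn]
  norm_num

end Cfsg.Agent.S5373
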