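import Cfsg.Statements.S5374
import Cfsg.Agent.ThreeTrans.InvolM23

set_option autoImplicit false
open Cfsg

namespace Cfsg.Agent.S5374

/-- Let G be a finite group with trivial centre generated by a conjugation-invariant set D of 3-transpositions on which it acts primitively, of type M(23), and suppose some finite primitive 3-transposition group of type M(24) exists. Then G is simple, D has exactly 31671 members, G has order 2^18 · 3^13 · 5^2 · 7 · 11 · 13 · 17 · 23, the width of D is 23, and for every d in D the subgroup H generated by the members of D other than d commuting with d is the centralizer of d and is quasisimple with centre generated by d. -/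
theorem result {G : Type*} [Group G] [Finite G] {D : Set G} (hD : Cfsg.IsThreeTranspositionGroup D) (hprim : Cfsg.IsPrimitiveUnderConj D) (ht : Cfsg.IsOfTypeM23 G D) (hex : ∃ (X : Type) (_ : Group X) (_ : Finite X) (E : Set X), Cfsg.IsThreeTranspositionClass E ∧ Cfsg.IsPrimitiveUnderConj E ∧ Cfsg.IsOfTypeM24 X E) : IsSimpleGroup G ∧ D.ncard = 31671 ∧ Nat.card G = 2 ^ 18 * 3 ^ 13 * 5 ^ 2 * 7 * 11 * 13 * 17 * 23 ∧ Cfsg.commutingWidth D = 23 ∧ ∀ d ∈ D, Subgroup.closure {y : G | y ∈ D ∧ y ≠ d ∧ Commute d y} = Subgroup.centralizer ({d} : Set G) ∧ Cfsg.IsQuasisimple ↥(Subgroup.closure {y : G | y ∈ D ∧ y ≠ d ∧ Commute d y}) ∧ Subgroup.center ↥(Subgroup.closure {y : G | y ∈ D ∧ y ≠ d ∧ Commute d y}) = (Subgroup.zpowers d).subgroupOf (Subgroup.closure {y : G | y ∈ D ∧ y ≠ d ∧ Commute d y}) := by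
  have hcls := ThreeTrans.class_of_primitive hD hprim
  have hM := ThreeTrans.m23Data hD hprim ht
  obtain ⟨X, _, _, E, hE, hclsE, h22, hcov⟩ := ThreeTrans.exists_cover23 hD hprim ht
  obtain ⟨a, ha, -⟩ := hprim.2.1
  refine ⟨ThreeTrans.simple_M23 hD hcls hM hE hclsE h22 hcov,
    ThreeTrans.ncard_members23 hD (ThreeTrans.layers23 hD hE h22 hcov) ha,
    ThreeTrans.card_M23 hD hcls hM hE hclsE h22 hcov ha,
    ThreeTrans.width_M23 hD hcls hM hE hclsE h22 hcov ha, fun d hd => ?_⟩
  have hclo : Subgroup.closure {y : G | y ∈ D ∧ y ≠ d ∧ Commute d y} =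
      Subgroup.centralizer ({d} : Set G) := (hcov d hd).top.symm
  rw [hclo]
  have hmaps := (hcov d hd).maps
  set C := Subgroup.centralizer ({d} : Set G)
  obtain ⟨χ, ψ, hχ, hker, -, -⟩ := hmaps
  have hdC : d ∈ C := Subgroup.mem_centralizer_singleton_iff.2 rfl
  have hk : χ.ker = Subgroup.center C := by
    ext x
    rw [MonoidHom.mem_ker]
    constructor
    · intro hx
      refine Subgroup.mem_center_iff.2 fun g => Subtype.ext ?_
      rcases (hker x).1 hx with h | h <;> rw [Subgroup.coe_mul, Subgroup.coe_mul, h]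
      · rw [one_mul, mul_one]
      · exact Subgroup.mem_centralizer_singleton_iff.1 g.2
    · intro hx
      have : χ x ∈ Subgroup.center X := Subgroup.mem_center_iff.2 fun q => by
        obtain ⟨g, rfl⟩ := hχ q
        rw [← map_mul, ← map_mul, Subgroup.mem_center_iff.1 hx g]
      rwa [h22.1, Subgroup.mem_bot] at this
  refine ⟨rfl, ⟨(Subgroup.isPerfect_iff).2 (hcov d hd).perfect, ?_⟩, ?_⟩
  · exact (MulEquiv.isSimpleGroup_congr ((QuotientGroup.quotientMulEquivOfEq hk.symm).trans
      (QuotientGroup.quotientKerEquivOfSurjective χ hχ))).2 (ThreeTrans.simple_M22 hE hclsE h22)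
  · ext x
    rw [← hk, MonoidHom.mem_ker, hker, Subgroup.mem_subgroupOf, Subgroup.mem_zpowers_iff]
    constructor
    · rintro (h | h)
      · exact ⟨0, by rw [h, zpow_zero]⟩
      · exact ⟨1, by rw [h, zpow_one]⟩
    · rintro ⟨k, hk⟩
      rw [← zpow_mod_orderOf, hD.1.1 d hd] at hk
      rcases Int.emod_two_eq k with h | h <;> simp only [Nat.cast_ofNat, h, zpow_zero, zpow_one] at hk
      · exact Or.inl hk.symm
      · exact Or.inr hk.symm

end Cfsg.Agent.S5374
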