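import Cfsg.Statements.S5376
import Cfsg.Agent.ThreeTrans.SimpleM22
import Cfsg.Agent.S0283

set_option autoImplicit false
open Cfsg

namespace Cfsg.Agent.S5376

/-- Let G be a finite group with trivial centre generated by a conjugation-invariant set D of 3-transpositions on which it acts primitively, of type M(22), and suppose some finite primitive 3-transposition group of type M(23) exists. Then G is simple, and for every d in D the subgroup generated by the members of D other than d commuting with d contains d and is quasisimple with centre generated by d. -/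
theorem result {G : Type*} [Group G] [Finite G] {D : Set G} (hD : Cfsg.IsThreeTranspositionGroup D) (hprim : Cfsg.IsPrimitiveUnderConj D) (ht : Cfsg.IsOfTypeM22 G D) (hex : ∃ (X : Type) (_ : Group X) (_ : Finite X) (E : Set X), Cfsg.IsThreeTranspositionClass E ∧ Cfsg.IsPrimitiveUnderConj E ∧ Cfsg.IsOfTypeM23 X E) : IsSimpleGroup G ∧ ∀ d ∈ D, d ∈ Subgroup.closure {y : G | y ∈ D ∧ y ≠ d ∧ Commute d y} ∧ Cfsg.IsQuasisimple ↥(Subgroup.closure {y : G | y ∈ D ∧ y ≠ d ∧ Commute d y}) ∧ Subgroup.center ↥(Subgroup.closure {y : G | y ∈ D ∧ y ≠ d ∧ Commute d y}) = (Subgroup.zpowers d).subgroupOf (Subgroup.closure {y : G | y ∈ D ∧ y ≠ d ∧ Commute d y}) := by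
  have hF := ThreeTrans.m22Full hD ht
  have hT := hD.1
  have e : D \ {1} = D := Set.sdiff_singleton_eq_self fun h1 => ThreeTrans.ne_one hT h1 rfl
  obtain ⟨K, _, _, hK, hq⟩ := ThreeTrans.m22_quotient (by rwa [e]) ht
  rw [e] at hq
  have : IsSimpleGroup (PSU 6 K 2) := Cfsg.Agent.S0283.result
    (by rw [hK]; norm_num : Fintype.card K = 2 ^ 2) 6 (by norm_num) (by norm_num)
  have hper := fun d hd => ThreeTrans.centralizer_perfect_M22 hD ht (d := d) hd
  refine ⟨ThreeTrans.simple_of_perfect_centralizers hD hprim ht.1 hper hq, fun d hd => ?_⟩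
  have hcen : Subgroup.closure {y : G | y ∈ D ∧ y ≠ d ∧ Commute d y} =
      Subgroup.centralizer ({d} : Set G) := (ThreeTrans.centralizer_eq_closure hD hF ht.1 hd).symm
  rw [hcen]
  set C := Subgroup.centralizer ({d} : Set G)
  obtain ⟨χ, hsurj, hker⟩ := hq d hd
  have hdC : d ∈ C := Subgroup.mem_centralizer_singleton_iff.2 rfl
  have hZ : ∀ x : C, x ∈ Subgroup.center C ↔ ((x : G) = 1 ∨ (x : G) = d) := by
    intro x
    constructor
    · intro hx
      exact ThreeTrans.eq_one_or_eq_of_centralises hD ht.1 hF.data hF.links hd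
        (Subgroup.mem_centralizer_singleton_iff.1 x.2) fun y hy =>
          (congrArg Subtype.val (Subgroup.mem_center_iff.1 hx
            ⟨y, Subgroup.mem_centralizer_singleton_iff.2 hy.2.2.symm.eq⟩)).symm
    · rintro (hx | hx) <;> refine Subgroup.mem_center_iff.2 fun g => Subtype.ext ?_ <;>
        rw [Subgroup.coe_mul, Subgroup.coe_mul, hx]
      · rw [one_mul, mul_one]
      · exact Subgroup.mem_centralizer_singleton_iff.1 g.2
  refine ⟨hdC, ⟨(Subgroup.isPerfect_iff).2 (hper d hd), ?_⟩, ?_⟩
  · have hk : χ.ker = Subgroup.center C := by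
      ext x; rw [MonoidHom.mem_ker, hker, hZ]
    exact (MulEquiv.isSimpleGroup_congr ((QuotientGroup.quotientMulEquivOfEq hk.symm).trans
      (QuotientGroup.quotientKerEquivOfSurjective χ hsurj))).2 inferInstance
  · have hsq : orderOf d = 2 := hT.1 d hd
    ext x
    rw [hZ, Subgroup.mem_subgroupOf, Subgroup.mem_zpowers_iff]
    constructor
    · rintro (h | h)
      · exact ⟨0, by rw [h, zpow_zero]⟩
      · exact ⟨1, by rw [h, zpow_one]⟩
    · rintro ⟨k, hk⟩
      rw [← zpow_mod_orderOf, hsq] at hk
      rcases Int.emod_two_eq k with h | h <;> simp only [Nat.cast_ofNat, h, zpow_zero, zpow_one] at hk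
      · exact Or.inl hk.symm
      · exact Or.inr hk.symm

end Cfsg.Agent.S5376
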