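import Cfsg.Statements.S5389
import Cfsg.Agent.CoSection.SuzShape

set_option autoImplicit false
open Cfsg

namespace Cfsg.Agent.S5389

/-- A simple section of the automorphism group of the Leech lattice satisfying the Suzuki-sporadic-type hypothesis (the group so obtained is the sporadic Suzuki group; that identification is not part of this statement): there is a subgroup A of order 3 of that automorphism group such that the centralizer of A modulo the subgroup generated by A and the centre of the automorphism group is a non-abelian simple group satisfying the large extraspecial hypothesis of minus type in dimension 6 — an involution whose centralizer has extraspecial generalized Fitting subgroup of order 2^7 with quotient the commutator subgroup of the isometry group of the elliptic quadratic form in dimension 6 over the field with two elements, the involution not weakly closed in that extraspecial group. -/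
theorem result : ∃ A : Subgroup ↥Cfsg.Co0, Nat.card A = 3 ∧ ∃ (hn : ((A ⊔ Subgroup.center ↥Cfsg.Co0).subgroupOf (Subgroup.centralizer (A : Set ↥Cfsg.Co0))).Normal), ∃ (S : Type) (_ : Group S) (_ : Finite S), Nonempty (S ≃* ↥(Subgroup.centralizer (A : Set ↥Cfsg.Co0)) ⧸ (A ⊔ Subgroup.center ↥Cfsg.Co0).subgroupOf (Subgroup.centralizer (A : Set ↥Cfsg.Co0))) ∧ IsSimpleGroup S ∧ ¬ IsMulCommutative S ∧ ∃ z : S, orderOf z = 2 ∧ ∃ (Q : Subgroup (Subgroup.centralizer ({z} : Set S))) (_ : Q.Normal), Cfsg.generalizedFittingSubgroup (Subgroup.centralizer ({z} : Set S)) = Q ∧ Cfsg.IsExtraspecial 2 Q ∧ Nat.card Q = 2 ^ 7 ∧ Nonempty ((Subgroup.centralizer ({z} : Set S)) ⧸ Q ≃* Cfsg.Omega (ZMod 2) (Cfsg.quadFormMinus 2 (ZMod 2) 1 1)) ∧ ∃ g : S, (∃ hq : g * z * g⁻¹ ∈ Subgroup.centralizer ({z} : Set S), (⟨g * z * g⁻¹, hq⟩ : Subgroup.centralizer ({z} : Set S)) ∈ Q) ∧ g * z * g⁻¹ ≠ z := by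
  have := CoSection.Suz3.phiS_bijective
  obtain ⟨e⟩ := CoSection.Suz3.exists_equiv
  have hsz := CosetCert.SuzOrder.order_and_simple
  have : IsSimpleGroup Cfsg.Spor.Suz := hsz.1
  have := Leech.finite_co0
  have hsimp : IsSimpleGroup CoSection.Suz3.QS := MulEquiv.isSimpleGroup e.symm
  have hna : ¬ IsMulCommutative CoSection.Suz3.QS := fun h => by
    let _ : CommGroup CoSection.Suz3.QS :=
      { (inferInstance : Group CoSection.Suz3.QS) with mul_comm := fun a b => h.is_comm.comm a b }
    have hp := IsSimpleGroup.prime_card (α := CoSection.Suz3.QS)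
    rw [← Nat.card_congr e.toEquiv, hsz.2] at hp
    norm_num at hp
  exact ⟨CoSection.AA CoSection.Suz3.aEl,
    CoSection.card_AA CoSection.Suz3.prime_three CoSection.Suz3.base_ok,
    CoSection.nn_normal CoSection.Suz3.aEl, CoSection.Suz3.QS, inferInstance, inferInstance,
    ⟨MulEquiv.refl _⟩, hsimp, hna, CoSection.Suz3.large_extraspecial⟩

end Cfsg.Agent.S5389
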