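import Cfsg.Statements.S5394
import Cfsg.Agent.Compute.FixedCounts

set_option autoImplicit false
open Cfsg
open scoped Pointwise

namespace Cfsg.Agent.S5394

/-- The automorphism group of the length-24 code built from the squares modulo 23 has exactly two conjugacy classes of involutions: an involution either fixes exactly the eight points of an octad or has no fixed points, both kinds occur, and any two involutions of the same kind are conjugate in the group. -/
theorem result : (∀ g ∈ Cfsg.M24, orderOf g = 2 → (Finset.univ.filter fun p => g p = p) ∈ Cfsg.octads ∨ ∀ p, g p ≠ p) ∧ (∃ g ∈ Cfsg.M24, orderOf g = 2 ∧ (Finset.univ.filter fun p => g p = p) ∈ Cfsg.octads) ∧ (∃ g ∈ Cfsg.M24, orderOf g = 2 ∧ ∀ p, g p ≠ p) ∧ ∀ g ∈ Cfsg.M24, ∀ h ∈ Cfsg.M24, orderOf g = 2 → orderOf h = 2 → ((∀ p, g p ≠ p) ↔ (∀ p, h p ≠ p)) → ∃ k ∈ Cfsg.M24, k * g * k⁻¹ = h := by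
  have hrep : ∀ j, Compute.rep24.den (Compute.syl2Reps.getD j Compute.rep24.one) ∈ Cfsg.M24 := by
    intro j
    have h := Compute.classReps_facts.1
    rw [List.all_append, Bool.and_eq_true, List.all_eq_true] at h
    by_cases hj : j < Compute.syl2Reps.length
    · rw [List.getD_eq_getElem _ _ hj]
      exact (Compute.mem_M24_of_check (h.1 _ (List.getElem_mem hj))).2
    · rw [List.getD_eq_default _ _ (by omega), Compute.rep24.den_one]; exact one_mem _
  have hord : ∀ j < 2, orderOf (Compute.rep24.den (Compute.syl2Reps.getD j Compute.rep24.one)) = 2 := by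
    intro j hj
    have hl : j < Compute.syl2Reps.length := by simpa [Compute.syl2Reps] using hj
    have h := List.all_eq_true.mp Compute.classReps_facts.2.1 _ (List.getElem_mem hl)
    rw [← List.getD_eq_getElem _ Compute.rep24.one hl, Bool.and_eq_true, Bool.not_eq_true',
      Bool.eq_false_iff] at h
    have hok := (Compute.rep_ok j).1
    obtain ⟨hokp, hdenp⟩ := Compute.rep24.powCode_spec hok 2
    exact orderOf_eq_prime (hdenp ▸ (Compute.idB_iff hokp).mp h.2)
      fun e => h.1 ((Compute.idB_iff hok).mpr e)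
  refine ⟨fun g hg h => ?_, ⟨_, hrep 0, hord 0 (by norm_num), ?_⟩, ⟨_, hrep 1, hord 1 (by norm_num), ?_⟩, ?_⟩
  · rcases Compute.involution_cases hg h with ⟨-, h', -⟩ | ⟨h', -⟩
    · exact Or.inl h'
    · exact Or.inr h'
  · rw [Compute.fixFilter_rep (Compute.rep_ok 0).1]
    exact Compute.mem_octads_of_check Compute.fixMask_facts.1
  · exact Compute.fixFilter_zero (Compute.rep_ok 1).1 Compute.fixMask_facts.2.1
  · intro g hg h hh og oh hiff
    have key : ∃ j, (∃ k ∈ Cfsg.M24, k * g * k⁻¹ = Compute.rep24.den (Compute.syl2Reps.getD j Compute.rep24.one)) ∧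
        ∃ k ∈ Cfsg.M24, k * h * k⁻¹ = Compute.rep24.den (Compute.syl2Reps.getD j Compute.rep24.one) := by
      rcases Compute.involution_cases hg og with ⟨h8, -, hk⟩ | ⟨h0, hk⟩
      · refine ⟨0, hk, ?_⟩
        rcases Compute.involution_cases hh oh with ⟨-, -, hk'⟩ | ⟨h0', -⟩
        · exact hk'
        · exact absurd (Compute.card_fixFilter_zero (hiff.mpr h0')) (by omega)
      · exact ⟨1, hk, Compute.conj_involution_of_fix hh oh (Or.inr ⟨rfl, hiff.mp h0⟩)⟩
    obtain ⟨j, ⟨a, ha, hag⟩, ⟨b, hb, hbh⟩⟩ := key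
    refine ⟨b⁻¹ * a, mul_mem (inv_mem hb) ha, ?_⟩
    calc b⁻¹ * a * g * (b⁻¹ * a)⁻¹ = b⁻¹ * (a * g * a⁻¹) * b := by group
      _ = b⁻¹ * (b * h * b⁻¹) * b := by rw [hag, hbh]
      _ = h := by group

end Cfsg.Agent.S5394
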