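import Cfsg.Statements.S5395
import Cfsg.Agent.Fusion.Extraspecial

set_option autoImplicit false
open Cfsg

namespace Cfsg.Agent.S5395

/-- For a finite extraspecial 2-group E, an automorphism of E that induces the identity on E modulo its centre is inner (so these automorphisms form exactly the inner automorphism group, an elementary abelian 2-group of order |E|/2). -/
theorem result {E : Type*} [Group E] [Finite E] (hE : Cfsg.IsExtraspecial 2 E) (φ : E ≃* E) (hφ : ∀ x : E, φ x * x⁻¹ ∈ Subgroup.center E) : ∃ g : E, ∀ x : E, φ x = g * x * g⁻¹ := by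
  have : Fact (Nat.Prime 2) := ⟨Nat.prime_two⟩
  have hcen : ∀ z ∈ Subgroup.center E, φ z ∈ Subgroup.center E := fun z hz => by
    have h1 := hφ z
    have := mul_mem h1 hz
    rwa [inv_mul_cancel_right] at this
  have hfix : ∀ z ∈ Subgroup.center E, φ z = z := by
    intro z hz
    by_cases h1 : z = 1
    · simp [h1]
    obtain ⟨a, -, ha⟩ := Nat.card_eq_two_iff' (1 : Subgroup.center E) |>.1 hE.2
    have e1 : (⟨φ z, hcen z hz⟩ : Subgroup.center E) = a := ha _ fun h =>
      h1 ((map_eq_one_iff φ φ.injective).1 (congrArg Subtype.val h))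
    have e2 : (⟨z, hz⟩ : Subgroup.center E) = a := ha _ fun h => h1 (congrArg Subtype.val h)
    exact congrArg Subtype.val (e1.trans e2.symm)
  let f : E →* E := MonoidHom.mk' (fun x => φ x * x⁻¹) fun x y => by
    rw [map_mul, mul_inv_rev, mul_assoc (φ x) (φ y), ← mul_assoc (φ y),
      ← Subgroup.mem_center_iff.1 (hφ y) x⁻¹, ← mul_assoc (φ x)]
  obtain ⟨e, -, he⟩ := Fusion.es_hom_eq_commutator hE f hφ
    (fun z hz => by
      show φ z * z⁻¹ = 1
      rw [hfix z hz, mul_inv_cancel]) ⊤ le_top Fusion.es_top_nondeg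
  refine ⟨e, fun x => ?_⟩
  have h2 : φ x * x⁻¹ = e * x * e⁻¹ * x⁻¹ := he x (Subgroup.mem_top x)
  exact mul_right_cancel h2

end Cfsg.Agent.S5395
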