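import Cfsg.Statements.S5397
import Cfsg.Agent.CoOneGolay.Main
import Cfsg.Agent.CoOneType.Build
-- import your own Cfsg.Agent.* helpers here

set_option autoImplicit false
open Cfsg Cfsg.Agent.CoOneGolay

namespace Cfsg.Agent.S5397

/-- Let G be a finite group of Conway type (involution z with generalized Fitting subgroup Q of its centralizer C extraspecial of order 2^9, C/Q the commutator subgroup of the isometry group of the hyperbolic quadratic form in dimension 8 over the field with two elements, z not weakly closed in Q). Then G has an elementary abelian subgroup A of order 2^11 containing z whose normalizer N is a split extension of A with N/A isomorphic to the automorphism group of the length-24 code built from the squares modulo 23, and N has exactly two orbits on the non-identity elements of A. -/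
theorem result {G : Type*} [Group G] [Finite G] (z : G) (hz : orderOf z = 2) (Q : Subgroup (Subgroup.centralizer ({z} : Set G))) [Q.Normal] (hF : Cfsg.generalizedFittingSubgroup (Subgroup.centralizer ({z} : Set G)) = Q) (hQ : Cfsg.IsExtraspecial 2 Q) (hcard : Nat.card Q = 2 ^ 9) (e : (Subgroup.centralizer ({z} : Set G)) ⧸ Q ≃* Cfsg.Omega (ZMod 2) (Cfsg.quadFormPlus 4 (ZMod 2))) (hnwc : ∃ g : G, (∃ hq : g * z * g⁻¹ ∈ Subgroup.centralizer ({z} : Set G), (⟨g * z * g⁻¹, hq⟩ : Subgroup.centralizer ({z} : Set G)) ∈ Q) ∧ g * z * g⁻¹ ≠ z) : ∃ A : Subgroup G, Cfsg.IsElementaryAbelian 2 A ∧ Nat.card A = 2 ^ 11 ∧ z ∈ A ∧ ∃ _ : (A.subgroupOf (Subgroup.normalizer (A : Set G))).Normal, Nonempty (↥(Subgroup.normalizer (A : Set G)) ⧸ A.subgroupOf (Subgroup.normalizer (A : Set G)) ≃* ↥Cfsg.M24) ∧ (∃ K : Subgroup ↥(Subgroup.normalizer (A : Set G)), (A.subgroupOf (Subgroup.normalizer (A : Set G))).IsComplement' K) ∧ ∃ a ∈ A, ∃ b ∈ A, a ≠ 1 ∧ b ≠ 1 ∧ (∀ n ∈ Subgroup.normalizer (A : Set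 G), n * a * n⁻¹ ≠ b) ∧ ∀ c ∈ A, c ≠ 1 → ∃ n ∈ Subgroup.normalizer (A : Set G), n * c * n⁻¹ = a ∨ n * c * n⁻¹ = b := by
  obtain ⟨S₀⟩ := Cfsg.Agent.CoOneType.exists_co z hz Q hF hQ hcard e hnwc
  obtain ⟨S, w, D, g, s, M⟩ := exists_model z S₀
  have hne : ∀ v, v < 2048 → D.psi s v = 1 → v = 0 := fun v hv h => by
    have h0 : D.psi s 0 = 1 := by
      have := D.psi_xor M.good s (x := 0) (y := 0) (by norm_num) (by norm_num)
      simpa using this
    exact congrArg Fin.val (D.psi_inj s (v := ⟨v, hv⟩) (v' := ⟨0, by norm_num⟩) (h.trans h0.symm))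
  obtain ⟨hn, hiso⟩ := M.quotient_iso
  refine ⟨Au S, ⟨⟨⟨fun a b => Subtype.ext (D.Au_comm M.good a.2 b.2)⟩⟩, fun a ha => ?_⟩, D.card_Au, Frm.zmem_Au,
    hn, hiso, M.split, z, Frm.zmem_Au, D.psi s 385, D.psi_mem _ _, S.zne,
    fun h => by have := hne 385 (by norm_num) h; norm_num at this, fun n _ h => ?_, fun c hc hc1 => ?_⟩
  · rw [pow_two]
    exact D.Au_sq M.good ha
  · have := (M.conj_iff 385 (by norm_num)).1 (isConj_iff.2 ⟨n, h⟩)
    rw [rep_bits.2.2.2.2.2.2.1] at this
    exact Bool.noConfusion this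
  · obtain ⟨v, rfl⟩ := D.psi_surj s hc
    cases hv : zTab.testBit v.val with
    | true =>
      obtain ⟨n, hn, e⟩ := M.orbit v.val v.isLt hv
      exact ⟨n⁻¹, inv_mem hn, Or.inl (by rw [← e]; group)⟩
    | false =>
      have hv0 : v.val ≠ 0 := fun h => hc1 (by
        rw [h]
        have := D.psi_xor M.good s (x := 0) (y := 0) (by norm_num) (by norm_num)
        simpa using this)
      obtain ⟨n, hn, e⟩ := M.orbit' v.val v.isLt hv0 hv
      exact ⟨n⁻¹, inv_mem hn, Or.inr (by rw [← e]; group)⟩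

end Cfsg.Agent.S5397
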