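import Cfsg.Statements.S5401
import Cfsg.Agent.FischerTypes.M24

set_option autoImplicit false
open Cfsg

namespace Cfsg.Agent.S5401

/-- Existence of the Fischer 3-transposition groups: there exist finite groups generated by a conjugacy class of 3-transpositions on which they act primitively that are of type M(22), of type M(23), and of type M(24) respectively. -/
theorem result : (∃ (X : Type) (_ : Group X) (_ : Finite X) (E : Set X), Cfsg.IsThreeTranspositionClass E ∧ Cfsg.IsPrimitiveUnderConj E ∧ Cfsg.IsOfTypeM22 X E) ∧ (∃ (X : Type) (_ : Group X) (_ : Finite X) (E : Set X), Cfsg.IsThreeTranspositionClass E ∧ Cfsg.IsPrimitiveUnderConj E ∧ Cfsg.IsOfTypeM23 X E) ∧ (∃ (X : Type) (_ : Group X) (_ : Finite X) (E : Set X), Cfsg.IsThreeTranspositionClass E ∧ Cfsg.IsPrimitiveUnderConj E ∧ Cfsg.IsOfTypeM24 X E) := by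
  haveI h22 : Finite Cfsg.Agent.FischerTypes.F22.G := Cfsg.Agent.CosetCert.Fi22Order.card_bound.1
  haveI h24 : Finite Cfsg.Agent.FischerTypes.F24.G :=
    Finite.of_injective _ Cfsg.Agent.Fi24.φ_injective
  refine ⟨⟨Cfsg.Agent.FischerTypes.F22.G, inferInstance, h22, _, Cfsg.Agent.Fi22Trans.isClass.1,
      Cfsg.Agent.FischerTypes.F22.primitive, Cfsg.Agent.FischerTypes.F22.isM22⟩,
    ⟨Cfsg.Agent.FischerTypes.F23.G, inferInstance, inferInstance, _, ?_,
      Cfsg.Agent.FischerTypes.F23.primitive, Cfsg.Agent.FischerTypes.F23.isM23⟩,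
    ⟨Cfsg.Agent.FischerTypes.F24.G, inferInstance, h24, _, Cfsg.Agent.Fi24.three_class,
      Cfsg.Agent.FischerTypes.F24.primitive, Cfsg.Agent.FischerTypes.F24.isM24⟩⟩
  exact Cfsg.Agent.FischerTypes.F23.isClass

end Cfsg.Agent.S5401
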