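import Cfsg.Statements.S5410
import Cfsg.Agent.MonsterType.Intersection

set_option autoImplicit false
open Cfsg Cfsg.Agent

namespace Cfsg.Agent.S5410

/-- Let G be a finite group of Monster type at the involution z with Q the extraspecial normal subgroup of order 2^25 of C = C_G(z) (so C/Q is identified with the first Conway group with Q modulo its centre the Leech lattice modulo 2, and z is not weakly closed in Q). Let g in G with s = g z g⁻¹ a member of Q other than z, let X be the image in C/Q of the centralizer of s in C, and let E be the image in C/Q of the intersection of g Q g⁻¹ with C. Then E is a normal subgroup of X, elementary abelian of order 2^11, and it has a complement in X isomorphic to the Mathieu group of degree 24 (the automorphism group of the length-24 binary Golay code). -/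
theorem result {G : Type*} [Group G] [Finite G] (z : G) (Q : Subgroup (Subgroup.centralizer ({z} : Set G))) [Q.Normal] (hM : Cfsg.IsOfMonsterType z Q) (s : G) (hsQ : ∃ hsc : s ∈ Subgroup.centralizer ({z} : Set G), (⟨s, hsc⟩ : Subgroup.centralizer ({z} : Set G)) ∈ Q) (hs : IsConj z s) (hs1 : s ≠ z) (g : G) (hg : g * z * g⁻¹ = s) (X E : Subgroup ((Subgroup.centralizer ({z} : Set G)) ⧸ Q)) (hX : X = ((Subgroup.centralizer ({z} : Set G) ⊓ Subgroup.centralizer ({s} : Set G)).subgroupOf (Subgroup.centralizer ({z} : Set G))).map (QuotientGroup.mk' Q)) (hE : E = (((Q.map (Subgroup.centralizer ({z} : Set G)).subtype).map (MulAut.conj g).toMonoidHom ⊓ Subgroup.centralizer ({z} : Set G)).subgroupOf (Subgroup.centralizer ({z} : Set G))).map (QuotientGroup.mk' Q)) : E ≤ X ∧ (∀ x ∈ X, ∀ y ∈ E, x * y * x⁻¹ ∈ E) ∧ Cfsg.IsElementaryAbelian 2 E ∧ Nat.card E = 2 ^ 11 ∧ ∃ K : Subgroup ((Subgroup.centralizer ({z} : Set G)) ⧸ Q), K ≤ X ∧ E ⊓ K = ⊥ ∧ E ⊔ K = X ∧ Nonempty (K ≃* Cfsg.M24) := by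
  obtain ⟨e, ψ, hψ⟩ := hM.2
  have d := MonsterType.data_of hM hψ
  obtain ⟨hsc, hsm⟩ := hsQ
  have hS := (MonsterType.typ64_iff d (MonsterType.setup_of hM) ⟨_, hsm⟩).1 ⟨hs, hs1⟩
  obtain ⟨a, hXa, hEa, -⟩ := MonsterType.summary d hS hg
  set Φ : (Subgroup.centralizer ({z} : Set G)) ⧸ Q ≃* Spor.Co1 := e.trans (MulAut.conj a) with hΦ
  set F := (MonsterType.stabCls (Leech.oct none)).map MonsterType.rho with hF
  have hproj : ∀ c : Subgroup.centralizer ({z} : Set G),
      Φ (QuotientGroup.mk c) = a * MonsterType.proj e c * a⁻¹ := fun c => rfl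
  have hX' : X = F.comap Φ.toMonoidHom := by
    have hsub : (Subgroup.centralizer ({z} : Set G) ⊓ Subgroup.centralizer ({s} : Set G)).subgroupOf
        (Subgroup.centralizer ({z} : Set G)) = Subgroup.centralizer
          ({⟨s, hsc⟩} : Set (Subgroup.centralizer ({z} : Set G))) := by
      ext c
      rw [Subgroup.mem_subgroupOf, Subgroup.mem_inf]
      constructor
      · intro h
        exact Subgroup.mem_centralizer_singleton_iff.2
          (Subtype.ext (Subgroup.mem_centralizer_singleton_iff.1 h.2))
      · intro h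
        exact ⟨c.2, Subgroup.mem_centralizer_singleton_iff.2
          (congrArg Subtype.val (Subgroup.mem_centralizer_singleton_iff.1 h))⟩
    ext q
    obtain ⟨c, rfl⟩ := QuotientGroup.mk_surjective q
    show _ ↔ Φ (QuotientGroup.mk c) ∈ F
    rw [hproj, hF, ← hXa, hX, hsub]
    constructor
    · rintro ⟨c', hc', he⟩
      exact ⟨c', hc', congrArg e he⟩
    · rintro ⟨c', hc', he⟩
      exact ⟨c', hc', e.injective he⟩
  have hE' : E = MonsterType.signImage.comap Φ.toMonoidHom := by
    ext q
    obtain ⟨c, rfl⟩ := QuotientGroup.mk_surjective q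
    show _ ↔ Φ (QuotientGroup.mk c) ∈ MonsterType.signImage
    rw [hproj, ← hEa, hE, Subgroup.inf_subgroupOf_right]
    constructor
    · rintro ⟨c', hc', he⟩
      exact ⟨c', hc', congrArg e he⟩
    · rintro ⟨c', hc', he⟩
      exact ⟨c', hc', e.injective he⟩
  have hK : MonsterType.signImage ⊔ MonsterType.permImage = F :=
    MonsterType.frameImage_eq.symm
  refine ⟨?_, ?_, ⟨⟨⟨fun u v => ?_⟩⟩, ?_⟩, ?_, MonsterType.permImage.comap Φ.toMonoidHom, ?_, ?_, ?_, ?_⟩
  · rw [hX', hE']
    exact Subgroup.comap_mono (hK ▸ le_sup_left)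
  · rw [hX', hE']
    intro x hx y hy
    simp only [Subgroup.mem_comap, map_mul, map_inv] at hx hy ⊢
    exact MonsterType.signImage_normal hx _ hy
  · have h2 : ∀ w : E, w * w = 1 := fun w => Subtype.ext (Φ.injective (by
      have hw : Φ (w : _ ⧸ Q) ∈ MonsterType.signImage := by
        exact hE'.le w.2
      rw [Subgroup.coe_mul, map_mul, Subgroup.coe_one, map_one, ← sq]
      exact MonsterType.signImage_elementary _ hw))
    have hi : ∀ w : E, w⁻¹ = w := fun w => inv_eq_of_mul_eq_one_right (h2 w)
    have := hi (u * v)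
    rw [mul_inv_rev, hi, hi] at this
    exact this.symm
  · intro w hw
    rw [hE'] at hw
    exact Φ.injective (by rw [map_pow, map_one]; exact MonsterType.signImage_elementary _ hw)
  · rw [hE', ← MonsterType.card_signImage]
    exact Nat.card_congr (Φ.toEquiv.subtypeEquiv fun _ => Iff.rfl)
  · rw [hX']
    exact Subgroup.comap_mono (hK ▸ le_sup_right)
  · rw [hE', ← Subgroup.comap_inf, MonsterType.signImage_inf_permImage, MonoidHom.comap_bot,
      MonoidHom.ker_eq_bot_iff]
    exact Φ.injective
  · rw [hE', hX', Subgroup.comap_sup_eq _ _ _ Φ.surjective, hK]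
  · refine ⟨MulEquiv.trans ?_ MonsterType.permImageEquiv⟩
    exact { Φ.toEquiv.subtypeEquiv (q := fun y => y ∈ MonsterType.permImage) (fun _ => Iff.rfl) with
      map_mul' := fun u v => Subtype.ext (map_mul Φ _ _) }

end Cfsg.Agent.S5410
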