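import Cfsg.Statements.S5411
import Cfsg.Agent.MonsterType.Intersection

set_option autoImplicit false
open Cfsg Cfsg.Agent

namespace Cfsg.Agent.S5411

/-- Let G be a finite group of Monster type at the involution z with Q the extraspecial normal subgroup of order 2^25 of C = C_G(z) (so C/Q is identified with the first Conway group with Q modulo its centre the Leech lattice modulo 2, and z is not weakly closed in Q). Then C acts transitively by conjugation on the involutions of Q that are not conjugate to z in G. -/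
theorem result {G : Type*} [Group G] [Finite G] (z : G) (Q : Subgroup (Subgroup.centralizer ({z} : Set G))) [Q.Normal] (hM : Cfsg.IsOfMonsterType z Q) (s t : G) (hsQ : ∃ hsc : s ∈ Subgroup.centralizer ({z} : Set G), (⟨s, hsc⟩ : Subgroup.centralizer ({z} : Set G)) ∈ Q) (htQ : ∃ htc : t ∈ Subgroup.centralizer ({z} : Set G), (⟨t, htc⟩ : Subgroup.centralizer ({z} : Set G)) ∈ Q) (hs2 : orderOf s = 2) (ht2 : orderOf t = 2) (hs : ¬ IsConj z s) (ht : ¬ IsConj z t) : ∃ h ∈ Subgroup.centralizer ({z} : Set G), h * s * h⁻¹ = t := by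
  obtain ⟨e, ψ, hψ⟩ := hM.2
  have d := MonsterType.data_of hM hψ
  have key : ∀ (u : G) (hu : u ∈ Subgroup.centralizer ({z} : Set G))
      (hm : (⟨u, hu⟩ : Subgroup.centralizer ({z} : Set G)) ∈ Q), orderOf u = 2 → ¬ IsConj z u →
      MonsterType.Typ ψ 32 (⟨_, hm⟩ : Q) := by
    intro u hu hm h2 hn
    have hsq : (⟨_, hm⟩ : Q) ^ 2 = 1 :=
      Subtype.ext (Subtype.ext (show u ^ 2 = 1 by rw [← h2]; exact pow_orderOf_eq_one u))
    rcases MonsterType.inv_cases d hsq with h | h | h
    · rcases MonsterType.center_of_coe d h with h1 | h1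
      · rw [show u = 1 from h1, orderOf_one] at h2
        omega
      · exact absurd ((show u = z from h1) ▸ IsConj.refl z) hn
    · exact h
    · exact absurd ((MonsterType.typ64_iff d (MonsterType.setup_of hM) _).2 h).1 hn
  obtain ⟨hsc, hsm⟩ := hsQ
  obtain ⟨htc, htm⟩ := htQ
  obtain ⟨h, hh⟩ := MonsterType.typ_trans d (Or.inl rfl) (key s hsc hsm hs2 hs) (key t htc htm ht2 ht)
  exact ⟨h, h.2, congrArg Subtype.val hh⟩

end Cfsg.Agent.S5411
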