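import Cfsg.Statements.S5412
import Cfsg.Agent.MonsterType.BabyType

set_option autoImplicit false
open Cfsg Cfsg.Agent

namespace Cfsg.Agent.S5412

/-- Let G be a finite group of Monster type at the involution z with Q the extraspecial normal subgroup of order 2^25 of C = C_G(z) (so C/Q is identified with the first Conway group with Q modulo its centre the Leech lattice modulo 2, and z is not weakly closed in Q). Let t be an involution of Q not conjugate to z in G. Then the centralizer of t modulo the subgroup generated by t is a group of Baby Monster type (an involution whose centralizer D has generalized Fitting subgroup R extraspecial of order 2^23 with D/R identified with the second Conway group acting on R modulo its centre as on the vectors of the Leech lattice modulo 2 orthogonal to a short vector, modulo that vector; the involution not weakly closed in R). -/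
theorem result {G : Type*} [Group G] [Finite G] (z : G) (Q : Subgroup (Subgroup.centralizer ({z} : Set G))) [Q.Normal] (hM : Cfsg.IsOfMonsterType z Q) (t : G) (htQ : ∃ htc : t ∈ Subgroup.centralizer ({z} : Set G), (⟨t, htc⟩ : Subgroup.centralizer ({z} : Set G)) ∈ Q) (ht2 : orderOf t = 2) (ht : ¬ IsConj z t) [hn : ((Subgroup.zpowers t).subgroupOf (Subgroup.centralizer ({t} : Set G))).Normal] : Cfsg.IsOfBabyMonsterType (↥(Subgroup.centralizer ({t} : Set G)) ⧸ (Subgroup.zpowers t).subgroupOf (Subgroup.centralizer ({t} : Set G))) := by
  obtain ⟨e, ψ, hψ⟩ := hM.2
  have d := MonsterType.data_of hM hψ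
  have hex := MonsterType.setup_of hM
  obtain ⟨htc, htm⟩ := htQ
  have hsq : (⟨_, htm⟩ : Q) ^ 2 = 1 :=
    Subtype.ext (Subtype.ext (show t ^ 2 = 1 by rw [← ht2]; exact pow_orderOf_eq_one t))
  have h32 : MonsterType.Typ ψ 32 (⟨_, htm⟩ : Q) := by
    rcases MonsterType.inv_cases d hsq with h | h | h
    · rcases MonsterType.center_of_coe d h with h1 | h1
      · rw [show t = 1 from h1, orderOf_one] at ht2
        omega
      · exact absurd ((show t = z from h1) ▸ IsConj.refl z) ht
    · exact h
    · exact absurd ((MonsterType.typ64_iff d hex _).2 h).1 ht
  obtain ⟨e', ψ', d', hu⟩ := MonsterType.exists_std d h32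
  exact MonsterType.babyType d' hex ⟨_, htm⟩ hu t rfl

end Cfsg.Agent.S5412
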