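import Cfsg.Statements.S5413
import Cfsg.Agent.CentType.Five
import Cfsg.Agent.CentType.Joints

set_option autoImplicit false
open Cfsg Cfsg.Agent

namespace Cfsg.Agent.S5413

/-- Let G be a finite group of Monster type at the involution z with Q the extraspecial normal subgroup of order 2^25 of C = C_G(z) (so C/Q is identified with the first Conway group with Q modulo its centre the Leech lattice modulo 2, and z is not weakly closed in Q). Let s be a conjugate of z in Q other than z and let B be a Sylow 5-subgroup of the joint centralizer of z and s. Then the centralizer of B modulo B is a group of Harada–Norton type (an involution whose centralizer D has generalized Fitting subgroup R extraspecial of order 2^9 with D/R the wreath product of the alternating group of degree 5 by a group of order 2, the involution not weakly closed in R). -/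
theorem result {G : Type*} [Group G] [Finite G] (z : G) (Q : Subgroup (Subgroup.centralizer ({z} : Set G))) [Q.Normal] (hM : Cfsg.IsOfMonsterType z Q) (s : G) (hsQ : ∃ hsc : s ∈ Subgroup.centralizer ({z} : Set G), (⟨s, hsc⟩ : Subgroup.centralizer ({z} : Set G)) ∈ Q) (hs : IsConj z s) (hs1 : s ≠ z) (B : Subgroup G) (hB : B ≤ Subgroup.centralizer ({z, s} : Set G)) (hBp : Nat.card B = 5 ^ (Nat.card ↥(Subgroup.centralizer ({z, s} : Set G))).factorization 5) [hn : (B.subgroupOf (Subgroup.centralizer (B : Set G))).Normal] : Cfsg.IsOfHaradaNortonType (↥(Subgroup.centralizer (B : Set G)) ⧸ B.subgroupOf (Subgroup.centralizer (B : Set G))) := by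
  have : Fact (Nat.Prime 5) := ⟨by norm_num⟩
  obtain ⟨e, ψ, hψ⟩ := hM.2
  have d := MonsterType.data_of hM hψ
  have hex := MonsterType.setup_of hM
  obtain ⟨hsc, hsm⟩ := hsQ
  set x : Q := ⟨_, hsm⟩ with hx
  have h64 : MonsterType.Typ ψ 64 x := (MonsterType.typ64_iff d hex x).1 ⟨hs, hs1⟩
  have hcard := CentType.joint_card d h64 (p := 5) (by norm_num)
  have hB5 : Nat.card B = 5 := by
    rw [hBp, CentType.card_pair x, hcard, CentType.Five.five_part, pow_one]
  obtain ⟨b, hb, hbx, hbB⟩ := CentType.exists_generator x B hB hB5
  have hgood : CentType.SylCentral 5 (⟨b, hbx⟩ : CentType.jointC x) :=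
    CentType.sylCentral_of_one hcard CentType.Five.five_part hb
  obtain ⟨e', ψ', d', hstd, hp⟩ := CentType.exists_normal_form CentType.Five.setting (by norm_num) d h64
    (b := ⟨b, hbx⟩) (by rw [Subgroup.orderOf_mk]; exact hb) (iff_of_true hgood trivial)
  exact CentType.centType CentType.Five.setting (by norm_num) CentType.Five.nil_bot d' hex hstd b hb hp hbx
    (iff_of_true hgood trivial) B hbB

end Cfsg.Agent.S5413
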