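import Cfsg.Statements.S5414
import Cfsg.Agent.CentType.Three
import Cfsg.Agent.CentType.Joints

set_option autoImplicit false
open Cfsg Cfsg.Agent

namespace Cfsg.Agent.S5414

/-- Let G be a finite group of Monster type at the involution z with Q the extraspecial normal subgroup of order 2^25 of C = C_G(z) (so C/Q is identified with the first Conway group with Q modulo its centre the Leech lattice modulo 2, and z is not weakly closed in Q). Let s be a conjugate of z in Q other than z and let Y be a subgroup of order 3 of the joint centralizer L of z and s that is not 3-central in L (Y lies in the centre of no Sylow 3-subgroup of L). Then the centralizer of Y modulo Y is a group of Thompson type (an involution whose centralizer D has generalized Fitting subgroup R extraspecial of order 2^9 with D/R the alternating group of degree 9, the involution not weakly closed in R). -/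
theorem result {G : Type*} [Group G] [Finite G] (z : G) (Q : Subgroup (Subgroup.centralizer ({z} : Set G))) [Q.Normal] (hM : Cfsg.IsOfMonsterType z Q) (s : G) (hsQ : ∃ hsc : s ∈ Subgroup.centralizer ({z} : Set G), (⟨s, hsc⟩ : Subgroup.centralizer ({z} : Set G)) ∈ Q) (hs : IsConj z s) (hs1 : s ≠ z) (Y : Subgroup G) (hY : Y ≤ Subgroup.centralizer ({z, s} : Set G)) (hY3 : Nat.card Y = 3) (hnc : ∀ P : Sylow 3 ↥(Subgroup.centralizer ({z, s} : Set G)), ¬ Y.subgroupOf (Subgroup.centralizer ({z, s} : Set G)) ≤ (Subgroup.center ↥(P : Subgroup ↥(Subgroup.centralizer ({z, s} : Set G)))).map (P : Subgroup ↥(Subgroup.centralizer ({z, s} : Set G))).subtype) [hn : (Y.subgroupOf (Subgroup.centralizer (Y : Set G))).Normal] : Cfsg.IsOfThompsonType (↥(Subgroup.centralizer (Y : Set G)) ⧸ Y.subgroupOf (Subgroup.centralizer (Y : Set G))) := by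
  have : Fact (Nat.Prime 3) := ⟨by norm_num⟩
  obtain ⟨e, ψ, hψ⟩ := hM.2
  have d := MonsterType.data_of hM hψ
  have hex := MonsterType.setup_of hM
  obtain ⟨hsc, hsm⟩ := hsQ
  set x : Q := ⟨_, hsm⟩ with hx
  have h64 : MonsterType.Typ ψ 64 x := (MonsterType.typ64_iff d hex x).1 ⟨hs, hs1⟩
  obtain ⟨b, hb, hbx, hbB⟩ := CentType.exists_generator x Y hY hY3
  have hgood : ¬ CentType.SylCentral 3 (⟨b, hbx⟩ : CentType.jointC x) :=
    CentType.not_sylCentral_of hbx hbB hnc
  obtain ⟨e', ψ', d', hstd, hp⟩ := CentType.exists_normal_form CentType.Three.setting (by norm_num) d h64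
    (b := ⟨b, hbx⟩) (by rw [Subgroup.orderOf_mk]; exact hb) (iff_of_false hgood not_false)
  exact CentType.centType CentType.Three.setting (by norm_num) CentType.Three.nil_bot d' hex hstd b hb hp hbx
    (iff_of_false hgood not_false) Y hbB

end Cfsg.Agent.S5414
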