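import Cfsg.Statements.S5418
import Cfsg.Agent.HeldType.Outer

set_option autoImplicit false
open Cfsg Cfsg.Agent

namespace Cfsg.Agent.S5418

/-- Let G be a finite group of Monster type at the involution z with Q the extraspecial normal subgroup of order 2^25 of C = C_G(z) (so C/Q is identified with the first Conway group with Q modulo its centre the Leech lattice modulo 2, and z is not weakly closed in Q). Let s be a conjugate of z in Q other than z and let B be a Sylow 7-subgroup of the joint centralizer of z and s. Then the centralizer of B has index 6 in the normalizer of B; and some involution inverting B induces, by conjugation, a non-inner automorphism of the layer of the centralizer of B. -/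
theorem result {G : Type*} [Group G] [Finite G] (z : G) (Q : Subgroup (Subgroup.centralizer ({z} : Set G))) [Q.Normal] (hM : Cfsg.IsOfMonsterType z Q) (s : G) (hsQ : ∃ hsc : s ∈ Subgroup.centralizer ({z} : Set G), (⟨s, hsc⟩ : Subgroup.centralizer ({z} : Set G)) ∈ Q) (hs : IsConj z s) (hs1 : s ≠ z) (B : Subgroup G) (hB : B ≤ Subgroup.centralizer ({z, s} : Set G)) (hBp : Nat.card B = 7 ^ (Nat.card ↥(Subgroup.centralizer ({z, s} : Set G))).factorization 7) : (Subgroup.centralizer (B : Set G)).relIndex (Subgroup.normalizer (B : Set G)) = 6 ∧ ∃ t : G, orderOf t = 2 ∧ (∀ b ∈ B, t * b * t⁻¹ = b⁻¹) ∧ (∀ x ∈ (Cfsg.layer ↥(Subgroup.centralizer (B : Set G))).map (Subgroup.centralizer (B : Set G)).subtype, t * x * t⁻¹ ∈ (Cfsg.layer ↥(Subgroup.centralizer (B : Set G))).map (Subgroup.centralizer (B : Set G)).subtype) ∧ ¬ ∃ l ∈ (Cfsg.layer ↥(Subgroup.centralizer (B : Set G))).map (Subgroup.centralizer (B : Set G)).subtype, ∀ x ∈ (Cfsg.layer ↥(Subgroup.centralizer (B : Set G))).map (Subgroup.centralizer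 (B : Set G)).subtype, t * x * t⁻¹ = l * x * l⁻¹ := by
  obtain ⟨e, ψ, hψ⟩ := hM.2
  have d := MonsterType.data_of hM hψ
  have hex := MonsterType.setup_of hM
  obtain ⟨hsc, hsm⟩ := hsQ
  set x : Q := ⟨_, hsm⟩ with hx
  have h64 : MonsterType.Typ ψ 64 x := (MonsterType.typ64_iff d hex x).1 ⟨hs, hs1⟩
  have hmem : ∀ g : G, g ∈ Subgroup.centralizer ({z, s} : Set G) ↔ g * z = z * g ∧ g * s = s * g := by
    intro g
    simp only [Subgroup.mem_centralizer_iff, Set.mem_insert_iff, Set.mem_singleton_iff]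
    constructor
    · exact fun h => ⟨(h z (Or.inl rfl)).symm, (h s (Or.inr rfl)).symm⟩
    · rintro ⟨h1, h2⟩ y (rfl | rfl)
      exacts [h1.symm, h2.symm]
  have hcard : Nat.card ↥(Subgroup.centralizer ({z, s} : Set G)) = Nat.card ↥(Subgroup.centralizer
      ({(x : Subgroup.centralizer ({z} : Set G))} : Set (Subgroup.centralizer ({z} : Set G)))) :=
    Nat.card_congr
      ⟨fun g => ⟨⟨g, Subgroup.mem_centralizer_singleton_iff.2 ((hmem g).1 g.2).1⟩,
          Subgroup.mem_centralizer_singleton_iff.2 (Subtype.ext ((hmem g).1 g.2).2)⟩,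
        fun g => ⟨g.1.1, (hmem _).2 ⟨Subgroup.mem_centralizer_singleton_iff.1 g.1.2,
          congrArg Subtype.val (Subgroup.mem_centralizer_singleton_iff.1 g.2)⟩⟩,
        fun _ => rfl, fun _ => rfl⟩
  have hB7 : Nat.card B = 7 := by rw [hBp, hcard, HeldType.seven_part d h64, pow_one]
  have : Fact (Nat.Prime 7) := ⟨by norm_num⟩
  obtain ⟨b0, hb0⟩ := exists_prime_orderOf_dvd_card' (G := B) 7 (hB7 ▸ dvd_rfl)
  have hbB : Subgroup.zpowers (b0 : G) = B := by
    refine Subgroup.eq_of_le_of_card_ge (Subgroup.zpowers_le.2 b0.2) ?_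
    rw [hB7, Nat.card_zpowers, Subgroup.orderOf_coe, hb0]
  obtain ⟨hz', hs'⟩ := (hmem _).1 (hB b0.2)
  set b : Subgroup.centralizer ({z} : Set G) :=
    ⟨(b0 : G), Subgroup.mem_centralizer_singleton_iff.2 hz'⟩ with hb
  have hob : orderOf b = 7 := by rw [hb, Subgroup.orderOf_mk, Subgroup.orderOf_coe, hb0]
  have hbx : b * x = (x : Subgroup.centralizer ({z} : Set G)) * b := Subtype.ext hs'
  obtain ⟨e', ψ', d', hxv, hp | hp⟩ := HeldType.exists_normal_form d h64 hob hbx
  · exact HeldType.automizer d' hex x hxv b hob hp B hbB.symm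
  · refine HeldType.automizer d' hex x hxv b⁻¹ (by rw [orderOf_inv, hob]) hp B ?_
    rw [Subgroup.coe_inv, Subgroup.zpowers_inv, hb, hbB]

end Cfsg.Agent.S5418
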