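import Cfsg.Statements.S5421
import Cfsg.Agent.LargeExtra.Basic

set_option autoImplicit false
open Cfsg

namespace Cfsg.Agent.S5421

/-- Let Q be an extraspecial 2-subgroup of the finite group G whose centralizer in G is its centre Z and which is normal in the centralizer of Z. If some involution b of Q outside Z has Z inside the largest normal 2-subgroup of the centralizer of b, then Q is a large extraspecial 2-subgroup of G. -/
theorem result {G : Type*} [Group G] [Finite G] (Q : Subgroup G) (hL1 : Cfsg.IsExtraspecial 2 ↥Q) (hL2 : Subgroup.centralizer (Q : Set G) = ((Subgroup.center ↥Q).map Q.subtype)) (hL3 : Subgroup.centralizer (((Subgroup.center ↥Q).map Q.subtype) : Set G) ≤ Subgroup.normalizer (Q : Set G)) (b : G) (hbQ : b ∈ Q) (hbZ : b ∉ ((Subgroup.center ↥Q).map Q.subtype)) (hb : orderOf b = 2) (hZ : ((Subgroup.center ↥Q).map Q.subtype) ≤ (Cfsg.pCore 2 ↥(Subgroup.centralizer ({b} : Set G))).map (Subgroup.centralizer ({b} : Set G)).subtype) : Cfsg.IsLargeExtraspecial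 Q := by
  refine ⟨hL1, hL2, hL3, fun K hK hQK => ?_⟩
  set Z : Subgroup G := (Subgroup.center Q).map Q.subtype with hZdef
  have hzb : ∀ z ∈ Z, b * z = z * b := fun z hz =>
    (Subgroup.mem_centralizer_iff.1 (LargeExtra.le_centralizer_zc hbQ) z hz).symm
  -- fixed points of b on K are trivial
  have hfix : ∀ k ∈ K, b * k = k * b → k = 1 := by
    intro k hk hkb
    set C : Subgroup G := Subgroup.centralizer ({b} : Set G) with hC
    have hkC : k ∈ C := Subgroup.mem_centralizer_iff.2 (by simpa using hkb)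
    set O : Subgroup G := (Cfsg.pCore 2 C).map C.subtype with hO
    have hkO : k ∈ Subgroup.normalizer (O : Set G) := by
      have : O.subgroupOf C = Cfsg.pCore 2 C := by
        rw [hO, Subgroup.subgroupOf, Subgroup.comap_map_eq_self_of_injective C.subtype_injective]
      haveI : (O.subgroupOf C).Normal := this ▸ Core.pCore_normal
      exact (Subgroup.normal_subgroupOf_iff_le_normalizer (Subgroup.map_subtype_le _)).1 inferInstance hkC
    have hkZ : k ∈ Subgroup.centralizer (Z : Set G) := by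
      rw [Subgroup.mem_centralizer_iff]
      intro z hz
      have hzC : z ∈ C := Subgroup.mem_centralizer_iff.2 (by simpa using hzb z hz)
      refine (LargeExtra.commute_of_inf_eq_bot (A := K ⊓ C)
        (LargeExtra.inf_eq_bot_of_odd ?_ (Core.pCore_isPGroup.map _)) ⟨hk, hkC⟩ (hZ hz) hkO ?_).symm
      · exact hK.of_dvd_nat (Subgroup.card_dvd_of_le inf_le_left)
      · rw [Subgroup.mem_normalizer_iff]
        intro x
        exact and_congr (Subgroup.mem_normalizer_iff.1 (hQK (LargeExtra.zc_le hz)) x)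
          ((Subgroup.mem_normalizer_iff.1 (Subgroup.le_normalizer hzC)) x)
    have hkQ : k ∈ Subgroup.centralizer (Q : Set G) := Subgroup.mem_centralizer_iff.2 fun q hq =>
      (LargeExtra.commute_of_inf_eq_bot (LargeExtra.inf_eq_bot_of_odd hK hL1.1.1) hk hq
        (hL3 hkZ) (hQK hq)).symm
    rw [hL2] at hkQ
    have : k ∈ K ⊓ Q := ⟨hk, LargeExtra.zc_le hkQ⟩
    rwa [LargeExtra.inf_eq_bot_of_odd hK hL1.1.1, Subgroup.mem_bot] at this
  -- so b inverts K
  have hb2 : b * b = 1 := by rw [← sq, ← hb, pow_orderOf_eq_one]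
  have hbK : ∀ k ∈ K, b * k * b⁻¹ ∈ K := fun k hk =>
    (Subgroup.mem_normalizer_iff.1 (hQK hbQ) k).1 hk
  let φ : K →* K :=
    { toFun := fun k => ⟨b * k * b⁻¹, hbK k k.2⟩
      map_one' := Subtype.ext (by simp)
      map_mul' := fun x y => Subtype.ext (by simp [mul_assoc]) }
  have hinv : ∀ k ∈ K, b * k * b⁻¹ = k⁻¹ := by
    have h := MonoidHom.FixedPointFree.coe_eq_inv_of_involutive (φ := φ)
      (fun k hk => Subtype.ext (hfix k k.2 (mul_inv_eq_iff_eq_mul.1 (congrArg Subtype.val hk))))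
      (fun k => Subtype.ext (by
        show b * (b * (k : G) * b⁻¹) * b⁻¹ = k
        rw [show b * (b * (k : G) * b⁻¹) * b⁻¹ = (b * b) * k * (b * b)⁻¹ by group, hb2]
        group))
    exact fun k hk => congrArg Subtype.val (congrFun h ⟨k, hk⟩)
  -- a Q-conjugate of b is z * b
  obtain ⟨q, hq⟩ : ∃ q : Q, q * ⟨b, hbQ⟩ * q⁻¹ * (⟨b, hbQ⟩ : Q)⁻¹ ≠ 1 := by
    by_contra! h
    exact hbZ ⟨⟨b, hbQ⟩, Subgroup.mem_center_iff.2 fun q =>
      mul_inv_eq_iff_eq_mul.1 (mul_inv_eq_one.1 (h q)), rfl⟩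
  set w : Q := q * ⟨b, hbQ⟩ * q⁻¹ * (⟨b, hbQ⟩ : Q)⁻¹ with hw
  have hwZ : (w : G) ∈ Z := by
    refine ⟨w, ?_, rfl⟩
    rw [SetLike.mem_coe, ← hL1.1.2.2]
    exact Subgroup.commutator_mem_commutator (Subgroup.mem_top q) (Subgroup.mem_top _)
  have hwK : ∀ k ∈ K, (w : G) * k = k * (w : G) := by
    intro k hk
    have h1 := hinv k hk
    have h2 := hinv _ ((Subgroup.mem_normalizer_iff.1 (hQK (inv_mem q.2)) k).1 hk)
    have h2' : b * ((q : G)⁻¹ * k * q) * b⁻¹ = ((q : G)⁻¹ * k * q)⁻¹ := by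
      simpa using h2
    have hwe : (w : G) = (q : G) * b * (q : G)⁻¹ * b⁻¹ := rfl
    have : (w : G) * k⁻¹ * (w : G)⁻¹ = k⁻¹ := by
      rw [← h1, hwe]
      calc _ = (q : G) * (b * ((q : G)⁻¹ * k * q) * b⁻¹) * (q : G)⁻¹ := by group
        _ = k⁻¹ := by rw [h2']; group
        _ = _ := h1.symm
    have := congrArg Inv.inv this
    simp only [mul_inv_rev, inv_inv, ← mul_assoc] at this
    exact mul_inv_eq_iff_eq_mul.1 this
  refine LargeExtra.eq_bot_of_centralizes hL1 hL2 hL3 hK hQK fun k hk => ?_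
  rw [Subgroup.mem_centralizer_iff]
  intro z hz
  obtain ⟨a, ha1, ha⟩ := Nat.card_eq_two_iff' (1 : Z) |>.1 (LargeExtra.card_zc hL1)
  by_cases hz1 : z = 1
  · simp [hz1]
  have e1 : (⟨z, hz⟩ : Z) = a := ha _ fun h => hz1 (congrArg Subtype.val h)
  have e2 : (⟨(w : G), hwZ⟩ : Z) = a := ha _ fun h => hq (Subtype.ext (congrArg (Subtype.val (p := (· ∈ Z))) h))
  obtain rfl : z = w := congrArg Subtype.val (e1.trans e2.symm)
  exact hwK k hk

end Cfsg.Agent.S5421
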