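import Cfsg.Statements.S5422
import Cfsg.Agent.LargeExtra.Large
import Cfsg.Agent.S5421

set_option autoImplicit false
open Cfsg

namespace Cfsg.Agent.S5422

/-- Let Q be an extraspecial 2-subgroup of the finite group G whose centralizer in G is its centre Z and which is normal in the centralizer of Z; suppose Q has width at least 2 (order 2^(2w+1) with w ≥ 2) and g is an element of G not normalizing Z with g Z g⁻¹ inside Q. Then Z lies inside g Q g⁻¹; writing V for the subgroup generated by Z and g Z g⁻¹ (a four-group), the normalizer of V induces on V its full automorphism group, that is, the centralizer of V has index 6 in the normalizer of V; and Q is a large extraspecial 2-subgroup of G. -/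
theorem result {G : Type*} [Group G] [Finite G] (Q : Subgroup G) (hL1 : Cfsg.IsExtraspecial 2 ↥Q) (hL2 : Subgroup.centralizer (Q : Set G) = ((Subgroup.center ↥Q).map Q.subtype)) (hL3 : Subgroup.centralizer (((Subgroup.center ↥Q).map Q.subtype) : Set G) ≤ Subgroup.normalizer (Q : Set G)) (w : ℕ) (hw : 2 ≤ w) (hcard : Nat.card ↥Q = 2 ^ (2 * w + 1)) (g : G) (hg : g ∉ Subgroup.normalizer (((Subgroup.center ↥Q).map Q.subtype) : Set G)) (hZg : (((Subgroup.center ↥Q).map Q.subtype)).map (MulAut.conj g).toMonoidHom ≤ Q) : ((Subgroup.center ↥Q).map Q.subtype) ≤ (Q).map (MulAut.conj g).toMonoidHom ∧ (Subgroup.centralizer ((((Subgroup.center ↥Q).map Q.subtype) ⊔ (((Subgroup.center ↥Q).map Q.subtype)).map (MulAut.conj g).toMonoidHom : Subgroup G) : Set G)).relIndex (Subgroup.normalizer ((((Subgroup.center ↥Q).map Q.subtype) ⊔ (((Subgroup.center ↥Q).map Q.subtype)).map (MulAut.conj g).toMonoidHom : Subgroup G) : Set G)) = 6 ∧ Cfsg.IsLargeExtraspecial Q := by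
  have : Fact (Nat.Prime 2) := ⟨Nat.prime_two⟩
  obtain ⟨z, hz, hzQ, hZ⟩ := LargeExtra.exists_generator hL1
  obtain ⟨hn, S⟩ := LargeExtra.nsetting hL1 hL2 hL3 hz hZ
  have hFz := LargeExtra.conjFam_self hn (Q := Q) (z := z)
  have hgz : g * z * g⁻¹ ≠ z := by
    intro h
    apply hg
    rw [hZ, Subgroup.mem_normalizer_iff_map_conj_eq, MonoidHom.map_zpowers]
    exact congrArg Subgroup.zpowers h
  obtain ⟨x, hxdef⟩ : ∃ x, x = g * z * g⁻¹ := ⟨_, rfl⟩
  have hxQ : x ∈ Q := by
    rw [hxdef]; exact hZg ⟨z, hZ ▸ Subgroup.mem_zpowers z, rfl⟩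
  rw [← hxdef] at hgz
  have hzz := S.sq_one
  have hx2 : x * x = 1 := by rw [hxdef, LargeExtra.conjm, hzz, mul_one, mul_inv_cancel]
  have hx1 : x ≠ 1 := fun h => S.ne_one (by
    rw [hxdef, mul_inv_eq_one] at h
    exact mul_eq_left.1 h)
  have hcard' : 32 ≤ Nat.card ↥(LargeExtra.conjFam Q z z) := by
    rw [hFz, hcard]
    exact (show 32 = 2 ^ 5 from rfl) ▸ Nat.pow_le_pow_right (by norm_num) (by omega)
  have hFg : LargeExtra.conjFam Q z x = Q.map (MulAut.conj g).toMonoidHom := by
    rw [hxdef]; exact LargeExtra.conjFam_eq hn g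
  have hxF : x ∈ LargeExtra.conjFam Q z z := by rw [hFz]; exact hxQ
  have hzF : z ∈ LargeExtra.conjFam Q z x := by
    subst hxdef
    exact S.symm hxF fun h => (S.not_comm_of_card hxF hx2 hcard' h).elim
  have hzQg : z ∈ Q.map (MulAut.conj g).toMonoidHom := hFg ▸ hzF
  refine ⟨?_, ?_, ?_⟩
  · rw [hZ]; exact Subgroup.zpowers_le.2 hzQg
  swap
  · have hxo : orderOf x = 2 := hxdef ▸ ((MulAut.conj g).orderOf_eq z).trans hz
    refine S5421.result Q hL1 hL2 hL3 x hxQ ?_ hxo ?_
    · rw [hZ]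
      intro h
      obtain ⟨k, hk⟩ := Subgroup.mem_zpowers_iff.1 h
      rcases Int.even_or_odd' k with ⟨j, rfl | rfl⟩
      · rw [zpow_mul, zpow_two, hzz, one_zpow] at hk; exact hx1 hk.symm
      · rw [zpow_add_one, zpow_mul, zpow_two, hzz, one_zpow, one_mul] at hk; exact hgz hk.symm
    · rw [hZ, Subgroup.zpowers_le]
      set C := Subgroup.centralizer ({x} : Set G)
      have hle : LargeExtra.conjFam Q z x ≤ C := by
        rw [hFg]
        rintro _ ⟨q, hq, rfl⟩
        show g * q * g⁻¹ ∈ Subgroup.centralizer ({x} : Set G)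
        rw [hxdef]
        exact S.le_conj (hFz.symm ▸ hq)
      have : ((LargeExtra.conjFam Q z x).subgroupOf C).Normal :=
        ⟨fun a ha c => S.nrm c.2 ha⟩
      have hp : IsPGroup 2 ↥((LargeExtra.conjFam Q z x).subgroupOf C) := by
        refine IsPGroup.comap_of_injective ?_ C.subtype C.subtype_injective
        rw [hFg]
        exact hL1.1.1.map _
      exact ⟨⟨z, hle hzF⟩, Core.le_pCore hp hzF, rfl⟩
  -- the action on the four-group
  rw [hZ, MonoidHom.map_zpowers]
  have hV : (MulAut.conj g).toMonoidHom z = x := by rw [hxdef]; rfl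
  rw [hV]
  set V := Subgroup.zpowers z ⊔ Subgroup.zpowers x with hVdef
  have hzV : z ∈ V := Subgroup.mem_sup_left (Subgroup.mem_zpowers z)
  have hxV : x ∈ V := Subgroup.mem_sup_right (Subgroup.mem_zpowers x)
  have hxz : Commute x z := S.comm_z hxF
  have hV4 : ∀ v ∈ V, v = 1 ∨ v = z ∨ v = x ∨ v = x * z := by
    intro v hv
    rw [hVdef, Subgroup.zpowers_eq_closure, Subgroup.zpowers_eq_closure,
      ← Subgroup.closure_union] at hv
    have e1 : z * x = x * z := hxz.eq.symm
    have e2 : x * z * (x * z) = 1 := by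
      rw [mul_assoc, ← mul_assoc z, e1, mul_assoc, hzz, mul_one, hx2]
    have e3 : x * z * z = x := by rw [mul_assoc, hzz, mul_one]
    have e4 : z * (x * z) = x := by rw [← mul_assoc, e1, e3]
    have e5 : x * (x * z) = z := by rw [← mul_assoc, hx2, one_mul]
    have e6 : x * z * x = z := by rw [mul_assoc, e1, e5]
    induction hv using Subgroup.closure_induction with
    | mem c hc =>
      rcases hc with rfl | rfl
      · exact Or.inr (Or.inl rfl)
      · exact Or.inr (Or.inr (Or.inl rfl))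
    | one => exact Or.inl rfl
    | mul a b _ _ ha hb =>
      rcases ha with rfl | rfl | rfl | rfl <;> rcases hb with rfl | rfl | rfl | rfl <;>
        simp [e1, e2, e3, e4, e5, e6, hzz, hx2]
    | inv a _ ha =>
      rcases ha with rfl | rfl | rfl | rfl
      · exact Or.inl inv_one
      · exact Or.inr (Or.inl (inv_eq_of_mul_eq_one_right hzz))
      · exact Or.inr (Or.inr (Or.inl (inv_eq_of_mul_eq_one_right hx2)))
      · exact Or.inr (Or.inr (Or.inr (inv_eq_of_mul_eq_one_right e2)))
  obtain ⟨y, hy, hyx⟩ := S.exists_mover hxF hx1 hgz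
  have hyz : y * z * y⁻¹ = z := by rw [(S.comm_z hy).eq, mul_inv_cancel_right]
  obtain ⟨y', hy'x, hy'z⟩ : ∃ y', y' * x * y'⁻¹ = x ∧ y' * z * y'⁻¹ = x * z := by
    have hw : g⁻¹ * z * g ∈ LargeExtra.conjFam Q z z := by
      have := S.conj_mem (g := g⁻¹) hzF
      rwa [inv_inv, hxdef, show g⁻¹ * (g * z * g⁻¹) * g = z by group] at this
    obtain ⟨r, hr, hrw⟩ := S.exists_mover hw
      (fun h => S.ne_one (by
        have := congrArg (fun t => g * t * g⁻¹) h
        simpa [mul_assoc] using this))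
      (fun h => hgz (by
        rw [hxdef]
        conv_lhs => rw [← h]
        group))
    refine ⟨g * r * g⁻¹, ?_, ?_⟩
    · rw [hxdef]
      calc g * r * g⁻¹ * (g * z * g⁻¹) * (g * r * g⁻¹)⁻¹ = g * (r * z * r⁻¹) * g⁻¹ := by group
        _ = g * z * g⁻¹ := by rw [(S.comm_z hr).eq, mul_inv_cancel_right]
    · calc g * r * g⁻¹ * z * (g * r * g⁻¹)⁻¹
            = g * (r * (g⁻¹ * z * g) * r⁻¹) * g⁻¹ := by group
        _ = z * (g * z * g⁻¹) := by rw [hrw]; group
        _ = x * z := by rw [← hxdef]; exact hxz.eq.symm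
  have act : ∀ n : G, n * (x * z) * n⁻¹ = (n * x * n⁻¹) * (n * z * n⁻¹) := fun n => by group
  have hnorm : ∀ n : G, n * x * n⁻¹ ∈ V → n * z * n⁻¹ ∈ V →
      n ∈ Subgroup.normalizer (V : Set G) := by
    intro n h1 h2
    rw [Subgroup.mem_normalizer_iff_map_conj_eq]
    refine Subgroup.eq_of_le_of_card_ge ?_
      (Subgroup.card_map_of_injective (MulAut.conj n).injective).ge
    rw [hVdef, Subgroup.map_sup, MonoidHom.map_zpowers, MonoidHom.map_zpowers, sup_le_iff,
      Subgroup.zpowers_le, Subgroup.zpowers_le]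
    exact ⟨h2, h1⟩
  have hyN : y ∈ Subgroup.normalizer (V : Set G) :=
    hnorm y (by rw [hyx]; exact V.mul_mem hxV hzV) (by rw [hyz]; exact hzV)
  have hy'N : y' ∈ Subgroup.normalizer (V : Set G) :=
    hnorm y' (by rw [hy'x]; exact hxV) (by rw [hy'z]; exact V.mul_mem hxV hzV)
  set N := Subgroup.normalizer (V : Set G)
  let φ : ↥N → G × G := fun n => ((n : G) * z * (n : G)⁻¹, (n : G) * x * (n : G)⁻¹)
  rw [Subgroup.relIndex]
  set K := (Subgroup.centralizer (V : Set G)).subgroupOf N
  let ψ : ↥N ⧸ K → G × G := Quotient.lift φ fun a b hab => by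
    have hab' : a⁻¹ * b ∈ K := QuotientGroup.leftRel_apply.1 hab
    have hc : ∀ v ∈ V, ((a : G)⁻¹ * (b : G)) * v = v * ((a : G)⁻¹ * (b : G)) := fun v hv =>
      (Subgroup.mem_centralizer_iff.1 (Subgroup.mem_subgroupOf.1 hab') v hv).symm
    have key : ∀ v ∈ V, (a : G) * v * (a : G)⁻¹ = (b : G) * v * (b : G)⁻¹ := fun v hv => by
      calc (a : G) * v * (a : G)⁻¹ = (a : G) * (v * ((a : G)⁻¹ * b)) * (b : G)⁻¹ := by group
        _ = _ := by rw [← hc v hv]; group
    exact Prod.ext (key z hzV) (key x hxV)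
  have hψ : Function.Injective ψ := by
    intro p q
    induction p using QuotientGroup.induction_on with | H a => ?_
    induction q using QuotientGroup.induction_on with | H b => ?_
    intro h
    have h1 : (a : G) * z * (a : G)⁻¹ = (b : G) * z * (b : G)⁻¹ := congrArg Prod.fst h
    have h2 : (a : G) * x * (a : G)⁻¹ = (b : G) * x * (b : G)⁻¹ := congrArg Prod.snd h
    refine QuotientGroup.eq.2 (Subgroup.mem_subgroupOf.2 (Subgroup.mem_centralizer_iff.2 ?_))
    have key : ∀ v ∈ ({z, x} : Set G), Commute v ((a : G)⁻¹ * b) := by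
      intro v hv
      have h3 : (a : G) * v * (a : G)⁻¹ = (b : G) * v * (b : G)⁻¹ := by
        rcases hv with rfl | rfl
        exacts [h1, h2]
      calc v * ((a : G)⁻¹ * b) = (a : G)⁻¹ * ((a : G) * v * (a : G)⁻¹) * b := by group
        _ = (a : G)⁻¹ * b * v := by rw [h3]; group
    intro v hv
    rcases hV4 v hv with rfl | rfl | rfl | rfl
    · exact Commute.one_left _
    · exact (key _ (Or.inl rfl))
    · exact (key _ (Or.inr rfl))
    · exact ((key _ (Or.inr rfl)).mul_left (key _ (Or.inl rfl)))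
  have hxzne : x * z ≠ 1 ∧ x * z ≠ x ∧ x * z ≠ z := by
    refine ⟨fun h => hgz ?_, fun h => S.ne_one (mul_eq_left.1 h), fun h => hx1 (mul_eq_right.1 h)⟩
    rw [mul_eq_one_iff_eq_inv, inv_eq_of_mul_eq_one_right hzz] at h
    exact h
  have hrange : Set.range ψ = ({(z, x), (z, x * z), (x * z, x), (x, x * z), (x * z, z), (x, z)} :
      Set (G × G)) := by
    apply Set.Subset.antisymm
    · rintro _ ⟨p, rfl⟩
      induction p using QuotientGroup.induction_on with | H a => ?_
      have hmem : ∀ v ∈ V, v ≠ 1 → (a : G) * v * (a : G)⁻¹ = z ∨ (a : G) * v * (a : G)⁻¹ = x ∨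
          (a : G) * v * (a : G)⁻¹ = x * z := fun v hv hv1 =>
        (hV4 _ ((Subgroup.mem_normalizer_iff.1 a.2 v).1 hv)).resolve_left fun h => hv1 (by
          rw [mul_inv_eq_one] at h
          exact mul_eq_left.1 h)
      have hne : (a : G) * z * (a : G)⁻¹ ≠ (a : G) * x * (a : G)⁻¹ := fun h =>
        hgz (mul_left_cancel (mul_right_cancel h)).symm
      show ((a : G) * z * (a : G)⁻¹, (a : G) * x * (a : G)⁻¹) ∈ _
      rcases hmem z hzV S.ne_one with h | h | h <;> rcases hmem x hxV hx1 with h' | h' | h' <;>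
        rw [h, h'] at hne ⊢ <;> first | exact absurd rfl hne | simp
    · have comp : ∀ {n m : G}, n ∈ N → m ∈ N → n * m ∈ N := fun h1 h2 => N.mul_mem h1 h2
      have hmk : ∀ (n : G) (hn : n ∈ N), (n * z * n⁻¹, n * x * n⁻¹) ∈ Set.range ψ :=
        fun n hn => ⟨QuotientGroup.mk ⟨n, hn⟩, rfl⟩
      have c2 : ∀ n m v : G, n * m * v * (n * m)⁻¹ = n * (m * v * m⁻¹) * n⁻¹ := fun n m v => by
        group
      have eyxz : y * (x * z) * y⁻¹ = x := by rw [act, hyx, hyz, mul_assoc, hzz, mul_one]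
      have ey'xz : y' * (x * z) * y'⁻¹ = z := by
        rw [act, hy'x, hy'z, ← mul_assoc, hx2, one_mul]
      rintro ⟨p, q⟩ (h | h | h | h | h | h) <;>
        simp only [Prod.mk.injEq, Set.mem_singleton_iff] at h <;> obtain ⟨rfl, rfl⟩ := h
      · have := hmk 1 N.one_mem; simpa using this
      · have := hmk y hyN; rwa [hyz, hyx] at this
      · have := hmk y' hy'N; rwa [hy'z, hy'x] at this
      · have := hmk (y * y') (comp hyN hy'N)
        rwa [c2, c2, hy'z, hy'x, eyxz, hyx] at this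
      · have := hmk (y' * y) (comp hy'N hyN)
        rwa [c2, c2, hyz, hyx, hy'z, ey'xz] at this
      · have := hmk (y * y' * y) (comp (comp hyN hy'N) hyN)
        rwa [c2, c2, c2, c2, hyz, hyx, hy'z, ey'xz, eyxz, hyz] at this
  show K.index = 6
  rw [Subgroup.index, ← Nat.card_range_of_injective hψ, hrange, Nat.card_coe_set_eq]
  have n1 : z ≠ x := Ne.symm hgz
  obtain ⟨-, n2, n3⟩ := hxzne
  have h5 : Set.ncard ({(x, z)} : Set (G × G)) = 1 := Set.ncard_singleton _
  rw [Set.ncard_insert_of_notMem (by simp [n1, n2, n3, n1.symm, n2.symm, n3.symm]),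
    Set.ncard_insert_of_notMem (by simp [n1, n2, n3, n1.symm, n2.symm, n3.symm]),
    Set.ncard_insert_of_notMem (by simp [n1, n2, n3, n1.symm, n2.symm, n3.symm]),
    Set.ncard_insert_of_notMem (by simp [n1, n2, n3, n1.symm, n2.symm, n3.symm]),
    Set.ncard_insert_of_notMem (by simp [n1, n2, n3, n1.symm, n2.symm, n3.symm]), h5]

end Cfsg.Agent.S5422
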