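import Cfsg.Statements.S5423
import Cfsg.Agent.LargeExtra.Affine

set_option autoImplicit false
open Cfsg

namespace Cfsg.Agent.S5423

open Cfsg.Agent.LargeExtra in
theorem exists_setup {G : Type*} [Group G] [Finite G] (n : ℕ) (U M : Subgroup G) [U.Normal]
    (hU : Cfsg.IsElementaryAbelian 2 U) (hUcard : Nat.card ↥U = 2 ^ (n + 1)) (hUM : U ⊓ M = ⊥)
    (hUM' : U ⊔ M = ⊤) (hfaith : ∀ m ∈ M, (∀ u ∈ U, m * u * m⁻¹ = u) → m = 1)
    (hfull : ∀ φ : ↥U ≃* ↥U, ∃ m ∈ M, ∀ u : ↥U, ((φ u : ↥U) : G) = m * u * m⁻¹)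
    (z₀ : G) (hz₀ : z₀ ∈ U) (hz₁ : z₀ ≠ 1) : ∃ S : AffineSetup n G, S.z = z₀ := by
  classical
  let : CommGroup ↥U := { (inferInstance : Group ↥U) with mul_comm := hU.1.is_comm.comm }
  have h2 : ∀ x : Additive ↥U, (2 : ℕ) • x = 0 := fun x =>
    Subtype.ext (show ((Additive.toMul x : ↥U) : G) ^ 2 = 1 from hU.2 _ (Additive.toMul x).2)
  let : Module (ZMod 2) (Additive ↥U) := AddCommGroup.zmodModule h2
  have hfr : Module.finrank (ZMod 2) (Additive ↥U) = Module.finrank (ZMod 2) (AV (n + 1)) := by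
    have h := Module.natCard_eq_pow_finrank (K := ZMod 2) (V := Additive ↥U)
    rw [Nat.card_congr Additive.toMul, hUcard, Nat.card_zmod] at h
    rw [Module.finrank_fin_fun]
    exact (Nat.pow_right_injective le_rfl h).symm
  let f₀ := LinearEquiv.ofFinrankEq (Additive ↥U) (AV (n + 1)) hfr
  have hf0 : f₀ (Additive.ofMul ⟨z₀, hz₀⟩) ≠ 0 := fun h => hz₁ (by
    have h' : Additive.ofMul (⟨z₀, hz₀⟩ : ↥U) = 0 := f₀.map_eq_zero_iff.1 h
    exact congrArg (fun x : Additive ↥U => ((Additive.toMul x : ↥U) : G)) h')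
  obtain ⟨g₀, hg₀⟩ := exists_move hf0 (ae0_ne (n := n))
  let f : Additive ↥U ≃+ AV (n + 1) := (f₀.trans g₀).toAddEquiv
  let ι : Multiplicative (AV (n + 1)) →* G :=
    { toFun := fun v => ((Additive.toMul (f.symm v.toAdd) : ↥U) : G)
      map_one' := by simp
      map_mul' := fun a b => by simp }
  have hι : Function.Injective ι := fun a b h =>
    Multiplicative.toAdd.injective (f.symm.injective (Additive.toMul.injective (Subtype.ext h)))
  have hιr : ∀ x, x ∈ U → ∃ v, ι v = x := fun x hx =>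
    ⟨.ofAdd (f (Additive.ofMul ⟨x, hx⟩)), by simp [ι]⟩
  have hιU : ∀ v, ι v ∈ U := fun v => (Additive.toMul (f.symm v.toAdd) : ↥U).2
  have hex : ∀ g : AL (n + 1), ∃ m ∈ M, ∀ v, m * ι (.ofAdd v) * m⁻¹ = ι (.ofAdd (g v)) := by
    intro g
    let φ : ↥U ≃* ↥U :=
      { toFun := fun u => Additive.toMul (f.symm (g (f (Additive.ofMul u))))
        invFun := fun u => Additive.toMul (f.symm (g.symm (f (Additive.ofMul u))))
        left_inv := fun u => by simp
        right_inv := fun u => by simp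
        map_mul' := fun a b => by simp }
    obtain ⟨m, hm, hme⟩ := hfull φ
    refine ⟨m, hm, fun v => ?_⟩
    have := hme (Additive.toMul (f.symm v))
    simpa [φ, ι] using this.symm
  have huniq : ∀ m ∈ M, ∀ m' ∈ M,
      (∀ v, m * ι (.ofAdd v) * m⁻¹ = m' * ι (.ofAdd v) * m'⁻¹) → m = m' := by
    intro m hm m' hm' h
    have := hfaith _ (M.mul_mem (M.inv_mem hm') hm) fun u hu => by
      obtain ⟨v, rfl⟩ := hιr u hu
      calc m'⁻¹ * m * ι v * (m'⁻¹ * m)⁻¹ = m'⁻¹ * (m * ι (.ofAdd v.toAdd) * m⁻¹) * m' := by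
            rw [ofAdd_toAdd]; group
        _ = ι v := by rw [h, ofAdd_toAdd]; group
    exact (inv_mul_eq_one.1 this).symm
  choose μf hμM hμ using hex
  let μ : AL (n + 1) →* G :=
    { toFun := μf
      map_one' := huniq _ (hμM 1) 1 M.one_mem fun v => by rw [hμ]; simp
      map_mul' := fun a b => huniq _ (hμM _) _ (M.mul_mem (hμM a) (hμM b)) fun v => by
        rw [hμ, show μf a * μf b * ι (.ofAdd v) * (μf a * μf b)⁻¹ =
          μf a * (μf b * ι (.ofAdd v) * (μf b)⁻¹) * (μf a)⁻¹ by group, hμ, hμ]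
        rfl }
  have hμinj : Function.Injective μ := fun a b h => LinearEquiv.ext fun v =>
    Multiplicative.ofAdd.injective (hι (by rw [← hμ a v, ← hμ b v]; exact congrArg (fun x => x * ι (.ofAdd v) * x⁻¹) h))
  have hιrange : ι.range = U := by
    ext x; exact ⟨fun ⟨v, hv⟩ => hv ▸ hιU v, fun hx => hιr x hx⟩
  have hμrange : μ.range = M := by
    ext m
    refine ⟨fun ⟨g, hg⟩ => hg ▸ hμM g, fun hm => ?_⟩
    have hmem : ∀ x : ↥U, m * x * m⁻¹ ∈ U := fun x => (inferInstance : U.Normal).conj_mem _ x.2 m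
    let c : Additive ↥U →+ Additive ↥U :=
      { toFun := fun x => Additive.ofMul ⟨_, hmem (Additive.toMul x)⟩
        map_zero' := by apply Additive.toMul.injective; exact Subtype.ext (by simp)
        map_add' := fun a b => Additive.toMul.injective (Subtype.ext (by simp [mul_assoc])) }
    let e : AV (n + 1) →ₗ[ZMod 2] AV (n + 1) :=
      ((f : Additive ↥U →+ AV (n + 1)).comp (c.comp (f.symm : AV (n + 1) →+ Additive ↥U))).toZModLinearMap 2
    have he : ∀ v, ι (.ofAdd (e v)) = m * ι (.ofAdd v) * m⁻¹ := fun v => by simp [e, c, ι]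
    have hei : Function.Injective e := fun a b h => Multiplicative.ofAdd.injective (hι (by
      have := (he a).symm.trans ((congrArg (fun x => ι (.ofAdd x)) h).trans (he b))
      exact mul_left_cancel (mul_right_cancel this)))
    refine ⟨LinearEquiv.ofBijective e ⟨hei, LinearMap.surjective_of_injective hei⟩, ?_⟩
    exact huniq _ (hμM _) m hm fun v => by rw [hμ]; exact he v
  refine ⟨{ ι := ι, μ := μ, ιinj := hι, μinj := hμinj, compat := fun g v => hμ g v
            disj := by rw [hιrange, hμrange, hUM]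
            cent := fun v _ => by rw [hιrange, hμrange, hUM']; exact le_top }, ?_⟩
  show ι (.ofAdd ae0) = z₀
  rw [← hg₀]
  simp [ι, f]

/-- Let G be a finite group that is the split extension of an elementary abelian normal subgroup U of order 2^(n+1), n ≥ 1, by its full automorphism group: U has a complement M in G whose conjugation action on U is faithful and realizes every automorphism of U. Let Z be a subgroup of U of order 2 and Q the largest normal 2-subgroup of the centralizer C of Z. Then Q is extraspecial of order 2^(2n+1) with an elementary abelian subgroup of order 2^(n+1) (plus type), Q is a large extraspecial 2-subgroup of G, and C is the split extension of Q by the general linear group of degree n over the field with two elements. -/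
theorem result {G : Type*} [Group G] [Finite G] (n : ℕ) (hn : 1 ≤ n) (U M : Subgroup G) [U.Normal] (hU : Cfsg.IsElementaryAbelian 2 U) (hUcard : Nat.card ↥U = 2 ^ (n + 1)) (hUM : U ⊓ M = ⊥) (hUM' : U ⊔ M = ⊤) (hfaith : ∀ m ∈ M, (∀ u ∈ U, m * u * m⁻¹ = u) → m = 1) (hfull : ∀ φ : ↥U ≃* ↥U, ∃ m ∈ M, ∀ u : ↥U, ((φ u : ↥U) : G) = m * u * m⁻¹) (Z : Subgroup G) (hZU : Z ≤ U) (hZ : Nat.card ↥Z = 2) (Q : Subgroup G) (hQ : Q = (Cfsg.pCore 2 ↥(Subgroup.centralizer (Z : Set G))).map (Subgroup.centralizer (Z : Set G)).subtype) : Cfsg.IsExtraspecial 2 ↥Q ∧ Nat.card ↥Q = 2 ^ (2 * n + 1) ∧ (∃ E : Subgroup G, E ≤ Q ∧ Cfsg.IsElementaryAbelian 2 E ∧ Nat.card ↥E = 2 ^ (n + 1)) ∧ Cfsg.IsLargeExtraspecial Q ∧ ∃ K : Subgroup G, K ≤ Subgroup.centralizer (Z : Set G) ∧ Q ⊓ K = ⊥ ∧ Q ⊔ K = Subgroup.centralizer (Z : Set G) ∧ Nonempty (↥K ≃* Matrix.GeneralLinearGroup (Fin n) (ZMod 2)) := by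
  have hnt : Nontrivial ↥Z := by rw [← Finite.one_lt_card_iff_nontrivial, hZ]; norm_num
  obtain ⟨⟨z₀, hz₀Z⟩, hz₀⟩ := exists_ne (1 : ↥Z)
  have hz₁ : z₀ ≠ 1 := fun h => hz₀ (Subtype.ext h)
  have hzp : Subgroup.zpowers z₀ = Z := by
    refine Subgroup.eq_of_le_of_card_ge (Subgroup.zpowers_le.2 hz₀Z) ?_
    have : Nontrivial ↥(Subgroup.zpowers z₀) := (Subgroup.nontrivial_iff_ne_bot _).2
      (Subgroup.zpowers_ne_bot.2 hz₁)
    have := (Finite.one_lt_card_iff_nontrivial (α := ↥(Subgroup.zpowers z₀))).2 this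
    omega
  obtain ⟨S, hS⟩ := exists_setup n U M hU hUcard hUM hUM' hfaith hfull z₀ (hZU hz₀Z) hz₁
  subst hS
  have hC : Subgroup.centralizer (Z : Set G) = Subgroup.centralizer ({S.z} : Set G) := by
    rw [← hzp, Subgroup.zpowers_eq_closure, Subgroup.centralizer_closure]
  have hQ' : Q = S.Q := by
    rw [hQ]
    rw [hC]
    exact S.pCore_eq
  subst hQ'
  exact ⟨S.extraspecial hn, S.card_Q, ⟨_, S.U_elementary.1, S.U_elementary.2⟩, S.large hn,
    S.K, hC ▸ S.K_le, S.inf_K, hC ▸ S.sup_K, S.nonempty_K⟩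

end Cfsg.Agent.S5423
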