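import Cfsg.Statements.S5425
import Cfsg.Agent.Compute.CentInvALarge
import Cfsg.Agent.S5421

set_option autoImplicit false
open Cfsg
open scoped Pointwise

namespace Cfsg.Agent.S5425

/-- In the Mathieu group of degree 24 (the automorphism group of the length-24 binary Golay code, acting on the 24 coordinates), let z be an involution whose fixed points form an octad (the support of a code word of weight 8), and let Q be the largest normal 2-subgroup of the centralizer C of z. Then Q is extraspecial of order 2^7 with an elementary abelian subgroup of order 16 (plus type), Q is a large extraspecial 2-subgroup, and C is the split extension of Q by the special linear group of degree 3 over the field with two elements. -/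
theorem result (z : ↥Cfsg.M24) (hz : orderOf z = 2) (hfix : (Finset.univ.filter fun p : Cfsg.GolayPt => (z : Equiv.Perm Cfsg.GolayPt) p = p) ∈ Cfsg.octads) (Q : Subgroup ↥Cfsg.M24) (hQ : Q = (Cfsg.pCore 2 ↥(Subgroup.centralizer ({z} : Set ↥Cfsg.M24))).map (Subgroup.centralizer ({z} : Set ↥Cfsg.M24)).subtype) : Cfsg.IsExtraspecial 2 ↥Q ∧ Nat.card ↥Q = 2 ^ 7 ∧ (∃ E : Subgroup ↥Cfsg.M24, E ≤ Q ∧ Cfsg.IsElementaryAbelian 2 E ∧ Nat.card ↥E = 2 ^ 4) ∧ Cfsg.IsLargeExtraspecial Q ∧ ∃ K : Subgroup ↥Cfsg.M24, K ≤ Subgroup.centralizer ({z} : Set ↥Cfsg.M24) ∧ Q ⊓ K = ⊥ ∧ Q ⊔ K = Subgroup.centralizer ({z} : Set ↥Cfsg.M24) ∧ Nonempty (↥K ≃* Matrix.SpecialLinearGroup (Fin 3) (ZMod 2)) := by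
  classical
  have hz' : orderOf (z : Equiv.Perm Cfsg.GolayPt) = 2 := by rw [Subgroup.orderOf_coe]; exact hz
  obtain ⟨k, hk, hkz⟩ := Compute.conj_involution_of_fix z.2 hz' (Or.inl ⟨rfl, hfix.2⟩)
  change k * (z : Equiv.Perm Cfsg.GolayPt) * k⁻¹ = Compute.rep24.den (Compute.invRep 0) at hkz
  obtain ⟨K0, hK0⟩ : ∃ K0 : ↥Cfsg.M24, K0 = ⟨k, hk⟩ := ⟨_, rfl⟩
  have hkz' : (K0 : Equiv.Perm Cfsg.GolayPt) * z * (K0 : Equiv.Perm Cfsg.GolayPt)⁻¹ =
      Compute.rep24.den (Compute.invRep 0) := by rw [hK0]; exact hkz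
  rw [Compute.pCore_cent hkz'] at hQ
  subst hQ
  have hinj := Compute.embCent_injective K0
  have hrange := Compute.range_embCent hkz'
  have hES := Compute.isExtraspecial_core K0
  obtain ⟨hC, hZ⟩ := Compute.centralizer_core K0 hkz'
  have hcentZ : Subgroup.centralizer
      ((Subgroup.zpowers z : Subgroup ↥Cfsg.M24) : Set ↥Cfsg.M24) =
      Subgroup.centralizer ({z} : Set ↥Cfsg.M24) := by
    ext a
    rw [Subgroup.mem_centralizer_singleton_iff, Subgroup.mem_centralizer_iff]
    refine ⟨fun h => (h z (Subgroup.mem_zpowers z)).symm, fun h c hc => ?_⟩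
    obtain ⟨m, rfl⟩ := Subgroup.mem_zpowers_iff.mp hc
    exact ((show Commute a z from h).zpow_right m).eq.symm
  have hN : Subgroup.centralizer ({z} : Set ↥Cfsg.M24) ≤ Subgroup.normalizer
      (((Compute.TransvFive.Q5).map (Compute.embCent K0) : Subgroup ↥Cfsg.M24) :
        Set ↥Cfsg.M24) := by
    rw [← hrange, MonoidHom.range_eq_map]
    refine le_trans (Subgroup.map_mono ?_) (Subgroup.le_normalizer_map _)
    rw [Subgroup.normalizer_eq_top]
  obtain ⟨g, hg, ⟨c, hc, hce⟩, ⟨c', hc', hce'⟩, hne⟩ := Compute.exists_mover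
  -- a second involution in the core whose own core contains `z`
  obtain ⟨b, hb⟩ : ∃ b : ↥Cfsg.M24, b = Compute.embCent K0 c := ⟨_, rfl⟩
  have hbv : (b : Equiv.Perm Cfsg.GolayPt) =
      k⁻¹ * (g * Compute.rep24.den (Compute.invRep 0) * g⁻¹) * k := by
    rw [hb, Compute.embCent_coe, hce, hK0]
  have hkb : ((⟨g, hg⟩⁻¹ * K0 : ↥Cfsg.M24) : Equiv.Perm Cfsg.GolayPt) * b *
      ((⟨g, hg⟩⁻¹ * K0 : ↥Cfsg.M24) : Equiv.Perm Cfsg.GolayPt)⁻¹ =
      Compute.rep24.den (Compute.invRep 0) := by
    rw [hbv, hK0]; push_cast; group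
  refine ⟨hES, ?_, ⟨Compute.TransvFive.E5.map (Compute.embCent K0),
    Subgroup.map_mono Compute.TransvFive.E5_le, ?_, ?_⟩, ?_,
    Compute.TransvFive.emb.range.map (Compute.embCent K0), ?_, ?_, ?_, ?_⟩
  · rw [Subgroup.card_map_of_injective hinj, Compute.TransvFive.card_Q5]
  · refine ⟨⟨⟨?_⟩⟩, ?_⟩
    · rintro ⟨_, x, hx, rfl⟩ ⟨_, y, hy, rfl⟩
      exact Subtype.ext (by simp only [Subgroup.coe_mul, ← map_mul, Compute.TransvFive.E5_comm hx hy])
    · rintro _ ⟨x, hx, rfl⟩
      rw [← map_pow, pow_two, Compute.TransvFive.E5_sq hx, map_one]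
  · rw [Subgroup.card_map_of_injective hinj, Compute.TransvFive.card_E5]
  · refine S5421.result _ hES (hC.trans hZ.symm) (by rw [hZ, hcentZ]; exact hN) b
      (hb ▸ ⟨c, hc, rfl⟩) (fun hbZ => ?_) ?_ ?_
    · rw [hZ] at hbZ
      have hzz : b = 1 ∨ b = z := by
        obtain ⟨m, hm⟩ := Subgroup.mem_zpowers_iff.mp hbZ
        rw [← hm, ← zpow_mod_orderOf, hz]
        rcases Int.emod_two_eq_zero_or_one m with e | e <;> simp [e]
      rcases hzz with e | e
      · have h1 := hbv
        rw [e, OneMemClass.coe_one] at h1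
        have hrep : Compute.rep24.den (Compute.invRep 0) = 1 := by
          calc Compute.rep24.den (Compute.invRep 0)
              = g⁻¹ * k * (k⁻¹ * (g * Compute.rep24.den (Compute.invRep 0) * g⁻¹) * k) *
                k⁻¹ * g := by group
            _ = 1 := by rw [← h1]; group
        have := Compute.orderOf_invRep
        rw [hrep, orderOf_one] at this
        omega
      · refine hne ?_
        have h1 := hbv
        rw [e] at h1
        calc g * Compute.rep24.den (Compute.invRep 0) * g⁻¹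
            = k * (k⁻¹ * (g * Compute.rep24.den (Compute.invRep 0) * g⁻¹) * k) * k⁻¹ := by group
          _ = _ := by rw [← h1, hkz]
    · rw [← Subgroup.orderOf_coe, Compute.orderOf_conj_two hkb, Compute.orderOf_invRep]
    · rw [hZ, Subgroup.zpowers_le, Compute.pCore_cent hkb]
      refine ⟨c', hc', Subtype.ext ?_⟩
      rw [Compute.embCent_coe, hce', hK0]
      push_cast
      rw [← hkz]
      group
  · exact (Subgroup.map_le_range _ _).trans hrange.le
  · rw [← Subgroup.map_inf _ _ _ hinj, Compute.TransvFive.inf_range, Subgroup.map_bot]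
  · rw [← Subgroup.map_sup, Compute.TransvFive.sup_range, ← MonoidHom.range_eq_map, hrange]
  · exact ⟨((Subgroup.equivMapOfInjective _ _ hinj).symm.trans
      (MonoidHom.ofInjective Compute.TransvFive.emb_injective).symm)⟩

end Cfsg.Agent.S5425
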