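import Cfsg.Statements.S5426
import Cfsg.Agent.LargeExtraReduce.Pair

set_option autoImplicit false
open Cfsg

namespace Cfsg.Agent.S5426

/-- Let Q be a large extraspecial 2-subgroup of the finite group G (extraspecial; centralizer equal to its centre; normal in the centralizer of its centre; normalizing no non-trivial subgroup of odd order) with centre generated by z, and let M be the normal closure of z in G. Then one of the following holds: Q is normal in G; or M is abelian and the generalized Fitting subgroup of G is its largest normal 2-subgroup; or M is the generalized Fitting subgroup of G and is a non-abelian simple group; or M is the generalized Fitting subgroup of G and is the direct product of a non-abelian simple subgroup L and its conjugate u L u⁻¹ by some u in Q (the two meet trivially and commute elementwise), with z = z₁ (u z₁ u⁻¹) for some z₁ in L whose centralizer in L is a Sylow 2-subgroup of L with Frattini subgroup inside the subgroup generated by z₁, and Q is not the largest normal 2-subgroup of the centralizer of z. -/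
theorem result {G : Type*} [Group G] [Finite G] (Q : Subgroup G) (hQ : Cfsg.IsLargeExtraspecial Q) (z : G) (hz : ((Subgroup.center ↥Q).map Q.subtype) = Subgroup.zpowers z) (M : Subgroup G) (hM : M = Subgroup.normalClosure ({z} : Set G)) : Q.Normal ∨ (IsMulCommutative ↥M ∧ Cfsg.generalizedFittingSubgroup G = Cfsg.pCore 2 G) ∨ (M = Cfsg.generalizedFittingSubgroup G ∧ IsSimpleGroup ↥M ∧ ¬ IsMulCommutative ↥M) ∨ (M = Cfsg.generalizedFittingSubgroup G ∧ ∃ (L : Subgroup G) (u : G), u ∈ Q ∧ IsSimpleGroup ↥L ∧ ¬ IsMulCommutative ↥L ∧ L ⊓ (L).map (MulAut.conj u).toMonoidHom = ⊥ ∧ (∀ x ∈ L, ∀ y ∈ (L).map (MulAut.conj u).toMonoidHom, x * y = y * x) ∧ L ⊔ (L).map (MulAut.conj u).toMonoidHom = M ∧ ∃ z₁ ∈ L, z = z₁ * (u * z₁ * u⁻¹) ∧ (∃ R : Sylow 2 ↥L, (R : Subgroup ↥L) = (Subgroup.centralizer ({z₁} : Set G)).subgroupOf L ∧ (frattini ↥(R : Subgroup ↥L)).map ((L.subtype).comp (R : Subgroup ↥L).subtype) ≤ Subgroup.zpowers z₁) ∧ Q ≠ (Cfsg.pCore 2 ↥(Subgroup.centralizer ({z} : Set G))).map (Subgroup.centralizer ({z} : Set G)).subtype) := by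
  have h := LargeExtraReduce.Ctx.of_large hQ hz
  by_cases hW : Cfsg.pCore 2 G = ⊥
  swap
  · exact Or.inr (Or.inl (h.abelian_case hW hM))
  refine Or.inr (Or.inr ?_)
  have hF : Cfsg.fittingSubgroup G = ⊥ := h.fitting_eq.trans hW
  have hMlay : M = layer G := by
    refine le_antisymm (hM ▸ Subgroup.normalClosure_le_normal
      (Set.singleton_subset_iff.2 (h.z_mem_layer hF))) (sSup_le fun K hK => ?_)
    have hMn : M.Normal := hM ▸ Subgroup.normalClosure_normal
    rcases Layer.component_le_or_commute hK hMn.isSubnormal with hle | hc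
    · exact hle
    · refine absurd (fun x hx => ?_) (h.not_commute hK)
      exact Subgroup.mem_centralizer_singleton_iff.2 (Layer.commute_of_commutator_eq_bot hc hx
        (hM ▸ Subgroup.subset_normalClosure rfl))
  have hMF : M = Cfsg.generalizedFittingSubgroup G := by
    rw [Cfsg.generalizedFittingSubgroup, hF, sup_bot_eq, hMlay]
  obtain ⟨L, hL⟩ : ∃ L : Subgroup G, Cfsg.IsComponent L := by
    by_contra hno
    push Not at hno
    have hl : Cfsg.layer G = ⊥ := Layer.layer_eq_bot_iff.2 hno
    have := h.z_mem_layer hF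
    rw [hl, Subgroup.mem_bot] at this
    exact h.z_ne this
  obtain ⟨a, b, hP⟩ := h.exists_proj hF hL
  have hna : ∀ {K : Subgroup G}, K = L → ¬ IsMulCommutative ↥K := by
    rintro _ rfl hK
    exact Layer.qs_not_isSolvable hL.2 (Group.isSolvable_of_comm fun a b => mul_comm' a b)
  by_cases hall : ∀ q ∈ Q, L.map (MulAut.conj q).toMonoidHom = L
  · left
    have hML : M = L := by
      rw [hMlay]
      refine le_antisymm (sSup_le fun K hK => ?_) (Layer.component_le_layer hL)
      obtain ⟨q, hq, e⟩ := h.exists_conj_component hF hL hK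
      exact (e.symm.trans (hall q hq)).le
    exact ⟨hMF, by rw [hML]; exact hP.simple, hna hML⟩
  · push Not at hall
    obtain ⟨u, hu, huL⟩ := hall
    right
    refine ⟨hMF, L, u, hu, hP.simple, hna rfl, ?_, ?_, ?_, a, hP.ha,
      LargeExtraReduce.z_eq h hF hP hu huL, LargeExtraReduce.exists_sylow h hF hP hu huL,
      LargeExtraReduce.ne_pCore_centralizer h hF hP hu huL⟩
    · rw [← LargeExtraReduce.others_eq h hF hP hu huL]
      exact LargeExtraReduce.inf_others_eq_bot hF hL
    · intro x hx y hy
      rw [← LargeExtraReduce.others_eq h hF hP hu huL] at hy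
      exact (Subgroup.mem_centralizer_iff.1
        (LargeExtraReduce.le_centralizer_others hF hL hx) y hy).symm
    · rw [hMlay]; exact LargeExtraReduce.layer_eq h hF hP hu huL

end Cfsg.Agent.S5426
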