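import Cfsg.Statements.S5427
import Cfsg.Agent.LargeExtra.Quotient
import Cfsg.Agent.LargeExtra.FourGroup
import Cfsg.Agent.Fusion.PGroup
import Cfsg.Agent.Core.PCore
import Mathlib.GroupTheory.FixedPointFree

set_option autoImplicit false
open Cfsg

namespace Cfsg.Agent.S5427

theorem inverts {G : Type*} [Group G] [Finite G] (N : Subgroup G) (a : G) (ha : a * a = 1)
    (hn : ∀ n ∈ N, a * n * a⁻¹ ∈ N) (hfix : ∀ n ∈ N, n * a = a * n → n = 1) :
    ∀ n ∈ N, a * n * a⁻¹ = n⁻¹ := by
  have hai : a⁻¹ = a := inv_eq_of_mul_eq_one_right ha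
  let φ : ↥N →* ↥N :=
    { toFun := fun n => ⟨a * n * a⁻¹, hn n n.2⟩
      map_one' := Subtype.ext (by simp)
      map_mul' := fun x y => Subtype.ext (by simp [mul_assoc]) }
  have hfp : MonoidHom.FixedPointFree φ := fun m hm =>
    Subtype.ext (hfix m m.2 (mul_inv_eq_iff_eq_mul.1 (congrArg Subtype.val hm)).symm)
  have h2 : Function.Involutive φ := fun m => Subtype.ext (by
    show a * (a * m * a⁻¹) * a⁻¹ = m
    rw [hai, ← mul_assoc, ← mul_assoc, ha, one_mul, mul_assoc, ha, mul_one])
  intro n hn'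
  exact congrArg Subtype.val
    (congrFun (MonoidHom.FixedPointFree.coe_eq_inv_of_involutive hfp h2) ⟨n, hn'⟩)

/-- Let z be an involution of the finite group G whose centralizer C has generalized Fitting subgroup Q, an extraspecial 2-group of width at least 2 (order 2^(2w+1), w ≥ 2). Let K be a subgroup of G such that the subgroup U generated by the K-conjugates of z is abelian and C is generated by the C-conjugates of U. Suppose that either some K-conjugate of z other than z lies in Q, or some element u of U ∩ Q outside the subgroup generated by z has z in the largest normal 2-subgroup of its centralizer. Then G is simple and Q is a large extraspecial 2-subgroup of G. -/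
theorem result {G : Type*} [Group G] [Finite G] (z : G) (hz : orderOf z = 2) (Q : Subgroup G) (hQC : Q ≤ Subgroup.centralizer ({z} : Set G)) (hF : (Cfsg.generalizedFittingSubgroup ↥(Subgroup.centralizer ({z} : Set G))).map (Subgroup.centralizer ({z} : Set G)).subtype = Q) (hQ : Cfsg.IsExtraspecial 2 ↥Q) (w : ℕ) (hw : 2 ≤ w) (hcard : Nat.card ↥Q = 2 ^ (2 * w + 1)) (K U : Subgroup G) (hU : U = Subgroup.closure {x : G | ∃ k ∈ K, x = k * z * k⁻¹}) (hUab : IsMulCommutative ↥U) (hgen : Subgroup.closure {x : G | ∃ c ∈ Subgroup.centralizer ({z} : Set G), ∃ u ∈ U, x = c * u * c⁻¹} = Subgroup.centralizer ({z} : Set G)) (h3 : (∃ k ∈ K, k * z * k⁻¹ ∈ Q ∧ k * z * k⁻¹ ≠ z) ∨ ∃ u ∈ U ⊓ Q, u ∉ Subgroup.zpowers z ∧ (∃ hz' : z ∈ Subgroup.centralizer ({u} : Set G), (⟨z, hz'⟩ : ↥(Subgroup.centralizer ({u} : Set G))) ∈ Cfsg.pCore 2 ↥(Subgroup.centralizer ({u} : Set G)))) : IsSimpleGroup G ∧ Cfsg.IsLargeExtraspecial Q := by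
  have : Fact (Nat.Prime 2) := ⟨Nat.prime_two⟩
  obtain ⟨hC, hZ, hN⟩ := LargeExtra.data_of_fitting hz hQC hF hQ
  obtain ⟨hn', S⟩ := LargeExtra.nsetting hQ hC hN hz hZ
  have hFz := LargeExtra.conjFam_self hn' (Q := Q) (z := z)
  have hz1 : z ≠ 1 := fun e => by rw [e, orderOf_one] at hz; omega
  have hzz : z * z = 1 := by rw [← sq, ← hz, pow_orderOf_eq_one]
  have hzQ : z ∈ Q := by
    have h : z ∈ (Subgroup.center ↥Q).map Q.subtype := hZ ▸ Subgroup.mem_zpowers z
    exact Subgroup.map_subtype_le _ h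
  have hzp : ∀ x, x ∈ Subgroup.zpowers z → x = 1 ∨ x = z := fun x hx => by
    obtain ⟨k, hk⟩ := Subgroup.mem_zpowers_iff.1 hx
    rcases Int.even_or_odd' k with ⟨j, rfl | rfl⟩
    · left; rw [← hk, zpow_mul, zpow_two, hzz, one_zpow]
    · right; rw [← hk, zpow_add_one, zpow_mul, zpow_two, hzz, one_zpow, one_mul]
  have hcases : ∀ c, (∀ q ∈ Q, q * c = c * q) → c = 1 ∨ c = z := fun c h =>
    hzp c (hZ ▸ hC ▸ Subgroup.mem_centralizer_iff.2 h)
  have hCn : Subgroup.centralizer ({z} : Set G) ≤ Subgroup.normalizer (Q : Set G) := fun c hc =>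
    hN (Subgroup.mem_centralizer_iff.2 fun y hy => by
      rw [hZ] at hy
      rcases hzp y hy with rfl | rfl
      · simp
      · exact (Subgroup.mem_centralizer_singleton_iff.1 hc).symm)
  have hc32 : 32 ≤ Nat.card ↥Q := by
    rw [hcard]; exact (show 32 = 2 ^ 5 from rfl) ▸ Nat.pow_le_pow_right (by norm_num) (by omega)
  -- `U` is generated by conjugates of `z` and is elementary abelian
  have hUc : ∀ x ∈ U, ∀ y ∈ U, x * y = y * x := fun x hx y hy =>
    congrArg Subtype.val (hUab.is_comm.comm (⟨x, hx⟩ : ↥U) ⟨y, hy⟩)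
  have hU2 : ∀ x ∈ U, x * x = 1 := by
    rw [hU]
    intro x hx
    induction hx using Subgroup.closure_induction with
    | mem x hx =>
      obtain ⟨k, -, rfl⟩ := hx
      rw [show k * z * k⁻¹ * (k * z * k⁻¹) = k * (z * z) * k⁻¹ by group, hzz]; group
    | one => simp
    | mul x y hx hy ihx ihy =>
      rw [← hU] at hx hy
      rw [show x * y * (x * y) = x * (y * x) * y by group, hUc y hy x hx,
        show x * (x * y) * y = (x * x) * (y * y) by group, ihx, ihy, one_mul]
    | inv x _ ih => rw [← mul_inv_rev, ih, inv_one]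
  have hzU : z ∈ U := by
    rw [hU]; exact Subgroup.subset_closure ⟨1, K.one_mem, by simp⟩
  -- the element `u` and a 2-subgroup containing `z` normalised by its centralizer
  obtain ⟨u, huU, huQ, hunz, R, hR, hzR, hRn⟩ : ∃ u, u ∈ U ∧ u ∈ Q ∧ u ∉ Subgroup.zpowers z ∧
      ∃ R : Subgroup G, IsPGroup 2 ↥R ∧ z ∈ R ∧ ∀ c, c * u = u * c → ∀ r ∈ R, c * r * c⁻¹ ∈ R := by
    rcases h3 with ⟨k, hk, hkQ, hkz⟩ | ⟨u, hu, hunz, hz', hzR⟩
    · have hk1 : k * z * k⁻¹ ≠ 1 := fun e => hz1 (by
        have := congrArg (fun x => k⁻¹ * x * k) e; simpa [mul_assoc] using this)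
      have hkC : k ∉ Subgroup.centralizer ({z} : Set G) := fun h => hkz (by
        rw [Subgroup.mem_centralizer_singleton_iff.1 h, mul_inv_cancel_right])
      have Pr := LargeExtra.pair_of_large hQ hC hN hZ hz hc32 hkC hkQ
      refine ⟨k * z * k⁻¹, hU ▸ Subgroup.subset_closure ⟨k, hk, rfl⟩, hkQ, fun h => ?_,
        _, hQ.1.1.map _, Pr.memz, fun c hc r hr => ?_⟩
      · rcases hzp _ h with e | e
        · exact hk1 e
        · exact hkz e
      · exact (Subgroup.mem_normalizer_iff.1
          (Pr.nrm' (Subgroup.mem_centralizer_singleton_iff.2 hc)) r).1 hr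
    · refine ⟨u, hu.1, hu.2, hunz,
        (Cfsg.pCore 2 ↥(Subgroup.centralizer ({u} : Set G))).map
          (Subgroup.centralizer ({u} : Set G)).subtype,
        Cfsg.Agent.Core.pCore_isPGroup.map _, ⟨_, hzR, rfl⟩, ?_⟩
      rintro c hc _ ⟨r, hr, rfl⟩
      exact ⟨⟨c, Subgroup.mem_centralizer_singleton_iff.2 hc⟩ * r * _⁻¹,
        Cfsg.Agent.Core.pCore_normal.conj_mem r hr _, rfl⟩
  obtain ⟨q₀, hq₀, hq₀u⟩ := S.exists_mover (x := u) (hFz.symm ▸ huQ) (fun e => hunz (by rw [e]; exact Subgroup.one_mem _))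
    (fun e => hunz (by rw [e]; exact Subgroup.mem_zpowers z))
  rw [hFz] at hq₀
  refine ⟨?_, hQ, hC, hN, ?_⟩
  · -- simplicity
    have : Nontrivial G := ⟨⟨z, 1, hz1⟩⟩
    refine ⟨fun N hNn => ?_⟩
    by_cases hzN : z ∈ N
    · right
      have hHN : Subgroup.centralizer ({z} : Set G) ≤ N := by
        rw [← hgen, Subgroup.closure_le]
        rintro _ ⟨c, -, v, hv, rfl⟩
        refine hNn.conj_mem v ((show U ≤ N from ?_) hv) c
        rw [hU, Subgroup.closure_le]
        rintro _ ⟨k, -, rfl⟩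
        exact hNn.conj_mem z hzN k
      obtain ⟨T⟩ := (inferInstance : Nonempty (Sylow 2 ↥(Subgroup.centralizer ({z} : Set G))))
      have hQn : (Q.subgroupOf (Subgroup.centralizer ({z} : Set G))).Normal :=
        (Subgroup.normal_subgroupOf_iff_le_normalizer hQC).2 hCn
      have hQp' : IsPGroup 2 ↥(Q.subgroupOf (Subgroup.centralizer ({z} : Set G))) :=
        hQ.1.1.comap_of_injective _ (Subgroup.subtype_injective _)
      have hQT : Q.subgroupOf (Subgroup.centralizer ({z} : Set G)) ≤ T :=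
        hQp'.le_sylow_of_normal T
      set T₀ := (T : Subgroup ↥(Subgroup.centralizer ({z} : Set G))).map
        (Subgroup.centralizer ({z} : Set G)).subtype with hT₀
      obtain ⟨S', hTS⟩ := (T.isPGroup'.map
        (Subgroup.centralizer ({z} : Set G)).subtype).exists_le_sylow
      have hQT₀ : ∀ q ∈ Q, q ∈ T₀ := fun q hq => ⟨⟨q, hQC hq⟩, hQT hq, rfl⟩
      have hnorm : Subgroup.normalizer (T₀ : Set G) ≤ Subgroup.centralizer ({z} : Set G) := by
        intro n hn
        have hcen : ∀ q ∈ Q, q * (n * z * n⁻¹) = n * z * n⁻¹ * q := by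
          intro q hq
          have hq' : n⁻¹ * q * n ∈ T₀ := by
            simpa using (Subgroup.mem_normalizer_iff.1 (inv_mem hn) q).1 (hQT₀ q hq)
          have hdz := Subgroup.mem_centralizer_singleton_iff.1 (Subgroup.map_subtype_le _ hq')
          calc q * (n * z * n⁻¹) = n * (n⁻¹ * q * n * z) * n⁻¹ := by group
            _ = n * (z * (n⁻¹ * q * n)) * n⁻¹ := by rw [hdz]
            _ = _ := by group
        rcases hcases _ hcen with e | e
        · exact absurd (by have := congrArg (fun x => n⁻¹ * x * n) e; simpa [mul_assoc] using this) hz1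
        · exact Subgroup.mem_centralizer_singleton_iff.2 (mul_inv_eq_iff_eq_mul.1 e)
      have hSH : ∀ x ∈ S', x ∈ Subgroup.centralizer ({z} : Set G) → x ∈ T₀ := by
        intro x hx hxH
        have hp : IsPGroup 2 ↥((S' : Subgroup G).subgroupOf (Subgroup.centralizer ({z} : Set G))) :=
          S'.isPGroup'.comap_of_injective _ Subtype.val_injective
        have := T.is_maximal' hp (fun t ht => hTS ⟨t, ht, rfl⟩)
        exact ⟨⟨x, hxH⟩, this ▸ (show (⟨x, hxH⟩ : ↥(Subgroup.centralizer ({z} : Set G))) ∈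
          (S' : Subgroup G).subgroupOf _ from hx), rfl⟩
      have hST : (S' : Subgroup G) = T₀ := by
        by_contra hne
        have hlt : T₀.subgroupOf S' < ⊤ := lt_top_iff_ne_top.2 fun h =>
          hne (le_antisymm (Subgroup.subgroupOf_eq_top.1 h) hTS)
        have := (Group.normalizerCondition_of_isNilpotent (h := S'.isPGroup'.isNilpotent)) _ hlt
        obtain ⟨⟨x, hx⟩, hxn, hxT⟩ := SetLike.exists_of_lt this
        refine hxT (hSH x hx (hnorm (Subgroup.mem_normalizer_iff.2 fun y => ?_)))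
        constructor
        · intro hy
          exact (Subgroup.mem_normalizer_iff.1 hxn ⟨y, hTS hy⟩).1 hy
        · intro hy
          have hyS : y ∈ (S' : Subgroup G) := by
            have := mul_mem (mul_mem ((S' : Subgroup G).inv_mem hx) (hTS hy)) hx
            simpa [mul_assoc] using this
          exact (Subgroup.mem_normalizer_iff.1 hxn ⟨y, hyS⟩).2 hy
      have hSN : (S' : Subgroup G) ≤ N := hST ▸ fun x hx => hHN (Subgroup.map_subtype_le _ hx)
      have htop := S'.normalizer_sup_eq_top' hSN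
      rw [eq_top_iff, ← htop]
      exact sup_le (le_trans (show Subgroup.normalizer ((S' : Subgroup G) : Set G) ≤ _ by
        rw [hST]; exact hnorm) hHN) le_rfl
    · left
      have hmeet : ∀ M : Subgroup G, M.Normal → ∀ v ∈ M, v ∈ Q → v ≠ 1 → z ∈ M := by
        intro M hM v hv hvQ hv1
        have hne : M.subgroupOf Q ≠ ⊥ := fun e => by
          have h' : (⟨v, hvQ⟩ : ↥Q) ∈ M.subgroupOf Q := hv
          rw [e, Subgroup.mem_bot] at h'
          exact hv1 (congrArg Subtype.val h')
        obtain ⟨c, hc1⟩ := (Subgroup.ne_bot_iff_exists_ne_one.1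
          (Fusion.pGroup_inf_center_ne_bot hQ.1.1 (M.subgroupOf Q) hne))
        rcases hcases (c : G) (fun q hq =>
          congrArg Subtype.val (Subgroup.mem_center_iff.1 c.2.2 ⟨q, hq⟩)) with e | e
        · exact absurd (Subtype.ext (Subtype.ext e)) hc1
        · exact e ▸ c.2.1
      have hC1 : ∀ n ∈ N, n * z = z * n → n = 1 := by
        intro n hn hnz
        have hnQ : ∀ v ∈ N, v ∈ Q → v = 1 := fun v hv hvQ => by
          by_contra h; exact hzN (hmeet N hNn v hv hvQ h)
        have hnn := hCn (Subgroup.mem_centralizer_singleton_iff.2 hnz)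
        rcases hcases n (fun q hq => by
          have e := hnQ (q * n * q⁻¹ * n⁻¹) (N.mul_mem (hNn.conj_mem n hn q) (N.inv_mem hn))
            (by rw [show q * n * q⁻¹ * n⁻¹ = q * (n * q⁻¹ * n⁻¹) by group]
                exact Q.mul_mem hq ((Subgroup.mem_normalizer_iff.1 hnn _).1 (Q.inv_mem hq)))
          exact mul_inv_eq_iff_eq_mul.1 (mul_inv_eq_one.1 e)) with e | e
        · exact e
        · exact absurd (e ▸ hn) hzN
      have hinv := inverts N z hzz (fun n hn => hNn.conj_mem n hn z) hC1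
      have hpm : ∀ x ∈ U, (∀ n ∈ N, x * n * x⁻¹ = n⁻¹) ∨ (∀ n ∈ N, x * n * x⁻¹ = n) := by
        rw [hU]
        intro x hx
        induction hx using Subgroup.closure_induction with
        | mem x hx =>
          obtain ⟨k, -, rfl⟩ := hx
          left
          intro n hn
          have h0 := hinv (k⁻¹ * n * k) (by simpa using hNn.conj_mem n hn k⁻¹)
          calc k * z * k⁻¹ * n * (k * z * k⁻¹)⁻¹ = k * (z * (k⁻¹ * n * k) * z⁻¹) * k⁻¹ := by group
            _ = k * (k⁻¹ * n * k)⁻¹ * k⁻¹ := by rw [h0]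
            _ = n⁻¹ := by group
        | one => right; intro n _; simp
        | mul x y _ _ ihx ihy =>
          have e : ∀ n, x * y * n * (x * y)⁻¹ = x * (y * n * y⁻¹) * x⁻¹ := fun n => by group
          rcases ihx with hx | hx <;> rcases ihy with hy | hy
          · right; intro n hn; rw [e, hy n hn, hx _ (N.inv_mem hn), inv_inv]
          · left; intro n hn; rw [e, hy n hn, hx n hn]
          · left; intro n hn; rw [e, hy n hn, hx _ (N.inv_mem hn)]
          · right; intro n hn; rw [e, hy n hn, hx n hn]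
        | inv x _ ih =>
          rcases ih with h | h
          · left; intro n hn
            have e := h n⁻¹ (N.inv_mem hn)
            rw [inv_inv] at e
            conv_lhs => rw [← e]
            group
          · right; intro n hn
            conv_lhs => rw [← h n hn]
            group
      have hW : ∃ v ∈ Q, v ≠ 1 ∧ ∀ n ∈ N, v * n * v⁻¹ = n := by
        rcases hpm u huU with h | h
        · refine ⟨z * u, Q.mul_mem hzQ huQ, fun e => hunz ?_, fun n hn => ?_⟩
          · rw [eq_inv_of_mul_eq_one_right e]; exact inv_mem (Subgroup.mem_zpowers z)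
          · rw [show z * u * n * (z * u)⁻¹ = z * (u * n * u⁻¹) * z⁻¹ by group, h n hn,
              hinv _ (N.inv_mem hn), inv_inv]
        · exact ⟨u, huQ, fun e => hunz (e ▸ Subgroup.one_mem _), h⟩
      obtain ⟨v, hvQ, hv1, hv⟩ := hW
      have hzc := hmeet (Subgroup.centralizer (N : Set G)) inferInstance v
        (Subgroup.mem_centralizer_iff.2 fun n hn => (mul_inv_eq_iff_eq_mul.1 (hv n hn)).symm) hvQ hv1
      rw [eq_bot_iff]
      exact fun n hn => Subgroup.mem_bot.2 (hC1 n hn (Subgroup.mem_centralizer_iff.1 hzc n hn))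
  · -- no odd order subgroup normalised by `Q`
    intro M hM hQM
    have hcop : ∀ v ∈ M, ∀ (T : Subgroup G), IsPGroup 2 ↥T → v ∈ T → v = 1 := by
      intro v hv T hT hvT
      obtain ⟨k, hk⟩ := hT ⟨v, hvT⟩
      have hk' : v ^ 2 ^ k = 1 := congrArg Subtype.val hk
      exact orderOf_eq_one_iff.1 (Nat.Coprime.eq_one_of_dvd
        (Nat.Coprime.pow_right k (Nat.coprime_two_right.2
          (hM.of_dvd_nat (Subgroup.orderOf_dvd_natCard _ hv))))
        (orderOf_dvd_of_pow_eq_one hk'))
    have hconj : ∀ q ∈ Q, ∀ m ∈ M, q * m * q⁻¹ ∈ M := fun q hq m hm =>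
      (Subgroup.mem_normalizer_iff.1 (hQM hq) m).1 hm
    have hC1 : ∀ n ∈ M, n * z = z * n → n = 1 := by
      intro n hn hnz
      have hnn := hCn (Subgroup.mem_centralizer_singleton_iff.2 hnz)
      rcases hcases n (fun q hq => by
        have e := hcop (q * n * q⁻¹ * n⁻¹) (M.mul_mem (hconj q hq n hn) (M.inv_mem hn)) Q hQ.1.1
          (by rw [show q * n * q⁻¹ * n⁻¹ = q * (n * q⁻¹ * n⁻¹) by group]
              exact Q.mul_mem hq ((Subgroup.mem_normalizer_iff.1 hnn _).1 (Q.inv_mem hq)))
        exact mul_inv_eq_iff_eq_mul.1 (mul_inv_eq_one.1 e)) with e | e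
      · exact e
      · exact hcop n hn Q hQ.1.1 (e ▸ hzQ)
    have hCu : ∀ n ∈ M, n * u = u * n → n = 1 := by
      intro n hn hnu
      refine hC1 n hn ?_
      have e := hcop (n * z * n⁻¹ * z⁻¹)
        (by rw [show n * z * n⁻¹ * z⁻¹ = n * (z * n⁻¹ * z⁻¹) by group]
            exact M.mul_mem hn (hconj z hzQ _ (M.inv_mem hn)))
        R hR (R.mul_mem (hRn n hnu z hzR) (R.inv_mem hzR))
      exact mul_inv_eq_iff_eq_mul.1 (mul_inv_eq_one.1 e)
    have hCuz : ∀ n ∈ M, n * (u * z) = u * z * n → n = 1 := by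
      intro n hn hnu
      have h1 : q₀⁻¹ * n * q₀ ∈ M := by simpa using hconj _ (Q.inv_mem hq₀) n hn
      have h2 := hCu _ h1 (by
        rw [← hq₀u] at hnu
        calc q₀⁻¹ * n * q₀ * u = q₀⁻¹ * (n * (q₀ * u * q₀⁻¹)) * q₀ := by group
          _ = q₀⁻¹ * (q₀ * u * q₀⁻¹ * n) * q₀ := by rw [hnu]
          _ = u * (q₀⁻¹ * n * q₀) := by group)
      have := congrArg (fun x => q₀ * x * q₀⁻¹) h2
      simpa [mul_assoc] using this
    have hz' : z * u = u * z := hUc z hzU u huU
    have i1 := inverts M u (hU2 u huU) (fun m hm => hconj u huQ m hm) hCu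
    have i2 := inverts M (u * z) (hU2 _ (U.mul_mem huU hzU))
      (fun m hm => hconj _ (Q.mul_mem huQ hzQ) m hm) hCuz
    have i3 := inverts M z hzz (fun m hm => hconj z hzQ m hm) hC1
    rw [eq_bot_iff]
    intro n hn
    refine Subgroup.mem_bot.2 ?_
    have e : n⁻¹ = n := by
      have := i2 n hn
      rw [show u * z * n * (u * z)⁻¹ = u * (z * n * z⁻¹) * u⁻¹ by group, i3 n hn,
        i1 _ (M.inv_mem hn), inv_inv] at this
      exact this.symm
    refine orderOf_eq_one_iff.1 (Nat.Coprime.eq_one_of_dvd (k := orderOf n) (m := 2) ?_ ?_)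
    · exact Nat.coprime_two_right.2 (hM.of_dvd_nat (Subgroup.orderOf_dvd_natCard _ hn))
    · exact orderOf_dvd_of_pow_eq_one (by rw [sq]; exact inv_eq_iff_mul_eq_one.1 e)

end Cfsg.Agent.S5427
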