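import Cfsg.Statements.S5428
import Cfsg.Agent.LargeExtra.Quotient
import Cfsg.Agent.LargeExtra.CoprimeAct
import Cfsg.Agent.S5421

set_option autoImplicit false
open Cfsg

namespace Cfsg.Agent.S5428

open scoped commutatorElement

/-- Let z be an involution of the finite group G whose centralizer C has generalized Fitting subgroup Q extraspecial (as a 2-group), let A be a subgroup of C of odd order, and let R be the centralizer of A in Q; suppose R has order at least 32, the largest normal subgroup of odd order of the centralizer of the subgroup generated by A and R lies in A, the order of that centralizer is not divisible by 4, and g is an element of G with g z g⁻¹ in R but outside the centre Z of Q. Let M be the subgroup generated by A and the centralizer of A (A is normal in it). Then: the centralizer in M of the subgroup generated by R and A, joined with A, equals the subgroup generated by A and Z; the image of R in M/A is a large extraspecial 2-subgroup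 of M/A; and g z g⁻¹ is conjugate to z inside the subgroup generated by R and the centralizer of A in g Q g⁻¹. -/
theorem result {G : Type*} [Group G] [Finite G] (z : G) (hz : orderOf z = 2) (Q : Subgroup G) (hQC : Q ≤ Subgroup.centralizer ({z} : Set G)) (hF : (Cfsg.generalizedFittingSubgroup ↥(Subgroup.centralizer ({z} : Set G))).map (Subgroup.centralizer ({z} : Set G)).subtype = Q) (hQ : Cfsg.IsExtraspecial 2 ↥Q) (A : Subgroup G) (hA : A ≤ Subgroup.centralizer ({z} : Set G)) (hAodd : Odd (Nat.card ↥A)) (R : Subgroup G) (hR : R = Q ⊓ Subgroup.centralizer (A : Set G)) (hR32 : 32 ≤ Nat.card ↥R) (hO : (Cfsg.oddCore ↥(Subgroup.centralizer ((A ⊔ R : Subgroup G) : Set G))).map (Subgroup.centralizer ((A ⊔ R : Subgroup G) : Set G)).subtype ≤ A) (h4 : ¬ 4 ∣ Nat.card ↥(Subgroup.centralizer ((A ⊔ R : Subgroup G) : Set G))) (g : G) (hgR : g * z * g⁻¹ ∈ R) (hgZ : g * z * g⁻¹ ∉ ((Subgroup.center ↥Q).map Q.subtype)) (M : Subgroup G) (hM : M = Subgroup.centralizer (A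 : Set G) ⊔ A) [hn : (A.subgroupOf M).Normal] : (M ⊓ Subgroup.centralizer ((R ⊔ A : Subgroup G) : Set G)) ⊔ A = A ⊔ ((Subgroup.center ↥Q).map Q.subtype) ∧ Cfsg.IsLargeExtraspecial ((R.subgroupOf M).map (QuotientGroup.mk' (A.subgroupOf M))) ∧ ∃ x ∈ R ⊔ ((Q).map (MulAut.conj g).toMonoidHom ⊓ Subgroup.centralizer (A : Set G)), x * (g * z * g⁻¹) * x⁻¹ = z := by
  have : Fact (Nat.Prime 2) := ⟨Nat.prime_two⟩
  obtain ⟨hC, hZ, hN⟩ := LargeExtra.data_of_fitting hz hQC hF hQ
  obtain ⟨hn', S⟩ := LargeExtra.nsetting hQ hC hN hz hZ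
  have hFz := LargeExtra.conjFam_self hn' (Q := Q) (z := z)
  obtain ⟨x, hx⟩ : ∃ x, x = g * z * g⁻¹ := ⟨_, rfl⟩
  have hgC : g ∉ Subgroup.centralizer ({z} : Set G) := fun h => hgZ (by
    rw [hZ, Subgroup.mem_centralizer_singleton_iff.1 h, mul_inv_cancel_right]
    exact Subgroup.mem_zpowers z)
  have hRQ : R ≤ Q := by rw [hR]; exact inf_le_left
  have hc32 : 32 ≤ Nat.card ↥Q := hR32.trans (Subgroup.card_le_of_le hRQ)
  have hgQ : g * z * g⁻¹ ∈ Q := hRQ hgR
  have Pr := LargeExtra.pair_of_large hQ hC hN hZ hz hc32 hgC hgQ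
  rw [← hx] at Pr hgQ hgR hgZ ⊢
  have hAN : A ≤ Subgroup.normalizer (Q : Set G) := hA.trans hn'
  obtain ⟨hsup, hZA, hcommute⟩ := LargeExtra.coprime_decomposition hQ hAN hAodd
  rw [← hR] at hsup hcommute
  have hRA : R ≤ Subgroup.centralizer (A : Set G) := by rw [hR]; exact inf_le_right
  have hzQ : z ∈ Q := Pr.mem
  have hzR : z ∈ R := by rw [hR]; exact ⟨hzQ, hZA (hZ ▸ Subgroup.mem_zpowers z)⟩
  have hxA : x ∈ Subgroup.centralizer (A : Set G) := hRA hgR
  -- centre of `R`
  have hcenR : ∀ c ∈ R, (∀ r ∈ R, r * c = c * r) → c = 1 ∨ c = z := by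
    intro c hc h
    refine Pr.ccases (hRQ hc) fun q hq => ?_
    have : Q ≤ Subgroup.centralizer ({c} : Set G) := by
      rw [← hsup]
      exact sup_le (fun r hr => Subgroup.mem_centralizer_singleton_iff.2 (h r hr))
        (fun r hr => Subgroup.mem_centralizer_singleton_iff.2 (hcommute c hc r hr).symm)
    exact Subgroup.mem_centralizer_singleton_iff.1 (this hq)
  have hxz : ¬ (x = 1 ∨ x = z) := by rintro (e | e); exacts [Pr.x_ne e, Pr.ne e]
  obtain ⟨a, haR, hax⟩ : ∃ a ∈ R, a * x * a⁻¹ = x * z := by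
    by_contra hcon
    push Not at hcon
    exact hxz (hcenR x hgR fun r hr =>
      mul_inv_eq_iff_eq_mul.1 ((Pr.conj_x (hRQ hr)).resolve_right (hcon r hr)))
  -- a mover of `z` commuting with `A`
  obtain ⟨b, hb, hbz⟩ : ∃ b ∈ Q.map (MulAut.conj g).toMonoidHom ⊓ Subgroup.centralizer (A : Set G),
      b * z * b⁻¹ = x * z := by
    by_contra hcon
    push Not at hcon
    have hAN' : A ≤ Subgroup.normalizer ((Q.map (MulAut.conj g).toMonoidHom : Subgroup G) : Set G) :=
      fun c hc => Pr.nrm' (Subgroup.mem_centralizer_singleton_iff.2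
        (Subgroup.mem_centralizer_iff.1 hxA c hc))
    obtain ⟨hs, -, hcm⟩ := LargeExtra.coprime_decomposition Pr.es' hAN' hAodd
    have hzmem : z ∈ Q.map (MulAut.conj g).toMonoidHom ⊓ Subgroup.centralizer (A : Set G) :=
      ⟨Pr.memz, hZA (hZ ▸ Subgroup.mem_zpowers z)⟩
    have hle : Q.map (MulAut.conj g).toMonoidHom ≤ Subgroup.centralizer ({z} : Set G) := by
      conv_lhs => rw [← hs]
      refine sup_le (fun r hr => Subgroup.mem_centralizer_singleton_iff.2 ?_)
        (fun r hr => Subgroup.mem_centralizer_singleton_iff.2 (hcm z hzmem r hr).symm)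
      exact mul_inv_eq_iff_eq_mul.1 ((Pr.conj_z hr.1).resolve_right (hcon r hr))
    rcases LargeExtra.center_cases Pr.es' Pr.x_ne Pr.mem'
      (fun _ hq => Subgroup.mem_centralizer_singleton_iff.1 (Pr.le' hq)) Pr.memz
      (fun q hq => Subgroup.mem_centralizer_singleton_iff.1 (hle hq)) with e | e
    · exact Pr.z_ne e
    · exact Pr.ne e.symm
  have hbx : b * x * b⁻¹ = x := by
    rw [Subgroup.mem_centralizer_singleton_iff.1 (Pr.le' hb.1), mul_inv_cancel_right]
  -- `K = C(A) ∩ C(R)` lies in `A Z`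
  set K := Subgroup.centralizer ((A ⊔ R : Subgroup G) : Set G) with hK
  have hmemK : ∀ c, c ∈ K ↔ c ∈ Subgroup.centralizer (A : Set G) ∧
      c ∈ Subgroup.centralizer (R : Set G) := by
    intro c
    refine ⟨fun h => ⟨Subgroup.centralizer_le (SetLike.coe_subset_coe.2 le_sup_left) h,
      Subgroup.centralizer_le (SetLike.coe_subset_coe.2 le_sup_right) h⟩, ?_⟩
    rintro ⟨h1, h2⟩
    have : A ⊔ R ≤ Subgroup.centralizer ({c} : Set G) := sup_le
      (fun r hr => Subgroup.mem_centralizer_singleton_iff.2 (Subgroup.mem_centralizer_iff.1 h1 r hr))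
      (fun r hr => Subgroup.mem_centralizer_singleton_iff.2 (Subgroup.mem_centralizer_iff.1 h2 r hr))
    exact Subgroup.mem_centralizer_iff.2 fun r hr =>
      Subgroup.mem_centralizer_singleton_iff.1 (this hr)
  have hzK : z ∈ K := (hmemK z).2 ⟨hRA hzR, Subgroup.mem_centralizer_iff.2 fun r hr =>
    Subgroup.mem_centralizer_singleton_iff.1 (hQC (hRQ hr))⟩
  have hKz : ∀ c ∈ K, Commute c z := fun c hc =>
    (Subgroup.mem_centralizer_iff.1 ((hmemK c).1 hc).2 z hzR).symm
  have hKle : K ≤ A ⊔ Subgroup.zpowers z := by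
    let z' : ↥K := ⟨z, hzK⟩
    have hz' : orderOf z' = 2 := by rw [← Subgroup.orderOf_coe]; exact hz
    have hzc : Subgroup.zpowers z' ≤ Subgroup.center ↥K :=
      Subgroup.zpowers_le.2 (Subgroup.mem_center_iff.2 fun c => Subtype.ext (hKz c c.2).eq)
    obtain ⟨P, hP⟩ := (IsPGroup.of_card (n := 1) (show Nat.card ↥(Subgroup.zpowers z') = 2 ^ 1 by
      rw [Nat.card_zpowers, hz', pow_one])).exists_le_sylow
    have hPz : (P : Subgroup ↥K) = Subgroup.zpowers z' := by
      refine (Subgroup.eq_of_le_of_card_ge hP ?_).symm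
      obtain ⟨n, hn'⟩ := IsPGroup.iff_card.1 P.2
      rw [hn', Nat.card_zpowers, hz']
      by_contra hlt
      have hn2 : 2 ≤ n := by
        by_contra hn2
        interval_cases n <;> simp at hlt
      exact h4 ((pow_dvd_pow 2 hn2).trans (hn' ▸ (P : Subgroup ↥K).card_subgroup_dvd_card))
    have hPc : Subgroup.normalizer ((P : Subgroup ↥K) : Set ↥K) ≤
        Subgroup.centralizer ((P : Subgroup ↥K) : Set ↥K) := fun c _ =>
      Subgroup.mem_centralizer_iff.2 fun p hp =>
        (Subgroup.mem_center_iff.1 ((hPz.le.trans hzc) hp) c).symm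
    let L := (MonoidHom.transferSylow P hPc).ker
    have hcomp := MonoidHom.ker_transferSylow_isComplement' P hPc
    have hLO : L ≤ Cfsg.oddCore ↥K := by
      refine le_sSup ⟨inferInstanceAs (MonoidHom.transferSylow P hPc).ker.Normal, ?_⟩
      exact ((Nat.prime_two.coprime_iff_not_dvd).2
        (MonoidHom.not_dvd_card_ker_transferSylow P hPc)).symm
    intro c hc
    have htop : L ⊔ (P : Subgroup ↥K) = ⊤ := hcomp.sup_eq_top
    have hcL : (⟨c, hc⟩ : ↥K) ∈ L ⊔ (P : Subgroup ↥K) := by rw [htop]; trivial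
    obtain ⟨l, hl, p, hp, hlp⟩ := Subgroup.mem_sup_of_normal_left.1 hcL
    have e : (l : G) * (p : G) = c := congrArg Subtype.val hlp
    rw [← e]
    refine mul_mem (Subgroup.mem_sup_left (hO ⟨l, hLO hl, rfl⟩)) (Subgroup.mem_sup_right ?_)
    rw [hPz] at hp
    obtain ⟨k, hk⟩ := Subgroup.mem_zpowers_iff.1 hp
    exact ⟨k, by rw [← hk]; exact (map_zpow K.subtype z' k).symm⟩
  have hMA : A ≤ M := hM ▸ le_sup_right
  have hCM : Subgroup.centralizer (A : Set G) ≤ M := hM ▸ le_sup_left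
  refine ⟨?_, ?_, ⟨b * a, mul_mem (Subgroup.mem_sup_right hb) (Subgroup.mem_sup_left haR), ?_⟩⟩
  rotate_left 2
  · calc b * a * x * (b * a)⁻¹ = (b * x * b⁻¹) * (b * z * b⁻¹) := by
          rw [show b * a * x * (b * a)⁻¹ = b * (a * x * a⁻¹) * b⁻¹ by group, hax]; group
      _ = z := by rw [hbx, hbz, ← mul_assoc, Pr.xx, one_mul]
  · rw [hZ, sup_comm R A]
    refine le_antisymm (sup_le (inf_le_right.trans hKle) le_sup_left)
      (sup_le le_sup_right (Subgroup.zpowers_le.2 (Subgroup.mem_sup_left ⟨hCM (hRA hzR), hzK⟩)))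
  -- the image of `R` in `M / A`
  set T := A.subgroupOf M with hT
  let π := QuotientGroup.mk' T
  have hπ : ∀ u v : ↥M, π u = π v → (u : G)⁻¹ * (v : G) ∈ A := fun u v h =>
    Subgroup.mem_subgroupOf.1 (QuotientGroup.eq.1 h)
  have hRM : R ≤ M := hRA.trans hCM
  have hdis : ∀ c, c ∈ A → c ∈ Q → c = 1 := by
    intro c h1 h2
    have := LargeExtra.inf_eq_bot_of_odd hAodd hQ.1.1
    exact Subgroup.mem_bot.1 (this ▸ (⟨h1, h2⟩ : c ∈ A ⊓ Q))
  set Rb := (R.subgroupOf M).map π with hRb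
  have hmem : ∀ (r : ↥M), (r : G) ∈ R → π r ∈ Rb := fun r hr => ⟨r, hr, rfl⟩
  have hinj : ∀ u v : ↥M, (u : G) ∈ R → (v : G) ∈ R → π u = π v → u = v := fun u v hu hv h =>
    Subtype.ext (inv_mul_eq_one.1 (hdis _ (hπ u v h) (Q.mul_mem (Q.inv_mem (hRQ hu)) (hRQ hv))))
  let z' : ↥M := ⟨z, hRM hzR⟩
  let x' : ↥M := ⟨x, hRM hgR⟩
  -- lifting to `C(A)`
  have hlift : ∀ m : ↥M, ∃ c : ↥M, (c : G) ∈ Subgroup.centralizer (A : Set G) ∧ π c = π m := by
    intro m
    have hm : (m : G) ∈ Subgroup.centralizer (A : Set G) ⊔ A := hM ▸ m.2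
    have hnA : Subgroup.centralizer (A : Set G) ≤ Subgroup.normalizer (A : Set G) :=
      Subgroup.centralizer_le_normalizer _
    obtain ⟨a', ha', c, hc, hca⟩ := (Cfsg.Agent.Coprime.mem_sup_of_le_normalizer hnA).1
      (by rwa [sup_comm] at hm)
    refine ⟨⟨c, hCM hc⟩, hc, QuotientGroup.eq.2 (Subgroup.mem_subgroupOf.2 ?_)⟩
    show c⁻¹ * (m : G) ∈ A
    rw [← hca, Subgroup.mem_centralizer_iff.1 hc a' ha', inv_mul_cancel_left]; exact ha'
  -- elements of `C(A)` commuting with a 2-element modulo `A` commute with it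
  have hup : ∀ c : ↥M, (c : G) ∈ Subgroup.centralizer (A : Set G) → ∀ r : ↥M,
      (r : G) ∈ Subgroup.centralizer (A : Set G) → (∃ n : ℕ, (r : G) ^ 2 ^ n = 1) →
      π r * π c = π c * π r → Commute (c : G) r := by
    rintro c hc r hr ⟨n, hn⟩ h
    rw [← map_mul, ← map_mul] at h
    have h1 : ((r : G) * c)⁻¹ * ((c : G) * r) ∈ A := hπ _ _ h
    set α := ((r : G) * c)⁻¹ * ((c : G) * r)
    have hcr : Commute (r : G) α := (Subgroup.mem_centralizer_iff.1 hr α h1).symm
    have hca : (c : G) * α = α * c := (Subgroup.mem_centralizer_iff.1 hc α h1).symm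
    have e : (c : G) * r * (c : G)⁻¹ = r * α := by
      calc (c : G) * r * (c : G)⁻¹ = (r : G) * c * α * (c : G)⁻¹ := by
            rw [show (r : G) * c * α = c * r from mul_inv_cancel_left _ _]
        _ = r * α := by rw [mul_assoc (r : G), hca, ← mul_assoc, mul_inv_cancel_right]
    have h2 : ((c : G) * r * (c : G)⁻¹) ^ 2 ^ n = 1 := by rw [conj_pow, hn]; group
    rw [e, hcr.mul_pow, hn, one_mul] at h2
    have hodd : (orderOf α).Coprime 2 :=
      (Nat.coprime_two_right.2 (hAodd.of_dvd_nat (Subgroup.orderOf_dvd_natCard _ h1)))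
    have hα : orderOf α = 1 :=
      Nat.Coprime.eq_one_of_dvd (Nat.Coprime.pow_right n hodd) (orderOf_dvd_of_pow_eq_one h2)
    rw [orderOf_eq_one_iff] at hα
    rw [hα, mul_one] at e
    exact mul_inv_eq_iff_eq_mul.1 e
  have hR2 : ∀ r, r ∈ R → ∃ n : ℕ, r ^ 2 ^ n = 1 := fun r hr => by
    obtain ⟨n, hn⟩ := hQ.1.1 ⟨r, hRQ hr⟩
    exact ⟨n, congrArg Subtype.val hn⟩
  have hcentral : ∀ m : ↥M, (∀ p ∈ Rb, p * π m = π m * p) →
      π m ∈ Subgroup.zpowers (π z') := by
    intro m hm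
    obtain ⟨c, hc, hcm⟩ := hlift m
    rw [← hcm]
    have hcK : (c : G) ∈ K := (hmemK _).2 ⟨hc, Subgroup.mem_centralizer_iff.2 fun r hr =>
      (hup c hc ⟨r, hRM hr⟩ (hRA hr) (hR2 r hr) (by rw [hcm]; exact hm _ (hmem _ hr))).symm⟩
    have hnorm : Subgroup.zpowers z ≤ Subgroup.normalizer (A : Set G) :=
      Subgroup.zpowers_le.2 (Subgroup.centralizer_le_normalizer _ (hRA hzR))
    obtain ⟨u, hu, a', ha', hau⟩ := (Cfsg.Agent.Coprime.mem_sup_of_le_normalizer hnorm).1 (hKle hcK)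
    obtain ⟨k, rfl⟩ := Subgroup.mem_zpowers_iff.1 ha'
    refine ⟨k, ?_⟩
    show π z' ^ k = π c
    rw [← map_zpow]
    refine QuotientGroup.eq.2 (Subgroup.mem_subgroupOf.2 ?_)
    show ((z' ^ k : ↥M) : G)⁻¹ * (c : G) ∈ A
    rw [← hau, show ((z' ^ k : ↥M) : G) = z ^ k from map_zpow M.subtype z' k,
      Subgroup.mem_centralizer_iff.1 (Subgroup.zpow_mem _ (hRA hzR) k) u hu, inv_mul_cancel_left]
    exact hu
  have hz2' : π z' * π z' = 1 := by
    rw [← map_mul, show z' * z' = 1 from Subtype.ext Pr.zz, map_one]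
  have hzcases : ∀ u, u ∈ Subgroup.zpowers (π z') → u = 1 ∨ u = π z' := by
    intro u hu
    obtain ⟨k, hk⟩ := Subgroup.mem_zpowers_iff.1 hu
    rcases Int.even_or_odd' k with ⟨j, rfl | rfl⟩
    · left; rw [← hk, zpow_mul, zpow_two, hz2', one_zpow]
    · right; rw [← hk, zpow_add_one, zpow_mul, zpow_two, hz2', one_zpow, one_mul]
  have hzcen : ∀ p ∈ Rb, p * π z' = π z' * p := by
    rintro _ ⟨p, hp, rfl⟩
    rw [← map_mul, ← map_mul]
    exact congrArg π (Subtype.ext (Subgroup.mem_centralizer_singleton_iff.1 (hQC (hRQ hp))))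
  have hne1 : π z' ≠ 1 := fun h => Pr.z_ne
    (congrArg Subtype.val (hinj z' 1 hzR R.one_mem (h.trans (map_one π).symm)))
  have hES : Cfsg.IsExtraspecial 2 ↥Rb := by
    refine LargeExtra.extraspecial_of
      ((IsPGroup.comap_of_injective (hQ.1.1.to_le hRQ) M.subtype M.subtype_injective).map π)
      (w := ⟨π z', hmem _ hzR⟩) (fun h => hne1 (congrArg Subtype.val h)) (Subtype.ext hz2')
      (Subgroup.mem_center_iff.2 fun p => Subtype.ext (hzcen p p.2)) ?_ ?_ ?_
      ⟨⟨π ⟨a, hRM haR⟩, hmem _ haR⟩, ⟨π x', hmem _ hgR⟩, ?_⟩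
    · rintro ⟨_, ⟨c, hc, rfl⟩⟩ hcc
      rcases hzcases _ (hcentral c fun p hp =>
        congrArg Subtype.val (Subgroup.mem_center_iff.1 hcc ⟨p, hp⟩)) with e | e
      · exact Or.inl (Subtype.ext e)
      · exact Or.inr (Subtype.ext e)
    · rintro ⟨_, ⟨u, hu, rfl⟩⟩ ⟨_, ⟨v, hv, rfl⟩⟩
      rcases Pr.comm_cases (hRQ hu) (hRQ hv) with e | e
      · refine Or.inl (Subtype.ext ?_)
        show ⁅π u, π v⁆ = 1
        rw [← map_commutatorElement, show ⁅u, v⁆ = 1 from Subtype.ext e, map_one]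
      · refine Or.inr (Subtype.ext ?_)
        show ⁅π u, π v⁆ = π z'
        rw [← map_commutatorElement]
        exact congrArg π (Subtype.ext e)
    · rintro ⟨_, ⟨u, hu, rfl⟩⟩
      rcases Pr.sq_cases (hRQ hu) with e | e
      · refine Or.inl (Subtype.ext ?_)
        show π u * π u = 1
        rw [← map_mul, show u * u = 1 from Subtype.ext e, map_one]
      · refine Or.inr (Subtype.ext ?_)
        show π u * π u = π z'
        rw [← map_mul]
        exact congrArg π (Subtype.ext e)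
    · intro h
      have h1 : π (⟨a, hRM haR⟩ * x') = π (x' * ⟨a, hRM haR⟩) := by
        rw [map_mul, map_mul]; exact congrArg Subtype.val h
      have e : a * x = x * a :=
        congrArg Subtype.val (hinj _ _ (R.mul_mem haR hgR) (R.mul_mem hgR haR) h1)
      rw [e, mul_inv_cancel_right, left_eq_mul] at hax
      exact Pr.z_ne hax
  have hcenR' : (Subgroup.center ↥Rb).map Rb.subtype = Subgroup.zpowers (π z') := by
    refine le_antisymm ?_ (Subgroup.zpowers_le.2 ⟨⟨π z', hmem _ hzR⟩,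
      Subgroup.mem_center_iff.2 fun p => Subtype.ext (hzcen p p.2), rfl⟩)
    rintro _ ⟨⟨_, ⟨c, hc, rfl⟩⟩, hcc, rfl⟩
    exact hcentral c fun p hp => congrArg Subtype.val (Subgroup.mem_center_iff.1 hcc ⟨p, hp⟩)
  have hxo : orderOf (π x') = 2 := by
    refine orderOf_eq_prime ?_ fun h => ?_
    · rw [sq, ← map_mul, show x' * x' = 1 from Subtype.ext Pr.xx, map_one]
    · exact Pr.x_ne (congrArg Subtype.val (hinj x' 1 hgR R.one_mem (h.trans (map_one π).symm)))
  refine S5421.result Rb hES ?_ ?_ (π x') (hmem _ hgR) ?_ hxo ?_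
  · refine le_antisymm (fun c hc => ?_) ?_
    · obtain ⟨c, rfl⟩ := QuotientGroup.mk'_surjective T c
      rw [hcenR']
      exact hcentral c fun p hp => Subgroup.mem_centralizer_iff.1 hc p hp
    · rw [hcenR', Subgroup.zpowers_le]
      exact Subgroup.mem_centralizer_iff.2 hzcen
  · intro m hm
    obtain ⟨m, rfl⟩ := QuotientGroup.mk'_surjective T m
    obtain ⟨c, hc, hcm⟩ := hlift m
    show π m ∈ _
    rw [← hcm]
    have h1 : π z' * π c = π c * π z' := by
      rw [hcm]; exact Subgroup.mem_centralizer_iff.1 hm _ (hcenR' ▸ Subgroup.mem_zpowers _)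
    have hcz := hup c hc z' (hRA hzR) ⟨1, by rw [pow_one, sq]; exact Pr.zz⟩ h1
    have hcn : ∀ (d : ↥M), (d : G) ∈ Subgroup.centralizer (A : Set G) → Commute (d : G) z →
        ∀ p ∈ Rb, π d * p * (π d)⁻¹ ∈ Rb := by
      rintro d hdA hd _ ⟨p, hp, rfl⟩
      rw [← map_inv, ← map_mul, ← map_mul]
      refine hmem _ ?_
      show (d : G) * p * (d : G)⁻¹ ∈ R
      rw [hR]
      exact ⟨(Subgroup.mem_normalizer_iff.1
        (hn' (Subgroup.mem_centralizer_singleton_iff.2 hd.eq)) _).1 (hRQ hp),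
        mul_mem (mul_mem hdA (hRA hp)) (Subgroup.inv_mem _ hdA)⟩
    rw [Subgroup.mem_normalizer_iff]
    intro p
    refine ⟨hcn c hc hcz p, fun hp => ?_⟩
    have := hcn c⁻¹ (Subgroup.inv_mem _ hc) hcz.inv_left _ hp
    rw [map_inv] at this
    rwa [show (π c)⁻¹ * (π c * p * (π c)⁻¹) * (π c)⁻¹⁻¹ = p by group] at this
  · rw [hcenR']
    intro h
    rcases hzcases _ h with e | e
    · rw [e, orderOf_one] at hxo; omega
    · exact Pr.ne (congrArg Subtype.val (hinj x' z' hgR hzR e))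
  · rw [hcenR', Subgroup.zpowers_le]
    -- `z` lies in the 2-core of the centraliser of the image of `x`
    set D := Subgroup.centralizer ({π x'} : Set (↥M ⧸ T))
    set W := Q.map (MulAut.conj g).toMonoidHom ⊓ Subgroup.centralizer (A : Set G)
    set B := (W.subgroupOf M).map π
    have hBD : B ≤ D := by
      rintro _ ⟨q, hq, rfl⟩
      refine Subgroup.mem_centralizer_singleton_iff.2 ?_
      rw [← map_mul, ← map_mul]
      exact congrArg π (Subtype.ext (Subgroup.mem_centralizer_singleton_iff.1 (Pr.le' hq.1)))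
    have hn2 : (B.subgroupOf D).Normal := by
      refine ⟨fun u hu d => ?_⟩
      obtain ⟨q, hq, hqu⟩ := hu
      obtain ⟨m, hm⟩ := QuotientGroup.mk'_surjective T (d : ↥M ⧸ T)
      obtain ⟨c, hc, hcm⟩ := hlift m
      have hd : π c = (d : ↥M ⧸ T) := hcm.trans hm
      have hdx : (d : ↥M ⧸ T) * π x' = π x' * (d : ↥M ⧸ T) :=
        Subgroup.mem_centralizer_singleton_iff.1 d.2
      have hcx := hup c hc x' (hRA hgR) (hR2 x hgR) (by rw [hd]; exact hdx.symm)
      refine ⟨c * q * c⁻¹, ⟨?_, mul_mem (mul_mem hc hq.2) (Subgroup.inv_mem _ hc)⟩, ?_⟩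
      · exact (Subgroup.mem_normalizer_iff.1
          (Pr.nrm' (Subgroup.mem_centralizer_singleton_iff.2 hcx.eq)) _).1 hq.1
      · show π (c * q * c⁻¹) = (d : ↥M ⧸ T) * _ * (d : ↥M ⧸ T)⁻¹
        rw [map_mul, map_mul, map_inv, hqu, hd]
        rfl
    have hp : IsPGroup 2 ↥(B.subgroupOf D) :=
      IsPGroup.comap_of_injective
        ((IsPGroup.comap_of_injective (Pr.es'.1.1.to_le inf_le_left) M.subtype
          M.subtype_injective).map π) D.subtype D.subtype_injective
    have hzB : π z' ∈ B := ⟨z', ⟨Pr.memz, hRA hzR⟩, rfl⟩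
    exact ⟨⟨π z', hBD hzB⟩, Core.le_pCore hp hzB, rfl⟩

end Cfsg.Agent.S5428
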