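import Cfsg.Statements.S5429
import Cfsg.Agent.LargeExtra.Quotient
import Cfsg.Agent.S5421

set_option autoImplicit false
open Cfsg

namespace Cfsg.Agent.S5429

open scoped commutatorElement

/-- Let z be an involution of the finite group G with centralizer C whose generalized Fitting subgroup Q is extraspecial of width at least 3 (order 2^(2w+1), w ≥ 3); let g be an element of G with g z g⁻¹ in Q but outside the centre Z of Q, and t an involution lying in both Q and g Q g⁻¹ that is not conjugate to z; write P for the centralizer of t in Q and suppose that the elements of C acting trivially by conjugation on P modulo the subgroup generated by t and z are exactly the elements of Q. Then the image of P in the centralizer of t modulo the subgroup generated by t is a large extraspecial 2-subgroup there, and g z g⁻¹ is conjugate to z inside the subgroup generated by P and the centralizer of t in g Q g⁻¹. -/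
theorem result {G : Type*} [Group G] [Finite G] (z : G) (hz : orderOf z = 2) (Q : Subgroup G) (hQC : Q ≤ Subgroup.centralizer ({z} : Set G)) (hF : (Cfsg.generalizedFittingSubgroup ↥(Subgroup.centralizer ({z} : Set G))).map (Subgroup.centralizer ({z} : Set G)).subtype = Q) (hQ : Cfsg.IsExtraspecial 2 ↥Q) (w : ℕ) (hw : 3 ≤ w) (hcard : Nat.card ↥Q = 2 ^ (2 * w + 1)) (g : G) (hgQ : g * z * g⁻¹ ∈ Q) (hgZ : g * z * g⁻¹ ∉ ((Subgroup.center ↥Q).map Q.subtype)) (t : G) (ht : orderOf t = 2) (htQ : t ∈ Q ⊓ (Q).map (MulAut.conj g).toMonoidHom) (htz : ¬ IsConj z t) (P : Subgroup G) (hP : P = Q ⊓ Subgroup.centralizer ({t} : Set G)) (hCP : ∀ c ∈ Subgroup.centralizer ({z} : Set G), (∀ x ∈ P, ∃ y ∈ Subgroup.closure ({t, z} : Set G), c * x * c⁻¹ = x * y) ↔ c ∈ Q) [hn : ((Subgroup.zpowers t).subgroupOf (Subgroup.centralizer ({t} : Set G))).Normal] : Cfsg.IsLargeExtraspecial ((P.subgroupOf (Subgroup.centralizer ({t} : Set G))).map (QuotientGroup.mk' ((Subgroup.zpowers t).subgroupOf (Subgroup.centralizer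 ({t} : Set G))))) ∧ ∃ x ∈ P ⊔ ((Q).map (MulAut.conj g).toMonoidHom ⊓ Subgroup.centralizer ({t} : Set G)), x * (g * z * g⁻¹) * x⁻¹ = z := by
  obtain ⟨hC, hZ, hN⟩ := LargeExtra.data_of_fitting hz hQC hF hQ
  obtain ⟨hn', S⟩ := LargeExtra.nsetting hQ hC hN hz hZ
  have hFz := LargeExtra.conjFam_self hn' (Q := Q) (z := z)
  obtain ⟨x, hx⟩ : ∃ x, x = g * z * g⁻¹ := ⟨_, rfl⟩
  have hgC : g ∉ Subgroup.centralizer ({z} : Set G) := fun h => hgZ (by
    rw [hZ, Subgroup.mem_centralizer_singleton_iff.1 h, mul_inv_cancel_right]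
    exact Subgroup.mem_zpowers z)
  have hc32 : 32 ≤ Nat.card ↥Q := by
    rw [hcard]; exact (show 32 = 2 ^ 5 from rfl) ▸ Nat.pow_le_pow_right (by norm_num) (by omega)
  have Pr := LargeExtra.pair_of_large hQ hC hN hZ hz hc32 hgC hgQ
  rw [← hx] at Pr hgQ ⊢
  obtain ⟨htQ, htQ'⟩ := htQ
  have hconjz : ∀ u : G, u * z * u⁻¹ ≠ t := fun u h => htz (isConj_iff.2 ⟨u, h⟩)
  have ht1 : t ≠ 1 := fun h => by rw [h, orderOf_one] at ht; omega
  have htt : t * t = 1 := by rw [← sq, ← ht, pow_orderOf_eq_one]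
  have htnz : t ≠ z := fun h => hconjz 1 (by rw [h]; group)
  have htnx : t ≠ x := fun h => hconjz g (by rw [h, hx])
  have htz' : Commute t z := S.comm_z (hFz.symm ▸ htQ)
  have htx : Commute t x := Subgroup.mem_centralizer_singleton_iff.1 (Pr.le' htQ')
  -- movers of `t`
  obtain ⟨y, hy, hyt⟩ := S.exists_mover (hFz.symm ▸ htQ) ht1 htnz
  obtain ⟨y', hy'⟩ : ∃ y', y' * t * y'⁻¹ = t * x := by
    obtain ⟨q, hq, hqt⟩ := htQ'
    have hqt' : g * q * g⁻¹ = t := hqt
    obtain ⟨r, -, hr⟩ := S.exists_mover (x := q) (hFz.symm ▸ hq)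
      (fun h => ht1 (by rw [← hqt', h]; group))
      (fun h => htnx (by rw [← hqt', h, hx]))
    refine ⟨g * r * g⁻¹, ?_⟩
    rw [← hqt', hx]
    calc g * r * g⁻¹ * (g * q * g⁻¹) * (g * r * g⁻¹)⁻¹ = g * (r * q * r⁻¹) * g⁻¹ := by group
      _ = _ := by rw [hr]; group
  have htzne : ∀ u : G, u * z * u⁻¹ ≠ z * t := fun u h => hconjz (y⁻¹ * u) (by
    rw [show y⁻¹ * u * z * (y⁻¹ * u)⁻¹ = y⁻¹ * (u * z * u⁻¹) * y by group, h, ← htz'.eq, ← hyt]
    group)
  have htxne : ∀ u : G, u * z * u⁻¹ ≠ x * t := fun u h => hconjz (y'⁻¹ * u) (by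
    rw [show y'⁻¹ * u * z * (y'⁻¹ * u)⁻¹ = y'⁻¹ * (u * z * u⁻¹) * y' by group, h, ← htx.eq, ← hy']
    group)
  have hxQ : x ∈ Q := hgQ
  have hzQ : z ∈ Q := Pr.mem
  -- membership in `⟨z, t⟩`
  let H : Subgroup G := Subgroup.closure {z, t}
  have hH : ∀ c ∈ H, c = 1 ∨ c = z ∨ c = t ∨ c = z * t := by
    intro c hc
    have hzz := S.sq_one
    induction hc using Subgroup.closure_induction with
    | mem c hc =>
      rcases hc with rfl | rfl
      · exact Or.inr (Or.inl rfl)
      · exact Or.inr (Or.inr (Or.inl rfl))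
    | one => exact Or.inl rfl
    | mul a b _ _ ha hb =>
      have e1 : t * z = z * t := htz'.eq
      have e2 : z * t * (z * t) = 1 := by
        rw [mul_assoc, ← mul_assoc t, e1, mul_assoc, htt, mul_one, hzz]
      have e3 : z * t * t = z := by rw [mul_assoc, htt, mul_one]
      have e4 : t * (z * t) = z := by rw [← mul_assoc, e1, e3]
      have e5 : z * (z * t) = t := by rw [← mul_assoc, hzz, one_mul]
      have e6 : z * t * z = t := by rw [mul_assoc, e1, e5]
      rcases ha with rfl | rfl | rfl | rfl <;> rcases hb with rfl | rfl | rfl | rfl <;>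
        simp [e1, e2, e3, e4, e5, e6, hzz, htt]
    | inv a _ ha =>
      rcases ha with rfl | rfl | rfl | rfl
      · exact Or.inl inv_one
      · exact Or.inr (Or.inl (inv_eq_of_mul_eq_one_right hzz))
      · exact Or.inr (Or.inr (Or.inl (inv_eq_of_mul_eq_one_right htt)))
      · exact Or.inr (Or.inr (Or.inr (by
          rw [mul_inv_rev, inv_eq_of_mul_eq_one_right hzz, inv_eq_of_mul_eq_one_right htt, htz'.eq])))
  have hHQ : H ≤ Q := (Subgroup.closure_le _).2 (by rintro c (rfl | rfl); exacts [hzQ, htQ])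
  have hzH : z ∈ H := Subgroup.subset_closure (Or.inl rfl)
  have htH : t ∈ H := Subgroup.subset_closure (Or.inr rfl)
  have hxH : x ∉ H := by
    intro h
    rcases hH x h with e | e | e | e
    · exact Pr.x_ne e
    · exact Pr.ne e
    · exact htnx e.symm
    · exact htzne g (by rw [← hx, e])
  obtain ⟨a, haF, haH, hax⟩ := S.exists_mover_fixing (hFz.symm ▸ hHQ) hzH (hFz.symm ▸ hxQ) hxH
  have haP : a ∈ P := by
    rw [hP]
    exact ⟨hFz ▸ haF, Subgroup.mem_centralizer_singleton_iff.2 (haH t htH).eq⟩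
  have hxP : x ∈ P := by
    rw [hP]; exact ⟨hxQ, Subgroup.mem_centralizer_singleton_iff.2 htx.symm.eq⟩
  refine ⟨?_, ?_⟩
  swap
  · -- conjugating `x` to `z`
    obtain ⟨q, hq, hqt⟩ := htQ'
    have hqt' : g * q * g⁻¹ = t := hqt
    obtain ⟨w', hw', hwz'⟩ := Pr.memz
    have hwz'' : g * w' * g⁻¹ = z := hwz'
    let H' : Subgroup G := Subgroup.closure {z, q}
    have hqz : Commute q z := S.comm_z (hFz.symm ▸ hq)
    have hH' : ∀ c ∈ H', g * c * g⁻¹ = 1 ∨ g * c * g⁻¹ = x ∨ g * c * g⁻¹ = t ∨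
        g * c * g⁻¹ = x * t := by
      intro c hc
      induction hc using Subgroup.closure_induction with
      | mem c hc =>
        rcases hc with rfl | rfl
        · exact Or.inr (Or.inl hx.symm)
        · exact Or.inr (Or.inr (Or.inl hqt'))
      | one => exact Or.inl (by group)
      | mul a b _ _ ha hb =>
        have hxx := Pr.xx
        have e1 : t * x = x * t := htx.eq
        have e2 : x * t * (x * t) = 1 := by
          rw [mul_assoc, ← mul_assoc t, e1, mul_assoc, htt, mul_one, hxx]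
        have e3 : x * t * t = x := by rw [mul_assoc, htt, mul_one]
        have e4 : t * (x * t) = x := by rw [← mul_assoc, e1, e3]
        have e5 : x * (x * t) = t := by rw [← mul_assoc, hxx, one_mul]
        have e6 : x * t * x = t := by rw [mul_assoc, e1, e5]
        rw [show g * (a * b) * g⁻¹ = g * a * g⁻¹ * (g * b * g⁻¹) by group]
        rcases ha with ha | ha | ha | ha <;> rcases hb with hb | hb | hb | hb <;> rw [ha, hb] <;>
          simp [e1, e2, e3, e4, e5, e6, hxx, htt]
      | inv a _ ha =>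
        rw [show g * a⁻¹ * g⁻¹ = (g * a * g⁻¹)⁻¹ by group]
        rcases ha with ha | ha | ha | ha <;> rw [ha]
        · exact Or.inl inv_one
        · exact Or.inr (Or.inl (inv_eq_of_mul_eq_one_right Pr.xx))
        · exact Or.inr (Or.inr (Or.inl (inv_eq_of_mul_eq_one_right htt)))
        · exact Or.inr (Or.inr (Or.inr (by
            rw [mul_inv_rev, inv_eq_of_mul_eq_one_right Pr.xx, inv_eq_of_mul_eq_one_right htt,
              htx.eq])))
    have hwH : w' ∉ H' := by
      intro h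
      have := hH' w' h
      rw [hwz''] at this
      rcases this with e | e | e | e
      · exact Pr.z_ne e
      · exact Pr.ne e.symm
      · exact htnz e.symm
      · exact htxne 1 (by rw [← e]; group)
    obtain ⟨r, hr, hrH, hrw⟩ := S.exists_mover_fixing (H := H')
      ((Subgroup.closure_le _).2 (by
        rintro c (rfl | rfl)
        exacts [S.mem_self, hFz.symm ▸ hq]))
      (Subgroup.subset_closure (Or.inl rfl)) (hFz.symm ▸ hw') hwH
    refine ⟨g * r * g⁻¹ * a, mul_mem (Subgroup.mem_sup_right ⟨⟨r, hFz ▸ hr, rfl⟩, ?_⟩)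
      (Subgroup.mem_sup_left haP), ?_⟩
    · refine Subgroup.mem_centralizer_singleton_iff.2 ?_
      rw [← hqt', LargeExtra.conjm, LargeExtra.conjm,
        (hrH q (Subgroup.subset_closure (Or.inr rfl))).eq]
    · have h1 : g * r * g⁻¹ * z * (g * r * g⁻¹)⁻¹ = x * z := by
        rw [← hwz'', hx]
        calc g * r * g⁻¹ * (g * w' * g⁻¹) * (g * r * g⁻¹)⁻¹ = g * (r * w' * r⁻¹) * g⁻¹ := by group
          _ = _ := by rw [hrw]; group
      have h2 : g * r * g⁻¹ * x * (g * r * g⁻¹)⁻¹ = x := by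
        rw [hx]
        calc g * r * g⁻¹ * (g * z * g⁻¹) * (g * r * g⁻¹)⁻¹ = g * (r * z * r⁻¹) * g⁻¹ := by group
          _ = _ := by rw [(S.comm_z hr).eq, mul_inv_cancel_right]
      calc g * r * g⁻¹ * a * x * (g * r * g⁻¹ * a)⁻¹
          = (g * r * g⁻¹ * z * (g * r * g⁻¹)⁻¹) * (g * r * g⁻¹ * x * (g * r * g⁻¹)⁻¹) := by
            rw [show g * r * g⁻¹ * a * x * (g * r * g⁻¹ * a)⁻¹
              = g * r * g⁻¹ * (a * x * a⁻¹) * (g * r * g⁻¹)⁻¹ by group, hax]
            group
        _ = z := by rw [h1, h2, Pr.xz_comm.eq, mul_assoc, Pr.xx, mul_one]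
  -- the quotient
  set C := Subgroup.centralizer ({t} : Set G) with hCdef
  set T := (Subgroup.zpowers t).subgroupOf C
  let π := QuotientGroup.mk' T
  have htc : ∀ c : ↥C, Commute (c : G) t := fun c => Subgroup.mem_centralizer_singleton_iff.1 c.2
  have hzp : ∀ c : G, c ∈ Subgroup.zpowers t → c = 1 ∨ c = t := by
    intro c hc
    obtain ⟨k, hk⟩ := Subgroup.mem_zpowers_iff.1 hc
    rcases Int.even_or_odd' k with ⟨j, rfl | rfl⟩
    · left; rw [← hk, zpow_mul, zpow_two, htt, one_zpow]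
    · right; rw [← hk, zpow_add_one, zpow_mul, zpow_two, htt, one_zpow, one_mul]
  have hπ : ∀ a b : ↥C, π a = π b → (b : G) = a ∨ (b : G) = (a : G) * t := by
    intro a b h
    rcases hzp _ (Subgroup.mem_subgroupOf.1 (QuotientGroup.eq.1 h)) with e | e
    · exact Or.inl (inv_mul_eq_one.1 e).symm
    · exact Or.inr (inv_mul_eq_iff_eq_mul.1 e)
  have hPQ : ∀ p, p ∈ P ↔ p ∈ Q ∧ p ∈ C := fun p => by rw [hP]; exact Iff.rfl
  have hPC : P ≤ C := fun p hp => ((hPQ p).1 hp).2
  set Pb := (P.subgroupOf C).map π with hPb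
  have hmemP : ∀ (p : ↥C), (p : G) ∈ P → π p ∈ Pb := fun p hp => ⟨p, hp, rfl⟩
  have hzC : z ∈ C := Subgroup.mem_centralizer_singleton_iff.2 htz'.symm.eq
  let z' : ↥C := ⟨z, hzC⟩
  have hzP : (z' : G) ∈ P := (hPQ _).2 ⟨hzQ, hzC⟩
  -- elements centralising `P` modulo `t`
  have hcP : ∀ c : ↥C, (∀ p ∈ Pb, p * π c = π c * p) → (c : G) ∈ H := by
    intro c hc
    have hmod : ∀ p, ∀ hp : p ∈ P, (c : G) * p * (c : G)⁻¹ = p ∨ (c : G) * p * (c : G)⁻¹ = p * t := by
      intro p hp
      have h1 := hc _ (hmemP ⟨p, hPC hp⟩ hp)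
      rw [← map_mul, ← map_mul] at h1
      rcases hπ _ _ h1 with e | e
      · exact Or.inl (mul_inv_eq_iff_eq_mul.2 e)
      · right
        rw [mul_inv_eq_iff_eq_mul]
        calc (c : G) * p = p * (c : G) * t := e
          _ = p * t * c := by rw [mul_assoc, (htc c).eq, ← mul_assoc]
    have hzfix : (c : G) * z * (c : G)⁻¹ = z := by
      rcases hmod z hzP with e | e
      · exact e
      · exact absurd e (htzne c)
    have hcz : (c : G) ∈ Subgroup.centralizer ({z} : Set G) :=
      Subgroup.mem_centralizer_singleton_iff.2 (mul_inv_eq_iff_eq_mul.1 hzfix)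
    have hcQ : (c : G) ∈ Q := (hCP c hcz).1 fun p hp => by
      rcases hmod p hp with e | e
      · exact ⟨1, one_mem _, by rw [e, mul_one]⟩
      · exact ⟨t, Subgroup.subset_closure (Or.inl rfl), e⟩
    have hcomm : ∀ p ∈ P, Commute (c : G) p := by
      intro p hp
      rcases hmod p hp with e | e
      · exact mul_inv_eq_iff_eq_mul.1 e
      · rcases Pr.comm_cases hcQ ((hPQ p).1 hp).1 with e' | e'
        · exact commutatorElement_eq_one_iff_mul_comm.1 e'
        · rw [e, mul_assoc, (htc ⟨p⁻¹, inv_mem (hPC hp)⟩).symm.eq, mul_inv_cancel_left] at e'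
          exact absurd e' htnz
    by_contra hcH
    obtain ⟨q, hq, hqH, hqc⟩ := S.exists_mover_fixing (hFz.symm ▸ hHQ) hzH (hFz.symm ▸ hcQ) hcH
    have hqP : q ∈ P := (hPQ q).2 ⟨hFz ▸ hq, Subgroup.mem_centralizer_singleton_iff.2 (hqH t htH).eq⟩
    rw [(hcomm q hqP).symm.eq, mul_inv_cancel_right, right_eq_mul] at hqc
    exact Pr.z_ne hqc
  have hπt : π ⟨t, Subgroup.mem_centralizer_singleton_iff.2 rfl⟩ = 1 :=
    (QuotientGroup.eq_one_iff _).2 (Subgroup.mem_subgroupOf.2 (Subgroup.mem_zpowers t))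
  have hHim : ∀ c : ↥C, (c : G) ∈ H → π c = 1 ∨ π c = π z' := by
    intro c hc
    rcases hH _ hc with e | e | e | e
    · exact Or.inl (by rw [show c = 1 from Subtype.ext e, map_one])
    · exact Or.inr (congrArg π (Subtype.ext e))
    · exact Or.inl (by rw [show c = ⟨t, Subgroup.mem_centralizer_singleton_iff.2 rfl⟩ from
        Subtype.ext e, hπt])
    · exact Or.inr (by
        rw [show c = z' * ⟨t, Subgroup.mem_centralizer_singleton_iff.2 rfl⟩ from Subtype.ext e,
          map_mul, hπt, mul_one])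
  have hz'1 : π z' ≠ 1 := by
    intro h
    rcases hπ z' 1 (h.trans (map_one π).symm) with e | e
    · exact Pr.z_ne e.symm
    · have e2 := mul_eq_one_iff_eq_inv.1 e.symm
      rw [inv_eq_of_mul_eq_one_right htt] at e2
      exact htnz e2.symm
  have hz'cen : ∀ p ∈ Pb, p * π z' = π z' * p := by
    rintro _ ⟨p, hp, rfl⟩
    rw [← map_mul, ← map_mul]
    exact congrArg π (Subtype.ext
      (S.comm_z (hFz.symm ▸ ((hPQ _).1 hp).1 : (p : G) ∈ LargeExtra.conjFam Q z z)).eq)
  have hPp : IsPGroup 2 ↥P := hQ.1.1.to_le (fun p hp => ((hPQ p).1 hp).1)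
  have hPbp : IsPGroup 2 ↥Pb :=
    (IsPGroup.comap_of_injective hPp C.subtype C.subtype_injective).map π
  have hxC : x ∈ C := hPC hxP
  let x' : ↥C := ⟨x, hxC⟩
  have hES : Cfsg.IsExtraspecial 2 ↥Pb := by
    refine LargeExtra.extraspecial_of hPbp (w := ⟨π z', hmemP _ hzP⟩)
      (fun h => hz'1 (congrArg Subtype.val h)) (Subtype.ext ?_)
      (Subgroup.mem_center_iff.2 fun p => Subtype.ext (hz'cen p p.2)) ?_ ?_ ?_
      ⟨⟨π ⟨a, hPC haP⟩, hmemP _ haP⟩, ⟨π x', hmemP _ hxP⟩, ?_⟩
    · show π z' * π z' = 1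
      rw [← map_mul, show z' * z' = 1 from Subtype.ext Pr.zz, map_one]
    · rintro ⟨_, ⟨c, hc, rfl⟩⟩ hcc
      rcases hHim c (hcP c fun p hp =>
        congrArg Subtype.val (Subgroup.mem_center_iff.1 hcc ⟨p, hp⟩)) with e | e
      · exact Or.inl (Subtype.ext e)
      · exact Or.inr (Subtype.ext e)
    · rintro ⟨_, ⟨u, hu, rfl⟩⟩ ⟨_, ⟨v, hv, rfl⟩⟩
      rcases Pr.comm_cases ((hPQ _).1 hu).1 ((hPQ _).1 hv).1 with e | e
      · refine Or.inl (Subtype.ext ?_)
        show ⁅π u, π v⁆ = 1
        rw [← map_commutatorElement, show ⁅u, v⁆ = 1 from Subtype.ext e, map_one]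
      · refine Or.inr (Subtype.ext ?_)
        show ⁅π u, π v⁆ = π z'
        rw [← map_commutatorElement]
        exact congrArg π (Subtype.ext e)
    · rintro ⟨_, ⟨u, hu, rfl⟩⟩
      rcases Pr.sq_cases ((hPQ _).1 hu).1 with e | e
      · refine Or.inl (Subtype.ext ?_)
        show π u * π u = 1
        rw [← map_mul, show u * u = 1 from Subtype.ext e, map_one]
      · refine Or.inr (Subtype.ext ?_)
        show π u * π u = π z'
        rw [← map_mul]
        exact congrArg π (Subtype.ext e)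
    · intro h
      have h1 : π ⟨a, hPC haP⟩ * π x' = π x' * π ⟨a, hPC haP⟩ := congrArg Subtype.val h
      rw [← map_mul, ← map_mul] at h1
      have h2 : a * x = z * (x * a) := by rw [← mul_assoc]; exact mul_inv_eq_iff_eq_mul.1 hax
      rcases hπ _ _ h1 with e | e
      · exact Pr.z_ne (right_eq_mul.1 (e.trans h2))
      · have e' : x * a = a * x * t := e
        rw [h2, mul_assoc, (htc ⟨x * a, mul_mem hxC (hPC haP)⟩).eq, ← mul_assoc,
          right_eq_mul, mul_eq_one_iff_eq_inv, inv_eq_of_mul_eq_one_right htt] at e'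
        exact htnz e'.symm
  have hcenP : (Subgroup.center ↥Pb).map Pb.subtype = Subgroup.zpowers (π z') := by
    refine le_antisymm ?_ (Subgroup.zpowers_le.2 ⟨⟨π z', hmemP _ hzP⟩,
      Subgroup.mem_center_iff.2 fun p => Subtype.ext (hz'cen p p.2), rfl⟩)
    rintro _ ⟨⟨_, ⟨c, hc, rfl⟩⟩, hcc, rfl⟩
    rcases hHim c (hcP c fun p hp =>
      congrArg Subtype.val (Subgroup.mem_center_iff.1 hcc ⟨p, hp⟩)) with e | e
    · show π c ∈ _; rw [e]; exact one_mem _
    · show π c ∈ _; rw [e]; exact Subgroup.mem_zpowers _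
  have hxo : orderOf (π x') = 2 := by
    have : Fact (Nat.Prime 2) := ⟨Nat.prime_two⟩
    refine orderOf_eq_prime ?_ fun h => ?_
    · rw [sq, ← map_mul, show x' * x' = 1 from Subtype.ext Pr.xx, map_one]
    · rcases hπ x' 1 (h.trans (map_one π).symm) with e | e
      · exact Pr.x_ne e.symm
      · have e2 := mul_eq_one_iff_eq_inv.1 e.symm
        rw [inv_eq_of_mul_eq_one_right htt] at e2
        exact htnx e2.symm
  refine S5421.result Pb hES ?_ ?_ (π x') (hmemP _ hxP) ?_ hxo ?_
  · refine le_antisymm (fun c hc => ?_) ?_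
    · obtain ⟨c, rfl⟩ := QuotientGroup.mk'_surjective T c
      rw [hcenP]
      rcases hHim c (hcP c fun p hp => Subgroup.mem_centralizer_iff.1 hc p hp) with e | e
      · show π c ∈ _; rw [e]; exact one_mem _
      · show π c ∈ _; rw [e]; exact Subgroup.mem_zpowers _
    · rw [hcenP, Subgroup.zpowers_le]
      exact Subgroup.mem_centralizer_iff.2 hz'cen
  · intro c hc
    obtain ⟨c, rfl⟩ := QuotientGroup.mk'_surjective T c
    have h1 : π z' * π c = π c * π z' := Subgroup.mem_centralizer_iff.1 hc _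
      (hcenP ▸ Subgroup.mem_zpowers _)
    rw [← map_mul, ← map_mul] at h1
    have hfix : (c : G) * z = z * (c : G) := by
      rcases hπ _ _ h1 with e | e
      · exact e
      · refine absurd ?_ (htzne c)
        rw [mul_inv_eq_iff_eq_mul]
        calc (c : G) * z = z * (c : G) * t := e
          _ = z * t * c := by rw [mul_assoc, (htc c).eq, ← mul_assoc]
    have hcn : ∀ (d : ↥C), (d : G) * z = z * (d : G) → ∀ p ∈ Pb, π d * p * (π d)⁻¹ ∈ Pb := by
      rintro d hd _ ⟨p, hp, rfl⟩
      rw [← map_inv, ← map_mul, ← map_mul]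
      refine hmemP _ ((hPQ _).2 ⟨?_, (d * p * d⁻¹).2⟩)
      exact (Subgroup.mem_normalizer_iff.1
        (hn' (Subgroup.mem_centralizer_singleton_iff.2 hd)) _).1 ((hPQ _).1 hp).1
    have hinv : ((c⁻¹ : ↥C) : G) * z = z * ((c⁻¹ : ↥C) : G) :=
      ((show Commute (c : G) z from hfix).inv_left).eq
    rw [Subgroup.mem_normalizer_iff]
    intro p
    refine ⟨hcn c hfix p, fun hp => ?_⟩
    have := hcn c⁻¹ hinv _ hp
    rw [map_inv] at this
    rwa [show (π c)⁻¹ * (π c * p * (π c)⁻¹) * (π c)⁻¹⁻¹ = p by group] at this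
  · rw [hcenP]
    intro h
    have hxH' : π x' = 1 ∨ π x' = π z' := by
      obtain ⟨k, hk⟩ := Subgroup.mem_zpowers_iff.1 h
      have hz2 : π z' * π z' = 1 := by
        rw [← map_mul, show z' * z' = 1 from Subtype.ext Pr.zz, map_one]
      rcases Int.even_or_odd' k with ⟨j, rfl | rfl⟩
      · left; rw [← hk, zpow_mul, zpow_two, hz2, one_zpow]
      · right; rw [← hk, zpow_add_one, zpow_mul, zpow_two, hz2, one_zpow, one_mul]
    rcases hxH' with e | e
    · rw [e, orderOf_one] at hxo; omega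
    · rcases hπ _ _ e with e' | e'
      · exact Pr.ne e'.symm
      · refine htxne 1 ?_
        rw [show (1 : G) * z * 1⁻¹ = z by group]
        exact e'
  · rw [hcenP, Subgroup.zpowers_le]
    -- `z` lies in the 2-core of the centraliser of the image of `x`
    set D := Subgroup.centralizer ({π x'} : Set (↥C ⧸ T))
    set W := Q.map (MulAut.conj g).toMonoidHom
    set B := (W.subgroupOf C).map π
    have hBD : B ≤ D := by
      rintro _ ⟨q, hq, rfl⟩
      refine Subgroup.mem_centralizer_singleton_iff.2 ?_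
      rw [← map_mul, ← map_mul]
      exact congrArg π (Subtype.ext (Subgroup.mem_centralizer_singleton_iff.1 (Pr.le' hq)))
    have hn2 : (B.subgroupOf D).Normal := by
      refine ⟨fun b hb d => ?_⟩
      obtain ⟨q, hq, hqb⟩ := hb
      obtain ⟨d', hd'⟩ := QuotientGroup.mk'_surjective T (d : ↥C ⧸ T)
      have h1 : π d' * π x' = π x' * π d' := by
        show QuotientGroup.mk' T d' * _ = _ * QuotientGroup.mk' T d'
        rw [hd']
        exact Subgroup.mem_centralizer_singleton_iff.1 d.2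
      rw [← map_mul, ← map_mul] at h1
      have hfix : (d' : G) * x = x * (d' : G) := by
        rcases hπ _ _ h1.symm with e | e
        · exact e
        · refine absurd ?_ (htxne ((d' : G) * g))
          rw [show (d' : G) * g * z * ((d' : G) * g)⁻¹ = (d' : G) * (g * z * g⁻¹) * (d' : G)⁻¹ by
            group, ← hx, mul_inv_eq_iff_eq_mul]
          calc (d' : G) * x = x * (d' : G) * t := e
            _ = x * t * d' := by rw [mul_assoc, (htc d').eq, ← mul_assoc]
      refine ⟨d' * q * d'⁻¹, ?_, ?_⟩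
      · exact (Subgroup.mem_normalizer_iff.1
          (Pr.nrm' (Subgroup.mem_centralizer_singleton_iff.2 hfix)) _).1 hq
      · show π (d' * q * d'⁻¹) = (d : ↥C ⧸ T) * _ * (d : ↥C ⧸ T)⁻¹
        rw [map_mul, map_mul, map_inv, hqb, show π d' = (d : ↥C ⧸ T) from hd']
        rfl
    have hp : IsPGroup 2 ↥(B.subgroupOf D) :=
      IsPGroup.comap_of_injective
        ((IsPGroup.comap_of_injective Pr.es'.1.1 C.subtype C.subtype_injective).map π)
        D.subtype D.subtype_injective
    have hzB : π z' ∈ B := ⟨z', Pr.memz, rfl⟩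
    exact ⟨⟨π z', hBD hzB⟩, Core.le_pCore hp hzB, rfl⟩

end Cfsg.Agent.S5429
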