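import Cfsg.Statements.S5430
import Cfsg.Agent.LargeExtra.FourGroup

set_option autoImplicit false
open Cfsg

namespace Cfsg.Agent.S5430

/-- Let Q be a large extraspecial 2-subgroup of the finite group G (extraspecial; centralizer equal to its centre; normal in the centralizer of its centre; normalizing no non-trivial subgroup of odd order) with centre generated by z, an involution, of width w ≥ 2 (order 2^(2w+1)); let g be an element outside the centralizer H of z with g z g⁻¹ in Q; write V for the subgroup generated by z and g z g⁻¹, X for the subgroup generated by Q and g Q g⁻¹, R for the subgroup generated by the centralizer of z in g Q g⁻¹ and the centralizer of g z g⁻¹ in Q, and E for the intersection of Q and g Q g⁻¹. Then R is the centralizer of V in X and is the largest normal 2-subgroup of X, and X/R is isomorphic to the symmetric group of degree 3; moreover the normalizer of V is the product of X and the centralizer of V in H, X is normal in it, and modulo R it is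 the direct product of X/R and of the centralizer of V in H modulo R. -/
theorem result {G : Type*} [Group G] [Finite G] (Q : Subgroup G) (hQ : Cfsg.IsLargeExtraspecial Q) (z : G) (hz : ((Subgroup.center ↥Q).map Q.subtype) = Subgroup.zpowers z) (hz2 : orderOf z = 2) (w : ℕ) (hw : 2 ≤ w) (hcard : Nat.card ↥Q = 2 ^ (2 * w + 1)) (g : G) (hgH : g ∉ Subgroup.centralizer ({z} : Set G)) (hgQ : g * z * g⁻¹ ∈ Q) (V X R E : Subgroup G) (hV : V = Subgroup.closure ({z, g * z * g⁻¹} : Set G)) (hX : X = Q ⊔ (Q).map (MulAut.conj g).toMonoidHom) (hR : R = ((Q).map (MulAut.conj g).toMonoidHom ⊓ Subgroup.centralizer ({z} : Set G)) ⊔ (Q ⊓ Subgroup.centralizer ({g * z * g⁻¹} : Set G))) (hE : E = Q ⊓ (Q).map (MulAut.conj g).toMonoidHom) : R = X ⊓ Subgroup.centralizer (V : Set G) ∧ R = (Cfsg.pCore 2 ↥X).map X.subtype ∧ (∃ h : (R.subgroupOf X).Normal, Nonempty (↥X ⧸ R.subgroupOf X ≃* Equiv.Perm (Fin 3))) ∧ Subgroup.normalizer (V : Set G) = X ⊔ (Subgroup.centralizer ({z} : Set G) ⊓ Subgroup.centralizer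 (V : Set G)) ∧ (∀ y ∈ Subgroup.normalizer (V : Set G), ∀ x ∈ X, y * x * y⁻¹ ∈ X) ∧ R ≤ Subgroup.centralizer ({z} : Set G) ⊓ Subgroup.centralizer (V : Set G) ∧ (∀ x ∈ X, ∀ c ∈ Subgroup.centralizer ({z} : Set G) ⊓ Subgroup.centralizer (V : Set G), x * c * x⁻¹ * c⁻¹ ∈ R) ∧ X ⊓ (Subgroup.centralizer ({z} : Set G) ⊓ Subgroup.centralizer (V : Set G)) = R := by
  obtain ⟨hE', hC, hN, -⟩ := hQ
  have hcard' : 32 ≤ Nat.card ↥Q := by
    rw [hcard]; exact (show 32 = 2 ^ 5 from rfl) ▸ Nat.pow_le_pow_right (by norm_num) (by omega)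
  have P := LargeExtra.pair_of_large hE' hC hN hz hz2 hcard' hgH hgQ
  have hQ' : ∃ g', Q.map (MulAut.conj g).toMonoidHom = Q.map (MulAut.conj g').toMonoidHom ∧
      g' * z * g'⁻¹ = g * z * g⁻¹ := ⟨g, rfl, rfl⟩
  obtain ⟨hRK, hNV, hn, he⟩ := P.structureX hQ'
  subst hV hX hR hE
  have hCK : Subgroup.centralizer ({z} : Set G) ⊓
      Subgroup.centralizer ((Subgroup.closure ({z, g * z * g⁻¹} : Set G) : Subgroup G) : Set G)
      = LargeExtra.Pair.K z (g * z * g⁻¹) :=
    inf_eq_right.2 fun k hk =>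
      Subgroup.mem_centralizer_singleton_iff.2 (LargeExtra.Pair.mem_K.1 hk).1.eq
  rw [hCK]
  refine ⟨hRK, P.pCore_eq hQ', ⟨hn, he⟩, hNV, ?_, P.R_le_K, fun u hu c hc => P.comm_XK hu hc,
    hRK.symm⟩
  intro y hy x hx
  rw [show Subgroup.closure ({z, g * z * g⁻¹} : Set G) = LargeExtra.Pair.V z (g * z * g⁻¹) from rfl,
    hNV] at hy
  have hle : (Q ⊔ Q.map (MulAut.conj g).toMonoidHom) ⊔ LargeExtra.Pair.K z (g * z * g⁻¹) ≤
      Subgroup.normalizer ((Q ⊔ Q.map (MulAut.conj g).toMonoidHom : Subgroup G) : Set G) := by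
    refine sup_le Subgroup.le_normalizer fun k hk => ?_
    rw [Subgroup.mem_normalizer_iff_map_conj_eq, Subgroup.map_sup,
      Subgroup.mem_normalizer_iff_map_conj_eq.1 (P.nK k hk).1,
      Subgroup.mem_normalizer_iff_map_conj_eq.1 (P.nK k hk).2]
  exact (Subgroup.mem_normalizer_iff.1 (hle hy) x).1 hx

end Cfsg.Agent.S5430
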