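import Cfsg.Statements.S5432
import Cfsg.Agent.LargeExtra.OutExtra
import Cfsg.Agent.Fg24.ExtraTwo

set_option autoImplicit false
open Cfsg

namespace Cfsg.Agent.S5432

theorem ea_map {E F : Type*} [Group E] [Group F] (ε : E ≃* F) {A : Subgroup E}
    (hA : Cfsg.IsElementaryAbelian 2 A) :
    Cfsg.IsElementaryAbelian 2 (A.map ε.toMonoidHom) ∧ Nat.card ↥(A.map ε.toMonoidHom) = Nat.card ↥A := by
  refine ⟨⟨⟨⟨?_⟩⟩, ?_⟩, Subgroup.card_map_of_injective ε.injective⟩
  · rintro ⟨_, a, ha, rfl⟩ ⟨_, b, hb, rfl⟩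
    refine Subtype.ext ?_
    show ε a * ε b = ε b * ε a
    rw [← map_mul, ← map_mul]
    exact congrArg ε (congrArg Subtype.val (hA.1.is_comm.comm (⟨a, ha⟩ : ↥A) ⟨b, hb⟩))
  · rintro _ ⟨a, ha, rfl⟩
    rw [← map_pow, hA.2 a ha, map_one]

/-- Let E be an extraspecial 2-group of order 2^(2n+1), n ≥ 1. If E contains an elementary abelian subgroup of order 2^(n+1) (plus type), then its outer automorphism group is isomorphic to the full isometry group of the hyperbolic quadratic form in dimension 2n over the field with two elements; otherwise (minus type) it is isomorphic to the full isometry group of the elliptic quadratic form in dimension 2n over that field. -/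
theorem result {E : Type*} [Group E] [Finite E] (hE : Cfsg.IsExtraspecial 2 E) (n : ℕ) (hn : 1 ≤ n) (hcard : Nat.card E = 2 ^ (2 * n + 1)) : ((∃ A : Subgroup E, Cfsg.IsElementaryAbelian 2 A ∧ Nat.card ↥A = 2 ^ (n + 1)) → Nonempty (Cfsg.Out E ≃* Cfsg.isometryGroup (ZMod 2) (Cfsg.quadFormPlus n (ZMod 2)))) ∧ ((¬ ∃ A : Subgroup E, Cfsg.IsElementaryAbelian 2 A ∧ Nat.card ↥A = 2 ^ (n + 1)) → Nonempty (Cfsg.Out E ≃* Cfsg.isometryGroup (ZMod 2) (Cfsg.quadFormMinus (n - 1) (ZMod 2) 1 1))) := by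
  obtain ⟨m, c, ⟨ε⟩⟩ := Cfsg.Agent.Fg24.ExtraTwo.exists_equiv_heis hE
  have hm : n = m + 1 := by
    have h := Nat.card_congr ε.toEquiv
    rw [hcard, Cfsg.Agent.LargeExtra.Heis.card] at h
    have := Nat.pow_right_injective le_rfl h
    omega
  subst hm
  have hc : c = 0 ∨ c = 1 := Cfsg.Agent.Fg24.ExtraTwo.two_cases c
  refine ⟨fun ⟨A, hA, hAc⟩ => ?_, fun hno => ?_⟩
  · rcases hc with rfl | rfl
    · exact LargeExtra.Heis.out_equiv _ ε (LargeExtra.Heis.plusCoordH_form m)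
    · exfalso
      obtain ⟨h1, h2⟩ := ea_map ε hA
      have := LargeExtra.Heis.rank_minus.2 ⟨_, h1, h2.trans hAc⟩
      omega
  · rcases hc with rfl | rfl
    · exfalso
      obtain ⟨A, hA, hAc⟩ := (LargeExtra.Heis.rank_plus (m := m)).1
      obtain ⟨h1, h2⟩ := ea_map ε.symm hA
      exact hno ⟨_, h1, h2.trans hAc⟩
    · rw [Nat.add_sub_cancel]
      exact LargeExtra.Heis.out_equiv _ ε (LargeExtra.Heis.minusCoordH_form m)

end Cfsg.Agent.S5432
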