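import Cfsg.Statements.S5433
import Cfsg.Agent.LargeExtra.Basic

set_option autoImplicit false
open Cfsg

namespace Cfsg.Agent.S5433

/-- Let Q be a large extraspecial 2-subgroup of the finite group G (extraspecial; centralizer equal to its centre; normal in the centralizer of its centre; normalizing no non-trivial subgroup of odd order), and L a normal subgroup of G containing Q. Then G is the product of L and the normalizer of Q. -/
theorem result {G : Type*} [Group G] [Finite G] (Q : Subgroup G) (hQ : Cfsg.IsLargeExtraspecial Q) (L : Subgroup G) [L.Normal] (hQL : Q ≤ L) : L ⊔ Subgroup.normalizer (Q : Set G) = ⊤ := by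
  obtain ⟨hE, hC, hN, -⟩ := hQ
  haveI : Fact (Nat.Prime 2) := ⟨Nat.prime_two⟩
  obtain ⟨S, hS⟩ := (hE.1.1.comap_subtype (K := L)).exists_le_sylow
  set S' : Subgroup G := (S : Subgroup L).map L.subtype with hS'
  have hQS : Q ≤ S' := fun q hq => ⟨⟨q, hQL hq⟩, hS (by exact hq), rfl⟩
  set Z : Subgroup G := (Subgroup.center Q).map Q.subtype with hZdef
  have hZc : (Subgroup.center S').map S'.subtype = Z := by
    have hle : (Subgroup.center S').map S'.subtype ≤ Z := by
      rw [← hC]
      rintro _ ⟨s, hs, rfl⟩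
      rw [Subgroup.mem_centralizer_iff]
      exact fun q hq => congrArg Subtype.val (Subgroup.mem_center_iff.1 hs ⟨q, hQS hq⟩)
    refine Subgroup.eq_of_le_of_card_ge hle ?_
    rw [LargeExtra.card_zc hE,
      Nat.card_congr (Subgroup.equivMapOfInjective _ _ S'.subtype_injective).toEquiv.symm]
    haveI : Nontrivial S' := by
      rw [Subgroup.nontrivial_iff_ne_bot]
      intro hb
      have h1 : Z ≤ ⊥ := hb ▸ LargeExtra.zc_le.trans hQS
      have h2 := LargeExtra.card_zc hE
      rw [← hZdef, le_bot_iff.1 h1, Subgroup.card_bot] at h2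
      omega
    have hp : IsPGroup 2 S' := S.2.map _
    haveI := hp.center_nontrivial
    exact Finite.one_lt_card
  have hNS : Subgroup.normalizer (S' : Set G) ≤ Subgroup.normalizer (Q : Set G) := by
    refine le_trans (fun g hg => ?_) hN
    have key : ∀ z ∈ Z, g * z * g⁻¹ ∈ Z := by
      intro z hz
      rw [← hZc] at hz ⊢
      obtain ⟨s, hs, rfl⟩ := hz
      refine ⟨⟨g * s.val * g⁻¹, (Subgroup.mem_normalizer_iff.1 hg _).1 s.2⟩, ?_, rfl⟩
      rw [SetLike.mem_coe, Subgroup.mem_center_iff]
      intro t
      have ht' : g⁻¹ * t.val * g ∈ S' := by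
        have := (Subgroup.mem_normalizer_iff.1 (inv_mem hg) _).1 t.2
        rwa [inv_inv] at this
      have := congrArg Subtype.val (Subgroup.mem_center_iff.1 hs ⟨_, ht'⟩)
      simp only [Subgroup.coe_mul] at this
      ext
      simp only [Subgroup.coe_mul]
      calc t.val * (g * s.val * g⁻¹) = g * ((g⁻¹ * t.val * g) * s.val) * g⁻¹ := by group
        _ = g * (s.val * (g⁻¹ * t.val * g)) * g⁻¹ := by rw [this]
        _ = g * s.val * g⁻¹ * t.val := by group
    rw [Subgroup.mem_centralizer_iff]
    intro z hz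
    obtain ⟨a, ha1, ha⟩ := Nat.card_eq_two_iff' (1 : Z) |>.1 (LargeExtra.card_zc hE)
    by_cases hz1 : z = 1
    · simp [hz1]
    have h1 : (⟨z, hz⟩ : Z) = a := ha _ (by simpa using hz1)
    have h2 : (⟨g * z * g⁻¹, key z hz⟩ : Z) = a :=
      ha _ fun h => hz1 (by simpa using congrArg Subtype.val h)
    have := congrArg Subtype.val (h2.trans h1.symm)
    simp only at this
    exact (mul_inv_eq_iff_eq_mul.1 this).symm
  rw [eq_top_iff, ← Sylow.normalizer_sup_eq_top S, sup_comm]
  exact sup_le_sup_left hNS _

end Cfsg.Agent.S5433
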