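import Cfsg.Statements.S5434
import Cfsg.Agent.LargeExtra.Sub
import Cfsg.Agent.LargeExtra.Singular
import Cfsg.Agent.Coprime.Basic

set_option autoImplicit false
open Cfsg

namespace Cfsg.Agent.S5434

open scoped commutatorElement

/-- Let Q be a large extraspecial 2-subgroup of the finite group G (extraspecial; centralizer equal to its centre; normal in the centralizer of its centre; normalizing no non-trivial subgroup of odd order), and A a non-trivial subgroup of odd order of the normalizer of Q. Then Q is the central product of the centralizer of A in Q and the commutator subgroup [Q, A] (they generate Q and commute elementwise), [Q, A] is extraspecial, and the centralizer of A in Q is either the centre of Q or extraspecial. -/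
theorem result {G : Type*} [Group G] [Finite G] (Q : Subgroup G) (hQ : Cfsg.IsLargeExtraspecial Q) (A : Subgroup G) (hA : A ≤ Subgroup.normalizer (Q : Set G)) (hAodd : Odd (Nat.card ↥A)) (hA1 : A ≠ ⊥) : (Q ⊓ Subgroup.centralizer (A : Set G)) ⊔ ⁅Q, A⁆ = Q ∧ (∀ x ∈ Q ⊓ Subgroup.centralizer (A : Set G), ∀ y ∈ ⁅Q, A⁆, x * y = y * x) ∧ Cfsg.IsExtraspecial 2 ↥⁅Q, A⁆ ∧ (Q ⊓ Subgroup.centralizer (A : Set G) = ((Subgroup.center ↥Q).map Q.subtype) ∨ Cfsg.IsExtraspecial 2 ↥(Q ⊓ Subgroup.centralizer (A : Set G))) := by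
  obtain ⟨hE, hC, -, -⟩ := hQ
  haveI : Fact (Nat.Prime 2) := ⟨Nat.prime_two⟩
  set C := Q ⊓ Subgroup.centralizer (A : Set G) with hCdef
  set R := ⁅Q, A⁆ with hRdef
  have hcop : (Nat.card A).Coprime (Nat.card Q) := by
    obtain ⟨n, hn⟩ := IsPGroup.iff_card.1 hE.1.1
    rw [hn]; exact Nat.Coprime.pow_right n (Nat.coprime_two_right.2 hAodd)
  have hsolv : Group.IsSolvable A ∨ Group.IsSolvable Q := by
    haveI : Group.IsNilpotent Q := hE.1.1.isNilpotent
    exact Or.inr inferInstance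
  have hRQ : R ≤ Q := Coprime.commutator_le_of_le_normalizer hA
  have hsup : C ⊔ R = Q := by
    rw [sup_comm]; exact Coprime.commutator_sup_centralizer hA hcop hsolv
  set Z := (Subgroup.center ↥Q).map Q.subtype with hZ
  have hZQ : Z ≤ Q := Subgroup.map_subtype_le _
  have hZc : ∀ c ∈ Q, (∀ q ∈ Q, q * c = c * q) → c ∈ Z := fun c hc h =>
    ⟨⟨c, hc⟩, Subgroup.mem_center_iff.2 fun q => Subtype.ext (h q q.2), rfl⟩
  have hZA : Z ≤ Subgroup.centralizer (A : Set G) := by
    rintro _ ⟨c, hc, rfl⟩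
    rw [Subgroup.mem_centralizer_iff]
    intro a ha
    let α : ↥Q ≃* ↥Q :=
      { toFun := fun q => ⟨a * q * a⁻¹, (Subgroup.mem_normalizer_iff.1 (hA ha) q).1 q.2⟩
        invFun := fun q => ⟨a⁻¹ * q * a, by
          simpa using (Subgroup.mem_normalizer_iff.1 (inv_mem (hA ha)) q).1 q.2⟩
        left_inv := fun q => Subtype.ext (by simp [mul_assoc])
        right_inv := fun q => Subtype.ext (by simp [mul_assoc])
        map_mul' := fun q r => Subtype.ext (by simp [mul_assoc]) }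
    have h1 : a * (c : G) * a⁻¹ = c := congrArg Subtype.val (LargeExtra.auto_fix_center hE α hc)
    exact mul_inv_eq_iff_eq_mul.1 h1
  have hcommute : ∀ x ∈ C, ∀ y ∈ R, x * y = y * x := by
    intro x hx
    suffices h : R ≤ Subgroup.centralizer ({x} : Set G) from fun y hy =>
      (Subgroup.mem_centralizer_singleton_iff.1 (h hy)).symm
    rw [hRdef, Subgroup.commutator_le]
    intro q hq a ha
    have hxa : a * x = x * a := Subgroup.mem_centralizer_iff.1 hx.2 a ha
    obtain ⟨c, hcZ, hce⟩ : ∃ c ∈ Z, q * x = c * (x * q) := by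
      refine ⟨q * x * q⁻¹ * x⁻¹, ?_, by group⟩
      exact ⟨⁅(⟨q, hq⟩ : ↥Q), ⟨x, hx.1⟩⁆, Fusion.es_commutator_mem hE _ _, rfl⟩
    have hca : a * c = c * a := Subgroup.mem_centralizer_iff.1 (hZA hcZ) a ha
    have hcq : ∀ r ∈ Q, r * c = c * r := by
      intro r hr
      obtain ⟨d, hd, rfl⟩ := hcZ
      exact congrArg Subtype.val (Subgroup.mem_center_iff.1 hd ⟨r, hr⟩)
    have h1 : a * q⁻¹ * a⁻¹ * x = c⁻¹ * (x * (a * q⁻¹ * a⁻¹)) := by
      have e : q⁻¹ * x = c⁻¹ * (x * q⁻¹) := by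
        calc q⁻¹ * x = q⁻¹ * (c⁻¹ * (c * (x * q))) * q⁻¹ := by group
          _ = q⁻¹ * c⁻¹ * q * (x * q⁻¹) := by rw [← hce]; group
          _ = c⁻¹ * (x * q⁻¹) := by
            rw [show q⁻¹ * c⁻¹ * q = (q⁻¹ * c * q) ⁻¹ by group, mul_assoc q⁻¹ c q, ← hcq q hq,
              inv_mul_cancel_left]
      calc a * q⁻¹ * a⁻¹ * x = a * q⁻¹ * (a⁻¹ * (x * a)) * a⁻¹ := by group
        _ = a * (q⁻¹ * x) * a⁻¹ := by rw [← hxa]; group
        _ = a * c⁻¹ * a⁻¹ * (a * x * a⁻¹ * (a * q⁻¹ * a⁻¹)) := by rw [e]; group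
        _ = c⁻¹ * (x * (a * q⁻¹ * a⁻¹)) := by
          rw [show a * c⁻¹ * a⁻¹ = (a * c * a⁻¹)⁻¹ by group, hca, mul_inv_cancel_right, hxa,
            mul_inv_cancel_right]
    rw [Subgroup.mem_centralizer_singleton_iff, commutatorElement_def]
    calc q * a * q⁻¹ * a⁻¹ * x = q * (a * q⁻¹ * a⁻¹ * x) := by group
      _ = q * c⁻¹ * (x * (a * q⁻¹ * a⁻¹)) := by rw [h1, mul_assoc q]
      _ = c⁻¹ * (q * x) * (a * q⁻¹ * a⁻¹) := by
        rw [show q * c⁻¹ = c⁻¹ * q by
          rw [mul_inv_eq_iff_eq_mul, mul_assoc, hcq q hq, inv_mul_cancel_left]]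
        group
      _ = x * (q * a * q⁻¹ * a⁻¹) := by rw [hce]; group
  have hgen : ∀ (c : G), (∀ r ∈ C, r * c = c * r) → (∀ r ∈ R, r * c = c * r) →
      ∀ q ∈ Q, q * c = c * q := by
    intro c h1 h2 q hq
    have : Q ≤ Subgroup.centralizer ({c} : Set G) := by
      rw [← hsup]
      exact sup_le (fun r hr => Subgroup.mem_centralizer_singleton_iff.2 (h1 r hr))
        (fun r hr => Subgroup.mem_centralizer_singleton_iff.2 (h2 r hr))
    exact Subgroup.mem_centralizer_singleton_iff.1 (this hq)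
  have hRna : ∃ a ∈ R, ∃ b ∈ R, a * b ≠ b * a := by
    by_contra hcon
    push Not at hcon
    have hRZ : R ≤ Z := fun r hr => hZc r (hRQ hr)
      (hgen r (fun x hx => hcommute x hx r hr) fun y hy => hcon y hy r hr)
    have h0 : R = ⊥ := by
      rw [hRdef, ← Coprime.commutator_commutator_eq hA hcop hsolv,
        Subgroup.commutator_eq_bot_iff_le_centralizer]
      exact hRZ.trans hZA
    have hA' : A ≤ Subgroup.centralizer (Q : Set G) :=
      Subgroup.le_centralizer_iff.1 (Subgroup.commutator_eq_bot_iff_le_centralizer.1 h0)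
    rw [hC] at hA'
    have hd : Nat.card A ∣ Nat.card Q := Subgroup.card_dvd_of_le (hA'.trans hZQ)
    exact hA1 (Subgroup.card_eq_one.1 (hcop.eq_one_of_dvd hd))
  refine ⟨hsup, hcommute, LargeExtra.extraspecial_sub hE hRQ hRna fun c hc h =>
    hZc c (hRQ hc) (hgen c (fun x hx => hcommute x hx c hc) h), ?_⟩
  by_cases hab : ∀ a ∈ C, ∀ b ∈ C, a * b = b * a
  · left
    refine le_antisymm (fun c hc => hZc c hc.1
      (hgen c (fun x hx => hab x hx c hc) fun y hy => (hcommute c hc y hy).symm)) ?_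
    exact le_inf hZQ hZA
  · right
    push Not at hab
    exact LargeExtra.extraspecial_sub hE inf_le_left hab fun c hc h =>
      hZc c hc.1 (hgen c h fun y hy => (hcommute c hc y hy).symm)

end Cfsg.Agent.S5434
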