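import Cfsg.Statements.S5435
import Mathlib.GroupTheory.Focal
import Cfsg.Agent.S0076
import Cfsg.Agent.S0206
import Cfsg.Agent.Core.Frattini

set_option autoImplicit false
open Cfsg

namespace Cfsg.Agent.S5435

open scoped commutatorElement

section
variable {L : Type*} [Group L] [Finite L]

theorem sylow_sq (z : L) (hz : orderOf z = 2) (R : Sylow 2 L)
    (hΦ : (frattini ↥(R : Subgroup L)).map (R : Subgroup L).subtype = Subgroup.zpowers z) :
    (∀ a ∈ R, a * a = 1 ∨ a * a = z) ∧ ∃ r ∈ R, r * r = z := by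
  have : Fact (Nat.Prime 2) := ⟨Nat.prime_two⟩
  have hzz : z * z = 1 := by rw [← sq, ← hz, pow_orderOf_eq_one]
  have hsq : ∀ a ∈ R, a * a = 1 ∨ a * a = z := by
    intro a ha
    have h : a * a ∈ Subgroup.zpowers z := by
      rw [← hΦ]
      exact ⟨(⟨a, ha⟩ : ↥(R : Subgroup L)) ^ 2, Cfsg.Agent.Core.pow_mem_frattini R.isPGroup' _,
        by simp [sq]⟩
    obtain ⟨k, hk⟩ := Subgroup.mem_zpowers_iff.1 h
    rcases Int.even_or_odd' k with ⟨j, rfl | rfl⟩
    · left; rw [← hk, zpow_mul, zpow_two, hzz, one_zpow]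
    · right; rw [← hk, zpow_add_one, zpow_mul, zpow_two, hzz, one_zpow, one_mul]
  refine ⟨hsq, ?_⟩
  by_contra hc
  push Not at hc
  have hel : ∀ x : ↥(R : Subgroup L), x * x = 1 := fun x =>
    Subtype.ext ((hsq x x.2).resolve_right (hc x x.2))
  have hcomm : ∀ x y : ↥(R : Subgroup L), x * y = y * x := fun x y => by
    have h1 := inv_eq_of_mul_eq_one_right (hel (x * y))
    rw [mul_inv_rev, inv_eq_of_mul_eq_one_right (hel x), inv_eq_of_mul_eq_one_right (hel y)] at h1
    exact h1.symm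
  have hzR : z ∈ (R : Subgroup L) := by
    have h : z ∈ (frattini ↥(R : Subgroup L)).map (R : Subgroup L).subtype :=
      hΦ ▸ Subgroup.mem_zpowers z
    exact Subgroup.map_subtype_le _ h
  obtain ⟨y, hy, hyz⟩ : z ∈ (frattini ↥(R : Subgroup L)).map (R : Subgroup L).subtype :=
    hΦ ▸ Subgroup.mem_zpowers z
  have hy1 : y ≠ 1 := fun e => by
    rw [e, map_one] at hyz; rw [← hyz, orderOf_one] at hz; omega
  -- a coatom avoiding `y`
  obtain ⟨M, hM⟩ := ({M : Subgroup ↥(R : Subgroup L) | y ∉ M}).toFinite.exists_maximal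
    ⟨⊥, by simpa using hy1⟩
  have hne : M ≠ ⊤ := fun e => hM.1 (e ▸ Subgroup.mem_top y)
  obtain ⟨N, hN, hMN⟩ := (eq_top_or_exists_le_coatom M).resolve_left hne
  have hyN : y ∈ N := frattini_le_coatom hN hy
  obtain ⟨a, -, haN⟩ := SetLike.exists_of_lt (lt_top_iff_ne_top.2 hN.1)
  -- `M ⊔ ⟨a⟩` contains `y`, hence `a ∈ N`
  let M' : Subgroup ↥(R : Subgroup L) :=
    { carrier := {b | b ∈ M ∨ b * a ∈ M}
      one_mem' := Or.inl M.one_mem
      inv_mem' := fun {b} hb => by simpa [inv_eq_of_mul_eq_one_right (hel b)] using hb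
      mul_mem' := fun {b d} hb hd => by
        rcases hb with hb | hb <;> rcases hd with hd | hd
        · exact Or.inl (M.mul_mem hb hd)
        · exact Or.inr (by rw [mul_assoc]; exact M.mul_mem hb hd)
        · exact Or.inr (by rw [mul_assoc, hcomm d a, ← mul_assoc]; exact M.mul_mem hb hd)
        · left
          have := M.mul_mem hb hd
          rwa [mul_assoc, hcomm d a, ← mul_assoc a a, hel, one_mul] at this }
  have hyM' : y ∈ M' := by
    by_contra h
    have := hM.2 (y := M') h (fun b hb => Or.inl hb)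
      (show a ∈ M' from Or.inr (by rw [hel]; exact M.one_mem))
    exact haN (hMN this)
  rcases hyM' with h | h
  · exact hM.1 h
  · have h2 := N.mul_mem (N.inv_mem hyN) (hMN h)
    rw [inv_mul_cancel_left] at h2
    exact haN h2

end

/-- Let L be a finite non-abelian simple group with an involution z whose centralizer R is a Sylow 2-subgroup of L whose Frattini subgroup is the subgroup generated by z. Then R is dihedral of order 8. -/
theorem result {L : Type*} [Group L] [Finite L] [IsSimpleGroup L] (hL : ¬ IsMulCommutative L) (z : L) (hz : orderOf z = 2) (R : Sylow 2 L) (hR : (R : Subgroup L) = Subgroup.centralizer ({z} : Set L)) (hΦ : (frattini ↥(R : Subgroup L)).map (R : Subgroup L).subtype = Subgroup.zpowers z) : Nonempty (↥(R : Subgroup L) ≃* DihedralGroup 4) := by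
  have : Fact (Nat.Prime 2) := ⟨Nat.prime_two⟩
  obtain ⟨hsq, r₀, hr₀, hr₀z⟩ := sylow_sq z hz R hΦ
  have hzz : z * z = 1 := by rw [← sq, ← hz, pow_orderOf_eq_one]
  have hz1 : z ≠ 1 := fun e => by rw [e, orderOf_one] at hz; omega
  have hzR : z ∈ R := hr₀z ▸ (R : Subgroup L).mul_mem hr₀ hr₀
  have hRC : ∀ a : L, a ∈ R ↔ a * z = z * a := fun a => by
    show a ∈ (R : Subgroup L) ↔ _
    rw [hR]; exact Subgroup.mem_centralizer_singleton_iff
  have hconj1 : ∀ g : L, g * z * g⁻¹ ≠ 1 := fun g e => hz1 (by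
    have := congrArg (fun x => g⁻¹ * x * g) e; simpa [mul_assoc] using this)
  -- conjugated squares
  have hsq' : ∀ g x : L, x * (g * z * g⁻¹) = (g * z * g⁻¹) * x →
      x * x = 1 ∨ x * x = g * z * g⁻¹ := by
    intro g x hx
    have hm : g⁻¹ * x * g ∈ R := (hRC _).2 (by
      calc g⁻¹ * x * g * z = g⁻¹ * (x * (g * z * g⁻¹)) * g := by group
        _ = g⁻¹ * ((g * z * g⁻¹) * x) * g := by rw [hx]
        _ = _ := by group)
    rcases hsq _ hm with e | e
    · left
      calc x * x = g * (g⁻¹ * x * g * (g⁻¹ * x * g)) * g⁻¹ := by group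
        _ = 1 := by rw [e]; group
    · right
      calc x * x = g * (g⁻¹ * x * g * (g⁻¹ * x * g)) * g⁻¹ := by group
        _ = _ := by rw [e]
  have hnorm : ∀ n, n ∈ Subgroup.normalizer ((R : Subgroup L) : Set L) → n ∈ R := by
    intro n hn
    have h1 : n * r₀ * n⁻¹ ∈ R := (Subgroup.mem_normalizer_iff.1 hn r₀).1 hr₀
    have h2 : n * r₀ * n⁻¹ * (n * r₀ * n⁻¹) = n * z * n⁻¹ := by rw [← hr₀z]; group
    rcases hsq _ h1 with e | e <;> rw [h2] at e
    · exact absurd e (hconj1 n)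
    · exact (hRC n).2 (mul_inv_eq_iff_eq_mul.1 e)
  -- fusion of central elements
  let Z : L → Prop := fun a => a ∈ R ∧ ∀ x ∈ R, x * a = a * x
  have hburn : ∀ a b, Z a → Z b → (∃ g : L, g * a * g⁻¹ = b) → a = b := by
    rintro a b ha hb ⟨g, hg⟩
    have hfix : ∀ c, Z c → ∀ x ∈ R, (fun y => x * y * x⁻¹) '' ({c} : Set L) = {c} := fun c hc x hx => by
      rw [Set.image_singleton, hc.2 x hx, mul_inv_cancel_right]
    obtain ⟨n, hn, hne⟩ := Cfsg.Agent.S0076.result R {a} {b} (Set.singleton_subset_iff.2 ha.1)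
      (Set.singleton_subset_iff.2 hb.1) (hfix a ha) (hfix b hb) g (by rw [Set.image_singleton, hg])
    rw [Set.image_singleton, Set.singleton_eq_singleton_iff, ha.2 n (hnorm n hn),
      mul_inv_cancel_right] at hne
    exact hne
  have hzZ : Z z := ⟨hzR, fun x hx => (hRC x).1 hx⟩
  have hconjcases : ∀ a b, a ∈ R → b ∈ R → a * b * a⁻¹ * b⁻¹ = 1 ∨ a * b * a⁻¹ * b⁻¹ = z := by
    intro a b ha hb
    have key : ∀ x ∈ R, x * x = 1 ∨ x * x = z := hsq
    have hc : ∀ x ∈ R, Commute z x := fun x hx => ((hRC x).1 hx).symm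
    have e : a * b * a⁻¹ * b⁻¹ = (a * b) * (a * b) * (b⁻¹ * (a⁻¹ * a⁻¹) * b) * (b⁻¹ * b⁻¹) := by group
    have h3 : b⁻¹ * (a⁻¹ * a⁻¹) * b = a⁻¹ * a⁻¹ := by
      rcases key a⁻¹ ((R : Subgroup L).inv_mem ha) with e | e <;> rw [e]
      · group
      · rw [mul_assoc, (hc b hb).eq, inv_mul_cancel_left]
    rw [h3] at e
    rcases key _ ((R : Subgroup L).mul_mem ha hb) with e1 | e1 <;>
      rcases key _ ((R : Subgroup L).inv_mem ha) with e2 | e2 <;>
      rcases key _ ((R : Subgroup L).inv_mem hb) with e3 | e3 <;>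
      rw [e, e1, e2, e3] <;> simp [hzz]
  have hconjR : ∀ a b, a ∈ R → b ∈ R → a * b * a⁻¹ = b ∨ a * b * a⁻¹ = z * b := fun a b ha hb => by
    rcases hconjcases a b ha hb with e | e
    · exact Or.inl (mul_inv_eq_one.1 e)
    · exact Or.inr (mul_inv_eq_iff_eq_mul.1 e)
  -- the structure attached to a conjugate `t ≠ z` of `z` in `R`
  let T : L → Prop := fun t => t ∈ R ∧ t ≠ z ∧ ∃ g : L, g * z * g⁻¹ = t
  have hTnc : ∀ t, T t → ¬ Z t := fun t ht hZt => ht.2.1 (hburn _ _ hzZ hZt ht.2.2).symm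
  have hTtt : ∀ t, T t → t * t = 1 := by
    rintro t ⟨-, -, g, rfl⟩
    rw [show g * z * g⁻¹ * (g * z * g⁻¹) = g * (z * z) * g⁻¹ by group, hzz]; group
  have hP2 : ∀ t, T t → ∀ p ∈ R, p * t = t * p → p * p = 1 := by
    rintro t ⟨-, htz, g, rfl⟩ p hp hpt
    rcases hsq p hp with e | e
    · exact e
    · rcases hsq' g p hpt with e' | e'
      · exact e'
      · exact absurd (e'.symm.trans e) htz
  have hPc : ∀ t, T t → ∀ p ∈ R, ∀ q ∈ R, p * t = t * p → q * t = t * q → p * q = q * p := by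
    intro t ht p hp q hq hpt hqt
    have h1 := hP2 t ht _ ((R : Subgroup L).mul_mem hp hq)
      (show Commute (p * q) t from Commute.mul_left hpt hqt).eq
    have h2 : (p * q)⁻¹ = p * q := inv_eq_of_mul_eq_one_right h1
    rw [mul_inv_rev, inv_eq_of_mul_eq_one_right (hP2 t ht p hp hpt),
      inv_eq_of_mul_eq_one_right (hP2 t ht q hq hqt)] at h2
    exact h2.symm
  have hsplit : ∀ t, T t → ∀ p ∈ R, p * t = t * p → Z p ∨ Z (p * t) := by
    intro t ht p hp hpt
    obtain ⟨r, hr, hrt⟩ : ∃ r ∈ R, r * t ≠ t * r := by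
      by_contra h; push Not at h; exact hTnc t ht ⟨ht.1, h⟩
    have hrt' : r * t * r⁻¹ = z * t := (hconjR r t hr ht.1).resolve_left
      fun e => hrt (mul_inv_eq_iff_eq_mul.1 e)
    -- an element of `C_R(t)` commuting with `r` is central
    have hcen : ∀ q ∈ R, q * t = t * q → r * q = q * r → Z q := by
      intro q hq hqt hrq
      refine ⟨hq, fun x hx => ?_⟩
      rcases hconjR x t hx ht.1 with e | e
      · exact hPc t ht x hx q hq (mul_inv_eq_iff_eq_mul.1 e) hqt
      · have e2 : (r⁻¹ * x) * t * (r⁻¹ * x)⁻¹ = t := by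
          rw [show r⁻¹ * x * t * (r⁻¹ * x)⁻¹ = r⁻¹ * (x * t * x⁻¹) * r by group, e, ← hrt']
          group
        have h4 := hPc t ht _ ((R : Subgroup L).mul_mem ((R : Subgroup L).inv_mem hr) hx) q hq
          (mul_inv_eq_iff_eq_mul.1 e2) hqt
        calc x * q = r * (r⁻¹ * x * q) := by group
          _ = r * q * (r⁻¹ * x) := by rw [h4]; group
          _ = q * x := by rw [hrq]; group
    rcases hconjR r p hr hp with e | e
    · exact Or.inl (hcen p hp hpt (mul_inv_eq_iff_eq_mul.1 e))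
    · refine Or.inr (hcen _ ((R : Subgroup L).mul_mem hp ht.1)
        (show Commute (p * t) t from Commute.mul_left hpt rfl).eq (mul_inv_eq_iff_eq_mul.1 ?_))
      rw [show r * (p * t) * r⁻¹ = r * p * r⁻¹ * (r * t * r⁻¹) by group, e, hrt',
        show z * p * (z * t) = z * (p * z) * t by group, (hRC p).1 hp, ← mul_assoc z z p, hzz, one_mul]
  have hmove : ∀ t, T t → ∃ y, y * z * y⁻¹ = z * t ∧
      ∀ s, Z s → (y * s * y⁻¹ = s ∨ y * s * y⁻¹ = s * t) ∧ y * t * y⁻¹ = t := by
    intro t ht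
    obtain ⟨g, hg⟩ := ht.2.2
    have htz : t * z = z * t := (hRC t).1 ht.1
    -- elements of `C(t)` transported into `R`
    have hin : ∀ x, x * t = t * x → g⁻¹ * x * g ∈ R := fun x hx => (hRC _).2 (by
      calc g⁻¹ * x * g * z = g⁻¹ * (x * (g * z * g⁻¹)) * g := by group
        _ = g⁻¹ * ((g * z * g⁻¹) * x) * g := by rw [hg, hx]
        _ = _ := by group)
    have hcc : ∀ a b, a * t = t * a → b * t = t * b → a * b * a⁻¹ = b ∨ a * b * a⁻¹ = t * b := by
      intro a b ha hb
      rcases hconjR _ _ (hin a ha) (hin b hb) with e | e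
      · left
        calc a * b * a⁻¹ = g * (g⁻¹ * a * g * (g⁻¹ * b * g) * (g⁻¹ * a * g)⁻¹) * g⁻¹ := by group
          _ = _ := by rw [e]; group
      · right
        calc a * b * a⁻¹ = g * (g⁻¹ * a * g * (g⁻¹ * b * g) * (g⁻¹ * a * g)⁻¹) * g⁻¹ := by group
          _ = _ := by rw [e, ← hg]; group
    obtain ⟨y, hyt, hyz⟩ : ∃ y, y * t = t * y ∧ y * z ≠ z * y := by
      by_contra h
      push Not at h
      have h1 : g * r₀ * g⁻¹ * t = t * (g * r₀ * g⁻¹) := by
        rw [← hg]
        calc g * r₀ * g⁻¹ * (g * z * g⁻¹) = g * (r₀ * z) * g⁻¹ := by group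
          _ = g * (z * r₀) * g⁻¹ := by rw [(hRC r₀).1 hr₀]
          _ = _ := by group
      rcases hsq _ ((hRC _).2 (h _ h1)) with e | e
      · rw [show g * r₀ * g⁻¹ * (g * r₀ * g⁻¹) = g * (r₀ * r₀) * g⁻¹ by group, hr₀z] at e
        exact hconj1 g e
      · rw [show g * r₀ * g⁻¹ * (g * r₀ * g⁻¹) = g * (r₀ * r₀) * g⁻¹ by group, hr₀z, hg] at e
        exact ht.2.1 e
    refine ⟨y, ?_, fun s hs => ⟨?_, mul_inv_eq_iff_eq_mul.2 hyt⟩⟩
    · rw [(hcc y z hyt htz.symm).resolve_left fun e => hyz (mul_inv_eq_iff_eq_mul.1 e), htz]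
    · rcases hcc y s hyt (hs.2 t ht.1).symm with e | e
      · exact Or.inl e
      · exact Or.inr (by rw [e, hs.2 t ht.1])
  let W : Subgroup L := Subgroup.closure {x | x ∈ R ∧ ∃ g : L, g * z * g⁻¹ = x}
  have hzW : z ∈ W := Subgroup.subset_closure ⟨hzR, 1, by simp⟩
  have hTW : ∀ t, T t → t ∈ W := fun t ht => Subgroup.subset_closure ⟨ht.1, ht.2.2⟩
  have hzs : ∀ a, Z a → Z (a * z) := fun a ha => ⟨(R : Subgroup L).mul_mem ha.1 hzR,
    fun x hx => ((show Commute x a from ha.2 x hx).mul_right ((hRC x).1 hx)).eq⟩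
  have hclose : ∀ t, T t → ∀ p ∈ R, p * t = t * p → ∃ ψ, Z ψ ∧ p⁻¹ * ψ ∈ W ∧ ∃ y, y * p * y⁻¹ = ψ := by
    intro t ht p hp hpt
    have htt := hTtt t ht
    rcases hsplit t ht p hp hpt with h | h
    · exact ⟨p, h, by simp, 1, by simp⟩
    obtain ⟨y, hyz, hy⟩ := hmove t ht
    obtain ⟨s, rfl⟩ : ∃ s, p = s * t := ⟨p * t, by rw [mul_assoc, htt, mul_one]⟩
    rw [mul_assoc, htt, mul_one] at h
    obtain ⟨hs, hyt⟩ := hy s h
    obtain ⟨r, hr, hrt⟩ : ∃ r ∈ R, r * t ≠ t * r := by
      by_contra hc; push Not at hc; exact hTnc t ht ⟨ht.1, hc⟩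
    have hrt' : r * t * r⁻¹ = z * t := (hconjR r t hr ht.1).resolve_left
      fun e => hrt (mul_inv_eq_iff_eq_mul.1 e)
    rcases hs with hs | hs
    · refine ⟨s * z, hzs s h, ?_, y * r, ?_⟩
      · rw [show (s * t)⁻¹ * (s * z) = t⁻¹ * z by group]
        exact W.mul_mem (W.inv_mem (hTW t ht)) hzW
      · calc y * r * (s * t) * (y * r)⁻¹ = y * ((r * s) * t * r⁻¹) * y⁻¹ := by group
          _ = y * (s * (r * t * r⁻¹)) * y⁻¹ := by rw [h.2 r hr]; group
          _ = (y * s * y⁻¹) * ((y * z * y⁻¹) * (y * t * y⁻¹)) := by rw [hrt']; group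
          _ = s * z := by rw [hs, hyz, hyt, mul_assoc z, htt, mul_one]
    · refine ⟨s, h, by simpa using W.inv_mem (hTW t ht), y, ?_⟩
      calc y * (s * t) * y⁻¹ = (y * s * y⁻¹) * (y * t * y⁻¹) := by group
        _ = s := by rw [hs, hyt, mul_assoc, htt, mul_one]
  have hTcases : ∀ t c, T t → T c → c * t = t * c → c = t ∨ c = z * t := by
    intro t c ht hc hct
    rcases hsplit t ht c hc.1 hct with h | h
    · exact absurd h (hTnc c hc)
    obtain ⟨g, hg⟩ := hc.2.2
    obtain ⟨y, hyz, hy⟩ := hmove t ht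
    obtain ⟨s, rfl⟩ : ∃ s, c = s * t := ⟨c * t, by rw [mul_assoc, hTtt t ht, mul_one]⟩
    rw [mul_assoc, hTtt t ht, mul_one] at h
    obtain ⟨hs, hyt⟩ := hy s h
    obtain ⟨r, hr, hrt⟩ : ∃ r ∈ R, r * t ≠ t * r := by
      by_contra hx; push Not at hx; exact hTnc t ht ⟨ht.1, hx⟩
    have hrt' : r * t * r⁻¹ = z * t := (hconjR r t hr ht.1).resolve_left
      fun e => hrt (mul_inv_eq_iff_eq_mul.1 e)
    rcases hs with hs | hs
    · left
      have e : s * z = z := (hburn _ _ hzZ (hzs s h) ⟨y * r * g, by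
        calc y * r * g * z * (y * r * g)⁻¹ = y * r * (g * z * g⁻¹) * (y * r)⁻¹ := by group
          _ = y * ((r * s) * t * r⁻¹) * y⁻¹ := by rw [hg]; group
          _ = y * (s * (r * t * r⁻¹)) * y⁻¹ := by rw [h.2 r hr]; group
          _ = (y * s * y⁻¹) * ((y * z * y⁻¹) * (y * t * y⁻¹)) := by rw [hrt']; group
          _ = s * z := by rw [hs, hyz, hyt, mul_assoc z, hTtt t ht, mul_one]⟩).symm
      rw [mul_eq_right.1 e, one_mul]
    · right
      have e : z = s := hburn _ _ hzZ h ⟨y * g, by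
        calc y * g * z * (y * g)⁻¹ = y * (g * z * g⁻¹) * y⁻¹ := by group
          _ = (y * s * y⁻¹) * (y * t * y⁻¹) := by rw [hg]; group
          _ = s := by rw [hs, hyt, mul_assoc, hTtt t ht, mul_one]⟩
      rw [e]
  -- the focal subgroup lies in `W`
  have hfus : ∀ a ∈ R, ∀ g : L, g * a * g⁻¹ ∈ R → a⁻¹ * (g * a * g⁻¹) ∈ W := by
    intro a ha g hb
    have hcomW : ∀ h ∈ R, a⁻¹ * (h * a * h⁻¹) ∈ W := fun h hh => by
      rcases hconjR h a hh ha with e | e
      · rw [e, inv_mul_cancel]; exact W.one_mem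
      · rw [e, ← (hRC a).1 ha, inv_mul_cancel_left]; exact hzW
    rcases hsq a ha with e1 | e1
    swap
    · refine hcomW g ((hRC g).2 (mul_inv_eq_iff_eq_mul.1 ?_))
      have e2 : g * a * g⁻¹ * (g * a * g⁻¹) = g * z * g⁻¹ := by rw [← e1]; group
      rcases hsq _ hb with e | e <;> rw [e2] at e
      · exact absurd e (hconj1 g)
      · exact e
    let G' : L → Prop := fun x => Z x ∨ ∃ t, T t ∧ x * t = t * x
    have hgood : ∀ x ∈ R, G' x → ∃ ψ, Z ψ ∧ x⁻¹ * ψ ∈ W ∧ ∃ y, y * x * y⁻¹ = ψ := by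
      intro x hx h
      rcases h with h | ⟨t, ht, hxt⟩
      · exact ⟨x, h, by simp, 1, by simp⟩
      · exact hclose t ht x hx hxt
    -- a bad element has a small Sylow centralizer
    let A : L → Subgroup L := fun x => (R : Subgroup L) ⊓ Subgroup.centralizer ({x} : Set L)
    have honly : ∀ x, ¬ G' x → ∀ n, n * z * n⁻¹ ∈ A x → n ∈ R := fun x hx n hn => by
      by_contra h
      refine hx (Or.inr ⟨n * z * n⁻¹, ⟨hn.1, fun e => h ((hRC n).2 (mul_inv_eq_iff_eq_mul.1 e)),
        n, rfl⟩, ?_⟩)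
      exact (Subgroup.mem_centralizer_singleton_iff.1 hn.2).symm
    have hzA : ∀ x ∈ R, z ∈ A x := fun x hx =>
      ⟨hzR, Subgroup.mem_centralizer_singleton_iff.2 ((hRC x).1 hx).symm⟩
    have hmax : ∀ x ∈ R, ¬ G' x → ∀ S : Subgroup L, IsPGroup 2 ↥S → A x ≤ S →
        S ≤ Subgroup.centralizer ({x} : Set L) → S = A x := by
      intro x hxR hx S hS hAS hSC
      by_contra hne
      have hlt : (A x).subgroupOf S < ⊤ := lt_top_iff_ne_top.2 fun h =>
        hne (le_antisymm (Subgroup.subgroupOf_eq_top.1 h) hAS)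
      have := (Group.normalizerCondition_of_isNilpotent (h := hS.isNilpotent)) _ hlt
      obtain ⟨⟨n, hnS⟩, hn, hnA⟩ := SetLike.exists_of_lt this
      refine hnA ⟨honly x hx n ?_, hSC hnS⟩
      exact (Subgroup.mem_normalizer_iff.1 hn ⟨z, hAS (hzA x hxR)⟩).1 (hzA x hxR)
    have hbad : ∀ x ∈ R, ∀ y : L, y * x * y⁻¹ ∈ R → ¬ G' x → Z (y * x * y⁻¹) → False := by
      intro x hx y _ hbx hZy
      -- a conjugate of `R` centralises `x`
      have hAp : IsPGroup 2 ↥((A x).subgroupOf (Subgroup.centralizer ({x} : Set L))) :=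
        (R.isPGroup'.to_le inf_le_left).comap_of_injective _ Subtype.val_injective
      obtain ⟨S, hS⟩ := hAp.exists_le_sylow
      have hSm : ((S : Subgroup _).map (Subgroup.centralizer ({x} : Set L)).subtype) = A x :=
        hmax x hx hbx _ (S.isPGroup'.map _)
          (fun u hu => ⟨⟨u, hu.2⟩, hS hu, rfl⟩) (Subgroup.map_subtype_le _)
      let R' : Subgroup L := (R : Subgroup L).map (MulAut.conj y⁻¹).toMonoidHom
      have hR'C : R' ≤ Subgroup.centralizer ({x} : Set L) := by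
        rintro _ ⟨u, hu, rfl⟩
        refine Subgroup.mem_centralizer_singleton_iff.2 ?_
        show y⁻¹ * u * y⁻¹⁻¹ * x = x * (y⁻¹ * u * y⁻¹⁻¹)
        calc y⁻¹ * u * y⁻¹⁻¹ * x = y⁻¹ * (u * (y * x * y⁻¹)) * y := by group
          _ = y⁻¹ * ((y * x * y⁻¹) * u) * y := by rw [hZy.2 u hu]
          _ = _ := by group
      have hR'p : IsPGroup 2 ↥(R'.subgroupOf (Subgroup.centralizer ({x} : Set L))) :=
        (R.isPGroup'.map _).comap_of_injective _ Subtype.val_injective
      obtain ⟨S', hS'⟩ := hR'p.exists_le_sylow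
      have hle : Nat.card ↥R' ≤ Nat.card ↥(A x) := by
        rw [← hSm, Subgroup.card_map_of_injective (Subgroup.subtype_injective _),
          ← Nat.card_congr (Sylow.equiv S' S).toEquiv,
          ← Nat.card_congr (Subgroup.subgroupOfEquivOfLe hR'C).toEquiv]
        exact Subgroup.card_le_of_le hS'
      rw [Subgroup.card_map_of_injective (MulAut.conj y⁻¹).injective] at hle
      have hAR : A x = (R : Subgroup L) := Subgroup.eq_of_le_of_card_ge inf_le_left hle
      refine hbx (Or.inl ⟨hx, fun u hu => ?_⟩)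
      exact Subgroup.mem_centralizer_singleton_iff.1 (hAR.ge hu).2
    by_cases hGa : G' a
    · by_cases hGb : G' (g * a * g⁻¹)
      · obtain ⟨ψ, hψ, hψW, y, hy⟩ := hgood a ha hGa
        obtain ⟨φ, hφ, hφW, y', hy'⟩ := hgood _ hb hGb
        have e : ψ = φ := hburn ψ φ hψ hφ ⟨y' * g * y⁻¹, by rw [← hy, ← hy']; group⟩
        have := W.mul_mem hψW (W.inv_mem hφW)
        rw [e] at this
        simpa [mul_assoc] using this
      · obtain ⟨ψ, hψ, -, y, hy⟩ := hgood a ha hGa
        exact (hbad _ hb (y * g⁻¹) (by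
          rw [show y * g⁻¹ * (g * a * g⁻¹) * (y * g⁻¹)⁻¹ = y * a * y⁻¹ by group, hy]; exact hψ.1)
          hGb (by rw [show y * g⁻¹ * (g * a * g⁻¹) * (y * g⁻¹)⁻¹ = y * a * y⁻¹ by group, hy]; exact hψ)).elim
    · by_cases hGb : G' (g * a * g⁻¹)
      · obtain ⟨φ, hφ, -, y, hy⟩ := hgood _ hb hGb
        exact (hbad a ha (y * g) (by
          rw [show y * g * a * (y * g)⁻¹ = y * (g * a * g⁻¹) * y⁻¹ by group, hy]; exact hφ.1)
          hGa (by rw [show y * g * a * (y * g)⁻¹ = y * (g * a * g⁻¹) * y⁻¹ by group, hy]; exact hφ)).elim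
      · -- both bad: conjugate in `R`
        set b := g * a * g⁻¹ with hbdef
        have hga : (A a).map (MulAut.conj g).toMonoidHom ≤ Subgroup.centralizer ({b} : Set L) := by
          rintro _ ⟨u, hu, rfl⟩
          refine Subgroup.mem_centralizer_singleton_iff.2 ?_
          show g * u * g⁻¹ * b = b * (g * u * g⁻¹)
          rw [hbdef]
          calc g * u * g⁻¹ * (g * a * g⁻¹) = g * (u * a) * g⁻¹ := by group
            _ = g * (a * u) * g⁻¹ := by rw [Subgroup.mem_centralizer_singleton_iff.1 hu.2]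
            _ = _ := by group
        have hp1 : IsPGroup 2 ↥(((A a).map (MulAut.conj g).toMonoidHom).subgroupOf
            (Subgroup.centralizer ({b} : Set L))) :=
          ((R.isPGroup'.to_le inf_le_left).map _).comap_of_injective _ Subtype.val_injective
        have hp2 : IsPGroup 2 ↥((A b).subgroupOf (Subgroup.centralizer ({b} : Set L))) :=
          (R.isPGroup'.to_le inf_le_left).comap_of_injective _ Subtype.val_injective
        obtain ⟨S₁, hS₁⟩ := hp1.exists_le_sylow
        obtain ⟨S₂, hS₂⟩ := hp2.exists_le_sylow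
        have hS₂m := hmax b hb hGb _ (S₂.isPGroup'.map (Subgroup.centralizer ({b} : Set L)).subtype)
          (fun u hu => ⟨⟨u, hu.2⟩, hS₂ hu, rfl⟩) (Subgroup.map_subtype_le _)
        obtain ⟨h, hh⟩ := MulAction.exists_smul_eq ↥(Subgroup.centralizer ({b} : Set L)) S₁ S₂
        have hz' : (h : L) * (g * z * g⁻¹) * (h : L)⁻¹ ∈ A b := by
          rw [← hS₂m]
          refine ⟨h * ⟨g * z * g⁻¹, hga ⟨z, hzA a ha, rfl⟩⟩ * h⁻¹, ?_, rfl⟩
          show _ ∈ (S₂ : Subgroup ↥(Subgroup.centralizer ({b} : Set L)))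
          rw [← hh, Sylow.coe_subgroup_smul]
          exact ⟨_, hS₁ (show (⟨g * z * g⁻¹, hga ⟨z, hzA a ha, rfl⟩⟩ :
            ↥(Subgroup.centralizer ({b} : Set L))) ∈ _ from ⟨z, hzA a ha, rfl⟩), rfl⟩
        have hhg := honly b hGb ((h : L) * g) (by
          rwa [show (h : L) * g * z * ((h : L) * g)⁻¹ = h * (g * z * g⁻¹) * (h : L)⁻¹ by group])
        have hhb : (h : L) * b = b * h := Subgroup.mem_centralizer_singleton_iff.1 h.2
        have := hcomW _ hhg
        rwa [show (h : L) * g * a * ((h : L) * g)⁻¹ = b from by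
          rw [show (h : L) * g * a * ((h : L) * g)⁻¹ = (h : L) * (g * a * g⁻¹) * (h : L)⁻¹ by group, ← hbdef,
            hhb, mul_inv_cancel_right]] at this
  have hcomtop : commutator L = ⊤ := by
    rcases (inferInstance : (commutator L).Normal).eq_bot_or_eq_top with h | h
    · exact absurd ⟨⟨fun a b => commutatorElement_eq_one_iff_mul_comm.1
        (Subgroup.mem_bot.1 (h ▸ Subgroup.commutator_mem_commutator (Subgroup.mem_top a)
          (Subgroup.mem_top b)))⟩⟩ hL
    · exact h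
  have hRW : (R : Subgroup L) ≤ W := by
    have := Subgroup.commutator_inf_eq_focalSubgroup R
    rw [hcomtop, top_inf_eq] at this
    rw [this, Subgroup.focalSubgroup_def, Subgroup.closure_le]
    rintro _ ⟨hcR, x, hx, u, rfl⟩
    have hb : u * x⁻¹ * u⁻¹ ∈ R := by
      have := (R : Subgroup L).mul_mem ((R : Subgroup L).inv_mem hx) hcR
      rwa [show x⁻¹ * ⁅x, u⁆ = u * x⁻¹ * u⁻¹ by rw [commutatorElement_def]; group] at this
    have := hfus x⁻¹ ((R : Subgroup L).inv_mem hx) u hb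
    rwa [inv_inv, show x * (u * x⁻¹ * u⁻¹) = ⁅x, u⁆ by rw [commutatorElement_def]; group] at this
  -- two non-commuting conjugates
  have hnab : ∃ t u, T t ∧ T u ∧ t * u ≠ u * t := by
    by_contra hc
    push Not at hc
    by_cases hex : ∃ t, T t
    · obtain ⟨t, ht⟩ := hex
      refine hTnc t ht ⟨ht.1, fun x hx => ?_⟩
      have hle : W ≤ Subgroup.centralizer ({t} : Set L) := (Subgroup.closure_le _).2 (by
        rintro c ⟨hc', hcz⟩
        refine Subgroup.mem_centralizer_singleton_iff.2 ?_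
        by_cases e : c = z
        · subst e; exact ((hRC t).1 ht.1).symm
        · exact hc c t ⟨hc', e, hcz⟩ ht)
      exact Subgroup.mem_centralizer_singleton_iff.1 (hle (hRW hx))
    · push Not at hex
      have hle : W ≤ Subgroup.zpowers z := (Subgroup.closure_le _).2 (by
        rintro c ⟨hc', hcz⟩
        by_cases e : c = z
        · subst e; exact Subgroup.mem_zpowers _
        · exact absurd ⟨hc', e, hcz⟩ (hex c))
      obtain ⟨k, hk⟩ := Subgroup.mem_zpowers_iff.1 (hle (hRW hr₀))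
      apply hz1
      rw [← hr₀z, ← hk, ← zpow_add, show k + k = 2 * k by ring, zpow_mul, zpow_two, hzz, one_zpow]
  obtain ⟨t, u, ht, hu, htu⟩ := hnab
  have htt := hTtt t ht
  have huu := hTtt u hu
  have htu' : t * u * t⁻¹ = z * u := (hconjR t u ht.1 hu.1).resolve_left
    fun e => htu (mul_inv_eq_iff_eq_mul.1 e)
  have hut' : u * t * u⁻¹ = z * t := (hconjR u t hu.1 ht.1).resolve_left
    fun e => htu (mul_inv_eq_iff_eq_mul.1 e).symm
  have htut : t * u * (t * u) = z := by
    calc t * u * (t * u) = (t * u * t⁻¹) * (t * t) * u := by group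
      _ = z * (u * u) := by rw [htu', htt]; group
      _ = z := by rw [huu, mul_one]
  have hord : orderOf (t * u) = 4 := orderOf_eq_prime_pow (p := 2) (n := 1)
    (by rw [pow_one, sq, htut]; exact hz1)
    (by rw [show 2 ^ (1 + 1) = 2 * 2 from rfl, pow_mul, sq, sq, htut, hzz])
  have hgen : (R : Subgroup L) = Subgroup.closure ({t, u} : Set L) := by
    refine le_antisymm (hRW.trans ((Subgroup.closure_le _).2 ?_)) ((Subgroup.closure_le _).2 ?_)
    · rintro c ⟨hcR, hcz⟩
      have ht' : t ∈ Subgroup.closure ({t, u} : Set L) := Subgroup.subset_closure (Or.inl rfl)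
      have hu' : u ∈ Subgroup.closure ({t, u} : Set L) := Subgroup.subset_closure (Or.inr rfl)
      have hz' : z ∈ Subgroup.closure ({t, u} : Set L) :=
        htut ▸ mul_mem (mul_mem ht' hu') (mul_mem ht' hu')
      by_cases hcz' : c = z
      · exact hcz' ▸ hz'
      have hcT : T c := ⟨hcR, hcz', hcz⟩
      by_cases hct : c * t = t * c
      · rcases hTcases t c ht hcT hct with rfl | rfl
        · exact ht'
        · exact mul_mem hz' ht'
      by_cases hcu : c * u = u * c
      · rcases hTcases u c hu hcT hcu with rfl | rfl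
        · exact hu'
        · exact mul_mem hz' hu'
      exfalso
      have hct' : c * t * c⁻¹ = z * t := (hconjR c t hcR ht.1).resolve_left
        fun e => hct (mul_inv_eq_iff_eq_mul.1 e)
      have hcu' : c * u * c⁻¹ = z * u := (hconjR c u hcR hu.1).resolve_left
        fun e => hcu (mul_inv_eq_iff_eq_mul.1 e)
      have hpt : c * u * t = t * (c * u) := mul_inv_eq_iff_eq_mul.1 (by
        rw [show c * u * t * (c * u)⁻¹ = c * (u * t * u⁻¹) * c⁻¹ by group, hut',
          show c * (z * t) * c⁻¹ = (c * z) * t * c⁻¹ by group, (hRC c).1 hcR,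
          show z * c * t * c⁻¹ = z * (c * t * c⁻¹) by group, hct', ← mul_assoc, hzz, one_mul])
      have hsq1 := hP2 t ht _ ((R : Subgroup L).mul_mem hcR hu.1) hpt
      have : c * u = u * c := by
        have h2 : (c * u)⁻¹ = c * u := inv_eq_of_mul_eq_one_right hsq1
        rw [mul_inv_rev, inv_eq_of_mul_eq_one_right (hTtt c hcT), inv_eq_of_mul_eq_one_right huu] at h2
        exact h2.symm
      exact hcu this
    · rintro x (rfl | rfl)
      · exact ht.1
      · exact hu.1
  have ho : ∀ x, T x → orderOf x = 2 := fun x hx => orderOf_eq_prime (by rw [sq, hTtt x hx])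
    (fun e => hTnc x hx ⟨hx.1, fun y _ => by rw [e, mul_one, one_mul]⟩)
  obtain ⟨e⟩ := Cfsg.Agent.S0206.result t u (ho t ht) (ho u hu) (fun e => htu (by rw [e]))
  rw [hord] at e
  exact ⟨(MulEquiv.subgroupCongr hgen).trans e⟩

end Cfsg.Agent.S5435
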