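import Cfsg.Statements.S5436
import Cfsg.Agent.LargeExtra.Singular
import Cfsg.Agent.Layer.FStar
import Mathlib.GroupTheory.FixedPointFree

set_option autoImplicit false
open Cfsg

namespace Cfsg.Agent.S5436

/-- Let z be an involution of the finite group G with centralizer H whose generalized Fitting subgroup Q is extraspecial of width at least 2 (order 2^(2w+1), w ≥ 2); suppose some conjugate of z other than z lies in Q, H/Q is a non-abelian simple group, H acts irreducibly by conjugation on Q modulo the subgroup generated by z (the only H-invariant subgroups of Q containing z are that subgroup and Q), and Q is not the subgroup generated by the conjugates of z lying in H. Then G is simple. -/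
theorem result {G : Type*} [Group G] [Finite G] (z : G) (hz : orderOf z = 2) (Q : Subgroup (Subgroup.centralizer ({z} : Set G))) [Q.Normal] (hF : Cfsg.generalizedFittingSubgroup ↥(Subgroup.centralizer ({z} : Set G)) = Q) (hQ : Cfsg.IsExtraspecial 2 ↥Q) (w : ℕ) (hw : 2 ≤ w) (hcard : Nat.card ↥Q = 2 ^ (2 * w + 1)) (hnwc : ∃ g : G, (∃ hq : g * z * g⁻¹ ∈ Subgroup.centralizer ({z} : Set G), (⟨g * z * g⁻¹, hq⟩ : Subgroup.centralizer ({z} : Set G)) ∈ Q) ∧ g * z * g⁻¹ ≠ z) (hsimp : IsSimpleGroup (↥(Subgroup.centralizer ({z} : Set G)) ⧸ Q)) (hna : ¬ IsMulCommutative (↥(Subgroup.centralizer ({z} : Set G)) ⧸ Q)) (hirr : ∀ W : Subgroup (Subgroup.centralizer ({z} : Set G)), W.Normal → W ≤ Q → (W = Q ∨ ∀ x ∈ W, (x : G) ∈ Subgroup.zpowers z)) (hwcl : Subgroup.closure {x : Subgroup.centralizer ({z} : Set G) | IsConj z (x : G)} ≠ Q) : IsSimpleGroup G := by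
  obtain ⟨g, ⟨hgH, hgQ⟩, hgz⟩ := hnwc
  have hz1 : z ≠ 1 := fun e => by rw [e, orderOf_one] at hz; omega
  have hzz : z * z = 1 := by rw [← sq, ← hz, pow_orderOf_eq_one]
  have hzi : z⁻¹ = z := inv_eq_of_mul_eq_one_right hzz
  have hg1 : g * z * g⁻¹ ≠ 1 := fun e => hz1 (by
    have := congrArg (fun x => g⁻¹ * x * g) e; simpa [mul_assoc] using this)
  have hzp : ∀ x, x ∈ Subgroup.zpowers z → x = 1 ∨ x = z := fun x hx => by
    obtain ⟨k, hk⟩ := Subgroup.mem_zpowers_iff.1 hx
    rcases Int.even_or_odd' k with ⟨j, rfl | rfl⟩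
    · left; rw [← hk, zpow_mul, zpow_two, hzz, one_zpow]
    · right; rw [← hk, zpow_add_one, zpow_mul, zpow_two, hzz, one_zpow, one_mul]
  let zH : ↥(Subgroup.centralizer ({z} : Set G)) := ⟨z, Subgroup.mem_centralizer_singleton_iff.2 rfl⟩
  have hCQ : Subgroup.centralizer (Q : Set ↥(Subgroup.centralizer ({z} : Set G))) ≤ Q := by
    have := Cfsg.Agent.Layer.centralizer_generalizedFitting_le (G := ↥(Subgroup.centralizer ({z} : Set G)))
    rwa [hF] at this
  have hzc : ∀ c : ↥(Subgroup.centralizer ({z} : Set G)), c * zH = zH * c := fun c =>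
    Subtype.ext (Subgroup.mem_centralizer_singleton_iff.1 c.2)
  have hzQ : zH ∈ Q := hCQ (Subgroup.mem_centralizer_iff.2 fun q _ => hzc q)
  have hcen : ∀ c : ↥(Subgroup.centralizer ({z} : Set G)), c ∈ Subgroup.centralizer (Q : Set ↥(Subgroup.centralizer ({z} : Set G))) → (c : G) = 1 ∨ (c : G) = z := by
    intro c hc
    rcases Cfsg.Agent.LargeExtra.center_cases hQ (z := zH) (c := c)
      (fun e => hz1 (congrArg Subtype.val e)) hzQ (fun q _ => hzc q) (hCQ hc)
      (fun q hq => Subgroup.mem_centralizer_iff.1 hc q hq) with e | e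
    · exact Or.inl (congrArg Subtype.val e)
    · exact Or.inr (congrArg Subtype.val e)
  set s : Set ↥(Subgroup.centralizer ({z} : Set G)) := {x : ↥(Subgroup.centralizer ({z} : Set G)) | IsConj z (x : G)}
  set X := Subgroup.closure s
  have hXn : X.Normal := ⟨fun n hn c => by
    have : X.map (MulAut.conj c).toMonoidHom ≤ X := by
      rw [MonoidHom.map_closure]
      apply (Subgroup.closure_le _).2
      rintro _ ⟨x, hx, rfl⟩
      refine Subgroup.subset_closure (IsConj.trans hx ?_)
      exact isConj_iff.2 ⟨c, rfl⟩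
    exact this ⟨n, hn, rfl⟩⟩
  have hgs : (⟨g * z * g⁻¹, hgH⟩ : ↥(Subgroup.centralizer ({z} : Set G))) ∈ X := Subgroup.subset_closure (isConj_iff.2 ⟨g, rfl⟩)
  have hQX : Q ≤ X := by
    rcases hirr (X ⊓ Q) inferInstance inf_le_right with h | h
    · exact h ▸ inf_le_left
    · exfalso
      rcases hzp _ (h _ ⟨hgs, hgQ⟩) with e | e
      · exact hg1 e
      · exact hgz e
  have hXtop : X = ⊤ := by
    have hn := hXn.map (QuotientGroup.mk' Q) (QuotientGroup.mk'_surjective Q)
    rcases hn.eq_bot_or_eq_top with h | h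
    · rw [Subgroup.map_eq_bot_iff, QuotientGroup.ker_mk'] at h
      exact absurd (le_antisymm h hQX) hwcl
    · have := congrArg (Subgroup.comap (QuotientGroup.mk' Q)) h
      rwa [Subgroup.comap_map_eq, QuotientGroup.ker_mk', sup_eq_left.2 hQX,
        Subgroup.comap_top] at this
  have : Nontrivial G := ⟨⟨z, 1, hz1⟩⟩
  refine ⟨fun N hN => ?_⟩
  by_cases hzN : z ∈ N
  · right
    have hHN : (Subgroup.centralizer ({z} : Set G)) ≤ N := by
      intro c hc
      have h1 : X ≤ N.subgroupOf (Subgroup.centralizer ({z} : Set G)) := (Subgroup.closure_le _).2 fun x hx => by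
        obtain ⟨a, ha⟩ := isConj_iff.1 hx
        show (x : G) ∈ N
        rw [← ha]
        exact hN.conj_mem z hzN a
      exact h1 (show (⟨c, hc⟩ : ↥(Subgroup.centralizer ({z} : Set G))) ∈ X by rw [hXtop]; trivial)
    have : Fact (Nat.Prime 2) := ⟨Nat.prime_two⟩
    obtain ⟨T⟩ := (inferInstance : Nonempty (Sylow 2 ↥(Subgroup.centralizer ({z} : Set G))))
    have hQT : Q ≤ T := by
      obtain ⟨T', hT'⟩ := hQ.1.1.exists_le_sylow
      obtain ⟨a, ha⟩ := MulAction.exists_smul_eq (↥(Subgroup.centralizer ({z} : Set G))) T' T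
      intro q hq
      rw [← ha]
      refine ⟨a⁻¹ * q * a, hT' ?_, ?_⟩
      · simpa using (inferInstance : Q.Normal).conj_mem q hq a⁻¹
      · simp [MulAut.smul_def, mul_assoc]
    set T₀ := (T : Subgroup ↥(Subgroup.centralizer ({z} : Set G))).map (Subgroup.centralizer ({z} : Set G)).subtype with hT₀
    obtain ⟨S, hTS⟩ := (T.isPGroup'.map (Subgroup.centralizer ({z} : Set G)).subtype).exists_le_sylow
    have hzT : z ∈ T₀ := ⟨zH, hQT hzQ, rfl⟩
    have hnorm : Subgroup.normalizer (T₀ : Set G) ≤ (Subgroup.centralizer ({z} : Set G)) := by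
      intro n hn
      obtain ⟨c, hc, hce⟩ := (Subgroup.mem_normalizer_iff.1 hn z).1 hzT
      change (c : G) = n * z * n⁻¹ at hce
      have hcc : c ∈ Subgroup.centralizer (Q : Set ↥(Subgroup.centralizer ({z} : Set G))) := by
        refine Subgroup.mem_centralizer_iff.2 fun q hq => ?_
        have hq' : n⁻¹ * (q : G) * n ∈ T₀ := by
          simpa using (Subgroup.mem_normalizer_iff.1 (inv_mem hn) (q : G)).1 ⟨q, hQT hq, rfl⟩
        obtain ⟨d, _, hde⟩ := hq'
        change (d : G) = n⁻¹ * (q : G) * n at hde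
        have hdz := Subgroup.mem_centralizer_singleton_iff.1 d.2
        rw [hde] at hdz
        apply Subtype.ext
        show (q : G) * c = c * q
        rw [hce]
        calc (q : G) * (n * z * n⁻¹) = n * (n⁻¹ * (q : G) * n * z) * n⁻¹ := by group
          _ = n * (z * (n⁻¹ * (q : G) * n)) * n⁻¹ := by rw [hdz]
          _ = _ := by group
      rcases hcen c hcc with e | e
      · exfalso
        rw [hce] at e
        exact hz1 (by have := congrArg (fun x => n⁻¹ * x * n) e; simpa [mul_assoc] using this)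
      · rw [hce] at e
        exact Subgroup.mem_centralizer_singleton_iff.2 (mul_inv_eq_iff_eq_mul.1 e)
    have hSH : ∀ x ∈ S, x ∈ (Subgroup.centralizer ({z} : Set G)) → x ∈ T₀ := by
      intro x hx hxH
      have hp : IsPGroup 2 ↥((S : Subgroup G).subgroupOf (Subgroup.centralizer ({z} : Set G))) :=
        S.isPGroup'.comap_of_injective (Subgroup.centralizer ({z} : Set G)).subtype Subtype.val_injective
      have := T.is_maximal' hp (fun t ht => hTS ⟨t, ht, rfl⟩)
      exact ⟨⟨x, hxH⟩, this ▸ (show (⟨x, hxH⟩ : ↥(Subgroup.centralizer ({z} : Set G))) ∈ (S : Subgroup G).subgroupOf (Subgroup.centralizer ({z} : Set G)) from hx), rfl⟩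
    have hST : (S : Subgroup G) = T₀ := by
      by_contra hne
      have hlt : T₀.subgroupOf S < ⊤ := lt_top_iff_ne_top.2 fun h =>
        hne (le_antisymm (Subgroup.subgroupOf_eq_top.1 h) hTS)
      have := (Group.normalizerCondition_of_isNilpotent (h := S.isPGroup'.isNilpotent)) _ hlt
      obtain ⟨⟨x, hx⟩, hxn, hxT⟩ := SetLike.exists_of_lt this
      refine hxT (hSH x hx (hnorm (Subgroup.mem_normalizer_iff.2 fun y => ?_)))
      constructor
      · intro hy
        exact (Subgroup.mem_normalizer_iff.1 hxn ⟨y, hTS hy⟩).1 hy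
      · intro hy
        have hyS : y ∈ (S : Subgroup G) := by
          have := mul_mem (mul_mem ((S : Subgroup G).inv_mem hx) (hTS hy)) hx
          simpa [mul_assoc] using this
        exact (Subgroup.mem_normalizer_iff.1 hxn ⟨y, hyS⟩).2 hy
    have hSN : (S : Subgroup G) ≤ N := hST ▸ fun x hx => hHN (Subgroup.map_subtype_le _ hx)
    have htop := S.normalizer_sup_eq_top' hSN
    rw [eq_top_iff, ← htop]
    exact sup_le (le_trans (show Subgroup.normalizer ((S : Subgroup G) : Set G) ≤ _ by rw [hST]; exact hnorm) hHN) le_rfl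
  · left
    have hC1 : ∀ n ∈ N, n * z = z * n → n = 1 := by
      intro n hn hnz
      have hd : Disjoint (N.subgroupOf (Subgroup.centralizer ({z} : Set G))) Q := by
        rcases hirr (N.subgroupOf (Subgroup.centralizer ({z} : Set G)) ⊓ Q) inferInstance inf_le_right with h | h
        · exact absurd (show zH ∈ N.subgroupOf (Subgroup.centralizer ({z} : Set G)) from (h.ge hzQ).1) hzN
        · rw [disjoint_iff, eq_bot_iff]
          intro x hx
          rcases hzp _ (h x hx) with e | e
          · exact Subtype.ext e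
          · exact absurd (e ▸ hx.1 : z ∈ N) hzN
      set c : ↥(Subgroup.centralizer ({z} : Set G)) := ⟨n, Subgroup.mem_centralizer_singleton_iff.2 hnz⟩
      have hc : c ∈ Subgroup.centralizer (Q : Set ↥(Subgroup.centralizer ({z} : Set G))) := Subgroup.mem_centralizer_iff.2 fun q hq =>
        (Subgroup.commute_of_normal_of_disjoint _ _ inferInstance inferInstance hd c q hn hq).symm
      exact congrArg Subtype.val (Subgroup.mem_bot.1 (hd.le_bot ⟨hn, hCQ hc⟩))
    have hinv : ∀ n ∈ N, z * n * z⁻¹ = n⁻¹ := by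
      let φ : ↥N →* ↥N := (MulAut.conjNormal z).toMonoidHom
      have hφ : ∀ m : ↥N, ((φ m : ↥N) : G) = z * m * z⁻¹ := fun m => MulAut.conjNormal_apply z m
      have hfp : MonoidHom.FixedPointFree φ := fun m hm => by
        apply Subtype.ext
        refine hC1 m m.2 ?_
        have := congrArg Subtype.val hm
        rw [hφ] at this
        exact (mul_inv_eq_iff_eq_mul.1 this).symm
      have h2 : Function.Involutive φ := fun m => by
        apply Subtype.ext
        rw [hφ, hφ, hzi, ← mul_assoc, ← mul_assoc, hzz, one_mul, mul_assoc, hzz, mul_one]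
      intro n hn
      have := congrArg Subtype.val (congrFun (MonoidHom.FixedPointFree.coe_eq_inv_of_involutive hfp h2) ⟨n, hn⟩)
      rw [hφ] at this
      exact this
    rw [eq_bot_iff]
    intro n hn
    refine Subgroup.mem_bot.2 (hC1 n hn ?_)
    have hW : zH * ⟨g * z * g⁻¹, hgH⟩ ∈ Q ⊓ (Subgroup.centralizer (N : Set G)).subgroupOf (Subgroup.centralizer ({z} : Set G)) := by
      refine ⟨mul_mem hzQ hgQ, Subgroup.mem_centralizer_iff.2 fun m hm => ?_⟩
      show m * (z * (g * z * g⁻¹)) = z * (g * z * g⁻¹) * m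
      have h1 : g * z * g⁻¹ * m * (g * z * g⁻¹)⁻¹ = m⁻¹ := by
        have h0 := hinv (g⁻¹ * m * g) (by simpa using hN.conj_mem m hm g⁻¹)
        calc g * z * g⁻¹ * m * (g * z * g⁻¹)⁻¹ = g * (z * (g⁻¹ * m * g) * z⁻¹) * g⁻¹ := by group
          _ = g * (g⁻¹ * m * g)⁻¹ * g⁻¹ := by rw [h0]
          _ = m⁻¹ := by group
      have h2 : z * (g * z * g⁻¹ * m * (g * z * g⁻¹)⁻¹) * z⁻¹ = m := by
        rw [h1, hinv _ (N.inv_mem hm), inv_inv]
      calc m * (z * (g * z * g⁻¹)) = z * (g * z * g⁻¹ * m * (g * z * g⁻¹)⁻¹) * z⁻¹ * (z * (g * z * g⁻¹)) := by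
            rw [h2]
        _ = z * (g * z * g⁻¹) * m := by group
    rcases hirr _ inferInstance (inf_le_left :
        Q ⊓ (Subgroup.centralizer (N : Set G)).subgroupOf (Subgroup.centralizer ({z} : Set G)) ≤ Q) with h | h
    · exact Subgroup.mem_centralizer_iff.1 (h.ge hzQ).2 n hn
    · exfalso
      rcases hzp _ (h _ hW) with e | e
      · exact hgz ((eq_inv_of_mul_eq_one_right e).trans hzi)
      · exact hg1 (mul_eq_left.1 e)

end Cfsg.Agent.S5436
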