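import Cfsg.Statements.S5437
import Mathlib

set_option autoImplicit false
open Cfsg

namespace Cfsg.Agent.S5437

/-- Let I be a set of involutions of the finite group G closed under conjugation, and H a subgroup of G. The following are equivalent: (1) for every member x of I lying in H, the conjugates of x lying in H form a single H-class and the centralizer of x lies in H; (2) for every g outside H, no member of I lies in both H and g H g⁻¹; (3) every member of I lying in H fixes exactly one coset in the action of G on the cosets of H. -/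
theorem result {G : Type*} [Group G] [Finite G] (I : Set G) (hI : ∀ x ∈ I, orderOf x = 2) (hIc : ∀ g : G, ∀ x ∈ I, g * x * g⁻¹ ∈ I) (H : Subgroup G) : ((∀ x ∈ I, x ∈ H → (∀ g : G, g * x * g⁻¹ ∈ H → ∃ h ∈ H, h * x * h⁻¹ = g * x * g⁻¹) ∧ Subgroup.centralizer ({x} : Set G) ≤ H) ↔ (∀ g : G, g ∉ H → ∀ x ∈ I, ¬ (x ∈ H ∧ x ∈ (H : Subgroup G).map (MulAut.conj g).toMonoidHom))) ∧ ((∀ g : G, g ∉ H → ∀ x ∈ I, ¬ (x ∈ H ∧ x ∈ (H : Subgroup G).map (MulAut.conj g).toMonoidHom)) ↔ ∀ x ∈ I, x ∈ H → ∃! c : G ⧸ H, x • c = c) := by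
  have hfix : ∀ (x g : G), x • (g : G ⧸ H) = (g : G ⧸ H) ↔ g⁻¹ * x * g ∈ H := by
    intro x g
    rw [MulAction.Quotient.smul_coe, smul_eq_mul, QuotientGroup.eq, ← H.inv_mem_iff]
    simp [mul_assoc]
  have hmap : ∀ (x g : G), x ∈ H.map (MulAut.conj g).toMonoidHom ↔ g⁻¹ * x * g ∈ H := by
    intro x g
    rw [Subgroup.mem_map_equiv, MulAut.conj_symm_apply]
  simp only [hmap]
  refine ⟨⟨fun hA g hg x hx ⟨hxH, hgx⟩ => ?_, fun hB x hx hxH => ⟨fun g hgx => ?_, fun c hc => ?_⟩⟩,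
    ⟨fun hB x hx hxH => ?_, fun hC g hg x hx ⟨hxH, hgx⟩ => ?_⟩⟩
  · obtain ⟨hA1, hA2⟩ := hA x hx hxH
    obtain ⟨h, hh, he⟩ := hA1 g⁻¹ (by rwa [inv_inv])
    rw [inv_inv] at he
    have hc : g * h ∈ H := hA2 <| Subgroup.mem_centralizer_iff.2 fun y hy => by
      rw [Set.mem_singleton_iff.1 hy]
      calc x * (g * h) = g * (g⁻¹ * x * g) * h := by group
        _ = g * (h * x * h⁻¹) * h := by rw [he]
        _ = g * h * x := by group
    exact hg (by simpa using H.mul_mem hc (H.inv_mem hh))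
  · refine ⟨g, ?_, rfl⟩
    by_contra hgH
    exact hB g⁻¹ (by simpa using hgH) x hx ⟨hxH, by rwa [inv_inv]⟩
  · by_contra hcH
    refine hB c hcH x hx ⟨hxH, ?_⟩
    rw [mul_assoc, Subgroup.mem_centralizer_iff.1 hc x rfl]
    simpa using hxH
  · refine ⟨((1 : G) : G ⧸ H), (hfix x 1).2 (by simpa using hxH), fun c hc => ?_⟩
    induction c using QuotientGroup.induction_on with
    | H g =>
      rw [QuotientGroup.eq, mul_one, H.inv_mem_iff]
      by_contra hgH
      exact hB g hgH x hx ⟨hxH, (hfix x g).1 hc⟩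
  · obtain ⟨c, -, hcu⟩ := hC x hx hxH
    have h1 := hcu ((1 : G) : G ⧸ H) ((hfix x 1).2 (by simpa using hxH))
    have h2 := hcu (g : G ⧸ H) ((hfix x g).2 hgx)
    have := QuotientGroup.eq.1 (h1.trans h2.symm)
    exact hg (by simpa using this)

end Cfsg.Agent.S5437
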