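import Cfsg.Statements.S5438
import Mathlib

set_option autoImplicit false
open Cfsg

namespace Cfsg.Agent.S5438

/-- Let z be a 2-central involution of the finite group G (an involution central in some Sylow 2-subgroup) and H a subgroup containing z such that the coset H is the only coset of H fixed by z (in the action of G on the cosets of H). Then H has odd index in G, and for every 2-element x of H the conjugates of x lying in H form a single H-class. -/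
theorem result {G : Type*} [Group G] [Finite G] (z : G) (hz : Cfsg.IsTwoCentralInvolution z) (H : Subgroup G) (hzH : z ∈ H) (hfix : ∀ g : G, g⁻¹ * z * g ∈ H → g ∈ H) : Odd H.index ∧ ∀ x ∈ H, (∃ k : ℕ, orderOf x = 2 ^ k) → ∀ g : G, g * x * g⁻¹ ∈ H → ∃ h ∈ H, h * x * h⁻¹ = g * x * g⁻¹ := by
  obtain ⟨hz2, P, hzP, hPz⟩ := hz
  haveI : Fact (Nat.Prime 2) := ⟨Nat.prime_two⟩
  have hA : ∀ u : G, u * z * u⁻¹ ∈ H → u ∈ H := fun u hu =>
    H.inv_mem_iff.1 (hfix u⁻¹ (by rwa [inv_inv]))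
  have hC : ∀ u : G, u * z * u⁻¹ ∈ H → ∀ y : G, Commute y (u * z * u⁻¹) → y ∈ H := by
    intro u hu y hy
    have h1 : u ∈ H := hA u hu
    have h2 : y * u ∈ H := hA (y * u) (by
      rw [show y * u * z * (y * u)⁻¹ = y * (u * z * u⁻¹) * y⁻¹ by group, hy.eq, mul_inv_cancel_right]
      exact hu)
    simpa using H.mul_mem h2 (H.inv_mem h1)
  have hPH : (P : Subgroup G) ≤ H := fun y hy =>
    hC 1 (by simpa using hzH) y (by simpa [commute_iff_eq] using hPz y hy)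
  have hodd : Odd H.index := by
    rw [← Nat.not_even_iff_odd, even_iff_two_dvd]
    exact fun h => P.not_dvd_index (h.trans (Subgroup.index_dvd_of_le hPH))
  refine ⟨hodd, fun x hx hx2 g hgx => ?_⟩
  have hcen : ∀ S : Subgroup G, IsPGroup 2 S → ∃ v : G, ∀ s ∈ S, Commute s (v * z * v⁻¹) := by
    intro S hS
    obtain ⟨R, hR⟩ := hS.exists_le_sylow
    obtain ⟨v, rfl⟩ := MulAction.exists_smul_eq G P R
    refine ⟨v, fun s hs => ?_⟩
    have := hR hs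
    rw [← SetLike.mem_coe, Sylow.coe_subgroup_smul, Subgroup.coe_pointwise_smul] at this
    obtain ⟨p, hp, rfl⟩ := this
    show v * p * v⁻¹ * (v * z * v⁻¹) = v * z * v⁻¹ * (v * p * v⁻¹)
    rw [show v * p * v⁻¹ * (v * z * v⁻¹) = v * (p * z) * v⁻¹ by group, hPz p hp]
    group
  have hB : ∀ y ∈ H, (∃ k : ℕ, orderOf y = 2 ^ k) →
      ∃ u : G, u * z * u⁻¹ ∈ H ∧ Commute y (u * z * u⁻¹) := by
    intro y hy ⟨k, hk⟩
    have hp : IsPGroup 2 (Subgroup.zpowers (⟨y, hy⟩ : H)) :=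
      IsPGroup.of_card (n := k) (by rw [Nat.card_zpowers, Subgroup.orderOf_mk, hk])
    obtain ⟨R, hR⟩ := hp.exists_le_sylow
    set R' : Subgroup G := (R : Subgroup H).map H.subtype with hR'
    have hyR : y ∈ R' := ⟨⟨y, hy⟩, hR (Subgroup.mem_zpowers _), rfl⟩
    have hpR : IsPGroup 2 R' := R.2.map _
    have hidx : ¬ 2 ∣ R'.index := by
      rw [hR', Subgroup.index_map_subtype, Nat.prime_two.dvd_mul, not_or]
      exact ⟨R.not_dvd_index, by rwa [← even_iff_two_dvd, Nat.not_even_iff_odd]⟩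
    obtain ⟨Q, hQ⟩ : ∃ Q : Sylow 2 G, (Q : Subgroup G) = R' := ⟨hpR.toSylow hidx, rfl⟩
    obtain ⟨u, rfl⟩ := MulAction.exists_smul_eq G P Q
    have hmem : ∀ p ∈ P, u * p * u⁻¹ ∈ R' := by
      intro p hp
      rw [← hQ, ← SetLike.mem_coe, Sylow.coe_subgroup_smul, Subgroup.coe_pointwise_smul]
      exact ⟨p, hp, rfl⟩
    refine ⟨u, Subgroup.map_subtype_le _ (hmem z hzP), ?_⟩
    rw [← hQ, ← SetLike.mem_coe, Sylow.coe_subgroup_smul, Subgroup.coe_pointwise_smul] at hyR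
    obtain ⟨p, hpP, rfl⟩ := hyR
    show u * p * u⁻¹ * (u * z * u⁻¹) = u * z * u⁻¹ * (u * p * u⁻¹)
    rw [show u * p * u⁻¹ * (u * z * u⁻¹) = u * (p * z) * u⁻¹ by group, hPz p hpP]
    group
  obtain ⟨u, huH, hux⟩ := hB x hx hx2
  obtain ⟨w, hwH, hwy⟩ := hB (g * x * g⁻¹) hgx (by
    obtain ⟨k, hk⟩ := hx2
    exact ⟨k, by rw [← MulAut.conj_apply, MulEquiv.orderOf_eq, hk]⟩)
  set C : Subgroup G := Subgroup.centralizer ({x} : Set G) with hCdef
  have hinv2 : ∀ v : G, orderOf (v * z * v⁻¹) = 2 := fun v => by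
    rw [← MulAut.conj_apply, MulEquiv.orderOf_eq, hz2]
  have h1 : u * z * u⁻¹ ∈ C := Subgroup.mem_centralizer_iff.2 (by simpa using hux.eq)
  have h2 : g⁻¹ * w * z * (g⁻¹ * w)⁻¹ ∈ C := by
    refine Subgroup.mem_centralizer_iff.2 fun y hy => ?_
    rw [Set.mem_singleton_iff.1 hy]
    calc x * (g⁻¹ * w * z * (g⁻¹ * w)⁻¹) = g⁻¹ * ((g * x * g⁻¹) * (w * z * w⁻¹)) * g := by group
      _ = g⁻¹ * ((w * z * w⁻¹) * (g * x * g⁻¹)) * g := by rw [hwy.eq]
      _ = _ := by group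
  have hsyl : ∀ a : C, orderOf (a : G) = 2 → ∃ S : Sylow 2 C, a ∈ S := by
    intro a ha
    have hp : IsPGroup 2 (Subgroup.zpowers a) :=
      IsPGroup.of_card (n := 1) (by rw [Nat.card_zpowers, ← Subgroup.orderOf_coe, ha, pow_one])
    obtain ⟨S, hS⟩ := hp.exists_le_sylow
    exact ⟨S, hS (Subgroup.mem_zpowers _)⟩
  obtain ⟨S, hS⟩ := hsyl ⟨_, h1⟩ (hinv2 u)
  obtain ⟨T, hT⟩ := hsyl ⟨_, h2⟩ (hinv2 _)
  obtain ⟨c, rfl⟩ := MulAction.exists_smul_eq C T S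
  have hmemS : c * ⟨_, h2⟩ * c⁻¹ ∈ (c • T : Sylow 2 C) := by
    show _ ∈ ((c • T : Sylow 2 C) : Subgroup C)
    rw [← SetLike.mem_coe, Sylow.coe_subgroup_smul, Subgroup.coe_pointwise_smul]
    exact ⟨_, hT, rfl⟩
  obtain ⟨v, hv⟩ := hcen (((c • T : Sylow 2 C) : Subgroup C).map C.subtype) ((c • T).2.map _)
  have hv0 : v * z * v⁻¹ ∈ H := hC u huH _ (hv _ ⟨_, hS, rfl⟩).symm
  have h3 : (c : G) * (g⁻¹ * w * z * (g⁻¹ * w)⁻¹) * (c : G)⁻¹ ∈ H :=
    hC v hv0 _ (hv _ ⟨_, hmemS, rfl⟩)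
  have h4 : (c : G) * g⁻¹ * w ∈ H := hA _ (by convert h3 using 1; group)
  have hcx : (c : G) * x = x * (c : G) :=
    (Subgroup.mem_centralizer_iff.1 c.2 x rfl).symm
  refine ⟨g * (c : G)⁻¹, ?_, ?_⟩
  · have := H.inv_mem (H.mul_mem h4 (H.inv_mem (hA w hwH)))
    simpa [mul_assoc] using this
  · calc g * (c : G)⁻¹ * x * (g * (c : G)⁻¹)⁻¹ = g * ((c : G)⁻¹ * (x * (c : G))) * g⁻¹ := by group
      _ = _ := by rw [← hcx]; group

end Cfsg.Agent.S5438
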