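import Cfsg.Statements.S5439
import Mathlib
import Cfsg.Agent.Invol.Pair

set_option autoImplicit false
open Cfsg

namespace Cfsg.Agent.S5439

/-- Let I and J be two different conjugacy classes of involutions of the finite group G and H a subgroup such that every member of I ∪ J fixes exactly one coset in the action on the cosets of H, and such that for every a in I ∩ H and every b in (I ∪ J) ∩ H different from a and commuting with it, the centralizer of a b lies in H. Then H = G. -/
theorem result {G : Type*} [Group G] [Finite G] (I J : Set G) (a₀ b₀ : G) (ha₀ : orderOf a₀ = 2) (hb₀ : orderOf b₀ = 2) (hI : I = {x | IsConj a₀ x}) (hJ : J = {x | IsConj b₀ x}) (hIJ : I ≠ J) (H : Subgroup G) (hfix : ∀ x ∈ I ∪ J, ∃! c : G ⧸ H, x • c = c) (hcent : ∀ a ∈ I, a ∈ H → ∀ b ∈ I ∪ J, b ∈ H → a ≠ b → a * b = b * a → Subgroup.centralizer ({a * b} : Set G) ≤ H) : H = ⊤ := by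
  subst hI hJ
  have hfx : ∀ (x g : G), x • (g : G ⧸ H) = (g : G ⧸ H) ↔ g⁻¹ * x * g ∈ H := by
    intro x g
    rw [MulAction.Quotient.smul_coe, smul_eq_mul, QuotientGroup.eq, ← H.inv_mem_iff]
    simp [mul_assoc]
  set S : Set G := {x | IsConj a₀ x} ∪ {x | IsConj b₀ x} with hS
  have hSc : ∀ x ∈ S, ∀ g : G, g * x * g⁻¹ ∈ S := by
    rintro x (hx | hx) g
    · exact Or.inl (IsConj.trans hx (isConj_iff.2 ⟨g, rfl⟩))
    · exact Or.inr (IsConj.trans hx (isConj_iff.2 ⟨g, rfl⟩))
  have huniq : ∀ x ∈ S, ∀ c d : G ⧸ H, x • c = c → x • d = d → c = d := by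
    intro x hx c d hc hd
    obtain ⟨e, -, he⟩ := hfix x hx
    exact (he c hc).trans (he d hd).symm
  have hne : ¬ IsConj a₀ b₀ := fun h => hIJ (by
    ext x
    exact ⟨fun hx => h.symm.trans hx, fun hx => h.trans hx⟩)
  -- every b fixes the coset of every a
  have key : ∀ a, IsConj a₀ a → ∀ b, IsConj b₀ b → ∀ c : G ⧸ H, a • c = c → b • c = c := by
    intro a ha b hb c hc
    have hao := Invol.orderOf_eq_two_of_isConj ha ha₀
    have hbo := Invol.orderOf_eq_two_of_isConj hb hb₀
    have heven : Even (orderOf (a * b)) := by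
      by_contra ho
      exact hne ((ha.trans (Invol.isConj_of_odd hao hbo (Nat.not_even_iff_odd.1 ho))).trans hb.symm)
    have hn : 0 < orderOf (a * b) := orderOf_pos _
    set z : G := (a * b) ^ (orderOf (a * b) / 2) with hz
    have hza : Commute z a := Invol.commute_central hao hbo heven
    have hzb : Commute z b := Invol.commute_central' hao hbo heven
    have hz2 := Invol.orderOf_central heven hn
    set a' : G := a * z with ha'
    have ha'S : a' ∈ S := by
      rcases Nat.even_or_odd' (orderOf (a * b) / 2) with ⟨j, hj | hj⟩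
      · obtain ⟨d, -, hd⟩ := Invol.exists_conj_eq hao hbo (j : ℤ)
        refine Or.inl (ha.trans (isConj_iff.2 ⟨d, hd.trans ?_⟩))
        rw [ha', hz, hj, ← zpow_natCast]
        push_cast
        rfl
      · refine Or.inr (hb.trans (isConj_iff.2 ⟨(a * b) ^ (-(j : ℤ)), ?_⟩))
        rw [ha', hz, hj, ← zpow_natCast, ← zpow_neg, neg_neg]
        push_cast
        calc (a * b) ^ (-(j : ℤ)) * b * (a * b) ^ (j : ℤ)
            = (a * b) ^ (-(j : ℤ)) * (a * (a * b) ^ (1 : ℤ)) * (a * b) ^ (j : ℤ) := by
              rw [Invol.self_mul_zpow_one hao]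
          _ = a * (a * b) ^ (j : ℤ) * (a * b) ^ (1 : ℤ) * (a * b) ^ (j : ℤ) := by
              rw [← mul_assoc _ a, Invol.zpow_mul_self hao hbo, neg_neg]
          _ = a * (a * b) ^ (2 * (j : ℤ) + 1) := by
              rw [mul_assoc a, mul_assoc a, ← zpow_add, ← zpow_add]
              congr 2
              ring
    have hne' : a ≠ a' := fun h =>
      Invol.ne_one hz2 (mul_eq_left.1 h.symm)
    have hca' : a' • c = c := by
      have : a • (z • c) = z • c := by rw [← mul_smul, ← hza.eq, mul_smul, hc]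
      rw [ha', mul_smul, huniq a (Or.inl ha) _ _ this hc, hc]
    induction c using QuotientGroup.induction_on with
    | H g =>
      rw [hfx] at hc hca' ⊢
      have haI : IsConj a₀ (g⁻¹ * a * g) := ha.trans (isConj_iff.2 ⟨g⁻¹, by group⟩)
      have ha'g : g⁻¹ * a' * g ∈ S := by simpa using hSc a' ha'S g⁻¹
      have hC := hcent _ haI hc _ ha'g hca' (fun h => hne' (by simpa using h)) (by
        have : a * a' = a' * a := by rw [ha', mul_assoc, ← hza.eq]
        calc g⁻¹ * a * g * (g⁻¹ * a' * g) = g⁻¹ * (a * a') * g := by group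
          _ = _ := by rw [this]; group)
      apply hC
      rw [Subgroup.mem_centralizer_iff]
      intro y hy
      rw [Set.mem_singleton_iff.1 hy]
      have e : a * a' = z := by rw [ha', ← mul_assoc, Invol.mul_self_eq_one hao, one_mul]
      calc g⁻¹ * a * g * (g⁻¹ * a' * g) * (g⁻¹ * b * g) = g⁻¹ * ((a * a') * b) * g := by group
        _ = g⁻¹ * (b * (a * a')) * g := by rw [e, hzb.eq]
        _ = _ := by group
  -- hence one coset is fixed by all of I
  obtain ⟨c, hc, -⟩ := hfix a₀ (Or.inl (IsConj.refl _))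
  have hb0c : b₀ • c = c := key a₀ (IsConj.refl _) b₀ (IsConj.refl _) c hc
  have hall : ∀ g : G, g • c = c := by
    intro g
    have ha : IsConj a₀ (g * a₀ * g⁻¹) := isConj_iff.2 ⟨g, rfl⟩
    have h1 : (g * a₀ * g⁻¹) • (g • c) = g • c := by
      rw [← mul_smul, inv_mul_cancel_right, mul_smul, hc]
    exact huniq b₀ (Or.inr (IsConj.refl _)) _ _ (key _ ha b₀ (IsConj.refl _) _ h1) hb0c
  induction c using QuotientGroup.induction_on with
  | H u =>
    rw [Subgroup.eq_top_iff']
    intro g
    have := (hfx (u * g * u⁻¹) u).1 (hall _)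
    simpa [mul_assoc] using this

end Cfsg.Agent.S5439
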