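import Cfsg.Statements.S5452
import Cfsg.Agent.ThreeTrans.CentralLiftQuot
-- import your own Cfsg.Agent.* helpers here

set_option autoImplicit false
open Cfsg

namespace Cfsg.Agent.S5452

/-- Let G be a finite group with an involution d whose centralizer C is quasisimple with C modulo the subgroup generated by d isomorphic to the projective special unitary group of dimension 6 over the field with four elements, and suppose some conjugate of d other than d commutes with d. Then every involution of C modulo the subgroup generated by d is the image of an involution of C, and d is not a square in G. -/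
theorem result {G : Type*} [Group G] [Finite G] (d : G) (hd : orderOf d = 2) (hq : Cfsg.IsQuasisimple ↥(Subgroup.centralizer ({d} : Set G))) [hzn : ((Subgroup.zpowers d).subgroupOf (Subgroup.centralizer ({d} : Set G))).Normal] (K : Type) [Field K] [Fintype K] (hK : Fintype.card K = 4) (e : ↥(Subgroup.centralizer ({d} : Set G)) ⧸ (Subgroup.zpowers d).subgroupOf (Subgroup.centralizer ({d} : Set G)) ≃* Cfsg.PSU 6 K 2) (hnwc : ∃ g : G, g * d * g⁻¹ ∈ Subgroup.centralizer ({d} : Set G) ∧ g * d * g⁻¹ ≠ d) : (∀ x : ↥(Subgroup.centralizer ({d} : Set G)) ⧸ (Subgroup.zpowers d).subgroupOf (Subgroup.centralizer ({d} : Set G)), orderOf x = 2 → ∃ y : ↥(Subgroup.centralizer ({d} : Set G)), orderOf y = 2 ∧ (QuotientGroup.mk y : ↥(Subgroup.centralizer ({d} : Set G)) ⧸ (Subgroup.zpowers d).subgroupOf (Subgroup.centralizer ({d} : Set G))) = x) ∧ ¬ ∃ g : G, g ^ 2 = d := by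
  set Z := (Subgroup.zpowers d).subgroupOf (Subgroup.centralizer ({d} : Set G)) with hZ
  have hK4 : Nat.card K = 4 := by rw [Nat.card_eq_fintype_card, hK]
  obtain ⟨θ, hB, π, hsurj, hker⟩ := Cfsg.Agent.ThreeTrans.psu_proj hK e
  exact Cfsg.Agent.ThreeTrans.lift_conclusion d hd fun q hq =>
    Cfsg.Agent.ThreeTrans.UModel.lift_involution hB (Cfsg.Agent.ThreeTrans.cov_centralizer d hd) π hsurj
      (fun g hg => (hker g hg).2) hK4 hq

end Cfsg.Agent.S5452
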