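import Cfsg.Statements.S5455
import Cfsg.Agent.ThreeTrans.CoverM22Thompson
import Cfsg.Agent.ThreeTrans.CentralLiftQuot
-- import your own Cfsg.Agent.* helpers here

set_option autoImplicit false
open Cfsg

namespace Cfsg.Agent.S5455

/-- Let G be a finite group with an involution d whose centralizer C is quasisimple, such that C modulo the subgroup generated by d is of type M(22) with respect to some conjugacy class of 3-transpositions generating it and also has an involution whose own centralizer is quasisimple with quotient by it isomorphic to the projective special unitary group of dimension 6 over the field with four elements and which is not weakly closed in that centralizer; and suppose some conjugate of d other than d commutes with d. Let S be a Sylow 2-subgroup of C and A the Thompson subgroup of S, regarded as a subgroup of G. Then A is elementary abelian of order 2^11, exactly 23 conjugates of d lie in A, and the normalizer of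 A permutes them transitively. -/
theorem result {G : Type*} [Group G] [Finite G] (d : G) (hd : orderOf d = 2) (hq : Cfsg.IsQuasisimple ↥(Subgroup.centralizer ({d} : Set G))) [hzn : ((Subgroup.zpowers d).subgroupOf (Subgroup.centralizer ({d} : Set G))).Normal] (htype : ∃ E : Set (↥(Subgroup.centralizer ({d} : Set G)) ⧸ (Subgroup.zpowers d).subgroupOf (Subgroup.centralizer ({d} : Set G))), Cfsg.IsThreeTranspositionClass E ∧ Cfsg.IsOfTypeM22 _ E) (hinvol : ∃ d' : ↥(Subgroup.centralizer ({d} : Set G)) ⧸ (Subgroup.zpowers d).subgroupOf (Subgroup.centralizer ({d} : Set G)), orderOf d' = 2 ∧ Cfsg.IsQuasisimple ↥(Subgroup.centralizer ({d'} : Set _)) ∧ (∃ (K : Type) (_ : Field K) (_ : Fintype K), Fintype.card K = 4 ∧ ∃ _ : ((Subgroup.zpowers d').subgroupOf (Subgroup.centralizer ({d'} : Set _))).Normal, Nonempty (↥(Subgroup.centralizer ({d'} : Set _)) ⧸ (Subgroup.zpowers d').subgroupOf (Subgroup.centralizer ({d'} : Set _)) ≃* Cfsg.PSU 6 K 2)) ∧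 ∃ g, g * d' * g⁻¹ ∈ Subgroup.centralizer ({d'} : Set _) ∧ g * d' * g⁻¹ ≠ d') (hnwc : ∃ g : G, g * d * g⁻¹ ∈ Subgroup.centralizer ({d} : Set G) ∧ g * d * g⁻¹ ≠ d) (S : Sylow 2 ↥(Subgroup.centralizer ({d} : Set G))) (A : Subgroup G) (hA : A = (Cfsg.thompsonSubgroupOf 2 (S : Subgroup ↥(Subgroup.centralizer ({d} : Set G)))).map (Subgroup.centralizer ({d} : Set G)).subtype) : Cfsg.IsElementaryAbelian 2 A ∧ Nat.card A = 2 ^ 11 ∧ Set.ncard {x : G | x ∈ A ∧ IsConj d x} = 23 ∧ ∀ x ∈ A, ∀ y ∈ A, IsConj d x → IsConj d y → ∃ n ∈ Subgroup.normalizer (A : Set G), n * x * n⁻¹ = y := by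
  classical
  obtain ⟨E, hE, h22⟩ := htype
  have hd2 : d * d = 1 := by rw [← sq, ← hd]; exact pow_orderOf_eq_one d
  have hd1 : d ≠ 1 := fun h => by rw [h, orderOf_one] at hd; omega
  let z : (Subgroup.centralizer ({d} : Set G)) := ⟨d, Subgroup.mem_centralizer_singleton_iff.2 rfl⟩
  set ξ := QuotientGroup.mk' ((Subgroup.zpowers d).subgroupOf (Subgroup.centralizer ({d} : Set G))) with hξ
  have hcov := Cfsg.Agent.ThreeTrans.cov_centralizer d hd
  have hM : Cfsg.Agent.ThreeTrans.MCover ξ z E :=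
    ⟨hcov, (QuotientGroup.eq_one_iff _).2 (Subgroup.mem_subgroupOf.2 (Subgroup.mem_zpowers d)),
      fun h => hd1 (congrArg Subtype.val h), fun c hc => by
        rcases Cfsg.Agent.ThreeTrans.eq_one_or_eq_d d hd hc with h | h
        · exact Or.inl (Subtype.ext h)
        · exact Or.inr (Subtype.ext h), hE, h22⟩
  have hperf : commutator (Subgroup.centralizer ({d} : Set G)) = ⊤ := hq.1.commutator_eq_top
  have hnsq := (Cfsg.Agent.ThreeTrans.lift_conclusion d hd fun q hq' =>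
    Cfsg.Agent.ThreeTrans.lift_involution_M22 hcov hE h22 hq').2
  obtain ⟨A0, hJ, hA0sq, hA0c, hfull, hM22, hconjK⟩ := hM.thompson S
  rw [hJ] at hA
  have hA0comm : ∀ {a b}, a ∈ A0 → b ∈ A0 → Commute a b := fun {a b} ha hb => by
    have e := inv_eq_of_mul_eq_one_left (hA0sq _ (mul_mem ha hb))
    rw [mul_inv_rev, inv_eq_of_mul_eq_one_left (hA0sq _ ha), inv_eq_of_mul_eq_one_left (hA0sq _ hb)] at e
    exact e.symm
  have hmemA : ∀ {a : G}, a ∈ A → ∃ c : (Subgroup.centralizer ({d} : Set G)), c ∈ A0 ∧ (c : G) = a :=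
    fun {a} ha => by rw [hA] at ha; exact ha
  have hsq : ∀ a ∈ A, a * a = 1 := by
    intro a ha
    obtain ⟨c, hc, rfl⟩ := hmemA ha
    exact congrArg Subtype.val (hA0sq c hc)
  have hcomm : ∀ a ∈ A, ∀ b ∈ A, Commute a b := by
    intro a ha b hb
    obtain ⟨c, hc, rfl⟩ := hmemA ha
    obtain ⟨c', hc', rfl⟩ := hmemA hb
    exact congrArg Subtype.val (hA0comm hc hc').eq
  have hAc : Nat.card A = 2048 := by
    rw [hA, Subgroup.card_map_of_injective (Subgroup.subtype_injective (Subgroup.centralizer ({d} : Set G))), hA0c]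
  have hzA : z ∈ A0 := hfull _ (by rw [hM.z_map]; exact one_mem _)
  have hdA : d ∈ A := by rw [hA]; exact ⟨z, hzA, rfl⟩
  -- transitivity
  have htr1 : ∀ x ∈ A, IsConj d x → ∃ n ∈ Subgroup.normalizer (A : Set G), n * d * n⁻¹ = x := by
    intro x hx hdx
    obtain ⟨g, hg⟩ := isConj_iff.1 hdx
    set A' : Subgroup G := A.map (MulAut.conj g⁻¹).toMonoidHom with hA'
    have hle : A' ≤ (Subgroup.centralizer ({d} : Set G)) := by
      rintro _ ⟨a, ha, rfl⟩
      show g⁻¹ * a * g⁻¹⁻¹ ∈ (Subgroup.centralizer ({d} : Set G))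
      refine Subgroup.mem_centralizer_singleton_iff.2 ?_
      rw [show d = g⁻¹ * x * g by rw [← hg]; group]
      calc g⁻¹ * a * g⁻¹⁻¹ * (g⁻¹ * x * g) = g⁻¹ * (a * x) * g := by group
        _ = g⁻¹ * (x * a) * g := by rw [(hcomm a ha x hx).eq]
        _ = g⁻¹ * x * g * (g⁻¹ * a * g⁻¹⁻¹) := by group
    obtain ⟨h, hh⟩ := hconjK (A'.subgroupOf (Subgroup.centralizer ({d} : Set G))) (fun c hc => by
        obtain ⟨a, ha, e⟩ := Subgroup.mem_subgroupOf.1 hc
        refine Subtype.ext ?_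
        show (c : G) * c = 1
        rw [← e, ← map_mul, hsq a ha, map_one])
      (by rw [Nat.card_congr (Subgroup.subgroupOfEquivOfLe hle).toEquiv, hA',
        Subgroup.card_map_of_injective (MulAut.conj g⁻¹).injective, hAc])
    refine ⟨g * (h : G)⁻¹, ?_, ?_⟩
    · rw [← inv_mem_iff, mul_inv_rev, inv_inv, Subgroup.mem_normalizer_iff_map_conj_eq]
      refine Subgroup.eq_of_le_of_card_ge ?_
        (Subgroup.card_map_of_injective (MulAut.conj ((h : G) * g⁻¹)).injective).ge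
      rintro _ ⟨a, ha, rfl⟩
      show (h : G) * g⁻¹ * a * ((h : G) * g⁻¹)⁻¹ ∈ A
      have h1 : h * ⟨g⁻¹ * a * g⁻¹⁻¹, hle ⟨a, ha, rfl⟩⟩ * h⁻¹ ∈ A0 :=
        hh ▸ Subgroup.mem_map_of_mem (MulAut.conj h).toMonoidHom
          (K := A'.subgroupOf (Subgroup.centralizer ({d} : Set G)))
          (x := ⟨g⁻¹ * a * g⁻¹⁻¹, hle ⟨a, ha, rfl⟩⟩) (Subgroup.mem_subgroupOf.2 ⟨a, ha, rfl⟩)
      rw [hA]
      exact ⟨_, h1, by simp [mul_assoc]⟩
    · have hdh : (h : G)⁻¹ * d * (h : G) = d := by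
        rw [mul_assoc, ← Subgroup.mem_centralizer_singleton_iff.1 h.2, inv_mul_cancel_left]
      calc g * (h : G)⁻¹ * d * (g * (h : G)⁻¹)⁻¹ = g * ((h : G)⁻¹ * d * h) * g⁻¹ := by group
        _ = x := by rw [hdh, hg]
  refine ⟨⟨⟨⟨fun a b => Subtype.ext (hcomm a a.2 b b.2).eq⟩⟩, fun a ha => by rw [sq]; exact hsq a ha⟩,
    hAc, ?_, fun x hx y hy hdx hdy => by
      obtain ⟨n, hn, rfl⟩ := htr1 x hx hdx
      obtain ⟨m, hm, rfl⟩ := htr1 y hy hdy
      exact ⟨m * n⁻¹, mul_mem hm (inv_mem hn), by group⟩⟩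
  -- the number of conjugates
  set P : (Subgroup.centralizer ({d} : Set G)) → Prop := fun c => IsConj d (c : G) with hPdef
  have hP : ∀ h c, P c → P (h * c * h⁻¹) := fun h c hc => hc.trans (isConj_iff.2 ⟨h, by simp⟩)
  have hPsq : ∀ u, ¬ P (u * u) := fun u hu => hnsq (by
    obtain ⟨g, hg⟩ := isConj_iff.1 hu
    refine ⟨g⁻¹ * u * g, ?_⟩
    rw [sq, show g⁻¹ * (u : G) * g * (g⁻¹ * u * g) =
      g⁻¹ * ((u * u : (Subgroup.centralizer ({d} : Set G))) : G) * g by simp [mul_assoc], ← hg]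
    group)
  have hOc : {x : G | x ∈ A ∧ IsConj d x}.ncard =
      {c : (Subgroup.centralizer ({d} : Set G)) | c ∈ A0 ∧ P c}.ncard := by
    rw [← Set.ncard_image_of_injective {c : (Subgroup.centralizer ({d} : Set G)) | c ∈ A0 ∧ P c}
      (Subgroup.subtype_injective (Subgroup.centralizer ({d} : Set G)))]
    congr 1
    ext x
    constructor
    · rintro ⟨hx, hdx⟩
      obtain ⟨c, hc, rfl⟩ := hmemA hx
      exact ⟨c, ⟨hc, hdx⟩, rfl⟩
    · rintro ⟨c, ⟨hc, hdx⟩, rfl⟩
      exact ⟨by rw [hA]; exact ⟨c, hc, rfl⟩, hdx⟩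
  rw [hOc]
  refine hM.orbit_count hperf hPsq hP (IsConj.refl d) hA0sq hfull hM22 ?_ ?_
  · obtain ⟨g, hgC, hgd⟩ := hnwc
    refine ⟨⟨g * d * g⁻¹, hgC⟩, isConj_iff.2 ⟨g, rfl⟩, fun h => hgd (congrArg Subtype.val h), Subtype.ext ?_⟩
    show g * d * g⁻¹ * (g * d * g⁻¹) = 1
    rw [show g * d * g⁻¹ * (g * d * g⁻¹) = g * (d * d) * g⁻¹ by group, hd2]
    group
  intro c hc hcE hPc hPcz
  -- another member
  obtain ⟨m', ⟨hm', hm'A⟩, hm'ne⟩ : ∃ m' ∈ {m | m ∈ E ∧ m ∈ A0.map ξ}, m' ≠ ξ c :=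
    Set.exists_ne_of_one_lt_ncard (by rw [hM22]; norm_num) _
  obtain ⟨k, hk⟩ := Cfsg.Agent.ThreeTrans.class_isConj hE hcE hm'
  obtain ⟨h, rfl⟩ := hM.cov.surj k
  set c' := h * c * h⁻¹ with hc'def
  have hξc' : ξ c' = m' := by rw [hc'def, map_mul, map_mul, map_inv, hk]
  have hc' : c' ∈ A0 := hfull _ (hξc' ▸ hm'A)
  have hcA : (c : G) ∈ A := by rw [hA]; exact ⟨c, hc, rfl⟩
  have hc'A : (c' : G) ∈ A := by rw [hA]; exact ⟨c', hc', rfl⟩
  obtain ⟨n, hn, hnd⟩ := htr1 _ hc'A (hP h c hPc)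
  have hyA : n⁻¹ * (c : G) * n ∈ A := by
    have := (Subgroup.mem_normalizer_iff.1 (inv_mem hn) (c : G)).1 hcA
    rwa [inv_inv] at this
  obtain ⟨b, hb, hby⟩ := hmemA hyA
  have hPb : P b := by
    show IsConj d (b : G)
    rw [hby]
    exact hPc.trans (isConj_iff.2 ⟨n⁻¹, by simp⟩)
  have hbne : b ≠ z := fun h => hm'ne (by
    have e : n⁻¹ * (c : G) * n = d := hby.symm.trans (congrArg Subtype.val h)
    have e' : (c : G) = c' := by
      calc (c : G) = n * (n⁻¹ * (c : G) * n) * n⁻¹ := by group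
        _ = (c' : G) := (congrArg (fun t => n * t * n⁻¹) e).trans hnd
    rw [← hξc', Subtype.ext e'])
  have hP1 : ¬ P 1 := fun h => hPsq 1 (by rwa [one_mul])
  have hbE : ξ b ∈ E := (hM.over_member hperf hPsq hPb (by rw [← map_mul, hA0sq b hb, map_one])).resolve_left
    fun h => by
      rcases hM.kern b h with rfl | rfl
      · exact hP1 hPb
      · exact hbne rfl
  have hPbz : P (b * z) := by
    obtain ⟨k, hk⟩ := Cfsg.Agent.ThreeTrans.class_isConj hE hcE hbE
    obtain ⟨h, rfl⟩ := hM.cov.surj k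
    have hz : h * (c * z) * h⁻¹ = h * c * h⁻¹ * z := by
      simp only [mul_assoc]
      rw [(hM.z_comm h⁻¹).eq]
    obtain ⟨r, hr, er⟩ := Cfsg.Agent.ThreeTrans.Lift.exists_ker hM.cov
      (show ξ (h * c * h⁻¹) = ξ b by rw [map_mul, map_mul, map_inv, hk])
    rcases hM.kern r hr with rfl | rfl
    · rw [show b * z = h * (c * z) * h⁻¹ by rw [hz, er, mul_one]]
      exact hP h _ hPcz
    · rw [← er]
      exact hP h _ hPc
  have hPcc : P (c * c') := by
    show IsConj d ((c : G) * (c' : G))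
    refine IsConj.trans hPbz (isConj_iff.2 ⟨n, ?_⟩)
    show n * ((b : G) * d) * n⁻¹ = _
    rw [hby, ← hnd]
    group
  obtain ⟨u, hu⟩ := hM.pair_square hperf hcE (b := ξ c') (by
      rw [hξc']
      refine ⟨hm', hm'ne, ?_⟩
      rw [← hξc']
      exact (hA0comm hc hc').map ξ) (c := c * c') (map_mul ξ c c')
  exact hPsq u (hu.symm ▸ hPcc)

end Cfsg.Agent.S5455
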