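import Cfsg.Statements.S5462
import Cfsg.Agent.ThreeTrans.InvolAut

set_option autoImplicit false
open Cfsg

namespace Cfsg.Agent.S5462

/-- Let G be a finite group with trivial centre generated by a conjugation-invariant set D of 3-transpositions on which it acts primitively, such that for some d in D the subgroup generated by the members of D other than d commuting with d has central largest normal 2- and 3-subgroups, and suppose G with D is of type M(22). Then every automorphism of G of order 2 fixes some member of D. -/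
theorem result {G : Type*} [Group G] [Finite G] {D : Set G} (hD : Cfsg.IsThreeTranspositionGroup D) (hprim : Cfsg.IsPrimitiveUnderConj D) (d₀ : G) (hd₀ : d₀ ∈ D) (h3 : Cfsg.pCore 3 ↥(Subgroup.closure {y : G | y ∈ D ∧ y ≠ d₀ ∧ Commute d₀ y}) ≤ Subgroup.center ↥(Subgroup.closure {y : G | y ∈ D ∧ y ≠ d₀ ∧ Commute d₀ y})) (h2 : Cfsg.pCore 2 ↥(Subgroup.closure {y : G | y ∈ D ∧ y ≠ d₀ ∧ Commute d₀ y}) ≤ Subgroup.center ↥(Subgroup.closure {y : G | y ∈ D ∧ y ≠ d₀ ∧ Commute d₀ y})) (h22 : Cfsg.IsOfTypeM22 G D) (φ : MulAut G) (hφ : orderOf φ = 2) : ∃ d ∈ D, φ d = d := by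
  have e : D \ {1} = D := Set.sdiff_singleton_eq_self fun h1 => ThreeTrans.ne_one hD.1 h1 rfl
  have hcls := ThreeTrans.class_of_primitive hD hprim
  have hM := ThreeTrans.m22Data hD h22
  have hP := ThreeTrans.planes_layer (D₀ := D) (by rwa [e]) h22
  rw [e] at hP
  have hD' : IsThreeTranspositionClass (φ '' D) := by
    obtain ⟨hset, ⟨c, hc, hcl⟩, hgen⟩ := hcls
    refine ⟨⟨?_, ?_⟩, ⟨φ c, ⟨c, hc, rfl⟩, Set.ext fun x => ⟨?_, fun hx => ?_⟩⟩, ?_⟩
    · rintro - ⟨x, hx, rfl⟩
      rw [MulEquiv.orderOf_eq]; exact hset.1 x hx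
    · rintro - ⟨x, hx, rfl⟩ - ⟨y, hy, rfl⟩
      simp only [← map_mul, ← map_pow, map_eq_one_iff _ φ.injective]
      exact hset.2 x hx y hy
    · rintro ⟨y, hy, rfl⟩
      rw [hcl] at hy
      obtain ⟨g, rfl⟩ := isConj_iff.1 hy
      exact isConj_iff.2 ⟨φ g, by simp⟩
    · obtain ⟨g, rfl⟩ := isConj_iff.1 hx
      exact ⟨φ.symm g * c * (φ.symm g)⁻¹, by rw [hcl]; exact isConj_iff.2 ⟨_, rfl⟩, by simp⟩
    · have := MonoidHom.map_closure φ.toMonoidHom D
      rw [hgen, Subgroup.map_top_of_surjective _ φ.surjective] at this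
      exact this.symm
  have himg := ThreeTrans.unique_of_M22 hD hprim h22 hD'
  have hinv : ∀ x, φ (φ x) = x := fun x => by
    have h := pow_orderOf_eq_one φ
    rw [hφ, sq] at h
    exact congrArg (fun f : MulAut G => f x) h
  exact ThreeTrans.exists_fixed hD ⟨d₀, hd₀⟩ hM hP (σ := φ)
    ⟨fun x hx => himg ▸ ⟨x, hx, rfl⟩, fun x _ => hinv x, fun x _ y _ h => h.map φ,
      fun x _ y _ => by simp⟩

end Cfsg.Agent.S5462
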