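import Cfsg.Statements.S5464
import Cfsg.Agent.ThreeTrans.TypeM

set_option autoImplicit false
open Cfsg

namespace Cfsg.Agent.S5464

/-- Let G be a finite group with trivial centre generated by a conjugation-invariant set D of 3-transpositions on which it acts primitively, such that for some d in D the subgroup generated by the members of D other than d commuting with d has central largest normal 2- and 3-subgroups, and suppose G with D is of type M(23) or of type M(24). Then for m ≤ 3, a product of m distinct pairwise commuting members of D determines the set of factors: any two m-element sets of pairwise commuting members of D with the same product coincide. -/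
theorem result {G : Type*} [Group G] [Finite G] {D : Set G} (hD : Cfsg.IsThreeTranspositionGroup D) (hprim : Cfsg.IsPrimitiveUnderConj D) (d₀ : G) (hd₀ : d₀ ∈ D) (h3 : Cfsg.pCore 3 ↥(Subgroup.closure {y : G | y ∈ D ∧ y ≠ d₀ ∧ Commute d₀ y}) ≤ Subgroup.center ↥(Subgroup.closure {y : G | y ∈ D ∧ y ≠ d₀ ∧ Commute d₀ y})) (h2 : Cfsg.pCore 2 ↥(Subgroup.closure {y : G | y ∈ D ∧ y ≠ d₀ ∧ Commute d₀ y}) ≤ Subgroup.center ↥(Subgroup.closure {y : G | y ∈ D ∧ y ≠ d₀ ∧ Commute d₀ y})) (h : Cfsg.IsOfTypeM23 G D ∨ Cfsg.IsOfTypeM24 G D) (m : ℕ) (hm : m ≤ 3) (j : G) (l l' : List G) (hl : (l.Nodup ∧ l.length = m ∧ (∀ a ∈ l, a ∈ D) ∧ (∀ a ∈ l, ∀ b ∈ l, Commute a b) ∧ l.prod = j)) (hl' : (l'.Nodup ∧ l'.length = m ∧ (∀ a ∈ l', a ∈ D) ∧ (∀ a ∈ l', ∀ b ∈ l', Commute a b) ∧ l'.prod = j)) : (∀ x : G, x ∈ l ↔ x ∈ l') := by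
  open Cfsg.Agent.ThreeTrans in
  obtain ⟨hN, hN2, -⟩ := top_data hD hprim h
  have key : ∀ l l' : List G,
      (l.Nodup ∧ l.length = m ∧ (∀ a ∈ l, a ∈ D) ∧ (∀ a ∈ l, ∀ b ∈ l, Commute a b) ∧ l.prod = j) →
      (l'.Nodup ∧ l'.length = m ∧ (∀ a ∈ l', a ∈ D) ∧ (∀ a ∈ l', ∀ b ∈ l', Commute a b) ∧
        l'.prod = j) → ∀ x ∈ l, x ∈ l' := by
    rintro l l' ⟨hnd, hlen, hmem, hcom, hprod⟩ ⟨hnd', hlen', hmem', hcom', hprod'⟩ x hx
    have hlj := hprod.trans hprod'.symm
    interval_cases m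
    · rw [List.length_eq_zero_iff] at hlen
      subst hlen
      simp at hx
    · obtain ⟨a, rfl⟩ := List.length_eq_one_iff.1 hlen
      obtain ⟨u, rfl⟩ := List.length_eq_one_iff.1 hlen'
      simp_all
    · obtain ⟨a, b, rfl⟩ := List.length_eq_two.1 hlen
      obtain ⟨u, v, rfl⟩ := List.length_eq_two.1 hlen'
      simp only [List.nodup_cons, List.mem_cons, List.not_mem_nil, or_false, List.mem_singleton,
        List.nodup_nil, and_true, not_false_iff, not_or] at hnd hnd' hx hmem hmem' hcom hcom' ⊢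
      simp only [List.prod_cons, List.prod_nil, mul_one] at hlj
      rcases hx with rfl | rfl
      · exact Cfsg.Agent.ThreeTrans.pair_unique hD.1 hN (hmem' u (Or.inl rfl)) (hmem' v (Or.inr rfl))
          (hmem x (Or.inl rfl)) (hmem b (Or.inr rfl)) (hcom' u (Or.inl rfl) v (Or.inr rfl)) hnd'
          (hcom x (Or.inl rfl) b (Or.inr rfl)) hnd hlj.symm
      · exact Cfsg.Agent.ThreeTrans.pair_unique hD.1 hN (hmem' u (Or.inl rfl)) (hmem' v (Or.inr rfl))
          (hmem x (Or.inr rfl)) (hmem a (Or.inl rfl)) (hcom' u (Or.inl rfl) v (Or.inr rfl)) hnd'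
          (hcom x (Or.inr rfl) a (Or.inl rfl)) (Ne.symm hnd)
          (hlj.symm.trans (hcom a (Or.inl rfl) x (Or.inr rfl)).eq)
    · obtain ⟨a, b, c, rfl⟩ := List.length_eq_three.1 hlen
      obtain ⟨u, v, w, rfl⟩ := List.length_eq_three.1 hlen'
      simp only [List.nodup_cons, List.mem_cons, List.not_mem_nil, or_false, List.mem_singleton,
        List.nodup_nil, and_true, not_false_iff, not_or] at hnd hnd' hx hmem hmem' hcom hcom' ⊢
      simp only [List.prod_cons, List.prod_nil, mul_one, ← mul_assoc] at hlj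
      obtain ⟨⟨nab, nac⟩, nbc⟩ := hnd
      obtain ⟨⟨nuv, nuw⟩, nvw⟩ := hnd'
      have ha := hmem a (Or.inl rfl)
      have hb := hmem b (Or.inr (Or.inl rfl))
      have hc := hmem c (Or.inr (Or.inr rfl))
      have hab := hcom a (Or.inl rfl) b (Or.inr (Or.inl rfl))
      have hac := hcom a (Or.inl rfl) c (Or.inr (Or.inr rfl))
      have hbc := hcom b (Or.inr (Or.inl rfl)) c (Or.inr (Or.inr rfl))
      have use3 := fun (p q r : G) (hp : p ∈ D) (hq : q ∈ D) (hr : r ∈ D) (cpq : Commute p q)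
          (cpr : Commute p r) (cqr : Commute q r) (npq : p ≠ q) (npr : p ≠ r) (nqr : q ≠ r)
          (he : u * v * w = p * q * r) =>
        Cfsg.Agent.ThreeTrans.triple_unique hD.1 hN hN2 (hmem' u (Or.inl rfl))
          (hmem' v (Or.inr (Or.inl rfl))) (hmem' w (Or.inr (Or.inr rfl))) hp hq hr
          (hcom' u (Or.inl rfl) v (Or.inr (Or.inl rfl)))
          (hcom' u (Or.inl rfl) w (Or.inr (Or.inr rfl)))
          (hcom' v (Or.inr (Or.inl rfl)) w (Or.inr (Or.inr rfl)))
          nuv nuw nvw cpq cpr cqr npq npr nqr he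
      rcases hx with rfl | rfl | rfl
      · exact use3 x b c ha hb hc hab hac hbc nab nac nbc hlj.symm
      · exact use3 x a c hb ha hc hab.symm hbc hac (Ne.symm nab) nbc nac
          (by rw [← hlj, hab.eq])
      · exact use3 x a b hc ha hb hac.symm hbc.symm hab (Ne.symm nac) (Ne.symm nbc) nab
          (by rw [← hlj, mul_assoc x a b, (hac.mul_left hbc).eq])
  exact fun x => ⟨key l l' hl hl' x, key l' l hl' hl x⟩

end Cfsg.Agent.S5464
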