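import Cfsg.Statements.S5471
import Cfsg.Agent.ThreeTrans.TypeM

set_option autoImplicit false
open Cfsg

namespace Cfsg.Agent.S5471

/-- Let G be a finite group with trivial centre generated by a conjugation-invariant set D of 3-transpositions on which it acts primitively, such that for some d in D the subgroup generated by the members of D other than d commuting with d has central largest normal 2- and 3-subgroups, and suppose G with D is of type M(23). Let d₁, d₂, d₃ be distinct pairwise commuting members of D and j their product. Then the joint centralizer of d₁, d₂, d₃ is normal in the centralizer of j with quotient isomorphic to the symmetric group of degree 3. -/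
theorem result {G : Type*} [Group G] [Finite G] {D : Set G} (hD : Cfsg.IsThreeTranspositionGroup D) (hprim : Cfsg.IsPrimitiveUnderConj D) (d₀ : G) (hd₀ : d₀ ∈ D) (h3 : Cfsg.pCore 3 ↥(Subgroup.closure {y : G | y ∈ D ∧ y ≠ d₀ ∧ Commute d₀ y}) ≤ Subgroup.center ↥(Subgroup.closure {y : G | y ∈ D ∧ y ≠ d₀ ∧ Commute d₀ y})) (h2 : Cfsg.pCore 2 ↥(Subgroup.closure {y : G | y ∈ D ∧ y ≠ d₀ ∧ Commute d₀ y}) ≤ Subgroup.center ↥(Subgroup.closure {y : G | y ∈ D ∧ y ≠ d₀ ∧ Commute d₀ y})) (h23 : Cfsg.IsOfTypeM23 G D) (d₁ d₂ d₃ : G) (h₁ : d₁ ∈ D) (h₂ : d₂ ∈ D) (h₃ : d₃ ∈ D) (h12 : d₁ ≠ d₂) (h13 : d₁ ≠ d₃) (h23 : d₂ ≠ d₃) (c12 : Commute d₁ d₂) (c13 : Commute d₁ d₃) (c23 : Commute d₂ d₃) (K C : Subgroup G) (hK : K = Subgroup.centralizer ({d₁, d₂, d₃} : Set G)) (hC : C = Subgroup.centralizer ({d₁ * d₂ * d₃} : Set G)) : K ≤ C ∧ ∃ _ : (K.subgroupOf C).Normal, Nonempty (↥C ⧸ K.subgroupOf C ≃* Equiv.Perm (Fin 3)) := by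
  classical
  obtain ⟨hN, hN2, hpart⟩ := Cfsg.Agent.ThreeTrans.top_data hD hprim
    (Or.inl ‹Cfsg.IsOfTypeM23 G D›)
  subst hK hC
  have hKC : Subgroup.centralizer ({d₁, d₂, d₃} : Set G) ≤
      Subgroup.centralizer ({d₁ * d₂ * d₃} : Set G) := by
    intro k hk
    rw [Subgroup.mem_centralizer_iff] at hk
    rw [Subgroup.mem_centralizer_singleton_iff]
    exact (((show Commute k d₁ from (hk d₁ (by simp)).symm).mul_right
      (show Commute k d₂ from (hk d₂ (by simp)).symm)).mul_right
      (show Commute k d₃ from (hk d₃ (by simp)).symm)).eq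
  refine ⟨hKC, ?_⟩
  set C := Subgroup.centralizer ({d₁ * d₂ * d₃} : Set G)
  set t : Fin 3 → G := ![d₁, d₂, d₃] with ht
  have htinj : Function.Injective t := by
    intro i k hik
    fin_cases i <;> fin_cases k <;> simp_all [t, eq_comm]
  have hperm : ∀ g : C, ∀ i, ∃ k, (g : G) * t i * (g : G)⁻¹ = t k := by
    intro g
    have hgj : (g : G) * (d₁ * d₂ * d₃) * (g : G)⁻¹ = d₁ * d₂ * d₃ := by
      rw [(Subgroup.mem_centralizer_singleton_iff.1 g.2), mul_inv_cancel_right]
    have hinj : ∀ {u v : G}, u ≠ v → (g : G) * u * (g : G)⁻¹ ≠ (g : G) * v * (g : G)⁻¹ :=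
      fun huv hh => huv (mul_left_cancel (mul_right_cancel hh))
    have use3 := fun (p q r : G) (hp : p ∈ D) (hq : q ∈ D) (hr : r ∈ D) (cpq : Commute p q)
        (cpr : Commute p r) (cqr : Commute q r) (npq : p ≠ q) (npr : p ≠ r) (nqr : q ≠ r)
        (he : d₁ * d₂ * d₃ = p * q * r) =>
      Cfsg.Agent.ThreeTrans.triple_unique hD.1 hN hN2 h₁ h₂ h₃
        (hD.2.1 g p hp) (hD.2.1 g q hq) (hD.2.1 g r hr) c12 c13 c23 h12 h13 h23
        ((Commute.conj_iff (g : G)).2 cpq) ((Commute.conj_iff (g : G)).2 cpr)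
        ((Commute.conj_iff (g : G)).2 cqr) (hinj npq) (hinj npr) (hinj nqr)
        (by rw [conj_mul, conj_mul, ← he, hgj])
    have hres : ∀ x : G, (x = d₁ ∨ x = d₂ ∨ x = d₃) → ∃ k, x = t k := by
      rintro x (rfl | rfl | rfl)
      exacts [⟨0, rfl⟩, ⟨1, rfl⟩, ⟨2, rfl⟩]
    intro i
    fin_cases i
    · exact hres _ (use3 d₁ d₂ d₃ h₁ h₂ h₃ c12 c13 c23 h12 h13 h23 rfl)
    · exact hres _ (use3 d₂ d₁ d₃ h₂ h₁ h₃ c12.symm c23 c13 h12.symm h23 h13 (by rw [c12.eq]))
    · exact hres _ (use3 d₃ d₁ d₂ h₃ h₁ h₂ c13.symm c23.symm c12 h13.symm h23.symm h12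
        (by rw [mul_assoc d₃ d₁ d₂, (c13.mul_left c23).eq]))
  choose σ hσ using hperm
  have hσmul : ∀ g g' : C, σ (g * g') = σ g ∘ σ g' := by
    intro g g'
    funext i
    refine htinj ?_
    rw [Function.comp_apply, ← hσ, ← hσ, ← hσ, Subgroup.coe_mul]
    group
  have hσone : σ 1 = id := by
    funext i
    refine htinj ?_
    rw [← hσ, Subgroup.coe_one, id_eq]
    group
  let e : C → Equiv.Perm (Fin 3) := fun g =>
    { toFun := σ g
      invFun := σ g⁻¹
      left_inv := fun i => by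
        show (σ g⁻¹ ∘ σ g) i = i
        rw [← hσmul, inv_mul_cancel, hσone]; rfl
      right_inv := fun i => by
        show (σ g ∘ σ g⁻¹) i = i
        rw [← hσmul, mul_inv_cancel, hσone]; rfl }
  let φ : C →* Equiv.Perm (Fin 3) := MonoidHom.mk' e fun g g' => Equiv.ext fun i => by
    show σ (g * g') i = σ g (σ g' i)
    rw [hσmul]; rfl
  have hker : φ.ker = (Subgroup.centralizer ({d₁, d₂, d₃} : Set G)).subgroupOf C := by
    ext g
    rw [MonoidHom.mem_ker, Subgroup.mem_subgroupOf, Subgroup.mem_centralizer_iff]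
    constructor
    · intro hg x hx
      have hi : ∀ i, t i * (g : G) = g * t i := fun i => by
        have hσi : σ g i = i := Equiv.congr_fun hg i
        have := hσ g i
        rw [hσi, mul_inv_eq_iff_eq_mul] at this
        exact this.symm
      rcases hx with rfl | rfl | rfl
      exacts [hi 0, hi 1, hi 2]
    · intro hg
      refine Equiv.ext fun i => htinj ?_
      show t (σ g i) = t i
      rw [← hσ, mul_inv_eq_iff_eq_mul]
      refine (hg (t i) ?_).symm
      fin_cases i <;> simp [t]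
  have hprod : ∀ i k l : Fin 3, i ≠ k → i ≠ l → k ≠ l → d₁ * d₂ * d₃ = t i * t k * t l := by
    have p1 : d₁ * d₂ * d₃ = d₂ * d₁ * d₃ := by rw [c12.eq]
    have p2 : d₁ * d₂ * d₃ = d₁ * d₃ * d₂ := by rw [mul_assoc, c23.eq, ← mul_assoc]
    have p3 : d₁ * d₂ * d₃ = d₃ * d₁ * d₂ := by rw [p2, c13.eq]
    have p4 : d₁ * d₂ * d₃ = d₂ * d₃ * d₁ := by rw [p1, mul_assoc, c13.eq, ← mul_assoc]
    have p5 : d₁ * d₂ * d₃ = d₃ * d₂ * d₁ := by rw [p4, c23.eq]
    intro i k l hik hil hkl
    fin_cases i <;> fin_cases k <;> fin_cases l <;>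
      first
        | exact absurd rfl hik
        | exact absurd rfl hil
        | exact absurd rfl hkl
        | rfl
        | exact p1
        | exact p2
        | exact p3
        | exact p4
        | exact p5
  -- the swaps
  have hswap : ∀ i k l : Fin 3, i ≠ k → i ≠ l → k ≠ l → ∃ g : C, φ g = Equiv.swap i k := by
    intro i k l hik hil hkl
    have htD : ∀ i, t i ∈ D := by intro i; fin_cases i <;> assumption
    have htc : ∀ i k, Commute (t i) (t k) := by
      intro i k
      fin_cases i <;> fin_cases k <;>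
        first
          | exact Commute.refl _
          | assumption
          | exact c12.symm
          | exact c13.symm
          | exact c23.symm
    have hne : ∀ {i k}, i ≠ k → t i ≠ t k := fun h hh => h (htinj hh)
    obtain ⟨w, hw, hwi, hwk⟩ := hpart (t l) (htD l) (t i) ⟨htD i, hne hil, htc l i⟩ (t k)
      ⟨htD k, hne hkl, htc l k⟩ (htc i k) (hne hik)
    set a := t i with ha
    set b := t k with hb
    have haD : a ∈ D := htD i
    have hbD : b ∈ D := htD k
    have hwinv := Cfsg.Agent.ThreeTrans.inv_eq hD.1 hw.1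
    have hbra := Cfsg.Agent.ThreeTrans.braid hD.1 hw.1 haD hwi
    have hbrb := Cfsg.Agent.ThreeTrans.braid hD.1 hw.1 hbD hwk
    have hab : a * b = b * a := (htc i k).eq
    have aa := fun x => Cfsg.Agent.ThreeTrans.mul_self_mul hD.1 haD x
    have bb := fun x => Cfsg.Agent.ThreeTrans.mul_self_mul hD.1 hbD x
    have ww := fun x => Cfsg.Agent.ThreeTrans.mul_self_mul hD.1 hw.1 x
    set g := w * (a * b) * w with hg
    have hginv : g⁻¹ = g := by
      rw [hg, mul_inv_rev, mul_inv_rev, mul_inv_rev, hwinv, Cfsg.Agent.ThreeTrans.inv_eq hD.1 haD,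
        Cfsg.Agent.ThreeTrans.inv_eq hD.1 hbD, hab]
      simp only [mul_assoc]
    have hswap1 : g * a * g⁻¹ = b := by
      calc g * a * g⁻¹ = g * a * g := by rw [hginv]
        _ = w * (a * b) * (w * a * w) * (a * b) * w := by simp only [hg, mul_assoc]
        _ = w * (a * b) * (a * w * a) * (a * b) * w := by rw [hbra]
        _ = w * (b * a) * (a * w * a) * (a * b) * w := by rw [hab]
        _ = w * (b * w * b) * w := by simp only [mul_assoc, aa]
        _ = w * (w * b * w) * w := by rw [← hbrb]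
        _ = b := by
          simp only [mul_assoc, ww]
          rw [Cfsg.Agent.ThreeTrans.mul_self hD.1 hw.1, mul_one]
    have hswap2 : g * b * g⁻¹ = a := by
      rw [← hswap1, hginv]
      have : g * g = 1 := by nth_rewrite 2 [← hginv]; exact mul_inv_cancel g
      simp only [← mul_assoc, this, one_mul]
      simp only [mul_assoc, this, mul_one]
    have hfix : g * t l * g⁻¹ = t l := by
      have : Commute g (t l) :=
        ((hw.2.2.symm.mul_left ((htc i l).mul_left (htc k l))).mul_left hw.2.2.symm)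
      rw [this.eq, mul_inv_cancel_right]
    have hgC : g ∈ C := by
      rw [Subgroup.mem_centralizer_singleton_iff]
      have hj : d₁ * d₂ * d₃ = a * b * t l := hprod i k l hik hil hkl
      rw [hj, ← mul_inv_eq_iff_eq_mul, ← conj_mul, ← conj_mul, hswap1, hswap2, hfix, hab]
    refine ⟨⟨g, hgC⟩, Equiv.ext fun x => htinj ?_⟩
    show t (σ ⟨g, hgC⟩ x) = t (Equiv.swap i k x)
    rw [← hσ]
    have hx : x = i ∨ x = k ∨ x = l := by omega
    rcases hx with rfl | rfl | rfl
    · rw [Equiv.swap_apply_left]; exact hswap1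
    · rw [Equiv.swap_apply_right]; exact hswap2
    · rw [Equiv.swap_apply_of_ne_of_ne hil.symm hkl.symm]; exact hfix
  have hsurj : Function.Surjective φ := by
    rw [← MonoidHom.range_eq_top, eq_top_iff, ← Equiv.Perm.closure_isSwap, Subgroup.closure_le]
    rintro - ⟨i, k, hik, rfl⟩
    obtain ⟨l, hil, hkl⟩ : ∃ l, i ≠ l ∧ k ≠ l := by revert hik; revert i k; decide
    exact hswap i k l hik hil hkl
  have hnormal : ((Subgroup.centralizer ({d₁, d₂, d₃} : Set G)).subgroupOf C).Normal :=
    hker ▸ inferInstance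
  exact ⟨hnormal, ⟨(QuotientGroup.quotientMulEquivOfEq hker).symm.trans
    (QuotientGroup.quotientKerEquivOfSurjective φ hsurj)⟩⟩

end Cfsg.Agent.S5471
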