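import Cfsg.Statements.S5473
import Cfsg.Agent.M22PairAut.Concrete
-- import your own Cfsg.Agent.* helpers here

set_option autoImplicit false
open Cfsg

namespace Cfsg.Agent.S5473

/-- Let G be a finite group with trivial centre generated by a conjugation-invariant set D of 3-transpositions on which it acts primitively, such that for some d in D the subgroup generated by the members of D other than d commuting with d has central largest normal 2- and 3-subgroups, and suppose G with D is of type M(22), and let A be the automorphism group of G. Let d₁, d₂ be distinct commuting members of D and j the inner automorphism of their product. Then the generalized Fitting subgroup Q of the centralizer of j in A is a large extraspecial 2-subgroup of A of order 2^11 (extraspecial; centralizer equal to its centre; normal in the centralizer of its centre; normalizing no non-trivial odd-order subgroup), and the centralizer of j modulo Q is isomorphic to the full automorphism group of the projective special unitary group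 of dimension 4 over the field with four elements. -/
theorem result {G : Type*} [Group G] [Finite G] {D : Set G} (hD : Cfsg.IsThreeTranspositionGroup D) (hprim : Cfsg.IsPrimitiveUnderConj D) (d₀ : G) (hd₀ : d₀ ∈ D) (h3 : Cfsg.pCore 3 ↥(Subgroup.closure {y : G | y ∈ D ∧ y ≠ d₀ ∧ Commute d₀ y}) ≤ Subgroup.center ↥(Subgroup.closure {y : G | y ∈ D ∧ y ≠ d₀ ∧ Commute d₀ y})) (h2 : Cfsg.pCore 2 ↥(Subgroup.closure {y : G | y ∈ D ∧ y ≠ d₀ ∧ Commute d₀ y}) ≤ Subgroup.center ↥(Subgroup.closure {y : G | y ∈ D ∧ y ≠ d₀ ∧ Commute d₀ y})) (h22 : Cfsg.IsOfTypeM22 G D) (d₁ d₂ : G) (h₁ : d₁ ∈ D) (h₂ : d₂ ∈ D) (hne : d₁ ≠ d₂) (hc : Commute d₁ d₂) (j : MulAut G) (hj : j = MulAut.conj (d₁ * d₂)) (Q : Subgroup (MulAut G)) (hQ : Q = (Cfsg.generalizedFittingSubgroup ↥(Subgroup.centralizer ({j} : Set (MulAut G)))).map (Subgroup.centralizer ({j} : Set (MulAut G))).subtype) : Cfsg.IsLargeExtraspecial Q ∧ Nat.card Q = 2 ^ 11 ∧ Q ≤ Subgroup.centralizer ({j} : Set (MulAut G)) ∧ ∃ (_ : (Q.subgroupOf (Subgroup.centralizer ({j} : Set (MulAut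 G)))).Normal) (F : Type) (_ : Field F) (_ : Fintype F), Fintype.card F = 4 ∧ Nonempty (↥(Subgroup.centralizer ({j} : Set (MulAut G))) ⧸ Q.subgroupOf (Subgroup.centralizer ({j} : Set (MulAut G))) ≃* MulAut (Cfsg.PSU 4 F 2)) := by
  classical
  have hcls := ThreeTrans.class_of_primitive hD hprim
  have hb : d₂ ∈ ThreeTrans.dperp D d₁ := ⟨h₂, hne.symm, hc⟩
  obtain ⟨hKC, hindex, -, E₁, -, hEC₁, hconj₁, hcard₁, ⟨-, hker₁⟩, -, hn₁, F, hFld, hFt, hF, ⟨e₁⟩⟩ :=
    ThreeTrans.pair_centralizer_kernel hD hcls h22 h₁ hb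
  obtain ⟨E, hrad, hEC, -, hn, F', hFld', hFt', hF', ⟨e'⟩⟩ :=
    ThreeTrans.exists_pairRadical hD hprim h22 h₁ hb
  have hfit := ThreeTrans.pair_generalizedFitting hD h22 h₁ hb hrad hEC hindex hF' ⟨e'⟩ hKC
  have hS : IsSimpleGroup (PSU 4 F' 2) := Cfsg.Agent.S0283.result
    (by rw [hF']; norm_num : Fintype.card F' = 2 ^ 2) 4 (by norm_num) (by norm_num)
  -- the two radicals agree
  have hEE : E₁ = E := by
    haveI := hn
    let π : ↥(Subgroup.centralizer ({d₁ * d₂} : Set G)) →* MulAut (PSU 4 F' 2) :=
      e'.toMonoidHom.comp (QuotientGroup.mk' _)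
    have hπ : Function.Surjective π := e'.surjective.comp (QuotientGroup.mk'_surjective _)
    haveI := hn₁
    set N := E₁.subgroupOf (Subgroup.centralizer ({d₁ * d₂} : Set G))
    haveI : (N.map π).Normal := Subgroup.Normal.map hn₁ π hπ
    refine (Subgroup.eq_of_le_of_card_ge ?_ (by rw [hcard₁, hrad.card])).symm.symm
    rcases ThreeTrans.normal_mulAut_cases (ThreeTrans.center_psu_four hF') (N.map π) with h | h
    · intro x hx
      have hx' : π ⟨x, hEC₁ hx⟩ ∈ N.map π := Subgroup.mem_map_of_mem π hx
      rw [h, Subgroup.mem_bot] at hx'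
      simp only [π, MonoidHom.comp_apply, MulEquiv.coe_toMonoidHom, EmbeddingLike.map_eq_one_iff,
        QuotientGroup.mk'_apply, QuotientGroup.eq_one_iff] at hx'
      exact hx'
    · exfalso
      have : Finite (MulAut (PSU 4 F' 2)) := Nat.finite_of_card_ne_zero (by
        rw [ThreeTrans.card_mulAut_psu_four hF']; norm_num)
      have hinj : Function.Injective (MulAut.conj : PSU 4 F' 2 →* MulAut (PSU 4 F' 2)) := by
        refine (injective_iff_map_eq_one _).2 fun s hs =>
          Subgroup.mem_bot.1 (ThreeTrans.center_psu_four hF' ▸ ?_)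
        exact Subgroup.mem_center_iff.2 fun t =>
          (mul_inv_eq_iff_eq_mul.1 (DFunLike.congr_fun hs t : s * t * s⁻¹ = t)).symm
      have h1 := (Subgroup.card_dvd_of_le h).trans (Subgroup.card_map_dvd N π)
      rw [← Nat.card_congr (MonoidHom.ofInjective hinj).toEquiv, ThreeTrans.card_psu_four hF',
        Nat.card_congr (Subgroup.subgroupOfEquivOfLe hEC₁).toEquiv, hcard₁] at h1
      norm_num at h1
  subst hEE
  haveI := hn
  have hsetup : M22PairAut.Setup D d₁ d₂ E₁ (PSU 4 F' 2) := {
    grp := hD, prim := hprim, typ := h22, ha := h₁, hb := hb, rad := hrad, ker := hker₁,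
    conj_mem := hconj₁, le := hKC, index := hindex, simple := hS,
    center := ThreeTrans.center_psu_four hF', card_inn := ThreeTrans.card_psu_four hF',
    card_aut := ThreeTrans.card_mulAut_psu_four hF'
    map := ⟨e'.toMonoidHom.comp (QuotientGroup.mk' _),
      e'.surjective.comp (QuotientGroup.mk'_surjective _), fun c => by
        simp [Subgroup.mem_subgroupOf]⟩ }
  obtain ⟨q, hq⟩ := M22PairAut.exists_swap hD hprim h22 h₁ hb
  have hfull : M22PairAut.Full D d₁ d₂ E₁ (PSU 4 F' 2) q :=
    ⟨hsetup, hq, M22PairAut.range_index hD hprim h22⟩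
  subst hj
  have hQeq : Q = hfull.Q := by
    rw [hQ]
    show (generalizedFittingSubgroup ↥hfull.CA).map hfull.CA.subtype = hfull.Q
    rw [hfull.generalizedFitting, Subgroup.subgroupOf_map_subtype, inf_of_le_left hfull.Q_le]
  subst hQeq
  obtain ⟨Φ, hΦ, hΦk⟩ := hfull.exists_quotient
  refine ⟨hfull.large, hfull.card_Q, hfull.Q_le, hfull.CA_normal, F', hFld', hFt', hF', ?_⟩
  haveI := hfull.CA_normal
  exact ⟨(QuotientGroup.quotientMulEquivOfEq hΦk.symm).trans
    (QuotientGroup.quotientKerEquivOfSurjective Φ hΦ)⟩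

end Cfsg.Agent.S5473
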