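import Cfsg.Statements.S5514
import Cfsg.Agent.O73.Classes
import Cfsg.Agent.O73.Invariants

set_option autoImplicit false
open Cfsg

namespace Cfsg.Agent.S5514

open Cfsg.Agent.O73

/-- The quotient by the trivial centre. -/
noncomputable def unCentre : Cfsg.POmega (ZMod 3) (Cfsg.quadFormOdd 3 (ZMod 3)) ≃* ↥Om :=
  (QuotientGroup.quotientMulEquivOfEq center_Om).trans QuotientGroup.quotientBot

/-- A representative in the commutator subgroup. -/
noncomputable def repO (i : Fin 7) : ↥Om := ⟨el (parOf (repC i)), U_le ⟨_, rfl⟩⟩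

theorem repC_mem (i : Fin 7) : repC i ∈ reps := by revert i; decide

theorem exists_repC {r : ℕ} (h : r ∈ reps) : ∃ i, repC i = r := by
  revert r
  decide

theorem orderOf_repO (i : Fin 7) : orderOf (repO i) = 3 := by
  haveI : Fact (Nat.Prime 3) := ⟨by norm_num⟩
  rw [← Subgroup.orderOf_coe]
  refine orderOf_eq_prime (reps_cube _ (repC_mem i)) fun e => ?_
  have h : ∀ j : Fin 7, tP (repC j) ≠ oneP := by decide +kernel
  exact h i ((isP_tP _).ext ⟨_, rfl⟩ (by rw [← mg_el_parOf, toMat_oneP, show el (parOf (repC i)) = 1 from e, mg_one]))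

theorem eq_or_eq_inv {H : Type} [Group H] {a b : H} (hb : b ^ 3 = 1) (ha : a ∈ Subgroup.zpowers b) (h1 : a ≠ 1) :
    a = b ∨ a = b⁻¹ := by
  obtain ⟨k, rfl⟩ := ha
  have e : b ^ k = b ^ (k % 3) := by
    conv_lhs => rw [← Int.emod_add_mul_ediv k 3, _root_.zpow_add, _root_.zpow_mul]
    rw [show b ^ (3 : ℤ) = 1 by exact_mod_cast hb, one_zpow, mul_one]
  simp only [e] at h1 ⊢
  rcases (show k % 3 = 0 ∨ k % 3 = 1 ∨ k % 3 = 2 by omega) with h | h | h <;> rw [h] at h1 ⊢
  · exact absurd (zpow_zero b) h1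
  · exact Or.inl (zpow_one b)
  · exact Or.inr (eq_inv_of_mul_eq_one_left (by rw [← zpow_add_one]; exact_mod_cast hb))

/-- The commutator subgroup of the isometry group of a non-degenerate 7-dimensional quadratic form over the field with three elements, modulo its (trivial) centre — the simple group Ω(7, 3) — has exactly seven conjugacy classes of subgroups of order 3. -/
theorem result : ∃ Y : Fin 7 → Subgroup (Cfsg.POmega (ZMod 3) (Cfsg.quadFormOdd 3 (ZMod 3))), (∀ i, Nat.card (Y i) = 3) ∧ (∀ i j, (∃ g : Cfsg.POmega (ZMod 3) (Cfsg.quadFormOdd 3 (ZMod 3)), (Y i).map (MulAut.conj g).toMonoidHom = Y j) → i = j) ∧ (∀ X : Subgroup (Cfsg.POmega (ZMod 3) (Cfsg.quadFormOdd 3 (ZMod 3))), Nat.card X = 3 → ∃ i, ∃ g : Cfsg.POmega (ZMod 3) (Cfsg.quadFormOdd 3 (ZMod 3)), X.map (MulAut.conj g).toMonoidHom = Y i) := by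
  refine ⟨fun i => Subgroup.zpowers (unCentre.symm (repO i)), fun i => ?_, fun i j => ?_, fun X hX => ?_⟩
  · rw [Nat.card_zpowers, MulEquiv.orderOf_eq, orderOf_repO]
  · rintro ⟨g, hg⟩
    rw [MonoidHom.map_zpowers] at hg
    have hmem : MulAut.conj g (unCentre.symm (repO i)) ∈ Subgroup.zpowers (unCentre.symm (repO j)) := by
      beta_reduce at hg
      rw [← hg]
      exact Subgroup.mem_zpowers _
    have ho : ∀ k, orderOf (unCentre.symm (repO k)) = 3 := fun k => by rw [MulEquiv.orderOf_eq, orderOf_repO]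
    have h1 : MulAut.conj g (unCentre.symm (repO i)) ≠ 1 := fun e => by
      have := ho i
      rw [← MulEquiv.orderOf_eq (MulAut.conj g), e, orderOf_one] at this
      omega
    refine rep_injective i j ⟨((unCentre g : ↥Om) : G0), (unCentre g).2, ?_⟩
    rcases eq_or_eq_inv (by have := pow_orderOf_eq_one (unCentre.symm (repO j)); rwa [ho j] at this) hmem h1 with e | e
    · left
      have := congrArg (fun x => ((unCentre x : ↥Om) : G0)) e
      simp [MulAut.conj_apply] at this
      rw [← mul_inv_eq_iff_eq_mul]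
      exact this
    · right
      have := congrArg (fun x => ((unCentre x : ↥Om) : G0)) e
      simp [MulAut.conj_apply] at this
      rw [← mul_inv_eq_iff_eq_mul]
      exact this
  · haveI : Fact (Nat.Prime 3) := ⟨by norm_num⟩
    haveI : Finite X := Nat.finite_of_card_ne_zero (by omega)
    obtain ⟨x, hx, hx1⟩ : ∃ x ∈ X, x ≠ 1 := by
      by_contra hno
      push Not at hno
      have : X = ⊥ := (Subgroup.eq_bot_iff_forall X).2 hno
      rw [this, Subgroup.card_bot] at hX
      omega
    have hox : orderOf x = 3 := orderOf_eq_prime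
      (orderOf_dvd_iff_pow_eq_one.1 (by have := Subgroup.orderOf_dvd_natCard X hx; rwa [hX] at this)) hx1
    have hXz : Subgroup.zpowers x = X := Subgroup.eq_of_le_of_card_ge ((Subgroup.zpowers_le).2 hx)
      (by rw [Nat.card_zpowers, hox, hX])
    have hy : orderOf ((unCentre x : ↥Om) : G0) = 3 := by rw [Subgroup.orderOf_coe, MulEquiv.orderOf_eq, hox]
    obtain ⟨c, hc, hrel⟩ := exists_rel_el (unCentre x).2 hy
    obtain ⟨r, hr, hrel'⟩ := exists_rep (c := c) (fun e => by rw [e, orderOf_one] at hc; omega)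
      (by have := pow_orderOf_eq_one (el c); rwa [hc] at this)
    obtain ⟨i, rfl⟩ := exists_repC hr
    obtain ⟨h, hh, e⟩ := hrel.trans hrel'
    refine ⟨i, unCentre.symm ⟨h, hh⟩, ?_⟩
    rw [← hXz, MonoidHom.map_zpowers]
    rcases e with e | e
    · congr 1
      apply unCentre.injective
      apply Subtype.ext
      simp [MulAut.conj_apply, repO, e]
    · rw [← Subgroup.zpowers_inv]
      congr 1
      apply unCentre.injective
      apply Subtype.ext
      simp [MulAut.conj_apply, repO]
      rw [← _root_.inv_inj, _root_.mul_inv_rev, _root_.mul_inv_rev, inv_inv, inv_inv, e, mul_inv_cancel_right]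

end Cfsg.Agent.S5514
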