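import Cfsg.Statements.S5516
import Cfsg.Agent.O83.Orbits

set_option autoImplicit false
open Cfsg

namespace Cfsg.Agent.S5516

open Agent.O83

theorem zpowers_of_card_three {H : Type*} [Group H] {X : Subgroup H} (hX : Nat.card X = 3) :
    ∃ x, orderOf x = 3 ∧ X = Subgroup.zpowers x := by
  haveI : Fact (Nat.Prime 3) := ⟨Nat.prime_three⟩
  haveI : Finite X := Nat.finite_of_card_ne_zero (by omega)
  obtain ⟨x, hx⟩ := exists_prime_orderOf_dvd_card' (G := X) 3 (by rw [hX])
  rw [← Subgroup.orderOf_coe] at hx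
  exact ⟨x, hx, (Subgroup.eq_of_le_of_card_ge (Subgroup.zpowers_le.2 x.2) (by rw [Nat.card_zpowers, hx, hX])).symm⟩

theorem classes13 : ∃ Y : Fin 13 → Subgroup P8, (∀ i, Nat.card (Y i) = 3) ∧
    (∀ i j, (∃ g : P8, (Y i).map (MulAut.conj g).toMonoidHom = Y j) → i = j) ∧
    ∀ X : Subgroup P8, Nat.card X = 3 → ∃ i, ∃ g : P8, X.map (MulAut.conj g).toMonoidHom = Y i := by
  refine ⟨fun i => Subgroup.zpowers (rP i), fun i => by rw [Nat.card_zpowers, orderOf_rP], ?_, fun X hX => ?_⟩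
  · rintro i j ⟨g, hg⟩
    exact rP_injective (rel_of_zpowers (rP_ne i) (rP_cube j) hg)
  · obtain ⟨x, hx, rfl⟩ := zpowers_of_card_three hX
    obtain ⟨i, hi⟩ := exists_class hx
    exact ⟨i, zpowers_of_rel hi⟩


/-- PΩ⁺(8, 3) (the commutator subgroup of the isometry group of the hyperbolic quadratic form in dimension 8 over the field with three elements, modulo its centre) has exactly 13 conjugacy classes of subgroups of order 3; and a finite group G whose generalized Fitting subgroup L is isomorphic to PΩ⁺(8, 3) with G/L the symmetric group of degree 3 has exactly 7 orbits, under conjugation, on the subgroups of L of order 3. -/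
theorem result {G : Type*} [Group G] [Finite G] (L : Subgroup G) (hL : L = Cfsg.generalizedFittingSubgroup G) (hF : Nonempty (↥L ≃* Cfsg.POmega (ZMod 3) (Cfsg.quadFormPlus 4 (ZMod 3)))) [hn : L.Normal] (hq : Nonempty (G ⧸ L ≃* Equiv.Perm (Fin 3))) : (∃ Y : Fin 13 → Subgroup (Cfsg.POmega (ZMod 3) (Cfsg.quadFormPlus 4 (ZMod 3))), (∀ i, Nat.card (Y i) = 3) ∧ (∀ i j, (∃ g : Cfsg.POmega (ZMod 3) (Cfsg.quadFormPlus 4 (ZMod 3)), (Y i).map (MulAut.conj g).toMonoidHom = Y j) → i = j) ∧ (∀ X : Subgroup (Cfsg.POmega (ZMod 3) (Cfsg.quadFormPlus 4 (ZMod 3))), Nat.card X = 3 → ∃ i, ∃ g : Cfsg.POmega (ZMod 3) (Cfsg.quadFormPlus 4 (ZMod 3)), X.map (MulAut.conj g).toMonoidHom = Y i)) ∧ ∃ Y : Fin 7 → Subgroup G, (∀ i, Y i ≤ L ∧ Nat.card (Y i) = 3) ∧ (∀ i j, (∃ g : G, (Y i).map (MulAut.conj g).toMonoidHom = Y j) → i = j) ∧ ∀ X : Subgroup G, X ≤ L → Nat.card X = 3 → ∃ i, ∃ g : G, X.map (MulAut.conj g).toMonoidHom = Y i := by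
  subst hL
  obtain ⟨e⟩ : Nonempty (↥(Cfsg.generalizedFittingSubgroup G) ≃* P8) := hF
  obtain ⟨q⟩ := hq
  refine ⟨classes13, ?_⟩
  obtain ⟨p, φ, hφ, hact⟩ := exists_action (hn := hn) e q
  let z : Fin 7 → ↥(Cfsg.generalizedFittingSubgroup G) := fun a => e.symm (rP (p (orb7 a)))
  have hz : ∀ a, orderOf (z a) = 3 := fun a => (e.symm.orderOf_eq _).trans (orderOf_rP _)
  have hzrel : ∀ a, Rel (e (z a)) (rP (p (orb7 a))) := fun a => by
    show Rel (e (e.symm _)) _
    rw [e.apply_symm_apply]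
    exact Rel.refl _
  refine ⟨fun a => Subgroup.zpowers (z a : G), fun a => ⟨Subgroup.zpowers_le.2 (z a).2, ?_⟩, ?_, ?_⟩
  · rw [Nat.card_zpowers, Subgroup.orderOf_coe, hz]
  · rintro a b ⟨x, hx⟩
    obtain ⟨s, hs, hsx⟩ : φ x ∈ six.map (MulAut.conj p).toMonoidHom := hφ ▸ ⟨x, rfl⟩
    have h1 : Rel (e (MulAut.conjNormal x (z a))) (e (z b)) := by
      refine Rel.map ?_ e.toMonoidHom
      refine rel_of_zpowers (g := 1) (fun h => ?_) (by rw [← hz b, pow_orderOf_eq_one]) ?_
      · have := hz a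
        rw [(MulEquiv.map_eq_one_iff _).1 h, orderOf_one] at this
        omega
      · refine Subgroup.map_injective (f := (Cfsg.generalizedFittingSubgroup G).subtype)
          Subtype.val_injective ?_
        beta_reduce at hx
        rw [MonoidHom.map_zpowers] at hx
        rw [MonoidHom.map_zpowers, MonoidHom.map_zpowers, MonoidHom.map_zpowers]
        refine Eq.trans (congrArg Subgroup.zpowers ?_) hx
        simp
    have h2 : φ x (p (orb7 a)) = p (orb7 b) :=
      rP_injective ((hact x _ _ (hzrel a)).symm.trans (h1.trans (hzrel b)))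
    rw [← hsx] at h2
    exact six_orbits.1 a b ⟨s, hs, p.injective (by simpa using h2)⟩
  · intro X hXL hX
    obtain ⟨x, hx, rfl⟩ := zpowers_of_card_three hX
    let l : ↥(Cfsg.generalizedFittingSubgroup G) := ⟨x, hXL (Subgroup.mem_zpowers x)⟩
    obtain ⟨i, hi⟩ := exists_class (x := e l) (by rw [e.orderOf_eq, ← Subgroup.orderOf_coe]; exact hx)
    obtain ⟨a, s, hs, hsa⟩ := six_orbits.2 (p.symm i)
    obtain ⟨y, hy⟩ : MulAut.conj p s⁻¹ ∈ φ.range := by
      rw [hφ]
      exact ⟨s⁻¹, inv_mem hs, rfl⟩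
    have hya : φ y i = p (orb7 a) := by
      rw [hy, MulAut.conj_apply, Equiv.Perm.mul_apply, Equiv.Perm.mul_apply]
      refine congrArg p ?_
      rw [show p⁻¹ i = p.symm i from rfl, ← hsa]
      simp
    have h1 := hact y l i hi
    rw [hya] at h1
    obtain ⟨h, hh⟩ := zpowers_of_rel (Rel.map (h1.trans (hzrel a).symm) e.symm.toMonoidHom)
    refine ⟨a, (h : G) * y, ?_⟩
    have := congrArg (Subgroup.map (Cfsg.generalizedFittingSubgroup G).subtype) hh
    simp only [MonoidHom.map_zpowers] at this ⊢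
    refine Eq.trans (congrArg Subgroup.zpowers ?_) (this.trans (congrArg Subgroup.zpowers (by simp)))
    simp [l, mul_assoc]

end Cfsg.Agent.S5516
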