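import Cfsg.Statements.S5517
import Cfsg.Agent.ThreeTrans.Y332.Iso
import Cfsg.Agent.S1685
import Cfsg.Agent.S1686

set_option autoImplicit false
open Cfsg

namespace Cfsg.Agent.S5517

/-- Let G be a finite group with trivial centre generated by a conjugation-invariant set D of 3-transpositions on which it acts primitively, such that for some d in D the subgroup generated by the members of D other than d commuting with d has central largest normal 2- and 3-subgroups, and suppose G with D is of type M(22). Then G has a subgroup L generated by the members of D it contains and isomorphic to Ω(7, 3) (the commutator subgroup of the isometry group of a non-degenerate 7-dimensional quadratic form over the field with three elements, modulo its centre), and every Sylow 3-subgroup of L is a Sylow 3-subgroup of G. -/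
theorem result {G : Type*} [Group G] [Finite G] {D : Set G} (hD : Cfsg.IsThreeTranspositionGroup D) (hprim : Cfsg.IsPrimitiveUnderConj D) (d₀ : G) (hd₀ : d₀ ∈ D) (h3 : Cfsg.pCore 3 ↥(Subgroup.closure {y : G | y ∈ D ∧ y ≠ d₀ ∧ Commute d₀ y}) ≤ Subgroup.center ↥(Subgroup.closure {y : G | y ∈ D ∧ y ≠ d₀ ∧ Commute d₀ y})) (h2 : Cfsg.pCore 2 ↥(Subgroup.closure {y : G | y ∈ D ∧ y ≠ d₀ ∧ Commute d₀ y}) ≤ Subgroup.center ↥(Subgroup.closure {y : G | y ∈ D ∧ y ≠ d₀ ∧ Commute d₀ y})) (h22 : Cfsg.IsOfTypeM22 G D) : ∃ L : Subgroup G, Cfsg.IsDSubgroup D L ∧ Nonempty (↥L ≃* Cfsg.POmega (ZMod 3) (Cfsg.quadFormOdd 3 (ZMod 3))) ∧ ∀ P : Sylow 3 ↥L, ∃ P' : Sylow 3 G, (P : Subgroup ↥L).map L.subtype = (P' : Subgroup G) := by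
  classical
  obtain ⟨e, he⟩ := ThreeTrans.Y332.exists_iso hD (ThreeTrans.class_of_primitive hD hprim) h22
  obtain ⟨eO⟩ := Cfsg.Agent.S1686.result
  have hidx := Cfsg.Agent.S1685.result
  set gens : Set (FreeGroup Cfsg.Spor.Fi22.Gen) := {Cfsg.Spor.Fi22.b, Cfsg.Spor.Fi22.c,
    Cfsg.Spor.Fi22.d, Cfsg.Spor.Fi22.e, Cfsg.Spor.Fi22.f, Cfsg.Spor.Fi22.g, Cfsg.Spor.Fi22.h,
    Cfsg.Spor.Fi22.i}
  set H : Subgroup Cfsg.Spor.Fi22 := (Subgroup.closure gens).map (PresentedGroup.mk
    (Cfsg.Spor.coxRelators Cfsg.Spor.Fi22.edges ∪ {r | r ∈ Cfsg.Spor.Fi22.extra})) with hH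
  set L : Subgroup G := H.map e.toMonoidHom with hL
  have hgensD : ∀ w ∈ gens, e (PresentedGroup.mk _ w) ∈ D := by
    intro w hw
    simp only [gens, Set.mem_insert_iff, Set.mem_singleton_iff] at hw
    rcases hw with rfl | rfl | rfl | rfl | rfl | rfl | rfl | rfl <;> exact he _
  refine ⟨L, le_antisymm ((Subgroup.closure_le L).2 fun x hx => hx.2) ?_,
    ⟨(H.equivMapOfInjective e.toMonoidHom e.injective).symm.trans eO⟩, fun P => ?_⟩
  · rw [hL, hH, Subgroup.map_map, MonoidHom.map_closure, Subgroup.closure_le]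
    rintro - ⟨w, hw, rfl⟩
    refine SetLike.mem_coe.2 (Subgroup.subset_closure ?_)
    exact ⟨hgensD w hw,
      Subgroup.subset_closure ⟨w, hw, rfl⟩⟩
  · have hLi : L.index = 14080 := by
      rw [hL, Subgroup.index_map_of_bijective e.bijective, hidx]
    have hnd : ¬ 3 ∣ ((P : Subgroup ↥L).map L.subtype).index := by
      rw [Subgroup.index_map, L.ker_subtype, sup_bot_eq, L.range_subtype, hLi]
      intro h
      have h3 : Nat.Prime 3 := Nat.prime_three
      rcases h3.dvd_mul.1 h with h' | h'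
      · exact P.not_dvd_index h'
      · norm_num at h'
    exact ⟨(P.isPGroup'.map L.subtype).toSylow hnd, rfl⟩

end Cfsg.Agent.S5517
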