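import Cfsg.Statements.S5520
import Cfsg.Agent.U62.Final

set_option autoImplicit false
open Cfsg

namespace Cfsg.Agent.S5520

open Cfsg.Agent.U62

theorem exists_root (F : Type) [Field F] [Fintype F] (hF : Fintype.card F = 4) :
    CharP F 2 ∧ ∃ w : F, w ^ 2 + w + 1 = 0 := by
  classical
  obtain ⟨p, hp⟩ := CharP.exists F
  obtain ⟨n, hprime, hn⟩ := FiniteField.card F p
  rw [hF] at hn
  have hp2 : p = 2 := by
    have h : p ∣ 2 ^ 2 := by rw [show (2 : ℕ) ^ 2 = p ^ (n : ℕ) from hn]; exact dvd_pow_self p n.2.ne'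
    exact (Nat.prime_dvd_prime_iff_eq hprime Nat.prime_two).1 (hprime.dvd_of_dvd_pow h)
  subst hp2
  refine ⟨hp, ?_⟩
  obtain ⟨x, hx⟩ : ∃ x : F, x ≠ 0 ∧ x ≠ 1 := by
    by_contra h
    push Not at h
    have : (Finset.univ : Finset F) ⊆ {0, 1} := fun x _ => by
      by_cases h0 : x = 0
      · simp [h0]
      · simp [h x h0]
    have hle := (Finset.card_le_card this).trans Finset.card_le_two
    rw [Finset.card_univ, hF] at hle
    omega
  refine ⟨x, mul_left_cancel₀ (mul_ne_zero hx.1 (sub_ne_zero.2 hx.2)) ?_⟩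
  have h4 := FiniteField.pow_card x
  rw [hF] at h4
  linear_combination h4

/-- A subgroup with the given centre and central quotient is a cover. -/
theorem exists_cover {F F9 : Type} [Field F] [Field F9] [Fintype F9] (hF9 : Fintype.card F9 = 9)
    {K : Subgroup (U F)} (h3 : Nat.card ↥(Subgroup.center ↥K) = 3)
    (h : Nonempty (↥K ⧸ Subgroup.center ↥K ≃* Cfsg.PSU 4 F9 3)) : Nonempty (Cover K) := by
  obtain ⟨e⟩ := h
  obtain ⟨i⟩ := Cfsg.Agent.UnitMult.FourThree.exists_iso (F := F9) hF9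
  let f : ↥K →* G := (e.trans i.symm).toMonoidHom.comp (QuotientGroup.mk' (Subgroup.center ↥K))
  have hk : f.ker = Subgroup.center ↥K := by
    ext x
    rw [MonoidHom.mem_ker]
    show (e.trans i.symm) (QuotientGroup.mk' _ x) = 1 ↔ _
    rw [MulEquiv.map_eq_one_iff, QuotientGroup.mk'_apply, QuotientGroup.eq_one_iff]
  exact ⟨⟨f, (e.trans i.symm).surjective.comp (QuotientGroup.mk'_surjective _), hk.symm ▸ h3, hk.le⟩⟩

/-- In the special unitary group of dimension 6 over the field with four elements (determinant-one matrices preserving the standard Hermitian form), the subgroups K whose centre has order 3 with K modulo its centre isomorphic to the projective special unitary group of dimension 4 over the field with nine elements fall into exactly three conjugacy classes. -/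
theorem result (F : Type) [Field F] [Fintype F] (hF : Fintype.card F = 4) (F9 : Type) [Field F9] [Fintype F9] (hF9 : Fintype.card F9 = 9) : ∃ K₁ K₂ K₃ : Subgroup ↥(Cfsg.SU 6 F 2), (∀ K ∈ [K₁, K₂, K₃], Nat.card ↥(Subgroup.center ↥K) = 3 ∧ Nonempty (↥K ⧸ Subgroup.center ↥K ≃* Cfsg.PSU 4 F9 3)) ∧ (¬ ∃ g : ↥(Cfsg.SU 6 F 2), K₁.map (MulAut.conj g).toMonoidHom = K₂) ∧ (¬ ∃ g : ↥(Cfsg.SU 6 F 2), K₁.map (MulAut.conj g).toMonoidHom = K₃) ∧ (¬ ∃ g : ↥(Cfsg.SU 6 F 2), K₂.map (MulAut.conj g).toMonoidHom = K₃) ∧ ∀ K : Subgroup ↥(Cfsg.SU 6 F 2), Nat.card ↥(Subgroup.center ↥K) = 3 → Nonempty (↥K ⧸ Subgroup.center ↥K ≃* Cfsg.PSU 4 F9 3) → ∃ g : ↥(Cfsg.SU 6 F 2), K.map (MulAut.conj g).toMonoidHom = K₁ ∨ K.map (MulAut.conj g).toMonoidHom = K₂ ∨ K.map (MulAut.conj g).toMonoidHom = K₃ := by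
  obtain ⟨hchar, w, hw⟩ := exists_root F hF
  haveI : CharP F 2 := hchar
  letI : U62.Root F := ⟨w, hw⟩
  have hgood : ∀ k : Fin 3, Nat.card ↥(Subgroup.center ↥(Kk k : Subgroup (U F))) = 3 ∧
      Nonempty (↥(Kk k : Subgroup (U F)) ⧸ Subgroup.center ↥(Kk k : Subgroup (U F)) ≃* Cfsg.PSU 4 F9 3) := by
    intro k
    obtain ⟨i⟩ := Cfsg.Agent.UnitMult.FourThree.exists_iso (F := F9) hF9
    refine ⟨by rw [(coverK hF k).center_eq]; exact (coverK hF k).card_ker,
      ⟨(QuotientGroup.quotientMulEquivOfEq (coverK hF k).center_eq).trans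
        ((QuotientGroup.quotientKerEquivOfSurjective (coverK hF k).ψ (coverK hF k).surj).trans i)⟩⟩
  refine ⟨Kk 0, Kk 1, Kk 2, ?_, ?_, ?_, ?_, ?_⟩
  · intro K hK
    simp only [List.mem_cons, List.not_mem_nil, or_false] at hK
    rcases hK with rfl | rfl | rfl <;> exact hgood _
  · rintro ⟨g, hg⟩
    exact Kk_ne_zero (k := 1) (by decide) (eq_of_conj hF hg)
  · rintro ⟨g, hg⟩
    exact Kk_ne_zero (k := 2) (by decide) (eq_of_conj hF hg)
  · rintro ⟨g, hg⟩
    exact Kk_one_ne_two (eq_of_conj hF hg)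
  · intro K h3 hiso
    obtain ⟨c⟩ := exists_cover hF9 h3 hiso
    obtain ⟨g, k, hg⟩ := exists_conj hF c
    refine ⟨g, ?_⟩
    fin_cases k
    · exact Or.inl hg
    · exact Or.inr (Or.inl hg)
    · exact Or.inr (Or.inr hg)

end Cfsg.Agent.S5520
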