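import Cfsg.Statements.S5521
import Cfsg.Agent.Compute.MathieuPointwise

set_option autoImplicit false
open Cfsg
open scoped Pointwise

namespace Cfsg.Agent.S5521

/-- The Mathieu group M₂₄ in its natural action on the 24 coordinate positions of the binary Golay code has minimal base size exactly 7: every set of at most 6 positions is fixed pointwise by some non-identity element of M₂₄, while some set of 7 positions is fixed pointwise only by the identity. -/
theorem result :
    (∀ B : Finset Cfsg.GolayPt, B.card ≤ 6 → ∃ g ∈ Cfsg.M24, g ≠ 1 ∧ ∀ b ∈ B, g b = b) ∧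
    (∃ B : Finset Cfsg.GolayPt, B.card = 7 ∧ ∀ g ∈ Cfsg.M24, (∀ b ∈ B, g b = b) → g = 1) := by
  classical
  refine ⟨fun B hB => ?_, ?_⟩
  · obtain ⟨T, hT, -, hTc⟩ := Finset.exists_subsuperset_card_eq (Finset.subset_univ B)
      (n := 6) hB (by simp)
    obtain ⟨g, hg, hgx⟩ := Compute.exists_move6 T.toList T.nodup_toList
      (by rw [Finset.length_toList, hTc])
    have key : ∃ N, 1 < N ∧
        Nat.card {h : Equiv.Perm Cfsg.GolayPt // h ∈ Cfsg.M24 ∧ ∀ p ∈ T.toList, h p = p} = N := by
      by_cases ho : ∃ o ∈ Cfsg.octads, ∀ p ∈ T.toList, p ∈ o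
      · rw [if_pos ho] at hgx
        exact ⟨16, by norm_num, Compute.card_fix_six Compute.m24c_eq Compute.m24c_check
          Compute.drop6_c.2.2 Compute.drop6_c.1 Compute.drop6_c.2.1 hg hgx⟩
      · rw [if_neg ho] at hgx
        exact ⟨3, by norm_num, Compute.card_fix_six Compute.m24_eq Compute.m24a_check
          Compute.drop6_a.2.2 Compute.drop6_a.1 Compute.drop6_a.2.1 hg hgx⟩
    obtain ⟨N, hN, hc⟩ := key
    rw [← hc, Finite.one_lt_card_iff_nontrivial] at hN
    obtain ⟨⟨h, hh, hfix⟩, hne⟩ := exists_ne (⟨1, one_mem _, fun _ _ => rfl⟩ :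
      {h : Equiv.Perm Cfsg.GolayPt // h ∈ Cfsg.M24 ∧ ∀ p ∈ T.toList, h p = p})
    exact ⟨h, hh, fun e => hne (Subtype.ext e), fun b hb => hfix b (Finset.mem_toList.mpr (hT hb))⟩
  · let pts : List Cfsg.GolayPt := (([23, 0, 1, 2, 3, 4, 5] : List ℕ).map Compute.rep24.pt)
    have hnd : pts.Nodup := by
      refine List.Nodup.map_on ?_ (by decide)
      intro a ha b hb hab
      have := congrArg Compute.ptIdx hab
      have hlt : ∀ i ∈ [23, 0, 1, 2, 3, 4, 5], i < 24 := by decide
      rwa [Compute.ptIdx_rep24 (hlt a ha), Compute.ptIdx_rep24 (hlt b hb)] at this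
    refine ⟨pts.toFinset, by rw [List.toFinset_card_of_nodup hnd]; rfl, fun g hg hfix => ?_⟩
    have hd : g ∈ Compute.rep24.chainGroup (Compute.m24aChain.drop 7) := by
      rw [Compute.mem_chain_drop _ Compute.m24a_check 7 (le_of_eq Compute.drop6_a.2.2.symm),
        ← Compute.m24_eq]
      refine ⟨hg, fun L hL => hfix _ ?_⟩
      have hb : Compute.m24aChain.map Compute.Level.base = [23, 0, 1, 2, 3, 4, 5] := by decide +kernel
      rw [List.mem_toFinset]
      exact List.mem_map.mpr ⟨L.base, hb ▸ List.mem_map_of_mem (List.mem_of_mem_take hL), rfl⟩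
    rw [List.drop_eq_nil_of_le (le_of_eq Compute.drop6_a.2.2)] at hd
    simpa [Compute.Rep.chainGroup, Compute.Rep.span, Compute.topGens] using hd

end Cfsg.Agent.S5521
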