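import Cfsg.Statements.S5529
import Cfsg.Agent.M23Triples.Check

set_option autoImplicit false
open Cfsg

namespace Cfsg.Agent.S5529

open M23Triples Compute

/-- Bound on the transpositions needed for an element of prime order in M23. -/
def swapBound : ℕ → ℕ
  | 2 => 8
  | 3 => 12
  | 5 => 16
  | 7 => 18
  | 11 => 20
  | _ => 22

theorem mem_primes {p : ℕ} (hp : p.Prime) (h : p ∣ 10200960) :
    p = 2 ∨ p = 3 ∨ p = 5 ∨ p = 7 ∨ p = 11 ∨ p = 23 := by
  have e : (10200960 : ℕ) = 2 ^ 7 * (3 ^ 2 * (5 * (7 * (11 * 23)))) := by norm_num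
  rw [e] at h
  have key : ∀ q : ℕ, q.Prime → p ∣ q → p = q := fun q hq hd => (Nat.prime_dvd_prime_iff_eq hp hq).mp hd
  rcases (Nat.Prime.dvd_mul hp).mp h with h | h
  · exact Or.inl (key 2 (by norm_num) (hp.dvd_of_dvd_pow h))
  rcases (Nat.Prime.dvd_mul hp).mp h with h | h
  · exact Or.inr (Or.inl (key 3 (by norm_num) (hp.dvd_of_dvd_pow h)))
  rcases (Nat.Prime.dvd_mul hp).mp h with h | h
  · exact Or.inr (Or.inr (Or.inl (key 5 (by norm_num) h)))
  rcases (Nat.Prime.dvd_mul hp).mp h with h | h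
  · exact Or.inr (Or.inr (Or.inr (Or.inl (key 7 (by norm_num) h))))
  rcases (Nat.Prime.dvd_mul hp).mp h with h | h
  · exact Or.inr (Or.inr (Or.inr (Or.inr (Or.inl (key 11 (by norm_num) h)))))
  · exact Or.inr (Or.inr (Or.inr (Or.inr (Or.inr (key 23 (by norm_num) h)))))

theorem support_le (x : Spor.M23) :
    (x : Equiv.Perm GolayPt).support.card ≤ 23 := by
  classical
  have hfix : (x : Equiv.Perm GolayPt) none = none := x.2.2
  have h : (x : Equiv.Perm GolayPt).support ⊆ Finset.univ.erase none := fun q hq => by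
    refine Finset.mem_erase.mpr ⟨fun e => ?_, Finset.mem_univ q⟩
    rw [e, Equiv.Perm.mem_support] at hq
    exact hq hfix
  have h4 : Fintype.card GolayPt = 24 := by decide
  refine (Finset.card_le_card h).trans ?_
  rw [Finset.card_erase_of_mem (Finset.mem_univ _), Finset.card_univ, h4]

theorem exists_short {p : ℕ} (hp : p.Prime) (hd : p ∣ 10200960) (x : Spor.M23)
    (ho : orderOf x = p) :
    ∃ l : List (GolayPt × GolayPt), swapProd l = (x : Equiv.Perm GolayPt) ∧
      l.length ≤ swapBound p := by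
  have ho' : orderOf (x : Equiv.Perm GolayPt) = p := by rw [Subgroup.orderOf_coe]; exact ho
  rcases mem_primes hp hd with rfl | rfl | rfl | rfl | rfl | rfl
  · haveI : Fact (Nat.Prime 2) := ⟨hp⟩
    have hb := support_bound (n := 7) two_check.1 two_check.2.1
      (by rw [two_check.2.2]; decide +kernel) (by rw [two_check.2.2]; norm_num) x.2 ho'
    obtain ⟨l, hl, hn⟩ := exists_swapList_prime (M := 16) _ hp ho' (by omega)
    exact ⟨l, hl, by simp only [swapBound]; omega⟩
  · haveI : Fact (Nat.Prime 3) := ⟨hp⟩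
    have hfac : (9 : ℕ) = 3 ^ (10200960 : ℕ).factorization 3 := by
      have h : (10200960 : ℕ) = 3 ^ 2 * 1133440 := by norm_num
      rw [h, Nat.factorization_mul (by norm_num) (by norm_num), Finsupp.add_apply,
        Nat.Prime.factorization_pow hp, Nat.factorization_eq_zero_of_not_dvd
          (by norm_num : ¬ 3 ∣ 1133440)]
      simp
    have hb := support_bound (n := 2) three_check.1 three_check.2.1
      (by rw [three_check.2.2]; exact hfac) (by rw [three_check.2.2]; norm_num) x.2 ho'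
    obtain ⟨l, hl, hn⟩ := exists_swapList_prime (M := 18) _ hp ho' (by omega)
    exact ⟨l, hl, by simp only [swapBound]; omega⟩
  all_goals
    obtain ⟨k, hk⟩ := Equiv.Perm.cycleType_prime_order (ho'.symm ▸ hp :
      (orderOf (x : Equiv.Perm GolayPt)).Prime)
    have hs := Equiv.Perm.sum_cycleType (x : Equiv.Perm GolayPt)
    rw [hk, Multiset.sum_replicate, ho', smul_eq_mul] at hs
    obtain ⟨l', hl', hn'⟩ := exists_swapList (x : Equiv.Perm GolayPt)
    rw [hk, Multiset.sum_replicate, Multiset.card_replicate, ho', smul_eq_mul] at hn'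
    have := support_le x
    exact ⟨l', hl', by simp only [swapBound]; omega⟩

theorem trips_cover : [2, 3, 5, 7, 11, 23].all (fun p => [2, 3, 5, 7, 11, 23].all fun q =>
    [2, 3, 5, 7, 11, 23].all fun r => decide (p ≤ q → q ≤ r → ¬ (p = 2 ∧ q = 2) →
      ¬ ((p = 2 ∧ q = 3) ∨ (p = 2 ∧ q = 5 ∧ r = 5) ∨ (p = 2 ∧ q = 5 ∧ r = 7) ∨
        (p = 3 ∧ q = 3 ∧ r ≤ 7)) →
      trips.any (fun t => Nat.beq t.p p && Nat.beq t.q q && Nat.beq t.r r) = true)) = true := by
  decide +kernel


/-- Generation of the Mathieu group M₂₃ (the stabiliser of a point in the Mathieu group M₂₄ acting on 24 points) by triples of prime orders. Let p ≤ q ≤ r be primes dividing |M₂₃| = 10200960 = 2⁷·3²·5·7·11·23, not both p and q equal to 2. Then M₂₃ contains elements x, y, z of orders p, q, r with xyz = 1 and ⟨x, y⟩ = M₂₃ if and only if (p, q, r) is none of: (2, 3, r) for any r, (2, 5, 5), (2, 5, 7), (3, 3, 3), (3, 3, 5), (3, 3, 7). -/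
theorem result (p q r : ℕ) (hp : p.Prime) (hq : q.Prime)
    (hr : r.Prime) (hpq : p ≤ q) (hqr : q ≤ r) (hp2 : ¬ (p = 2 ∧ q = 2))
    (hdvd : p ∣ 10200960 ∧ q ∣ 10200960 ∧ r ∣ 10200960) :
    (∃ x y z : Cfsg.Spor.M23, orderOf x = p ∧ orderOf y = q ∧ orderOf z = r ∧ x * y * z = 1 ∧
        Subgroup.closure {x, y} = ⊤) ↔
      ¬ ((p = 2 ∧ q = 3) ∨ (p = 2 ∧ q = 5 ∧ r = 5) ∨ (p = 2 ∧ q = 5 ∧ r = 7) ∨ (p = 3 ∧ q = 3 ∧ r ≤ 7)) := by
  obtain ⟨dp, dq, dr⟩ := hdvd
  have Pp := mem_primes hp dp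
  have Pq := mem_primes hq dq
  have Pr := mem_primes hr dr
  constructor
  · rintro ⟨x, y, z, ox, oy, oz, hxyz, hgen⟩ hex
    obtain ⟨lx, hlx, bx⟩ := exists_short hp dp x ox
    obtain ⟨ly, hly, by'⟩ := exists_short hq dq y oy
    obtain ⟨lz, hlz, bz⟩ := exists_short hr dr z oz
    have hmap : (Subgroup.closure {x, y}).map Spor.M23.subtype =
        Subgroup.closure ({(x : Equiv.Perm GolayPt), (y : Equiv.Perm GolayPt)} : Set _) := by
      rw [MonoidHom.map_closure, Set.image_pair]; rfl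
    rw [hgen, ← MonoidHom.range_eq_map, Subgroup.range_subtype] at hmap
    have h := triple_bound (congrArg Subtype.val hxyz) hlx hly hlz (i := none) (j := rep24.pt 0)
      fun q hq => by
        obtain ⟨g, hg, hg'⟩ := transitive hq
        exact ⟨g, hmap ▸ hg, hg'⟩
    have h4 : Nat.card GolayPt = 24 := by rw [Nat.card_eq_fintype_card]; decide
    rw [h4] at h
    rcases hex with ⟨rfl, rfl⟩ | ⟨rfl, rfl, rfl⟩ | ⟨rfl, rfl, rfl⟩ | ⟨rfl, rfl, h7⟩
    · rcases Pr with rfl | rfl | rfl | rfl | rfl | rfl <;> simp only [swapBound] at bx by' bz <;> omega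
    · simp only [swapBound] at bx by' bz; omega
    · simp only [swapBound] at bx by' bz; omega
    · rcases Pr with rfl | rfl | rfl | rfl | rfl | rfl <;> simp only [swapBound] at bx by' bz <;> omega
  · intro hex
    have hm : ∀ {a : ℕ}, (a = 2 ∨ a = 3 ∨ a = 5 ∨ a = 7 ∨ a = 11 ∨ a = 23) →
        a ∈ [2, 3, 5, 7, 11, 23] := by intro a ha; simpa using ha
    have h := List.all_eq_true.mp (List.all_eq_true.mp (List.all_eq_true.mp trips_cover p (hm Pp))
      q (hm Pq)) r (hm Pr)
    obtain ⟨t, ht, e⟩ := List.any_eq_true.mp ((of_decide_eq_true h) hpq hqr hp2 hex)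
    simp only [Bool.and_eq_true, Nat.beq_eq] at e
    obtain ⟨⟨rfl, rfl⟩, rfl⟩ := e
    exact exists_of_trip ht hp hq hr

end Cfsg.Agent.S5529
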