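import Cfsg.Statements.S5541
import Mathlib

set_option autoImplicit false
open Cfsg

namespace Cfsg.Agent.S5541

/-- Let ρ be a representation of a group H on a finite-dimensional real vector space U whose only ρ-invariant subspaces are the zero subspace and U, and suppose U carries a non-zero ρ-invariant symmetric bilinear form. Then the following are equivalent: (1) there is a non-zero ρ-equivariant commutative bilinear product on U of which every ρ-equivariant bilinear product is a scalar multiple; (2) there is a non-zero ρ-invariant trilinear form on U that is symmetric under all permutations of its arguments and of which every ρ-invariant trilinear form is a scalar multiple. -/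
theorem result {H : Type*} [Group H] {U : Type*} [AddCommGroup U] [Module ℝ U] [FiniteDimensional ℝ U] (ρ : Representation ℝ H U) (hirr : ∀ W : Submodule ℝ U, (∀ g : H, W.map (ρ g) ≤ W) → W = ⊥ ∨ W = ⊤) (B : LinearMap.BilinForm ℝ U) (hB0 : B ≠ 0) (hBs : ∀ u v, B u v = B v u) (hBi : ∀ (g : H) (u v : U), B (ρ g u) (ρ g v) = B u v) : (∃ m : U →ₗ[ℝ] U →ₗ[ℝ] U, m ≠ 0 ∧ (∀ u v, m u v = m v u) ∧ (∀ (g : H) (u v : U), m (ρ g u) (ρ g v) = ρ g (m u v)) ∧ ∀ m' : U →ₗ[ℝ] U →ₗ[ℝ] U, (∀ (g : H) (u v : U), m' (ρ g u) (ρ g v) = ρ g (m' u v)) → ∃ c : ℝ, m' = c • m) ↔ (∃ t : U →ₗ[ℝ] U →ₗ[ℝ] U →ₗ[ℝ] ℝ, t ≠ 0 ∧ (∀ u v w, t u v w = t v u w ∧ t u v w = t u w v) ∧ (∀ (g : H) (u v w : U), t (ρ g u) (ρ g v) (ρ g w) = t u v w) ∧ ∀ t' : U →ₗ[ℝ] U →ₗ[ℝ] U →ₗ[ℝ] ℝ, (∀ (g : H) (u v w : U), t' (ρ g u) (ρ g v) (ρ g w) = t' u v w) → ∃ c : ℝ, t' = c • t) := by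
  have hgg : ∀ (g : H) (w : U), ρ g (ρ g⁻¹ w) = w := fun g w => by
    rw [← Module.End.mul_apply, ← map_mul, mul_inv_cancel, map_one, Module.End.one_apply]
  -- the radical is invariant, hence trivial
  have hker : LinearMap.ker B = ⊥ := by
    refine (hirr _ fun g => ?_).resolve_right fun h => hB0 (LinearMap.ker_eq_top.1 h)
    rintro _ ⟨u, hu, rfl⟩
    rw [SetLike.mem_coe, LinearMap.mem_ker] at hu
    rw [LinearMap.mem_ker]
    ext v
    rw [← hgg g v, hBi, hu]
    simp
  have hnd : B.Nondegenerate := by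
    constructor <;> intro u hu <;>
    · have h : u ∈ LinearMap.ker B := LinearMap.mem_ker.2 (LinearMap.ext fun v => by
        simp only [LinearMap.zero_apply]
        first
          | exact hu v
          | rw [hBs]; exact hu v)
      rwa [hker, Submodule.mem_bot] at h
  set e : U ≃ₗ[ℝ] Module.Dual ℝ U := B.toDual hnd with he
  have heB : ∀ u v, e u v = B u v := fun u v => B.toDual_def hnd
  set toT : (U →ₗ[ℝ] U →ₗ[ℝ] U) → (U →ₗ[ℝ] U →ₗ[ℝ] U →ₗ[ℝ] ℝ) :=
    fun m => m.compr₂ e.toLinearMap with hT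
  set toM : (U →ₗ[ℝ] U →ₗ[ℝ] U →ₗ[ℝ] ℝ) → (U →ₗ[ℝ] U →ₗ[ℝ] U) :=
    fun t => t.compr₂ e.symm.toLinearMap with hM
  have hTapp : ∀ m u v w, toT m u v w = B (m u v) w := fun m u v w => by
    simp [hT, heB]
  have hMT : ∀ m, toM (toT m) = m := fun m => by
    ext u v
    simp [hT, hM]
  have hTM : ∀ t, toT (toM t) = t := fun t => by
    ext u v w
    simp [hT, hM]
  have hBM : ∀ t u v w, B (toM t u v) w = t u v w := fun t u v w => by
    rw [← hTapp, hTM]
  have hTs : ∀ (c : ℝ) m, toT (c • m) = c • toT m := fun c m => by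
    ext u v w
    simp [hT]
  have hMs : ∀ (c : ℝ) t, toM (c • t) = c • toM t := fun c t => by
    ext u v
    simp [hM]
  have hinvT : ∀ m : U →ₗ[ℝ] U →ₗ[ℝ] U, (∀ (g : H) u v, m (ρ g u) (ρ g v) = ρ g (m u v)) →
      ∀ (g : H) u v w, toT m (ρ g u) (ρ g v) (ρ g w) = toT m u v w := fun m hm g u v w => by
    rw [hTapp, hTapp, hm, hBi]
  have hinvM : ∀ t : U →ₗ[ℝ] U →ₗ[ℝ] U →ₗ[ℝ] ℝ,
      (∀ (g : H) u v w, t (ρ g u) (ρ g v) (ρ g w) = t u v w) →
      ∀ (g : H) u v, toM t (ρ g u) (ρ g v) = ρ g (toM t u v) := fun t ht g u v => by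
    refine e.injective (LinearMap.ext fun w => ?_)
    rw [heB, heB, hBM, ← hgg g w, ht, hBi, hBM]
  constructor
  · rintro ⟨m, hm0, hms, hmi, hmu⟩
    let T' : U →ₗ[ℝ] U →ₗ[ℝ] U →ₗ[ℝ] ℝ :=
      { toFun := fun u => (toT m u).flip
        map_add' := fun a b => by ext; simp
        map_smul' := fun a b => by ext; simp }
    have hT' : ∀ u v w, T' u v w = toT m u w v := fun u v w => rfl
    obtain ⟨c, hc⟩ := hmu (toM T') (hinvM T' fun g u v w => by rw [hT', hT', hinvT m hmi])
    have h1 : ∀ u v w, toT m u w v = c * toT m u v w := fun u v w => by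
      rw [← hT', ← hBM, hc, hTapp]
      simp
    have h12 : ∀ u v w, toT m u v w = toT m v u w := fun u v w => by rw [hTapp, hTapp, hms]
    have hne : toT m ≠ 0 := fun h => hm0 (by
      rw [← hMT m, h]; ext; simp [hM])
    obtain ⟨u0, v0, w0, h0⟩ : ∃ u v w, toT m u v w ≠ 0 := by
      by_contra! h
      exact hne (by ext u v w; simpa using h u v w)
    have hc1 : c = 1 := by
      have hcc : c * c = 1 := by
        have := (h1 u0 w0 v0).trans (by rw [h1 u0 v0 w0])
        exact mul_right_cancel₀ h0 (by rw [one_mul, mul_assoc]; exact this.symm)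
      rcases mul_self_eq_one_iff.1 hcc with h | h
      · exact h
      · exfalso
        have e1 := h1 u0 v0 w0
        have e2 := h1 w0 u0 v0
        have e3 := h1 v0 w0 u0
        rw [h] at e1 e2 e3
        rw [h12 u0 w0 v0] at e1
        rw [h12 w0 v0 u0] at e2
        rw [h12 v0 u0 w0] at e3
        exact h0 (by linarith)
    exact ⟨toT m, hne, fun u v w => ⟨h12 u v w, by rw [h1 u v w, hc1, one_mul]⟩, hinvT m hmi,
      fun t' ht' => by
        obtain ⟨c', hc'⟩ := hmu (toM t') (hinvM t' ht')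
        exact ⟨c', by rw [← hTM t', hc', hTs]⟩⟩
  · rintro ⟨t, ht0, hts, hti, htu⟩
    refine ⟨toM t, fun h => ht0 (by rw [← hTM t, h]; ext; simp [hT]), fun u v => ?_, hinvM t hti,
      fun m' hm' => ?_⟩
    · exact e.injective (LinearMap.ext fun w => by rw [heB, heB, hBM, hBM, (hts u v w).1])
    · obtain ⟨c, hc⟩ := htu (toT m') (hinvT m' hm')
      exact ⟨c, by rw [← hMT m', hc, hMs]⟩

end Cfsg.Agent.S5541
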