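import Cfsg.Statements.S5543
import Mathlib

set_option autoImplicit false
open Cfsg

namespace Cfsg.Agent.S5543

/-- Let V be a finite-dimensional real vector space with a commutative bilinear product and a positive-definite symmetric bilinear form that associates with the product and satisfies the Norton inequality (the Majorana setting of the definitions). Let X be a group of linear automorphisms of V in which every element squares to the identity, and suppose every non-identity element x of X is a Majorana involution with an axial vector a(x) of squared length 1, such that for any two distinct non-identity x, y the product a(x) ∘ a(y) equals (1/8)(a(x) + a(y) − a(xy)) (the dihedral subalgebra of type 2A whose third axis belongs to the involution xy). Then X has order at most 4. -/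
theorem result {V : Type*} [AddCommGroup V] [Module ℝ V] [FiniteDimensional ℝ V] (mul : V →ₗ[ℝ] V →ₗ[ℝ] V) (B : LinearMap.BilinForm ℝ V) (hV : Cfsg.Axial.IsMajoranaAmbient mul B) (X : Subgroup (V ≃ₗ[ℝ] V)) (hX : ∀ x ∈ X, x * x = 1) (ax : (V ≃ₗ[ℝ] V) → V) (hax : ∀ x ∈ X, x ≠ 1 → Cfsg.Axial.IsMajoranaPair mul B x (ax x)) (h1 : ∀ x ∈ X, x ≠ 1 → B (ax x) (ax x) = 1) (h2A : ∀ x ∈ X, ∀ y ∈ X, x ≠ 1 → y ≠ 1 → x ≠ y → mul (ax x) (ax y) = (1 / 8 : ℝ) • (ax x + ax y - ax (x * y))) : Nat.card ↥X ≤ 4 := by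
  by_contra hc
  push Not at hc
  haveI : Finite X := Nat.finite_of_card_ne_zero (by omega)
  haveI : Fintype X := Fintype.ofFinite X
  classical
  obtain ⟨hcomm, -, -, -, -⟩ := hV
  have hpick : ∀ s : Finset X, s.card ≤ 4 → ∃ w : X, w ∉ s := by
    intro s hs
    by_contra! h
    have : s = Finset.univ := Finset.eq_univ_iff_forall.2 h
    rw [this, Finset.card_univ, ← Nat.card_eq_fintype_card] at hs
    omega
  obtain ⟨x, hx⟩ := hpick {1} (by simp)
  obtain ⟨y, hy⟩ := hpick {1, x} (Finset.card_le_two.trans (by norm_num))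
  obtain ⟨z, hz⟩ := hpick {1, x, y, x * y} Finset.card_le_four
  simp only [Finset.mem_insert, Finset.mem_singleton, not_or] at hx hy hz
  obtain ⟨hy1, hyx⟩ := hy
  obtain ⟨hz1, hzx, hzy, hzxy⟩ := hz
  have hsq : ∀ w : X, w * w = 1 := fun w => Subtype.ext (hX w w.2)
  have hinv : ∀ w : X, w⁻¹ = w := fun w => inv_eq_of_mul_eq_one_left (hsq w)
  have hab : ∀ v w : X, v * w = w * v := fun v w => by
    rw [← hinv (v * w), mul_inv_rev, hinv, hinv]
  have hcancel : ∀ v w : X, v * (v * w) = w := fun v w => by rw [← mul_assoc, hsq, one_mul]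
  let A : X → V := fun w => ax w
  have hA : ∀ v w : X, v ≠ 1 → w ≠ 1 → v ≠ w →
      mul (A v) (A w) = (1 / 8 : ℝ) • (A v + A w - A (v * w)) := fun v w h1 h2 h3 =>
    h2A v v.2 w w.2 (fun h => h1 (Subtype.ext h)) (fun h => h2 (Subtype.ext h))
      (fun h => h3 (Subtype.ext h))
  -- quarter eigenvectors
  have heig : ∀ w : X, w ≠ 1 → w ≠ x →
      A w - A (x * w) ∈ Cfsg.Axial.eigen mul (A x) (1 / 4 : ℝ) := by
    intro w h1 h2
    have h3 : x * w ≠ 1 := fun h => h2 (by rw [← hcancel x w, h, mul_one])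
    have h4 : x ≠ x * w := fun h => h1 (mul_eq_left.1 h.symm)
    rw [Cfsg.Axial.eigen, Module.End.mem_eigenspace_iff, map_sub, hA x w hx h1 (Ne.symm h2),
      hA x _ hx h3 h4, hcancel]
    module
  obtain ⟨-, -, ⟨⟨hne, -, -, hlaw⟩, -⟩, -⟩ := hax x x.2 (fun h => hx (Subtype.ext h))
  have hS : (1 / 4 : ℝ) ∈ Cfsg.Axial.majoranaSpectrum := by simp [Cfsg.Axial.majoranaSpectrum]
  have hprod := hlaw _ hS _ hS _ (heig y hy1 hyx) _ (heig z hz1 hzx)
  have hl : Cfsg.Axial.monsterLaw (1 / 4 : ℝ) (1 / 32) (1 / 4) (1 / 4) = {1, 0} := by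
    simp only [Cfsg.Axial.monsterLaw]
    norm_num
  rw [hl] at hprod
  have d1 : x * y ≠ 1 := fun h => hyx (by rw [← hcancel x y, h, mul_one])
  have d2 : x * z ≠ 1 := fun h => hzx (by rw [← hcancel x z, h, mul_one])
  have d3 : y ≠ x * z := fun h => hzxy (by rw [h, hcancel])
  have d4 : x * y ≠ z := fun h => hzxy h.symm
  have d5 : x * y ≠ x * z := fun h => hzy (mul_left_cancel h).symm
  have e1 : y * (x * z) = x * (y * z) := by rw [← mul_assoc, hab y x, mul_assoc]
  have e2 : (x * y) * z = x * (y * z) := mul_assoc ..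
  have e3 : (x * y) * (x * z) = y * z := by
    rw [mul_assoc, e1, hcancel]
  set w : X := x * (y * z) with hw
  have hval : mul (A y - A (x * y)) (A z - A (x * z)) = (1 / 4 : ℝ) • (A w - A (x * w)) := by
    rw [hw, hcancel]
    simp only [map_sub, LinearMap.sub_apply]
    rw [hA y z hy1 hz1 (Ne.symm hzy), hA y _ hy1 d2 d3, hA _ z d1 hz1 d4, hA _ _ d1 d2 d5, e1, e2, e3]
    module
  rw [hval] at hprod
  have hyz : y * z ≠ 1 := fun h => hzy (by rw [← hcancel y z, h, mul_one])
  have hw1 : w ≠ 1 := fun h => hzxy (by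
    have : x * y * z = 1 := by rw [mul_assoc]; exact h
    rw [← hcancel (x * y) z, this, mul_one])
  have hwx : w ≠ x := fun h => hyz (mul_eq_left.1 h)
  have hmem : (1 / 4 : ℝ) • (A w - A (x * w)) ∈ Cfsg.Axial.eigen mul (A x) (1 / 4 : ℝ) :=
    Submodule.smul_mem _ _ (heig w hw1 hwx)
  set u : V := (1 / 4 : ℝ) • (A w - A (x * w)) with hu
  rw [Cfsg.Axial.eigenSum, iSup_pair, Submodule.mem_sup] at hprod
  obtain ⟨p, hp, q, hq, hpq⟩ := hprod
  rw [Cfsg.Axial.eigen, Module.End.mem_eigenspace_iff] at hp hq hmem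
  rw [one_smul] at hp
  rw [zero_smul] at hq
  have hpval : p = (1 / 4 : ℝ) • u := by
    rw [← hmem, ← hpq, map_add, hp, hq, add_zero]
  have hp0 : p = 0 := by
    have h := congrArg (mul (A x)) hpval
    rw [hp, map_smul, hmem, ← hpval] at h
    have : (3 / 4 : ℝ) • p = 0 := by
      nth_rewrite 1 [show (3 / 4 : ℝ) = 1 - 1 / 4 by norm_num]
      rw [sub_smul, one_smul, ← h, sub_self]
    exact (smul_eq_zero.1 this).resolve_left (by norm_num)
  have hu0 : u = 0 := by
    rw [hp0] at hpval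
    exact (smul_eq_zero.1 hpval.symm).resolve_left (by norm_num)
  have heq : A w = A (x * w) := by
    rw [hu] at hu0
    exact sub_eq_zero.1 ((smul_eq_zero.1 hu0).resolve_left (by norm_num))
  have hxw : x * w = y * z := by rw [hw, hcancel]
  rw [hxw] at heq
  have hwyz : w ≠ y * z := fun h => hx (mul_eq_right.1 h)
  have hprodw : w * (y * z) = x := by rw [hw, mul_assoc, hsq, mul_one]
  obtain ⟨-, -, ⟨⟨hne', hidem, -, -⟩, -⟩, -⟩ :=
    hax w w.2 (fun h => hw1 (Subtype.ext h))
  have hh := hA w (y * z) hw1 hyz hwyz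
  rw [← heq, hprodw] at hh
  rw [show mul (A w) (A w) = A w from hidem] at hh
  have hax6 : A x = (-6 : ℝ) • A w := by
    have h8 := congrArg (fun v => (8 : ℝ) • v) hh
    simp only [smul_smul] at h8
    norm_num at h8
    have h9 : A x = A w + A w - (8 : ℝ) • A w := by rw [h8]; abel
    rw [h9]
    module
  obtain ⟨-, -, ⟨⟨-, hidx, -, -⟩, -⟩, -⟩ := hax x x.2 (fun h => hx (Subtype.ext h))
  rw [show ax x = A x from rfl, hax6] at hidx
  simp only [map_smul, LinearMap.smul_apply, smul_smul] at hidx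
  rw [show mul (A w) (A w) = A w from hidem] at hidx
  have : (42 : ℝ) • A w = 0 := by
    have h10 : ((-6 : ℝ) * -6) • A w - (-6 : ℝ) • A w = 0 := sub_eq_zero.2 hidx
    rw [← sub_smul] at h10
    norm_num at h10
    rcases h10 with h10
    simpa using h10
  exact hne' ((smul_eq_zero.1 this).resolve_left (by norm_num))

end Cfsg.Agent.S5543
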