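import Cfsg.Statements.S5544
import Cfsg.Agent.Axial28.SakumaRec

set_option autoImplicit false
open Cfsg

namespace Cfsg.Agent.S5544

/-- Let V be a finite-dimensional real vector space with a commutative bilinear product and a positive-definite symmetric bilinear form that associates with the product and satisfies the Norton inequality (the Majorana setting of the definitions). Let μ₀ and μ₁ be Majorana involutions with axial vectors a₀ and a₁ of squared length 1, each involution having no other axial vector. Then the product μ₀μ₁ has order at most 6: some power (μ₀μ₁)^n with 1 ≤ n ≤ 6 is the identity (so the two involutions generate a dihedral group of order at most 12). This is the 6-transposition property of Majorana involutions. -/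
theorem result {V : Type*} [AddCommGroup V] [Module ℝ V] [FiniteDimensional ℝ V] (mul : V →ₗ[ℝ] V →ₗ[ℝ] V) (B : LinearMap.BilinForm ℝ V) (hV : Cfsg.Axial.IsMajoranaAmbient mul B) (μ₀ μ₁ : V ≃ₗ[ℝ] V) (a₀ a₁ : V) (h₀ : Cfsg.Axial.IsMajoranaPair mul B μ₀ a₀) (h₁ : Cfsg.Axial.IsMajoranaPair mul B μ₁ a₁) (hu₀ : ∀ a : V, Cfsg.Axial.IsMajoranaPair mul B μ₀ a → a = a₀) (hu₁ : ∀ a : V, Cfsg.Axial.IsMajoranaPair mul B μ₁ a → a = a₁) (hn₀ : B a₀ a₀ = 1) (hn₁ : B a₁ a₁ = 1) : ∃ n : ℕ, 1 ≤ n ∧ n ≤ 6 ∧ (μ₀ * μ₁) ^ n = 1 := by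
  obtain ⟨-, hsymm, hpos, -, -⟩ := id hV
  have heq : ∀ x y : V, B x x = 1 → B y y = 1 → B x y = 1 → x = y := by
    intro x y hx hy hxy
    by_contra hne
    have h := hpos (x - y) (sub_ne_zero.2 hne)
    simp only [map_sub, LinearMap.sub_apply, hx, hy, hxy, hsymm y x] at h
    norm_num at h
  have i0 : μ₀ * μ₀ = 1 := LinearEquiv.ext (Cfsg.Agent.Axial28.invol_sq h₀)
  have i1 : μ₁ * μ₁ = 1 := LinearEquiv.ext (Cfsg.Agent.Axial28.invol_sq h₁)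
  have c0 : ∀ x, μ₀ * (μ₀ * x) = x := fun x => by rw [← mul_assoc, i0, one_mul]
  have c1 : ∀ x, μ₁ * (μ₁ * x) = x := fun x => by rw [← mul_assoc, i1, one_mul]
  have conj : ∀ (g ν : V ≃ₗ[ℝ] V) (a : V), (∀ u v, g (mul u v) = mul (g u) (g v)) →
      (∀ u v, B (g u) (g v) = B u v) → g * g = 1 → Cfsg.Axial.IsMajoranaPair mul B ν a →
      Cfsg.Axial.IsMajoranaPair mul B (g * ν * g) (g a) := fun g ν a hg hgB hgg h =>
    Cfsg.Agent.Axial28.pair_conj g hg h hgB fun v => by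
      show g (ν (g (g v))) = g (ν v)
      rw [show g (g v) = v from LinearEquiv.congr_fun hgg v]
  have p2 := conj μ₁ μ₀ a₀ h₁.1 h₁.2.1 i1 h₀
  have p2' := conj μ₀ _ _ h₀.1 h₀.2.1 i0 p2
  have p3 := conj μ₁ _ _ h₁.1 h₁.2.1 i1 (conj μ₀ μ₁ a₁ h₀.1 h₀.2.1 i0 h₁)
  have p3' := conj μ₀ _ _ h₀.1 h₀.2.1 i0 p3
  have nd : B (μ₁ a₀) (μ₁ a₀) = 1 := by rw [h₁.2.1, hn₀]
  have nc : B (μ₀ (μ₁ a₀)) (μ₀ (μ₁ a₀)) = 1 := by rw [h₀.2.1, nd]
  have nt : B (μ₁ (μ₀ a₁)) (μ₁ (μ₀ a₁)) = 1 := by rw [h₁.2.1, h₀.2.1, hn₁]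
  have ng : B (μ₀ (μ₁ (μ₀ a₁))) (μ₀ (μ₁ (μ₀ a₁))) = 1 := by rw [h₀.2.1, nt]
  rcases Cfsg.Agent.Axial28.scalars hV h₀ h₁ hn₀ hn₁ with h | h | h | h | h | h
  · have e := heq _ _ hn₀ hn₁ h
    have := Cfsg.Agent.Axial28.invol_unique h₀ (e ▸ h₁)
    exact ⟨1, le_rfl, by norm_num, by rw [pow_one, this, i1]⟩
  · have e := Cfsg.Agent.Axial28.invol_unique h₀ ((heq _ _ hn₀ nd h).symm ▸ p2)
    refine ⟨2, by norm_num, by norm_num, ?_⟩
    calc (μ₀ * μ₁) ^ 2 = μ₀ * (μ₁ * μ₀ * μ₁) := by simp only [pow_succ, pow_zero, one_mul, mul_assoc]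
      _ = 1 := by rw [← e, i0]
  · have e := Cfsg.Agent.Axial28.invol_unique h₀ ((heq _ _ hn₀ nt h).symm ▸ p3)
    refine ⟨3, by norm_num, by norm_num, ?_⟩
    calc (μ₀ * μ₁) ^ 3 = μ₀ * (μ₁ * (μ₀ * μ₁ * μ₀) * μ₁) := by
          simp only [pow_succ, pow_zero, one_mul, mul_assoc]
      _ = 1 := by rw [← e, i0]
  · have e := Cfsg.Agent.Axial28.invol_unique p2' ((heq _ _ nd nc h) ▸ p2)
    refine ⟨4, by norm_num, by norm_num, ?_⟩
    calc (μ₀ * μ₁) ^ 4 = μ₀ * (μ₁ * μ₀ * μ₁) * μ₀ * (μ₁ * μ₀ * μ₁) := by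
          simp only [pow_succ, pow_zero, one_mul, mul_assoc]
      _ = 1 := by
          rw [e]
          simp only [mul_assoc, c0, c1, i0, i1]
  · have e := Cfsg.Agent.Axial28.invol_unique p3 ((heq _ _ nt nc h).symm ▸ p2')
    refine ⟨5, by norm_num, by norm_num, ?_⟩
    calc (μ₀ * μ₁) ^ 5 = μ₀ * (μ₁ * μ₀ * μ₁) * μ₀ * (μ₁ * (μ₀ * μ₁ * μ₀) * μ₁) := by
          simp only [pow_succ, pow_zero, one_mul, mul_assoc]
      _ = 1 := by
          rw [e]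
          simp only [mul_assoc, c0, c1, i0, i1]
  · have e := Cfsg.Agent.Axial28.invol_unique p3 ((heq _ _ nt ng h).symm ▸ p3')
    refine ⟨6, by norm_num, le_rfl, ?_⟩
    calc (μ₀ * μ₁) ^ 6 = μ₀ * (μ₁ * (μ₀ * μ₁ * μ₀) * μ₁) * μ₀ * (μ₁ * (μ₀ * μ₁ * μ₀) * μ₁) := by
          simp only [pow_succ, pow_zero, one_mul, mul_assoc]
      _ = 1 := by
          conv_lhs => enter [2]; rw [e]
          simp only [mul_assoc, c0, c1, i0, i1]

end Cfsg.Agent.S5544
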