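import Cfsg.Statements.S5546
import Cfsg.Agent.Leech.ModRep

set_option autoImplicit false
open Cfsg

namespace Cfsg.Agent.S5546

open Cfsg.Agent
open Matrix

/-- inclusion of the vector stabiliser -/
def inc : ↥Spor.Co2 →* ↥Co0 := Subgroup.inclusion inf_le_left

/-- extend a 23-vector to a vector orthogonal to the fixed one -/
def ext23 (y : ZMod 23 → ZMod 13) : GolayPt → ZMod 13
  | none => -y 0
  | some k => y k

/-- the 23-dimensional matrix -/
def rep (g : ↥Spor.Co2) : Matrix (ZMod 23) (ZMod 23) (ZMod 13) :=
  Matrix.of fun k l => Leech.mat13 (inc g) (some k) (some l) -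
    (if l = 0 then Leech.mat13 (inc g) (some k) none else 0)

theorem rep_mulVec (g : ↥Spor.Co2) (y : ZMod 23 → ZMod 13) :
    ext23 (rep g *ᵥ y) = Leech.mat13 (inc g) *ᵥ ext23 y := by
  set M := Leech.mat13 (inc g) with hM
  have hsome : ∀ k, (rep g *ᵥ y) k = (M *ᵥ ext23 y) (some k) := fun k => by
    simp only [rep, mulVec, dotProduct, Matrix.of_apply, Fintype.sum_option, ext23, sub_mul,
      Finset.sum_sub_distrib, ite_mul, zero_mul, Finset.sum_ite_eq', Finset.mem_univ, if_true, hM]
    ring
  have hu : M *ᵥ Leech.red13 Spor.leechU = Leech.red13 Spor.leechU := by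
    rw [hM, Leech.mat13_mulVec]
    exact congrArg Leech.red13 g.2.2
  have hrow : Leech.red13 Spor.leechU ᵥ* M = Leech.red13 Spor.leechU := by
    conv_lhs => rw [← hu]
    rw [← vecMul_transpose, vecMul_vecMul, hM, Leech.mat13_orth, vecMul_one]
  have hdot : Leech.red13 Spor.leechU ⬝ᵥ (M *ᵥ ext23 y) = Leech.red13 Spor.leechU ⬝ᵥ ext23 y := by
    rw [dotProduct_mulVec, hrow]
  have hval : ∀ w : GolayPt → ZMod 13,
      Leech.red13 Spor.leechU ⬝ᵥ w = 4 * w none + 4 * w (some 0) := fun w => by
    simp [dotProduct, Fintype.sum_option, Leech.red13, Spor.leechU, Spor.vecU, ite_mul]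
  rw [hval, hval, show ext23 y none = -y 0 from rfl, show ext23 y (some 0) = y 0 from rfl,
    mul_neg, neg_add_cancel, ← mul_add] at hdot
  have h4 : ∀ a : ZMod 13, 4 * a = 0 → a = 0 := by decide
  funext q
  rcases q with _ | k
  · show -(rep g *ᵥ y) 0 = _
    rw [hsome 0]
    exact (eq_neg_of_add_eq_zero_left (h4 _ hdot)).symm
  · exact hsome k

theorem rep_ext {A B : Matrix (ZMod 23) (ZMod 23) (ZMod 13)}
    (h : ∀ y, ext23 (A *ᵥ y) = ext23 (B *ᵥ y)) : A = B :=
  Matrix.ext_iff_mulVec.2 fun y => funext fun k => congrFun (h y) (some k)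

/-- the representation as a monoid hom -/
def repHom : ↥Spor.Co2 →* Matrix (ZMod 23) (ZMod 23) (ZMod 13) where
  toFun := rep
  map_one' := rep_ext fun y => by
    rw [rep_mulVec, map_one, Leech.mat13_one, one_mulVec, one_mulVec]
  map_mul' g h := rep_ext fun y => by
    rw [rep_mulVec, map_mul, Leech.mat13_mul, ← mulVec_mulVec, ← mulVec_mulVec, rep_mulVec,
      rep_mulVec]

theorem repHom_eq_one {g : ↥Spor.Co2} (h : repHom g = 1) : g = 1 := by
  have hfix : ∀ y, Leech.mat13 (inc g) *ᵥ ext23 y = ext23 y := fun y => by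
    rw [← rep_mulVec, show rep g = 1 from h, one_mulVec]
  have hM : Leech.mat13 (inc g) = 1 := by
    refine Matrix.ext_iff_mulVec.2 fun x => ?_
    rw [one_mulVec]
    have hu : Leech.mat13 (inc g) *ᵥ Leech.red13 Spor.leechU = Leech.red13 Spor.leechU := by
      rw [Leech.mat13_mulVec]
      exact congrArg Leech.red13 g.2.2
    let a : ZMod 13 := 5 * (x none + x (some 0))
    have hx : x = ext23 (fun k => x (some k) - a * Leech.red13 Spor.leechU (some k)) +
        a • Leech.red13 Spor.leechU := by
      funext q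
      rcases q with _ | k
      · simp only [Pi.add_apply, Pi.smul_apply, ext23, smul_eq_mul, Leech.red13, Spor.leechU,
          Spor.vecU, a]
        simp
        have h40 : (40 : ZMod 13) = 1 := rfl
        linear_combination -(x none + x (some 0)) * h40
      · simp [ext23]
    rw [hx, mulVec_add, mulVec_smul, hfix, hu]
  exact Subgroup.inclusion_injective _ ((Leech.eq_one_of_mat13 hM).trans (map_one inc).symm)

theorem exists_rep : ∃ f : ↥Spor.Co2 →* GL (Fin 23) (ZMod 13), Function.Injective f := by
  let φ : Matrix (ZMod 23) (ZMod 23) (ZMod 13) ≃* Matrix (Fin 23) (Fin 23) (ZMod 13) :=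
    MulEquiv.refl _
  refine ⟨(φ.toMonoidHom.comp repHom).toHomUnits, ?_⟩
  rw [injective_iff_map_eq_one]
  intro g hg
  exact repHom_eq_one (congrArg Units.val hg)

/-- The second Conway group (the stabilizer in the Leech lattice automorphism group of the short vector fixed in the definitions) is isomorphic to a subgroup of the general linear group of degree 23 over the field with 13 elements: there is an injective homomorphism into it. -/
theorem result : ∃ f : ↥Cfsg.Spor.Co2 →* GL (Fin 23) (ZMod 13), Function.Injective f := by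
  classical
  exact exists_rep

end Cfsg.Agent.S5546
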