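import Cfsg.Statements.S5555
import Cfsg.Agent.ThreeTrans.O232Quot

set_option autoImplicit false
open Cfsg

namespace Cfsg.Agent.S5555

section Aux
open Cfsg

theorem exists_mulEquiv {F F' : Type} [Field F] [Field F'] (φ : F ≃+* F') :
    Nonempty (↥(SU 3 F 2) ≃* ↥(SU 3 F' 2)) := by
  classical
  have hmem : ∀ {F F' : Type} [Field F] [Field F'] (φ : F ≃+* F') (A : Matrix.SpecialLinearGroup (Fin 3) F),
      A ∈ SU 3 F 2 → Matrix.SpecialLinearGroup.map φ.toRingHom A ∈ SU 3 F' 2 := by
    intro F F' _ _ φ A hA u v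
    have h := congrArg φ (hA (fun i => φ.symm (u i)) fun i => φ.symm (v i))
    simp [hermForm, Matrix.mulVec, dotProduct] at h
    simpa [hermForm, Matrix.mulVec, dotProduct] using h
  refine ⟨{ toFun := fun A => ⟨_, hmem φ A.1 A.2⟩
            invFun := fun A => ⟨_, hmem φ.symm A.1 A.2⟩
            left_inv := fun A => ?_
            right_inv := fun A => ?_
            map_mul' := fun A B => Subtype.ext (map_mul _ _ _) }⟩
  · refine Subtype.ext (Subtype.ext (Matrix.ext fun i j => ?_))
    simp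
  · refine Subtype.ext (Subtype.ext (Matrix.ext fun i j => ?_))
    simp

end Aux

/-- Let G be a finite group generated by a conjugacy class D of 3-transpositions, with trivial centre and with generalized Fitting subgroup F*(G) = O₂(G) (so the Fitting subgroup is O₂(G) too). If G/O₂(G) is isomorphic to the derived group of SU₃(2) (the group of order 54 generated by nine 3-transpositions), then O₂(G) has a complement in G. -/
theorem result {G : Type*} [Group G] [Finite G] {D : Set G} (hD : Cfsg.IsThreeTranspositionClass D)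
    (hZ : Subgroup.center G = ⊥) (hF : Cfsg.generalizedFittingSubgroup G = Cfsg.pCore 2 G)
    (hq : ∃ (F : Type) (_ : Field F) (_ : Fintype F), Fintype.card F = 4 ∧ Nonempty (G ⧸ Cfsg.pCore 2 G ≃* ↥(commutator ↥(Cfsg.SU 3 F 2)))) :
    ∃ K : Subgroup G, (Cfsg.pCore 2 G).IsComplement' K := by
  obtain ⟨F, _, _, hF4, ⟨e⟩⟩ := hq
  have hcard : Nat.card (G ⧸ Cfsg.pCore 2 G) = 54 := by
    obtain ⟨ψ⟩ := exists_mulEquiv (FiniteField.ringEquivOfCardEq (K := F) (K' := ThreeTrans.SU32.F4)
      (by rw [hF4]; rfl))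
    obtain ⟨a, b, c, hrel⟩ := ThreeTrans.SU32.exists_rel
    rw [Nat.card_congr e.toEquiv, ← ThreeTrans.HeisTwo.card_eq hrel]
    have h : (commutator ↥(Cfsg.SU 3 F 2)).map ψ.toMonoidHom = commutator ↥(Cfsg.SU 3 ThreeTrans.SU32.F4 2) := by
      rw [commutator_def, Subgroup.map_commutator, Subgroup.map_top_of_surjective ψ.toMonoidHom ψ.surjective,
        ← commutator_def]
    rw [← h]
    exact Nat.card_congr (Subgroup.equivMapOfInjective _ _ ψ.injective).toEquiv
  have hE2 : ∃ a ∈ D, ∃ b ∈ D, a ≠ b := by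
    by_contra hc
    push Not at hc
    obtain ⟨d, hd, -⟩ := hD.2.1
    have hsub : D ⊆ {d} := fun a ha => hc a ha d hd
    have htop : Subgroup.zpowers d = ⊤ := by
      rw [eq_top_iff, ← hD.2.2, Subgroup.closure_le]
      exact fun a ha => (hsub ha : a = d) ▸ Subgroup.mem_zpowers d
    have h2 : Nat.card G = 2 := by
      rw [← Nat.card_congr Subgroup.topEquiv.toEquiv, ← htop, Nat.card_zpowers, hD.1.1 d hd]
    have := Subgroup.card_quotient_dvd_card (Cfsg.pCore 2 G)
    rw [hcard, h2] at this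
    norm_num at this
  have h232 : ∃ P : Sylow 3 (G ⧸ Cfsg.pCore 2 G), (P : Subgroup (G ⧸ Cfsg.pCore 2 G)).Normal ∧
      ∃ k : ℕ, (P : Subgroup (G ⧸ Cfsg.pCore 2 G)).index = 2 ^ k := by
    have := Fact.mk Nat.prime_three
    obtain ⟨P⟩ : Nonempty (Sylow 3 (G ⧸ Cfsg.pCore 2 G)) := inferInstance
    have hP : Nat.card (P : Subgroup (G ⧸ Cfsg.pCore 2 G)) = 27 := by
      rw [P.card_eq_multiplicity, hcard, show (54 : ℕ) = 3 ^ 3 * 2 from rfl,
        Nat.factorization_mul (by norm_num) (by norm_num), Nat.prime_three.factorization_pow,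
        Nat.prime_two.factorization]
      simp
    have hidx : (P : Subgroup (G ⧸ Cfsg.pCore 2 G)).index = 2 := by
      have := (P : Subgroup (G ⧸ Cfsg.pCore 2 G)).index_mul_card
      rw [hP, hcard] at this
      omega
    exact ⟨P, Subgroup.normal_of_index_eq_two hidx, 1, by rw [hidx]; rfl⟩
  obtain ⟨d, P, Fr, hP⟩ := ThreeTrans.O232.exists_frame hD hE2 hF h232
  exact Fr.exists_complement

end Cfsg.Agent.S5555
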