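import Cfsg.Statements.S5558
import Cfsg.Agent.TransUnique.Main
import Cfsg.Agent.Layer.FStar

set_option autoImplicit false
open Cfsg

namespace Cfsg.Agent.S5558

/-- Let G be a finite group generated by a conjugacy class D of 3-transpositions, with trivial centre and with generalized Fitting subgroup F*(G) = O₂(G) (so the Fitting subgroup is O₂(G) too). If moreover O₂(G) is elementary abelian, then D is the only conjugacy class of 3-transpositions generating G. -/
theorem result {G : Type*} [Group G] [Finite G] {D : Set G} (hD : Cfsg.IsThreeTranspositionClass D)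
    (hZ : Subgroup.center G = ⊥) (hF : Cfsg.generalizedFittingSubgroup G = Cfsg.pCore 2 G)
    (hV : Cfsg.IsElementaryAbelian 2 (Cfsg.pCore 2 G)) :
    ∀ E : Set G, Cfsg.IsThreeTranspositionClass E → E = D := by
  haveI : (Cfsg.pCore 2 G).Normal := Core.pCore_normal
  haveI := hV.1
  have hexp : ∀ v ∈ Cfsg.pCore 2 G, v * v = 1 := fun v hv => by rw [← sq]; exact hV.2 v hv
  have hC : Subgroup.centralizer (Cfsg.pCore 2 G : Set G) ≤ Cfsg.pCore 2 G := by
    have h := Layer.centralizer_generalizedFitting_le (G := G)
    rwa [hF] at h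
  intro E hE
  obtain ⟨d, hd, v, hv⟩ := TransUnique.exists_lift hD hE hexp hC hZ le_rfl
  exact TransUnique.eq_of_lift hD hE hexp hZ le_rfl hd hv

end Cfsg.Agent.S5558
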