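import Cfsg.Statements.S5562
import Mathlib

set_option autoImplicit false
open Cfsg

namespace Cfsg.Agent.S5562

/-- Let G be a finite group, d an involution of G whose conjugates pairwise have products of odd order, and x any involution of G. Then the conjugacy class of d is the disjoint union, over the conjugates a of d commuting with x, of the sets of conjugates of d commuting with ax: every conjugate of d commutes with ax for exactly one conjugate a of d that commutes with x. -/
theorem result {G : Type*} [Group G] [Finite G] (d : G) (hd : orderOf d = 2)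
    (hodd : ∀ a ∈ conjugatesOf d, ∀ b ∈ conjugatesOf d, Odd (orderOf (a * b)))
    (x : G) (hx : orderOf x = 2) :
    ∀ e ∈ conjugatesOf d,
      ∃! a : G, a ∈ conjugatesOf d ∧ Commute a x ∧ Commute e (a * x) := by
  intro e he
  have hsq : ∀ a ∈ conjugatesOf d, a * a = 1 := by
    intro a ha
    obtain ⟨c, rfl⟩ := isConj_iff.1 (show IsConj d a from ha)
    rw [show c * d * c⁻¹ * (c * d * c⁻¹) = c * (d * d) * c⁻¹ by group, ← sq d, ← hd,
      pow_orderOf_eq_one]
    group
  have hclosed : ∀ a ∈ conjugatesOf d, ∀ g : G, g * a * g⁻¹ ∈ conjugatesOf d := fun a ha g =>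
    show IsConj d _ from (show IsConj d a from ha).trans (isConj_iff.2 ⟨g, rfl⟩)
  have hx2 : x * x = 1 := by rw [← sq, ← hx, pow_orderOf_eq_one]
  have hxi : x⁻¹ = x := inv_eq_of_mul_eq_one_left hx2
  set e' : G := x * e * x with he'
  have he'D : e' ∈ conjugatesOf d := by
    have := hclosed e he x
    rwa [hxi] at this
  have hee := hsq e he
  have hei : e⁻¹ = e := inv_eq_of_mul_eq_one_left hee
  set w : G := e' * e with hw
  have hwo := hodd e' he'D e he
  obtain ⟨h, hh⟩ := hwo
  rw [← hw] at hh
  have hw1 : w ^ (2 * (h + 1)) = w := by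
    rw [show 2 * (h + 1) = orderOf w + 1 by omega, pow_succ, pow_orderOf_eq_one, one_mul]
  have hew : e * w * e = w⁻¹ := by
    rw [hw, mul_inv_rev, hei, inv_eq_of_mul_eq_one_left (hsq e' he'D)]
    simp [mul_assoc, hee]
  have hewn : ∀ n : ℕ, e * w ^ n = (w ^ n)⁻¹ * e := by
    intro n
    have h1 := conj_pow (i := n) (a := e) (b := w)
    rw [hei, hew, inv_pow] at h1
    rw [h1, mul_assoc _ e e, hee, mul_one]
  have hxw : ∀ n : ℕ, x * w ^ n = (w ^ n)⁻¹ * x := by
    intro n
    have h0 : x * w * x = w⁻¹ := by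
      rw [hw, mul_inv_rev, hei, inv_eq_of_mul_eq_one_left (hsq e' he'D), he']
      simp only [← mul_assoc, hx2, one_mul]
    have h1 := conj_pow (i := n) (a := x) (b := w)
    rw [hxi, h0, inv_pow] at h1
    rw [h1, mul_assoc _ x x, hx2, mul_one]
  have hew2 : ∀ n : ℕ, e * (w ^ n)⁻¹ = w ^ n * e := by
    intro n
    rw [mul_inv_eq_iff_eq_mul, mul_assoc, hewn, ← mul_assoc, mul_inv_cancel, one_mul]
  have key : ∀ n : ℕ, e * (w ^ n * e) = (w ^ n)⁻¹ := by
    intro n
    rw [← mul_assoc, hewn, mul_assoc, hee, mul_one]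
  have hxe : x * e = e' * x := by
    rw [he', mul_assoc _ x x, hx2, mul_one]
  have hax : Commute (w ^ (h + 1) * e) x := by
    show w ^ (h + 1) * e * x = x * (w ^ (h + 1) * e)
    rw [← mul_assoc x, hxw, mul_assoc _ x e, hxe, ← mul_assoc _ e' x]
    have h1 : w ^ (h + 1) * w ^ (h + 1) = w := by rw [← pow_add, ← two_mul, hw1]
    have h2 : e' = w * e := by rw [hw, mul_assoc, hee, mul_one]
    rw [h2, ← mul_assoc _ w e]
    congr 2
    rw [eq_inv_mul_iff_mul_eq, h1]
  have haea : w ^ (h + 1) * e * e * (w ^ (h + 1) * e) = e' := by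
    rw [mul_assoc _ e e, hee, mul_one, ← mul_assoc, ← pow_add, ← two_mul, hw1, hw, mul_assoc, hee,
      mul_one]
  have hiff : ∀ a : G, a * a = 1 → (Commute e (a * x) ↔ a * e * a = e') := by
    intro a ha
    have hai : a⁻¹ = a := inv_eq_of_mul_eq_one_left ha
    constructor
    · intro hc
      have : e * (a * x) = a * x * e := hc
      calc a * e * a = a * (e * (a * x)) * x := by simp [mul_assoc, hx2]
        _ = (a * a) * x * e * x := by rw [this]; simp [mul_assoc]
        _ = e' := by rw [ha, one_mul]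
    · intro hc
      show e * (a * x) = a * x * e
      calc e * (a * x) = (a * a) * e * a * x := by rw [ha, one_mul, mul_assoc]
        _ = a * (a * e * a) * x := by simp only [mul_assoc]
        _ = a * x * e := by rw [hc, he']; simp [mul_assoc, hx2]
  have haD : w ^ (h + 1) * e ∈ conjugatesOf d := by
    have := hclosed e he (w ^ ((h + 1) * (h + 1)))
    convert this using 1
    rw [mul_assoc _ e, hew2, ← mul_assoc, ← pow_add, ← two_mul, ← mul_assoc 2, pow_mul _ (2 * (h + 1)),
      hw1]
  have hinv : ∀ a ∈ conjugatesOf d, a * a = 1 := hsq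
  refine ⟨w ^ (h + 1) * e, ⟨haD, hax, (hiff _ (hinv _ haD)).2 haea⟩, ?_⟩
  rintro a ⟨haD', -, hac⟩
  have hv := (hiff _ (hinv _ haD')).1 hac
  -- square roots of odd order are unique
  have hroot : ∀ u v : G, Odd (orderOf u) → Odd (orderOf v) → u * u = v * v → u = v := by
    intro u v hu hv huv
    obtain ⟨m, hm⟩ := hu.mul hv
    have e1 : u ^ (2 * (m + 1)) = u := by
      rw [show 2 * (m + 1) = orderOf u * orderOf v + 1 by omega, pow_succ, pow_mul,
        pow_orderOf_eq_one, one_pow, one_mul]
    have e2 : v ^ (2 * (m + 1)) = v := by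
      rw [show 2 * (m + 1) = orderOf v * orderOf u + 1 by rw [Nat.mul_comm (orderOf v)]; omega,
        pow_succ, pow_mul, pow_orderOf_eq_one, one_pow, one_mul]
    rw [← e1, ← e2, pow_mul, pow_mul, sq, sq, huv]
  refine mul_right_cancel (hroot (a * e) (w ^ (h + 1) * e * e) (hodd a haD' e he)
    (hodd _ haD e he) ?_)
  calc a * e * (a * e) = a * e * a * e := by simp only [mul_assoc]
    _ = e' * e := by rw [hv]
    _ = w ^ (h + 1) * e * e * (w ^ (h + 1) * e) * e := by rw [haea]
    _ = _ := by simp only [mul_assoc]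

end Cfsg.Agent.S5562
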