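import Cfsg.Statements.S5568
import Cfsg.Agent.J4Type.V11.Setup
import Cfsg.Agent.J4Type.V11.Orbits
-- import your own Cfsg.Agent.* helpers here

set_option autoImplicit false
open Cfsg

namespace Cfsg.Agent.S5568

/-- Let G be a finite non-abelian simple group of Janko-four type (an involution z whose centralizer H has an extraspecial largest normal 2-subgroup E of order 2^13 containing its centralizer in H, a normal subgroup N ≥ E of H with N/E of order 3 and H/N the automorphism group of M₂₂, and a subgroup P ≤ N of order 3 with C_E(P) = ⟨z⟩, N_H(P) ≠ C_H(P) and P ≤ C_H(P)′). Let V be an elementary abelian subgroup of G of order 2^11. Then under conjugation by the normalizer of V the non-identity elements of V fall into an orbit of length 1771 consisting of conjugates of z and an orbit of length 276 consisting of involutions t not conjugate to z, and for such t the centralizer of t in G lies in the normalizer of V. -/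
theorem result {G : Type*} [Group G] [Finite G] [IsSimpleGroup G] (hG : ¬ IsMulCommutative G) (z : G) (hJ : Cfsg.IsOfJankoFourTypeAt z) (V : Subgroup G) (hV : Cfsg.IsElementaryAbelian 2 V) (hcard : Nat.card ↥V = 2 ^ 11) :
    ∃ z' t : G, z' ∈ V ∧ t ∈ V ∧ t ≠ 1 ∧ IsConj z z' ∧ ¬ IsConj z t ∧
    Set.ncard {v : G | ∃ n ∈ Subgroup.normalizer (V : Set G), n * z' * n⁻¹ = v} = 1771 ∧
    Set.ncard {v : G | ∃ n ∈ Subgroup.normalizer (V : Set G), n * t * n⁻¹ = v} = 276 ∧
    Subgroup.centralizer ({t} : Set G) ≤ Subgroup.normalizer (V : Set G) := by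
  obtain ⟨P, hJ⟩ := hJ
  obtain ⟨B, S⟩ := J4Type.V11.exists_sys hG hJ
  obtain ⟨F, hF⟩ := J4Type.V11.Frame.exists_good S
  obtain ⟨g, rfl⟩ := F.exists_conj_grp hV hcard
  have hinj := J4Type.V11.cj_inj g
  refine ⟨J4Type.V11.cj g z, J4Type.V11.cj g F.tt, ⟨z, F.z_mem_grp, rfl⟩,
    ⟨F.tt, F.phi_mem J4Type.V11.t0_lt, rfl⟩, fun h => F.tt_ne_one (hinj (h.trans (map_one _).symm)),
    (J4Type.V11.Frame.isConj_cj g z).2 (IsConj.refl z),
    fun h => F.not_conj_tt ((J4Type.V11.Frame.isConj_cj g F.tt).1 h), ?_⟩
  rw [F.normalizer_conj g]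
  refine ⟨?_, ?_, F.cent_conj hF g⟩
  · rw [F.orbit_conj g z, Set.ncard_image_of_injective _ hinj]
    exact F.card_class_z
  · rw [F.orbit_conj g F.tt, Set.ncard_image_of_injective _ hinj]
    exact F.ncard_orbit_t hF

end Cfsg.Agent.S5568
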