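import Cfsg.Statements.S5579
import Cfsg.Agent.J4Classes.Count
import Cfsg.Agent.J4Classes.A.Main
import Cfsg.Agent.J4Classes.B.Main
import Cfsg.Agent.J4Classes.C.Main
import Cfsg.Agent.J4Type.Order.Main

set_option autoImplicit false
open Cfsg

namespace Cfsg.Agent.S5579

/-- Let G be a finite non-abelian simple group of Janko-four type (an involution z whose centralizer H has an extraspecial largest normal 2-subgroup E of order 2^13 containing its centralizer in H, a normal subgroup N ≥ E of H with N/E of order 3 and H/N the automorphism group of M₂₂, and a subgroup P ≤ N of order 3 with C_E(P) = ⟨z⟩, N_H(P) ≠ C_H(P) and P ≤ C_H(P)′). Then G has exactly 62 conjugacy classes. -/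
theorem result {G : Type*} [Group G] [Finite G] [IsSimpleGroup G] (hG : ¬ IsMulCommutative G) (hJ : Cfsg.IsOfJankoFourType G) :
    Nat.card (ConjClasses G) = 62 := by
  obtain ⟨z, P, hP⟩ := id hJ
  refine J4Classes.card_classes (z := z) (J4Type.Order.card_of_type hG hJ) fun r hr => ?_
  rcases List.mem_append.1 hr with h | h
  · rcases List.mem_append.1 h with h | h
    · exact J4Classes.A.fams hG hP r h
    · exact J4Classes.B.fams hG hP r h
  · exact J4Classes.C.fams hG hP r h

end Cfsg.Agent.S5579
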