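import Cfsg.Statements.S5593
import Cfsg.Agent.Leech.Cross

set_option autoImplicit false
open Cfsg

namespace Cfsg.Agent.S5593

/-- The automorphism group of the Leech lattice acts transitively on the congruence classes modulo twice the lattice of the vectors of sum of squares 64 (customary norm 8): for any two such vectors some automorphism carries the first to a vector congruent to the second. -/
theorem result (v w : ↥Cfsg.leechLattice) (hv : Cfsg.sqNorm (v : Cfsg.GolayPt → ℤ) = 64) (hw : Cfsg.sqNorm (w : Cfsg.GolayPt → ℤ) = 64) :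
    ∃ g : ↥Cfsg.Co0, ∃ z ∈ Cfsg.leechLattice, ((g • v : ↥Cfsg.leechLattice) : Cfsg.GolayPt → ℤ) - (w : Cfsg.GolayPt → ℤ) = 2 • z := by
  obtain ⟨g, hg⟩ := Leech.reach v hv
  obtain ⟨k, hk⟩ := Leech.reach w hw
  obtain ⟨z, hz, hzeq⟩ := Leech.stdCross_congr hg hk
  refine ⟨k⁻¹ * g, _, (k⁻¹ • (⟨z, hz⟩ : ↥Cfsg.leechLattice)).2, ?_⟩
  have e : g • v = k • w + ((⟨z, hz⟩ : ↥Cfsg.leechLattice) + ⟨z, hz⟩) := by
    refine Subtype.ext ?_
    simp only [AddSubgroup.coe_add]
    rw [← two_nsmul, ← hzeq]; abel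
  have := congrArg (fun t : ↥Cfsg.leechLattice => k⁻¹ • t) e
  simp only [Leech.smul_add', ← mul_smul, inv_mul_cancel, one_smul] at this
  rw [this]
  simp only [AddSubgroup.coe_add, two_nsmul]
  abel

end Cfsg.Agent.S5593
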