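import Cfsg.Statements.S5594
import Cfsg.Agent.Leech.Lattice

set_option autoImplicit false
open Cfsg

namespace Cfsg.Agent.S5594

/-- The automorphism group of the Leech lattice contains the negation map, and the subgroup of order 2 it generates has no complement: the automorphism group is a non-split extension of its quotient by that subgroup (it is not the direct product of a group of order 2 with the first Conway group). -/
theorem result :
    ∃ n : ↥Cfsg.Co0, (∀ v : ↥Cfsg.leechLattice, ((n • v : ↥Cfsg.leechLattice) : Cfsg.GolayPt → ℤ) = -(v : Cfsg.GolayPt → ℤ)) ∧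
    ∀ K : Subgroup ↥Cfsg.Co0, ¬ (Subgroup.zpowers n).IsComplement' K := by
  refine ⟨Leech.signCo0 1 Leech.one_mem, fun v => ?_, fun K hK => ?_⟩
  · funext i
    simp [Leech.signCo0_apply, Leech.negOn]
  set n := Leech.signCo0 1 Leech.one_mem with hn
  let c : GolayPt → ZMod 2 := Leech.bitWord 15974505
  have hc : c ∈ golayCode := (Leech.mem_iff _).2 (by decide +kernel)
  let g : ↥Co0 := Leech.signCo0 c hc * Leech.permCo0 projInv Leech.projInv_mem
  have hswap : ∀ i, c (projInv⁻¹ i) = c i + 1 ∧ projInv⁻¹ (projInv⁻¹ i) = i := by decide +kernel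
  have hg : g * g = n := by
    refine Subtype.ext (Equiv.ext fun v => Subtype.ext (funext fun i => ?_))
    show ((Leech.signCo0 c hc • (Leech.permCo0 projInv Leech.projInv_mem •
      (Leech.signCo0 c hc • (Leech.permCo0 projInv Leech.projInv_mem • v))) : leechLattice) :
        GolayPt → ℤ) i = ((n • v : leechLattice) : GolayPt → ℤ) i
    simp only [hn, Leech.signCo0_apply, Leech.permCo0_apply, Leech.negOn]
    rw [(hswap i).1, (hswap i).2]
    have h01 : c i = 0 ∨ c i = 1 := by generalize c i = a; revert a; decide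
    rcases h01 with h | h <;> simp [h, show (1 : ZMod 2) + 1 = 0 from rfl]
  have hcomm : ∀ k : ↥Co0, Commute n k := by
    intro k
    have hn' : ∀ v : leechLattice, n • v = -v := fun v =>
      Subtype.ext (by funext i; simp [hn, Leech.signCo0_apply, Leech.negOn])
    refine Subtype.ext (Equiv.ext fun v => ?_)
    show n • (k • v) = k • (n • v)
    rw [hn', hn']
    have h0 : k • (0 : leechLattice) = 0 := by
      have := Leech.smul_add' k 0 0
      rwa [add_zero, left_eq_add] at this
    have := Leech.smul_add' k v (-v)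
    rw [add_neg_cancel, h0] at this
    exact neg_eq_of_add_eq_zero_right this.symm
  have hn2 : n * n = 1 :=
    Subtype.ext (Equiv.ext fun v => Subtype.ext (Leech.negOn_negOn 1 _))
  obtain ⟨⟨a, k⟩, hak⟩ := hK.2 g
  have ha : (a : ↥Co0) ^ 2 = 1 := by
    obtain ⟨m, hm⟩ := Subgroup.mem_zpowers_iff.1 a.2
    rw [← hm, ← zpow_natCast, ← zpow_mul, mul_comm, zpow_mul]
    rw [show n ^ ((2 : ℕ) : ℤ) = 1 by rw [zpow_natCast, sq, hn2], one_zpow]
  have hak' : Commute (a : ↥Co0) k := by
    obtain ⟨m, hm⟩ := Subgroup.mem_zpowers_iff.1 a.2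
    rw [← hm]; exact (hcomm k).zpow_left m
  have hnK : n ∈ K := by
    have e : (a : ↥Co0) * k = g := hak
    rw [← hg, ← sq, ← e, hak'.mul_pow, ha, one_mul]
    exact pow_mem k.2 2
  have hn1 : n = 1 := Subgroup.disjoint_def.1 hK.disjoint (Subgroup.mem_zpowers n) hnK
  have hv := congrArg (fun t : ↥Co0 =>
    ((t • (⟨Leech.vecOdd, Leech.vecOdd_mem⟩ : leechLattice) : leechLattice) : GolayPt → ℤ) none) hn1
  simp [hn, Leech.signCo0_apply, Leech.negOn, Leech.vecOdd] at hv

end Cfsg.Agent.S5594
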