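import Cfsg.Statements.S5599
import Cfsg.Agent.Compute.M22Outer

set_option autoImplicit false
open scoped Pointwise
open Cfsg

namespace Cfsg.Agent.S5599

/-- In the automorphism group of the length-24 code, the two-point Mathieu group (permutations of the code's group fixing the extra point and the residue 0) has index 2 in the setwise stabiliser of that pair of points, and an element of the code's group interchanging the two points normalises the two-point group and induces on it, by conjugation, an automorphism that is not inner. -/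
theorem result (g : Equiv.Perm Cfsg.GolayPt) (hg : g ∈ Cfsg.M24) (h₁ : g none = some 0) (h₂ : g (some 0) = none) : Cfsg.Spor.M22.relIndex (Cfsg.M24 ⊓ MulAction.stabilizer (Equiv.Perm Cfsg.GolayPt) ({none, some 0} : Finset Cfsg.GolayPt)) = 2 ∧ (∀ x ∈ Cfsg.Spor.M22, g * x * g⁻¹ ∈ Cfsg.Spor.M22) ∧ ¬ ∃ h ∈ Cfsg.Spor.M22, ∀ x ∈ Cfsg.Spor.M22, g * x * g⁻¹ = h * x * h⁻¹ := by
  refine ⟨?_, fun x hx => ?_, Compute.m22_conj_not_inner hg h₁ h₂⟩
  · have hle : Cfsg.Spor.M22 ≤ Cfsg.M24 ⊓ MulAction.stabilizer (Equiv.Perm Cfsg.GolayPt)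
        ({none, some 0} : Finset Cfsg.GolayPt) := fun x hx => ⟨hx.1.1, by
      change x • ({none, some 0} : Finset Cfsg.GolayPt) = {none, some 0}
      rw [Finset.smul_finset_insert, Finset.smul_finset_singleton,
        show x • (none : Cfsg.GolayPt) = none from hx.1.2,
        show x • (some 0 : Cfsg.GolayPt) = some 0 from hx.2]⟩
    have h := (Cfsg.Spor.M22.subgroupOf (Cfsg.M24 ⊓ MulAction.stabilizer
      (Equiv.Perm Cfsg.GolayPt) ({none, some 0} : Finset Cfsg.GolayPt))).card_mul_index
    rw [Nat.card_congr (Subgroup.subgroupOfEquivOfLe hle).toEquiv, Compute.card_m22,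
      Compute.card_stab_pairRoot] at h
    rw [Subgroup.relIndex]
    omega
  · obtain ⟨⟨hxM, hxn⟩, hx0⟩ := hx
    have hxn' : x none = none := hxn
    have hx0' : x (some 0) = some 0 := hx0
    have hgn : g⁻¹ none = some 0 := by rw [Equiv.Perm.inv_eq_iff_eq, h₂]
    have hg0 : g⁻¹ (some 0) = none := by rw [Equiv.Perm.inv_eq_iff_eq, h₁]
    refine ⟨⟨(mul_mem (mul_mem hg hxM) (inv_mem hg) : g * x * g⁻¹ ∈ Cfsg.M24), ?_⟩, ?_⟩
    · change g (x (g⁻¹ none)) = none
      rw [hgn, hx0', h₂]
    · change g (x (g⁻¹ (some 0))) = some 0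
      rw [hg0, hxn', h₁]

end Cfsg.Agent.S5599
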