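import Cfsg.Statements.S5600
import Cfsg.Agent.Compute.MathieuPointwise

set_option autoImplicit false
open scoped Pointwise
open Cfsg

namespace Cfsg.Agent.S5600

/-- Although the group of the length-24 code is only 5-transitive on the 24 points, it induces the full symmetric group on every 6-element subset: every permutation of a 6-set E is the restriction of an element of the group mapping E to itself. The pointwise stabiliser of E has order 16 when E lies in an octad and order 3 otherwise; in the latter case the setwise stabiliser of E has order 2160. -/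
theorem result (E : Finset Cfsg.GolayPt) (hE : E.card = 6) : (∀ σ : Equiv.Perm ↥E, ∃ g ∈ Cfsg.M24, ∀ p : ↥E, g p = σ p) ∧ ((∃ o ∈ Cfsg.octads, E ⊆ o) → Nat.card {g : Equiv.Perm Cfsg.GolayPt // g ∈ Cfsg.M24 ∧ ∀ p ∈ E, g p = p} = 16) ∧ ((¬ ∃ o ∈ Cfsg.octads, E ⊆ o) → Nat.card {g : Equiv.Perm Cfsg.GolayPt // g ∈ Cfsg.M24 ∧ ∀ p ∈ E, g p = p} = 3 ∧ Nat.card ↥(MulAction.stabilizer Cfsg.M24 E) = 2160) := by
  classical
  have hcard : ∀ x : List Cfsg.GolayPt, x.Nodup → x.toFinset = E →
      ∀ g ∈ Cfsg.M24, ∀ j, x.map g = (Compute.six j).map Compute.rep24.pt →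
        (j = 5 → Nat.card {g : Equiv.Perm Cfsg.GolayPt // g ∈ Cfsg.M24 ∧ ∀ p ∈ E, g p = p} = 16) ∧
        (j = 4 → Nat.card {g : Equiv.Perm Cfsg.GolayPt // g ∈ Cfsg.M24 ∧ ∀ p ∈ E, g p = p} = 3) := by
    intro x _ hxE g hg j hgx
    subst hxE
    simp only [List.mem_toFinset]
    refine ⟨?_, ?_⟩ <;> rintro rfl
    · exact Compute.card_fix_six Compute.m24c_eq Compute.m24c_check Compute.drop6_c.2.2
        Compute.drop6_c.1 Compute.drop6_c.2.1 hg hgx
    · exact Compute.card_fix_six Compute.m24_eq Compute.m24a_check Compute.drop6_a.2.2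
        Compute.drop6_a.1 Compute.drop6_a.2.1 hg hgx
  have hlist : E.toList.length = 6 := by rw [Finset.length_toList, hE]
  obtain ⟨g, hg, hgx⟩ := Compute.exists_move6 E.toList E.nodup_toList hlist
  have hsub : (∃ o ∈ Cfsg.octads, ∀ p ∈ E.toList, p ∈ o) ↔ ∃ o ∈ Cfsg.octads, E ⊆ o :=
    exists_congr fun o => and_congr Iff.rfl ⟨fun h p hp => h p (Finset.mem_toList.mpr hp),
      fun h p hp => h (Finset.mem_toList.mp hp)⟩
  have hperm : ∀ σ : Equiv.Perm ↥E, ∃ k ∈ Cfsg.M24, ∀ p : ↥E, k p = σ p := by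
    intro σ
    let l : List ↥E := Finset.univ.toList
    have hl : l.length = 6 := by simp [l, hE]
    have hnd : ∀ τ : Equiv.Perm ↥E, (l.map fun p => ((τ p : ↥E) : Cfsg.GolayPt)).Nodup := fun τ =>
      (Finset.nodup_toList _).map (Subtype.val_injective.comp τ.injective)
    have hmem : ∀ τ : Equiv.Perm ↥E, ∀ (o : Finset Cfsg.GolayPt),
        (∀ q ∈ l.map (fun p => ((τ p : ↥E) : Cfsg.GolayPt)), q ∈ o) ↔ ∀ p : ↥E, (p : Cfsg.GolayPt) ∈ o := by
      intro τ o
      rw [List.forall_mem_map]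
      exact ⟨fun h p => by simpa using h (τ.symm p) (by simp [l]), fun h p _ => h (τ p)⟩
    obtain ⟨g₁, hg₁, h₁⟩ := Compute.exists_move6 _ (hnd 1) (by simp [hl])
    obtain ⟨g₂, hg₂, h₂⟩ := Compute.exists_move6 _ (hnd σ) (by simp [hl])
    simp only [hmem 1, hmem σ] at h₁ h₂
    refine ⟨g₂⁻¹ * g₁, mul_mem (inv_mem hg₂) hg₁, fun p => ?_⟩
    have h := h₁.trans h₂.symm
    rw [List.map_map, List.map_map] at h
    have hp := List.map_inj_left.mp h p (by simp [l])
    rw [Equiv.Perm.mul_apply, Equiv.Perm.inv_eq_iff_eq]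
    simpa using hp
  refine ⟨hperm, fun ho => ?_, fun ho => ?_⟩
  · rw [if_pos (hsub.mpr ho)] at hgx
    exact (hcard _ E.nodup_toList E.toList_toFinset g hg _ hgx).1 rfl
  · rw [if_neg (mt hsub.mp ho)] at hgx
    have h3 := (hcard _ E.nodup_toList E.toList_toFinset g hg _ hgx).2 rfl
    refine ⟨h3, ?_⟩
    let H := MulAction.stabilizer Cfsg.M24 E
    let f : ↥H →* Equiv.Perm ↥E :=
      { toFun := fun a => Equiv.Perm.subtypePerm ((a : ↥Cfsg.M24) : Equiv.Perm Cfsg.GolayPt)
          (fun x => by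
            have ha : ((a : ↥Cfsg.M24) : Equiv.Perm Cfsg.GolayPt) • E = E := a.2
            conv_lhs => rw [← ha]
            exact Finset.smul_mem_smul_finset_iff _)
        map_one' := by ext; rfl
        map_mul' := fun a b => by ext; rfl }
    have hsurj : Function.Surjective f := fun σ => by
      obtain ⟨k, hk, hkσ⟩ := hperm σ
      refine ⟨⟨⟨k, hk⟩, ?_⟩, Equiv.ext fun p => Subtype.ext (hkσ p)⟩
      refine Finset.eq_of_subset_of_card_le (fun q hq => ?_) (le_of_eq (Finset.card_smul_finset _ _).symm)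
      obtain ⟨p, hp, rfl⟩ := Finset.mem_smul_finset.mp hq
      change k p ∈ E
      rw [show k p = σ ⟨p, hp⟩ from hkσ ⟨p, hp⟩]
      exact Subtype.prop _
    have hker : Nat.card ↥f.ker = 3 := by
      rw [← h3]
      refine Nat.card_congr
        { toFun := fun a => ⟨((a : ↥H) : ↥Cfsg.M24), ((a : ↥H) : ↥Cfsg.M24).2, fun p hp => ?_⟩
          invFun := fun b => ⟨⟨⟨b.1, b.2.1⟩, ?_⟩, ?_⟩
          left_inv := fun a => rfl
          right_inv := fun b => rfl }
      · have := congrArg (fun τ : Equiv.Perm ↥E => ((τ ⟨p, hp⟩ : ↥E) : Cfsg.GolayPt)) a.2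
        exact this
      · refine Finset.eq_of_subset_of_card_le (fun q hq => ?_) (le_of_eq (Finset.card_smul_finset _ _).symm)
        obtain ⟨p, hp, rfl⟩ := Finset.mem_smul_finset.mp hq
        change b.1 p ∈ E
        rw [b.2.2 p hp]; exact hp
      · exact Equiv.ext fun p => Subtype.ext (b.2.2 _ p.2)
    have h := Subgroup.card_mul_index f.ker
    rw [Subgroup.index_ker, MonoidHom.range_eq_top.mpr hsurj, Subgroup.card_top, hker,
      Nat.card_perm, Nat.card_eq_fintype_card, Fintype.card_coe, hE] at h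
    rw [← h]; decide

end Cfsg.Agent.S5600
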