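import Cfsg.Statements.S5601
import Cfsg.Agent.Compute.FixedCounts

set_option autoImplicit false
open scoped Pointwise
open Cfsg

namespace Cfsg.Agent.S5601

/-- The group of the length-24 code has exactly two conjugacy classes of subgroups of order 3: a subgroup of order 3 fixes either exactly 6 of the 24 points or none of them, both cases occur, and two subgroups of order 3 with the same number of fixed points are conjugate. -/
theorem result : (∀ X : Subgroup ↥Cfsg.M24, Nat.card X = 3 → {p : Cfsg.GolayPt | ∀ x ∈ X, ((x : ↥Cfsg.M24) : Equiv.Perm Cfsg.GolayPt) p = p}.ncard = 6 ∨ {p : Cfsg.GolayPt | ∀ x ∈ X, ((x : ↥Cfsg.M24) : Equiv.Perm Cfsg.GolayPt) p = p}.ncard = 0) ∧ (∃ X : Subgroup ↥Cfsg.M24, Nat.card X = 3 ∧ {p : Cfsg.GolayPt | ∀ x ∈ X, ((x : ↥Cfsg.M24) : Equiv.Perm Cfsg.GolayPt) p = p}.ncard = 6) ∧ (∃ X : Subgroup ↥Cfsg.M24, Nat.card X = 3 ∧ {p : Cfsg.GolayPt | ∀ x ∈ X, ((x : ↥Cfsg.M24) : Equiv.Perm Cfsg.GolayPt)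 p = p}.ncard = 0) ∧ ∀ X Y : Subgroup ↥Cfsg.M24, Nat.card X = 3 → Nat.card Y = 3 → {p : Cfsg.GolayPt | ∀ x ∈ X, ((x : ↥Cfsg.M24) : Equiv.Perm Cfsg.GolayPt) p = p}.ncard = {p : Cfsg.GolayPt | ∀ x ∈ Y, ((x : ↥Cfsg.M24) : Equiv.Perm Cfsg.GolayPt) p = p}.ncard → ∃ k : ↥Cfsg.M24, MulAut.conj k • X = Y := by
  have hgen : ∀ X : Subgroup ↥Cfsg.M24, Nat.card X = 3 →
      ∃ x : ↥Cfsg.M24, orderOf x = 3 ∧ X = Subgroup.zpowers x := by
    intro X hX
    have := Fact.mk Nat.prime_three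
    have : IsCyclic X := isCyclic_of_prime_card hX
    obtain ⟨x, hx⟩ := IsCyclic.exists_generator (α := X)
    have hzx : X = Subgroup.zpowers (x : ↥Cfsg.M24) := by
      refine le_antisymm (fun y hy => ?_) (Subgroup.zpowers_le.mpr x.2)
      obtain ⟨n, hn⟩ := hx ⟨y, hy⟩
      exact ⟨n, congrArg Subtype.val hn⟩
    refine ⟨x, ?_, hzx⟩
    rw [← Nat.card_zpowers, ← hzx, hX]
  have hfix : ∀ x : ↥Cfsg.M24,
      {p : Cfsg.GolayPt | ∀ y ∈ Subgroup.zpowers x, ((y : ↥Cfsg.M24) : Equiv.Perm Cfsg.GolayPt) p = p}.ncard =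
        (Finset.univ.filter fun p => (x : Equiv.Perm Cfsg.GolayPt) p = p).card := by
    intro x
    rw [← Set.ncard_coe_finset]
    congr 1
    ext p
    simp only [Set.mem_ofPred_eq, Finset.coe_filter, Finset.mem_univ, true_and]
    exact ⟨fun h => h x (Subgroup.mem_zpowers x), fun h y hy => by
      obtain ⟨n, rfl⟩ := hy
      change ((x ^ n : ↥Cfsg.M24) : Equiv.Perm Cfsg.GolayPt) p = p
      rw [SubgroupClass.coe_zpow]
      exact Equiv.Perm.zpow_apply_eq_self_of_apply_eq_self h n⟩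
  have hex : ∀ j < 2, ∃ x : ↥Cfsg.M24, orderOf x = 3 ∧
      (x : Equiv.Perm Cfsg.GolayPt) = Compute.rep24.den (Compute.syl3Reps.getD j Compute.rep24.one) := by
    intro j hj
    have hl : j < Compute.syl3Reps.length := by simpa [Compute.syl3Reps] using hj
    have hh := Compute.classReps_facts.1
    rw [List.all_append, Bool.and_eq_true, List.all_eq_true, List.all_eq_true] at hh
    have hmem := (Compute.mem_M24_of_check (hh.2 _ (List.getElem_mem hl))).2
    rw [← List.getD_eq_getElem _ Compute.rep24.one hl] at hmem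
    refine ⟨⟨_, hmem⟩, ?_, rfl⟩
    rw [Subgroup.orderOf_mk]
    have h := List.all_eq_true.mp Compute.classReps_facts.2.2 _ (List.getElem_mem hl)
    rw [← List.getD_eq_getElem _ Compute.rep24.one hl, Bool.and_eq_true, Bool.not_eq_true',
      Bool.eq_false_iff] at h
    have hok := (Compute.rep_ok j).2
    obtain ⟨hokp, hdenp⟩ := Compute.rep24.powCode_spec hok 3
    have := Fact.mk Nat.prime_three
    exact orderOf_eq_prime (hdenp ▸ (Compute.idB_iff hokp).mp h.2)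
      fun e => h.1 ((Compute.idB_iff hok).mpr e)
  have hcases : ∀ X : Subgroup ↥Cfsg.M24, Nat.card X = 3 →
      ∃ j, ∃ x k : ↥Cfsg.M24, X = Subgroup.zpowers x ∧
        ((j = 0 ∧ (Finset.univ.filter fun p => (x : Equiv.Perm Cfsg.GolayPt) p = p).card = 6) ∨
          (j = 1 ∧ (Finset.univ.filter fun p => (x : Equiv.Perm Cfsg.GolayPt) p = p).card = 0)) ∧
        (k : Equiv.Perm Cfsg.GolayPt) * x * (k : Equiv.Perm Cfsg.GolayPt)⁻¹ =
          Compute.rep24.den (Compute.syl3Reps.getD j Compute.rep24.one) := by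
    intro X hX
    obtain ⟨x, hx, hXx⟩ := hgen X hX
    have hx' : orderOf (x : Equiv.Perm Cfsg.GolayPt) = 3 := by rw [Subgroup.orderOf_coe]; exact hx
    rcases Compute.three_cases x.2 hx' with ⟨h6, k, hk, hkx⟩ | ⟨h0, k, hk, hkx⟩
    · exact ⟨0, x, ⟨k, hk⟩, hXx, Or.inl ⟨rfl, h6⟩, hkx⟩
    · exact ⟨1, x, ⟨k, hk⟩, hXx, Or.inr ⟨rfl, Compute.card_fixFilter_zero h0⟩, hkx⟩
  refine ⟨fun X hX => ?_, ?_, ?_, fun X Y hX hY hXY => ?_⟩
  · obtain ⟨j, x, k, rfl, ⟨-, h⟩ | ⟨-, h⟩, -⟩ := hcases X hX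
    · exact Or.inl ((hfix x).trans h)
    · exact Or.inr ((hfix x).trans h)
  · obtain ⟨x, hx, hxr⟩ := hex 0 (by norm_num)
    refine ⟨Subgroup.zpowers x, by rw [Nat.card_zpowers, hx], (hfix x).trans ?_⟩
    rw [hxr, Compute.fixFilter_rep (Compute.rep_ok 0).2, Compute.card_suppM]
    exact Compute.fixMask_facts.2.2.1
  · obtain ⟨x, hx, hxr⟩ := hex 1 (by norm_num)
    refine ⟨Subgroup.zpowers x, by rw [Nat.card_zpowers, hx], (hfix x).trans ?_⟩
    rw [hxr]
    exact Compute.card_fixFilter_zero (Compute.fixFilter_zero (Compute.rep_ok 1).2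
      Compute.fixMask_facts.2.2.2)
  · obtain ⟨i, x, a, rfl, hi, hax⟩ := hcases X hX
    obtain ⟨j, y, b, rfl, hj, hby⟩ := hcases Y hY
    rw [hfix, hfix] at hXY
    have hij : i = j := by omega
    subst hij
    refine ⟨b⁻¹ * a, ?_⟩
    have he : b⁻¹ * a * x * (b⁻¹ * a)⁻¹ = y := by
      apply Subtype.ext
      push_cast
      rw [mul_inv_rev, inv_inv]
      calc (b : Equiv.Perm Cfsg.GolayPt)⁻¹ * a * x * ((a : Equiv.Perm Cfsg.GolayPt)⁻¹ * b)
          = (b : Equiv.Perm Cfsg.GolayPt)⁻¹ * ((a : Equiv.Perm Cfsg.GolayPt) * x * (a : Equiv.Perm Cfsg.GolayPt)⁻¹) * b := by group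
        _ = y := by rw [hax, ← hby]; group
    change (Subgroup.zpowers x).map (MulAut.conj (b⁻¹ * a)).toMonoidHom = _
    rw [MonoidHom.map_zpowers]
    exact congrArg Subgroup.zpowers he

end Cfsg.Agent.S5601
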