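import Cfsg.Statements.S5604
import Cfsg.Agent.Compute.CentSeven

set_option autoImplicit false
open scoped Pointwise
open Cfsg

namespace Cfsg.Agent.S5604

/-- For a subgroup S of order 7 of the group of the length-24 code (a Sylow 7-subgroup): the normaliser of S has order 126, the centraliser of S has order 42 and is non-abelian, and the whole normaliser leaves some trio invariant. (These are the orders of a Frobenius group of order 21 times a symmetric group of degree 3; the isomorphism type itself is not asserted here.) -/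
theorem result (S : Subgroup ↥Cfsg.M24) (hS : Nat.card S = 7) : Nat.card ↥(Subgroup.normalizer (S : Set ↥Cfsg.M24)) = 126 ∧ Nat.card ↥(Subgroup.centralizer (S : Set ↥Cfsg.M24)) = 42 ∧ (∃ x ∈ Subgroup.centralizer (S : Set ↥Cfsg.M24), ∃ y ∈ Subgroup.centralizer (S : Set ↥Cfsg.M24), x * y ≠ y * x) ∧ ∃ T ∈ Cfsg.trios, ∀ n ∈ Subgroup.normalizer (S : Set ↥Cfsg.M24), ((n : ↥Cfsg.M24) : Equiv.Perm Cfsg.GolayPt) • T = T := by
  classical
  have := Fact.mk (show Nat.Prime 7 by norm_num)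
  have hP : Subgroup.zpowers Compute.sevenEl ≤ Cfsg.M24 :=
    Subgroup.zpowers_le.mpr Compute.seven_basic.2.1
  obtain ⟨k, hk, hkP⟩ := Compute.exists_conj_sylow (p := 7) (v := 1) hP
    Compute.card_zpowers_seven (by decide) (X := S) (IsPGroup.of_card (n := 1) (by simpa using hS))
  -- the conjugate of `S` is the standard group
  have hmem : ∀ a : ↥Cfsg.M24, a ∈ S ↔
      k * (a : Equiv.Perm Cfsg.GolayPt) * k⁻¹ ∈ Subgroup.zpowers Compute.sevenEl := by
    intro a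
    refine ⟨hkP a, fun ha => ?_⟩
    let f : ↥S → ↥(Subgroup.zpowers Compute.sevenEl) :=
      fun b => ⟨k * ((b : ↥Cfsg.M24) : Equiv.Perm Cfsg.GolayPt) * k⁻¹, hkP b b.2⟩
    have hf : Function.Injective f := fun b c hbc =>
      Subtype.ext (Subtype.ext (mul_left_cancel (mul_right_cancel (congrArg Subtype.val hbc))))
    obtain ⟨b, hb⟩ := ((Nat.bijective_iff_injective_and_card f).mpr
      ⟨hf, hS.trans Compute.card_zpowers_seven.symm⟩).2 ⟨_, ha⟩
    have e : ((b : ↥Cfsg.M24) : Equiv.Perm Cfsg.GolayPt) = a :=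
      mul_left_cancel (mul_right_cancel (congrArg Subtype.val hb))
    rw [← Subtype.ext e]
    exact b.2
  let ψ : ↥Cfsg.M24 ≃ ↥Cfsg.M24 := (MulAut.conj (⟨k, hk⟩ : ↥Cfsg.M24)).toEquiv
  have hψ : ∀ n : ↥Cfsg.M24,
      ((ψ n : ↥Cfsg.M24) : Equiv.Perm Cfsg.GolayPt) = k * n * k⁻¹ := fun n => rfl
  have hsurj : ∀ x ∈ Subgroup.zpowers Compute.sevenEl,
      ∃ a ∈ S, k * ((a : ↥Cfsg.M24) : Equiv.Perm Cfsg.GolayPt) * k⁻¹ = x := by
    intro x hx
    have hxM : k⁻¹ * x * k ∈ Cfsg.M24 := mul_mem (mul_mem (inv_mem hk) (hP hx)) hk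
    refine ⟨⟨_, hxM⟩, (hmem _).mpr ?_, ?_⟩
    · rwa [show k * (k⁻¹ * x * k) * k⁻¹ = x by group]
    · change k * (k⁻¹ * x * k) * k⁻¹ = x
      group
  have hN : ∀ n : ↥Cfsg.M24, n ∈ Subgroup.normalizer (S : Set ↥Cfsg.M24) ↔
      k * (n : Equiv.Perm Cfsg.GolayPt) * k⁻¹ ∈
        Compute.rep24.chainGroup Compute.centSevenNChain := by
    intro n
    rw [← Compute.normalizerSeven_eq]
    have hconj : ∀ a : ↥Cfsg.M24,
        k * (n : Equiv.Perm Cfsg.GolayPt) * k⁻¹ * (k * (a : Equiv.Perm Cfsg.GolayPt) * k⁻¹) *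
          (k * (n : Equiv.Perm Cfsg.GolayPt) * k⁻¹)⁻¹ =
        k * ((n * a * n⁻¹ : ↥Cfsg.M24) : Equiv.Perm Cfsg.GolayPt) * k⁻¹ := fun a => by
      push_cast; group
    refine ⟨fun hn => ⟨(ψ n).2, Subgroup.mem_normalizer_iff.mpr fun y => ?_⟩,
      fun ⟨_, hn⟩ => Subgroup.mem_normalizer_iff.mpr fun a => ?_⟩
    · constructor
      · intro hy
        obtain ⟨a, ha, rfl⟩ := hsurj y hy
        rw [hconj]
        exact (hmem _).mp ((Subgroup.mem_normalizer_iff.mp hn a).mp ha)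
      · intro hy
        obtain ⟨b, hb, hbe⟩ := hsurj _ hy
        have hm := (Subgroup.mem_normalizer_iff.mp (inv_mem hn) b).mp hb
        rw [inv_inv, hmem] at hm
        convert hm using 1
        push_cast
        calc y = (k * (n : Equiv.Perm Cfsg.GolayPt) * k⁻¹)⁻¹ *
              (k * (n : Equiv.Perm Cfsg.GolayPt) * k⁻¹ * y *
                (k * (n : Equiv.Perm Cfsg.GolayPt) * k⁻¹)⁻¹) *
              (k * (n : Equiv.Perm Cfsg.GolayPt) * k⁻¹) := by group
          _ = _ := by rw [← hbe]; group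
    · rw [hmem, hmem, Subgroup.mem_normalizer_iff.mp hn, hconj]
  have hC : ∀ n : ↥Cfsg.M24, n ∈ Subgroup.centralizer (S : Set ↥Cfsg.M24) ↔
      k * (n : Equiv.Perm Cfsg.GolayPt) * k⁻¹ ∈ Compute.centM24 Compute.sevenEl := by
    intro n
    rw [Compute.mem_centM24, Subgroup.mem_centralizer_iff]
    refine ⟨fun h => ⟨(ψ n).2, ?_⟩, fun h a ha => ?_⟩
    · obtain ⟨a, ha, hae⟩ := hsurj _ (Subgroup.mem_zpowers Compute.sevenEl)
      have e : ((a : ↥Cfsg.M24) : Equiv.Perm Cfsg.GolayPt) * n =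
          (n : Equiv.Perm Cfsg.GolayPt) * a := congrArg Subtype.val (h a ha)
      rw [← hae]
      calc k * (n : Equiv.Perm Cfsg.GolayPt) * k⁻¹ * (k * (a : Equiv.Perm Cfsg.GolayPt) * k⁻¹)
          = k * ((n : Equiv.Perm Cfsg.GolayPt) * a) * k⁻¹ := by group
        _ = _ := by rw [← e]; group
    · apply Subtype.ext
      obtain ⟨m, hm⟩ := (hmem a).mp ha
      have hcomm : Commute (k * (n : Equiv.Perm Cfsg.GolayPt) * k⁻¹)
          (Compute.sevenEl ^ m) := Commute.zpow_right h.2 m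
      have hm' : Compute.sevenEl ^ m = k * (a : Equiv.Perm Cfsg.GolayPt) * k⁻¹ := hm
      rw [hm'] at hcomm
      have e := hcomm.eq
      change (a : Equiv.Perm Cfsg.GolayPt) * n = (n : Equiv.Perm Cfsg.GolayPt) * a
      calc (a : Equiv.Perm Cfsg.GolayPt) * n
          = k⁻¹ * (k * (a : Equiv.Perm Cfsg.GolayPt) * k⁻¹ *
              (k * (n : Equiv.Perm Cfsg.GolayPt) * k⁻¹)) * k := by group
        _ = k⁻¹ * (k * (n : Equiv.Perm Cfsg.GolayPt) * k⁻¹ *
              (k * (a : Equiv.Perm Cfsg.GolayPt) * k⁻¹)) * k := by rw [e]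
        _ = _ := by group
  have hcount : ∀ (K : Subgroup ↥Cfsg.M24) (L : Subgroup (Equiv.Perm Cfsg.GolayPt)),
      L ≤ Cfsg.M24 → (∀ n : ↥Cfsg.M24, n ∈ K ↔ k * (n : Equiv.Perm Cfsg.GolayPt) * k⁻¹ ∈ L) →
      Nat.card ↥K = Nat.card ↥L := by
    intro K L hL h
    refine Nat.card_congr ((Equiv.subtypeEquiv ψ
      (q := fun m : ↥Cfsg.M24 => m ∈ L.subgroupOf Cfsg.M24) fun n => ?_).trans
      (Subgroup.subgroupOfEquivOfLe hL).toEquiv)
    rw [Subgroup.mem_subgroupOf, hψ]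
    exact h n
  refine ⟨?_, ?_, ?_, k⁻¹ • Compute.decFam 3 Compute.centSevenRoot,
    Compute.smul_mem_trios (inv_mem hk) Compute.seven_root.2.1, fun n hn => ?_⟩
  · rw [hcount _ _ (fun x hx => (Compute.sevenN_normalizes hx).1) hN,
      Compute.Rep.card_chainGroup _ Compute.seven_checks.2.2.2.1]
    exact Compute.seven_checks.2.2.2.2.2.1
  · rw [hcount _ _ (fun x hx => (Compute.mem_centM24.mp hx).1) hC, Compute.card_centSeven]
  · obtain ⟨a, ha, b, hb, hab⟩ := Compute.centSeven_nonabelian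
    refine ⟨ψ.symm ⟨a, (Compute.mem_centM24.mp ha).1⟩, ?_,
      ψ.symm ⟨b, (Compute.mem_centM24.mp hb).1⟩, ?_, fun e => hab ?_⟩
    · rw [hC, ← hψ, Equiv.apply_symm_apply]; exact ha
    · rw [hC, ← hψ, Equiv.apply_symm_apply]; exact hb
    · have h2 := congrArg (MulAut.conj (⟨k, hk⟩ : ↥Cfsg.M24)) e
      rw [map_mul, map_mul] at h2
      have hs : ∀ c, (MulAut.conj (⟨k, hk⟩ : ↥Cfsg.M24)) (ψ.symm c) = c := ψ.apply_symm_apply
      rw [hs, hs] at h2
      exact congrArg Subtype.val h2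
  · obtain ⟨hM, hnorm⟩ := Compute.normalizerSeven_eq.mpr ((hN n).mp hn)
    have h2 := (Subgroup.mem_normalizer_iff.mp (inv_mem hnorm) Compute.sevenEl).mp
      (Subgroup.mem_zpowers _)
    rw [inv_inv] at h2
    have h3 := Compute.seven_trio hM h2
    rw [mul_smul, mul_smul] at h3
    exact eq_inv_smul_iff.mpr h3

end Cfsg.Agent.S5604
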