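import Cfsg.Statements.S5607
import Cfsg.Agent.Compute.CentInvolutions

set_option autoImplicit false
open scoped Pointwise
open Cfsg

namespace Cfsg.Agent.S5607

theorem centInvB_cover : Compute.coverB Compute.centInvBL0 0 = true := by decide +kernel

/-- For a fixed-point-free involution t of the group of the length-24 code: its centraliser in that group has order 7680, is transitive on the 24 points, and is contained, together with t, in the stabiliser of some sextet. -/
theorem result (t : Equiv.Perm Cfsg.GolayPt) (ht : t ∈ Cfsg.M24) (h₂ : orderOf t = 2) (h₀ : ∀ p, t p ≠ p) : Nat.card {c : Equiv.Perm Cfsg.GolayPt // c ∈ Cfsg.M24 ∧ c * t = t * c} = 7680 ∧ (∀ p q : Cfsg.GolayPt, ∃ c ∈ Cfsg.M24, c * t = t * c ∧ c p = q) ∧ ∃ S ∈ Cfsg.sextets, t • S = S ∧ ∀ c ∈ Cfsg.M24, c * t = t * c → c • S = S := by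
  obtain ⟨k, hk, hkt⟩ := Compute.conj_involution_of_fix ht h₂ (Or.inr ⟨rfl, h₀⟩)
  change k * t * k⁻¹ = Compute.rep24.den (Compute.invRep 1) at hkt
  obtain ⟨hc, hB, -⟩ := Compute.invB_chain_facts
  have hcard : Nat.card ↥(Compute.centM24 t) = 7680 := by
    rw [Compute.card_centM24_conj hk hkt, Compute.centInvB_eq, Compute.Rep.card_chainGroup _ hc, hB]
  refine ⟨?_, fun p q => ?_, k⁻¹ • Compute.decFam 6 Compute.centInvBRoot,
    Compute.smul_mem_sextets (inv_mem hk) Compute.invB_root.2, ?_, fun c hcM hcomm => ?_⟩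
  · rw [← hcard]
    exact Nat.card_congr (Equiv.subtypeEquivRight fun c => Compute.mem_centM24.symm)
  · have horb : ∀ x : Cfsg.GolayPt, ∃ c ∈ Compute.centM24 (Compute.rep24.den (Compute.invRep 1)),
        c (Compute.rep24.pt Compute.centInvBL0.base) = x := by
      intro x
      obtain ⟨j, hj, hjx⟩ := Compute.orbit_of_cover centInvB_cover x (by simp)
      have hlev := Compute.rep24.levelOK_of_check (by
        have h := hc
        rw [show Compute.centInvBChain =
          Compute.centInvBL0 :: Compute.centInvBChain.tail from rfl,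
          Compute.rep24.checkChain_cons, Bool.and_eq_true] at h
        exact h.1)
      refine ⟨Compute.rep24.den (Compute.rep24.entry Compute.centInvBL0 j).u, ?_, ?_⟩
      · rw [Compute.centInvB_eq]; exact hlev.entry_mem j
      · rw [hjx, ← Compute.rep24.act_spec _ _ (hlev.entry_all j).1 hlev.base_lt]; rfl
    obtain ⟨a, ha, hap⟩ := horb (k p)
    obtain ⟨b, hb, hbq⟩ := horb (k q)
    have hm := mul_mem hb (inv_mem ha)
    have hc' : k⁻¹ * (b * a⁻¹) * k ∈ Compute.centM24 t := by
      rw [← Compute.mem_centM24_conj hk hkt]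
      rwa [show k * (k⁻¹ * (b * a⁻¹) * k) * k⁻¹ = b * a⁻¹ by group]
    obtain ⟨h1, h2⟩ := Compute.mem_centM24.mp hc'
    refine ⟨_, h1, h2, ?_⟩
    rw [Equiv.Perm.mul_apply, Equiv.Perm.mul_apply, Equiv.Perm.mul_apply, ← hap,
      ← Equiv.Perm.mul_apply a⁻¹, inv_mul_cancel, Equiv.Perm.one_apply, hbq,
      ← Equiv.Perm.mul_apply k⁻¹, inv_mul_cancel, Equiv.Perm.one_apply]
  · have h : t ∈ Compute.centM24 t := Compute.mem_centM24.mpr ⟨ht, rfl⟩
    have h' := Compute.invB_centralizes_sextet ((Compute.mem_centM24_conj hk hkt).mpr h)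
    rw [mul_smul, mul_smul] at h'
    exact eq_inv_smul_iff.mpr h'
  · have h' := Compute.invB_centralizes_sextet ((Compute.mem_centM24_conj hk hkt).mpr
      (Compute.mem_centM24.mpr ⟨hcM, hcomm⟩))
    rw [mul_smul, mul_smul] at h'
    exact eq_inv_smul_iff.mpr h'

end Cfsg.Agent.S5607
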