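import Cfsg.Statements.S5610
import Cfsg.Agent.Compute.MathieuMaximal

set_option autoImplicit false
open scoped Pointwise
open Cfsg

namespace Cfsg.Agent.S5610

/-- The stabiliser of an octad in the group of the length-24 code has exactly three orbits on the 3795 trios, of sizes 15, 420 and 3360, and exactly three orbits on the 1771 sextets, of sizes 35, 840 and 896. -/
theorem result (o : Finset Cfsg.GolayPt) (ho : o ∈ Cfsg.octads) : (∃ X₁ ∈ Cfsg.trios, ∃ X₂ ∈ Cfsg.trios, ∃ X₃ ∈ Cfsg.trios, (MulAction.orbit ↥(MulAction.stabilizer Cfsg.M24 o) X₁).ncard = 15 ∧ (MulAction.orbit ↥(MulAction.stabilizer Cfsg.M24 o) X₂).ncard = 420 ∧ (MulAction.orbit ↥(MulAction.stabilizer Cfsg.M24 o) X₃).ncard = 3360 ∧ Cfsg.trios = MulAction.orbit ↥(MulAction.stabilizer Cfsg.M24 o) X₁ ∪ MulAction.orbit ↥(MulAction.stabilizer Cfsg.M24 o) X₂ ∪ MulAction.orbit ↥(MulAction.stabilizer Cfsg.M24 o) X₃) ∧ (∃ Y₁ ∈ Cfsg.sextets, ∃ Y₂ ∈ Cfsg.sextets, ∃ Y₃ ∈ Cfsg.sextets,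 (MulAction.orbit ↥(MulAction.stabilizer Cfsg.M24 o) Y₁).ncard = 35 ∧ (MulAction.orbit ↥(MulAction.stabilizer Cfsg.M24 o) Y₂).ncard = 840 ∧ (MulAction.orbit ↥(MulAction.stabilizer Cfsg.M24 o) Y₃).ncard = 896 ∧ Cfsg.sextets = MulAction.orbit ↥(MulAction.stabilizer Cfsg.M24 o) Y₁ ∪ MulAction.orbit ↥(MulAction.stabilizer Cfsg.M24 o) Y₂ ∪ MulAction.orbit ↥(MulAction.stabilizer Cfsg.M24 o) Y₃) := by
  obtain ⟨g, hg, hgx⟩ := Compute.exists_move_octad ho
  rw [← Compute.octRoot_eq] at hgx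
  constructor
  ·
    obtain ⟨a, b⟩ := Compute.subs_OctTrio hg hgx
    refine ⟨_, (a Compute.cfgOctTrioSub0 (by simp [Compute.cfgOctTrioSubs])).1,
      _, (a Compute.cfgOctTrioSub1 (by simp [Compute.cfgOctTrioSubs])).1,
      _, (a Compute.cfgOctTrioSub2 (by simp [Compute.cfgOctTrioSubs])).1,
      (a Compute.cfgOctTrioSub0 (by simp [Compute.cfgOctTrioSubs])).2.1,
      (a Compute.cfgOctTrioSub1 (by simp [Compute.cfgOctTrioSubs])).2.1,
      (a Compute.cfgOctTrioSub2 (by simp [Compute.cfgOctTrioSubs])).2.1, ?_⟩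
    refine Set.Subset.antisymm (fun X hX => ?_) ?_
    · obtain ⟨s, hs, hXs⟩ := b X hX
      simp only [Compute.cfgOctTrioSubs, List.mem_cons, List.not_mem_nil, or_false] at hs
      rcases hs with rfl | rfl | rfl <;> simp only [Set.mem_union, hXs, true_or, or_true]
    · simp only [Set.union_subset_iff]
      exact ⟨⟨(a Compute.cfgOctTrioSub0 (by simp [Compute.cfgOctTrioSubs])).2.2,
        (a Compute.cfgOctTrioSub1 (by simp [Compute.cfgOctTrioSubs])).2.2⟩,
        (a Compute.cfgOctTrioSub2 (by simp [Compute.cfgOctTrioSubs])).2.2⟩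
  ·
    obtain ⟨a, b⟩ := Compute.subs_OctSext hg hgx
    refine ⟨_, (a Compute.cfgOctSextSub0 (by simp [Compute.cfgOctSextSubs])).1,
      _, (a Compute.cfgOctSextSub1 (by simp [Compute.cfgOctSextSubs])).1,
      _, (a Compute.cfgOctSextSub2 (by simp [Compute.cfgOctSextSubs])).1,
      (a Compute.cfgOctSextSub0 (by simp [Compute.cfgOctSextSubs])).2.1,
      (a Compute.cfgOctSextSub1 (by simp [Compute.cfgOctSextSubs])).2.1,
      (a Compute.cfgOctSextSub2 (by simp [Compute.cfgOctSextSubs])).2.1, ?_⟩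
    refine Set.Subset.antisymm (fun X hX => ?_) ?_
    · obtain ⟨s, hs, hXs⟩ := b X hX
      simp only [Compute.cfgOctSextSubs, List.mem_cons, List.not_mem_nil, or_false] at hs
      rcases hs with rfl | rfl | rfl <;> simp only [Set.mem_union, hXs, true_or, or_true]
    · simp only [Set.union_subset_iff]
      exact ⟨⟨(a Compute.cfgOctSextSub0 (by simp [Compute.cfgOctSextSubs])).2.2,
        (a Compute.cfgOctSextSub1 (by simp [Compute.cfgOctSextSubs])).2.2⟩,
        (a Compute.cfgOctSextSub2 (by simp [Compute.cfgOctSextSubs])).2.2⟩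

end Cfsg.Agent.S5610
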