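import Cfsg.Statements.S5611
import Cfsg.Agent.Compute.MathieuMaximal

set_option autoImplicit false
open scoped Pointwise
open Cfsg

namespace Cfsg.Agent.S5611

/-- The stabiliser of a sextet in the group of the length-24 code has exactly three orbits on the 759 octads, of sizes 15, 360 and 384, and exactly four orbits on the 3795 trios, of sizes 15, 180, 720 and 2880. -/
theorem result (S : Finset (Finset Cfsg.GolayPt)) (hS : S ∈ Cfsg.sextets) : (∃ X₁ ∈ Cfsg.octads, ∃ X₂ ∈ Cfsg.octads, ∃ X₃ ∈ Cfsg.octads, (MulAction.orbit ↥(MulAction.stabilizer Cfsg.M24 S) X₁).ncard = 15 ∧ (MulAction.orbit ↥(MulAction.stabilizer Cfsg.M24 S) X₂).ncard = 360 ∧ (MulAction.orbit ↥(MulAction.stabilizer Cfsg.M24 S) X₃).ncard = 384 ∧ Cfsg.octads = MulAction.orbit ↥(MulAction.stabilizer Cfsg.M24 S) X₁ ∪ MulAction.orbit ↥(MulAction.stabilizer Cfsg.M24 S) X₂ ∪ MulAction.orbit ↥(MulAction.stabilizer Cfsg.M24 S) X₃) ∧ (∃ Y₁ ∈ Cfsg.trios, ∃ Y₂ ∈ Cfsg.trios,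 ∃ Y₃ ∈ Cfsg.trios, ∃ Y₄ ∈ Cfsg.trios, (MulAction.orbit ↥(MulAction.stabilizer Cfsg.M24 S) Y₁).ncard = 15 ∧ (MulAction.orbit ↥(MulAction.stabilizer Cfsg.M24 S) Y₂).ncard = 180 ∧ (MulAction.orbit ↥(MulAction.stabilizer Cfsg.M24 S) Y₃).ncard = 720 ∧ (MulAction.orbit ↥(MulAction.stabilizer Cfsg.M24 S) Y₄).ncard = 2880 ∧ Cfsg.trios = MulAction.orbit ↥(MulAction.stabilizer Cfsg.M24 S) Y₁ ∪ MulAction.orbit ↥(MulAction.stabilizer Cfsg.M24 S) Y₂ ∪ MulAction.orbit ↥(MulAction.stabilizer Cfsg.M24 S) Y₃ ∪ MulAction.orbit ↥(MulAction.stabilizer Cfsg.M24 S) Y₄) := by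
  obtain ⟨g, hg, hgx⟩ := Compute.exists_move_sextet hS
  constructor
  ·
    obtain ⟨a, b⟩ := Compute.subs_SextOct hg hgx
    refine ⟨_, (a Compute.cfgSextOctSub0 (by simp [Compute.cfgSextOctSubs])).1,
      _, (a Compute.cfgSextOctSub1 (by simp [Compute.cfgSextOctSubs])).1,
      _, (a Compute.cfgSextOctSub2 (by simp [Compute.cfgSextOctSubs])).1,
      (a Compute.cfgSextOctSub0 (by simp [Compute.cfgSextOctSubs])).2.1,
      (a Compute.cfgSextOctSub1 (by simp [Compute.cfgSextOctSubs])).2.1,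
      (a Compute.cfgSextOctSub2 (by simp [Compute.cfgSextOctSubs])).2.1, ?_⟩
    refine Set.Subset.antisymm (fun X hX => ?_) ?_
    · obtain ⟨s, hs, hXs⟩ := b X hX
      simp only [Compute.cfgSextOctSubs, List.mem_cons, List.not_mem_nil, or_false] at hs
      rcases hs with rfl | rfl | rfl <;> simp only [Set.mem_union, hXs, true_or, or_true]
    · simp only [Set.union_subset_iff]
      exact ⟨⟨(a Compute.cfgSextOctSub0 (by simp [Compute.cfgSextOctSubs])).2.2,
        (a Compute.cfgSextOctSub1 (by simp [Compute.cfgSextOctSubs])).2.2⟩,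
        (a Compute.cfgSextOctSub2 (by simp [Compute.cfgSextOctSubs])).2.2⟩
  ·
    obtain ⟨a, b⟩ := Compute.subs_SextTrio hg hgx
    refine ⟨_, (a Compute.cfgSextTrioSub0 (by simp [Compute.cfgSextTrioSubs])).1,
      _, (a Compute.cfgSextTrioSub1 (by simp [Compute.cfgSextTrioSubs])).1,
      _, (a Compute.cfgSextTrioSub2 (by simp [Compute.cfgSextTrioSubs])).1,
      _, (a Compute.cfgSextTrioSub3 (by simp [Compute.cfgSextTrioSubs])).1,
      (a Compute.cfgSextTrioSub0 (by simp [Compute.cfgSextTrioSubs])).2.1,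
      (a Compute.cfgSextTrioSub1 (by simp [Compute.cfgSextTrioSubs])).2.1,
      (a Compute.cfgSextTrioSub2 (by simp [Compute.cfgSextTrioSubs])).2.1,
      (a Compute.cfgSextTrioSub3 (by simp [Compute.cfgSextTrioSubs])).2.1, ?_⟩
    refine Set.Subset.antisymm (fun X hX => ?_) ?_
    · obtain ⟨s, hs, hXs⟩ := b X hX
      simp only [Compute.cfgSextTrioSubs, List.mem_cons, List.not_mem_nil, or_false] at hs
      rcases hs with rfl | rfl | rfl | rfl <;> simp only [Set.mem_union, hXs, true_or, or_true]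
    · simp only [Set.union_subset_iff]
      exact ⟨⟨⟨(a Compute.cfgSextTrioSub0 (by simp [Compute.cfgSextTrioSubs])).2.2,
        (a Compute.cfgSextTrioSub1 (by simp [Compute.cfgSextTrioSubs])).2.2⟩,
        (a Compute.cfgSextTrioSub2 (by simp [Compute.cfgSextTrioSubs])).2.2⟩,
        (a Compute.cfgSextTrioSub3 (by simp [Compute.cfgSextTrioSubs])).2.2⟩

end Cfsg.Agent.S5611
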