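import Cfsg.Statements.S5612
import Cfsg.Agent.Compute.MathieuMaximal

set_option autoImplicit false
open scoped Pointwise
open Cfsg

namespace Cfsg.Agent.S5612

/-- The stabiliser of a trio in the group of the length-24 code has exactly three orbits on the 759 octads, of sizes 3, 84 and 672, and exactly four orbits on the 1771 sextets, of sizes 7, 84, 336 and 1344. -/
theorem result (T : Finset (Finset Cfsg.GolayPt)) (hT : T ∈ Cfsg.trios) : (∃ X₁ ∈ Cfsg.octads, ∃ X₂ ∈ Cfsg.octads, ∃ X₃ ∈ Cfsg.octads, (MulAction.orbit ↥(MulAction.stabilizer Cfsg.M24 T) X₁).ncard = 3 ∧ (MulAction.orbit ↥(MulAction.stabilizer Cfsg.M24 T) X₂).ncard = 84 ∧ (MulAction.orbit ↥(MulAction.stabilizer Cfsg.M24 T) X₃).ncard = 672 ∧ Cfsg.octads = MulAction.orbit ↥(MulAction.stabilizer Cfsg.M24 T) X₁ ∪ MulAction.orbit ↥(MulAction.stabilizer Cfsg.M24 T) X₂ ∪ MulAction.orbit ↥(MulAction.stabilizer Cfsg.M24 T) X₃) ∧ (∃ Y₁ ∈ Cfsg.sextets, ∃ Y₂ ∈ Cfsg.sextets,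 ∃ Y₃ ∈ Cfsg.sextets, ∃ Y₄ ∈ Cfsg.sextets, (MulAction.orbit ↥(MulAction.stabilizer Cfsg.M24 T) Y₁).ncard = 7 ∧ (MulAction.orbit ↥(MulAction.stabilizer Cfsg.M24 T) Y₂).ncard = 84 ∧ (MulAction.orbit ↥(MulAction.stabilizer Cfsg.M24 T) Y₃).ncard = 336 ∧ (MulAction.orbit ↥(MulAction.stabilizer Cfsg.M24 T) Y₄).ncard = 1344 ∧ Cfsg.sextets = MulAction.orbit ↥(MulAction.stabilizer Cfsg.M24 T) Y₁ ∪ MulAction.orbit ↥(MulAction.stabilizer Cfsg.M24 T) Y₂ ∪ MulAction.orbit ↥(MulAction.stabilizer Cfsg.M24 T) Y₃ ∪ MulAction.orbit ↥(MulAction.stabilizer Cfsg.M24 T) Y₄) := by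
  obtain ⟨g, hg, hgx⟩ := Compute.exists_move_trio hT
  constructor
  ·
    obtain ⟨a, b⟩ := Compute.subs_TrioOct hg hgx
    refine ⟨_, (a Compute.cfgTrioOctSub0 (by simp [Compute.cfgTrioOctSubs])).1,
      _, (a Compute.cfgTrioOctSub1 (by simp [Compute.cfgTrioOctSubs])).1,
      _, (a Compute.cfgTrioOctSub2 (by simp [Compute.cfgTrioOctSubs])).1,
      (a Compute.cfgTrioOctSub0 (by simp [Compute.cfgTrioOctSubs])).2.1,
      (a Compute.cfgTrioOctSub1 (by simp [Compute.cfgTrioOctSubs])).2.1,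
      (a Compute.cfgTrioOctSub2 (by simp [Compute.cfgTrioOctSubs])).2.1, ?_⟩
    refine Set.Subset.antisymm (fun X hX => ?_) ?_
    · obtain ⟨s, hs, hXs⟩ := b X hX
      simp only [Compute.cfgTrioOctSubs, List.mem_cons, List.not_mem_nil, or_false] at hs
      rcases hs with rfl | rfl | rfl <;> simp only [Set.mem_union, hXs, true_or, or_true]
    · simp only [Set.union_subset_iff]
      exact ⟨⟨(a Compute.cfgTrioOctSub0 (by simp [Compute.cfgTrioOctSubs])).2.2,
        (a Compute.cfgTrioOctSub1 (by simp [Compute.cfgTrioOctSubs])).2.2⟩,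
        (a Compute.cfgTrioOctSub2 (by simp [Compute.cfgTrioOctSubs])).2.2⟩
  ·
    obtain ⟨a, b⟩ := Compute.subs_TrioSext hg hgx
    refine ⟨_, (a Compute.cfgTrioSextSub0 (by simp [Compute.cfgTrioSextSubs])).1,
      _, (a Compute.cfgTrioSextSub1 (by simp [Compute.cfgTrioSextSubs])).1,
      _, (a Compute.cfgTrioSextSub2 (by simp [Compute.cfgTrioSextSubs])).1,
      _, (a Compute.cfgTrioSextSub3 (by simp [Compute.cfgTrioSextSubs])).1,
      (a Compute.cfgTrioSextSub0 (by simp [Compute.cfgTrioSextSubs])).2.1,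
      (a Compute.cfgTrioSextSub1 (by simp [Compute.cfgTrioSextSubs])).2.1,
      (a Compute.cfgTrioSextSub2 (by simp [Compute.cfgTrioSextSubs])).2.1,
      (a Compute.cfgTrioSextSub3 (by simp [Compute.cfgTrioSextSubs])).2.1, ?_⟩
    refine Set.Subset.antisymm (fun X hX => ?_) ?_
    · obtain ⟨s, hs, hXs⟩ := b X hX
      simp only [Compute.cfgTrioSextSubs, List.mem_cons, List.not_mem_nil, or_false] at hs
      rcases hs with rfl | rfl | rfl | rfl <;> simp only [Set.mem_union, hXs, true_or, or_true]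
    · simp only [Set.union_subset_iff]
      exact ⟨⟨⟨(a Compute.cfgTrioSextSub0 (by simp [Compute.cfgTrioSextSubs])).2.2,
        (a Compute.cfgTrioSextSub1 (by simp [Compute.cfgTrioSextSubs])).2.2⟩,
        (a Compute.cfgTrioSextSub2 (by simp [Compute.cfgTrioSextSubs])).2.2⟩,
        (a Compute.cfgTrioSextSub3 (by simp [Compute.cfgTrioSextSubs])).2.2⟩

end Cfsg.Agent.S5612
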