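import Cfsg.Statements.S5613
import Cfsg.Agent.Compute.MathieuExtra

set_option autoImplicit false
open scoped Pointwise
open Cfsg

namespace Cfsg.Agent.S5613

/-- In the group of the length-24 code, the joint stabiliser of two octads has order 10752, 1152 or 720 according as the octads meet in 0, 4 or 2 points. -/
theorem result (o o' : Finset Cfsg.GolayPt) (ho : o ∈ Cfsg.octads) (ho' : o' ∈ Cfsg.octads) : ((o ∩ o').card = 0 → Nat.card ↥(MulAction.stabilizer Cfsg.M24 o ⊓ MulAction.stabilizer Cfsg.M24 o') = 10752) ∧ ((o ∩ o').card = 4 → Nat.card ↥(MulAction.stabilizer Cfsg.M24 o ⊓ MulAction.stabilizer Cfsg.M24 o') = 1152) ∧ ((o ∩ o').card = 2 → Nat.card ↥(MulAction.stabilizer Cfsg.M24 o ⊓ MulAction.stabilizer Cfsg.M24 o') = 720) := by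
  obtain ⟨g, hg, hgo⟩ := Compute.exists_move_oct ho
  have horb : (MulAction.orbit ↥(MulAction.stabilizer Cfsg.M24 o) o').ncard =
      {X : Finset Cfsg.GolayPt | X ∈ Cfsg.octads ∧
        Compute.invOctOct X = (o ∩ o').card}.ncard := by
    rw [← Compute.ncard_setOf_smul g (P := fun X => X ∈ Cfsg.octads ∧
      (o ∩ X).card = (o ∩ o').card) fun X => ?_]
    · congr 1
      ext X
      constructor
      · rintro ⟨k, rfl⟩
        have hk : ((k : ↥Cfsg.M24) : Equiv.Perm Cfsg.GolayPt) • o = o := k.2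
        refine ⟨(Compute.smul_mem_octads_iff (k : ↥Cfsg.M24).2).mpr ho', ?_⟩
        change (o ∩ ((k : ↥Cfsg.M24) : Equiv.Perm Cfsg.GolayPt) • o').card = _
        generalize ((k : ↥Cfsg.M24) : Equiv.Perm Cfsg.GolayPt) = κ at hk ⊢
        conv_lhs => rw [← hk]
        rw [Compute.card_inter_smul]
      · rintro ⟨hX, hc⟩
        obtain ⟨u, hu, hXu⟩ := Compute.partsOctOct.1 _ ((Compute.smul_mem_octads_iff hg).mpr ho') _
          ((Compute.smul_mem_octads_iff hg).mpr hX)
          (by unfold Compute.invOctOct; rw [← hgo, Compute.card_inter_smul, Compute.card_inter_smul, hc])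
        obtain ⟨hm, hfix⟩ := Subgroup.mem_inf.mp
          ((SetLike.ext_iff.mp Compute.octStab_spec.2.1 u).mpr hu)
        exact ⟨⟨⟨_, Compute.conj_mem hg hm⟩, Compute.fix_conj hgo hfix⟩, Compute.map_conj hXu⟩
    · unfold Compute.invOctOct
      rw [← hgo, Compute.card_inter_smul, Compute.smul_mem_octads_iff hg]
  have hso : Nat.card ↥(MulAction.stabilizer Cfsg.M24 o) = 13440 * 24 := by
    have h := Nat.card_congr (MulAction.orbitProdStabilizerEquivGroup Cfsg.M24 o)
    have he : (MulAction.orbit ↥Cfsg.M24 o).ncard = 759 := by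
      rw [show MulAction.orbit ↥Cfsg.M24 o = MulAction.orbit ↥Cfsg.M24 (Compute.suppM Compute.cfgOctRoot) from
        MulAction.orbit_eq_iff.mpr ⟨⟨g⁻¹, inv_mem hg⟩, inv_smul_eq_iff.mpr hgo.symm⟩]
      exact Compute.octStab_spec.2.2.2
    rw [Nat.card_prod, Nat.card_coe_set_eq, he, Compute.card_m24] at h
    omega
  have hmul := Compute.card_stab_mul (G := ↥Cfsg.M24) (H := MulAction.stabilizer Cfsg.M24 o) (x := o')
  rw [horb, hso] at hmul
  refine ⟨fun h => ?_, fun h => ?_, fun h => ?_⟩ <;> rw [h] at hmul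
  · rw [Compute.partsOctOct.2 0 30 (by decide +kernel)] at hmul; omega
  · rw [Compute.partsOctOct.2 4 280 (by decide +kernel)] at hmul; omega
  · rw [Compute.partsOctOct.2 2 448 (by decide +kernel)] at hmul; omega

end Cfsg.Agent.S5613
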