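import Cfsg.Statements.S5614
import Cfsg.Agent.Compute.IsoTools

set_option autoImplicit false
open scoped Pointwise
open Cfsg

namespace Cfsg.Agent.S5614

/-- In the group of the length-24 code, the joint stabiliser of two octads meeting in exactly two points is isomorphic to the symmetric group of degree 6. -/
theorem result (o o' : Finset Cfsg.GolayPt) (ho : o ∈ Cfsg.octads) (ho' : o' ∈ Cfsg.octads) (h₂ : (o ∩ o').card = 2) : Nonempty (↥(MulAction.stabilizer Cfsg.M24 o ⊓ MulAction.stabilizer Cfsg.M24 o') ≃* Equiv.Perm (Fin 6)) := by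
  obtain ⟨g, hg, hgo⟩ := Compute.exists_move_oct ho
  have hroot : Compute.suppM Compute.cfgOctOct2Root ∈ Cfsg.octads :=
    Compute.mem_octads_of_check (by decide +kernel)
  obtain ⟨u, hu, hX⟩ := Compute.partsOctOct.1 _ ((Compute.smul_mem_octads_iff hg).mpr ho') _ hroot
    (by
      unfold Compute.invOctOct
      conv_lhs => rw [← hgo]
      rw [Compute.card_inter_smul, h₂, Compute.interN_spec]
      decide +kernel)
  obtain ⟨hum, hufix⟩ := Compute.mem_cfgOct hu
  have hc := Compute.conjTo_two (mul_mem hum hg) (x := o) (y := o')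
    (x₀ := Compute.suppM Compute.cfgOctRoot) (y₀ := Compute.suppM Compute.cfgOctOct2Root)
    (by rw [mul_smul, hgo, hufix]) (by rw [mul_smul, hX])
    (fun _ => Compute.mem_cfgOctOct2_iff)
  obtain ⟨e⟩ := Compute.nonempty_equiv_perm (k := 6)
    (m := Compute.cfgOctRoot &&& (16777215 ^^^ Compute.cfgOctOct2Root))
    Compute.stabOctOct2_spec.1 (by decide +kernel) (by decide +kernel) (by decide +kernel)
    (by decide +kernel)
  obtain ⟨e0⟩ := hc.nonempty_mulEquiv
  exact ⟨e0.trans e⟩

end Cfsg.Agent.S5614
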