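import Cfsg.Statements.S5615
import Cfsg.Agent.Compute.OctadTrios

set_option autoImplicit false
open scoped Pointwise
open Cfsg

namespace Cfsg.Agent.S5615

/-- An octad of the length-24 code lies in exactly 15 trios; the stabiliser of the octad in the code's group acts doubly transitively on these 15 trios, and the kernel of this action is the pointwise stabiliser of the octad. -/
theorem result (o : Finset Cfsg.GolayPt) (ho : o ∈ Cfsg.octads) : {T : Finset (Finset Cfsg.GolayPt) | T ∈ Cfsg.trios ∧ o ∈ T}.ncard = 15 ∧ (∀ T₁ T₂ T₁' T₂' : Finset (Finset Cfsg.GolayPt), T₁ ∈ Cfsg.trios → T₂ ∈ Cfsg.trios → T₁' ∈ Cfsg.trios → T₂' ∈ Cfsg.trios → o ∈ T₁ → o ∈ T₂ → o ∈ T₁' → o ∈ T₂' → T₁ ≠ T₂ → T₁' ≠ T₂' → ∃ g ∈ Cfsg.M24, g • o = o ∧ g • T₁ = T₁' ∧ g • T₂ = T₂') ∧ ∀ g ∈ Cfsg.M24, g • o = o → ((∀ T ∈ Cfsg.trios, o ∈ T → g • T = T) ↔ ∀ p ∈ o, g p = p) := by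
  obtain ⟨g, hg, hgo⟩ := Compute.exists_move_oct ho
  refine ⟨?_, ?_, fun a ha hao => ?_⟩
  · rw [Compute.ncard_setOf_smul g
      (Q := fun T => T ∈ Cfsg.trios ∧ Compute.suppM Compute.cfgOctRoot ∈ T) fun T => by
        rw [← hgo, Compute.smul_mem_trios_iff hg, Finset.smul_mem_smul_finset_iff],
      ← Compute.orbit_octTrio]
    exact Compute.stabOctTrio_spec.2.2.2
  · intro T₁ T₂ T₁' T₂' hT₁ hT₂ hT₁' hT₂' ho₁ ho₂ ho₁' ho₂' hne hne'
    obtain ⟨u, hu, huo, huT⟩ := Compute.exists_move_octTrio ho hT₁ ho₁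
    obtain ⟨v, hv, hvo, hvT⟩ := Compute.exists_move_octTrio ho hT₁' ho₁'
    obtain ⟨h, hh, hX⟩ := Compute.octTrio_two_trans (X := u • T₂) (Y := v • T₂')
      ((Compute.smul_mem_trios_iff hu).mpr hT₂) ((Compute.smul_mem_trios_iff hv).mpr hT₂')
      (huo ▸ Finset.smul_mem_smul_finset ho₂) (hvo ▸ Finset.smul_mem_smul_finset ho₂')
      (fun e => hne (MulAction.injective u (huT.trans e.symm)))
      (fun e => hne' (MulAction.injective v (hvT.trans e.symm)))
    obtain ⟨hm, hfo, hfT⟩ := Compute.mem_cfgOctTrio hh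
    refine ⟨v⁻¹ * h * u, mul_mem (mul_mem (inv_mem hv) hm) hu, ?_, ?_, ?_⟩
    · rw [mul_smul, mul_smul, huo, hfo, ← hvo, inv_smul_smul]
    · rw [mul_smul, mul_smul, huT, hfT, ← hvT, inv_smul_smul]
    · rw [mul_smul, mul_smul, hX, inv_smul_smul]
  · have hm : g * a * g⁻¹ ∈ Cfsg.M24 := mul_mem (mul_mem hg ha) (inv_mem hg)
    have hfo : (g * a * g⁻¹) • Compute.suppM Compute.cfgOctRoot = Compute.suppM Compute.cfgOctRoot :=
      (Compute.conj_smul_eq_iff hgo).mpr hao
    have key := Compute.fix_trios_iff hm hfo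
    constructor
    · intro h p hp
      have h' : ∀ c ∈ Compute.cfgOctTrioTree.codes,
          (g * a * g⁻¹) • Compute.decFam 3 c = Compute.decFam 3 c := by
        intro c hc
        have hmem : Compute.decFam 3 c ∈ {T | T ∈ Cfsg.trios ∧ Compute.suppM Compute.cfgOctRoot ∈ T} := by
          rw [Compute.triosThru_eq]; exact ⟨c, hc, rfl⟩
        obtain ⟨hT, hoT⟩ := hmem
        have := h (g⁻¹ • Compute.decFam 3 c) ((Compute.smul_mem_trios_iff (inv_mem hg)).mpr hT)
          (by rw [← inv_smul_smul g o, hgo]; exact Finset.smul_mem_smul_finset hoT)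
        rw [mul_smul, mul_smul, this, smul_inv_smul]
      exact (Compute.conj_apply_eq_iff rfl).mp
        (key.mp h' _ (hgo ▸ Finset.smul_mem_smul_finset hp))
    · intro h T hT hoT
      have hmem : g • T ∈ {T | T ∈ Cfsg.trios ∧ Compute.suppM Compute.cfgOctRoot ∈ T} :=
        ⟨(Compute.smul_mem_trios_iff hg).mpr hT, hgo ▸ Finset.smul_mem_smul_finset hoT⟩
      rw [Compute.triosThru_eq] at hmem
      obtain ⟨c, hc, hcT⟩ := hmem
      have := key.mpr (fun q hq => by
        rw [← hgo] at hq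
        obtain ⟨p, hp, rfl⟩ := Finset.mem_smul_finset.mp hq
        exact (Compute.conj_apply_eq_iff rfl).mpr (h p hp)) c hc
      rw [hcT, mul_smul, mul_smul, inv_smul_smul, smul_left_cancel_iff] at this
      exact this

end Cfsg.Agent.S5615
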