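import Cfsg.Statements.S5616
import Cfsg.Agent.Compute.MathieuMoves

set_option autoImplicit false
open scoped Pointwise
open Cfsg

namespace Cfsg.Agent.S5616

/-- Let Y be a set of 3 of the 24 points. The sextets of the length-24 code whose tetrads meeting Y number 1, 2 or 3 are respectively 21, 630 and 1120 in number, and two sextets with the same number of tetrads meeting Y are conjugate under the setwise stabiliser of Y in the code's group. -/
theorem result (Y : Finset Cfsg.GolayPt) (hY : Y.card = 3) : {S : Finset (Finset Cfsg.GolayPt) | S ∈ Cfsg.sextets ∧ (S.filter fun t => (t ∩ Y).Nonempty).card = 1}.ncard = 21 ∧ {S : Finset (Finset Cfsg.GolayPt) | S ∈ Cfsg.sextets ∧ (S.filter fun t => (t ∩ Y).Nonempty).card = 2}.ncard = 630 ∧ {S : Finset (Finset Cfsg.GolayPt) | S ∈ Cfsg.sextets ∧ (S.filter fun t => (t ∩ Y).Nonempty).card = 3}.ncard = 1120 ∧ ∀ S S' : Finset (Finset Cfsg.GolayPt), S ∈ Cfsg.sextets → S' ∈ Cfsg.sextets → (S.filter fun t => (t ∩ Y).Nonempty).card = (S'.filter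 fun t => (t ∩ Y).Nonempty).card → ∃ g ∈ Cfsg.M24, g • Y = Y ∧ g • S = S' := by
  obtain ⟨g, hg, hgY⟩ := Compute.exists_move_triple hY
  have hinv : ∀ S : Finset (Finset Cfsg.GolayPt), Compute.invTripleSext (g • S) =
      (S.filter fun t => (t ∩ Y).Nonempty).card := by
    intro S
    unfold Compute.invTripleSext
    rw [← hgY, show (g • S).filter (fun t => (t ∩ g • Y).Nonempty) =
      g • S.filter (fun t => (t ∩ Y).Nonempty) from ?_, Finset.card_smul_finset]
    ext t
    rw [Finset.mem_filter, Finset.mem_smul_finset, Finset.mem_smul_finset]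
    constructor
    · rintro ⟨⟨t', ht', rfl⟩, hne⟩
      rw [← Finset.card_pos, Compute.card_inter_smul, Finset.card_pos] at hne
      exact ⟨t', Finset.mem_filter.mpr ⟨ht', hne⟩, rfl⟩
    · rintro ⟨t', ht', rfl⟩
      rw [Finset.mem_filter] at ht'
      refine ⟨⟨t', ht'.1, rfl⟩, ?_⟩
      rw [← Finset.card_pos, Compute.card_inter_smul, Finset.card_pos]; exact ht'.2
  have key : ∀ v : ℕ, {S : Finset (Finset Cfsg.GolayPt) | S ∈ Cfsg.sextets ∧ (S.filter fun t => (t ∩ Y).Nonempty).card = v}.ncard =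
      {X : Finset (Finset Cfsg.GolayPt) | X ∈ Cfsg.sextets ∧ Compute.invTripleSext X = v}.ncard := fun v =>
    Compute.ncard_setOf_smul g fun S => by rw [hinv, Compute.smul_mem_sextets_iff hg]
  refine ⟨?_, ?_, ?_, ?_⟩
  · rw [key]; refine Compute.partsTripleSext.2 _ _ ?_; decide +kernel
  · rw [key]; refine Compute.partsTripleSext.2 _ _ ?_; decide +kernel
  · rw [key]; refine Compute.partsTripleSext.2 _ _ ?_; decide +kernel
  intro S S' hS hS' h
  obtain ⟨u, hu, hX⟩ := Compute.partsTripleSext.1 _ ((Compute.smul_mem_sextets_iff hg).mpr hS) _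
    ((Compute.smul_mem_sextets_iff hg).mpr hS') (by rw [hinv, hinv, h])
  obtain ⟨hm, hfix⟩ := Subgroup.mem_inf.mp ((SetLike.ext_iff.mp Compute.tripleStab_spec.2.1 u).mpr hu)
  exact ⟨_, Compute.conj_mem hg hm, Compute.fix_conj hgY hfix, Compute.map_conj hX⟩

end Cfsg.Agent.S5616
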