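import Cfsg.Statements.S5617
import Cfsg.Agent.Compute.MathieuMaximal

set_option autoImplicit false
open scoped Pointwise
open Cfsg

namespace Cfsg.Agent.S5617

/-- The setwise stabiliser, in the group of the length-24 code, of a complementary pair of dodecads has exactly three orbits on the 1771 sextets, of sizes 396, 495 and 880. -/
theorem result (d : Finset Cfsg.GolayPt) (hd : d ∈ Cfsg.dodecads) : ∃ X₁ ∈ Cfsg.sextets, ∃ X₂ ∈ Cfsg.sextets, ∃ X₃ ∈ Cfsg.sextets, (MulAction.orbit ↥(MulAction.stabilizer Cfsg.M24 ({d, Finset.univ \ d} : Finset (Finset Cfsg.GolayPt))) X₁).ncard = 396 ∧ (MulAction.orbit ↥(MulAction.stabilizer Cfsg.M24 ({d, Finset.univ \ d} : Finset (Finset Cfsg.GolayPt))) X₂).ncard = 495 ∧ (MulAction.orbit ↥(MulAction.stabilizer Cfsg.M24 ({d, Finset.univ \ d} : Finset (Finset Cfsg.GolayPt))) X₃).ncard = 880 ∧ Cfsg.sextets = MulAction.orbit ↥(MulAction.stabilizer Cfsg.M24 ({d, Finset.univ \ d} : Finset (Finset Cfsg.GolayPt))) X₁ ∪ MulAction.orbit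 ↥(MulAction.stabilizer Cfsg.M24 ({d, Finset.univ \ d} : Finset (Finset Cfsg.GolayPt))) X₂ ∪ MulAction.orbit ↥(MulAction.stabilizer Cfsg.M24 ({d, Finset.univ \ d} : Finset (Finset Cfsg.GolayPt))) X₃ := by
  rw [show (Finset.univ \ d : Finset GolayPt) = dᶜ from (Finset.compl_eq_univ_sdiff d).symm]
  obtain ⟨g, hg, hgx⟩ := Compute.exists_move_dpair hd
  obtain ⟨a, b⟩ := Compute.subs_DPairSext hg hgx
  refine ⟨_, (a Compute.cfgDPairSextSub0 (by simp [Compute.cfgDPairSextSubs])).1,
    _, (a Compute.cfgDPairSextSub1 (by simp [Compute.cfgDPairSextSubs])).1,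
    _, (a Compute.cfgDPairSextSub2 (by simp [Compute.cfgDPairSextSubs])).1,
    (a Compute.cfgDPairSextSub0 (by simp [Compute.cfgDPairSextSubs])).2.1,
    (a Compute.cfgDPairSextSub1 (by simp [Compute.cfgDPairSextSubs])).2.1,
    (a Compute.cfgDPairSextSub2 (by simp [Compute.cfgDPairSextSubs])).2.1, ?_⟩
  refine Set.Subset.antisymm (fun X hX => ?_) ?_
  · obtain ⟨s, hs, hXs⟩ := b X hX
    simp only [Compute.cfgDPairSextSubs, List.mem_cons, List.not_mem_nil, or_false] at hs
    rcases hs with rfl | rfl | rfl <;> simp only [Set.mem_union, hXs, true_or, or_true]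
  · simp only [Set.union_subset_iff]
    exact ⟨⟨(a Compute.cfgDPairSextSub0 (by simp [Compute.cfgDPairSextSubs])).2.2,
      (a Compute.cfgDPairSextSub1 (by simp [Compute.cfgDPairSextSubs])).2.2⟩,
      (a Compute.cfgDPairSextSub2 (by simp [Compute.cfgDPairSextSubs])).2.2⟩

end Cfsg.Agent.S5617
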