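import Cfsg.Statements.S5618
import Cfsg.Agent.Compute.IsoTools

set_option autoImplicit false
open scoped Pointwise
open Cfsg

namespace Cfsg.Agent.S5618

/-- For a dodecad d of the length-24 code and a hexad C on it (a 6-point intersection of d with an octad): the joint stabiliser of d and C in the code's group is isomorphic to the symmetric group of degree 6, and it acts faithfully both on the six points of C and on the six points of d outside C. -/
theorem result (d : Finset Cfsg.GolayPt) (hd : d ∈ Cfsg.dodecads) (C : Finset Cfsg.GolayPt) (hC : C ∈ Cfsg.hexadsOn d) : Nonempty (↥(MulAction.stabilizer Cfsg.M24 d ⊓ MulAction.stabilizer Cfsg.M24 C) ≃* Equiv.Perm (Fin 6)) ∧ (∀ g ∈ MulAction.stabilizer Cfsg.M24 d ⊓ MulAction.stabilizer Cfsg.M24 C, (∀ p ∈ C, ((g : ↥Cfsg.M24) : Equiv.Perm Cfsg.GolayPt) p = p) → g = 1) ∧ ∀ g ∈ MulAction.stabilizer Cfsg.M24 d ⊓ MulAction.stabilizer Cfsg.M24 C, (∀ p ∈ d \ C, ((g : ↥Cfsg.M24) : Equiv.Perm Cfsg.GolayPt) p = p) → g = 1 := by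
  obtain ⟨g, hg, hgd⟩ := Compute.exists_move_dod hd
  have hC' := Compute.smul_mem_hexadsOn hg hC
  rw [hgd] at hC'
  have horb : g • C ∈ MulAction.orbit (Compute.rep24.chainGroup Compute.cfgDodChain)
      (Compute.suppM Compute.cfgDodHexRoot) := by
    rw [Compute.stabDodHex_spec.2.2.1]
    obtain ⟨hc6, o, ho, hoC⟩ := hC'
    rw [Compute.octads_eq_codes] at ho
    obtain ⟨c, hc, rfl⟩ := ho
    have hscan : Compute.cfgOctTree.codes.all (fun c =>
        cond (Nat.beq (Compute.popBits 24 (Nat.land c Compute.cfgDodRoot)) 6)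
          (Compute.cfgDodHexTree.memB (Nat.land c Compute.cfgDodRoot)) true) = true := by
      decide +kernel
    have h := List.all_eq_true.mp hscan c hc
    rw [← Compute.suppM_and] at hoC
    have hp : Nat.beq (Compute.popBits 24 (Nat.land c Compute.cfgDodRoot)) 6 = true := by
      rw [Nat.beq_eq, ← Compute.card_suppM, show Nat.land c Compute.cfgDodRoot =
        c &&& Compute.cfgDodRoot from rfl, hoC]
      exact hc6
    rw [hp, cond_true] at h
    exact ⟨_, Compute.OTr.mem_codes_of_memB h, hoC⟩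
  obtain ⟨k, hk, hkC⟩ := Compute.exists_inv_mem_orbit horb
  obtain ⟨hkm, hkd⟩ := Compute.mem_cfgDod hk
  have hd' : (k * g) • d = Compute.suppM Compute.cfgDodRoot := by rw [mul_smul, hgd, hkd]
  have hC0 : (k * g) • C = Compute.suppM Compute.cfgDodHexRoot := by rw [mul_smul, hkC]
  have hc := Compute.conjTo_two (mul_mem hkm hg) hd' hC0 (fun _ => Compute.mem_cfgDodHex_iff)
  refine ⟨?_, ?_, ?_⟩
  · obtain ⟨e⟩ := Compute.nonempty_equiv_perm (k := 6) (m := Compute.cfgDodHexRoot)
      Compute.stabDodHex_spec.1 (by decide +kernel) (by decide +kernel) (by decide +kernel)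
      (by decide +kernel)
    obtain ⟨e0⟩ := hc.nonempty_mulEquiv
    exact ⟨e0.trans e⟩
  · intro a ha hfix
    have h1 := (Compute.faithfulB_spec (m := Compute.cfgDodHexRoot) Compute.stabDodHex_spec.1
      (by decide +kernel) (by decide +kernel)).2 _ ((hc.mem_iff a).mp ha) (fun q hq => by
      rw [← hC0] at hq
      obtain ⟨y, hy, rfl⟩ := Finset.mem_smul_finset.mp hq
      exact (Compute.conj_apply_eq_iff rfl).mpr (hfix y hy))
    exact Subtype.ext (conj_eq_one_iff.mp h1)
  · intro a ha hfix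
    have h1 := (Compute.faithfulB_spec
      (m := Compute.cfgDodRoot &&& (16777215 ^^^ Compute.cfgDodHexRoot)) Compute.stabDodHex_spec.1
      (by decide +kernel) (by decide +kernel)).2 _ ((hc.mem_iff a).mp ha) (fun q hq => by
      rw [Compute.suppM_and, show (16777215 : ℕ) = 2 ^ 24 - 1 by norm_num, ← Compute.compl_suppM,
        ← hd', ← hC0, Finset.mem_inter, Finset.mem_compl] at hq
      obtain ⟨y, hy, rfl⟩ := Finset.mem_smul_finset.mp hq.1
      exact (Compute.conj_apply_eq_iff rfl).mpr (hfix y (Finset.mem_sdiff.mpr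
        ⟨hy, fun h => hq.2 (Finset.smul_mem_smul_finset h)⟩)))
    exact Subtype.ext (conj_eq_one_iff.mp h1)

end Cfsg.Agent.S5618
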