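import Cfsg.Statements.S5619
import Cfsg.Agent.Compute.M9Sylow

set_option autoImplicit false
open scoped Pointwise
open Cfsg

namespace Cfsg.Agent.S5619

/-- In the group of the length-24 code, the subgroup fixing a dodecad setwise and three of its points individually (a group of order 72) has a normal Sylow 3-subgroup that is elementary abelian of order 9, and its Sylow 2-subgroups are quaternion of order 8. -/
theorem result (d : Finset Cfsg.GolayPt) (hd : d ∈ Cfsg.dodecads) (p q r : Cfsg.GolayPt) (hp : p ∈ d) (hq : q ∈ d) (hr : r ∈ d) (hpq : p ≠ q) (hpr : p ≠ r) (hqr : q ≠ r) : (∀ Q : Sylow 3 ↥(MulAction.stabilizer Cfsg.M24 d ⊓ MulAction.stabilizer Cfsg.M24 p ⊓ MulAction.stabilizer Cfsg.M24 q ⊓ MulAction.stabilizer Cfsg.M24 r), (Q : Subgroup ↥(MulAction.stabilizer Cfsg.M24 d ⊓ MulAction.stabilizer Cfsg.M24 p ⊓ MulAction.stabilizer Cfsg.M24 q ⊓ MulAction.stabilizer Cfsg.M24 r)).Normal ∧ Nat.card ↥Q = 9 ∧ ∀ x ∈ (Q : Subgroup ↥(MulAction.stabilizer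 Cfsg.M24 d ⊓ MulAction.stabilizer Cfsg.M24 p ⊓ MulAction.stabilizer Cfsg.M24 q ⊓ MulAction.stabilizer Cfsg.M24 r)), x ^ 3 = 1) ∧ ∀ P : Sylow 2 ↥(MulAction.stabilizer Cfsg.M24 d ⊓ MulAction.stabilizer Cfsg.M24 p ⊓ MulAction.stabilizer Cfsg.M24 q ⊓ MulAction.stabilizer Cfsg.M24 r), Nonempty (↥P ≃* QuaternionGroup 2) := by
  obtain ⟨e⟩ := Compute.nonempty_stab_dodecad_three hd hp hq hr hpq hpr hqr
  haveI : Fact (Nat.Prime 3) := ⟨Nat.prime_three⟩
  haveI : Fact (Nat.Prime 2) := ⟨Nat.prime_two⟩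
  refine ⟨fun Q => ?_, fun P => ?_⟩
  · have hs : Function.Surjective e.toMonoidHom := e.surjective
    obtain ⟨h1, h2, h3⟩ := Compute.m9_three (Q.mapSurjective hs)
    replace h1 : ((Q : Subgroup _).map e.toMonoidHom).Normal := h1
    replace h3 : ∀ x ∈ (Q : Subgroup _).map e.toMonoidHom, x ^ 3 = 1 := h3
    replace h2 : Nat.card ↥((Q : Subgroup _).map e.toMonoidHom) = 9 := h2
    refine ⟨?_, ?_, fun x hx => ?_⟩
    · have := h1.comap e.toMonoidHom
      rwa [Subgroup.comap_map_eq_self_of_injective e.injective] at this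
    · rw [← h2]
      exact (Nat.card_congr (e.subgroupMap (Q : Subgroup _)).toEquiv)
    · have := h3 (e x) ⟨x, hx, rfl⟩
      rw [← map_pow] at this
      exact e.map_eq_one_iff.mp this
  · have hs : Function.Surjective e.toMonoidHom := e.surjective
    obtain ⟨f⟩ := Compute.m9_two (P.mapSurjective hs)
    refine ⟨MulEquiv.trans ?_ f⟩
    exact e.subgroupMap P.toSubgroup

end Cfsg.Agent.S5619
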