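import Cfsg.Statements.S5620
import Cfsg.Agent.Compute.M11Pair

set_option autoImplicit false
open scoped Pointwise
open Cfsg

namespace Cfsg.Agent.S5620

/-- Inside the stabiliser of the dodecad of squares (a Mathieu group of degree 12), the stabiliser of the residue 0 (a point of the dodecad) and the stabiliser of the extra point (a point outside the dodecad) are isomorphic but not conjugate; conjugation by a suitable element of the code's group that maps the dodecad of squares onto its complement carries the first onto the second. -/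
theorem result : Nonempty (↥(Cfsg.Spor.M12 ⊓ MulAction.stabilizer (Equiv.Perm Cfsg.GolayPt) (none : Cfsg.GolayPt)) ≃* ↥Cfsg.Spor.M11) ∧ (¬ ∃ k ∈ Cfsg.Spor.M12, MulAut.conj k • Cfsg.Spor.M11 = Cfsg.Spor.M12 ⊓ MulAction.stabilizer (Equiv.Perm Cfsg.GolayPt) (none : Cfsg.GolayPt)) ∧ ∃ g ∈ Cfsg.M24, g • Cfsg.Spor.squareDodecad = Finset.univ \ Cfsg.Spor.squareDodecad ∧ MulAut.conj g • Cfsg.Spor.M11 = Cfsg.Spor.M12 ⊓ MulAction.stabilizer (Equiv.Perm Cfsg.GolayPt) (none : Cfsg.GolayPt) := by
  obtain ⟨h, hh, hhd, hhn⟩ := Compute.exists_move_dodecad_point Compute.compl_squareDodecad_mem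
    Compute.none_mem_compl
  rw [Compute.rep24_pt0] at hhn
  have hg : h⁻¹ ∈ Cfsg.M24 := inv_mem hh
  have hgd : h⁻¹ • Cfsg.Spor.squareDodecad = Finset.univ \ Cfsg.Spor.squareDodecad :=
    inv_smul_eq_iff.mpr hhd.symm
  have hg0 : h⁻¹ (some 0) = none := by rw [← hhn, ← Equiv.Perm.mul_apply, inv_mul_cancel]; rfl
  have he := Compute.m11_conj_eq hg hgd hg0
  refine ⟨?_, ?_, h⁻¹, hg, hgd, he⟩
  · rw [← he]
    exact ⟨(Subgroup.equivSMul (MulAut.conj h⁻¹) Cfsg.Spor.M11).symm⟩
  · rintro ⟨k, hk, hkeq⟩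
    obtain ⟨x, hx, hxne⟩ := Compute.m11_moves_outside (p := k⁻¹ none) (fun hmem => by
      have hkD : k • Cfsg.Spor.squareDodecad = Cfsg.Spor.squareDodecad := hk.2
      have hn := Finset.smul_mem_smul_finset (a := k) hmem
      rw [hkD, Equiv.Perm.smul_def, ← Equiv.Perm.mul_apply, mul_inv_cancel] at hn
      exact (Finset.mem_sdiff.mp Compute.none_mem_compl).2 hn)
    refine hxne ?_
    have hm : MulAut.conj k • x ∈ MulAut.conj k • Cfsg.Spor.M11 :=
      Subgroup.smul_mem_pointwise_smul _ _ _ hx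
    rw [hkeq] at hm
    have h2 : k (x (k⁻¹ none)) = none := hm.2
    exact k.injective (by rw [h2, ← Equiv.Perm.mul_apply, mul_inv_cancel]; rfl)

end Cfsg.Agent.S5620
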