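import Cfsg.Statements.S5625
import Cfsg.Agent.Leech.Steiner

set_option autoImplicit false
open Cfsg

namespace Cfsg.Agent.S5625

/-- In any Steiner system S(5, 8, 24) and for any set Y of three points, the blocks meeting Y in exactly 3, 2, 1 and 0 points number 21, 168, 360 and 210 respectively (so there are 759 blocks in all). -/
theorem result (α : Type*) [Fintype α] [DecidableEq α] (hα : Fintype.card α = 24) (B : Set (Finset α)) (hB : Cfsg.IsSteinerSystem 5 8 B) (Y : Finset α) (hY : Y.card = 3) : {b : Finset α | b ∈ B ∧ (b ∩ Y).card = 3}.ncard = 21 ∧ {b : Finset α | b ∈ B ∧ (b ∩ Y).card = 2}.ncard = 168 ∧ {b : Finset α | b ∈ B ∧ (b ∩ Y).card = 1}.ncard = 360 ∧ {b : Finset α | b ∈ B ∧ (b ∩ Y).card = 0}.ncard = 210 := by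
  classical
  set Bf : Finset (Finset α) := Finset.univ.filter fun b => b ∈ B with hBf
  have hm : ∀ b, b ∈ Bf ↔ b ∈ B := fun b => by simp [hBf]
  have lam : ∀ S : Finset α, ∀ i c, S.card = i → i ≤ 5 →
      c * (8 - i).choose (5 - i) = (24 - i).choose (5 - i) →
      (Bf.filter fun b => S ⊆ b).card = c := by
    intro S i c hS hi hc
    have := Leech.lam_mul hB Bf hm S (hS ▸ hi)
    rw [hS, hα, ← hc] at this
    exact Nat.eq_of_mul_eq_mul_right (Nat.choose_pos (by omega)) this
  have key : ∀ j c, j ≤ 3 → c * (8 - j).choose (5 - j) = (24 - j).choose (5 - j) →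
      ∑ b ∈ Bf, (b ∩ Y).card.choose j = (Nat.choose 3 j) * c := by
    intro j c hj hc
    rw [Leech.sum_choose_inter, Finset.sum_const_nat (m := c), Finset.card_powersetCard, hY]
    intro S hS
    exact lam S j c (Finset.mem_powersetCard.1 hS).2 (by omega) hc
  have hle : ∀ b, (b ∩ Y).card ≤ 3 := fun b => hY ▸ Finset.card_le_card Finset.inter_subset_right
  set n : ℕ → ℕ := fun i => (Bf.filter fun b => (b ∩ Y).card = i).card with hn
  have exp : ∀ j, ∑ b ∈ Bf, (b ∩ Y).card.choose j =
      n 0 * Nat.choose 0 j + n 1 * Nat.choose 1 j + n 2 * Nat.choose 2 j + n 3 * Nat.choose 3 j := by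
    intro j
    rw [← Finset.sum_fiberwise_of_maps_to (g := fun b => (b ∩ Y).card) (t := Finset.range 4)
      (fun b _ => Finset.mem_range.2 (Nat.lt_succ_of_le (hle b)))]
    have : ∀ i, (∑ b ∈ Bf with (b ∩ Y).card = i, (b ∩ Y).card.choose j) = n i * i.choose j :=
      fun i => Finset.sum_const_nat fun b hb => by rw [(Finset.mem_filter.1 hb).2]
    simp only [Finset.sum_range_succ, Finset.sum_range_zero, zero_add, this]
  have e0 := (exp 0).symm.trans (key 0 759 (by norm_num) (by decide))
  have e1 := (exp 1).symm.trans (key 1 253 (by norm_num) (by decide))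
  have e2 := (exp 2).symm.trans (key 2 77 (by norm_num) (by decide))
  have e3 := (exp 3).symm.trans (key 3 21 (by norm_num) (by decide))
  norm_num [Nat.choose] at e0 e1 e2 e3
  have hset : ∀ i, {b : Finset α | b ∈ B ∧ (b ∩ Y).card = i}.ncard = n i := by
    intro i
    simp only [hn]
    rw [← Set.ncard_coe_finset]
    congr 1
    ext b
    simp [hm]
  simp only [hset]
  omega

end Cfsg.Agent.S5625
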