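import Cfsg.Statements.S5631
import Cfsg.Agent.ClassicalMax.Transvection

set_option autoImplicit false
open Cfsg

namespace Cfsg.Agent.S5631

open Cfsg.Agent.ClassicalMax Module

section

variable {F V : Type*} [Field F] [AddCommGroup V] [Module F V]

lemma exists_dual_one (W : Submodule F V) {x : V} (hx : x ∉ W) : ∃ φ : Dual F V, φ x = 1 ∧ ∀ w ∈ W, φ w = 0 := by
  obtain ⟨φ, hφ, hW⟩ := W.exists_le_ker_of_notMem hx
  exact ⟨(φ x)⁻¹ • φ, by simp [hφ], fun w hw => by simp [LinearMap.mem_ker.1 (hW hw)]⟩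

theorem all_transvections (W : Submodule F V) (M : Subgroup (V ≃ₗ[F] V))
    (hM : ∀ (φ : Dual F V) (v : V), φ v = 0 → (v ∈ W ∨ ∀ w ∈ W, φ w = 0) → tvec φ v ∈ M)
    (g : V ≃ₗ[F] V) (hg : g ∈ M) {w0 : V} (hw0 : w0 ∈ W) (hgw : g w0 ∉ W) :
    ∀ (φ : Dual F V) (v : V), φ v = 0 → tvec φ v ∈ M := by
  let S : Set V := {v | ∀ φ : Dual F V, φ v = 0 → tvec φ v ∈ M}
  have hW : ∀ v ∈ W, v ∈ S := fun v hv φ h => hM φ v h (Or.inl hv)
  have hmap : ∀ h ∈ M, ∀ v ∈ S, h v ∈ S := fun h hh v hv φ hφ => by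
    have hφ' : (φ.comp h.toLinearMap) v = 0 := hφ
    have := mul_mem (mul_mem hh (hv _ hφ')) (inv_mem hh)
    rw [conj_tvec h hφ'] at this
    convert this using 2
    exact LinearMap.ext fun x => by simp [apply_inv]
  have hsmul : ∀ (c : F), ∀ v ∈ S, c • v ∈ S := fun c v hv φ hφ => by
    rw [← tvec_smul]
    exact hv _ (by rw [LinearMap.smul_apply, ← map_smul, hφ])
  have hadd : ∀ x ∈ S, ∀ y ∈ S, x + y ∈ S := fun x hx y hy => by
    by_cases hs : x ∈ Submodule.span F {y}
    · obtain ⟨c, rfl⟩ := Submodule.mem_span_singleton.1 hs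
      rw [show c • y + y = (c + 1) • y by rw [add_smul, one_smul]]
      exact hsmul _ y hy
    obtain ⟨φ, hφ, hφy⟩ := exists_dual_one _ hs
    have h0 := hφy y (Submodule.mem_span_singleton_self y)
    have := hmap _ (hy φ h0) x hx
    rwa [tvec_apply h0, hφ, one_smul] at this
  let U : Submodule F V :=
    { carrier := S, add_mem' := fun ha hb => hadd _ ha _ hb, zero_mem' := hW 0 W.zero_mem, smul_mem' := hsmul }
  have hv0 : g w0 ∈ S := hmap g hg w0 (hW w0 hw0)
  intro φ v hφ
  suffices v ∈ S from this φ hφ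
  by_cases hv : v ∈ W ⊔ Submodule.span F {g w0}
  · exact (sup_le (fun w hw => hW w hw) (by rw [Submodule.span_singleton_le_iff_mem]; exact hv0) : _ ≤ U) hv
  have h0 : g w0 ∉ W ⊔ Submodule.span F {v} := fun h => by
    obtain ⟨a, ha, b, hb, hab⟩ := Submodule.mem_sup.1 h
    obtain ⟨c, rfl⟩ := Submodule.mem_span_singleton.1 hb
    rcases eq_or_ne c 0 with rfl | hc
    · rw [zero_smul, add_zero] at hab; exact hgw (hab ▸ ha)
    refine hv ?_
    have : v = c⁻¹ • (g w0 - a) := by rw [← hab, add_sub_cancel_left, smul_smul, inv_mul_cancel₀ hc, one_smul]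
    rw [this]
    exact Submodule.smul_mem _ _ (Submodule.sub_mem _ (Submodule.mem_sup_right (Submodule.mem_span_singleton_self _)) (Submodule.mem_sup_left ha))
  obtain ⟨a, ha, haW⟩ := exists_dual_one _ hv
  obtain ⟨b, hb, hbW⟩ := exists_dual_one _ h0
  have e1 : (a + b) (g w0) = 1 := by
    rw [LinearMap.add_apply, hb, haW _ (Submodule.mem_sup_right (Submodule.mem_span_singleton_self _)), zero_add]
  have e2 : (a + b) v = 1 := by
    rw [LinearMap.add_apply, ha, hbW _ (Submodule.mem_sup_right (Submodule.mem_span_singleton_self _)), add_zero]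
  have e3 : (a + b) (v - g w0) = 0 := by rw [map_sub, e1, e2, sub_self]
  have ht := hM (a + b) (v - g w0) e3 (Or.inr fun w hw => by
    rw [LinearMap.add_apply, haW w (Submodule.mem_sup_left hw), hbW w (Submodule.mem_sup_left hw), add_zero])
  have := hmap _ ht _ hv0
  rwa [tvec_apply e3, e1, one_smul, add_sub_cancel] at this

end

/-- For a finite field F and n ≥ 13, the stabiliser in SL_n(F) of any proper non-zero subspace W of F^n is a maximal subgroup of SL_n(F). Here SL_n(F) is the kernel of the determinant inside GL_n(F) and the stabiliser is the set of elements of determinant one mapping W onto itself. -/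
theorem result {F : Type*} [Field F] [Fintype F] (n : ℕ) (hn : 13 ≤ n) (W : Submodule F (Fin n → F)) (hW0 : W ≠ ⊥) (hW1 : W ≠ ⊤) : Cfsg.Geo.IsMaximalIn (Cfsg.Geo.specialLinear (Fin n) F) (Cfsg.Geo.subspaceStabilizer W ⊓ Cfsg.Geo.specialLinear (Fin n) F) := by
  classical
  have hmem : ∀ g : (Fin n → F) ≃ₗ[F] (Fin n → F),
      (glEquiv (Fin n) F).symm g ∈ Cfsg.Geo.subspaceStabilizer W ↔ ∀ v, v ∈ W ↔ g v ∈ W := fun g => by
    show (∀ v, v ∈ (W : Set (Fin n → F)) ↔ (((glEquiv (Fin n) F).symm g : Matrix.GeneralLinearGroup (Fin n) F) : Matrix (Fin n) (Fin n) F).mulVec v ∈ (W : Set (Fin n → F))) ↔ _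
    simp only [symm_mulVec, SetLike.mem_coe]
  refine isMaximalIn_specialLinear _ ?_ fun M hK hg => ?_
  · obtain ⟨w, hw, hw0⟩ := W.exists_mem_ne_zero_of_ne_bot hW0
    obtain ⟨u, hu⟩ : ∃ u, u ∉ W := by
      by_contra! h; exact hW1 (eq_top_iff.2 fun v _ => h v)
    have hwu : w ∉ Submodule.span F {u} := fun h => by
      obtain ⟨c, rfl⟩ := Submodule.mem_span_singleton.1 h
      exact hu (by simpa [smul_smul, inv_mul_cancel₀ (fun hc : c = 0 => hw0 (by rw [hc, zero_smul]))] using W.smul_mem c⁻¹ hw)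
    obtain ⟨φ, hφ, hφu⟩ := exists_dual_one _ hwu
    have h0 := hφu u (Submodule.mem_span_singleton_self u)
    refine ⟨φ, u, h0, fun hk => ?_⟩
    have := ((hmem _).1 hk w).1 hw
    rw [tvec_apply h0, hφ, one_smul] at this
    exact hu ((W.add_mem_iff_right hw).1 this)
  · obtain ⟨g, hgK, hgM⟩ := hg
    obtain ⟨w0, hw0, hgw⟩ : ∃ w0 ∈ W, glEquiv (Fin n) F g w0 ∉ W := by
      by_contra! hc
      refine hgK ?_
      have hmap : W.map (glEquiv (Fin n) F g).toLinearMap = W :=
        Submodule.eq_of_le_of_finrank_eq (by rintro _ ⟨w, hw, rfl⟩; exact hc w hw)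
          (LinearEquiv.finrank_map_eq _ W)
      rw [← (glEquiv (Fin n) F).symm_apply_apply g, hmem]
      refine fun v => ⟨hc v, fun h => ?_⟩
      rw [← hmap] at h
      obtain ⟨w, hw, e⟩ := h
      exact (glEquiv (Fin n) F g).injective e ▸ hw
    refine all_transvections W M (fun φ v h0 hh => ?_) _ hgM hw0 hgw
    have := hK ((glEquiv (Fin n) F).symm (tvec φ v)) ⟨(hmem _).2 fun x => ?_, tvec_mem_specialLinear φ v⟩
    · rwa [MulEquiv.apply_symm_apply] at this
    rw [tvec_apply h0]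
    rcases hh with hv | hW
    · exact (W.add_mem_iff_left (W.smul_mem _ hv)).symm
    · refine ⟨fun hx => by rwa [hW x hx, zero_smul, add_zero], fun hx => ?_⟩
      have := hW _ hx
      rw [map_add, map_smul, h0, smul_zero, add_zero] at this
      rwa [this, zero_smul, add_zero] at hx

end Cfsg.Agent.S5631
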