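import Cfsg.Statements.S5635
import Cfsg.Agent.NotMax.DecompForm
-- import your own Cfsg.Agent.* helpers here

set_option autoImplicit false
open Cfsg

namespace Cfsg.Agent.S5635

/-- For a finite field F with q elements and n ≥ 13, let D be a decomposition of F^n into t ≥ 2 independent subspaces of equal dimension m spanning F^n, where m = 1 and q ≤ 4, or m = 2 and q = 2. Then the elements of SL_n(F) permuting the members of D form a subgroup that is not maximal: some subgroup lies strictly between it and SL_n(F). -/
theorem result {F : Type*} [Field F] [Fintype F] (n : ℕ) (hn : 13 ≤ n) {t : ℕ} (m : ℕ) (D : Fin t → Submodule F (Fin n → F)) (hD : Cfsg.Geo.IsMDecomposition m D) (h : (m = 1 ∧ Fintype.card F ≤ 4) ∨ (m = 2 ∧ Fintype.card F = 2)) : ∃ K : Subgroup (Matrix.GeneralLinearGroup (Fin n) F), Cfsg.Geo.decompositionStabilizer D ⊓ Cfsg.Geo.specialLinear (Fin n) F < K ∧ K < Cfsg.Geo.specialLinear (Fin n) F := by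
  classical
  have hcard : t * m = n := by simpa using Cfsg.Agent.NotMax.mul_card_eq' hD
  have hpow : ∀ x : F, x ≠ 0 → x ^ (Fintype.card F - 1) = 1 := FiniteField.pow_card_sub_one_eq_one
  have hone : 1 < Fintype.card F := Fintype.one_lt_card
  have hc := FiniteField.cast_card_eq_zero F
  rcases h with ⟨rfl, hq⟩ | ⟨rfl, hq⟩
  · have h6 : (6 : F) = 0 := by
      rcases (by omega : Fintype.card F = 2 ∨ Fintype.card F = 3 ∨ Fintype.card F = 4) with e | e | e <;>
        rw [e] at hc <;> push_cast at hc
      · linear_combination 3 * hc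
      · linear_combination 2 * hc
      · linear_combination 3 * (mul_self_eq_zero.1 (show (2 : F) * 2 = 0 by linear_combination hc))
    refine Cfsg.Agent.NotMax.linear_not_max hD (by omega) h6
      (fun w => w 0 ^ (Fintype.card F - 1)) (by simp; omega) (fun w hw => hpow _ fun e => hw (funext fun i => by
        rw [Fin.eq_zero i]; exact e)) fun x => ?_
    rcases (by omega : Fintype.card F = 2 ∨ Fintype.card F = 3 ∨ Fintype.card F = 4) with e | e | e <;>
      rw [e] at hc ⊢ <;> push_cast at hc <;> simp only [Fin.sum_univ_four, Pi.add_apply, Nat.reduceSub]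
    · linear_combination (2 * (x 0 0 + x 1 0 + x 2 0 + x 3 0)) * hc
    · linear_combination (2 * (x 0 0 + x 1 0 + x 2 0 + x 3 0) ^ 2) * hc
    · have h2 : (2 : F) = 0 := mul_self_eq_zero.1 (show (2 : F) * 2 = 0 by linear_combination hc)
      set a := x 0 0
      set b := x 1 0
      set c := x 2 0
      set d := x 3 0
      linear_combination (5 * (a + b + c + d) ^ 3
        - 3 * (a + b + c + d) * (a * b + a * c + a * d + b * c + b * d + c * d)) * h2
  · rw [hq] at hc; push_cast at hc
    refine Cfsg.Agent.NotMax.linear_not_max hD (by omega) (by linear_combination 3 * hc)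
      (fun w => w 0 ^ 2 + w 0 * w 1 + w 1 ^ 2) (by simp) (fun w hw => ?_) fun x => ?_
    · have h01 : ∀ z : F, z = 0 ∨ z = 1 := fun z => by
        by_cases hz : z = 0
        · exact Or.inl hz
        · have := hpow z hz
          rw [hq] at this; exact Or.inr (by simpa using this)
      rcases h01 (w 0) with e0 | e0 <;> rcases h01 (w 1) with e1 | e1 <;> rw [e0, e1]
      · exact absurd (funext fun i => by fin_cases i <;> simp [e0, e1]) hw
      · ring
      · ring
      · linear_combination hc
    · simp only [Fin.sum_univ_four, Pi.add_apply]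
      linear_combination (3 * (x 0 0 + x 1 0 + x 2 0 + x 3 0) ^ 2
        + 3 * (x 0 0 + x 1 0 + x 2 0 + x 3 0) * (x 0 1 + x 1 1 + x 2 1 + x 3 1)
        + 3 * (x 0 1 + x 1 1 + x 2 1 + x 3 1) ^ 2) * hc

end Cfsg.Agent.S5635
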