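import Cfsg.Statements.S5643
import Cfsg.Agent.ClassicalMax.Generic
import Cfsg.Agent.Classical.HermForm
import Cfsg.Agent.Classical.UnitaryTrans

set_option autoImplicit false
open Cfsg

namespace Cfsg.Agent.S5643

open Cfsg.Agent.Classical Cfsg.Agent.ClassicalMax Module

section

variable {F V : Type*} [Field F] [AddCommGroup V] [Module F V] {σ : F →+* F}

/-- the vectors orthogonal to all those listed -/
noncomputable def perp (B : V →ₛₗ[σ] V →ₗ[F] F) : List V → Submodule F V
  | [] => ⊤
  | a :: l => perp B l ⊓ LinearMap.ker (B a)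

variable {B : V →ₛₗ[σ] V →ₗ[F] F}

lemma mem_perp {x : V} : ∀ {l : List V}, x ∈ perp B l ↔ ∀ a ∈ l, B a x = 0
  | [] => by simp [perp]
  | a :: l => by simp [perp, mem_perp (l := l), and_comm]

lemma finrank_ker_inf [FiniteDimensional F V] (W : Submodule F V) (f : V →ₗ[F] F) :
    finrank F W ≤ finrank F ↥(W ⊓ LinearMap.ker f) + 1 := by
  have h1 := (f.comp W.subtype).finrank_range_add_finrank_ker
  have h2 : finrank F (LinearMap.range (f.comp W.subtype)) ≤ 1 :=
    (Submodule.finrank_le _).trans (le_of_eq (Module.finrank_self F))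
  have h3 : finrank F (LinearMap.ker (f.comp W.subtype)) = finrank F ↥(W ⊓ LinearMap.ker f) := by
    rw [LinearMap.ker_comp, ← Submodule.finrank_map_subtype_eq W, Submodule.map_comap_subtype]
  omega

lemma finrank_perp [FiniteDimensional F V] : ∀ l : List V, finrank F V ≤ finrank F (perp B l) + l.length
  | [] => by
    show _ ≤ finrank F ↥(⊤ : Submodule F V) + _
    rw [finrank_top]; exact Nat.le_add_right _ _
  | a :: l => by
    have h1 := finrank_perp l
    have h2 := finrank_ker_inf (perp B l) (B a)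
    show _ ≤ finrank F ↥(perp B l ⊓ LinearMap.ker (B a)) + (l.length + 1)
    generalize finrank F ↥(perp B l ⊓ LinearMap.ker (B a)) = k at h2 ⊢
    omega

variable [Finite F] [FiniteDimensional F V] (hB : Herm.IsHerm B)
include hB

lemma exists_aniso (W : Submodule F V) (hW : finrank F V < 2 * finrank F W) : ∃ w ∈ W, B w w ≠ 0 := by
  refine Herm.exists_anisotropic hB W ?_
  by_contra! hc
  let b := Module.finBasis F W
  let T : V →ₗ[F] (Fin (finrank F W) → F) := LinearMap.pi fun i => B (b i : V)
  have hker : W ≤ LinearMap.ker T := fun w hw => by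
    rw [LinearMap.mem_ker]; ext i; exact hc _ (b i).2 w hw
  have hsurj : LinearMap.range T = ⊤ := by
    by_contra hne
    obtain ⟨φ, hφ, hle⟩ := (LinearMap.range T).exists_le_ker_of_lt_top (lt_top_iff_ne_top.2 hne)
    refine hφ (LinearMap.ext fun c => ?_)
    have key : ∀ x, φ (T x) = 0 := fun x => LinearMap.mem_ker.1 (hle ⟨x, rfl⟩)
    have hz : ∑ i, σ (φ (Pi.single i 1)) • (b i : V) = 0 := hB.nondeg _ fun y => by
      have := key y
      rw [pi_eq_sum_univ' (T y), map_sum] at this
      simp only [map_smul, smul_eq_mul] at this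
      simp only [map_sum, map_smulₛₗ, LinearMap.sum_apply, LinearMap.smul_apply, smul_eq_mul, hB.invol]
      rw [← this]
      exact Finset.sum_congr rfl fun i _ => mul_comm _ _
    have hli := Fintype.linearIndependent_iff.1 (b.linearIndependent.map' W.subtype W.ker_subtype) _ hz
    rw [pi_eq_sum_univ' c, map_sum, LinearMap.zero_apply]
    refine Finset.sum_eq_zero fun i _ => ?_
    rw [map_smul, show φ (Pi.single i 1) = 0 from (map_eq_zero σ).1 (hli i), smul_zero]
  have h1 := T.finrank_range_add_finrank_ker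
  have h2 := Submodule.finrank_mono hker
  rw [hsurj, finrank_top, Module.finrank_fin_fun] at h1
  omega

lemma exists_value (l : List V) (hl : 2 * l.length < finrank F V) (c : F) (hc : σ c = c) :
    ∃ w ∈ perp B l, B w w = c := by
  obtain ⟨a, ha, hQa⟩ := exists_aniso hB (perp B l) (by have := finrank_perp (B := B) l; omega)
  obtain ⟨t, ht⟩ := Herm.exists_norm hB.toIsInvol (a := c / B a a) (by rw [map_div₀, hc, Herm.fix_self hB])
  exact ⟨t • a, Submodule.smul_mem _ _ ha, by rw [Herm.smul_self hB, ht, div_mul_cancel₀ _ hQa]⟩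

lemma exists_singular (l : List V) (hl : 2 * l.length + 2 < finrank F V) : ∃ w ∈ perp B l, B w w = 0 ∧ w ≠ 0 := by
  obtain ⟨a, ha, hQa⟩ := exists_aniso hB (perp B l) (by have := finrank_perp (B := B) l; omega)
  obtain ⟨b, hb, hQb⟩ := exists_value hB (a :: l) (by simp only [List.length_cons]; omega) (-B a a)
    (by rw [map_neg, Herm.fix_self hB])
  have hab : B a b = 0 := hb.2
  have hba : B b a = 0 := (Herm.eq_zero_comm hB).1 hab
  refine ⟨a + b, Submodule.add_mem _ ha hb.1, ?_, fun h => hQa ?_⟩
  · simp only [map_add, LinearMap.add_apply, hab, hba, hQb]; ring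
  · have := congrArg (B a) h
    rwa [map_add, hab, add_zero, map_zero] at this

lemma exists_perp {S : Submodule F V} {x : V} (hx : x ∉ S) : ∃ w, (∀ s ∈ S, B s w = 0) ∧ B x w = 1 := by
  obtain ⟨φ, hφ, hS⟩ := exists_dual_one S hx
  obtain ⟨w, hw⟩ := Herm.exists_repr hB φ
  exact ⟨w, fun s hs => (Herm.eq_zero_comm hB).1 (by rw [hw, hS s hs]), by rw [← hB.symm, hw, hφ, map_one]⟩

lemma exists_singular_pairing (l : List V) (hl : 2 * l.length + 4 < finrank F V) {a : V}
    (ha : a ∉ Submodule.span F {x | x ∈ l}) (c : F) : ∃ u ∈ perp B l, B u u = 0 ∧ B a u = c := by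
  obtain ⟨k, hk, hk'⟩ := exists_perp hB ha
  have hk1 : c • k ∈ perp B l := Submodule.smul_mem _ _ (mem_perp.2 fun s hs => hk s (Submodule.subset_span hs))
  obtain ⟨y, hy, hQy⟩ := exists_value hB (a :: c • k :: l) (by simp only [List.length_cons]; omega) (-B (c • k) (c • k))
    (by rw [map_neg, Herm.fix_self hB])
  refine ⟨c • k + y, Submodule.add_mem _ hk1 hy.1.1, ?_, ?_⟩
  · have e1 : B (c • k) y = 0 := hy.1.2
    simp only [map_add, LinearMap.add_apply, e1, (Herm.eq_zero_comm hB).1 e1, hQy]
    ring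
  · rw [map_add, show B a y = 0 from hy.2, map_smul, hk', smul_eq_mul, mul_one, add_zero]

lemma not_le_span (l : List V) (hl : 2 * l.length < finrank F V) :
    ∃ e ∈ perp B l, e ∉ Submodule.span F {x | x ∈ l} := by
  classical
  refine SetLike.not_le_iff_exists.1 fun hle => ?_
  have h1 := Submodule.finrank_mono hle
  have h2 := finrank_perp (B := B) l
  have h3 : finrank F (Submodule.span F {x | x ∈ l}) ≤ l.length := by
    rw [show {x : V | x ∈ l} = (l.toFinset : Set V) by ext; simp]
    exact (finrank_span_finset_le_card _).trans l.toFinset_card_le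
  omega

lemma det_norm {g : V ≃ₗ[F] V} (hg : ∀ x y, B (g x) (g y) = B x y) :
    LinearMap.det g.toLinearMap * σ (LinearMap.det g.toLinearMap) = 1 := by
  classical
  obtain ⟨b, hb⟩ := Herm.exists_orthonormal hB
  set A := LinearMap.toMatrix b b g.toLinearMap
  have hA : (A.map σ).transpose * A = 1 := by
    ext i j
    have h1 := hg (b i) (b j)
    rw [hb i j, ← b.sum_repr (g (b i)), ← b.sum_repr (g (b j))] at h1
    simp only [map_sum, map_smulₛₗ, LinearMap.sum_apply, LinearMap.smul_apply, smul_eq_mul, map_smul, hb _ _,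
      Finset.mul_sum, mul_ite, mul_one, mul_zero, Finset.sum_ite_eq', Finset.mem_univ, if_true] at h1
    rw [Matrix.mul_apply, Matrix.one_apply, ← h1]
    refine Finset.sum_congr rfl fun k _ => ?_
    simp only [A, Matrix.transpose_apply, Matrix.map_apply, LinearMap.toMatrix_apply, LinearEquiv.coe_coe, RingHom.id_apply]
    ring
  have := congrArg Matrix.det hA
  rw [Matrix.det_mul, Matrix.det_transpose, Matrix.det_one, show (A.map σ).det = σ A.det from (RingHom.map_det σ A).symm,
    LinearMap.det_toMatrix] at this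
  rw [mul_comm]; exact this

/-- a pseudo-reflection with a given eigenvalue of norm one -/
lemma exists_preflection {a : V} (ha : B a a ≠ 0) {δ : F} (hδ : δ * σ δ = 1) :
    ∃ r : V ≃ₗ[F] V, (∀ x y, B (r x) (r y) = B x y) ∧ LinearMap.det r.toLinearMap = δ ∧
      ∀ x, r x = x + ((δ - 1) * (B a x / B a a)) • a := by
  have hδ0 : δ ≠ 0 := fun h => by simp [h] at hδ
  let φ : Dual F V := ((δ - 1) / B a a) • B a
  have hfa : φ a = δ - 1 := by simp [φ, div_mul_cancel₀ _ ha]
  let L := LinearMap.transvection φ a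
  have hdet : LinearMap.det L = δ := by rw [LinearMap.transvection.det, hfa]; ring
  have hunit : IsUnit (LinearMap.det L) := by rw [hdet]; exact isUnit_iff_ne_zero.2 hδ0
  refine ⟨LinearMap.equivOfIsUnitDet hunit, fun x y => ?_, ?_, fun x => ?_⟩
  rotate_left
  · rw [LinearMap.coe_equivOfIsUnitDet]; exact hdet
  · rw [LinearMap.equivOfIsUnitDet_apply]
    show L x = _
    rw [LinearMap.transvection.apply]
    simp only [φ, LinearMap.smul_apply, smul_eq_mul]
    congr 2
    ring
  rw [LinearMap.equivOfIsUnitDet_apply, LinearMap.equivOfIsUnitDet_apply]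
  simp only [L, φ, LinearMap.transvection.apply, map_add, map_smulₛₗ, LinearMap.add_apply, LinearMap.smul_apply, smul_eq_mul,
    map_mul, map_div₀, map_sub, map_one, RingHom.id_apply, hB.symm, Herm.fix_self hB]
  field_simp
  linear_combination (B x a * B a y) * hδ

variable (M : Subgroup (V ≃ₗ[F] V))
  (hM : ∀ g : V ≃ₗ[F] V, (∀ x y, B (g x) (g y) = B x y) → LinearMap.det g.toLinearMap = 1 → g ∈ M)
include hM

lemma irreducible (hdim : 13 ≤ finrank F V) (U : Submodule F V) (hU : ∀ h ∈ M, ∀ u ∈ U, h u ∈ U) : U = ⊥ ∨ U = ⊤ := by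
  rcases eq_or_ne U ⊥ with h | h
  · exact Or.inl h
  refine Or.inr ?_
  obtain ⟨u, hu, hu0⟩ := U.exists_mem_ne_zero_of_ne_bot h
  obtain ⟨δ, hδ1, hδ⟩ := Herm.exists_norm_one_ne_one hB
  have aniso : ∀ a, B a a ≠ 0 → B a u ≠ 0 → a ∈ U := by
    intro a ha hua
    obtain ⟨b, hb, hQb⟩ := exists_aniso hB (perp B [u, a]) (by
      have := finrank_perp (B := B) [u, a]; simp only [List.length_cons, List.length_nil] at this; omega)
    have hbu : B b u = 0 := (Herm.eq_zero_comm hB).1 (mem_perp.1 hb u (by simp))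
    have hδ' : σ δ * σ (σ δ) = 1 := by rw [hB.invol, mul_comm]; exact hδ
    obtain ⟨r, hr, hrd, hrx⟩ := exists_preflection hB ha hδ
    obtain ⟨r', hr', hrd', hrx'⟩ := exists_preflection hB hQb hδ'
    have hm : r * r' ∈ M := hM _ (fun x y => by rw [LinearEquiv.mul_apply, LinearEquiv.mul_apply, hr, hr']) (by
      rw [show (r * r').toLinearMap = r.toLinearMap ∘ₗ r'.toLinearMap from rfl, LinearMap.det_comp, hrd, hrd', hδ])
    have := hU _ hm u hu
    rw [LinearEquiv.mul_apply, hrx', hbu, zero_div, mul_zero, zero_smul, add_zero, hrx, U.add_mem_iff_right hu] at this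
    exact (U.smul_mem_iff (mul_ne_zero (sub_ne_zero.2 hδ1) (div_ne_zero hua ha))).1 this
  have hpair : ∀ x, B x u ≠ 0 → x ∈ U := by
    intro x hx
    by_cases hQx : B x x = 0
    swap
    · exact aniso x hQx hx
    obtain ⟨y, hy, hQy⟩ := exists_aniso hB (perp B [u, x]) (by
      have := finrank_perp (B := B) [u, x]; simp only [List.length_cons, List.length_nil] at this; omega)
    have h1 : B y u = 0 := (Herm.eq_zero_comm hB).1 (mem_perp.1 hy u (by simp))
    have h2 : B x y = 0 := mem_perp.1 hy x (by simp)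
    have h2' : B y x = 0 := (Herm.eq_zero_comm hB).1 h2
    have e : ∀ c, c * σ c = 1 → x + c • y ∈ U := fun c hc => by
      refine aniso _ ?_ (by simpa [h1] using hx)
      simp only [map_add, map_smulₛₗ, LinearMap.add_apply, LinearMap.smul_apply, smul_eq_mul, RingHom.id_apply, hQx, h2, h2', mul_zero, add_zero, zero_add]
      rwa [← mul_assoc, hc, one_mul]
    have m1 := e 1 (by simp)
    have m2 := e δ hδ
    have hy' : y ∈ U := by
      have := U.sub_mem m2 m1
      rw [show x + δ • y - (x + (1 : F) • y) = (δ - 1) • y by rw [sub_smul]; abel] at this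
      exact (U.smul_mem_iff (sub_ne_zero.2 hδ1)).1 this
    simpa using U.sub_mem m1 (by simpa using hy' : (1 : F) • y ∈ U)
  obtain ⟨x0, hx0⟩ : ∃ x0, B x0 u ≠ 0 := by
    by_contra! hc; exact hu0 (hB.nondeg u fun y => (Herm.eq_zero_comm hB).1 (hc y))
  refine eq_top_iff.2 fun x _ => ?_
  by_cases hx : B x u = 0
  · have := U.sub_mem (hpair (x + x0) (by rwa [map_add, LinearMap.add_apply, hx, zero_add])) (hpair x0 hx0)
    rwa [add_sub_cancel_right] at this
  · exact hpair x hx

/-- conjugates of one transvection fill a centre -/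
lemma full_centre (hdim : 13 ≤ finrank F V) {v w : V} (hv : v ≠ 0) (hvw : B w v = 0)
    (hw : w ∉ Submodule.span F {v}) (hmem : tvec (B w) v ∈ M) : ∀ φ : Dual F V, φ v = 0 → tvec φ v ∈ M := by
  have horbit : ∀ w', w' ∉ Submodule.span F {v} → B w' v = 0 → B w' w' = B w w → tvec (B w') v ∈ M := by
    intro w' hw' hv' hq
    have hli : ∀ z, z ∉ Submodule.span F {v} → LinearIndependent F ![v, z] := fun z hz =>
      (LinearIndependent.pair_iff' hv).2 fun c h => hz (h ▸ Submodule.smul_mem _ c (Submodule.mem_span_singleton_self v))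
    obtain ⟨g, hg, hgi⟩ := Herm.witt_family hB _ ![v, w] ![v, w'] rfl (hli w hw) (hli w' hw')
      (fun i j => by
        fin_cases i <;> fin_cases j <;>
          simp [hvw, hv', hq, (Herm.eq_zero_comm hB).1 hvw, (Herm.eq_zero_comm hB).1 hv'])
    obtain ⟨b, hb, hQb⟩ := exists_aniso hB (perp B [v, w]) (by
      have := finrank_perp (B := B) [v, w]; simp only [List.length_cons, List.length_nil] at this; omega)
    obtain ⟨r, hr, hrd, hrx⟩ := exists_preflection hB hQb (δ := σ (LinearMap.det g.toLinearMap))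
      (by rw [hB.invol, mul_comm]; exact det_norm hB hg)
    have fixr : ∀ z, B z b = 0 → r z = z := fun z hz => by
      rw [hrx, (Herm.eq_zero_comm hB).1 hz, zero_div, mul_zero, zero_smul, add_zero]
    set k := g * r
    have hk : ∀ x y, B (k x) (k y) = B x y := fun x y => by rw [LinearEquiv.mul_apply, LinearEquiv.mul_apply, hg, hr]
    have hkd : LinearMap.det k.toLinearMap = 1 := by
      rw [show k.toLinearMap = g.toLinearMap ∘ₗ r.toLinearMap from rfl, LinearMap.det_comp, hrd]
      exact det_norm hB hg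
    have hkv : k v = v := by rw [LinearEquiv.mul_apply, fixr v (mem_perp.1 hb v (by simp))]; exact hgi 0
    have hkw : k w = w' := by rw [LinearEquiv.mul_apply, fixr w (mem_perp.1 hb w (by simp))]; exact hgi 1
    have hkM := hM k hk hkd
    have := mul_mem (mul_mem hkM hmem) (inv_mem hkM)
    rw [conj_tvec k hvw, hkv] at this
    convert this using 2
    refine LinearMap.ext fun x => ?_
    show B w' x = B w (k⁻¹ x)
    rw [← hkw, ← hk w (k⁻¹ x), apply_inv]
  have hsub : ∀ a b, B a v = 0 → B b v = 0 → tvec (B a) v ∈ M → tvec (B b) v ∈ M →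
      tvec (B (a - b)) v ∈ M := fun a b ha hb ma mb => by
    have := mul_mem ma (inv_mem mb)
    rwa [tvec_inv hb, tvec_mul_left ha (by rw [LinearMap.neg_apply, hb, neg_zero]), ← map_neg, ← map_add, ← sub_eq_add_neg] at this
  have hoff : ∀ z, B z v = 0 → z ∉ Submodule.span F {v} → tvec (B z) v ∈ M := by
    intro z hzv hzs
    obtain ⟨e, he, hes⟩ := not_le_span hB [v, z] (by simp only [List.length_cons, List.length_nil]; omega)
    have hze : z ∉ Submodule.span F {x | x ∈ [v, e]} := fun h => by
      have : {x : V | x ∈ [v, e]} = {v, e} := by ext; simp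
      rw [this, Submodule.mem_span_pair] at h
      obtain ⟨α, β, h⟩ := h
      rcases eq_or_ne β 0 with rfl | hβ
      · exact hzs (Submodule.mem_span_singleton.2 ⟨α, by simpa using h⟩)
      · refine hes ?_
        have he : e = β⁻¹ • (z - α • v) := by rw [← h, add_sub_cancel_left, smul_smul, inv_mul_cancel₀ hβ, one_smul]
        rw [he]
        exact Submodule.smul_mem _ _ (Submodule.sub_mem _ (Submodule.subset_span (by simp))
          (Submodule.smul_mem _ _ (Submodule.subset_span (by simp))))
    obtain ⟨a1, ha1, ha1'⟩ := exists_perp hB hes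
    obtain ⟨a2, ha2, ha2'⟩ := exists_perp hB hze
    obtain ⟨c, hc⟩ := Herm.exists_trace hB.toIsInvol (a := -B z z) (by rw [map_neg, Herm.fix_self hB])
    set a := a1 + c • a2 with ha
    have hav : B v a = 0 := by
      rw [ha, map_add, map_smul, ha1 v (Submodule.subset_span (by simp)), ha2 v (Submodule.subset_span (by simp)), smul_zero, add_zero]
    have hae : B e a = 1 := by
      rw [ha, map_add, map_smul, ha1', ha2 e (Submodule.subset_span (by simp)), smul_zero, add_zero]
    have haz : B z a = c := by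
      rw [ha, map_add, map_smul, ha1 z (Submodule.subset_span (by simp)), ha2', smul_eq_mul, mul_one, zero_add]
    have haz' : B a z = σ c := by rw [← hB.symm, haz]
    obtain ⟨y, hy, hQy⟩ := exists_value hB [v, z, e, a] (by simp only [List.length_cons, List.length_nil]; omega) (B w w - B a a)
      (by rw [map_sub, Herm.fix_self hB, Herm.fix_self hB])
    have hyv : B v y = 0 := mem_perp.1 hy v (by simp)
    have hyz : B z y = 0 := mem_perp.1 hy z (by simp)
    have hye : B e y = 0 := mem_perp.1 hy e (by simp)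
    have hya : B a y = 0 := mem_perp.1 hy a (by simp)
    have hev : B e v = 0 := (Herm.eq_zero_comm hB).1 (mem_perp.1 he v (by simp))
    have hez : B e z = 0 := (Herm.eq_zero_comm hB).1 (mem_perp.1 he z (by simp))
    have notspan : ∀ t, B e t = 1 → t ∉ Submodule.span F {v} := fun t ht h => by
      obtain ⟨c, rfl⟩ := Submodule.mem_span_singleton.1 h
      rw [map_smul, hev, smul_zero] at ht
      exact zero_ne_one ht
    have hyz' : B y z = 0 := (Herm.eq_zero_comm hB).1 hyz
    have hya' : B y a = 0 := (Herm.eq_zero_comm hB).1 hya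
    have p1 : B (a + y) v = 0 := (Herm.eq_zero_comm hB).1 (by rw [map_add, hav, hyv, add_zero])
    have q1 : B (a + y) (a + y) = B w w := by
      simp only [map_add, LinearMap.add_apply, hQy, hya, hya']; ring
    have p2 : B (a + y + z) v = 0 := by rw [map_add, LinearMap.add_apply, p1, hzv, add_zero]
    have q2 : B (a + y + z) (a + y + z) = B w w := by
      simp only [map_add, LinearMap.add_apply, hQy, hya, hya', haz, haz', hyz, hyz']
      linear_combination hc
    have m1 := horbit (a + y) (notspan _ (by rw [map_add, hae, hye, add_zero])) p1 q1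
    have m2 := horbit (a + y + z) (notspan _ (by rw [map_add, map_add, hae, hye, hez, add_zero, add_zero])) p2 q2
    have := hsub _ _ p2 p1 m2 m1
    rwa [add_sub_cancel_left] at this
  have hall : ∀ z, B z v = 0 → tvec (B z) v ∈ M := by
    intro z hz
    by_cases hzs : z ∈ Submodule.span F {v}
    · have h1 : B (z + w) v = 0 := by rw [map_add, LinearMap.add_apply, hz, hvw, add_zero]
      have := hsub _ _ h1 hvw (hoff (z + w) h1 fun h => hw (by simpa using Submodule.sub_mem _ h hzs)) hmem
      rwa [add_sub_cancel_right] at this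
    · exact hoff z hz hzs
  intro φ hφ
  obtain ⟨z, hz⟩ := Herm.exists_repr hB φ
  obtain rfl : B z = φ := LinearMap.ext hz
  exact hall z hφ

/-- a subgroup containing the special unitary group and a non-similarity has all transvections -/
theorem all_transvections (hdim : 13 ≤ finrank F V) {g : V ≃ₗ[F] V} (hgM : g ∈ M)
    (hg : ¬ ∃ c : F, ∀ x y, B (g x) (g y) = c * B x y) :
    ∀ (φ : Dual F V) (x : V), φ x = 0 → tvec φ x ∈ M := by
  by_cases hex : ∃ v w, v ≠ 0 ∧ B w v = 0 ∧ w ∉ Submodule.span F {v} ∧ tvec (B w) v ∈ M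
  · obtain ⟨v, w, hv, hvw, hw, hmem⟩ := hex
    exact all_of_one M (irreducible hB M hM hdim) hv (full_centre hB M hM hdim hv hvw hw hmem)
  exfalso
  obtain ⟨k, hk0, hk⟩ := Herm.exists_skew hB.toIsInvol
  -- the pulled back form is proportional to `B` in every isotropic row
  have hrow : ∀ u, u ≠ 0 → B u u = 0 → ∃ μ : F, ∀ y, B (g u) (g y) = μ * B u y := by
    intro u hu hQ
    have h0 : (k • B u) u = 0 := by simp [hQ]
    have ht : tvec (k • B u) u ∈ M := by
      have e : tvec (k • B u) u = Herm.tvU hQ k := LinearEquiv.ext fun x => by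
        rw [tvec_apply h0, Herm.tvU_apply]; rfl
      rw [e]
      have := Herm.tvU_mem hB hQ (show k + σ k = 0 by rw [hk]; ring)
      exact hM _ this.1 (by simpa [Units.ext_iff] using this.2)
    have hm := mul_mem (mul_mem hgM ht) (inv_mem hgM)
    rw [conj_tvec g h0] at hm
    obtain ⟨w, hw⟩ := Herm.exists_repr hB ((k • B u).comp (g⁻¹ : V ≃ₗ[F] V).toLinearMap)
    have hw0 : B w (g u) = 0 := by
      rw [hw]
      show (k • B u) (g⁻¹ (g u)) = 0
      rw [inv_apply]; exact h0
    have hgu : g u ≠ 0 := fun h => hu (g.injective (h.trans g.map_zero.symm))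
    obtain ⟨c, rfl⟩ : ∃ c, c • g u = w := Submodule.mem_span_singleton.1 (by
      by_contra hne
      refine hex ⟨g u, w, hgu, hw0, hne, ?_⟩
      convert hm using 2
      exact LinearMap.ext hw)
    have hy : ∀ y, σ c * B (g u) (g y) = k * B u y := fun y => by
      have := hw (g y)
      simpa [inv_apply] using this
    have hc : c ≠ 0 := fun h => hu (hB.nondeg u fun y => by
      have := hy y
      rw [h, map_zero, zero_mul, eq_comm, mul_eq_zero] at this
      exact this.resolve_left hk0)
    refine ⟨k / σ c, fun y => ?_⟩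
    rw [div_mul_eq_mul_div, eq_div_iff ((map_ne_zero σ).2 hc), ← hy y, mul_comm]
  apply hg
  have step : ∀ u u', u ≠ 0 → u' ≠ 0 → B u u = 0 → B u' u' = 0 → B u u' = 0 → u' ∉ Submodule.span F {u} →
      ∀ μ μ' : F, (∀ y, B (g u) (g y) = μ * B u y) → (∀ y, B (g u') (g y) = μ' * B u' y) → μ = μ' := by
    intro u u' hu hu' hQ hQ' hp hs μ μ' hμ hμ'
    obtain ⟨ν, hν⟩ := hrow (u + u') (fun e => hs (by rw [eq_neg_of_add_eq_zero_right e]; exact Submodule.neg_mem _ (Submodule.mem_span_singleton_self u)))
      (by simp [hQ, hQ', hp, (Herm.eq_zero_comm hB).1 hp])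
    have h0 : σ (ν - μ) • u + σ (ν - μ') • u' = 0 := hB.nondeg _ fun y => by
      have e := hν y
      simp only [map_add, LinearMap.add_apply, hμ, hμ'] at e
      simp only [map_add, map_smulₛₗ, LinearMap.add_apply, LinearMap.smul_apply, smul_eq_mul, hB.invol]
      linear_combination -e
    by_cases hνμ : σ (ν - μ') = 0
    · rw [hνμ, zero_smul, add_zero, smul_eq_zero, map_eq_zero, sub_eq_zero] at h0
      exact (h0.resolve_right hu).symm.trans (sub_eq_zero.1 ((map_eq_zero σ).1 hνμ))
    · refine absurd (Submodule.mem_span_singleton.2 ⟨-(σ (ν - μ')) ⁻¹ * σ (ν - μ), ?_⟩) hs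
      rw [neg_mul, neg_smul, mul_smul, eq_neg_of_add_eq_zero_left h0, smul_neg, neg_neg, smul_smul, inv_mul_cancel₀ hνμ, one_smul]
  obtain ⟨u0, -, hQ0, hu0⟩ := exists_singular hB [] (by simp only [List.length_nil]; omega)
  obtain ⟨μ, hμ⟩ := hrow u0 hu0 hQ0
  have hsing : ∀ u, B u u = 0 → ∀ y, B (g u) (g y) = μ * B u y := by
    intro u hQ y
    rcases eq_or_ne u 0 with rfl | hu
    · simp
    obtain ⟨μu, hμu⟩ := hrow u hu hQ
    by_cases hdep : u ∈ Submodule.span F {u0}
    · obtain ⟨c, rfl⟩ := Submodule.mem_span_singleton.1 hdep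
      rw [map_smul g, map_smulₛₗ, map_smulₛₗ, LinearMap.smul_apply, LinearMap.smul_apply, hμ, smul_eq_mul, smul_eq_mul]; ring
    obtain ⟨e, he, hes⟩ := not_le_span hB [u0, u] (by simp only [List.length_cons, List.length_nil]; omega)
    obtain ⟨z, hz, hQz, hez⟩ := exists_singular_pairing hB [u0, u] (by simp only [List.length_cons, List.length_nil]; omega) hes 1
    have hzs : z ∉ Submodule.span F {x : V | x ∈ [u0, u]} := fun hm => by
      have hle : Submodule.span F {x : V | x ∈ [u0, u]} ≤ LinearMap.ker (B e) :=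
        Submodule.span_le.2 fun x hx => (Herm.eq_zero_comm hB).1 (mem_perp.1 he x hx)
      exact one_ne_zero (hez.symm.trans (hle hm))
    have hz0 : z ≠ 0 := fun e0 => hzs (e0 ▸ Submodule.zero_mem _)
    obtain ⟨μz, hμz⟩ := hrow _ hz0 hQz
    have e1 := step u0 z hu0 hz0 hQ0 hQz (mem_perp.1 hz u0 (by simp)) (fun hm => hzs (Submodule.span_mono (by simp) hm)) μ μz hμ hμz
    have e2 := step u z hu hz0 hQ hQz (mem_perp.1 hz u (by simp)) (fun hm => hzs (Submodule.span_mono (by simp) hm)) μu μz hμu hμz
    rw [hμu, e2, ← e1]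
  refine ⟨μ, fun x y => ?_⟩
  rcases eq_or_ne x 0 with rfl | hx
  · simp
  have hxs : x ∉ Submodule.span F {z : V | z ∈ ([] : List V)} := by simpa using hx
  obtain ⟨c, hc⟩ := Herm.exists_trace hB.toIsInvol (a := -B x x) (by rw [map_neg, Herm.fix_self hB])
  obtain ⟨s, -, hQs, hxs'⟩ := exists_singular_pairing hB [] (by simp only [List.length_nil]; omega) hxs c
  have hsx : B s x = σ c := by rw [← hB.symm, hxs']
  have h1 : B (x + s) (x + s) = 0 := by
    simp only [map_add, LinearMap.add_apply, hQs, hxs', hsx]; linear_combination hc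
  have := hsing _ h1 y
  simp only [map_add, LinearMap.add_apply, hsing s hQs y] at this
  linear_combination this

end

/-- For a finite field F and n ≥ 13, let σ be a field automorphism of F of order two and f a non-degenerate unitary form on F^n with respect to σ. Then the elements of SL_n(F) that are similarities of f form a maximal subgroup of SL_n(F). -/
theorem result {F : Type*} [Field F] [Fintype F] (n : ℕ) (hn : 13 ≤ n) (σ : F ≃+* F) (f : (Fin n → F) → (Fin n → F) → F) (hf : Cfsg.Geo.IsUnitaryForm σ f) : Cfsg.Geo.IsMaximalIn (Cfsg.Geo.specialLinear (Fin n) F) (Cfsg.Geo.similarityGroup f ⊓ Cfsg.Geo.specialLinear (Fin n) F) := by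
  classical
  have hinv : Cfsg.Agent.Classical.Herm.IsInvol σ.toRingHom :=
    ⟨fun h => hf.ne_refl (RingEquiv.ext fun a => RingHom.congr_fun h a), hf.involutive⟩
  let B : (Fin n → F) →ₛₗ[σ.toRingHom] (Fin n → F) →ₗ[F] F :=
    LinearMap.mk₂'ₛₗ σ.toRingHom (RingHom.id F) (fun x y => f y x)
      (fun x x' y => by rw [hf.herm, hf.add_left, map_add, ← hf.herm, ← hf.herm])
      (fun c x y => by rw [hf.herm, hf.smul_left, map_mul, ← hf.herm]; rfl)
      (fun x y y' => hf.add_left y y' x)
      (fun c x y => hf.smul_left c y x)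
  have hBf : ∀ x y, B x y = f y x := fun x y => rfl
  have hB : Cfsg.Agent.Classical.Herm.IsHerm B :=
    { toIsInvol := hinv
      symm := fun x y => (hf.herm x y).symm
      nondeg := fun x hx => by_contra fun h => (hf.nondegenerate x h).1.elim fun y hy => hy (hx y) }
  have hdim : 13 ≤ Module.finrank F (Fin n → F) := by rw [Module.finrank_fin_fun]; exact hn
  refine isMaximalIn_specialLinear _ ?_ fun M hK hg => ?_
  · obtain ⟨a, -, hQa⟩ := exists_aniso hB (⊤ : Submodule F (Fin n → F)) (by rw [finrank_top]; omega)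
    obtain ⟨p, hp, hQp, hp0⟩ := exists_singular hB [a] (by simp only [List.length_cons, List.length_nil]; omega)
    have hap : B a p = 0 := hp.2
    refine ⟨B a, p, hap, fun hmem => ?_⟩
    obtain ⟨c, hc⟩ := hmem
    have hps : p ∉ Submodule.span F {x : Fin n → F | x ∈ [a]} := fun h => by
      rw [show {x : Fin n → F | x ∈ [a]} = {a} by ext; simp] at h
      obtain ⟨t, rfl⟩ := Submodule.mem_span_singleton.1 h
      rw [map_smul, smul_eq_mul, mul_eq_zero] at hap
      exact hap.elim (fun h => hp0 (by rw [h, zero_smul])) hQa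
    obtain ⟨z, hz, hz'⟩ := exists_perp hB hps
    have haz : B a z = 0 := hz a (Submodule.subset_span (by simp))
    have h1 := hc z a
    rw [symm_mulVec, symm_mulVec, tvec_apply hap, tvec_apply hap, ← hBf, ← hBf, haz, zero_smul, add_zero, mul_zero,
      map_add, LinearMap.add_apply, map_smulₛₗ, LinearMap.smul_apply, haz, hz', zero_add, smul_eq_mul, mul_one] at h1
    exact hQa ((map_eq_zero σ.toRingHom).1 h1)
  · have hSU : ∀ g : (Fin n → F) ≃ₗ[F] (Fin n → F), (∀ x y, B (g x) (g y) = B x y) → LinearMap.det g.toLinearMap = 1 → g ∈ M := by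
      intro g hg hd
      have := hK ((glEquiv (Fin n) F).symm g) ⟨⟨1, fun x y => by
          rw [symm_mulVec, symm_mulVec, Units.val_one, one_mul]; exact hg y x⟩,
        (mem_specialLinear_iff _).2 (by rw [MulEquiv.apply_symm_apply]; exact hd)⟩
      rwa [MulEquiv.apply_symm_apply] at this
    obtain ⟨g, hgK, hgM⟩ := hg
    refine all_transvections hB M hSU hdim hgM fun ⟨c, hc⟩ => hgK ?_
    have hc0 : c ≠ 0 := fun h => by
      obtain ⟨a, -, hQa⟩ := exists_aniso hB (⊤ : Submodule F (Fin n → F)) (by rw [finrank_top]; omega)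
      obtain ⟨b, rfl⟩ := (glEquiv (Fin n) F g).surjective a
      exact hQa (by rw [hc, h, zero_mul])
    exact ⟨Units.mk0 c hc0, fun u v => hc v u⟩

end Cfsg.Agent.S5643
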