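import Cfsg.Statements.S5644
import Cfsg.Agent.ClassicalMax.Generic
import Cfsg.Agent.Classical.QuadForm
import Cfsg.Agent.Classical.QuadMat

set_option autoImplicit false
open Cfsg

namespace Cfsg.Agent.S5644

open Cfsg.Agent.Classical Cfsg.Agent.ClassicalMax Module QuadraticMap

section

variable {F : Type*} [Field F] {ι : Type} [Fintype ι] [DecidableEq ι] {Q : QuadraticForm F (ι → F)}

/-- the standing hypotheses -/
structure Setup (Q : QuadraticForm F (ι → F)) : Prop where
  two : (2 : F) ≠ 0
  nd : (polarBilin Q).Nondegenerate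
  dim : 13 ≤ finrank F (ι → F)
  val : ∀ a b c : F, a ≠ 0 → b ≠ 0 → ∃ x y : F, a * x ^ 2 + b * y ^ 2 = c

/-- the polar form as a bilinear form -/
noncomputable def pb (Q : QuadraticForm F (ι → F)) : (ι → F) →ₗ[F] (ι → F) →ₗ[F] F := polarBilin Q

lemma pb_apply (x y : (ι → F)) : pb Q x y = polar Q x y := rfl

lemma pb_symm (x y : (ι → F)) : pb Q x y = pb Q y x := polar_comm _ x y

lemma q_add (x y : (ι → F)) : Q (x + y) = Q x + Q y + pb Q x y := Quad.map_add' x y

lemma q_smul (a : F) (x : (ι → F)) : Q (a • x) = a * a * Q x := Quad.map_smul' a x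

lemma pb_self (x : (ι → F)) : pb Q x x = 2 * Q x := Quad.polar_self' x

/-- the vectors orthogonal to all those listed -/
noncomputable def perp (Q : QuadraticForm F (ι → F)) : List (ι → F) → Submodule F (ι → F)
  | [] => ⊤
  | a :: l => perp Q l ⊓ LinearMap.ker (pb Q a)

lemma mem_perp {x : (ι → F)} : ∀ {l : List (ι → F)}, x ∈ perp Q l ↔ ∀ a ∈ l, pb Q a x = 0
  | [] => by simp [perp]
  | a :: l => by simp [perp, mem_perp (l := l), and_comm]

lemma finrank_ker_inf (W : Submodule F (ι → F)) (f : (ι → F) →ₗ[F] F) :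
    finrank F W ≤ finrank F ↥(W ⊓ LinearMap.ker f) + 1 := by
  have h1 := (f.comp W.subtype).finrank_range_add_finrank_ker
  have h2 : finrank F (LinearMap.range (f.comp W.subtype)) ≤ 1 :=
    (Submodule.finrank_le _).trans (le_of_eq (Module.finrank_self F))
  have h3 : finrank F (LinearMap.ker (f.comp W.subtype)) = finrank F ↥(W ⊓ LinearMap.ker f) := by
    rw [LinearMap.ker_comp, ← Submodule.finrank_map_subtype_eq W, Submodule.map_comap_subtype]
  omega

lemma finrank_perp : ∀ l : List (ι → F), finrank F (ι → F) ≤ finrank F (perp Q l) + l.length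
  | [] => by
    show _ ≤ finrank F ↥(⊤ : Submodule F (ι → F)) + _
    rw [finrank_top]; exact Nat.le_add_right _ _
  | a :: l => by
    have h1 := finrank_perp l
    have h2 := finrank_ker_inf (perp Q l) (pb Q a)
    show _ ≤ finrank F ↥(perp Q l ⊓ LinearMap.ker (pb Q a)) + (l.length + 1)
    generalize finrank F ↥(perp Q l ⊓ LinearMap.ker (pb Q a)) = k at h2 ⊢
    omega

variable (hS : Setup Q)
include hS

lemma eq_zero {x : (ι → F)} (h : ∀ y, pb Q x y = 0) : x = 0 := hS.nd.1 x h

lemma exists_aniso (W : Submodule F (ι → F)) (hW : finrank F (ι → F) < 2 * finrank F W) : ∃ w ∈ W, Q w ≠ 0 := by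
  by_contra! h
  have := Quad.two_mul_finrank_le hS.nd h
  omega

lemma exists_value (l : List (ι → F)) (hl : 2 * l.length + 2 < finrank F (ι → F)) (c : F) : ∃ w ∈ perp Q l, Q w = c := by
  obtain ⟨a, ha, hQa⟩ := exists_aniso hS (perp Q l) (by have := finrank_perp (Q := Q) l; omega)
  obtain ⟨b, hb, hQb⟩ := exists_aniso hS (perp Q (a :: l)) (by
    have := finrank_perp (Q := Q) (a :: l); simp only [List.length_cons] at this; omega)
  obtain ⟨x, y, hxy⟩ := hS.val _ _ c hQa hQb
  refine ⟨x • a + y • b, Submodule.add_mem _ (Submodule.smul_mem _ _ ha) (Submodule.smul_mem _ _ hb.1), ?_⟩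
  rw [q_add, q_smul, q_smul, ← hxy]
  simp only [map_smul, LinearMap.smul_apply, show pb Q a b = 0 from hb.2, smul_zero]
  ring

lemma exists_singular (l : List (ι → F)) (hl : 2 * l.length + 2 < finrank F (ι → F)) : ∃ w ∈ perp Q l, Q w = 0 ∧ w ≠ 0 := by
  obtain ⟨a, ha, hQa⟩ := exists_aniso hS (perp Q l) (by have := finrank_perp (Q := Q) l; omega)
  obtain ⟨b, hb, hQb⟩ := exists_aniso hS (perp Q (a :: l)) (by
    have := finrank_perp (Q := Q) (a :: l); simp only [List.length_cons] at this; omega)
  obtain ⟨c, hc, hc0⟩ := (perp Q (b :: a :: l)).exists_mem_ne_zero_of_ne_bot (fun h => by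
    have := finrank_perp (Q := Q) (b :: a :: l)
    rw [h, finrank_bot] at this
    simp only [List.length_cons] at this; omega)
  by_cases hQc : Q c = 0
  · exact ⟨c, hc.1.1, hQc, hc0⟩
  obtain ⟨x, y, hxy⟩ := hS.val _ _ (-Q c) hQa hQb
  have hab : pb Q a b = 0 := hb.2
  have hbc : pb Q b c = 0 := hc.2
  have hac : pb Q a c = 0 := hc.1.2
  refine ⟨x • a + y • b + c, Submodule.add_mem _ (Submodule.add_mem _ (Submodule.smul_mem _ _ ha)
    (Submodule.smul_mem _ _ hb.1)) hc.1.1, ?_, fun h => hQc ?_⟩
  · rw [q_add, q_add, q_smul, q_smul]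
    simp only [map_add, LinearMap.add_apply, map_smul, LinearMap.smul_apply, hab, hbc, hac, smul_eq_mul, mul_zero, add_zero]
    linear_combination hxy
  · have := congrArg (fun u => pb Q u c) h
    simp only [map_add, LinearMap.add_apply, map_smul, LinearMap.smul_apply, hbc, hac, smul_eq_mul, mul_zero, zero_add,
      map_zero, LinearMap.zero_apply, pb_self] at this
    exact (mul_eq_zero.1 this).resolve_left hS.two

/-- a singular vector with a prescribed product with `a`, orthogonal to the vectors of `l` -/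
lemma exists_singular_pairing (l : List (ι → F)) (hl : 2 * l.length + 6 < finrank F (ι → F)) {a : (ι → F)}
    (ha : a ∉ Submodule.span F {x | x ∈ l}) (c : F) : ∃ u ∈ perp Q l, Q u = 0 ∧ pb Q a u = c := by
  obtain ⟨k, hk, hk'⟩ := Quad.exists_perp hS.nd ha
  have hk1 : c • k ∈ perp Q l := Submodule.smul_mem _ _ (mem_perp.2 fun s hs => hk s (Submodule.subset_span hs))
  obtain ⟨y, hy, hQy⟩ := exists_value hS (a :: c • k :: l) (by simp only [List.length_cons]; omega) (-Q (c • k))
  refine ⟨c • k + y, Submodule.add_mem _ hk1 hy.1.1, ?_, ?_⟩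
  · rw [q_add, hQy, show pb Q (c • k) y = 0 from hy.1.2]; ring
  · rw [map_add, show pb Q a y = 0 from hy.2, map_smul, show pb Q a k = 1 from hk', smul_eq_mul, mul_one, add_zero]

lemma det_refl {a : (ι → F)} (ha : Q a ≠ 0) : LinearMap.det (Quad.refl ha).toLinearMap = -1 := by
  have e : (Quad.refl ha).toLinearMap = LinearMap.transvection (-(Q a)⁻¹ • (pb Q).flip a) a :=
    LinearMap.ext fun x => by
      show Quad.refl ha x = _
      rw [Quad.refl_apply, LinearMap.transvection.apply, sub_eq_add_neg, ← neg_smul]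
      simp [pb_apply, div_eq_mul_inv, mul_comm]
  rw [e, LinearMap.transvection.det, LinearMap.smul_apply, LinearMap.flip_apply, pb_self, smul_eq_mul]
  field_simp
  ring

lemma det_cases {g : (ι → F) ≃ₗ[F] (ι → F)} (hg : g ∈ Quad.oG Q) :
    LinearMap.det g.toLinearMap = 1 ∨ LinearMap.det g.toLinearMap = -1 := by
  have h := Quad.det_eq_one_or_neg_one hS.nd (M := LinearMap.toMatrix' g.toLinearMap)
    (fun x => by rw [LinearMap.toMatrix'_mulVec]; exact hg x)
  rwa [LinearMap.det_toMatrix'] at h

variable (M : Subgroup ((ι → F) ≃ₗ[F] (ι → F))) (hM : ∀ g ∈ Quad.oG Q, LinearMap.det g.toLinearMap = 1 → g ∈ M)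
include hM

lemma irreducible (U : Submodule F (ι → F)) (hU : ∀ h ∈ M, ∀ u ∈ U, h u ∈ U) : U = ⊥ ∨ U = ⊤ := by
  rcases eq_or_ne U ⊥ with h | h
  · exact Or.inl h
  refine Or.inr ?_
  obtain ⟨u, hu, hu0⟩ := U.exists_mem_ne_zero_of_ne_bot h
  have hdim := hS.dim
  have aniso : ∀ a, Q a ≠ 0 → pb Q u a ≠ 0 → a ∈ U := by
    intro a ha hua
    obtain ⟨b, hb, hQb⟩ := exists_aniso hS (perp Q [u, a]) (by
      have := finrank_perp (Q := Q) [u, a]; simp only [List.length_cons, List.length_nil] at this; omega)
    have hub : pb Q u b = 0 := mem_perp.1 hb u (by simp)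
    have hm : Quad.refl ha * Quad.refl hQb ∈ M := hM _ (mul_mem (Quad.refl_mem ha) (Quad.refl_mem hQb)) (by
      rw [show (Quad.refl ha * Quad.refl hQb).toLinearMap = (Quad.refl ha).toLinearMap ∘ₗ (Quad.refl hQb).toLinearMap from rfl,
        LinearMap.det_comp, det_refl hS, det_refl hS]; ring)
    have := hU _ hm u hu
    rw [LinearEquiv.mul_apply, Quad.refl_fix hQb hub, Quad.refl_apply, U.sub_mem_iff_right hu] at this
    exact (U.smul_mem_iff (div_ne_zero hua ha)).1 this
  have hpair : ∀ x, pb Q u x ≠ 0 → x ∈ U := by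
    intro x hx
    by_cases hQx : Q x = 0
    swap
    · exact aniso x hQx hx
    obtain ⟨y, hy, hQy⟩ := exists_aniso hS (perp Q [u, x]) (by
      have := finrank_perp (Q := Q) [u, x]; simp only [List.length_cons, List.length_nil] at this; omega)
    have h1 : pb Q u y = 0 := mem_perp.1 hy u (by simp)
    have h2 : pb Q x y = 0 := mem_perp.1 hy x (by simp)
    have m1 := aniso (x + y) (by rw [q_add, hQx, h2]; simpa using hQy) (by rwa [map_add, h1, add_zero])
    have m2 := aniso (x + -y) (by rw [q_add, hQx, QuadraticMap.map_neg, map_neg, h2]; simpa using hQy)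
      (by rwa [map_add, map_neg, h1, neg_zero, add_zero])
    have := U.add_mem m1 m2
    rw [show x + y + (x + -y) = (2 : F) • x by rw [two_smul]; abel] at this
    exact (U.smul_mem_iff hS.two).1 this
  obtain ⟨x0, hx0⟩ : ∃ x0, pb Q u x0 ≠ 0 := by
    by_contra! hc; exact hu0 (eq_zero hS hc)
  refine eq_top_iff.2 fun x _ => ?_
  by_cases hx : pb Q u x = 0
  · have := U.sub_mem (hpair (x + x0) (by rwa [map_add, hx, zero_add])) (hpair x0 hx0)
    rwa [add_sub_cancel_right] at this
  · exact hpair x hx

/-- conjugates of one transvection fill a centre -/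
lemma full_centre {v w : (ι → F)} (hv : v ≠ 0) (hvw : pb Q w v = 0) (hw : w ∉ Submodule.span F {v})
    (hmem : tvec (pb Q w) v ∈ M) : ∀ φ : Dual F (ι → F), φ v = 0 → tvec φ v ∈ M := by
  have hdim := hS.dim
  have horbit : ∀ w', w' ∉ Submodule.span F {v} → pb Q w' v = 0 → Q w' = Q w → tvec (pb Q w') v ∈ M := by
    intro w' hw' hv' hq
    have hli : ∀ z, z ∉ Submodule.span F {v} → LinearIndependent F ![v, z] := fun z hz =>
      (LinearIndependent.pair_iff' hv).2 fun c h => hz (h ▸ Submodule.smul_mem _ c (Submodule.mem_span_singleton_self v))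
    obtain ⟨g, hg, hgi⟩ := Quad.witt_family hS.nd 2 ![v, w] ![v, w'] (hli w hw) (hli w' hw')
      (fun i => by fin_cases i <;> simp [hq])
      (fun i j => by
        show pb Q (![v, w] i) (![v, w] j) = pb Q (![v, w'] i) (![v, w'] j)
        fin_cases i <;> fin_cases j <;> simp [hvw, hv', pb_symm v w, pb_symm v w', pb_self, hq])
    have hgv : g v = v := hgi 0
    have hgw : g w = w' := hgi 1
    obtain ⟨k, hk, hkd, hkv, hkw⟩ : ∃ k ∈ Quad.oG Q, LinearMap.det k.toLinearMap = 1 ∧ k v = v ∧ k w = w' := by
      rcases det_cases hS hg with h | h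
      · exact ⟨g, hg, h, hgv, hgw⟩
      obtain ⟨b, hb, hQb⟩ := exists_aniso hS (perp Q [v, w]) (by
        have := finrank_perp (Q := Q) [v, w]; simp only [List.length_cons, List.length_nil] at this; omega)
      refine ⟨g * Quad.refl hQb, mul_mem hg (Quad.refl_mem hQb), ?_, ?_, ?_⟩
      · rw [show (g * Quad.refl hQb).toLinearMap = g.toLinearMap ∘ₗ (Quad.refl hQb).toLinearMap from rfl,
          LinearMap.det_comp, det_refl hS, h]; ring
      · rw [LinearEquiv.mul_apply, Quad.refl_fix hQb (mem_perp.1 hb v (by simp)), hgv]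
      · rw [LinearEquiv.mul_apply, Quad.refl_fix hQb (mem_perp.1 hb w (by simp)), hgw]
    have hkM := hM k hk hkd
    have := mul_mem (mul_mem hkM hmem) (inv_mem hkM)
    rw [conj_tvec k hvw, hkv] at this
    convert this using 2
    refine LinearMap.ext fun x => ?_
    show pb Q w' x = pb Q w (k⁻¹ x)
    rw [← hkw, pb_apply, pb_apply, ← Quad.polar_eq_of_mem hk w (k⁻¹ x), apply_inv]
  have hsub : ∀ a b, pb Q a v = 0 → pb Q b v = 0 → tvec (pb Q a) v ∈ M → tvec (pb Q b) v ∈ M →
      tvec (pb Q (a - b)) v ∈ M := fun a b ha hb ma mb => by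
    have := mul_mem ma (inv_mem mb)
    rwa [tvec_inv hb, tvec_mul_left ha (by rw [LinearMap.neg_apply, hb, neg_zero]), ← map_neg, ← map_add, ← sub_eq_add_neg] at this
  have hoff : ∀ z, pb Q z v = 0 → z ∉ Submodule.span F {v} → tvec (pb Q z) v ∈ M := by
    intro z hzv hzs
    obtain ⟨e, he, hes⟩ := (SetLike.not_le_iff_exists (p := perp Q [v, z]) (q := Submodule.span F {x | x ∈ [v, z]})).1 (fun hle => by
      have h1 := Submodule.finrank_mono hle
      have h2 := finrank_perp (Q := Q) [v, z]
      have h3 : finrank F (Submodule.span F {x | x ∈ [v, z]}) ≤ 2 := by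
        classical
        have : {x : (ι → F) | x ∈ [v, z]} = (({v, z} : Finset (ι → F)) : Set (ι → F)) := by ext; simp
        rw [this]
        exact (finrank_span_finset_le_card _).trans Finset.card_le_two
      simp only [List.length_cons, List.length_nil] at h2
      omega)
    have hze : z ∉ Submodule.span F {x | x ∈ [v, e]} := fun h => by
      have : {x : (ι → F) | x ∈ [v, e]} = {v, e} := by ext; simp
      rw [this, Submodule.mem_span_pair] at h
      obtain ⟨α, β, h⟩ := h
      rcases eq_or_ne β 0 with rfl | hβ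
      · exact hzs (Submodule.mem_span_singleton.2 ⟨α, by simpa using h⟩)
      · refine hes ?_
        have he : e = β⁻¹ • (z - α • v) := by rw [← h, add_sub_cancel_left, smul_smul, inv_mul_cancel₀ hβ, one_smul]
        rw [he]
        exact Submodule.smul_mem _ _ (Submodule.sub_mem _ (Submodule.subset_span (by simp))
          (Submodule.smul_mem _ _ (Submodule.subset_span (by simp))))
    obtain ⟨a1, ha1, ha1'⟩ := Quad.exists_perp hS.nd hes
    obtain ⟨a2, ha2, ha2'⟩ := Quad.exists_perp hS.nd hze
    set a := a1 + (-Q z) • a2 with ha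
    have hav : pb Q v a = 0 := by
      have e1 : pb Q v a1 = 0 := ha1 v (Submodule.subset_span (by simp))
      have e2 : pb Q v a2 = 0 := ha2 v (Submodule.subset_span (by simp))
      rw [ha, map_add, map_smul, e1, e2, smul_zero, add_zero]
    have hae : pb Q e a = 1 := by
      have e1 : pb Q e a1 = 1 := ha1'
      have e2 : pb Q e a2 = 0 := ha2 e (Submodule.subset_span (by simp))
      rw [ha, map_add, map_smul, e1, e2, smul_zero, add_zero]
    have haz : pb Q z a = -Q z := by
      have e1 : pb Q z a1 = 0 := ha1 z (Submodule.subset_span (by simp))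
      have e2 : pb Q z a2 = 1 := ha2'
      rw [ha, map_add, map_smul, e1, e2, smul_eq_mul, mul_one, zero_add]
    obtain ⟨y, hy, hQy⟩ := exists_value hS [v, z, e, a] (by simp only [List.length_cons, List.length_nil]; omega) (Q w - Q a)
    have hyv : pb Q v y = 0 := mem_perp.1 hy v (by simp)
    have hyz : pb Q z y = 0 := mem_perp.1 hy z (by simp)
    have hye : pb Q e y = 0 := mem_perp.1 hy e (by simp)
    have hya : pb Q a y = 0 := mem_perp.1 hy a (by simp)
    have hev : pb Q e v = 0 := by rw [pb_symm]; exact mem_perp.1 he v (by simp)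
    have hez : pb Q e z = 0 := by rw [pb_symm]; exact mem_perp.1 he z (by simp)
    have notspan : ∀ t, pb Q e t = 1 → t ∉ Submodule.span F {v} := fun t ht h => by
      obtain ⟨c, rfl⟩ := Submodule.mem_span_singleton.1 h
      rw [map_smul, hev, smul_zero] at ht
      exact zero_ne_one ht
    have q1 : Q (a + y) = Q w := by rw [q_add, hQy, hya]; ring
    have p1 : pb Q (a + y) v = 0 := by rw [pb_symm, map_add, hav, hyv, add_zero]
    have p2 : pb Q (a + y + z) v = 0 := by rw [map_add, LinearMap.add_apply, p1, hzv, add_zero]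
    have q2 : Q (a + y + z) = Q w := by
      rw [q_add, q1, pb_symm, map_add (pb Q z), haz, hyz]; ring
    have m1 := horbit (a + y) (notspan _ (by rw [map_add, hae, hye, add_zero])) p1 q1
    have m2 := horbit (a + y + z) (notspan _ (by rw [map_add, map_add, hae, hye, hez, add_zero, add_zero])) p2 q2
    have := hsub _ _ p2 p1 m2 m1
    rwa [add_sub_cancel_left] at this
  have hall : ∀ z, pb Q z v = 0 → tvec (pb Q z) v ∈ M := by
    intro z hz
    by_cases hzs : z ∈ Submodule.span F {v}
    · have h1 : pb Q (z + w) v = 0 := by rw [map_add, LinearMap.add_apply, hz, hvw, add_zero]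
      have := hsub _ _ h1 hvw (hoff (z + w) h1 fun h => hw (by simpa using Submodule.sub_mem _ h hzs)) hmem
      rwa [add_sub_cancel_right] at this
    · exact hoff z hz hzs
  intro φ hφ
  have hφz : φ = pb Q ((LinearMap.BilinForm.toDual (polarBilin Q) hS.nd).symm φ) := LinearMap.ext fun x =>
    (LinearMap.BilinForm.apply_toDual_symm_apply (hB := hS.nd) (f := φ) x).symm
  rw [hφz] at hφ ⊢
  exact hall _ hφ

/-- one transvection gives all of them -/
lemma all_of_transvection {v w : (ι → F)} (hv : v ≠ 0) (hw : w ≠ 0) (hvw : pb Q w v = 0) (hmem : tvec (pb Q w) v ∈ M) :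
    ∀ (φ : Dual F (ι → F)) (x : (ι → F)), φ x = 0 → tvec φ x ∈ M := by
  obtain ⟨v0, hv0, h0⟩ : ∃ v0 : ι → F, v0 ≠ 0 ∧ ∀ φ : Dual F (ι → F), φ v0 = 0 → tvec φ v0 ∈ M := by
    by_cases hdep : w ∈ Submodule.span F {v}
    swap
    · exact ⟨v, hv, full_centre hS M hM hv hvw hdep hmem⟩
    -- a transvection fixing `v⊥`: make an independent pair
    obtain ⟨c, rfl⟩ := Submodule.mem_span_singleton.1 hdep
    have hc : c ≠ 0 := fun h => hw (by rw [h, zero_smul])
    have hQv : Q v = 0 := by
      rw [map_smul, LinearMap.smul_apply, pb_self, smul_eq_mul, mul_eq_zero, mul_eq_zero] at hvw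
      exact (hvw.resolve_left hc).resolve_left hS.two
    have hvs : v ∉ Submodule.span F {x : (ι → F) | x ∈ ([] : List (ι → F))} := by simpa using hv
    obtain ⟨v', -, hQv', hvv'⟩ := exists_singular_pairing hS [] (by have := hS.dim; simp only [List.length_cons, List.length_nil]; omega) hvs 1
    have hv'0 : v' ≠ 0 := fun h => by rw [h, map_zero] at hvv'; exact zero_ne_one hvv'
    obtain ⟨g, hg, hgi⟩ := Quad.witt_family hS.nd 1 ![v] ![v'] (LinearIndependent.of_subsingleton 0 hv)
      (LinearIndependent.of_subsingleton 0 hv'0) (fun i => by fin_cases i; simp [hQv, hQv'])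
      (fun i j => by show pb Q (![v] i) (![v] j) = pb Q (![v'] i) (![v'] j); fin_cases i; fin_cases j; simp [pb_self, hQv, hQv'])
    obtain ⟨k, hk, hkd, hkv⟩ : ∃ k ∈ Quad.oG Q, LinearMap.det k.toLinearMap = 1 ∧ k v = v' := by
      rcases det_cases hS hg with h | h
      · exact ⟨g, hg, h, hgi 0⟩
      obtain ⟨b, hb, hQb⟩ := exists_aniso hS (perp Q [v]) (by
        have := finrank_perp (Q := Q) [v]; have := hS.dim; simp only [List.length_cons, List.length_nil] at *; omega)
      refine ⟨g * Quad.refl hQb, mul_mem hg (Quad.refl_mem hQb), ?_, ?_⟩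
      · rw [show (g * Quad.refl hQb).toLinearMap = g.toLinearMap ∘ₗ (Quad.refl hQb).toLinearMap from rfl,
          LinearMap.det_comp, det_refl hS, h]; ring
      · rw [LinearEquiv.mul_apply, Quad.refl_fix hQb (mem_perp.1 hb v (by simp))]; exact hgi 0
    have hm' : tvec (pb Q (c • v')) v' ∈ M := by
      have hkM := hM k hk hkd
      have := mul_mem (mul_mem hkM hmem) (inv_mem hkM)
      rw [conj_tvec k hvw, hkv] at this
      convert this using 2
      refine LinearMap.ext fun x => ?_
      show pb Q (c • v') x = pb Q (c • v) (k⁻¹ x)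
      rw [← hkv, ← map_smul k, pb_apply, pb_apply, ← Quad.polar_eq_of_mem hk (c • v) (k⁻¹ x), apply_inv]
    have hv'v' : pb Q (c • v') v' = 0 := by rw [map_smul, LinearMap.smul_apply, pb_self, hQv', mul_zero, smul_zero]
    have hcv : pb Q (c • v) v' = c := by rw [map_smul, LinearMap.smul_apply, hvv', smul_eq_mul, mul_one]
    have hm'' := mul_mem (mul_mem hmem hm') (inv_mem hmem)
    rw [conj_tvec _ hv'v', tvec_apply hvw, hcv] at hm''
    have he : (pb Q (c • v')).comp ((tvec (pb Q (c • v)) v)⁻¹ : (ι → F) ≃ₗ[F] (ι → F)).toLinearMap = pb Q (c • v' - (c * c) • v) := by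
      refine LinearMap.ext fun x => ?_
      show pb Q (c • v') ((tvec (pb Q (c • v)) v)⁻¹ x) = _
      rw [tvec_inv hvw, tvec_apply (by rw [LinearMap.neg_apply, hvw, neg_zero]), map_sub, LinearMap.sub_apply, map_add]
      simp only [map_smul, LinearMap.smul_apply, LinearMap.neg_apply, pb_symm v' v, hvv', smul_eq_mul]
      ring
    rw [he] at hm''
    have hv0 : v' + c • v ≠ 0 := fun h => ?_
    refine ⟨_, hv0, full_centre hS M hM hv0 ?_ (fun h => ?_) hm''⟩
    rotate_left 2
    · have := congrArg (pb Q v) h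
      rw [map_add, map_smul, hvv', pb_self, hQv, mul_zero, smul_zero, add_zero, map_zero] at this
      exact one_ne_zero this
    · simp only [map_sub, map_add, LinearMap.sub_apply, map_smul, LinearMap.smul_apply, pb_self, hQv, hQv', hvv', pb_symm v' v, smul_eq_mul]
      ring
    · obtain ⟨t, ht⟩ := Submodule.mem_span_singleton.1 h
      have e1 := congrArg (pb Q v) ht
      simp only [map_sub, map_add, map_smul, pb_self, hQv, hvv', smul_eq_mul] at e1
      have htc : t = c := by linear_combination e1
      have e2 := congrArg (pb Q v') ht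
      simp only [map_sub, map_add, map_smul, pb_self, hQv', pb_symm v' v, hvv', smul_eq_mul, htc] at e2
      refine mul_ne_zero (mul_ne_zero hc hc) hS.two ?_
      linear_combination e2
  exact all_of_one M (irreducible hS M hM) hv0 h0

omit hM in
/-- the Siegel element of a totally singular pair -/
lemma siegel_facts {p w : (ι → F)} (hp : Q p = 0) (hw : Q w = 0) (hpw : pb Q p w = 0) :
    tvec (pb Q p) w * tvec (pb Q (-w)) p ∈ Quad.oG Q ∧
      LinearMap.det (tvec (pb Q p) w * tvec (pb Q (-w)) p).toLinearMap = 1 ∧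
      ∀ x, (tvec (pb Q p) w * tvec (pb Q (-w)) p) x = x + pb Q p x • w + pb Q (-w) x • p := by
  have e2 : pb Q (-w) p = 0 := by rw [map_neg, LinearMap.neg_apply, pb_symm, hpw, neg_zero]
  have hx : ∀ x, (tvec (pb Q p) w * tvec (pb Q (-w)) p) x = x + pb Q p x • w + pb Q (-w) x • p := fun x => by
    rw [LinearEquiv.mul_apply, tvec_apply e2, tvec_apply hpw, map_add, map_smul, pb_self, hp, mul_zero, smul_zero, add_zero]
    abel
  refine ⟨fun x => ?_, ?_, hx⟩
  · rw [hx, q_add, q_add, q_smul, q_smul, hw, hp]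
    simp only [map_add, LinearMap.add_apply, map_smul, LinearMap.smul_apply, map_neg, LinearMap.neg_apply, pb_symm w p, hpw,
      pb_symm x w, pb_symm x p, smul_eq_mul]
    ring
  · rw [show (tvec (pb Q p) w * tvec (pb Q (-w)) p).toLinearMap = (tvec (pb Q p) w).toLinearMap ∘ₗ (tvec (pb Q (-w)) p).toLinearMap from rfl,
      LinearMap.det_comp, det_tvec, det_tvec, one_mul]

omit hM in
lemma exists_scalar_of_singular (G : (ι → F) →ₗ[F] (ι → F) →ₗ[F] F)
    (h : ∀ u, u ≠ 0 → Q u = 0 → ∃ μ : F, ∀ y, G y u = μ * pb Q y u) : ∃ μ : F, ∀ y u, G y u = μ * pb Q y u := by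
  have hdim := hS.dim
  have step : ∀ u u', u ≠ 0 → u' ≠ 0 → Q u = 0 → Q u' = 0 → pb Q u u' = 0 → u' ∉ Submodule.span F {u} →
      ∀ μ μ' : F, (∀ y, G y u = μ * pb Q y u) → (∀ y, G y u' = μ' * pb Q y u') → μ = μ' := by
    intro u u' hu hu' hQ hQ' hp hs μ μ' hμ hμ'
    obtain ⟨ν, hν⟩ := h (u + u') (fun e => hs (by rw [eq_neg_of_add_eq_zero_right e]; exact Submodule.neg_mem _ (Submodule.mem_span_singleton_self u)))
      (by rw [q_add, hQ, hQ', hp]; ring)
    have h0 : (ν - μ) • u + (ν - μ') • u' = 0 := eq_zero hS fun y => by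
      have e := hν y
      rw [map_add, map_add, hμ, hμ'] at e
      simp only [map_add, map_smul, LinearMap.add_apply, LinearMap.smul_apply, smul_eq_mul, pb_symm u y, pb_symm u' y]
      linear_combination -e
    by_cases hνμ : ν - μ' = 0
    · rw [hνμ, zero_smul, add_zero, smul_eq_zero, sub_eq_zero] at h0
      exact (h0.resolve_right hu).symm.trans (sub_eq_zero.1 hνμ)
    · refine absurd (Submodule.mem_span_singleton.2 ⟨-(ν - μ') ⁻¹ * (ν - μ), ?_⟩) hs
      rw [neg_mul, neg_smul, mul_smul, eq_neg_of_add_eq_zero_left h0, smul_neg, neg_neg, smul_smul, inv_mul_cancel₀ hνμ, one_smul]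
  obtain ⟨u0, -, hQ0, hu0⟩ := exists_singular hS [] (by simp only [List.length_cons, List.length_nil]; omega)
  obtain ⟨μ, hμ⟩ := h u0 hu0 hQ0
  have hsing : ∀ u, Q u = 0 → ∀ y, G y u = μ * pb Q y u := by
    intro u hQ y
    rcases eq_or_ne u 0 with rfl | hu
    · simp
    obtain ⟨μu, hμu⟩ := h u hu hQ
    by_cases hdep : u ∈ Submodule.span F {u0}
    · obtain ⟨c, rfl⟩ := Submodule.mem_span_singleton.1 hdep
      rw [map_smul, map_smul, hμ, smul_eq_mul, smul_eq_mul]; ring
    obtain ⟨e, he, hes⟩ := (SetLike.not_le_iff_exists (p := perp Q [u0, u]) (q := Submodule.span F ({u0, u} : Set (ι → F)))).1 (fun hle => by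
      have h1 := Submodule.finrank_mono hle
      have h2 := finrank_perp (Q := Q) [u0, u]
      have h3 : finrank F (Submodule.span F ({u0, u} : Set (ι → F))) ≤ 2 := by
        classical
        rw [show ({u0, u} : Set (ι → F)) = (({u0, u} : Finset (ι → F)) : Set (ι → F)) by simp]
        exact (finrank_span_finset_le_card _).trans Finset.card_le_two
      simp only [List.length_cons, List.length_nil] at h2
      omega)
    obtain ⟨k, hk, hek⟩ := Quad.exists_perp hS.nd hes
    obtain ⟨z, hz, hQz⟩ := exists_value hS [u0, u, e, k] (by simp only [List.length_cons, List.length_nil]; omega) (-Q k)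
    have hzs : k + z ∉ Submodule.span F ({u0, u} : Set (ι → F)) := fun hm => by
      obtain ⟨a, b, hab⟩ := Submodule.mem_span_pair.1 hm
      have := congrArg (pb Q e) hab
      rw [map_add, map_add, map_smul, map_smul, pb_symm e u0, pb_symm e u, mem_perp.1 he u0 (by simp), mem_perp.1 he u (by simp),
        mem_perp.1 hz e (by simp), show pb Q e k = 1 from hek, smul_zero, smul_zero, add_zero, add_zero] at this
      exact zero_ne_one this
    have hQs : Q (k + z) = 0 := by rw [q_add, hQz, mem_perp.1 hz k (by simp)]; ring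
    have hs0 : k + z ≠ 0 := fun e0 => hzs (e0 ▸ Submodule.zero_mem _)
    obtain ⟨μz, hμz⟩ := h _ hs0 hQs
    have p0 : pb Q u0 (k + z) = 0 := by
      rw [map_add, show pb Q u0 k = 0 from hk u0 (Submodule.subset_span (by simp)), mem_perp.1 hz u0 (by simp), add_zero]
    have p1 : pb Q u (k + z) = 0 := by
      rw [map_add, show pb Q u k = 0 from hk u (Submodule.subset_span (by simp)), mem_perp.1 hz u (by simp), add_zero]
    have e1 := step u0 (k + z) hu0 hs0 hQ0 hQs p0 (fun hm => hzs (Submodule.span_mono (by simp) hm)) μ μz hμ hμz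
    have e2 := step u (k + z) hu hs0 hQ hQs p1 (fun hm => hzs (Submodule.span_mono (by simp) hm)) μu μz hμu hμz
    rw [hμu, e2, ← e1]
  refine ⟨μ, fun y x => ?_⟩
  rcases eq_or_ne x 0 with rfl | hx
  · simp
  have hxs : x ∉ Submodule.span F {z : (ι → F) | z ∈ ([] : List (ι → F))} := by simpa using hx
  obtain ⟨s, -, hQs, hxs'⟩ := exists_singular_pairing hS [] (by simp only [List.length_cons, List.length_nil]; omega) hxs (-Q x)
  have h1 : Q (x + s) = 0 := by rw [q_add, hQs, hxs']; ring
  have := hsing _ h1 y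
  rw [map_add, map_add, hsing s hQs] at this
  linear_combination this

/-- a subgroup containing the special orthogonal group and a non-similarity has all transvections -/
theorem all_transvections {g : (ι → F) ≃ₗ[F] (ι → F)} (hgM : g ∈ M) (hg : ¬ ∃ c : F, ∀ x, Q (g x) = c * Q x) :
    ∀ (φ : Dual F (ι → F)) (x : (ι → F)), φ x = 0 → tvec φ x ∈ M := by
  have hdim := hS.dim
  by_cases hex : ∃ p w, p ≠ 0 ∧ Q p = 0 ∧ Q w = 0 ∧ pb Q p w = 0 ∧ w ∉ Submodule.span F {p} ∧
      ∃ b1 b2, (∀ x, pb Q p (g⁻¹ x) = pb Q b1 x) ∧ (∀ x, pb Q (-w) (g⁻¹ x) = pb Q b2 x) ∧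
        g w ∉ Submodule.span F {x | x ∈ [b1, b2]}
  · obtain ⟨p, w, hp0, hp, hw, hpw, hwp, b1, b2, hb1, hb2, hout⟩ := hex
    obtain ⟨u, hu, hQu, hau⟩ := exists_singular_pairing hS [b1, b2] (by simp only [List.length_cons, List.length_nil]; omega) hout 1
    obtain ⟨u', hu', hQu', hu'0⟩ := exists_singular hS [b1, b2, u, g w, g p] (by simp only [List.length_cons, List.length_nil]; omega)
    have huu' : pb Q u u' = 0 := mem_perp.1 hu' u (by simp)
    obtain ⟨hf, hfd, hfx⟩ := siegel_facts hS hQu hQu' huu'
    obtain ⟨he, hed, hex⟩ := siegel_facts hS hp hw hpw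
    have b1u : pb Q b1 u = 0 := mem_perp.1 hu b1 (by simp)
    have b2u : pb Q b2 u = 0 := mem_perp.1 hu b2 (by simp)
    have b1u' : pb Q b1 u' = 0 := mem_perp.1 hu' b1 (by simp)
    have b2u' : pb Q b2 u' = 0 := mem_perp.1 hu' b2 (by simp)
    have a1u' : pb Q u' (g w) = 0 := by rw [pb_symm]; exact mem_perp.1 hu' _ (by simp)
    have a2u' : pb Q u' (g p) = 0 := by rw [pb_symm]; exact mem_perp.1 hu' _ (by simp)
    set f := tvec (pb Q u) u' * tvec (pb Q (-u')) u
    set e := g * (tvec (pb Q p) w * tvec (pb Q (-w)) p) * g⁻¹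
    set β := pb Q u (g w) • b1 + pb Q u (g p) • b2 with hβ
    have b1a : pb Q b1 (g w) = 0 ∧ pb Q b1 (g p) = 0 ∧ pb Q b2 (g w) = 0 ∧ pb Q b2 (g p) = 0 := by
      refine ⟨?_, ?_, ?_, ?_⟩
      · rw [← hb1, inv_apply, hpw]
      · rw [← hb1, inv_apply, pb_self, hp, mul_zero]
      · rw [← hb2, inv_apply, map_neg, LinearMap.neg_apply, pb_self, hw, mul_zero, neg_zero]
      · rw [← hb2, inv_apply, map_neg, LinearMap.neg_apply, pb_symm, hpw, neg_zero]
    have hex' : ∀ x, e x = x + pb Q b1 x • g w + pb Q b2 x • g p := fun x => by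
      rw [LinearEquiv.mul_apply, LinearEquiv.mul_apply, hex, map_add, map_add, map_smul, map_smul, apply_inv, hb1, hb2]
    have hβ0 : β ≠ 0 := by
      intro h0
      obtain ⟨z, hz⟩ : ∃ z, pb Q p z ≠ 0 := by
        by_contra! hc; exact hp0 (eq_zero hS hc)
      have h1 : pb Q u (g w) • p + pb Q u (g p) • (-w) = 0 := eq_zero hS fun y => by
        have := congrArg (fun b => pb Q b (g y)) h0
        simp only [hβ, map_add, map_smul, LinearMap.add_apply, LinearMap.smul_apply, ← hb1, ← hb2, inv_apply, map_zero,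
          LinearMap.zero_apply] at this
        simpa only [map_add, map_smul, LinearMap.add_apply, LinearMap.smul_apply] using this
      have hne : pb Q u (g w) = 1 := by rw [pb_symm]; exact hau
      rw [hne, one_smul, smul_neg, add_neg_eq_zero] at h1
      rcases eq_or_ne (pb Q u (g p)) 0 with h2 | h2
      · rw [h2, zero_smul] at h1; exact hp0 h1
      · refine hwp (Submodule.mem_span_singleton.2 ⟨(pb Q u (g p))⁻¹, ?_⟩)
        generalize pb Q u (g p) = t at h1 h2 ⊢
        rw [h1, smul_smul, inv_mul_cancel₀ h2, one_smul]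
    have hβu : pb Q β u' = 0 := by rw [hβ]; simp [b1u', b2u']
    have hcomm : f * e = tvec (pb Q β) u' * (e * f) := LinearEquiv.ext fun x => by
      have hz : tvec (pb Q β) u' (e (f x)) = e (f x) + pb Q β (e (f x)) • u' := tvec_apply hβu _
      show f (e x) = tvec (pb Q β) u' (e (f x))
      rw [hz, hfx, hex', hex', hfx]
      simp only [hβ, map_add, map_smul, map_neg, LinearMap.add_apply, LinearMap.smul_apply, LinearMap.neg_apply, smul_eq_mul,
        b1u, b2u, b1u', b2u', a1u', a2u', b1a.1, b1a.2.1, b1a.2.2.1, b1a.2.2.2]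
      module
    have hfM : f ∈ M := hM _ hf hfd
    have heM : e ∈ M := mul_mem (mul_mem hgM (hM _ he hed)) (inv_mem hgM)
    have hmem : tvec (pb Q β) u' ∈ M := by
      rw [show tvec (pb Q β) u' = f * e * (e * f)⁻¹ by rw [hcomm, mul_inv_cancel_right]]
      exact mul_mem (mul_mem hfM heM) (inv_mem (mul_mem heM hfM))
    exact all_of_transvection hS M hM hu'0 hβ0 hβu hmem
  · exfalso
    apply hg
    obtain ⟨μ, hμ⟩ := exists_scalar_of_singular hS ((pb Q).compl₁₂ g.toLinearMap g.toLinearMap) (by
      intro w hw0 hw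
      have hws : w ∉ Submodule.span F {x : (ι → F) | x ∈ ([] : List (ι → F))} := by simpa using hw0
      obtain ⟨p, hp, hQp, hp0⟩ := exists_singular hS [w] (by simp only [List.length_cons, List.length_nil]; omega)
      -- two planes through `w`
      have key : ∀ p, p ≠ 0 → Q p = 0 → pb Q p w = 0 → w ∉ Submodule.span F {p} →
          ∃ α β : F, ∀ y, pb Q (g w) (g y) = α * pb Q p y + β * pb Q w y := by
        intro p hp0 hQp hpw hwp
        let d := (LinearMap.BilinForm.toDual (polarBilin Q) hS.nd)
        let b1 := d.symm ((pb Q p).comp (g⁻¹ : (ι → F) ≃ₗ[F] (ι → F)).toLinearMap)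
        let b2 := d.symm ((pb Q (-w)).comp (g⁻¹ : (ι → F) ≃ₗ[F] (ι → F)).toLinearMap)
        have hb1 : ∀ x, pb Q p (g⁻¹ x) = pb Q b1 x := fun x =>
          (LinearMap.BilinForm.apply_toDual_symm_apply (hB := hS.nd) (f := (pb Q p).comp (g⁻¹ : (ι → F) ≃ₗ[F] (ι → F)).toLinearMap) x).symm
        have hb2 : ∀ x, pb Q (-w) (g⁻¹ x) = pb Q b2 x := fun x =>
          (LinearMap.BilinForm.apply_toDual_symm_apply (hB := hS.nd) (f := (pb Q (-w)).comp (g⁻¹ : (ι → F) ≃ₗ[F] (ι → F)).toLinearMap) x).symm
        have hin : g w ∈ Submodule.span F {x | x ∈ [b1, b2]} := by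
          by_contra hout
          exact hex ⟨p, w, hp0, hQp, hw, hpw, hwp, b1, b2, hb1, hb2, hout⟩
        rw [show {x : (ι → F) | x ∈ [b1, b2]} = {b1, b2} by ext; simp] at hin
        obtain ⟨α, β, hab⟩ := Submodule.mem_span_pair.1 hin
        refine ⟨α, -β, fun y => ?_⟩
        rw [← hab, map_add, LinearMap.add_apply, map_smul, map_smul, LinearMap.smul_apply, LinearMap.smul_apply, ← hb1, ← hb2,
          inv_apply, map_neg, LinearMap.neg_apply, smul_eq_mul, smul_eq_mul]
        ring
      obtain ⟨p, hp, hQp, hpw, hps⟩ : ∃ p, p ≠ 0 ∧ Q p = 0 ∧ pb Q p w = 0 ∧ w ∉ Submodule.span F {p} := by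
        obtain ⟨e, he, hes⟩ := (SetLike.not_le_iff_exists (p := perp Q [w]) (q := Submodule.span F {x : (ι → F) | x ∈ [w]})).1 (fun hle => by
          have h1 := Submodule.finrank_mono hle
          have h2 := finrank_perp (Q := Q) [w]
          rw [show {x : (ι → F) | x ∈ [w]} = {w} by ext; simp, finrank_span_singleton hw0] at h1
          simp only [List.length_cons, List.length_nil] at h2; omega)
        obtain ⟨p, hp, hQp, hep⟩ := exists_singular_pairing hS [w] (by simp only [List.length_cons, List.length_nil]; omega) hes 1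
        refine ⟨p, fun h => by rw [h, map_zero] at hep; exact zero_ne_one hep, hQp, by rw [pb_symm]; exact hp.2, fun h => ?_⟩
        obtain ⟨c, hc⟩ := Submodule.mem_span_singleton.1 h
        have := congrArg (pb Q e) hc
        rw [map_smul, hep, pb_symm e w, show pb Q w e = 0 from he.2, smul_eq_mul, mul_one] at this
        exact hw0 (by rw [← hc, this, zero_smul])
      obtain ⟨e, he, hes⟩ := (SetLike.not_le_iff_exists (p := perp Q [w, p]) (q := Submodule.span F {x : (ι → F) | x ∈ [w, p]})).1 (fun hle => by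
        have h1 := Submodule.finrank_mono hle
        have h2 := finrank_perp (Q := Q) [w, p]
        have h3 : finrank F (Submodule.span F {x | x ∈ [w, p]}) ≤ 2 := by
          classical
          rw [show {x : (ι → F) | x ∈ [w, p]} = (({w, p} : Finset (ι → F)) : Set (ι → F)) by ext; simp]
          exact (finrank_span_finset_le_card _).trans Finset.card_le_two
        simp only [List.length_cons, List.length_nil] at h2
        omega)
      obtain ⟨p', hp', hQp', hep'⟩ := exists_singular_pairing hS [w, p] (by simp only [List.length_cons, List.length_nil]; omega) hes 1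
      have hp'0 : p' ≠ 0 := fun h => by rw [h, map_zero] at hep'; exact zero_ne_one hep'
      have hew : pb Q e w = 0 := by rw [pb_symm]; exact mem_perp.1 he w (by simp)
      have hep : pb Q e p = 0 := by rw [pb_symm]; exact mem_perp.1 he p (by simp)
      have hp'w : pb Q p' w = 0 := by rw [pb_symm]; exact mem_perp.1 hp' w (by simp)
      have hp's : w ∉ Submodule.span F {p'} := fun h => by
        obtain ⟨c, hc⟩ := Submodule.mem_span_singleton.1 h
        have := congrArg (pb Q e) hc
        rw [map_smul, hep', hew, smul_eq_mul, mul_one] at this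
        exact hw0 (by rw [← hc, this, zero_smul])
      obtain ⟨α, β, h1⟩ := key p hp hQp hpw hps
      obtain ⟨α', β', h2⟩ := key p' hp'0 hQp' hp'w hp's
      have h0 : α • p + β • w - (α' • p' + β' • w) = 0 := eq_zero hS fun y => by
        simp only [map_sub, map_add, map_smul, LinearMap.sub_apply, LinearMap.add_apply, LinearMap.smul_apply, smul_eq_mul]
        linear_combination h2 y - h1 y
      have hα' : α' = 0 := by
        have := congrArg (pb Q e) h0
        simp only [map_sub, map_add, map_smul, map_zero, hep, hew, hep', smul_eq_mul] at this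
        linear_combination -this
      refine ⟨β', fun y => ?_⟩
      show pb Q (g y) (g w) = β' * pb Q y w
      rw [pb_symm, h2 y, hα', pb_symm y w]; ring)
    refine ⟨μ, fun x => ?_⟩
    have := hμ x x
    simp only [LinearMap.compl₁₂_apply, LinearEquiv.coe_coe, pb_self] at this
    exact mul_left_cancel₀ hS.two (by linear_combination this)

end

/-- For a finite field F of odd order and n ≥ 13, let Q be a non-degenerate quadratic form on F^n (its polar form is non-degenerate). Then the elements of SL_n(F) that are similarities of Q (Q(gv) = c Q(v) for a non-zero scalar c depending on g) form a maximal subgroup of SL_n(F). -/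
theorem result {F : Type*} [Field F] [Fintype F] (n : ℕ) (hn : 13 ≤ n) (hodd : Odd (Fintype.card F)) (Q : (Fin n → F) → F) (hQ : Cfsg.Geo.IsNondegenerateQuadraticForm Q) : Cfsg.Geo.IsMaximalIn (Cfsg.Geo.specialLinear (Fin n) F) (Cfsg.Geo.quadSimilarityGroup Q ⊓ Cfsg.Geo.specialLinear (Fin n) F) := by
  classical
  have hcard : Fintype.card F % 2 = 1 := Nat.odd_iff.1 hodd
  have two : (2 : F) ≠ 0 := Ring.two_ne_zero fun h => by
    have : CharP F 2 := ringChar.eq_iff.1 h
    have := FiniteField.even_card_of_char_two (F := F) h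
    omega
  let q : QuadraticForm F (Fin n → F) := QuadraticMap.ofPolar Q
    (fun a x => by rw [hQ.smul, smul_eq_mul, pow_two])
    hQ.polar_bilinear.add_left
    (fun a x y => by rw [hQ.polar_bilinear.smul_left, smul_eq_mul])
  have hq : ∀ x, q x = Q x := fun x => rfl
  have hS : Setup q :=
    { two := two
      nd := ⟨fun x hx => by_contra fun h => (hQ.nondegenerate x h).2.elim fun y hy => hy (hx y),
        fun x hx => by_contra fun h => (hQ.nondegenerate x h).1.elim fun y hy => hy (hx y)⟩
      dim := by rw [Module.finrank_fin_fun]; exact hn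
      val := fun a b c ha hb => by
        obtain ⟨x, y, hxy⟩ := FiniteField.exists_root_sum_quadratic
          (f := Polynomial.C a * Polynomial.X ^ 2) (g := Polynomial.C b * Polynomial.X ^ 2 + Polynomial.C (-c))
          (by rw [Polynomial.degree_C_mul_X_pow 2 ha]; rfl)
          (by rw [Polynomial.degree_add_eq_left_of_degree_lt, Polynomial.degree_C_mul_X_pow 2 hb]
              · rfl
              · rw [Polynomial.degree_C_mul_X_pow 2 hb]
                exact lt_of_le_of_lt Polynomial.degree_C_le (by decide)) hcard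
        exact ⟨x, y, by simp at hxy; linear_combination hxy⟩ }
  refine isMaximalIn_specialLinear _ ?_ fun M hK hg => ?_
  · obtain ⟨a, -, hQa⟩ := exists_aniso hS (⊤ : Submodule F (Fin n → F)) (by
      rw [finrank_top]; have := hS.dim; omega)
    have h2 : 2 < Module.finrank F (Fin n → F) := by have := hS.dim; omega
    obtain ⟨p, hp, hQp, hp0⟩ := exists_singular hS [a] (by simpa using by omega)
    have hap : pb q a p = 0 := hp.2
    refine ⟨pb q a, p, hap, fun hmem => ?_⟩
    obtain ⟨c, hc⟩ := hmem
    have hc' : ∀ v, q (v + pb q a v • p) = (c : F) * q v := fun v => by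
      have := hc v
      rw [symm_mulVec, tvec_apply hap] at this
      exact this
    have key : ∀ v, (1 - (c : F)) * q v + pb q a v * pb q v p = 0 := fun v => by
      have := hc' v
      rw [q_add, q_smul, hQp, map_smul, smul_eq_mul] at this
      linear_combination this
    have hc1 : (c : F) = 1 := by
      have := key a
      rw [hap] at this
      rw [mul_zero, add_zero, mul_eq_zero, sub_eq_zero] at this
      exact (this.resolve_right hQa).symm
    have hps : p ∉ Submodule.span F {x : Fin n → F | x ∈ [a]} := fun h => by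
      rw [show {x : Fin n → F | x ∈ [a]} = {a} by ext; simp] at h
      obtain ⟨t, rfl⟩ := Submodule.mem_span_singleton.1 h
      rw [map_smul, pb_self, smul_eq_mul, mul_eq_zero, mul_eq_zero] at hap
      rcases hap with h | h | h
      · exact hp0 (by rw [h, zero_smul])
      · exact two h
      · exact hQa h
    obtain ⟨z, hz, hz'⟩ := Cfsg.Agent.Classical.Quad.exists_perp hS.nd hps
    have e1 := key (a + z)
    have haz : pb q a z = 0 := hz a (Submodule.subset_span (by simp))
    have hpz : pb q z p = 1 := by rw [pb_symm]; exact hz'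
    rw [hc1, sub_self, zero_mul, zero_add, map_add, map_add, LinearMap.add_apply, haz, hap, hpz, pb_self, add_zero, zero_add, mul_one,
      mul_eq_zero] at e1
    exact e1.elim two hQa
  · have hSO : ∀ g ∈ Cfsg.Agent.Classical.Quad.oG q, LinearMap.det g.toLinearMap = 1 → g ∈ M := fun g hg hd => by
      have := hK ((glEquiv (Fin n) F).symm g) ⟨⟨1, fun v => by
          rw [symm_mulVec, Units.val_one, one_mul]; exact hg v⟩,
        (mem_specialLinear_iff _).2 (by rw [MulEquiv.apply_symm_apply]; exact hd)⟩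
      rwa [MulEquiv.apply_symm_apply] at this
    obtain ⟨g, hgK, hgM⟩ := hg
    refine all_transvections hS M hSO hgM fun ⟨c, hc⟩ => hgK ?_
    have hc0 : c ≠ 0 := fun h => by
      obtain ⟨a, -, hQa⟩ := exists_aniso hS (⊤ : Submodule F (Fin n → F)) (by
        rw [finrank_top]; have := hS.dim; omega)
      obtain ⟨b, rfl⟩ := (glEquiv (Fin n) F g).surjective a
      exact hQa (by rw [hc, h, zero_mul])
    exact ⟨Units.mk0 c hc0, fun v => hc v⟩

end Cfsg.Agent.S5644
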