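import Cfsg.Statements.S5646
import Cfsg.Agent.ClassicalMax.Symplectic

set_option autoImplicit false
open Cfsg

namespace Cfsg.Agent.S5646

open Cfsg.Agent.Classical Cfsg.Agent.ClassicalMax Module

/-- the statement with the bound on `m` lowered -/
theorem maximal {F : Type*} [Field F] [Fintype F] (m : ℕ) (hm : 3 ≤ m) (W : Submodule F (Fin m ⊕ Fin m → F)) (hW0 : W ≠ ⊥) (hW : Cfsg.Geo.IsNondegenerateOn (Cfsg.sympForm m F) W) (hdim : Module.finrank F W < m) : Cfsg.Geo.IsMaximalIn (Cfsg.spGL m F) (Cfsg.Geo.subspaceStabilizer W ⊓ Cfsg.spGL m F) := by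
  classical
  set B := sympB m F
  have hA : B.IsAlt := sympB_isAlt
  have hB : B.Nondegenerate := sympB_nondeg
  have hWn : Alt.NDon B W := fun w hw hw0 => by
    obtain ⟨z, hz, hne⟩ := (hW w hw hw0).2
    exact ⟨z, hz, by rw [show B w z = Cfsg.sympForm m F w z from sympB_apply w z]; exact hne⟩
  let U : Submodule F (Fin m ⊕ Fin m → F) := ⨅ x ∈ W, LinearMap.ker (B x)
  have hU : ∀ v, v ∈ U ↔ ∀ x ∈ W, B x v = 0 := fun v => by simp [U]
  have hU' : ∀ v ∈ U, ∀ x ∈ W, B v x = 0 := fun v hv x hx => by rw [Alt.neg' hA x v, (hU v).1 hv x hx, neg_zero]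
  have hdec : ∀ v, ∃ w ∈ W, ∃ u ∈ U, v = w + u := fun v => by
    obtain ⟨w, hw, h⟩ := Alt.decomp hA hWn v
    exact ⟨w, hw, v - w, (hU _).2 fun x hx => by rw [Alt.neg' hA, h x hx, neg_zero], by abel⟩
  have hdisj : ∀ v ∈ W, v ∈ U → v = 0 := fun v hv hvU => by
    by_contra h
    obtain ⟨z, hz, hne⟩ := hWn v hv h
    exact hne (hU' v hvU z hz)
  have hUn : Alt.NDon B U := fun u hu hu0 => by
    obtain ⟨z, hz⟩ : ∃ z, B u z ≠ 0 := by by_contra! hc; exact hu0 (hB.1 u hc)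
    obtain ⟨w, hw, u', hu', rfl⟩ := hdec z
    exact ⟨u', hu', by rwa [map_add, hU' u hu w hw, zero_add] at hz⟩
  have hsup : W ⊔ U = ⊤ := eq_top_iff.2 fun v _ => by
    obtain ⟨w, hw, u, hu, rfl⟩ := hdec v
    exact Submodule.add_mem_sup hw hu
  have hinf : W ⊓ U = ⊥ := (Submodule.eq_bot_iff _).2 fun v hv => hdisj v hv.1 hv.2
  have hfr : finrank F W + finrank F U = 2 * m := by
    have := Submodule.finrank_sup_add_finrank_inf_eq W U
    rw [hsup, hinf, finrank_top, finrank_bot, finrank_symp] at this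
    omega
  obtain ⟨w₁, hw₁, hw₁0⟩ := W.exists_mem_ne_zero_of_ne_bot hW0
  obtain ⟨u₁, hu₁, hu₁0⟩ := U.exists_mem_ne_zero_of_ne_bot (fun h => by rw [h, finrank_bot] at hfr; omega)
  obtain ⟨z₁, hz₁, hz₁'⟩ := hWn w₁ hw₁ hw₁0
  refine isMaximalIn_spGL _ ⟨z₁ + u₁, 1, fun hk => ?_⟩ fun M hK ⟨g, hgM, hgi, hgK⟩ => ?_
  · have := ((symm_mem_subspaceStabilizer_iff W _).1 hk w₁).1 hw₁
    rw [Alt.tv_apply, one_mul, W.add_mem_iff_right hw₁] at this
    have hne : B w₁ (z₁ + u₁) ≠ 0 := by rwa [map_add, (hU u₁).1 hu₁ w₁ hw₁, add_zero]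
    rw [W.smul_mem_iff hne, W.add_mem_iff_right hz₁] at this
    exact hu₁0 (hdisj _ this hu₁)
  have hstabW : ∀ v, v ∈ W ∨ v ∈ U → v ∈ centres hA M := by
    intro v hv c
    refine hK _ (Alt.tv_mem_isoGroup hA v c) (stab_of_le W _ fun x hx => ?_)
    rw [Alt.tv_apply]
    rcases hv with hv | hv
    · exact W.add_mem hx (W.smul_mem _ hv)
    · rw [(hU v).1 hv x hx, mul_zero, zero_smul, add_zero]; exact hx
  obtain ⟨v, hv, hvW, hvU⟩ : ∃ v ∈ centres hA M, v ∉ W ∧ v ∉ U := by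
    by_contra! hc
    have hsplit : ∀ S : Submodule F (Fin m ⊕ Fin m → F), (∀ x ∈ S, x ∈ centres hA M) →
        (∀ x ∈ S, g x ∈ W) ∨ (∀ x ∈ S, g x ∈ U) := by
      intro S hS
      by_contra! hne
      obtain ⟨⟨a, ha, haW⟩, b, hb, hbU⟩ := hne
      have haU := hc _ (map_mem_centres (hS a ha) hgM hgi) haW
      have hbW : g b ∈ W := by
        by_contra h; exact hbU (hc _ (map_mem_centres (hS b hb) hgM hgi) h)
      have hab := map_mem_centres (hS _ (S.add_mem ha hb)) hgM hgi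
      rw [map_add] at hab
      rcases em (g a + g b ∈ W) with h | h
      · exact haW ((W.add_mem_iff_left hbW).1 h)
      · exact hbU ((U.add_mem_iff_right haU).1 (hc _ hab h))
    have hle : ∀ S T : Submodule F (Fin m ⊕ Fin m → F), (∀ x ∈ S, g x ∈ T) → finrank F S ≤ finrank F T := fun S T h => by
      rw [← LinearEquiv.finrank_map_eq g S]
      exact Submodule.finrank_mono (by rintro _ ⟨x, hx, rfl⟩; exact h x hx)
    rcases hsplit W (fun x hx => hstabW x (Or.inl hx)) with h | h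
    · exact hgK (stab_of_le W g h)
    rcases hsplit U (fun x hx => hstabW x (Or.inr hx)) with h' | h'
    · have := hle U W h'; omega
    have := hle ⊤ U (fun x _ => by
      obtain ⟨w, hw, u, hu, rfl⟩ := hdec x
      rw [map_add]; exact U.add_mem (h w hw) (h' u hu))
    rw [finrank_top, finrank_symp] at this
    have h0 : 0 < finrank F W := Module.finrank_pos_iff_exists_ne_zero.2 ⟨⟨w₁, hw₁⟩, fun h => hw₁0 (congrArg Subtype.val h)⟩
    omega
  intro x
  obtain ⟨a, ha, b, hb, rfl⟩ := hdec x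
  rcases eq_or_ne a 0 with rfl | ha0
  · rw [zero_add]; exact hstabW b (Or.inr hb)
  rcases eq_or_ne b 0 with rfl | hb0
  · rw [add_zero]; exact hstabW a (Or.inl ha)
  obtain ⟨a', ha', b', hb', rfl⟩ := hdec v
  have ha'0 : a' ≠ 0 := fun h => hvU (by rw [h, zero_add]; exact hb')
  have hb'0 : b' ≠ 0 := fun h => hvW (by rw [h, add_zero]; exact ha')
  obtain ⟨s, hs, hsa⟩ := exists_TG_map hA hWn ha' ha'0 ha ha0
  obtain ⟨t, ht, htb⟩ := exists_TG_map hA hUn hb' hb'0 hb hb0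
  have hsi := Alt.TG_le_isoGroup hA _ hs
  have hti := Alt.TG_le_isoGroup hA _ ht
  have hts : ∀ w ∈ W, t w = w := fun w hw => Alt.TG_fix ht fun u hu => (hU u).1 hu w hw
  have hmem : t * s ∈ M := mul_mem
    (hK t hti (stab_of_le W t fun w hw => (hts w hw).symm ▸ hw))
    (hK s hsi (stab_of_le W s fun w hw => Alt.TG_maps hs hw))
  have := map_mem_centres hv hmem (mul_mem hti hsi)
  rwa [LinearEquiv.mul_apply, map_add, hsa, Alt.TG_fix hs (hU' b' hb'), map_add, hts a ha, htb] at this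

/-- For a finite field F and m ≥ 7, in the symplectic group Sp_2m(F) of the standard alternating form on F^(2m), the stabiliser of any non-zero subspace W on which the form is non-degenerate and with dim W < m is a maximal subgroup. -/
theorem result {F : Type*} [Field F] [Fintype F] (m : ℕ) (hm : 7 ≤ m) (W : Submodule F (Fin m ⊕ Fin m → F)) (hW0 : W ≠ ⊥) (hW : Cfsg.Geo.IsNondegenerateOn (Cfsg.sympForm m F) W) (hdim : Module.finrank F W < m) : Cfsg.Geo.IsMaximalIn (Cfsg.spGL m F) (Cfsg.Geo.subspaceStabilizer W ⊓ Cfsg.spGL m F) :=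
  maximal m (by omega) W hW0 hW hdim

end Cfsg.Agent.S5646
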