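import Cfsg.Statements.S5648
import Cfsg.Agent.NotMax.DecompForm
import Cfsg.Agent.Classical.SympGroup
-- import your own Cfsg.Agent.* helpers here

set_option autoImplicit false
open Cfsg

namespace Cfsg.Agent.S5648

/-- Over the field with 2 elements and for m ≥ 7, let D be a decomposition of F^(2m) into t pairwise orthogonal non-degenerate 2-dimensional subspaces for the standard alternating form (t = m ≥ 2). Then the elements of Sp_2m(2) permuting the members of D form a subgroup that is not maximal: some subgroup lies strictly between it and Sp_2m(2). -/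
theorem result {F : Type*} [Field F] [Fintype F] (m : ℕ) (hm : 7 ≤ m) (hq : Fintype.card F = 2) {t : ℕ} (D : Fin t → Submodule F (Fin m ⊕ Fin m → F)) (hD : Cfsg.Geo.IsNondegenerateMDecomposition (Cfsg.sympForm m F) 2 D) : ∃ K : Subgroup (Matrix.GeneralLinearGroup (Fin m ⊕ Fin m) F), Cfsg.Geo.decompositionStabilizer D ⊓ Cfsg.spGL m F < K ∧ K < Cfsg.spGL m F := by
  have hcard := Cfsg.Agent.NotMax.mul_card_eq' hD.decomp
  simp at hcard
  have e := Cfsg.Agent.Classical.sympB_apply (F := F) (m := m)
  exact Cfsg.Agent.NotMax.symp_two_not_max _ ⟨fun u v w => by rw [← e, ← e, ← e, map_add]; rfl,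
    fun c u v => by rw [← e, ← e, map_smul]; rfl,
    fun u v w => by rw [← e, ← e, ← e, map_add],
    fun c u v => by rw [← e, ← e, map_smul]; rfl⟩
    (fun v => by rw [← e]; exact Cfsg.Agent.Classical.sympB_isAlt v) hq hD (by omega) _ fun g h => h

end Cfsg.Agent.S5648
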