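import Cfsg.Statements.S5649
import Cfsg.Agent.ClassicalMax.Symplectic

set_option autoImplicit false
open Cfsg

namespace Cfsg.Agent.S5649

open Cfsg.Agent.Classical Cfsg.Agent.ClassicalMax Module

section

variable {F V : Type*} [Field F] [AddCommGroup V] [Module F V] {B : LinearMap.BilinForm F V}

/-- the symplectic unipotent attached to the product of two orthogonal vectors -/
noncomputable def st (hA : B.IsAlt) (a b : V) : V ≃ₗ[F] V :=
  Alt.tv hA (a + b) 1 * Alt.tv hA a (-1) * Alt.tv hA b (-1)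

variable (hA : B.IsAlt)
include hA

lemma st_apply {a b : V} (h : B a b = 0) (x : V) : st hA a b x = x + B x b • a + B x a • b := by
  have h' : B b a = 0 := by rw [Alt.neg' hA a b, h, neg_zero]
  simp only [st, LinearEquiv.mul_apply, Alt.tv_apply, map_add, map_smul, LinearMap.add_apply, LinearMap.smul_apply,
    hA a, hA b, h, h', smul_eq_mul]
  module

lemma st_iso (a b : V) : st hA a b ∈ Alt.isoGroup B :=
  mul_mem (mul_mem (Alt.tv_mem_isoGroup hA _ _) (Alt.tv_mem_isoGroup hA _ _)) (Alt.tv_mem_isoGroup hA _ _)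

lemma conj_st {g : V ≃ₗ[F] V} (hg : g ∈ Alt.isoGroup B) (a b : V) : g * st hA a b * g⁻¹ = st hA (g a) (g b) := by
  rw [st, st, ← map_add g, ← Alt.conj_tv hA hg, ← Alt.conj_tv hA hg, ← Alt.conj_tv hA hg]
  simp only [mul_assoc, inv_mul_cancel_left]

lemma st_add {u p q : V} (hp : B u p = 0) (hq : B u q = 0) (hpq : B p q = 0) :
    st hA u (p + q) = st hA u p * st hA u q := LinearEquiv.ext fun x => by
  have h1 : B u (p + q) = 0 := by rw [map_add, hp, hq, add_zero]
  have hqp : B q p = 0 := by rw [Alt.neg' hA p q, hpq, neg_zero]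
  rw [LinearEquiv.mul_apply, st_apply hA h1, st_apply hA hp, st_apply hA hq]
  simp only [map_add, map_smul, LinearMap.add_apply, LinearMap.smul_apply, hA u, hp, hqp, Alt.neg' hA u q, hq, smul_eq_mul]
  module

lemma st_mul {u p q : V} (two : (2 : F) ≠ 0) (hp : B u p = 0) (hq : B u q = 0) :
    st hA u p * st hA u q = st hA u (p + q + (B q p / 2) • u) := LinearEquiv.ext fun x => by
  have h1 : B u (p + q + (B q p / 2) • u) = 0 := by rw [map_add, map_add, map_smul, hp, hq, hA u]; simp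
  rw [LinearEquiv.mul_apply, st_apply hA h1, st_apply hA hp, st_apply hA hq]
  simp only [map_add, map_smul, LinearMap.add_apply, LinearMap.smul_apply, hA u, hp, Alt.neg' hA u q, hq, smul_eq_mul]
  match_scalars <;> field_simp <;> ring

lemma st_self (u : V) (k : F) : st hA u (k • u) = Alt.tv hA u (2 * k) := LinearEquiv.ext fun x => by
  rw [st_apply hA (by rw [map_smul, hA, smul_zero]), Alt.tv_apply, map_smul, smul_eq_mul]
  module

lemma st_shift {a b u : V} (α β : F) (hab : B a b = 0) (hau : B a u = 0) (hbu : B b u = 0) :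
    st hA (a + α • u) (b + β • u) = st hA u (α • b + β • a + (α * β) • u) * st hA a b := LinearEquiv.ext fun x => by
  have hua : B u a = 0 := by rw [Alt.neg' hA a u, hau, neg_zero]
  have hub : B u b = 0 := by rw [Alt.neg' hA b u, hbu, neg_zero]
  have hba : B b a = 0 := by rw [Alt.neg' hA a b, hab, neg_zero]
  have h1 : B (a + α • u) (b + β • u) = 0 := by simp [hab, hau, hub, hA u]
  have h2 : B u (α • b + β • a + (α * β) • u) = 0 := by simp [hua, hub, hA u]
  rw [LinearEquiv.mul_apply, st_apply hA h1, st_apply hA h2, st_apply hA hab]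
  simp only [map_add, map_smul, LinearMap.add_apply, LinearMap.smul_apply, hab, hba, hau, hbu, hA a, hA b, smul_eq_mul]
  module

omit hA

/-- two complementary totally isotropic halves -/
structure Halves (B : LinearMap.BilinForm F V) (U W : Submodule F V) : Prop where
  alt : B.IsAlt
  nd : B.Nondegenerate
  tsU : ∀ x ∈ U, ∀ y ∈ U, B x y = 0
  tsW : ∀ x ∈ W, ∀ y ∈ W, B x y = 0
  dec : ∀ v, ∃ p ∈ U, ∃ q ∈ W, v = p + q
  dimU : 3 ≤ finrank F U
  dimW : finrank F W = finrank F U

variable {U W : Submodule F V}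

lemma Halves.symm (h : Halves B U W) : Halves B W U :=
  ⟨h.alt, h.nd, h.tsW, h.tsU, fun v => by
    obtain ⟨p, hp, q, hq, e⟩ := h.dec v; exact ⟨q, hq, p, hp, e.trans (add_comm _ _)⟩,
    h.dimW.symm ▸ h.dimU, h.dimW.symm⟩

lemma Halves.disj (h : Halves B U W) {v : V} (hv : v ∈ U) (hv' : v ∈ W) : v = 0 := h.nd.1 v fun z => by
  obtain ⟨p, hp, q, hq, rfl⟩ := h.dec z
  rw [map_add, h.tsU v hv p hp, h.tsW v hv' q hq, add_zero]

variable [FiniteDimensional F V]

lemma Halves.exists_dual (h : Halves B U W) (φ : Dual F V) : ∃ w ∈ W, ∀ x ∈ U, B x w = φ x := by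
  obtain ⟨y, -, hy⟩ := Alt.exists_repr h.alt (Alt.ndon_top h.nd) φ
  obtain ⟨p, hp, q, hq, rfl⟩ := h.dec y
  refine ⟨q, hq, fun x hx => ?_⟩
  rw [← hy x trivial, map_add, h.tsU x hx p hp, zero_add]

lemma Halves.exists_one (h : Halves B U W) (N : Submodule F V) {x : V} (hx : x ∈ U) (hxN : x ∉ N) (hN : N ≤ U) :
    ∃ w ∈ W, B x w = 1 ∧ ∀ z ∈ N, B z w = 0 := by
  obtain ⟨φ, hφ, hle⟩ := N.exists_le_ker_of_notMem hxN
  obtain ⟨w, hw, hwφ⟩ := h.exists_dual ((φ x)⁻¹ • φ)
  refine ⟨w, hw, by rw [hwφ x hx, LinearMap.smul_apply, smul_eq_mul, inv_mul_cancel₀ hφ], fun z hz => ?_⟩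
  rw [hwφ z (hN hz), LinearMap.smul_apply, LinearMap.mem_ker.1 (hle hz), smul_zero]

/-- what is used of the stabiliser of the two halves -/
def Big (hA : B.IsAlt) (U W : Submodule F V) (M : Subgroup (V ≃ₗ[F] V)) : Prop :=
  ∀ g ∈ Alt.isoGroup B, (((∀ x ∈ U, g x ∈ U) ∧ ∀ x ∈ W, g x ∈ W) ∨ ((∀ x ∈ U, g x ∈ W) ∧ ∀ x ∈ W, g x ∈ U)) → g ∈ M

lemma Big.symm {hA : B.IsAlt} {M : Subgroup (V ≃ₗ[F] V)} (h : Big hA U W M) : Big hA W U M :=
  fun g hg hh => h g hg (hh.imp And.symm And.symm)

lemma Big.st_mem {hA : B.IsAlt} {M : Subgroup (V ≃ₗ[F] V)} (hH : Halves B U W) (h : Big hA U W M) {u w : V}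
    (hu : u ∈ U) (hw : w ∈ W) (huw : B u w = 0) : st hA u w ∈ M := by
  refine h _ (st_iso hA u w) (Or.inl ⟨fun x hx => ?_, fun x hx => ?_⟩)
  · rw [st_apply hA huw, hH.tsU x hx u hu, zero_smul, add_zero]; exact U.add_mem hx (U.smul_mem _ hu)
  · rw [st_apply hA huw, hH.tsW x hx w hw, zero_smul, add_zero]; exact W.add_mem hx (W.smul_mem _ hw)

lemma finrank_inf_ker (S : Submodule F V) (f : Dual F V) : finrank F S ≤ finrank F ↥(S ⊓ LinearMap.ker f) + 1 := by
  have h1 := (f.comp S.subtype).finrank_range_add_finrank_ker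
  have h2 : finrank F (LinearMap.range (f.comp S.subtype)) ≤ 1 :=
    (Submodule.finrank_le _).trans (le_of_eq (Module.finrank_self F))
  have h3 : finrank F (LinearMap.ker (f.comp S.subtype)) = finrank F ↥(S ⊓ LinearMap.ker f) := by
    rw [LinearMap.ker_comp, ← Submodule.finrank_map_subtype_eq S, Submodule.map_comap_subtype]
  omega

/-- a vector of the first half orthogonal to one vector and outside a given line -/
lemma Halves.exists_off (hH : Halves B U W) (q p : V) :
    ∃ u ∈ U, B u q = 0 ∧ u ∉ Submodule.span F {p} := by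
  obtain ⟨u, hu, hus⟩ := SetLike.not_le_iff_exists.1 (fun hle : U ⊓ LinearMap.ker (B.flip q) ≤ Submodule.span F {p} => by
    have h1 := Submodule.finrank_mono hle
    have h2 : finrank F (Submodule.span F {p}) ≤ 1 := (finrank_span_le_card ({p} : Set V)).trans (by simp)
    have h3 := finrank_inf_ker U (B.flip q)
    have := hH.dimU
    omega)
  exact ⟨u, hu.1, hu.2, hus⟩

/-- the case in which the first half does not work has independent components in the second -/
lemma Halves.indep_of_no (hH : Halves B U W) {pa qa qb : V}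
    (h : ¬∃ u ∈ U, B u qa = 0 ∧ B u qb = 0 ∧ u ∉ Submodule.span F {pa}) : qa ≠ 0 ∧ qb ∉ Submodule.span F {qa} := by
  refine ⟨fun h0 => h ?_, fun hs => h ?_⟩
  · obtain ⟨u, hu, hub, hus⟩ := hH.exists_off qb pa
    exact ⟨u, hu, by rw [h0, map_zero], hub, hus⟩
  · obtain ⟨l, rfl⟩ := Submodule.mem_span_singleton.1 hs
    obtain ⟨u, hu, hua, hus⟩ := hH.exists_off qa pa
    exact ⟨u, hu, hua, by rw [map_smul, hua, smul_zero], hus⟩

/-- the auxiliary vectors of `half_centres` -/
lemma exists_choice (hH : Halves B U W) (two : (2 : F) ≠ 0) {pa qa pb qb : V} (hpa : pa ∈ U) (hpb : pb ∈ U)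
    (hpa0 : pa ≠ 0) (hpb0 : pb ≠ 0)
    (hgood : pb ∈ Submodule.span F {pa} → ∃ u ∈ U, B u qa = 0 ∧ B u qb = 0 ∧ u ∉ Submodule.span F {pa}) :
    ∃ u ∈ U, B u qa = 0 ∧ B u qb = 0 ∧ u ≠ 0 ∧ ∃ w ∈ W, B u w = 0 ∧
      B pa w • pb + B pb w • pa ≠ 0 ∧ (u ∉ Submodule.span F {B pa w • pb + B pb w • pa} ∨
        (B pa w * B pb w = 0 ∧ B (B pa w • pb + B pb w • pa) (B pa w • qb + B pb w • qa) = 0)) := by
  by_cases hs : pb ∈ Submodule.span F {pa}
  · obtain ⟨u, hu, hua, hub, hus⟩ := hgood hs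
    have hu0 : u ≠ 0 := fun h => hus (h ▸ Submodule.zero_mem _)
    obtain ⟨l, rfl⟩ := Submodule.mem_span_singleton.1 hs
    obtain ⟨w, hw, h1, h0⟩ := hH.exists_one (Submodule.span F {u}) hpa (fun h => by
      obtain ⟨k, hk⟩ := Submodule.mem_span_singleton.1 h
      rcases eq_or_ne k 0 with rfl | hk0
      · exact hpa0 (by rw [← hk, zero_smul])
      · exact hus (Submodule.mem_span_singleton.2 ⟨k⁻¹, by rw [← hk, smul_smul, inv_mul_cancel₀ hk0, one_smul]⟩))
      (by rw [Submodule.span_singleton_le_iff_mem]; exact hu)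
    refine ⟨u, hu, hua, hub, hu0, w, hw, h0 u (Submodule.mem_span_singleton_self u), ?_, Or.inl fun h => hus ?_⟩
    · rw [map_smul, LinearMap.smul_apply, h1, smul_eq_mul, mul_one, one_smul, ← add_smul]
      exact smul_ne_zero (by rw [← two_mul]; exact mul_ne_zero two (fun h => hpb0 (by rw [h, zero_smul]))) hpa0
    · refine (Submodule.span_singleton_le_iff_mem _ _).2 ?_ h
      exact add_mem (Submodule.smul_mem _ _ (Submodule.smul_mem _ _ (Submodule.mem_span_singleton_self pa)))
        (Submodule.smul_mem _ _ (Submodule.mem_span_singleton_self pa))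
  · obtain ⟨u, hu, hu0⟩ := (U ⊓ LinearMap.ker (B.flip qa) ⊓ LinearMap.ker (B.flip qb)).exists_mem_ne_zero_of_ne_bot fun h => by
      have h2 := finrank_inf_ker U (B.flip qa)
      have h3 := finrank_inf_ker (U ⊓ LinearMap.ker (B.flip qa)) (B.flip qb)
      rw [h, finrank_bot] at h3
      have := hH.dimU
      omega
    obtain ⟨⟨hu, hua⟩, hub⟩ := hu
    replace hua : B u qa = 0 := hua
    replace hub : B u qb = 0 := hub
    by_cases hup : u ∈ Submodule.span F {pa, pb}
    · obtain ⟨s, t, rfl⟩ := Submodule.mem_span_pair.1 hup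
      obtain ⟨wa, hwa, ha1, ha0⟩ := hH.exists_one (Submodule.span F {pb}) hpa (fun h => hs (by
        obtain ⟨k, hk⟩ := Submodule.mem_span_singleton.1 h
        rcases eq_or_ne k 0 with rfl | hk0
        · exact absurd (by rw [← hk, zero_smul]) hpa0
        · exact Submodule.mem_span_singleton.2 ⟨k⁻¹, by rw [← hk, smul_smul, inv_mul_cancel₀ hk0, one_smul]⟩))
        (by rw [Submodule.span_singleton_le_iff_mem]; exact hpb)
      obtain ⟨wb, hwb, hb1, hb0⟩ := hH.exists_one (Submodule.span F {pa}) hpb hs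
        (by rw [Submodule.span_singleton_le_iff_mem]; exact hpa)
      have eA : B pa (t • wa - s • wb) = t := by simp [ha1, hb0 pa (Submodule.mem_span_singleton_self pa)]
      have eB : B pb (t • wa - s • wb) = -s := by simp [hb1, ha0 pb (Submodule.mem_span_singleton_self pb)]
      have hli : ∀ k k' : F, k • pa + k' • pb = 0 → k = 0 ∧ k' = 0 := fun k k' e => by
        rcases eq_or_ne k' 0 with rfl | hk'
        · rw [zero_smul, add_zero] at e; exact ⟨(smul_eq_zero.1 e).resolve_right hpa0, rfl⟩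
        · refine absurd (Submodule.mem_span_singleton.2 ⟨-(k'⁻¹ * k), ?_⟩) hs
          rw [neg_smul, mul_smul, eq_neg_of_add_eq_zero_left e, smul_neg, neg_neg, smul_smul, inv_mul_cancel₀ hk',
            one_smul]
      refine ⟨_, hu, hua, hub, hu0, _, W.sub_mem (W.smul_mem t hwa) (W.smul_mem s hwb), ?_, ?_, ?_⟩
      · rw [map_add, map_smul, map_smul, LinearMap.add_apply, LinearMap.smul_apply, LinearMap.smul_apply, eA, eB,
          smul_eq_mul, smul_eq_mul]
        ring
      · rw [eA, eB]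
        intro e
        obtain ⟨e1, e2⟩ := hli (-s) t (by rw [← e]; abel)
        exact hu0 (by rw [neg_eq_zero.1 e1, e2, zero_smul, zero_smul, add_zero])
      rw [eA, eB]
      by_cases hst : s = 0 ∨ t = 0
      · right
        refine ⟨by rcases hst with rfl | rfl <;> simp, ?_⟩
        simp only [map_add, map_smul, LinearMap.add_apply, LinearMap.smul_apply, smul_eq_mul] at hua hub ⊢
        rcases hst with rfl | rfl
        · simp only [neg_zero, zero_mul, mul_zero, add_zero, zero_add] at hub ⊢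
          rw [hub, mul_zero]
        · simp only [zero_mul, mul_zero, add_zero, zero_add] at hua ⊢
          linear_combination s * hua
      · left
        push Not at hst
        intro h
        obtain ⟨r, hr⟩ := Submodule.mem_span_singleton.1 h
        obtain ⟨e1, e2⟩ := hli (r * -s - s) (r * t - t) (by rw [← sub_eq_zero.2 hr]; module)
        have hr1 : r = 1 := mul_right_cancel₀ hst.2 (by rw [one_mul]; exact sub_eq_zero.1 e2)
        rw [hr1] at e1
        exact mul_ne_zero two hst.1 (by linear_combination -e1)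
    · obtain ⟨w, hw, h1, h0⟩ := hH.exists_one (Submodule.span F {u, pb}) hpa (fun h => by
        obtain ⟨k, k', hk⟩ := Submodule.mem_span_pair.1 h
        rcases eq_or_ne k 0 with rfl | hk0
        · rw [zero_smul, zero_add] at hk
          rcases eq_or_ne k' 0 with rfl | hk'
          · exact hpa0 (by rw [← hk, zero_smul])
          · exact hs (Submodule.mem_span_singleton.2 ⟨k'⁻¹, by rw [← hk, smul_smul, inv_mul_cancel₀ hk', one_smul]⟩)
        · refine hup (Submodule.mem_span_pair.2 ⟨k⁻¹, -(k⁻¹ * k'), ?_⟩)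
          rw [← hk, smul_add, smul_smul, smul_smul, inv_mul_cancel₀ hk0, one_smul, neg_smul, add_neg_cancel_right])
        (by rw [Submodule.span_le]; rintro x (rfl | rfl) <;> assumption)
      refine ⟨u, hu, hua, hub, hu0, w, hw, h0 u (Submodule.subset_span (Set.mem_insert _ _)), ?_, Or.inl ?_⟩ <;>
        rw [h1, h0 pb (Submodule.subset_span (Set.mem_insert_of_mem u (Set.mem_singleton pb))), one_smul, zero_smul, add_zero]
      · exact hpb0
      · intro h
        exact hup (Submodule.span_mono (Set.subset_insert pa {pb}) h)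

/-- one half becomes a set of centres -/
lemma half_centres (hH : Halves B U W) (hsq : ∀ c : F, ∃ x y : F, x ^ 2 + y ^ 2 = c) (two : (2 : F) ≠ 0)
    {M : Subgroup (V ≃ₗ[F] V)} (hM : Big hH.alt U W M) {a b : V} (hab : B a b = 0) (hmem : st hH.alt a b ∈ M)
    {pa qa pb qb : V} (hpa : pa ∈ U) (hqa : qa ∈ W) (hpb : pb ∈ U) (hqb : qb ∈ W) (hae : a = pa + qa) (hbe : b = pb + qb)
    (hpa0 : pa ≠ 0) (hpb0 : pb ≠ 0)
    (hgood : pb ∈ Submodule.span F {pa} → ∃ u ∈ U, B u qa = 0 ∧ B u qb = 0 ∧ u ∉ Submodule.span F {pa}) :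
    ∀ v ∈ U, v ∈ centres hH.alt M := by
  have hA := hH.alt
  obtain ⟨u, hu, hua, hub, hu0, w, hw, huw, hne, hus⟩ := exists_choice hH two hpa hpb hpa0 hpb0 hgood
  set c := B pa w • pb + B pb w • pa
  have hcU : c ∈ U := U.add_mem (U.smul_mem _ hpb) (U.smul_mem _ hpa)
  have hau : B a u = 0 := by
    rw [hae, Alt.neg' hA u, map_add, hH.tsU u hu pa hpa, zero_add, hua, neg_zero]
  have hbu : B b u = 0 := by
    rw [hbe, Alt.neg' hA u, map_add, hH.tsU u hu pb hpb, zero_add, hub, neg_zero]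
  set α := B a w with hα
  set β := B b w with hβ
  have hαe : α = B pa w := by rw [hα, hae, map_add, LinearMap.add_apply, hH.tsW qa hqa w hw, add_zero]
  have hβe : β = B pb w := by rw [hβ, hbe, map_add, LinearMap.add_apply, hH.tsW qb hqb w hw, add_zero]
  have hf := hM.st_mem hH hu hw huw
  have hmv : ∀ z, B z u = 0 → st hA u w z = z + B z w • u := fun z hz => by
    rw [st_apply hA huw, hz, zero_smul, add_zero]
  have hfst : st hA u (α • b + β • a + (α * β) • u) ∈ M := by
    have := mul_mem (mul_mem (mul_mem hf hmem) (inv_mem hf)) (inv_mem hmem)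
    rwa [conj_st hA (st_iso hA u w), hmv a hau, hmv b hbu, ← hα, ← hβ, st_shift hA α β hab hau hbu, mul_inv_cancel_right] at this
  set P₀ := α • pb + β • pa + (α * β) • u with hP₀def
  set Q := α • qb + β • qa
  have hP₀ : P₀ ∈ U := U.add_mem (U.add_mem (U.smul_mem _ hpb) (U.smul_mem _ hpa)) (U.smul_mem _ hu)
  have hQ : Q ∈ W := W.add_mem (W.smul_mem _ hqb) (W.smul_mem _ hqa)
  have hPQ : α • b + β • a + (α * β) • u = P₀ + Q := by rw [hae, hbe]; simp only [P₀, Q]; module
  have huQ : B u Q = 0 := by simp [Q, hua, hub]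
  set k₀ := B P₀ Q / 2
  set P := P₀ + k₀ • u with hPdef
  have hP : P ∈ U := U.add_mem hP₀ (U.smul_mem _ hu)
  have hP0 : P ≠ 0 := fun h => by
    rw [hPdef, hP₀def, add_assoc, ← add_smul, hαe, hβe] at h
    rcases eq_or_ne (B pa w * B pb w + k₀) 0 with h0 | h0
    · rw [h0, zero_smul, add_zero] at h
      exact hne h
    · have e : (B pa w * B pb w + k₀) • u = -c := eq_neg_of_add_eq_zero_right h
      rcases hus with hus | ⟨hz, hcQ⟩
      · refine hus (Submodule.mem_span_singleton.2 ⟨-(B pa w * B pb w + k₀)⁻¹, ?_⟩)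
        rw [neg_smul, ← smul_neg, ← e, smul_smul, inv_mul_cancel₀ h0, one_smul]
      · refine h0 ?_
        have hk : B P₀ Q = 0 := by
          simp only [P₀, Q, hαe, hβe, hz, zero_smul, add_zero]
          exact hcQ
        rw [hz, show k₀ = 0 by simp only [k₀]; rw [hk, zero_div], add_zero]
  have hstP : st hA u P ∈ M := by
    have h2 : P + Q + (B Q P / 2) • u = P₀ + Q := by
      have e : B Q P = -B P₀ Q := by
        rw [hPdef, map_add, map_smul, Alt.neg' hA u Q, huQ, Alt.neg' hA P₀ Q]; simp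
      rw [e, hPdef, neg_div, neg_smul]
      simp only [k₀]
      abel
    have := mul_mem hfst (inv_mem (hM.st_mem hH hu hQ huQ))
    rwa [hPQ, ← h2, ← st_mul hA two (hH.tsU u hu P hP) huQ, mul_inv_cancel_right] at this
  obtain ⟨c₀, hc₀, hmem₀⟩ : ∃ k : F, k ≠ 0 ∧ Alt.tv hA u k ∈ M := by
    by_cases hs : P ∈ Submodule.span F {u}
    · obtain ⟨k, hk⟩ := Submodule.mem_span_singleton.1 hs
      refine ⟨2 * k, mul_ne_zero two fun h => hP0 (by rw [← hk, h, zero_smul]), ?_⟩
      rw [← st_self, hk]; exact hstP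
    · obtain ⟨w', hw', h1, h0⟩ := hH.exists_one _ hP hs (by rw [Submodule.span_singleton_le_iff_mem]; exact hu)
      have huw' : B u w' = 0 := h0 u (Submodule.mem_span_singleton_self u)
      have hmv' : ∀ z ∈ U, st hA u w' z = z + B z w' • u := fun z hz => by
        rw [st_apply hA huw', hH.tsU z hz u hu, zero_smul, add_zero]
      have hg := hM.st_mem hH hu hw' huw'
      have := mul_mem (mul_mem (mul_mem hg hstP) (inv_mem hg)) (inv_mem hstP)
      rw [conj_st hA (st_iso hA u w'), hmv' u hu, hmv' P hP, huw', h1, zero_smul, add_zero, one_smul, add_comm P u,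
        st_add hA (hA u) (hH.tsU u hu P hP) (hH.tsU u hu P hP), mul_inv_cancel_right] at this
      refine ⟨2 * 1, by rwa [mul_one], ?_⟩
      rw [← st_self, one_smul]; exact this
  -- transitivity on the half
  have hindep : ∀ x ∈ U, ∀ y ∈ U, x ≠ 0 → y ∉ Submodule.span F {x} → ∀ k, Alt.tv hA x k ∈ M → Alt.tv hA y k ∈ M := by
    intro x hx y hy hx0 hys k hk
    have hxd : x ∉ Submodule.span F {y - x} := fun h => by
      obtain ⟨l, hl⟩ := Submodule.mem_span_singleton.1 h
      rcases eq_or_ne l 0 with rfl | hl0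
      · exact hx0 (by rw [← hl, zero_smul])
      · refine hys (Submodule.mem_span_singleton.2 ⟨l⁻¹ + 1, ?_⟩)
        rw [add_smul, one_smul]
        conv_lhs => arg 1; rw [← hl, smul_smul, inv_mul_cancel₀ hl0, one_smul]
        abel
    obtain ⟨w', hw', h1, h0⟩ := hH.exists_one _ hx hxd (by rw [Submodule.span_singleton_le_iff_mem]; exact U.sub_mem hy hx)
    have hd := h0 _ (Submodule.mem_span_singleton_self _)
    have hg := hM.st_mem hH (U.sub_mem hy hx) hw' hd
    have := mul_mem (mul_mem hg hk) (inv_mem hg)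
    rwa [Alt.conj_tv hA (st_iso hA _ _), st_apply hA hd, h1, hH.tsU x hx _ (U.sub_mem hy hx), zero_smul, add_zero, one_smul,
      add_sub_cancel] at this
  have htrans : ∀ y ∈ U, y ≠ 0 → ∀ k, Alt.tv hA u k ∈ M → Alt.tv hA y k ∈ M := by
    intro y hy hy0 k hk
    by_cases hs : y ∈ Submodule.span F {u}
    · obtain ⟨z, hz, hzs⟩ := SetLike.not_le_iff_exists.1 (fun hle : U ≤ Submodule.span F {u} => by
        have h1 := Submodule.finrank_mono hle
        rw [finrank_span_singleton hu0] at h1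
        have := hH.dimU; omega)
      obtain ⟨l, rfl⟩ := Submodule.mem_span_singleton.1 hs
      have hz0 : z ≠ 0 := fun h => hzs (h ▸ Submodule.zero_mem _)
      refine hindep z hz _ hy hz0 (fun h => hzs ?_) k (hindep u hu z hz hu0 hzs k hk)
      obtain ⟨l', hl'⟩ := Submodule.mem_span_singleton.1 h
      have hl0 : l' ≠ 0 := fun h0 => hy0 (by rw [← hl', h0, zero_smul])
      exact Submodule.mem_span_singleton.2 ⟨l'⁻¹ * l, by rw [mul_smul, ← hl', smul_smul, inv_mul_cancel₀ hl0, one_smul]⟩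
    · exact hindep u hu y hy hu0 hs k hk
  intro y hy k
  rcases eq_or_ne y 0 with rfl | hy0
  · exact zero_mem_centres k
  obtain ⟨x₁, x₂, hx⟩ := hsq (k / c₀)
  have hone : ∀ l : F, Alt.tv hA y (c₀ * l ^ 2) ∈ M := fun l => by
    rcases eq_or_ne l 0 with rfl | hl
    · rw [zero_pow two_ne_zero, mul_zero, Alt.tv_zero]; exact one_mem M
    have := htrans (l • y) (U.smul_mem l hy) (smul_ne_zero hl hy0) c₀ hmem₀
    rwa [Alt.tv_smul, mul_comm] at this
  have := mul_mem (hone x₁) (hone x₂)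
  rwa [Alt.tv_add, ← mul_add, hx, mul_div_cancel₀ _ hc₀] at this

lemma Halves.ext (h : Halves B U W) {x y : V} (hU : ∀ z ∈ U, B x z = B y z) (hW : ∀ z ∈ W, B x z = B y z) : x = y := by
  refine sub_eq_zero.1 (h.nd.1 _ fun z => ?_)
  obtain ⟨p, hp, q, hq, rfl⟩ := h.dec z
  simp [hU p hp, hW q hq]

/-- an element interchanging the halves -/
lemma exists_swap (hH : Halves B U W) :
    ∃ h ∈ Alt.isoGroup B, (∀ x ∈ U, h x ∈ W) ∧ ∀ x ∈ W, h x ∈ U := by
  classical
  set n := finrank F U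
  let e := Module.finBasis F U
  have hφ : ∀ i, ∃ w ∈ W, ∀ x : U, B x w = e.repr x i := fun i => by
    obtain ⟨φ, hφ⟩ := LinearMap.exists_extend (e.coord i)
    obtain ⟨w, hw, hwφ⟩ := hH.exists_dual φ
    exact ⟨w, hw, fun x => by rw [hwφ x x.2]; exact LinearMap.congr_fun hφ x⟩
  choose f hf hfe using hφ
  let h : V →ₗ[F] V := ∑ i, ((B.flip (f i)).smulRight (f i) + (B.flip (e i : V)).smulRight (e i : V))
  have happ : ∀ x, h x = ∑ i, (B x (f i) • f i + B x (e i) • (e i : V)) := fun x => by simp [h]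
  have hU : ∀ x ∈ U, (∑ i, B x (f i) • (e i : V)) = x := fun x hx => by
    have := congrArg (Subtype.val) (e.sum_repr ⟨x, hx⟩)
    rw [Submodule.coe_sum] at this
    simp only [hfe _ ⟨x, hx⟩]
    exact this
  have hexp : ∀ x, x = ∑ i, (B x (f i) • (e i : V) - B x (e i) • f i) := fun x => by
    obtain ⟨p, hp, q, hq, rfl⟩ := hH.dec x
    have hq' : q = -∑ i, B q (e i) • f i := by
      refine hH.ext (fun z hz => ?_) fun z hz => ?_
      · rw [map_neg, LinearMap.neg_apply, map_sum, LinearMap.sum_apply]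
        conv_lhs => rw [← hU z hz, map_sum]
        rw [← Finset.sum_neg_distrib]
        refine Finset.sum_congr rfl fun i _ => ?_
        rw [map_smul, smul_eq_mul, map_smul, LinearMap.smul_apply, smul_eq_mul, Alt.neg' hH.alt z (f i)]
        ring
      · rw [hH.tsW q hq z hz, map_neg, LinearMap.neg_apply, map_sum, LinearMap.sum_apply, Finset.sum_eq_zero fun i _ => ?_, neg_zero]
        rw [map_smul, LinearMap.smul_apply, hH.tsW (f i) (hf i) z hz, smul_zero]
    rw [Finset.sum_sub_distrib]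
    have h1 : ∀ i, B (p + q) (f i) = B p (f i) := fun i => by rw [map_add, LinearMap.add_apply, hH.tsW q hq (f i) (hf i), add_zero]
    have h2 : ∀ i, B (p + q) (e i) = B q (e i) := fun i => by rw [map_add, LinearMap.add_apply, hH.tsU p hp (e i) (e i).2, zero_add]
    simp only [h1, h2]
    rw [hU p hp, sub_eq_add_neg, ← hq']
  have hform : ∀ x y, B (h x) (h y) = B x y := fun x y => by
    have hinner : ∀ i j, B (B x (f i) • f i + B x (e i) • (e i : V)) (B y (f j) • f j + B y (e j) • (e j : V)) =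
        if j = i then B x (e i) * B y (f i) - B x (f i) * B y (e i) else 0 := fun i j => by
      have hd : B (e i : V) (f j) = if j = i then (1 : F) else 0 := by
        rw [hfe, e.repr_self, Finsupp.single_apply]; simp [eq_comm]
      have hd' : B (e j : V) (f i) = if j = i then (1 : F) else 0 := by
        rw [hfe, e.repr_self, Finsupp.single_apply]
      simp only [map_add, map_smul, LinearMap.add_apply, LinearMap.smul_apply, smul_eq_mul, hH.tsW (f i) (hf i) (f j) (hf j),
        hH.tsU _ (e i).2 _ (e j).2, Alt.neg' hH.alt (e j : V) (f i), hd, hd']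
      split_ifs with hij
      · subst hij; ring
      · ring
    rw [happ, happ]
    simp only [map_sum, LinearMap.sum_apply, hinner]
    conv_rhs => rw [hexp x]
    simp only [map_sum, LinearMap.sum_apply]
    refine Finset.sum_congr rfl fun i _ => ?_
    rw [Finset.sum_ite_eq]
    simp only [Finset.mem_univ, if_true, map_sub, map_smul, LinearMap.sub_apply, LinearMap.smul_apply, smul_eq_mul,
      Alt.neg' hH.alt y (e i : V), Alt.neg' hH.alt y (f i)]
    ring
  have hinj : Function.Injective h := LinearMap.ker_eq_bot.1 (LinearMap.ker_eq_bot'.2 fun x hx => hH.nd.1 x fun y => by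
    rw [← hform, hx, map_zero, LinearMap.zero_apply])
  refine ⟨LinearEquiv.ofInjectiveEndo h hinj, fun x y => hform x y, fun x hx => ?_, fun x hx => ?_⟩
  · show h x ∈ W
    rw [happ]
    exact W.sum_mem fun i _ => by
      rw [hH.tsU x hx _ (e i).2, zero_smul, add_zero]; exact W.smul_mem _ (hf i)
  · show h x ∈ U
    rw [happ]
    exact U.sum_mem fun i _ => by
      rw [hH.tsW x hx _ (hf i), zero_smul, zero_add]; exact U.smul_mem _ (e i).2

lemma sub_union {U W : Submodule F V} (g : V ≃ₗ[F] V) (h : ∀ x ∈ U, g x ∈ U ∨ g x ∈ W) :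
    (∀ x ∈ U, g x ∈ U) ∨ ∀ x ∈ U, g x ∈ W := by
  by_contra! hc
  obtain ⟨⟨x, hx, hxU⟩, y, hy, hyW⟩ := hc
  rcases h _ (U.add_mem hx hy) with h' | h' <;> rw [map_add] at h'
  · exact hxU ((Submodule.add_mem_iff_left _ ((h y hy).resolve_right hyW)).1 h')
  · exact hyW ((Submodule.add_mem_iff_right _ ((h x hx).resolve_left hxU)).1 h')

lemma all_centres (hH : Halves B U W) (hsq : ∀ c : F, ∃ x y : F, x ^ 2 + y ^ 2 = c) (two : (2 : F) ≠ 0)
    {M : Subgroup (V ≃ₗ[F] V)} (hM : Big hH.alt U W M) (g : V ≃ₗ[F] V) (hgM : g ∈ M) (hgi : g ∈ Alt.isoGroup B)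
    (hg : ¬(((∀ x ∈ U, g x ∈ U) ∧ ∀ x ∈ W, g x ∈ W) ∨ ((∀ x ∈ U, g x ∈ W) ∧ ∀ x ∈ W, g x ∈ U))) :
    ∀ v, v ∈ centres hH.alt M := by
  have hA := hH.alt
  obtain ⟨u, hu, w, hw, huw, hnot⟩ : ∃ u ∈ U, ∃ w ∈ W, B u w = 0 ∧ ((g u ∉ W ∧ g w ∉ W) ∨ (g u ∉ U ∧ g w ∉ U)) := by
    by_contra! hc
    have key : ∀ u ∈ U, ∀ w ∈ W, B u w = 0 → u ≠ 0 → w ≠ 0 → (g u ∈ U ∧ g w ∈ W) ∨ (g u ∈ W ∧ g w ∈ U) := by
      intro u hu w hw huw hu0 hw0
      obtain ⟨h1, h2⟩ := hc u hu w hw huw
      by_cases h3 : g u ∈ W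
      · exact Or.inr ⟨h3, h2 fun h => hu0 (g.map_eq_zero_iff.1 (hH.disj h h3))⟩
      · have h4 := h1 h3
        refine Or.inl ⟨?_, h4⟩
        by_contra h5
        exact hw0 (g.map_eq_zero_iff.1 (hH.disj (h2 h5) h4))
    have sub : ∀ {U W : Submodule F V}, Halves B U W → ∀ u ∈ U, ∃ w ∈ W, w ≠ 0 ∧ B u w = 0 := by
      intro U W hH u hu
      obtain ⟨y, hy, hys⟩ := SetLike.not_le_iff_exists.1 (fun hle : U ≤ Submodule.span F {u} => by
        have h1 := Submodule.finrank_mono hle
        have h2 : finrank F (Submodule.span F {u}) ≤ 1 := (finrank_span_le_card ({u} : Set V)).trans (by simp)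
        have := hH.dimU; omega)
      obtain ⟨w, hw, h1, h0⟩ := hH.exists_one _ hy hys (by rw [Submodule.span_singleton_le_iff_mem]; exact hu)
      exact ⟨w, hw, fun h => by simp [h] at h1, h0 u (Submodule.mem_span_singleton_self u)⟩
    have hU' : ∀ x ∈ U, g x ∈ U ∨ g x ∈ W := fun x hx => by
      rcases eq_or_ne x 0 with rfl | hx0
      · left; simp
      · obtain ⟨w, hw, hw0, hxw⟩ := sub hH x hx
        exact (key x hx w hw hxw hx0 hw0).imp And.left And.left
    have hW' : ∀ x ∈ W, g x ∈ W ∨ g x ∈ U := fun x hx => by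
      rcases eq_or_ne x 0 with rfl | hx0
      · left; simp
      · obtain ⟨u, hu, hu0, hxu⟩ := sub hH.symm x hx
        exact (key u hu x hx (by rw [Alt.neg' hA x u, hxu, neg_zero]) hu0 hx0).imp And.right And.right
    obtain ⟨y, hy, hy0⟩ := U.exists_mem_ne_zero_of_ne_bot fun h => by
      have := hH.dimU; rw [h, finrank_bot] at this; omega
    obtain ⟨w, hw, hw0, hyw⟩ := sub hH y hy
    refine hg ?_
    rcases sub_union g hU' with h | h
    · refine Or.inl ⟨h, ?_⟩
      rcases sub_union g hW' with h' | h'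
      · exact h'
      · exfalso
        rcases key y hy w hw hyw hy0 hw0 with ⟨-, h3⟩ | ⟨h3, -⟩
        · exact hw0 (g.map_eq_zero_iff.1 (hH.disj (h' w hw) h3))
        · exact hy0 (g.map_eq_zero_iff.1 (hH.disj (h y hy) h3))
    · refine Or.inr ⟨h, ?_⟩
      rcases sub_union g hW' with h' | h'
      · exfalso
        rcases key y hy w hw hyw hy0 hw0 with ⟨h3, -⟩ | ⟨-, h3⟩
        · exact hy0 (g.map_eq_zero_iff.1 (hH.disj h3 (h y hy)))
        · exact hw0 (g.map_eq_zero_iff.1 (hH.disj h3 (h' w hw)))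
      · exact h'
  obtain ⟨pa, hpa, qa, hqa, hae⟩ := hH.dec (g u)
  obtain ⟨pb, hpb, qb, hqb, hbe⟩ := hH.dec (g w)
  have hab : B (g u) (g w) = 0 := (hgi u w).trans huw
  have hmem : st hA (g u) (g w) ∈ M := by
    rw [← conj_st hA hgi]; exact mul_mem (mul_mem hgM (hM.st_mem hH hu hw huw)) (inv_mem hgM)
  obtain ⟨h, hhi, hhU, hhW⟩ := exists_swap hH
  have hhM : h ∈ M := hM h hhi (Or.inr ⟨hhU, hhW⟩)
  have hboth : (∀ v ∈ U, v ∈ centres hA M) ∧ ∀ v ∈ W, v ∈ centres hA M := by
    suffices h1 : (∀ v ∈ U, v ∈ centres hA M) ∨ ∀ v ∈ W, v ∈ centres hA M by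
      rcases h1 with hc | hc
      · refine ⟨hc, fun v hv => ?_⟩
        have := map_mem_centres (hc (h v) (hhW v hv)) (inv_mem hhM) (inv_mem hhi)
        rwa [show h⁻¹ (h v) = v from h.symm_apply_apply v] at this
      · refine ⟨fun v hv => ?_, hc⟩
        have := map_mem_centres (hc (h v) (hhU v hv)) (inv_mem hhM) (inv_mem hhi)
        rwa [show h⁻¹ (h v) = v from h.symm_apply_apply v] at this
    have goU := fun hpa0 hpb0 hgood => half_centres hH hsq two hM hab hmem hpa hqa hpb hqb hae hbe hpa0 hpb0 hgood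
    have goW := fun hqa0 hqb0 hgood => half_centres hH.symm hsq two hM.symm hab hmem hqa hpa hqb hpb
      (hae.trans (add_comm _ _)) (hbe.trans (add_comm _ _)) hqa0 hqb0 hgood
    rcases hnot with ⟨ha, hb⟩ | ⟨ha, hb⟩
    · by_cases hgood : pb ∈ Submodule.span F {pa} ∧ ¬∃ u ∈ U, B u qa = 0 ∧ B u qb = 0 ∧ u ∉ Submodule.span F {pa}
      · obtain ⟨h0, h1⟩ := hH.indep_of_no hgood.2
        exact Or.inr (goW h0 (fun e => h1 (e ▸ Submodule.zero_mem _)) fun e => absurd e h1)
      · exact Or.inl (goU (fun h0 => ha (by rw [hae, h0, zero_add]; exact hqa))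
          (fun h0 => hb (by rw [hbe, h0, zero_add]; exact hqb)) fun e => by_contra fun e' => hgood ⟨e, e'⟩)
    · by_cases hgood : qb ∈ Submodule.span F {qa} ∧ ¬∃ u ∈ W, B u pa = 0 ∧ B u pb = 0 ∧ u ∉ Submodule.span F {qa}
      · obtain ⟨h0, h1⟩ := hH.symm.indep_of_no hgood.2
        exact Or.inl (goU h0 (fun e => h1 (e ▸ Submodule.zero_mem _)) fun e => absurd e h1)
      · exact Or.inr (goW (fun h0 => ha (by rw [hae, h0, add_zero]; exact hpa))
          (fun h0 => hb (by rw [hbe, h0, add_zero]; exact hpb)) fun e => by_contra fun e' => hgood ⟨e, e'⟩)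
  intro v
  obtain ⟨p, hp, q, hq, rfl⟩ := hH.dec v
  rcases eq_or_ne q 0 with rfl | hq0
  · rw [add_zero]; exact hboth.1 p hp
  rcases eq_or_ne (B p q) 0 with hpq | hpq
  · obtain ⟨p₁, hp₁, hpq₁⟩ : ∃ x ∈ U, B x q ≠ 0 := by
      by_contra! hc
      refine hq0 (hH.nd.1 q fun z => ?_)
      obtain ⟨x, hx, y, hy, rfl⟩ := hH.dec z
      rw [map_add, Alt.neg' hA x q, hc x hx, hH.tsW q hq y hy]; simp
    have h1 := add_smul_mem_centres (hboth.1 p₁ hp₁) (hboth.2 q hq) hpq₁ 1
    rw [one_smul] at h1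
    have hne : B (p₁ + q) (p - p₁) ≠ 0 := by
      rw [map_add, LinearMap.add_apply, hH.tsU p₁ hp₁ _ (U.sub_mem hp hp₁), zero_add, map_sub, Alt.neg' hA p q, hpq,
        Alt.neg' hA p₁ q]
      simpa using hpq₁
    have h2 := add_smul_mem_centres h1 (hboth.1 _ (U.sub_mem hp hp₁)) hne 1
    rwa [one_smul, show p₁ + q + (p - p₁) = p + q by abel] at h2
  · have h1 := add_smul_mem_centres (hboth.1 p hp) (hboth.2 q hq) hpq 1
    rwa [one_smul] at h1

end

/-- the statement with the bound on `m` lowered -/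
theorem maximal {F : Type*} [Field F] [Fintype F] (m : ℕ) (hm : 3 ≤ m) (hodd : Odd (Fintype.card F)) (D : Fin 2 → Submodule F (Fin m ⊕ Fin m → F)) (hD : Cfsg.Geo.IsMDecomposition m D) (hts : ∀ i, Cfsg.Geo.IsTotallySingularFor (Cfsg.sympForm m F) (D i)) : Cfsg.Geo.IsMaximalIn (Cfsg.spGL m F) (Cfsg.Geo.decompositionStabilizer D ⊓ Cfsg.spGL m F) := by
  classical
  set B := sympB m F
  have hBf : ∀ x y, B x y = Cfsg.sympForm m F x y := fun x y => sympB_apply x y
  have hsup : D 0 ⊔ D 1 = ⊤ := by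
    rw [← hD.iSup_eq_top]
    refine le_antisymm (sup_le (le_iSup D 0) (le_iSup D 1)) (iSup_le fun i => ?_)
    fin_cases i
    · exact le_sup_left
    · exact le_sup_right
  have hH : Halves B (D 0) (D 1) :=
    { alt := sympB_isAlt
      nd := sympB_nondeg
      tsU := fun x hx y hy => by rw [hBf]; exact hts 0 x hx y hy
      tsW := fun x hx y hy => by rw [hBf]; exact hts 1 x hx y hy
      dec := fun v => by
        obtain ⟨p, hp, q, hq, e⟩ := Submodule.mem_sup.1 (hsup.ge (Submodule.mem_top (x := v)))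
        exact ⟨p, hp, q, hq, e.symm⟩
      dimU := by rw [hD.finrank_eq]; exact hm
      dimW := by rw [hD.finrank_eq, hD.finrank_eq] }
  have hodd' : Fintype.card F % 2 = 1 := Nat.odd_iff.1 hodd
  have two : (2 : F) ≠ 0 := Ring.two_ne_zero fun h => by
    rw [FiniteField.even_card_iff_char_two.1 h] at hodd'; simp at hodd'
  have hsq : ∀ c : F, ∃ x y : F, x ^ 2 + y ^ 2 = c := fun c => by
    obtain ⟨a, b, h⟩ := FiniteField.exists_root_sum_quadratic (f := (Polynomial.X ^ 2 : Polynomial F))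
      (g := Polynomial.X ^ 2 - Polynomial.C c) (Polynomial.degree_X_pow 2) (Polynomial.degree_X_pow_sub_C two_pos c) hodd'
    simp only [Polynomial.eval_pow, Polynomial.eval_X, Polynomial.eval_sub, Polynomial.eval_C] at h
    exact ⟨a, b, by linear_combination h⟩
  obtain ⟨u, hu, hu0⟩ := (D 0).exists_mem_ne_zero_of_ne_bot fun h => by
    have := hD.finrank_eq 0; rw [h, finrank_bot] at this; omega
  obtain ⟨w, hw, h1, -⟩ := hH.exists_one ⊥ hu (by simpa using hu0) bot_le
  refine isMaximalIn_spGL _ ⟨u + w, 1, fun hmem => ?_⟩ fun M hK ⟨g, hgM, hgi, hgK⟩ => ?_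
  · obtain ⟨σ, hσ⟩ := hmem
    have h2 : Alt.tv (sympB_isAlt (F := F) (m := m)) (u + w) 1 u ∈ D (σ 0) := by
      rw [← hσ 0]
      exact ⟨u, hu, by rw [Matrix.toLin'_apply]; exact symm_mulVec _ u⟩
    rw [Alt.tv_apply, one_mul, map_add, sympB_isAlt u, h1, zero_add, one_smul] at h2
    have hw0 : w ≠ 0 := fun h => by rw [h, map_zero] at h1; exact zero_ne_one h1
    generalize σ 0 = i at h2
    fin_cases i
    · refine hw0 (hH.disj ?_ hw)
      have : w = u + (u + w) - u - u := by abel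
      rw [this]; exact (D 0).sub_mem ((D 0).sub_mem h2 hu) hu
    · have h3 : (2 : F) • u ∈ D 1 := by
        have : (2 : F) • u = u + (u + w) - w := by rw [two_smul]; abel
        rw [this]; exact (D 1).sub_mem h2 hw
      exact hu0 (hH.disj hu (((D 1).smul_mem_iff two).1 h3))
  · have rk : ∀ (f : (Fin m ⊕ Fin m → F) ≃ₗ[F] (Fin m ⊕ Fin m → F)),
        (((∀ x ∈ D 0, f x ∈ D 0) ∧ ∀ x ∈ D 1, f x ∈ D 1) ∨ ((∀ x ∈ D 0, f x ∈ D 1) ∧ ∀ x ∈ D 1, f x ∈ D 0)) →
        (glEquiv (Fin m ⊕ Fin m) F).symm f ∈ Cfsg.Geo.decompositionStabilizer D := by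
      intro f hf
      obtain ⟨σ, hσ⟩ : ∃ σ : Equiv.Perm (Fin 2), ∀ i, ∀ x ∈ D i, f x ∈ D (σ i) := by
        rcases hf with ⟨h0, h1⟩ | ⟨h0, h1⟩
        · exact ⟨1, fun i => by fin_cases i <;> simpa⟩
        · exact ⟨Equiv.swap 0 1, fun i => by fin_cases i <;> simpa⟩
      refine ⟨σ, fun i => ?_⟩
      have e : Matrix.toLin' (((glEquiv (Fin m ⊕ Fin m) F).symm f : Matrix.GeneralLinearGroup (Fin m ⊕ Fin m) F) : Matrix (Fin m ⊕ Fin m) (Fin m ⊕ Fin m) F) = f.toLinearMap :=
        LinearMap.ext fun x => by rw [Matrix.toLin'_apply]; exact symm_mulVec f x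
      rw [e]
      exact Submodule.eq_of_le_of_finrank_eq (by rintro _ ⟨x, hx, rfl⟩; exact hσ i x hx)
        (by rw [LinearEquiv.finrank_map_eq, hD.finrank_eq, hD.finrank_eq])
    exact all_centres hH hsq two (fun f hf hf' => hK f hf (rk f hf')) g hgM hgi fun h => hgK (rk g h)

/-- For a finite field F of odd order and m ≥ 7, let D be a decomposition of F^(2m) into two complementary subspaces of dimension m on each of which the standard alternating form vanishes identically. Then the elements of Sp_2m(F) preserving or interchanging the two subspaces form a maximal subgroup of Sp_2m(F). -/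
theorem result {F : Type*} [Field F] [Fintype F] (m : ℕ) (hm : 7 ≤ m) (hodd : Odd (Fintype.card F)) (D : Fin 2 → Submodule F (Fin m ⊕ Fin m → F)) (hD : Cfsg.Geo.IsMDecomposition m D) (hts : ∀ i, Cfsg.Geo.IsTotallySingularFor (Cfsg.sympForm m F) (D i)) : Cfsg.Geo.IsMaximalIn (Cfsg.spGL m F) (Cfsg.Geo.decompositionStabilizer D ⊓ Cfsg.spGL m F) :=
  maximal m (by omega) hodd D hD hts

end Cfsg.Agent.S5649
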