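import Cfsg.Statements.S5650
import Cfsg.Agent.ClassicalMax.Subfield.Sympl

set_option autoImplicit false
open Cfsg

namespace Cfsg.Agent.S5650

open Module Cfsg.Agent.ClassicalMax Cfsg.Agent.ClassicalMax.Subfield Cfsg.Agent.Classical

/-- the statement with the bound on `m` lowered -/
theorem maximal {F : Type*} [Field F] [Fintype F] (m : ℕ) (hm : 3 ≤ m) (F₀ : Subfield F) (r : ℕ) (hr : r.Prime) (hcard : Fintype.card F = Nat.card F₀ ^ r) (P : Matrix.GeneralLinearGroup (Fin m ⊕ Fin m) F) (ζ : F) (hζ : ζ ≠ 0) (hP : Cfsg.Geo.IsFormRationalStructure (Cfsg.sympForm m F) F₀ ζ P) : Cfsg.Geo.IsMaximalIn (Cfsg.spGL m F) (Cfsg.Geo.subfieldSubgroup F₀ P ⊓ Cfsg.spGL m F) := by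
  classical
  set e : (Fin m ⊕ Fin m → F) ≃ₗ[F] (Fin m ⊕ Fin m → F) := glEquiv (Fin m ⊕ Fin m) F P with he
  set B : LinearMap.BilinForm F (Fin m ⊕ Fin m → F) := ζ • (sympB m F).compl₁₂ e.toLinearMap e.toLinearMap with hBd
  have hB : ∀ x y, B x y = ζ * sympB m F (e x) (e y) := fun x y => rfl
  have hA : B.IsAlt := fun x => by rw [hB, sympB_isAlt, mul_zero]
  have hK : ∀ g, g ∈ Cfsg.Geo.subfieldSubgroup F₀ P ↔ Ratty F₀ (e⁻¹ * glEquiv (Fin m ⊕ Fin m) F g * e) := fun g => by
    rw [he, ← map_inv, ← map_mul, ← map_mul, ← mem_ratScalar_iff, Cfsg.Geo.subfieldSubgroup, Subgroup.mem_map]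
    constructor
    · rintro ⟨y, hy, rfl⟩
      simpa [MulAut.conj_apply, mul_assoc] using hy
    · intro h
      exact ⟨_, h, by simp [MulAut.conj_apply, mul_assoc]⟩
  have htv : ∀ v c, e * Alt.tv hA v c * e⁻¹ = Alt.tv sympB_isAlt (e v) (c * ζ) := fun v c => LinearEquiv.ext fun x => by
    rw [LinearEquiv.mul_apply, LinearEquiv.mul_apply, Alt.tv_apply, Alt.tv_apply, hB, map_add, map_smul, apply_inv]
    ring_nf
  obtain ⟨l, hl⟩ : ∃ l, l ∉ F₀ := by
    by_contra! hc
    have h1 : Nat.card F₀ = Nat.card F := Nat.card_congr (Equiv.subtypeUnivEquiv hc)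
    have h0 : 1 < Nat.card F₀ := Finite.one_lt_card
    rw [Nat.card_eq_fintype_card (α := F), hcard] at h1
    have := Nat.pow_right_injective h0 ((pow_one _).trans h1)
    exact hr.ne_one this.symm
  have hform : ∀ u v, RV F₀ u → RV F₀ v → B u v ∈ F₀ := fun u v hu hv => by
    rw [hB, sympB_apply]
    exact hP u v hu hv
  refine isMaximalIn_spGL _ ?_ ?_
  · set i₀ : Fin m ⊕ Fin m := Sum.inl ⟨0, by omega⟩ with hi₀
    refine ⟨e (Pi.single i₀ 1), l * ζ, fun h => ?_⟩
    rw [hK, MulEquiv.apply_symm_apply, ← htv] at h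
    rw [show e⁻¹ * (e * Alt.tv hA (Pi.single i₀ 1) l * e⁻¹) * e = Alt.tv hA (Pi.single i₀ 1) l by group] at h
    obtain ⟨b, hb, hbr⟩ := h
    obtain ⟨j, hj⟩ : ∃ j, B (Pi.single j 1) (Pi.single i₀ 1) ≠ 0 := by
      by_contra! hc
      have h0 : e (Pi.single i₀ 1) = 0 := sympB_nondeg.2 _ fun y => by
        have h1 : B (e⁻¹ y) (Pi.single i₀ 1) = 0 := by
          rw [eq_sum_single (e⁻¹ y), map_sum, LinearMap.sum_apply]
          simp [hc]
        rw [hB, apply_inv] at h1
        exact (mul_eq_zero.1 h1).resolve_left hζ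
      have := congrFun (e.map_eq_zero_iff.1 h0) i₀
      simp at this
    obtain ⟨k, hki, hkj⟩ : ∃ k, k ≠ i₀ ∧ k ≠ j := by
      by_contra! hc
      have := Finset.card_le_card (s := Finset.univ) (t := {i₀, j}) fun k _ => by
        by_cases h : k = i₀ <;> simp [h]; exact hc k h
      have h2 := Finset.card_le_two (a := i₀) (b := j)
      simp at this h2
      omega
    have hji : j ≠ i₀ := fun h => hj (by rw [h]; exact hA _)
    have h1 := hbr k k
    have h2 := hbr j i₀
    simp [Alt.tv_apply, hki] at h1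
    simp [Alt.tv_apply, hji.symm] at h2
    have h3 := F₀.div_mem h2 (F₀.mul_mem h1 (hform _ _ (rv_single j) (rv_single i₀)))
    refine hl (by convert h3 using 1; field_simp)
  · intro M hM hout
    let X : Subgroup ((Fin m ⊕ Fin m → F) ≃ₗ[F] (Fin m ⊕ Fin m → F)) := M.comap (MulAut.conj e).toMonoidHom ⊓ Alt.isoGroup B
    have hiso : ∀ x, x ∈ Alt.isoGroup B ↔ e * x * e⁻¹ ∈ Alt.isoGroup (sympB m F) := fun x => by
      constructor
      · intro h u v
        have h1 := h (e⁻¹ u) (e⁻¹ v)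
        rw [hB, hB, apply_inv, apply_inv] at h1
        exact mul_left_cancel₀ hζ h1
      · intro h u v
        have h1 := h (e u) (e v)
        simp only [LinearEquiv.mul_apply, inv_apply] at h1
        rw [hB, hB, h1]
    have hO : OverSp F₀ B X := by
      refine ⟨hA, fun x hx => e.map_eq_zero_iff.1 (sympB_nondeg.1 _ fun y => ?_), hform, by simp; omega, ⟨r, hr, hcard⟩,
        inf_le_right, fun v c hv hc => ⟨?_, Alt.tv_mem_isoGroup _ _ _⟩⟩
      · have := hx (e⁻¹ y)
        rw [hB, apply_inv] at this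
        exact (mul_eq_zero.1 this).resolve_left hζ
      · show e * Alt.tv hA v c * e⁻¹ ∈ M
        refine hM _ ((hiso _).1 (Alt.tv_mem_isoGroup _ _ _)) ?_
        rw [hK, MulEquiv.apply_symm_apply, show e⁻¹ * (e * Alt.tv hA v c * e⁻¹) * e = Alt.tv hA v c by group]
        refine ⟨1, one_ne_zero, fun i => ?_⟩
        rw [one_smul, Alt.tv_apply]
        exact (rv_single i).add (hv.smul (F₀.mul_mem hc (hform _ _ (rv_single i) hv)))
    obtain ⟨g, hg, hgi, hgK⟩ := hout
    have hall := hO.all_centres ⟨e⁻¹ * g * e, ⟨by show e * (e⁻¹ * g * e) * e⁻¹ ∈ M; simpa [mul_assoc] using hg,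
      (hiso _).2 (by simpa [mul_assoc] using hgi)⟩, fun h => hgK ((hK _).2 (by rwa [MulEquiv.apply_symm_apply]))⟩
    intro w c
    have h1 : e * Alt.tv hA (e⁻¹ w) (c / ζ) * e⁻¹ ∈ M := (hall (e⁻¹ w) (c / ζ)).1
    rwa [htv, apply_inv, div_mul_cancel₀ _ hζ] at h1

/-- For a finite field F, a subfield F₀ with |F| = |F₀| ^ r for a prime r, and m ≥ 7, let P be an invertible matrix and ζ a non-zero scalar such that ζ times the standard alternating form takes values in F₀ on the F₀-span of the columns of P. Then the elements of Sp_2m(F) lying in the subfield group of P (the conjugate by P of the product of GL_2m(F₀) with the scalars) form a maximal subgroup of Sp_2m(F). -/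
theorem result {F : Type*} [Field F] [Fintype F] (m : ℕ) (hm : 7 ≤ m) (F₀ : Subfield F) (r : ℕ) (hr : r.Prime) (hcard : Fintype.card F = Nat.card F₀ ^ r) (P : Matrix.GeneralLinearGroup (Fin m ⊕ Fin m) F) (ζ : F) (hζ : ζ ≠ 0) (hP : Cfsg.Geo.IsFormRationalStructure (Cfsg.sympForm m F) F₀ ζ P) : Cfsg.Geo.IsMaximalIn (Cfsg.spGL m F) (Cfsg.Geo.subfieldSubgroup F₀ P ⊓ Cfsg.spGL m F) :=
  maximal m (by omega) F₀ r hr hcard P ζ hζ hP

end Cfsg.Agent.S5650
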