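import Cfsg.Statements.S5654
import Cfsg.Agent.ClassicalMax.Unitary

set_option autoImplicit false
open Cfsg

namespace Cfsg.Agent.S5654

open Cfsg.Agent.Classical Cfsg.Agent.ClassicalMax Cfsg.Agent.ClassicalMax.Unitary Module

section

variable {F V : Type*} [Field F] [AddCommGroup V] [Module F V] {σ : F →+* F} {B : V →ₛₗ[σ] V →ₗ[F] F}

/-- the restriction of a form to a subspace -/
noncomputable def restr (B : V →ₛₗ[σ] V →ₗ[F] F) (W : Submodule F V) : W →ₛₗ[σ] W →ₗ[F] F :=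
  (B.compl₂ W.subtype).comp W.subtype

lemma restr_apply (W : Submodule F V) (x y : W) : restr B W x y = B (x : V) (y : V) := rfl

lemma restr_isHerm (hB : Herm.IsHerm B) {W : Submodule F V} (hW : ∀ w ∈ W, w ≠ 0 → ∃ z ∈ W, B w z ≠ 0) :
    Herm.IsHerm (restr B W) :=
  { toIsInvol := hB.toIsInvol
    symm := fun x y => hB.symm _ _
    nondeg := fun x hx => by
      by_contra hne
      obtain ⟨z, hz, h⟩ := hW x x.2 fun h => hne (Subtype.ext h)
      exact h (hx ⟨z, hz⟩) }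

variable [Finite F] [FiniteDimensional F V]

theorem all_centres (hB : Herm.IsHerm B) (hdim : 5 ≤ finrank F V) (W U : Submodule F V)
    (hWn : ∀ w ∈ W, w ≠ 0 → ∃ z ∈ W, B w z ≠ 0) (hUn : ∀ w ∈ U, w ≠ 0 → ∃ z ∈ U, B w z ≠ 0)
    (hperp : ∀ w ∈ W, ∀ u ∈ U, B w u = 0) (hW0 : W ≠ ⊥) (hfr : finrank F W + finrank F U = finrank F V)
    (hlt : finrank F W < finrank F U) (hUdef : ∀ v, (∀ w ∈ W, B w v = 0) → v ∈ U)
    (hdec : ∀ v, ∃ w ∈ W, ∃ u ∈ U, v = w + u)
    (M : Subgroup (V ≃ₗ[F] V))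
    (hM : ∀ g : V ≃ₗ[F] V, (∀ x y, B (g x) (g y) = B x y) → LinearMap.det g.toLinearMap = 1 → (∀ w ∈ W, g w ∈ W) → g ∈ M)
    (g : V ≃ₗ[F] V) (hgM : g ∈ M) (hgi : ∀ x y, B (g x) (g y) = B x y) {w0 : V} (hw0 : w0 ∈ W) (hgw : g w0 ∉ W) :
    ∀ v, B v v = 0 → v ∈ centres B M := by
  have hBW := restr_isHerm hB hWn
  have hBU := restr_isHerm hB hUn
  have hUdim : 3 ≤ finrank F U := by omega
  have hperp' : ∀ w ∈ W, ∀ u ∈ U, B u w = 0 := fun w hw u hu => (Herm.eq_zero_comm hB).1 (hperp w hw u hu)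
  have hQ : ∀ w ∈ W, ∀ u ∈ U, ∀ w' ∈ W, ∀ u' ∈ U, B (w + u) (w' + u') = B w w' + B u u' := by
    intro w hw u hu w' hw' u' hu'
    simp [hperp w hw u' hu', hperp' w' hw' u hu]
  have hdisj : ∀ v ∈ W, v ∈ U → v = 0 := fun v hv hv' => by
    by_contra h
    obtain ⟨z, hz, hne⟩ := hWn v hv h
    exact hne (hperp' z hz v hv')
  have huniq : ∀ a ∈ W, ∀ b ∈ U, a + b ∈ W → b = 0 := fun a ha b hb h => hdisj b ((W.add_mem_iff_right ha).1 h) hb
  have hpure : ∀ v, (v ∈ W ∨ v ∈ U) → B v v = 0 → v ∈ centres B M := fun v hv hvv => by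
    refine ⟨hvv, fun hv' c hc => ?_⟩
    have hmem := Herm.tvU_mem hB hv' hc
    refine hM _ hmem.1 (by simpa [Units.ext_iff] using hmem.2) fun x hx => ?_
    rw [Herm.tvU_apply]
    rcases hv with hv | hv
    · exact W.add_mem hx (W.smul_mem _ hv)
    · rw [hperp' x hx v hv, mul_zero, zero_smul, add_zero]; exact hx
  obtain ⟨z, -, hzz, hz0⟩ := exists_singular hBU [] (by simp only [List.length_nil]; omega)
  have hz0' : (z : V) ≠ 0 := fun h => hz0 (Subtype.ext h)
  -- a mixed centre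
  obtain ⟨a₀, ha₀, b₀, hb₀, ha₀0, hb₀0, hmem₀⟩ : ∃ a ∈ W, ∃ b ∈ U, a ≠ 0 ∧ b ≠ 0 ∧ a + b ∈ centres B M := by
    by_contra! hc
    have hside : ∀ x ∈ U, B x x = 0 → g x ∈ W ∨ g x ∈ U := fun x hx hxx => by
      obtain ⟨a, ha, b, hb, e⟩ := hdec (g x)
      rcases eq_or_ne a 0 with rfl | ha0
      · right; rw [e, zero_add]; exact hb
      rcases eq_or_ne b 0 with rfl | hb0
      · left; rw [e, add_zero]; exact ha
      exact absurd (e ▸ map_mem_centres hB (hpure x (Or.inr hx) hxx) hgM hgi) (hc a ha b hb ha0 hb0)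
    have hone : ∀ x ∈ U, B x x = 0 → ∀ y ∈ U, B y y = 0 → g x ∈ W → g y ∈ U → g x = 0 ∨ g y = 0 := by
      intro x hx hxx y hy hyy hxW hyU
      by_contra! hne
      have hxy : B x y = 0 := by rw [← hgi]; exact hperp _ hxW _ hyU
      have := map_mem_centres hB (hpure (x + y) (Or.inr (U.add_mem hx hy))
        (by simp [hxx, hyy, hxy, (Herm.eq_zero_comm hB).1 hxy])) hgM hgi
      rw [map_add] at this
      exact hc _ hxW _ hyU hne.1 hne.2 this
    obtain ⟨f, hf, hzf⟩ := hUn _ z.2 hz0'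
    have hall : (∀ x ∈ U, g x ∈ W) ∨ ∀ x ∈ U, g x ∈ U := by
      by_cases hW1 : ∀ x ∈ U, B x x = 0 → g x ∈ W
      · exact Or.inl fun x hx => isotropic_span hB U z.2 hzz hf hzf (W.comap g.toLinearMap) hW1 hx
      push Not at hW1
      obtain ⟨y, hy, hyy, hyW⟩ := hW1
      refine Or.inr fun x hx => isotropic_span hB U z.2 hzz hf hzf (U.comap g.toLinearMap) (fun x hx hxx => ?_) hx
      rcases hside x hx hxx with h | h
      · rcases hone x hx hxx y hy hyy h ((hside y hy hyy).resolve_left hyW) with h' | h'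
        · show g x ∈ U
          rw [h']; exact U.zero_mem
        · exact absurd (h' ▸ W.zero_mem) hyW
      · exact h
    rcases hall with h | h
    · have : finrank F (U.map g.toLinearMap) ≤ finrank F W :=
        Submodule.finrank_mono (by rintro _ ⟨x, hx, rfl⟩; exact h x hx)
      rw [LinearEquiv.finrank_map_eq] at this
      omega
    · have hmap : U.map g.toLinearMap = U :=
        Submodule.eq_of_le_of_finrank_eq (by rintro _ ⟨x, hx, rfl⟩; exact h x hx) (LinearEquiv.finrank_map_eq _ U)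
      obtain ⟨a, ha, b, hb, e⟩ := hdec (g w0)
      have hb0 : b ≠ 0 := fun h0 => hgw (by rw [e, h0, add_zero]; exact ha)
      obtain ⟨b', hb', hbb'⟩ := hUn b hb hb0
      refine hbb' ?_
      have h1 : b' ∈ U.map g.toLinearMap := by rw [hmap]; exact hb'
      obtain ⟨y, hy, rfl⟩ := h1
      have h2 : B (g w0) (g y) = 0 := by rw [hgi]; exact hperp w0 hw0 y hy
      rw [e, map_add, LinearMap.add_apply] at h2
      change B a (g y) + B b (g y) = 0 at h2
      rw [hperp a ha (g y) hb', zero_add] at h2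
      exact h2
  -- moving mixed vectors of the same type
  have hmove : ∀ a ∈ W, ∀ b ∈ U, a ≠ 0 → b ≠ 0 → a + b ∈ centres B M → ∀ a' ∈ W, ∀ b' ∈ U, a' ≠ 0 → b' ≠ 0 →
      B a' a' = B a a → B b' b' = B b b → a' + b' ∈ centres B M := by
    intro a ha b hb ha0 hb0 hab a' ha' b' hb' ha'0 hb'0 hQa hQb
    obtain ⟨hW', hW'i, hW'a⟩ := Herm.witt_family hBW _ ![(⟨a, ha⟩ : W)] ![(⟨a', ha'⟩ : W)] rfl
      (LinearIndependent.of_subsingleton 0 (fun h => ha0 (congrArg Subtype.val h)))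
      (LinearIndependent.of_subsingleton 0 (fun h => ha'0 (congrArg Subtype.val h)))
      (fun i j => by fin_cases i; fin_cases j; exact hQa.symm)
    obtain ⟨hU', hU'i, hU'b⟩ := Herm.witt_family hBU _ ![(⟨b, hb⟩ : U)] ![(⟨b', hb'⟩ : U)] rfl
      (LinearIndependent.of_subsingleton 0 (fun h => hb0 (congrArg Subtype.val h)))
      (LinearIndependent.of_subsingleton 0 (fun h => hb'0 (congrArg Subtype.val h)))
      (fun i j => by fin_cases i; fin_cases j; exact hQb.symm)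
    have hc : IsCompl W U := by
      refine IsCompl.of_eq ((Submodule.eq_bot_iff _).2 fun v hv => hdisj v hv.1 hv.2) (eq_top_iff.2 fun v _ => ?_)
      obtain ⟨w, hw, u, hu, rfl⟩ := hdec v
      exact Submodule.add_mem_sup hw hu
    let e := Submodule.prodEquivOfIsCompl W U hc
    let h : V ≃ₗ[F] V := e.symm.trans ((hW'.prodCongr hU').trans e)
    have happ : ∀ (w : W) (u : U), h ((w : V) + (u : V)) = (hW' w : V) + (hU' u : V) := fun w u => by
      have h1 : e.symm ((w : V) + (u : V)) = (w, u) := by rw [LinearEquiv.symm_apply_eq]; rfl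
      show e (hW'.prodCongr hU' (e.symm ((w : V) + (u : V)))) = _
      rw [h1]; rfl
    have hi : ∀ x y, B (h x) (h y) = B x y := fun x y => by
      obtain ⟨w, hw, u, hu, rfl⟩ := hdec x
      obtain ⟨w', hw', u', hu', rfl⟩ := hdec y
      rw [happ ⟨w, hw⟩ ⟨u, hu⟩, happ ⟨w', hw'⟩ ⟨u', hu'⟩, hQ w hw u hu w' hw' u' hu',
        hQ _ (hW' ⟨w, hw⟩).2 _ (hU' ⟨u, hu⟩).2 _ (hW' ⟨w', hw'⟩).2 _ (hU' ⟨u', hu'⟩).2]
      exact congrArg₂ (· + ·) (hW'i _ _) (hU'i _ _)
    obtain ⟨c, hc', hQc⟩ := exists_aniso hBU (perp (restr B U) [⟨b', hb'⟩]) (by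
      have := finrank_perp (B := restr B U) [⟨b', hb'⟩]; simp only [List.length_cons, List.length_nil] at this; omega)
    obtain ⟨r, hri, hrd, hr⟩ := exists_preflection hB (a := (c : V)) hQc (δ := σ (LinearMap.det h.toLinearMap))
      (by rw [hB.invol, mul_comm]; exact det_norm hB hi)
    have hrfix : ∀ x, B (c : V) x = 0 → r x = x := fun x hx => by rw [hr, hx, zero_div, mul_zero, zero_smul, add_zero]
    have hki : ∀ x y, B ((r * h) x) ((r * h) y) = B x y := fun x y => by rw [LinearEquiv.mul_apply, LinearEquiv.mul_apply, hri, hi]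
    have hkM : r * h ∈ M := hM _ hki (by
        rw [show (r * h).toLinearMap = r.toLinearMap ∘ₗ h.toLinearMap from rfl, LinearMap.det_comp, hrd, mul_comm]
        exact det_norm hB hi)
      (fun w hw => by
        have := happ ⟨w, hw⟩ 0
        simp only [Submodule.coe_zero, add_zero, map_zero] at this
        rw [LinearEquiv.mul_apply, this, hrfix _ (hperp' _ (hW' ⟨w, hw⟩).2 _ c.2)]
        exact (hW' ⟨w, hw⟩).2)
    have := map_mem_centres hB hab hkM hki
    have ea : (hW' ⟨a, ha⟩ : V) = a' := congrArg Subtype.val (hW'a 0)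
    have eb : (hU' ⟨b, hb⟩ : V) = b' := congrArg Subtype.val (hU'b 0)
    have hcb : B (c : V) b' = 0 := (Herm.eq_zero_comm hB).1 (mem_perp.1 hc' (⟨b', hb'⟩ : U) (by simp))
    rwa [LinearEquiv.mul_apply, happ ⟨a, ha⟩ ⟨b, hb⟩, ea, eb, hrfix _ (by rw [map_add, hperp' a' ha' _ c.2, hcb, add_zero])] at this
  -- isotropic sums
  have hiso : ∀ a ∈ W, ∀ b ∈ U, B (a + b) (a + b) = 0 → B b b = -B a a := fun a ha b hb h => by
    rw [hQ a ha b hb a ha b hb] at h; linear_combination h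
  have hQ00 := hiso a₀ ha₀ b₀ hb₀ hmem₀.1
  obtain ⟨c, hc0, hc⟩ := Herm.exists_skew hB.toIsInvol
  have hcs : c + σ c = 0 := by rw [hc]; ring
  -- some type is non-zero
  obtain ⟨a₁, ha₁, b₁, hb₁, hQ1, hmem₁⟩ : ∃ a ∈ W, ∃ b ∈ U, B a a ≠ 0 ∧ a + b ∈ centres B M := by
    by_cases hQ0 : B a₀ a₀ = 0
    swap
    · exact ⟨a₀, ha₀, b₀, hb₀, hQ0, hmem₀⟩
    obtain ⟨y, hy, hay⟩ := hWn a₀ ha₀ ha₀0
    obtain ⟨s, hs⟩ := Herm.exists_trace hB.toIsInvol (a := -B ((B a₀ y)⁻¹ • y) ((B a₀ y)⁻¹ • y)) (by rw [map_neg, Herm.fix_self hB])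
    set f := (B a₀ y)⁻¹ • y + s • a₀
    have hfW : f ∈ W := W.add_mem (W.smul_mem _ hy) (W.smul_mem _ ha₀)
    have h1 : B a₀ ((B a₀ y)⁻¹ • y) = 1 := by rw [map_smul, smul_eq_mul, inv_mul_cancel₀ hay]
    have h1' : B ((B a₀ y)⁻¹ • y) a₀ = 1 := by rw [← hB.symm, h1, map_one]
    have haf : B a₀ f = 1 := by simp only [f, map_add, h1, map_smul, hQ0, smul_zero, add_zero]
    have hfa : B f a₀ = 1 := by rw [← hB.symm, haf, map_one]
    have hff : B f f = 0 := by
      simp only [f] at *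
      generalize (B a₀ y)⁻¹ • y = y' at *
      simp only [map_add, map_smul, map_smulₛₗ, LinearMap.add_apply, LinearMap.smul_apply, h1, h1', hQ0, smul_eq_mul]
      linear_combination hs
    have hf0 : f ≠ 0 := fun h => by rw [h, map_zero] at haf; exact zero_ne_one haf
    obtain ⟨k, hk⟩ : ∃ k, k + σ k ≠ 0 := by
      obtain ⟨t, ht⟩ := Herm.exists_trace hB.toIsInvol (a := 1) (map_one σ)
      exact ⟨t, by rw [ht]; exact one_ne_zero⟩
    have hb00 : B b₀ b₀ = 0 := by rw [hQ00, hQ0, neg_zero]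
    obtain ⟨b', hb', hb'b', hb'0, hb'γ⟩ : ∃ b' ∈ U, B b' b' = 0 ∧ b' ≠ 0 ∧ B b' b₀ = k / c - 1 := by
      by_cases hγ : k / c - 1 = 0
      · exact ⟨b₀, hb₀, hb00, hb₀0, by rw [hγ, hb00]⟩
      obtain ⟨u, -, huu, hbu⟩ := exists_singular_pairing hBU [] (by simp only [List.length_nil]; omega) (a := ⟨b₀, hb₀⟩)
        (by simpa using hb₀0) (σ (k / c - 1))
      have hγ' : B (u : V) b₀ = k / c - 1 := by
        have e : B b₀ (u : V) = σ (k / c - 1) := hbu
        rw [← hB.symm, e, hB.invol]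
      exact ⟨u, u.2, huu, fun h => hγ (by rw [← hγ', h, map_zero, LinearMap.zero_apply]), hγ'⟩
    have hv' := hmove a₀ ha₀ b₀ hb₀ ha₀0 hb₀0 hmem₀ f hfW b' hb' hf0 hb'0 (by rw [hff, hQ0]) (by rw [hb'b', hb00])
    have := move_mem_centres hB hmem₀ hv' hcs
    have hBv : B (f + b') (a₀ + b₀) = k / c := by rw [hQ f hfW b' hb' a₀ ha₀ b₀ hb₀, hfa, hb'γ]; ring
    rw [hBv, mul_div_cancel₀ _ hc0] at this
    refine ⟨a₀ + k • f, W.add_mem ha₀ (W.smul_mem _ hfW), b₀ + k • b', U.add_mem hb₀ (U.smul_mem _ hb'), fun h => hk ?_, ?_⟩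
    · simp only [map_add, map_smul, map_smulₛₗ, LinearMap.add_apply, LinearMap.smul_apply, hQ0, hff, haf, hfa, smul_eq_mul] at h
      linear_combination h
    · rw [show a₀ + k • f + (b₀ + k • b') = a₀ + b₀ + k • (f + b') by module]; exact this
  have hQ11 := hiso a₁ ha₁ b₁ hb₁ hmem₁.1
  have ha₁0 : a₁ ≠ 0 := fun h => hQ1 (by rw [h]; simp)
  have hb₁0 : b₁ ≠ 0 := fun h => hQ1 (by rw [h] at hQ11; simpa using hQ11)
  have hnz : ∀ a ∈ W, ∀ b ∈ U, B a a ≠ 0 → B b b = -B a a → a + b ∈ centres B M := by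
    intro a ha b hb hQa hQb
    obtain ⟨l, hl⟩ := Herm.exists_norm hB.toIsInvol (a := B a a / B a₁ a₁) (by rw [map_div₀, Herm.fix_self hB, Herm.fix_self hB])
    have hl0 : l ≠ 0 := fun h => by
      rw [h, zero_mul, eq_comm, div_eq_zero_iff] at hl
      exact hl.elim hQa hQ1
    have hm : l • a₁ + l • b₁ ∈ centres B M := by rw [← smul_add]; exact smul_mem_centres hB hmem₁ l
    exact hmove _ (W.smul_mem l ha₁) _ (U.smul_mem l hb₁) (smul_ne_zero hl0 ha₁0) (smul_ne_zero hl0 hb₁0) hm a ha b hb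
      (fun h => hQa (by rw [h]; simp)) (fun h => hQa (by rw [h] at hQb; simpa using hQb))
      (by rw [Herm.smul_self hB, hl, div_mul_cancel₀ _ hQ1])
      (by rw [hQb, Herm.smul_self hB, hQ11, hl, mul_neg, div_mul_cancel₀ _ hQ1])
  intro v hvv
  obtain ⟨a, ha, b, hb, rfl⟩ := hdec v
  have hQb := hiso a ha b hb hvv
  rcases eq_or_ne a 0 with rfl | ha0
  · rw [zero_add] at hvv ⊢; exact hpure b (Or.inr hb) hvv
  rcases eq_or_ne b 0 with rfl | hb0
  · rw [add_zero] at hvv ⊢; exact hpure a (Or.inl ha) hvv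
  by_cases hQa : B a a = 0
  swap
  · exact hnz a ha b hb hQa hQb
  obtain ⟨y, hy, hay⟩ := hWn a ha ha0
  set y' := (B a y)⁻¹ • y
  obtain ⟨s, hs⟩ := Herm.exists_trace hB.toIsInvol (a := 1 - B y' y') (by rw [map_sub, map_one, Herm.fix_self hB])
  set a'' := y' + s • a
  have ha''W : a'' ∈ W := W.add_mem (W.smul_mem _ hy) (W.smul_mem _ ha)
  have e1 : B a y' = 1 := by simp only [y', map_smul, smul_eq_mul, inv_mul_cancel₀ hay]
  have e1' : B y' a = 1 := by rw [← hB.symm, e1, map_one]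
  have e2 : B a a'' = 1 := by simp only [a'', map_add, e1, map_smul, hQa, smul_zero, add_zero]
  have e2' : B a'' a = 1 := by rw [← hB.symm, e2, map_one]
  have e3 : B a'' a'' = 1 := by
    simp only [a'', map_add, map_smul, map_smulₛₗ, LinearMap.add_apply, LinearMap.smul_apply, e1, e1', hQa, smul_eq_mul]
    linear_combination hs
  obtain ⟨b'', hb''p, hb''Q⟩ := exists_value hBU [⟨b, hb⟩] (by simp only [List.length_cons, List.length_nil]; omega) (-1) (by simp)
  have hb''b : B (b'' : V) b = 0 := (Herm.eq_zero_comm hB).1 (mem_perp.1 hb''p (⟨b, hb⟩ : U) (by simp))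
  have hv' := hnz a'' ha''W (b'' : V) b''.2 (by rw [e3]; exact one_ne_zero) (by rw [e3]; exact hb''Q)
  have hbb : B b b = 0 := by rw [hQb, hQa, neg_zero]
  have hv := hnz (a + c • a'') (W.add_mem ha (W.smul_mem _ ha''W)) (b + c • (b'' : V)) (U.add_mem hb (U.smul_mem _ b''.2)) (by
      simp only [map_add, map_smul, map_smulₛₗ, LinearMap.add_apply, LinearMap.smul_apply, hQa, e2, e2', e3, smul_eq_mul]
      intro h
      exact mul_ne_zero ((map_ne_zero σ).2 hc0) hc0 (by linear_combination h - hcs)) (by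
      have hbb'' : B b (b'' : V) = 0 := (Herm.eq_zero_comm hB).1 hb''b
      have hQ'' : B (b'' : V) (b'' : V) = -1 := hb''Q
      simp only [map_add, map_smul, map_smulₛₗ, LinearMap.add_apply, LinearMap.smul_apply, hQa, e2, e2', e3, hbb, hbb'', hb''b, hQ'', smul_eq_mul]
      linear_combination hcs)
  have := move_mem_centres hB hv hv' (c := -c) (by rw [map_neg]; linear_combination -hcs)
  have hBv : B (a'' + (b'' : V)) (a + c • a'' + (b + c • (b'' : V))) = 1 := by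
    have hQ'' : B (b'' : V) (b'' : V) = -1 := hb''Q
    rw [hQ a'' ha''W _ b''.2 _ (W.add_mem ha (W.smul_mem _ ha''W)) _ (U.add_mem hb (U.smul_mem _ b''.2))]
    simp only [map_add, map_smul, e2', e3, hb''b, hQ'', smul_eq_mul]
    ring
  rw [hBv] at this
  convert this using 1
  module

end

/-- The maximality statement from dimension 5 on. -/
theorem maximal {F : Type*} [Field F] [Fintype F] (n q : ℕ) (hF : Fintype.card F = q ^ 2) (hn : 5 ≤ n) (W : Submodule F (Fin n → F)) (hW0 : W ≠ ⊥) (hW : Cfsg.Geo.IsNondegenerateOn (Cfsg.hermForm n F q) W) (hdim : 2 * Module.finrank F W < n) : Cfsg.Geo.IsMaximalIn (Cfsg.GU n F q ⊓ Cfsg.Geo.specialLinear (Fin n) F) (Cfsg.Geo.subspaceStabilizer W ⊓ (Cfsg.GU n F q ⊓ Cfsg.Geo.specialLinear (Fin n) F)) := by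
  classical
  obtain ⟨σ, hσq, hσ, -, -⟩ := exists_powHom hF
  set B := hermB n σ
  have hB : Herm.IsHerm B := hermB_isHerm hσ n
  have hdim : 5 ≤ Module.finrank F (Fin n → F) := by rw [Module.finrank_fin_fun]; exact hn
  have hWn : ∀ w ∈ W, w ≠ 0 → ∃ z ∈ W, B w z ≠ 0 := fun w hw hw0 => by
    obtain ⟨z, hz, hne⟩ := (hW w hw hw0).1
    exact ⟨z, hz, by rw [← hermForm_eq hσq]; exact hne⟩
  let U : Submodule F (Fin n → F) := ⨅ x ∈ W, LinearMap.ker (B x)
  have hU : ∀ v, v ∈ U ↔ ∀ x ∈ W, B x v = 0 := fun v => by simp [U]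
  have hperp : ∀ w ∈ W, ∀ u ∈ U, B w u = 0 := fun w hw u hu => (hU u).1 hu w hw
  have hperp' : ∀ w ∈ W, ∀ u ∈ U, B u w = 0 := fun w hw u hu => (Herm.eq_zero_comm hB).1 (hperp w hw u hu)
  have hBW := restr_isHerm hB hWn
  have hdec : ∀ v, ∃ w ∈ W, ∃ u ∈ U, v = w + u := fun v => by
    obtain ⟨w, hw⟩ := Herm.exists_repr hBW ((B v).comp W.subtype)
    refine ⟨w, w.2, v - w, (hU _).2 fun x hx => (Herm.eq_zero_comm hB).1 ?_, by abel⟩
    have := hw ⟨x, hx⟩
    rw [restr_apply, LinearMap.comp_apply, Submodule.coe_subtype] at this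
    rw [map_sub, LinearMap.sub_apply, this, sub_self]
  have hdisj : ∀ v ∈ W, v ∈ U → v = 0 := fun v hv hv' => by
    by_contra h
    obtain ⟨z, hz, hne⟩ := hWn v hv h
    exact hne (hperp' z hz v hv')
  have hUn : ∀ w ∈ U, w ≠ 0 → ∃ z ∈ U, B w z ≠ 0 := fun u hu hu0 => by
    obtain ⟨z, hz⟩ : ∃ z, B u z ≠ 0 := by by_contra! hc; exact hu0 (hB.nondeg u hc)
    obtain ⟨w, hw, u', hu', rfl⟩ := hdec z
    exact ⟨u', hu', by rwa [map_add, hperp' w hw u hu, zero_add] at hz⟩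
  have hfr : finrank F W + finrank F U = finrank F (Fin n → F) := by
    have hc : IsCompl W U := IsCompl.of_eq ((Submodule.eq_bot_iff _).2 fun v hv => hdisj v hv.1 hv.2)
      (eq_top_iff.2 fun v _ => by obtain ⟨w, hw, u, hu, rfl⟩ := hdec v; exact Submodule.add_mem_sup hw hu)
    exact Submodule.finrank_add_eq_of_isCompl hc
  have hn' : Module.finrank F (Fin n → F) = n := Module.finrank_fin_fun _
  have hstab : ∀ g : (Fin n → F) ≃ₗ[F] (Fin n → F), (∀ w ∈ W, g w ∈ W) →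
      (glEquiv (Fin n) F).symm g ∈ Cfsg.Geo.subspaceStabilizer W := fun g h => by
    show ∀ v, v ∈ (W : Set (Fin n → F)) ↔ ((glEquiv (Fin n) F).symm g : Matrix.GeneralLinearGroup (Fin n) F).1.mulVec v ∈ (W : Set (Fin n → F))
    intro v
    simp only [symm_mulVec, SetLike.mem_coe]
    refine ⟨h v, fun hv => ?_⟩
    have hmap : W.map g.toLinearMap = W :=
      Submodule.eq_of_le_of_finrank_eq (by rintro _ ⟨w, hw, rfl⟩; exact h w hw) (LinearEquiv.finrank_map_eq _ W)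
    rw [← hmap] at hv
    obtain ⟨w, hw, e⟩ := hv
    exact g.injective e ▸ hw
  refine isMaximalIn_suGL hσ hσq (by omega) _ ?_ fun M hK ⟨g, hgM, hgi, hgK⟩ => ?_
  · obtain ⟨a, ha, hQa⟩ : ∃ a ∈ W, B a a ≠ 0 := by
      obtain ⟨w, hw, hw0⟩ := W.exists_mem_ne_zero_of_ne_bot hW0
      obtain ⟨z, hz, hwz⟩ := hWn w hw hw0
      exact Herm.exists_anisotropic hB W ⟨w, hw, z, hz, hwz⟩
    obtain ⟨b, -, hQb⟩ := exists_value (restr_isHerm hB hUn) [] (by simp only [List.length_nil]; omega) (-B a a)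
      (by rw [map_neg, Herm.fix_self hB])
    obtain ⟨c, hc0, hc⟩ := Herm.exists_skew hσ
    have hab : B (a + b) (a + b) = 0 := by
      have e : B (b : Fin n → F) (b : Fin n → F) = -B a a := hQb
      simp [hperp a ha b b.2, hperp' a ha b b.2, e]
    refine ⟨a + b, hab, c, by rw [hc]; ring, fun hk => ?_⟩
    have h1 : Herm.tvU (B := B) hab c a ∈ W := by
      have := (hk a).1 ha
      change (((glEquiv (Fin n) F).symm _ : Matrix.GeneralLinearGroup (Fin n) F) : Matrix (Fin n) (Fin n) F).mulVec _ ∈ W at this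
      rwa [symm_mulVec] at this
    have e : B (a + b) a = B a a := by simp [hperp' a ha b b.2]
    rw [Herm.tvU_apply, e, W.add_mem_iff_right ha, W.smul_mem_iff (mul_ne_zero hc0 hQa), W.add_mem_iff_right ha] at h1
    have hb0 : (b : Fin n → F) = 0 := hdisj _ h1 b.2
    apply hQa
    have e : B (b : Fin n → F) (b : Fin n → F) = -B a a := hQb
    simpa [hb0] using e
  · obtain ⟨w0, hw0, hgw⟩ : ∃ w0 ∈ W, g w0 ∉ W := by
      by_contra! hc; exact hgK (hstab g hc)
    exact all_centres hB (by omega) W U hWn hUn hperp hW0 hfr (by omega) (fun v hv => (hU v).2 hv) hdec M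
      (fun h hi hd hW => hK h hi hd (hstab h hW)) g hgM hgi hw0 hgw

/-- Let F be the field with q² elements and n ≥ 13. In SU_n(q) (determinant-one isometries of the standard unitary form on F^n) the stabiliser of a non-zero subspace W on which the form is non-degenerate and with 2 dim W < n is a maximal subgroup. -/
theorem result {F : Type*} [Field F] [Fintype F] (n q : ℕ) (hF : Fintype.card F = q ^ 2) (hn : 13 ≤ n) (W : Submodule F (Fin n → F)) (hW0 : W ≠ ⊥) (hW : Cfsg.Geo.IsNondegenerateOn (Cfsg.hermForm n F q) W) (hdim : 2 * Module.finrank F W < n) : Cfsg.Geo.IsMaximalIn (Cfsg.GU n F q ⊓ Cfsg.Geo.specialLinear (Fin n) F) (Cfsg.Geo.subspaceStabilizer W ⊓ (Cfsg.GU n F q ⊓ Cfsg.Geo.specialLinear (Fin n) F)) :=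
  maximal n q hF (by omega) W hW0 hW hdim

end Cfsg.Agent.S5654
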