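import Cfsg.Statements.S5657
import Cfsg.Agent.ClassicalMax.Unitary

set_option autoImplicit false
open Cfsg

namespace Cfsg.Agent.S5657

open Cfsg.Agent.Classical Cfsg.Agent.ClassicalMax Cfsg.Agent.ClassicalMax.Unitary Module

section

variable {F V : Type*} [Field F] [AddCommGroup V] [Module F V] {σ : F →+* F}

/-- transvection, extended by the identity -/
noncomputable def tv (B : V →ₛₗ[σ] V →ₗ[F] F) (v : V) (c : F) : V ≃ₗ[F] V :=
  haveI := _root_.Classical.propDecidable (B v v = 0); if h : B v v = 0 then Herm.tvU h c else 1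

/-- the unitary unipotent attached to a product of two orthogonal isotropic vectors -/
noncomputable def st (B : V →ₛₗ[σ] V →ₗ[F] F) (c : F) (a b : V) : V ≃ₗ[F] V :=
  tv B (a + b) c * tv B a (-c) * tv B b (-c)

variable {B : V →ₛₗ[σ] V →ₗ[F] F}

lemma tv_eq {v : V} (hv : B v v = 0) (c : F) : tv B v c = Herm.tvU hv c := dif_pos hv

lemma tv_apply {v : V} (hv : B v v = 0) (c : F) (x : V) : tv B v c x = x + (c * B v x) • v := by
  rw [tv_eq hv, Herm.tvU_apply]

variable [Finite F] [FiniteDimensional F V] (hB : Herm.IsHerm B)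
include hB

lemma tv_su (v : V) {c : F} (hc : c + σ c = 0) : tv B v c ∈ Herm.suG B := by
  unfold tv
  split_ifs with h
  · exact Herm.tvU_mem hB h hc
  · exact one_mem _

lemma st_su (a b : V) {c : F} (hc : c + σ c = 0) : st B c a b ∈ Herm.suG B :=
  mul_mem (mul_mem (tv_su hB _ hc) (tv_su hB _ (by rw [map_neg]; linear_combination -hc)))
    (tv_su hB _ (by rw [map_neg]; linear_combination -hc))

lemma conj_tv {g : V ≃ₗ[F] V} (hg : ∀ x y, B (g x) (g y) = B x y) (v : V) (c : F) : g * tv B v c * g⁻¹ = tv B (g v) c := by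
  by_cases h : B v v = 0
  · rw [tv_eq h, tv_eq (show B (g v) (g v) = 0 by rw [hg, h]), Herm.conj_tvU hB hg h]
  · rw [tv, dif_neg h, tv, dif_neg (by rwa [hg]), mul_one, mul_inv_cancel]

lemma conj_st {g : V ≃ₗ[F] V} (hg : ∀ x y, B (g x) (g y) = B x y) (c : F) (a b : V) :
    g * st B c a b * g⁻¹ = st B c (g a) (g b) := by
  rw [st, st, ← map_add g, ← conj_tv hB hg, ← conj_tv hB hg, ← conj_tv hB hg]
  simp only [mul_assoc, inv_mul_cancel_left]

variable {c : F} {a b : V} (ha : B a a = 0) (hb : B b b = 0) (hab : B a b = 0)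
include ha hb hab

lemma st_apply (x : V) : st B c a b x = x + (c * B a x) • b + (c * B b x) • a := by
  have hba : B b a = 0 := (Herm.eq_zero_comm hB).1 hab
  have h : B (a + b) (a + b) = 0 := by simp [ha, hb, hab, hba]
  simp only [st, LinearEquiv.mul_apply, tv_apply ha, tv_apply hb, tv_apply h, map_add, map_smul, LinearMap.add_apply,
    ha, hb, hab, hba, smul_eq_mul]
  module

omit ha hb hab

omit hB
/-- two complementary totally isotropic halves -/
structure Halves (B : V →ₛₗ[σ] V →ₗ[F] F) (U W : Submodule F V) : Prop where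
  herm : Herm.IsHerm B
  tsU : ∀ x ∈ U, ∀ y ∈ U, B x y = 0
  tsW : ∀ x ∈ W, ∀ y ∈ W, B x y = 0
  dec : ∀ v, ∃ p ∈ U, ∃ q ∈ W, v = p + q
  dimU : 3 ≤ finrank F U
  dimW : 3 ≤ finrank F W

/-- what is used of the stabiliser of the two halves -/
def Big (B : V →ₛₗ[σ] V →ₗ[F] F) (U W : Submodule F V) (M : Subgroup (V ≃ₗ[F] V)) : Prop :=
  ∀ g : V ≃ₗ[F] V, (∀ x y, B (g x) (g y) = B x y) → LinearMap.det g.toLinearMap = 1 →
    (((∀ x ∈ U, g x ∈ U) ∧ ∀ x ∈ W, g x ∈ W) ∨ ((∀ x ∈ U, g x ∈ W) ∧ ∀ x ∈ W, g x ∈ U)) → g ∈ M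

variable {U W : Submodule F V} {M : Subgroup (V ≃ₗ[F] V)}

lemma Halves.symm (h : Halves B U W) : Halves B W U :=
  ⟨h.herm, h.tsW, h.tsU, fun v => by
    obtain ⟨p, hp, q, hq, e⟩ := h.dec v; exact ⟨q, hq, p, hp, e.trans (add_comm _ _)⟩, h.dimW, h.dimU⟩

lemma Big.symm (h : Big B U W M) : Big B W U M := fun g h1 h2 hh => h g h1 h2 (hh.imp And.symm And.symm)

lemma Halves.ext (h : Halves B U W) {x y : V} (hU : ∀ z ∈ U, B x z = B y z) (hW : ∀ z ∈ W, B x z = B y z) : x = y := by
  refine sub_eq_zero.1 (h.herm.nondeg _ fun z => ?_)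
  obtain ⟨p, hp, q, hq, rfl⟩ := h.dec z
  simp [hU p hp, hW q hq]

lemma Halves.disj (h : Halves B U W) {v : V} (hv : v ∈ U) (hv' : v ∈ W) : v = 0 :=
  h.ext (fun z hz => by rw [h.tsU v hv z hz]; simp) fun z hz => by rw [h.tsW v hv' z hz]; simp

lemma Halves.exists_dual (h : Halves B U W) (φ : Dual F V) : ∃ w ∈ W, ∀ x ∈ U, B w x = φ x := by
  obtain ⟨y, hy⟩ := Herm.exists_repr h.herm φ
  obtain ⟨p, hp, q, hq, rfl⟩ := h.dec y
  refine ⟨q, hq, fun x hx => ?_⟩
  rw [← hy x, map_add, LinearMap.add_apply, h.tsU p hp x hx, zero_add]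

lemma Halves.exists_one (h : Halves B U W) (N : Submodule F V) {x : V} (hx : x ∈ U) (hxN : x ∉ N) (hN : N ≤ U) (r : F) :
    ∃ w ∈ W, B w x = r ∧ ∀ z ∈ N, B w z = 0 := by
  obtain ⟨φ, hφ, hle⟩ := N.exists_le_ker_of_notMem hxN
  obtain ⟨w, hw, hwφ⟩ := h.exists_dual ((r / φ x) • φ)
  refine ⟨w, hw, by rw [hwφ x hx, LinearMap.smul_apply, smul_eq_mul, div_mul_cancel₀ _ hφ], fun z hz => ?_⟩
  rw [hwφ z (hN hz), LinearMap.smul_apply, LinearMap.mem_ker.1 (hle hz), smul_zero]

lemma Big.st_mem (h : Big B U W M) (hH : Halves B U W) (hc : c + σ c = 0) {u w : V}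
    (hu : u ∈ U) (hw : w ∈ W) (huw : B u w = 0) : st B c u w ∈ M := by
  have happ := st_apply hH.herm (c := c) (hH.tsU u hu u hu) (hH.tsW w hw w hw) huw
  have hs := st_su hH.herm u w hc
  refine h _ hs.1 (by simpa [Units.ext_iff] using hs.2) (Or.inl ⟨fun x hx => ?_, fun x hx => ?_⟩)
  · rw [happ, hH.tsU u hu x hx, mul_zero, zero_smul, add_zero]; exact U.add_mem hx (U.smul_mem _ hu)
  · rw [happ, hH.tsW w hw x hx, mul_zero, zero_smul, add_zero]; exact W.add_mem hx (W.smul_mem _ hw)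

lemma Halves.exists_indep (h : Halves B U W) (z : V) : ∃ y ∈ U, y ∉ Submodule.span F {z} :=
  SetLike.not_le_iff_exists.1 (fun hle : U ≤ Submodule.span F {z} => by
    have h1 := Submodule.finrank_mono hle
    have h2 : finrank F (Submodule.span F {z}) ≤ 1 := (finrank_span_le_card ({z} : Set V)).trans (by simp)
    have := h.dimU; omega)

/-- a centre in one half gives all of that half -/
lemma spread (hH : Halves B U W) (hc : c + σ c = 0) (hc0 : c ≠ 0) (hM : Big B U W M) {u : V} (hu : u ∈ U) (hu0 : u ≠ 0)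
    (huc : u ∈ centres B M) : ∀ v ∈ U, v ∈ centres B M := by
  have hB := hH.herm
  have hindep : ∀ x ∈ U, ∀ y ∈ U, x ≠ 0 → y ∉ Submodule.span F {x} → x ∈ centres B M → y ∈ centres B M := by
    intro x hx y hy hx0 hys hxc
    have hxd : x ∉ Submodule.span F {y - x} := fun h => by
      obtain ⟨l, hl⟩ := Submodule.mem_span_singleton.1 h
      rcases eq_or_ne l 0 with rfl | hl0
      · exact hx0 (by rw [← hl, zero_smul])
      · refine hys (Submodule.mem_span_singleton.2 ⟨l⁻¹ + 1, ?_⟩)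
        rw [add_smul, one_smul]
        conv_lhs => arg 1; rw [← hl, smul_smul, inv_mul_cancel₀ hl0, one_smul]
        abel
    obtain ⟨w', hw', h1, h0⟩ := hH.exists_one _ hx hxd (by rw [Submodule.span_singleton_le_iff_mem]; exact U.sub_mem hy hx) c⁻¹
    have hd : B (y - x) w' = 0 := (Herm.eq_zero_comm hB).1 (h0 _ (Submodule.mem_span_singleton_self _))
    have hdU := U.sub_mem hy hx
    have := map_mem_centres hB hxc (hM.st_mem hH hc hdU hw' hd) (st_su hB _ _ hc).1
    rwa [st_apply hB (hH.tsU _ hdU _ hdU) (hH.tsW _ hw' _ hw') hd, hH.tsU _ hdU x hx, h1, mul_inv_cancel₀ hc0, mul_zero,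
      zero_smul, add_zero, one_smul, add_sub_cancel] at this
  intro v hv
  by_cases hs : v ∈ Submodule.span F {u}
  · obtain ⟨l, rfl⟩ := Submodule.mem_span_singleton.1 hs
    exact smul_mem_centres hB huc l
  · exact hindep u hu v hv hu0 hs huc

lemma comm_eq (hB : Herm.IsHerm B) {u a b P Q : V} (huu : B u u = 0) (haa : B a a = 0) (hbb : B b b = 0) (hab : B a b = 0)
    (hau : B a u = 0) (hbu : B b u = 0) (hPP : B P P = 0) (hQQ : B Q Q = 0) (huP : B u P = 0) (huQ : B u Q = 0) {α β : F}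
    (hPQ : P + Q = σ α • b + σ β • a) :
    st B c u P * tv B u (c * (σ α * β + σ β * α) - c ^ 2 * B P Q) * st B c u Q * st B c a b =
      st B c (a + α • u) (b + β • u) := LinearEquiv.ext fun x => by
  have hua : B u a = 0 := (Herm.eq_zero_comm hB).1 hau
  have hub : B u b = 0 := (Herm.eq_zero_comm hB).1 hbu
  have hba : B b a = 0 := (Herm.eq_zero_comm hB).1 hab
  have hPu : B P u = 0 := (Herm.eq_zero_comm hB).1 huP
  have hQu : B Q u = 0 := (Herm.eq_zero_comm hB).1 huQ
  have h1 : B (a + α • u) (a + α • u) = 0 := by simp [haa, hau, hua, huu]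
  have h2 : B (b + β • u) (b + β • u) = 0 := by simp [hbb, hbu, hub, huu]
  have h3 : B (a + α • u) (b + β • u) = 0 := by simp [hab, hau, hub, huu]
  simp only [LinearEquiv.mul_apply, st_apply hB h1 h2 h3, st_apply hB huu hPP huP, st_apply hB huu hQQ huQ,
    st_apply hB haa hbb hab, tv_apply huu]
  obtain rfl : P = σ α • b + σ β • a - Q := eq_sub_of_add_eq hPQ
  simp only [map_add, map_sub, map_smul, map_smulₛₗ, LinearMap.add_apply, LinearMap.sub_apply, LinearMap.smul_apply,
    RingHom.id_apply, smul_eq_mul, hB.invol, haa, hbb, hab, hba, hau, hbu, hua, hub, huu, huQ, hQu, hQQ]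
  module

/-- one half becomes a set of centres, given suitable auxiliary vectors -/
lemma half_centres_core (hH : Halves B U W) (hc : c + σ c = 0) (hc0 : c ≠ 0) (hM : Big B U W M) {a b : V}
    (haa : B a a = 0) (hbb : B b b = 0) (hab : B a b = 0) (hmem : ∀ s : F, st B c a (s • b) ∈ M)
    {pa qa pb qb : V} (hpa : pa ∈ U) (hqa : qa ∈ W) (hpb : pb ∈ U) (hqb : qb ∈ W) (hae : a = pa + qa) (hbe : b = pb + qb)
    {s : F} {u w : V} (hu : u ∈ U) (hu0 : u ≠ 0) (hw : w ∈ W) (huqa : B qa u = 0) (huqb : B qb u = 0) (huw : B w u = 0)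
    (hne : σ (B w pa) • (s • pb) + σ (B w (s • pb)) • pa ∉ Submodule.span F {u}) : ∀ v ∈ U, v ∈ centres B M := by
  have hB := hH.herm
  set P := σ (c * B w pa) • (s • pb) + σ (c * B w (s • pb)) • pa with hPdef
  have hP : P ∈ U := U.add_mem (U.smul_mem _ (U.smul_mem _ hpb)) (U.smul_mem _ hpa)
  have hPs : P ∉ Submodule.span F {u} := by
    have : P = σ c • (σ (B w pa) • (s • pb) + σ (B w (s • pb)) • pa) := by
      rw [hPdef, map_mul, map_mul, smul_add, ← smul_smul, ← smul_smul]
    rwa [this, Submodule.smul_mem_iff _ ((map_ne_zero σ).2 hc0)]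
  have hb' : s • b = s • pb + s • qb := by rw [hbe, smul_add]
  set b' := s • b with hb'def
  have hbb' : B b' b' = 0 := by rw [Herm.smul_self hB, hbb, mul_zero]
  have hab' : B a b' = 0 := by rw [map_smul, hab, smul_zero]
  have hba' : B b' a = 0 := (Herm.eq_zero_comm hB).1 hab'
  refine spread hH hc hc0 hM hu hu0 ?_
  have huu := hH.tsU u hu u hu
  have hau : B a u = 0 := by rw [hae, map_add, LinearMap.add_apply, hH.tsU pa hpa u hu, huqa, add_zero]
  have hbu : B b' u = 0 := by
    rw [hb', map_add, LinearMap.add_apply, hH.tsU _ (U.smul_mem s hpb) u hu, map_smulₛₗ, LinearMap.smul_apply, huqb,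
      smul_zero, add_zero]
  have hua : B u a = 0 := (Herm.eq_zero_comm hB).1 hau
  have hub : B u b' = 0 := (Herm.eq_zero_comm hB).1 hbu
  have huw' : B u w = 0 := (Herm.eq_zero_comm hB).1 huw
  have hf := hM.st_mem hH hc hu hw huw'
  have happ := st_apply hB (c := c) huu (hH.tsW w hw w hw) huw'
  have hwa : B w a = B w pa := by rw [hae, map_add, hH.tsW w hw qa hqa, add_zero]
  have hwb : B w b' = B w (s • pb) := by rw [hb', map_add, hH.tsW w hw _ (W.smul_mem s hqb), add_zero]
  set α := c * B w pa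
  set β := c * B w (s • pb)
  set Q := σ α • (s • qb) + σ β • qa
  have hQ : Q ∈ W := W.add_mem (W.smul_mem _ (W.smul_mem _ hqb)) (W.smul_mem _ hqa)
  have huQ : B u Q = 0 := by
    simp [Q, (Herm.eq_zero_comm hB).1 huqa, (Herm.eq_zero_comm hB).1 huqb]
  have hPQ : P + Q = σ α • b' + σ β • a := by rw [hb', hae, hPdef]; simp only [Q]; module
  have huP : B u P = 0 := hH.tsU u hu P hP
  have hPP : B P P = 0 := hH.tsU P hP P hP
  set k := c * (σ α * β + σ β * α) - c ^ 2 * B P Q
  -- the commutator, with the part in the stabiliser removed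
  have hy : ∃ k : F, k + σ k = 0 ∧ st B c u P * tv B u k ∈ M := by
    refine ⟨k, ?_, ?_⟩
    · have hr : B (P + Q) (P + Q) = 0 := by
        rw [hPQ]; simp [haa, hbb', hab', hba']
      have e : B P Q + σ (B P Q) = 0 := by
        rw [hB.symm]
        simpa [hPP, hH.tsW Q hQ Q hQ] using hr
      have eσ : σ c = -c := eq_neg_of_add_eq_zero_right hc
      simp only [k, map_sub, map_mul, map_add, map_pow, hB.invol, eσ]
      linear_combination -c ^ 2 * e
    · have hmid := mul_mem (mul_mem (mul_mem hf (hmem s)) (inv_mem hf)) (inv_mem (hmem s))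
      rw [conj_st hB (st_su hB u w hc).1, happ, happ, hua, hub, hwa, hwb] at hmid
      simp only [mul_zero, zero_smul, add_zero] at hmid
      have := mul_mem hmid (inv_mem (hM.st_mem hH hc hu hQ huQ))
      convert this using 1
      rw [eq_mul_inv_iff_mul_eq, eq_mul_inv_iff_mul_eq]
      exact comm_eq hB huu haa hbb' hab' hau hbu hPP (hH.tsW Q hQ Q hQ) huP huQ hPQ
  obtain ⟨k, hk, hkM⟩ := hy
  obtain ⟨z₀, hz₀, hz₁, hz₀u⟩ := hH.exists_one _ hP hPs (by rw [Submodule.span_singleton_le_iff_mem]; exact hu) 1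
  refine ⟨huu, fun hv d hd => ?_⟩
  obtain ⟨μ, hμ⟩ := Herm.exists_trace hB.toIsInvol (a := d / c) (by
    rw [map_div₀, eq_neg_of_add_eq_zero_right hd, eq_neg_of_add_eq_zero_right hc, neg_div_neg_eq])
  set w' := σ (μ / c) • z₀
  have hw'u : B w' u = 0 := by simp [w', hz₀u u (Submodule.mem_span_singleton_self u)]
  have huw'' : B u w' = 0 := (Herm.eq_zero_comm hB).1 hw'u
  have hw'P : c * B w' P = μ := by
    simp [w', hz₁, hB.invol, mul_div_cancel₀ _ hc0]
  have hg := hM.st_mem hH hc hu (W.smul_mem (σ (μ / c)) hz₀) huw''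
  have := mul_mem (mul_mem (mul_mem hg hkM) (inv_mem hg)) (inv_mem hkM)
  have happ' := st_apply hB (c := c) huu (hH.tsW w' (W.smul_mem _ hz₀) w' (W.smul_mem _ hz₀)) huw''
  have hgu : st B c u w' u = u := by rw [happ', huu, hw'u]; simp
  have hgP : st B c u w' P = P + μ • u := by rw [happ', huP, hw'P]; simp
  rw [show st B c u w' * (st B c u P * tv B u k) * (st B c u w')⁻¹ =
    (st B c u w' * st B c u P * (st B c u w')⁻¹) * (st B c u w' * tv B u k * (st B c u w')⁻¹) by group,
    conj_st hB (st_su hB u w' hc).1, conj_tv hB (st_su hB u w' hc).1, hgu, hgP] at this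
  convert this using 1
  rw [eq_mul_inv_iff_mul_eq]
  refine LinearEquiv.ext fun x => ?_
  have hPu : B P u = 0 := hH.tsU P hP u hu
  have h2 : B (P + μ • u) (P + μ • u) = 0 := by simp [hPP, hPu, huP, huu]
  have h3 : B u (P + μ • u) = 0 := by simp [huP, huu]
  have ed : d = c * (μ + σ μ) := by rw [hμ, mul_div_cancel₀ _ hc0]
  simp only [LinearEquiv.mul_apply, tv_apply huu, Herm.tvU_apply, st_apply hB huu hPP huP, st_apply hB huu h2 h3, map_add, map_smul,
    map_smulₛₗ, LinearMap.add_apply, LinearMap.smul_apply, RingHom.id_apply, smul_eq_mul, huP, hPu, huu, ed, mul_zero, add_zero, zero_add]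
  module

/-- one half becomes a set of centres: the degenerate position -/
lemma half_centres_line (hH : Halves B U W) (hc : c + σ c = 0) (hc0 : c ≠ 0) (hM : Big B U W M) {a b : V}
    (haa : B a a = 0) (hbb : B b b = 0) (hab : B a b = 0) (hmem : ∀ s : F, st B c a (s • b) ∈ M)
    {pa qa pb qb : V} (hpa : pa ∈ U) (hqa : qa ∈ W) (hpb : pb ∈ U) (hqb : qb ∈ W) (hae : a = pa + qa) (hbe : b = pb + qb)
    (hqapb : B qa pb = 0) (hqbpb : B qb pb = 0) (hpb0 : pb ≠ 0) (hpas : pa ∉ Submodule.span F {pb}) :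
    ∀ v ∈ U, v ∈ centres B M := by
  have hB := hH.herm
  obtain ⟨w, hw, hwa, hwN⟩ := hH.exists_one _ hpa hpas (by rw [Submodule.span_singleton_le_iff_mem]; exact hpb) c⁻¹
  have hwb : B w pb = 0 := hwN _ (Submodule.mem_span_singleton_self _)
  have hbw : B pb w = 0 := (Herm.eq_zero_comm hB).1 hwb
  have hpp : B pb pb = 0 := hH.tsU pb hpb pb hpb
  have hpq : B pb qb = 0 := (Herm.eq_zero_comm hB).1 hqbpb
  refine spread hH hc hc0 hM hpb hpb0 ⟨hpp, fun hv d hd => ?_⟩
  obtain ⟨t, ht⟩ := Herm.exists_trace hB.toIsInvol (a := d / c) (by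
    rw [map_div₀, eq_neg_of_add_eq_zero_right hd, eq_neg_of_add_eq_zero_right hc, neg_div_neg_eq])
  have hf := hM.st_mem hH hc hpb hw hbw
  have hapb : B a pb = 0 := by rw [hae, map_add, LinearMap.add_apply, hH.tsU pa hpa pb hpb, hqapb, add_zero]
  have hbpb : B b pb = 0 := by rw [hbe, map_add, LinearMap.add_apply, hpp, hqbpb, add_zero]
  have hpba : B pb a = 0 := (Herm.eq_zero_comm hB).1 hapb
  have hpbb : B pb b = 0 := (Herm.eq_zero_comm hB).1 hbpb
  have hwA : B w a = c⁻¹ := by rw [hae, map_add, hH.tsW w hw qa hqa, add_zero, hwa]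
  have hwB : B w b = 0 := by rw [hbe, map_add, hH.tsW w hw qb hqb, hwb, add_zero]
  have happ := st_apply hB (c := c) hpp (hH.tsW w hw w hw) hbw
  have hmid := mul_mem (mul_mem (mul_mem hf (hmem t)) (inv_mem hf)) (inv_mem (hmem t))
  rw [conj_st hB (st_su hB pb w hc).1, happ, happ, hpba, hwA, map_smul, hpbb, map_smul, hwB, mul_inv_cancel₀ hc0] at hmid
  simp only [smul_zero, mul_zero, zero_smul, add_zero, one_smul] at hmid
  have hpbq : B pb (t • qb) = 0 := by rw [map_smul, hpq, smul_zero]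
  have := mul_mem hmid (inv_mem (hM.st_mem hH hc hpb (W.smul_mem t hqb) hpbq))
  convert this using 1
  rw [eq_mul_inv_iff_mul_eq, eq_mul_inv_iff_mul_eq]
  have hb2 : B (t • b) (t • b) = 0 := by rw [Herm.smul_self hB, hbb, mul_zero]
  have hab2 : B a (t • b) = 0 := by rw [map_smul, hab, smul_zero]
  have h1 : B (a + pb) (a + pb) = 0 := by simp [haa, hapb, hpba, hpp]
  have h3 : B (a + pb) (t • b) = 0 := by simp [hab, hpbb]
  have hq2 : B (t • qb) (t • qb) = 0 := by rw [Herm.smul_self hB, hH.tsW qb hqb qb hqb, mul_zero]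
  refine LinearEquiv.ext fun x => ?_
  have ed : d = c * (t + σ t) := by rw [ht, mul_div_cancel₀ _ hc0]
  have hqe : qb = b - pb := eq_sub_of_add_eq' hbe.symm
  simp only [LinearEquiv.mul_apply, Herm.tvU_apply, st_apply hB h1 hb2 h3, st_apply hB haa hb2 hab2,
    st_apply hB hpp hq2 hpbq, ed]
  rw [hqe]
  simp only [map_add, map_sub, map_smul, map_smulₛₗ, LinearMap.add_apply, LinearMap.sub_apply, LinearMap.smul_apply,
    RingHom.id_apply, smul_eq_mul, hpba, hpbb, hbpb, hapb, hpp, haa, hbb, hab, (Herm.eq_zero_comm hB).1 hab]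
  module

/-- one of the two halves becomes a set of centres -/
lemma some_half (hH : Halves B U W) (hc : c + σ c = 0) (hc0 : c ≠ 0) (hM : Big B U W M) {a b : V}
    (haa : B a a = 0) (hbb : B b b = 0) (hab : B a b = 0) (hmem : ∀ s : F, st B c a (s • b) ∈ M)
    {pa qa pb qb : V} (hpa : pa ∈ U) (hqa : qa ∈ W) (hpb : pb ∈ U) (hqb : qb ∈ W) (hae : a = pa + qa) (hbe : b = pb + qb)
    (hpa0 : pa ≠ 0) (hpb0 : pb ≠ 0) : (∀ v ∈ U, v ∈ centres B M) ∨ ∀ v ∈ W, v ∈ centres B M := by
  classical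
  have hB := hH.herm
  have hspan2 : ∀ {x y : V}, finrank F (Submodule.span F ({x, y} : Set V)) ≤ 2 := fun {x y} => by
    refine (finrank_span_le_card ({x, y} : Set V)).trans ?_
    simp only [Set.toFinset_insert, Set.toFinset_singleton]
    exact Finset.card_le_two
  -- the case of an auxiliary vector outside the two projections
  have generic : ∀ {U W : Submodule F V}, Halves B U W → Big B U W M → ∀ {pa qa pb qb : V}, pa ∈ U → qa ∈ W → pb ∈ U → qb ∈ W →
      a = pa + qa → b = pb + qb → pa ≠ 0 → pb ≠ 0 →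
      ∀ u ∈ U, B qa u = 0 → B qb u = 0 → u ∉ Submodule.span F {pa, pb} → ∀ v ∈ U, v ∈ centres B M := by
    intro U W hH hM pa qa pb qb hpa hqa hpb hqb hae hbe hpa0 hpb0 u hu huqa huqb hus
    have hu0 : u ≠ 0 := fun h => hus (h ▸ Submodule.zero_mem _)
    have key : ∀ x ∈ Submodule.span F ({pa, pb} : Set V), x ≠ 0 → x ∉ Submodule.span F {u} := fun x hx hx0 h => by
      obtain ⟨l, rfl⟩ := Submodule.mem_span_singleton.1 h
      refine hus ((Submodule.smul_mem_iff _ fun hl => hx0 ?_).1 hx)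
      rw [hl, zero_smul]
    by_cases hs : pb ∈ Submodule.span F {pa}
    · obtain ⟨l, rfl⟩ := Submodule.mem_span_singleton.1 hs
      obtain ⟨t, ht⟩ := Herm.exists_trace hB.toIsInvol (a := (1 : F)) (map_one σ)
      have hl : l ≠ 0 := fun h => hpb0 (by rw [h, zero_smul])
      have hpam : pa ∈ Submodule.span F ({pa, l • pa} : Set V) := Submodule.subset_span (by simp)
      obtain ⟨w, hw, h1, hN⟩ := hH.exists_one _ hpa (key _ hpam hpa0) (by rw [Submodule.span_singleton_le_iff_mem]; exact hu) 1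
      refine half_centres_core hH hc hc0 hM haa hbb hab hmem hpa hqa hpb hqb hae hbe (s := t / l) hu hu0 hw huqa huqb
        (hN u (Submodule.mem_span_singleton_self u)) ?_
      rw [smul_smul (t / l) l pa, div_mul_cancel₀ _ hl, map_smul, h1, smul_eq_mul, mul_one, map_one, one_smul, ← add_smul, ht,
        one_smul]
      exact key _ hpam hpa0
    · have hpb' : pb ∉ Submodule.span F ({pa, u} : Set V) := fun h => by
        obtain ⟨x, y, hxy⟩ := Submodule.mem_span_pair.1 h
        rcases eq_or_ne y 0 with rfl | hy0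
        · exact hs (Submodule.mem_span_singleton.2 ⟨x, by rw [← hxy, zero_smul, add_zero]⟩)
        · exact hus (Submodule.mem_span_pair.2 ⟨-(y⁻¹ * x), y⁻¹, by
            rw [← hxy, smul_add, smul_smul, smul_smul, inv_mul_cancel₀ hy0, one_smul, neg_smul, ← add_assoc, neg_add_cancel,
              zero_add]⟩)
      obtain ⟨w, hw, h1, h0⟩ := hH.exists_one _ hpb hpb' (Submodule.span_le.2 (by
        rintro x (rfl | rfl)
        · exact hpa
        · exact hu)) 1
      refine half_centres_core hH hc hc0 hM haa hbb hab hmem hpa hqa hpb hqb hae hbe (s := 1) hu hu0 hw huqa huqb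
        (h0 u (Submodule.subset_span (by simp))) ?_
      rw [one_smul, h0 pa (Submodule.subset_span (by simp)), h1, map_zero, zero_smul, zero_add, map_one, one_smul]
      exact key _ (Submodule.subset_span (by simp)) hpa0
  by_cases hU : ∃ u ∈ U, B qa u = 0 ∧ B qb u = 0 ∧ u ∉ Submodule.span F {pa, pb}
  · obtain ⟨u, hu, h1, h2, h3⟩ := hU
    exact Or.inl (generic hH hM hpa hqa hpb hqb hae hbe hpa0 hpb0 u hu h1 h2 h3)
  push Not at hU
  set K := U ⊓ LinearMap.ker (B qa) ⊓ LinearMap.ker (B qb)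
  have hKle : K ≤ Submodule.span F {pa, pb} := fun u hu => hU u hu.1.1 hu.1.2 hu.2
  by_cases hs : pb ∈ Submodule.span F {pa}
  · -- both projections proportional: work in the other half
    have hle : Submodule.span F ({pa, pb} : Set V) ≤ Submodule.span F {pa} := Submodule.span_le.2 (by
      rintro x (rfl | rfl)
      · exact Submodule.mem_span_singleton_self _
      · exact hs)
    have h1 := Submodule.finrank_mono (hKle.trans hle)
    rw [finrank_span_singleton hpa0] at h1
    have hqa0 : qa ≠ 0 := fun h => by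
      have : K = U ⊓ LinearMap.ker (B qb) := by simp [K, h]
      have h3 := finrank_ker_inf U (B qb)
      have := hH.dimU
      rw [‹K = _›] at h1; omega
    have hqb0 : qb ≠ 0 := fun h => by
      have : K = U ⊓ LinearMap.ker (B qa) := by simp [K, h]
      have h3 := finrank_ker_inf U (B qa)
      have := hH.dimU
      rw [‹K = _›] at h1; omega
    refine Or.inr ?_
    set K' := W ⊓ LinearMap.ker (B pa)
    have h4 := finrank_ker_inf W (B pa)
    have hW3 := hH.dimW
    by_cases hW : ∃ u ∈ W, B pa u = 0 ∧ u ∉ Submodule.span F {qa, qb}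
    · obtain ⟨u, hu, h1', h3⟩ := hW
      obtain ⟨l, rfl⟩ := Submodule.mem_span_singleton.1 hs
      exact generic hH.symm hM.symm hqa hpa hqb hpb (hae.trans (add_comm _ _)) (hbe.trans (add_comm _ _)) hqa0 hqb0 u hu h1'
        (by rw [map_smulₛₗ, LinearMap.smul_apply, h1', smul_zero]) h3
    · push Not at hW
      have hK'le : K' ≤ Submodule.span F {qa, qb} := fun u hu => hW u hu.1 hu.2
      have heq : K' = Submodule.span F {qa, qb} := Submodule.eq_of_le_of_finrank_le hK'le (by
        have := hspan2 (x := qa) (y := qb)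
        show finrank F _ ≤ finrank F ↥(W ⊓ LinearMap.ker (B pa))
        omega)
      obtain ⟨l, rfl⟩ := Submodule.mem_span_singleton.1 hs
      have hk : B pa qb = 0 := (heq.ge (Submodule.subset_span (by simp)) : qb ∈ K').2
      refine half_centres_line hH.symm hc hc0 hM.symm haa hbb hab hmem hqa hpa hqb hpb (hae.trans (add_comm _ _))
        (hbe.trans (add_comm _ _)) hk (by rw [map_smulₛₗ, LinearMap.smul_apply, hk, smul_zero]) hqb0 fun h => ?_
      obtain ⟨m, hm⟩ := Submodule.mem_span_singleton.1 h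
      have h5 : K' ≤ Submodule.span F {qb} := hK'le.trans (Submodule.span_le.2 (by
        rintro x (rfl | rfl)
        · exact h
        · exact Submodule.mem_span_singleton_self _))
      have h6 := Submodule.finrank_mono h5
      rw [finrank_span_singleton hqb0] at h6
      have h7 : finrank F ↥K' = finrank F ↥(W ⊓ LinearMap.ker (B pa)) := rfl
      omega
  · obtain ⟨u, hu, hu0⟩ := K.exists_mem_ne_zero_of_ne_bot (fun h => by
      have h1 := finrank_ker_inf U (B qa)
      have h2 := finrank_ker_inf (U ⊓ LinearMap.ker (B qa)) (B qb)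
      have h3 : finrank F ↥(U ⊓ LinearMap.ker (B qa) ⊓ LinearMap.ker (B qb)) = 0 := by
        show finrank F ↥K = 0
        rw [h, finrank_bot]
      have := hH.dimU
      omega)
    obtain ⟨x, y, hxy⟩ := Submodule.mem_span_pair.1 (hKle hu)
    have hpas : pa ∉ Submodule.span F {pb} := fun h => by
      obtain ⟨l, hl⟩ := Submodule.mem_span_singleton.1 h
      have hl0 : l ≠ 0 := fun h0 => hpa0 (by rw [← hl, h0, zero_smul])
      exact hs (Submodule.mem_span_singleton.2 ⟨l⁻¹, by rw [← hl, smul_smul, inv_mul_cancel₀ hl0, one_smul]⟩)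
    refine Or.inl ?_
    rcases eq_or_ne x 0 with rfl | hx
    · rw [zero_smul, zero_add] at hxy
      have hy : y ≠ 0 := fun h => hu0 (by rw [← hxy, h, zero_smul])
      have hk : pb ∈ K := (Submodule.smul_mem_iff _ hy).1 (hxy ▸ hu)
      exact half_centres_line hH hc hc0 hM haa hbb hab hmem hpa hqa hpb hqb hae hbe hk.1.2 hk.2 hpb0 hpas
    rcases eq_or_ne y 0 with rfl | hy
    · rw [zero_smul, add_zero] at hxy
      have hk : pa ∈ K := (Submodule.smul_mem_iff _ hx).1 (hxy ▸ hu)
      refine half_centres_line hH hc hc0 hM hbb haa ((Herm.eq_zero_comm hB).1 hab) (fun t => ?_) hpb hqb hpa hqa hbe hae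
        hk.2 hk.1.2 hpa0 hs
      have e : st B c b (t • a) = st B c a (σ t • b) := by
        have ha2 : B (t • a) (t • a) = 0 := by rw [Herm.smul_self hB, haa, mul_zero]
        have hb2 : B (σ t • b) (σ t • b) = 0 := by rw [Herm.smul_self hB, hbb, mul_zero]
        refine LinearEquiv.ext fun x => ?_
        rw [st_apply hB hbb ha2 (by rw [map_smul, (Herm.eq_zero_comm hB).1 hab, smul_zero]),
          st_apply hB haa hb2 (by rw [map_smul, hab, smul_zero]), map_smulₛₗ, map_smulₛₗ, LinearMap.smul_apply,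
          LinearMap.smul_apply, hB.invol, smul_eq_mul, smul_eq_mul]
        module
      rw [e]; exact hmem _
    · -- a vector of general position in the plane of the projections
      obtain ⟨s₀, hs₀⟩ := Herm.exists_trace hB.toIsInvol (a := (1 : F)) (map_one σ)
      obtain ⟨w₁, hw₁, hw₁a, hw₁b⟩ := hH.exists_one _ hpa hpas (by rw [Submodule.span_singleton_le_iff_mem]; exact hpb) 1
      obtain ⟨w₂, hw₂, hw₂b, hw₂a⟩ := hH.exists_one _ hpb hs (by rw [Submodule.span_singleton_le_iff_mem]; exact hpa) 1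
      have ea : B (σ y • w₁ + σ (-x) • w₂) pa = y := by
        simp [hw₁a, hw₂a pa (Submodule.mem_span_singleton_self _), hB.invol]
      have eb : B (σ y • w₁ + σ (-x) • w₂) pb = -x := by
        simp [hw₂b, hw₁b pb (Submodule.mem_span_singleton_self _), hB.invol]
      refine half_centres_core hH hc hc0 hM haa hbb hab hmem hpa hqa hpb hqb hae hbe
        (s := s₀ / (x * σ y)) hu.1.1 hu0 (W.add_mem (W.smul_mem _ hw₁) (W.smul_mem _ hw₂)) hu.1.2 hu.2
        (by rw [← hxy, map_add, map_smul, map_smul, ea, eb]; simp; ring) fun h => ?_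
      obtain ⟨k, hk⟩ := Submodule.mem_span_singleton.1 h
      rw [map_smul, ea, eb, ← hxy] at hk
      set t := s₀ / (x * σ y) with ht
      have e1 : (k * x - σ (t * -x)) • pa + (k * y - σ y * t) • pb = 0 := by
        rw [sub_smul, sub_smul]
        rw [smul_add, smul_smul, smul_smul, smul_smul, smul_eq_mul] at hk
        rw [sub_add_sub_comm, hk, sub_eq_zero]
        abel
      have hli : ∀ α β : F, α • pa + β • pb = 0 → α = 0 ∧ β = 0 := fun α β e => by
        have hβ : β = 0 := by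
          by_contra hβ
          exact hs (Submodule.mem_span_singleton.2 ⟨-(β⁻¹ * α), by
            rw [neg_smul, ← smul_smul, eq_neg_of_add_eq_zero_left e, smul_neg, neg_neg, smul_smul, inv_mul_cancel₀ hβ, one_smul]⟩)
        refine ⟨?_, hβ⟩
        rw [hβ, zero_smul, add_zero] at e
        exact (smul_eq_zero.1 e).resolve_right hpa0
      obtain ⟨e2, e3⟩ := hli _ _ e1
      have key : x * σ y * t + y * σ (x * t) = 0 := by
        rw [map_mul σ t, map_neg] at e2
        rw [map_mul]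
        linear_combination y * e2 - x * e3
      have hkey' : y * σ (x * t) = σ (x * σ y * t) := by rw [map_mul, map_mul, map_mul, hB.invol]; ring
      have hσy : σ y ≠ 0 := (map_ne_zero σ).2 hy
      have hst : x * σ y * t = s₀ := by rw [ht]; field_simp
      rw [hkey', hst, hs₀] at key
      exact one_ne_zero key

/-- an element of determinant one interchanging the halves -/
lemma exists_swap (hH : Halves B U W) : ∃ h : V ≃ₗ[F] V, h ∈ Herm.suG B ∧ (∀ x ∈ U, h x ∈ W) ∧ ∀ x ∈ W, h x ∈ U := by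
  classical
  have hB := hH.herm
  set n := finrank F U
  let e := Module.finBasis F U
  have hφ : ∀ i, ∃ w ∈ W, ∀ x : U, B w x = e.repr x i := fun i => by
    obtain ⟨φ, hφ⟩ := LinearMap.exists_extend (e.coord i)
    obtain ⟨w, hw, hwφ⟩ := hH.exists_dual φ
    exact ⟨w, hw, fun x => by rw [hwφ x x.2]; exact LinearMap.congr_fun hφ x⟩
  choose f hf hfe using hφ
  let h : V →ₗ[F] V := ∑ i, ((B (f i)).smulRight (f i) + (B (e i : V)).smulRight (e i : V))
  have happ : ∀ x, h x = ∑ i, (B (f i) x • f i + B (e i) x • (e i : V)) := fun x => by simp [h]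
  have hU : ∀ x ∈ U, (∑ i, B (f i) x • (e i : V)) = x := fun x hx => by
    have := congrArg (Subtype.val) (e.sum_repr ⟨x, hx⟩)
    rw [Submodule.coe_sum] at this
    simp only [hfe _ ⟨x, hx⟩]
    exact this
  have hexp : ∀ x, x = ∑ i, (B (f i) x • (e i : V) + B (e i) x • f i) := fun x => by
    obtain ⟨p, hp, q, hq, rfl⟩ := hH.dec x
    have hq' : q = ∑ i, B (e i) q • f i := by
      refine hH.ext (fun z hz => ?_) fun z hz => ?_
      · rw [map_sum, LinearMap.sum_apply]
        conv_lhs => rw [← hU z hz, map_sum]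
        refine Finset.sum_congr rfl fun i _ => ?_
        rw [map_smul, smul_eq_mul, map_smulₛₗ, LinearMap.smul_apply, smul_eq_mul, hB.symm]
        ring
      · rw [hH.tsW q hq z hz, map_sum, LinearMap.sum_apply, Finset.sum_eq_zero fun i _ => ?_]
        rw [map_smulₛₗ, LinearMap.smul_apply, hH.tsW (f i) (hf i) z hz, smul_zero]
    rw [Finset.sum_add_distrib]
    have h1 : ∀ i, B (f i) (p + q) = B (f i) p := fun i => by rw [map_add, hH.tsW (f i) (hf i) q hq, add_zero]
    have h2 : ∀ i, B (e i : V) (p + q) = B (e i : V) q := fun i => by rw [map_add, hH.tsU _ (e i).2 p hp, zero_add]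
    simp only [h1, h2]
    rw [hU p hp, ← hq']
  have hform : ∀ x y, B (h x) (h y) = B x y := fun x y => by
    have hinner : ∀ i j, B (B (f i) x • f i + B (e i) x • (e i : V)) (B (f j) y • f j + B (e j) y • (e j : V)) =
        if i = j then B x (f i) * B (e i) y + B x (e i) * B (f i) y else 0 := fun i j => by
      have hd : B (f i) (e j : V) = if i = j then (1 : F) else 0 := by
        rw [hfe, e.repr_self, Finsupp.single_apply]; simp [eq_comm]
      have hd' : B (e i : V) (f j) = if i = j then (1 : F) else 0 := by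
        rw [← hB.symm, hfe, e.repr_self, Finsupp.single_apply, apply_ite σ, map_one, map_zero]
      simp only [map_add, map_smul, map_smulₛₗ, LinearMap.add_apply, LinearMap.smul_apply, smul_eq_mul, RingHom.id_apply,
        hB.symm, hH.tsW (f i) (hf i) (f j) (hf j), hH.tsU _ (e i).2 _ (e j).2, hd, hd']
      split_ifs with hij
      · subst hij; ring
      · ring
    rw [happ, happ]
    simp only [map_sum, LinearMap.sum_apply, hinner]
    rw [Finset.sum_comm]
    conv_rhs => rw [hexp x]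
    simp only [map_sum, LinearMap.sum_apply]
    refine Finset.sum_congr rfl fun i _ => ?_
    rw [Finset.sum_ite_eq]
    simp only [Finset.mem_univ, if_true, map_add, map_smulₛₗ, LinearMap.add_apply, LinearMap.smul_apply, smul_eq_mul, hB.symm]
  have hinj : Function.Injective h := LinearMap.ker_eq_bot.1 (LinearMap.ker_eq_bot'.2 fun x hx => hB.nondeg x fun y => by
    rw [← hform, hx, map_zero, LinearMap.zero_apply])
  let h' := LinearEquiv.ofInjectiveEndo h hinj
  have hU' : ∀ x ∈ U, h' x ∈ W := fun x hx => by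
    show h x ∈ W
    rw [happ]
    exact W.sum_mem fun i _ => by
      rw [hH.tsU _ (e i).2 x hx, zero_smul, add_zero]; exact W.smul_mem _ (hf i)
  have hW' : ∀ x ∈ W, h' x ∈ U := fun x hx => by
    show h x ∈ U
    rw [happ]
    exact U.sum_mem fun i _ => by
      rw [hH.tsW _ (hf i) x hx, zero_smul, zero_add]; exact U.smul_mem _ (e i).2
  have hi : ∀ x y, B (h' x) (h' y) = B x y := fun x y => hform x y
  have hδ : σ (LinearMap.det h'.toLinearMap) * σ (σ (LinearMap.det h'.toLinearMap)) = 1 := by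
    rw [hB.invol, mul_comm]; exact det_norm hB hi
  let i0 : Fin (finrank F U) := ⟨0, by have := hH.dimU; omega⟩
  have hef : B (e i0 : V) (f i0) = 1 := by rw [← hB.symm, hfe, e.repr_self, Finsupp.single_eq_same, map_one]
  obtain ⟨r, hri, hrd, a, b, hr⟩ := exists_pair_scale hB (hH.tsU _ (e i0).2 _ (e i0).2) (hH.tsW _ (hf i0) _ (hf i0)) hef hδ
  refine ⟨r * h', mem_suG hB (fun x y => ?_) ?_, fun x hx => ?_, fun x hx => ?_⟩
  · rw [LinearEquiv.mul_apply, LinearEquiv.mul_apply, hri, hi]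
  · show LinearMap.det (r.toLinearMap.comp h'.toLinearMap) = 1
    rw [LinearMap.det_comp, hrd, mul_comm]
    exact det_norm hB hi
  · rw [LinearEquiv.mul_apply, hr, hH.tsW _ (hf i0) _ (hU' x hx), mul_zero, zero_smul, add_zero]
    exact W.add_mem (hU' x hx) (W.smul_mem _ (hf i0))
  · rw [LinearEquiv.mul_apply, hr, hH.tsU _ (e i0).2 _ (hW' x hx), mul_zero, zero_smul, add_zero]
    exact U.add_mem (hW' x hx) (U.smul_mem _ (e i0).2)

lemma sub_union (g : V ≃ₗ[F] V) (h : ∀ x ∈ U, g x ∈ U ∨ g x ∈ W) : (∀ x ∈ U, g x ∈ U) ∨ ∀ x ∈ U, g x ∈ W := by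
  by_contra! hc
  obtain ⟨⟨x, hx, hxU⟩, y, hy, hyW⟩ := hc
  rcases h _ (U.add_mem hx hy) with h' | h' <;> rw [map_add] at h'
  · exact hxU ((Submodule.add_mem_iff_left _ ((h y hy).resolve_right hyW)).1 h')
  · exact hyW ((Submodule.add_mem_iff_right _ ((h x hx).resolve_left hxU)).1 h')

lemma all_centres (hH : Halves B U W) (hc : c + σ c = 0) (hc0 : c ≠ 0) (hM : Big B U W M) (g : V ≃ₗ[F] V) (hgM : g ∈ M)
    (hgi : ∀ x y, B (g x) (g y) = B x y)
    (hg : ¬(((∀ x ∈ U, g x ∈ U) ∧ ∀ x ∈ W, g x ∈ W) ∨ ((∀ x ∈ U, g x ∈ W) ∧ ∀ x ∈ W, g x ∈ U))) :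
    ∀ v, B v v = 0 → v ∈ centres B M := by
  have hB := hH.herm
  obtain ⟨u, hu, w, hw, huw, hnot⟩ : ∃ u ∈ U, ∃ w ∈ W, B u w = 0 ∧ ((g u ∉ W ∧ g w ∉ W) ∨ (g u ∉ U ∧ g w ∉ U)) := by
    by_contra! hn
    have key : ∀ u ∈ U, ∀ w ∈ W, B u w = 0 → u ≠ 0 → w ≠ 0 → (g u ∈ U ∧ g w ∈ W) ∨ (g u ∈ W ∧ g w ∈ U) := by
      intro u hu w hw huw hu0 hw0
      obtain ⟨h1, h2⟩ := hn u hu w hw huw
      by_cases h3 : g u ∈ W
      · exact Or.inr ⟨h3, h2 fun h => hu0 (g.map_eq_zero_iff.1 (hH.disj h h3))⟩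
      · have h4 := h1 h3
        refine Or.inl ⟨?_, h4⟩
        by_contra h5
        exact hw0 (g.map_eq_zero_iff.1 (hH.disj (h2 h5) h4))
    have sub : ∀ {U W : Submodule F V}, Halves B U W → ∀ u ∈ U, ∃ w ∈ W, w ≠ 0 ∧ B u w = 0 := by
      intro U W hH u hu
      obtain ⟨y, hy, hys⟩ := hH.exists_indep u
      obtain ⟨w, hw, h1, h0⟩ := hH.exists_one _ hy hys (by rw [Submodule.span_singleton_le_iff_mem]; exact hu) 1
      exact ⟨w, hw, fun h => by simp [h] at h1, (Herm.eq_zero_comm hB).1 (h0 u (Submodule.mem_span_singleton_self u))⟩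
    have hU' : ∀ x ∈ U, g x ∈ U ∨ g x ∈ W := fun x hx => by
      rcases eq_or_ne x 0 with rfl | hx0
      · left; simp
      · obtain ⟨w, hw, hw0, hxw⟩ := sub hH x hx
        exact (key x hx w hw hxw hx0 hw0).imp And.left And.left
    have hW' : ∀ x ∈ W, g x ∈ W ∨ g x ∈ U := fun x hx => by
      rcases eq_or_ne x 0 with rfl | hx0
      · left; simp
      · obtain ⟨u, hu, hu0, hxu⟩ := sub hH.symm x hx
        exact (key u hu x hx ((Herm.eq_zero_comm hB).1 hxu) hu0 hx0).imp And.right And.right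
    obtain ⟨y, hy, hy0⟩ := U.exists_mem_ne_zero_of_ne_bot fun h => by
      have := hH.dimU; rw [h, finrank_bot] at this; omega
    obtain ⟨w, hw, hw0, hyw⟩ := sub hH y hy
    refine hg ?_
    rcases sub_union g hU' with h | h
    · refine Or.inl ⟨h, ?_⟩
      rcases sub_union g hW' with h' | h'
      · exact h'
      · exfalso
        rcases key y hy w hw hyw hy0 hw0 with ⟨-, h3⟩ | ⟨h3, -⟩
        · exact hw0 (g.map_eq_zero_iff.1 (hH.disj (h' w hw) h3))
        · exact hy0 (g.map_eq_zero_iff.1 (hH.disj (h y hy) h3))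
    · refine Or.inr ⟨h, ?_⟩
      rcases sub_union g hW' with h' | h'
      · exfalso
        rcases key y hy w hw hyw hy0 hw0 with ⟨h3, -⟩ | ⟨-, h3⟩
        · exact hy0 (g.map_eq_zero_iff.1 (hH.disj h3 (h y hy)))
        · exact hw0 (g.map_eq_zero_iff.1 (hH.disj h3 (h' w hw)))
      · exact h'
  obtain ⟨pa, hpa, qa, hqa, hae⟩ := hH.dec (g u)
  obtain ⟨pb, hpb, qb, hqb, hbe⟩ := hH.dec (g w)
  have haa : B (g u) (g u) = 0 := (hgi u u).trans (hH.tsU u hu u hu)
  have hbb : B (g w) (g w) = 0 := (hgi w w).trans (hH.tsW w hw w hw)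
  have hab : B (g u) (g w) = 0 := (hgi u w).trans huw
  have hmem : ∀ s : F, st B c (g u) (s • g w) ∈ M := fun s => by
    rw [← map_smul, ← conj_st hB hgi]
    exact mul_mem (mul_mem hgM (hM.st_mem hH hc hu (W.smul_mem s hw) (by rw [map_smul, huw, smul_zero]))) (inv_mem hgM)
  obtain ⟨h, hh, hhU, hhW⟩ := exists_swap hH
  have hhM : h ∈ M := hM h hh.1 (by simpa [Units.ext_iff] using hh.2) (Or.inr ⟨hhU, hhW⟩)
  have hhi' : ∀ x y, B (h⁻¹ x) (h⁻¹ y) = B x y := fun x y => by
    rw [← hh.1 (h⁻¹ x) (h⁻¹ y)]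
    show B (h (h.symm x)) (h (h.symm y)) = _
    rw [LinearEquiv.apply_symm_apply, LinearEquiv.apply_symm_apply]
  have hboth : (∀ v ∈ U, v ∈ centres B M) ∧ ∀ v ∈ W, v ∈ centres B M := by
    have hC : (∀ v ∈ U, v ∈ centres B M) ∨ ∀ v ∈ W, v ∈ centres B M := by
      rcases hnot with ⟨ha, hb⟩ | ⟨ha, hb⟩
      · exact some_half hH hc hc0 hM haa hbb hab hmem hpa hqa hpb hqb hae hbe
          (fun h0 => ha (by rw [hae, h0, zero_add]; exact hqa)) (fun h0 => hb (by rw [hbe, h0, zero_add]; exact hqb))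
      · exact (some_half hH.symm hc hc0 hM.symm haa hbb hab hmem hqa hpa hqb hpb (hae.trans (add_comm _ _))
          (hbe.trans (add_comm _ _)) (fun h0 => ha (by rw [hae, h0, add_zero]; exact hpa))
          (fun h0 => hb (by rw [hbe, h0, add_zero]; exact hpb))).symm
    rcases hC with hC | hC
    · refine ⟨hC, fun v hv => ?_⟩
      have := map_mem_centres hB (hC (h v) (hhW v hv)) (inv_mem hhM) hhi'
      rwa [show h⁻¹ (h v) = v from h.symm_apply_apply v] at this
    · refine ⟨fun v hv => ?_, hC⟩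
      have := map_mem_centres hB (hC (h v) (hhU v hv)) (inv_mem hhM) hhi'
      rwa [show h⁻¹ (h v) = v from h.symm_apply_apply v] at this
  have pairing : ∀ p ∈ U, ∀ q ∈ W, B p q ≠ 0 → B p q + σ (B p q) = 0 → p + q ∈ centres B M := fun p hp q hq hne htr => by
    have hqp : B q p ≠ 0 := fun h => hne ((Herm.eq_zero_comm hB).1 h)
    have := move_mem_centres hB (hboth.1 p hp) (hboth.2 q hq) (c := (B q p)⁻¹) (by
      rw [← hB.symm p q, map_inv₀, hB.invol, eq_neg_of_add_eq_zero_right htr, inv_neg, neg_add_cancel])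
    rwa [inv_mul_cancel₀ hqp, one_smul] at this
  intro v hv
  obtain ⟨p, hp, q, hq, rfl⟩ := hH.dec v
  rcases eq_or_ne q 0 with rfl | hq0
  · rw [add_zero]; exact hboth.1 p hp
  have htr : B p q + σ (B p q) = 0 := by
    rw [hB.symm]
    simpa [hH.tsU p hp p hp, hH.tsW q hq q hq, add_comm] using hv
  rcases eq_or_ne (B p q) 0 with hpq | hpq
  · obtain ⟨x, hx, hxq⟩ : ∃ x ∈ U, B x q ≠ 0 := by
      by_contra! hn
      refine hq0 (hH.ext (fun z hz => ?_) fun z hz => ?_)
      · rw [(Herm.eq_zero_comm hB).1 (hn z hz)]; simp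
      · rw [hH.tsW q hq z hz]; simp
    have hcs : σ c = -c := eq_neg_of_add_eq_zero_right hc
    have hkey : B (p + (c * B x q) • x) q = σ c * (σ (B x q) * B x q) := by
      simp [hpq, mul_assoc]
    have hxpq : B x (p + (c * B x q) • x + q) = B x q := by
      simp [hH.tsU x hx p hp, hH.tsU x hx x hx]
    have hcen : p + (c * B x q) • x + q ∈ centres B M := by
      refine pairing _ (U.add_mem hp (U.smul_mem _ hx)) q hq ?_ ?_
      · rw [hkey]; exact mul_ne_zero ((map_ne_zero σ).2 hc0) (mul_ne_zero ((map_ne_zero σ).2 hxq) hxq)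
      · rw [hkey, map_mul, map_mul, hB.invol, hB.invol, hcs]; ring
    have := move_mem_centres hB hcen (hboth.1 x hx) (c := -c) (by rw [map_neg, hcs]; ring)
    rw [hxpq] at this
    convert this using 1
    module
  · exact pairing p hp q hq hpq htr

end

/-- The maximality statement from dimension 6 on. -/
theorem maximal {F : Type*} [Field F] [Fintype F] (n q : ℕ) (hF : Fintype.card F = q ^ 2) (hn : 6 ≤ n) (k : ℕ) (hk : 2 * k = n) (D : Fin 2 → Submodule F (Fin n → F)) (hD : Cfsg.Geo.IsMDecomposition k D) (hts : ∀ i, Cfsg.Geo.IsTotallySingularFor (Cfsg.hermForm n F q) (D i)) : Cfsg.Geo.IsMaximalIn (Cfsg.GU n F q ⊓ Cfsg.Geo.specialLinear (Fin n) F) (Cfsg.Geo.decompositionStabilizer D ⊓ (Cfsg.GU n F q ⊓ Cfsg.Geo.specialLinear (Fin n) F)) := by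
  classical
  obtain ⟨σ, hσq, hσ, -, -⟩ := exists_powHom hF
  set B := hermB n σ
  have hB : Herm.IsHerm B := hermB_isHerm hσ n
  have hBf : ∀ x y, B x y = Cfsg.hermForm n F q y x := fun x y => by rw [hermForm_eq hσq]
  have hsup : D 0 ⊔ D 1 = ⊤ := by
    rw [← hD.iSup_eq_top]
    refine le_antisymm (sup_le (le_iSup D 0) (le_iSup D 1)) (iSup_le fun i => ?_)
    fin_cases i
    · exact le_sup_left
    · exact le_sup_right
  have hH : Halves B (D 0) (D 1) :=
    { herm := hB
      tsU := fun x hx y hy => by rw [hBf]; exact hts 0 y hy x hx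
      tsW := fun x hx y hy => by rw [hBf]; exact hts 1 y hy x hx
      dec := fun v => by
        obtain ⟨p, hp, q, hq, e⟩ := Submodule.mem_sup.1 (hsup.ge (Submodule.mem_top (x := v)))
        exact ⟨p, hp, q, hq, e.symm⟩
      dimU := by rw [hD.finrank_eq]; omega
      dimW := by rw [hD.finrank_eq]; omega }
  obtain ⟨c, hc0, hcs⟩ := Herm.exists_skew hσ
  have hc : c + σ c = 0 := by rw [hcs, add_neg_cancel]
  obtain ⟨u, hu, hu0⟩ := (D 0).exists_mem_ne_zero_of_ne_bot fun h => by
    have := hD.finrank_eq 0; rw [h, finrank_bot] at this; omega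
  obtain ⟨x, hx, hxs⟩ := hH.exists_indep u
  have hx0 : x ≠ 0 := fun h => hxs (h ▸ Submodule.zero_mem _)
  have hus : u ∉ Submodule.span F {x} := fun h => by
    obtain ⟨l, hl⟩ := Submodule.mem_span_singleton.1 h
    rcases eq_or_ne l 0 with rfl | hl0
    · exact hu0 (by rw [← hl, zero_smul])
    · exact hxs (Submodule.mem_span_singleton.2 ⟨l⁻¹, by rw [← hl, smul_smul, inv_mul_cancel₀ hl0, one_smul]⟩)
  obtain ⟨w, hw, hwu, hwx⟩ := hH.exists_one _ hu hus (by rw [Submodule.span_singleton_le_iff_mem]; exact hx) c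
  have huw : B u w = -c := by rw [← hB.symm, hwu, hcs]
  have hv : B (u + w) (u + w) = 0 := by simp [hH.tsU u hu u hu, hH.tsW w hw w hw, hwu, huw]
  refine isMaximalIn_suGL hσ hσq (by omega) _ ⟨u + w, hv, c, hc, fun hmem => ?_⟩ fun M hK ⟨g, hgM, hgi, hgK⟩ => ?_
  · obtain ⟨τ, hτ⟩ := hmem
    have hto : ∀ z ∈ D 0, Herm.tvU hv c z ∈ D (τ 0) := fun z hz => by
      rw [← hτ 0]
      exact ⟨z, hz, by rw [Matrix.toLin'_apply]; exact symm_mulVec _ z⟩
    have h1 := hto x hx
    rw [Herm.tvU_apply, map_add, LinearMap.add_apply, hH.tsU u hu x hx, hwx x (Submodule.mem_span_singleton_self x), add_zero,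
      mul_zero, zero_smul, add_zero] at h1
    have h2 := hto u hu
    rw [Herm.tvU_apply, map_add, LinearMap.add_apply, hH.tsU u hu u hu, hwu, zero_add] at h2
    generalize τ 0 = i at h1 h2
    fin_cases i
    · have h3 : u + w ∈ D 0 := ((D 0).smul_mem_iff (mul_ne_zero hc0 hc0)).1 (((D 0).add_mem_iff_right hu).1 h2)
      have hw0 : w = 0 := hH.disj (((D 0).add_mem_iff_right hu).1 h3) hw
      rw [hw0, map_zero, LinearMap.zero_apply] at hwu
      exact hc0 hwu.symm
    · exact hx0 (hH.disj hx h1)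
  · have rk : ∀ (f : (Fin n → F) ≃ₗ[F] (Fin n → F)),
        (((∀ x ∈ D 0, f x ∈ D 0) ∧ ∀ x ∈ D 1, f x ∈ D 1) ∨ ((∀ x ∈ D 0, f x ∈ D 1) ∧ ∀ x ∈ D 1, f x ∈ D 0)) →
        (glEquiv (Fin n) F).symm f ∈ Cfsg.Geo.decompositionStabilizer D := by
      intro f hf
      obtain ⟨τ, hτ⟩ : ∃ τ : Equiv.Perm (Fin 2), ∀ i, ∀ x ∈ D i, f x ∈ D (τ i) := by
        rcases hf with ⟨h0, h1⟩ | ⟨h0, h1⟩
        · exact ⟨1, fun i => by fin_cases i <;> simpa⟩
        · exact ⟨Equiv.swap 0 1, fun i => by fin_cases i <;> simpa⟩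
      refine ⟨τ, fun i => ?_⟩
      have e : Matrix.toLin' (((glEquiv (Fin n) F).symm f : Matrix.GeneralLinearGroup (Fin n) F) : Matrix (Fin n) (Fin n) F) = f.toLinearMap :=
        LinearMap.ext fun x => by rw [Matrix.toLin'_apply]; exact symm_mulVec f x
      rw [e]
      exact Submodule.eq_of_le_of_finrank_eq (by rintro _ ⟨x, hx, rfl⟩; exact hτ i x hx)
        (by rw [LinearEquiv.finrank_map_eq, hD.finrank_eq, hD.finrank_eq])
    exact all_centres hH hc hc0 (fun f hf hf' hf'' => hK f hf hf' (rk f hf'')) g hgM hgi fun h => hgK (rk g h)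

/-- Let F be the field with q² elements and n = 2k ≥ 13. Let D be a decomposition of F^n into two complementary subspaces of dimension k on each of which the standard unitary form vanishes identically. Then the elements of SU_n(q) preserving or interchanging the two subspaces form a maximal subgroup of SU_n(q). -/
theorem result {F : Type*} [Field F] [Fintype F] (n q : ℕ) (hF : Fintype.card F = q ^ 2) (hn : 13 ≤ n) (k : ℕ) (hk : 2 * k = n) (D : Fin 2 → Submodule F (Fin n → F)) (hD : Cfsg.Geo.IsMDecomposition k D) (hts : ∀ i, Cfsg.Geo.IsTotallySingularFor (Cfsg.hermForm n F q) (D i)) : Cfsg.Geo.IsMaximalIn (Cfsg.GU n F q ⊓ Cfsg.Geo.specialLinear (Fin n) F) (Cfsg.Geo.decompositionStabilizer D ⊓ (Cfsg.GU n F q ⊓ Cfsg.Geo.specialLinear (Fin n) F)) :=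
  maximal n q hF (by omega) k hk D hD hts

end Cfsg.Agent.S5657
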