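import Cfsg.Statements.S5658
import Cfsg.Agent.ClassicalMax.Subfield.UnitBridge
import Cfsg.Agent.ClassicalMax.Subfield.PairHalf

set_option autoImplicit false
open Cfsg

namespace Cfsg.Agent.S5658

open Module Cfsg.Agent.ClassicalMax Cfsg.Agent.ClassicalMax.Subfield Cfsg.Agent.Classical Cfsg.Agent.Classical.Herm

/-- The maximality statement from dimension 6 on. -/
theorem maximal {F : Type*} [Field F] [Fintype F] (n q : ℕ) (hF : Fintype.card F = q ^ 2) (hn : 6 ≤ n) (F₀ : Subfield F) (r : ℕ) (hr : r.Prime) (hro : Odd r) (hcard : Fintype.card F = Nat.card F₀ ^ r) (P : Matrix.GeneralLinearGroup (Fin n) F) (hP : Cfsg.Geo.IsFormRationalStructure (Cfsg.hermForm n F q) F₀ 1 P) : Cfsg.Geo.IsMaximalIn (Cfsg.GU n F q ⊓ Cfsg.Geo.specialLinear (Fin n) F) (Cfsg.Geo.subfieldSubgroup F₀ P ⊓ (Cfsg.GU n F q ⊓ Cfsg.Geo.specialLinear (Fin n) F)) := by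
  classical
  haveI : Fintype F₀ := Fintype.ofFinite F₀
  obtain ⟨σ, hσq, hσ, hfix, hq⟩ := exists_powHom hF
  set A := fun k => Subfield.Unit.formP (n := n) σ k P with hAd
  have hstab : ∀ a ∈ F₀, σ a ∈ F₀ := fun a ha => by rw [hσq]; exact F₀.pow_mem ha q
  have hh : ∀ u v, RV F₀ u → RV F₀ v → hermB n σ (glEquiv (Fin n) F P u) (glEquiv (Fin n) F P v) ∈ F₀ := fun u v hu hv => by
    have := hP v u hv hu
    rw [one_mul, hermForm_eq hσq] at this
    exact this
  -- the involution is not trivial on the subfield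
  obtain ⟨b, hb, hbσ⟩ : ∃ b ∈ F₀, σ b ≠ b := by
    by_contra! hc
    have hle : F₀ ≤ Herm.fixField σ := fun a ha => hc a ha
    letI : Algebra F₀ (Herm.fixField σ) := (Subfield.inclusion hle).toAlgebra
    have h0 : 1 < Nat.card F₀ := Finite.one_lt_card
    have h1 := Module.natCard_eq_pow_finrank (K := F₀) (V := Herm.fixField σ)
    rw [hfix] at h1
    have h2 : Nat.card F₀ ^ r = Nat.card F₀ ^ (finrank F₀ (Herm.fixField σ) * 2) := by rw [pow_mul, ← h1, ← hcard, hF]
    have h3 := Nat.pow_right_injective h0 h2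
    exact absurd hro (Nat.not_odd_iff_even.2 ⟨finrank F₀ (Herm.fixField σ), by omega⟩)
  set k := b - σ b with hkd
  have hkF : k ∈ F₀ := F₀.sub_mem hb (hstab b hb)
  have hk0 : k ≠ 0 := sub_ne_zero.2 (Ne.symm hbσ)
  have hk : σ k = -k := by rw [hkd, map_sub, hσ.invol, neg_sub]
  have hform : ∀ u v, RV F₀ u → RV F₀ v → A k u v ∈ F₀ := fun u v hu hv => F₀.mul_mem hkF (hh u v hu hv)
  -- the form on the rational points
  let σ₀ : F₀ →+* F₀ := (σ.comp F₀.subtype).codRestrict F₀ fun a => hstab a a.2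
  have hσ₀c : ∀ a : F₀, ((σ₀ a : F₀) : F) = σ a := fun a => rfl
  have hσ₀ : Herm.IsInvol σ₀ :=
    ⟨fun h => hbσ (congrArg Subtype.val (RingHom.congr_fun h ⟨b, hb⟩)), fun a => Subtype.ext (hσ.invol a)⟩
  let up : (Fin n → F₀) → (Fin n → F) := fun x i => (x i : F)
  have hup : ∀ x, RV F₀ (up x) := fun x i => (x i).2
  let B₀ : (Fin n → F₀) →ₛₗ[σ₀] (Fin n → F₀) →ₗ[F₀] F₀ := LinearMap.mk₂'ₛₗ σ₀ (RingHom.id F₀)
    (fun x y => ⟨_, hh _ _ (hup x) (hup y)⟩)
    (fun a b c => Subtype.ext (by
      show hermB n σ (glEquiv (Fin n) F P (up (a + b))) _ = _ + _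
      rw [← LinearMap.add_apply, ← map_add, ← map_add]
      rfl))
    (fun c a b => Subtype.ext (by
      show hermB n σ (glEquiv (Fin n) F P (up (c • a))) _ = σ c * _
      rw [← smul_eq_mul, ← LinearMap.smul_apply, ← map_smulₛₗ, ← map_smul]
      rfl))
    (fun a b c => Subtype.ext (by
      show hermB n σ _ (glEquiv (Fin n) F P (up (b + c))) = _ + _
      rw [← map_add, ← map_add]
      rfl))
    (fun c a b => Subtype.ext (by
      show hermB n σ _ (glEquiv (Fin n) F P (up (c • b))) = (c : F) * _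
      rw [← smul_eq_mul, ← map_smul, ← map_smul]
      rfl))
  have hB := hermB_isHerm (n := n) hσ
  have hB₀ : Herm.IsHerm B₀ := ⟨hσ₀, fun x y => Subtype.ext (hB.symm _ _), fun x hx => by
    have h0 : up x = 0 := Subfield.Unit.formP_nd hσ hk0 P _ fun y => by
      rw [eq_sum_single y, map_sum]
      refine Finset.sum_eq_zero fun i _ => ?_
      have h1 : B₀ x (down (rv_single (F₀ := F₀) i)) = 0 := hx _
      rw [map_smul, Subfield.Unit.formP_apply,
        show hermB n σ (glEquiv (Fin n) F P (up x)) (glEquiv (Fin n) F P (Pi.single i 1)) = 0 from congrArg Subtype.val h1,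
        mul_zero, smul_zero]
    exact funext fun i => Subtype.ext (congrFun h0 i)⟩
  refine Subfield.Unit.isMaximalIn_subfield hσ hσq hn F₀ hr hcard P hk0 hk hstab hform ?_ ?_
  · intro u hu
    obtain ⟨μ, hμ⟩ := Herm.exists_antitrace hσ₀ (k := -⟨_, hform u u hu hu⟩) (Subtype.ext (by
      show σ (-(A k u u)) = - -(A k u u)
      rw [map_neg, Subfield.Unit.formP_skew hσ hk]))
    refine ⟨(μ : F), μ.2, ?_⟩
    have h1 := congrArg Subtype.val hμ
    have h2 : σ μ - μ = -(A k u u) := h1
    linear_combination -h2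
  · intro j p hp hj x hx hxp c hc
    have hspan : down hx ∉ Submodule.span F₀ {z | z ∈ List.ofFn fun i => down (hp i)} := fun hm => by
      rw [show {z | z ∈ List.ofFn fun i => down (hp i)} = Set.range (fun i => down (hp i)) by
        ext z; simp [List.mem_ofFn']] at hm
      obtain ⟨d, hd⟩ := (Submodule.mem_span_range_iff_exists_fun _).1 hm
      refine hxp ((Submodule.mem_span_range_iff_exists_fun _).2 ⟨fun i => (d i : F), funext fun i => ?_⟩)
      have := congrArg Subtype.val (congrFun hd i)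
      simp only [Finset.sum_apply, Pi.smul_apply, smul_eq_mul, AddSubmonoidClass.coe_finsetSum] at this ⊢
      exact this
    obtain ⟨y, hy, hyy, hxy⟩ := Unitary.exists_singular_pairing_le hB₀ (List.ofFn fun i => down (hp i))
      (by rw [List.length_ofFn, Module.finrank_fin_fun]; rw [Fintype.card_fin] at hj; omega) hspan
      ⟨c / k, F₀.div_mem hc hkF⟩
    refine ⟨up y, hup y, ?_, ?_, fun i => ?_⟩
    · show k * _ = 0
      rw [show hermB n σ (glEquiv (Fin n) F P (up y)) (glEquiv (Fin n) F P (up y)) = 0 from congrArg Subtype.val hyy, mul_zero]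
    · show k * _ = c
      rw [show hermB n σ (glEquiv (Fin n) F P x) (glEquiv (Fin n) F P (up y)) = c / k from congrArg Subtype.val hxy,
        mul_div_cancel₀ _ hk0]
    · have hmem : down (hp i) ∈ List.ofFn fun i => down (hp i) := List.mem_ofFn.2 ⟨i, rfl⟩
      have h1 : B₀ (down (hp i)) y = 0 := Unitary.mem_perp.1 hy _ hmem
      show k * _ = 0
      rw [show hermB n σ (glEquiv (Fin n) F P (p i)) (glEquiv (Fin n) F P (up y)) = 0 from congrArg Subtype.val h1, mul_zero]

/-- Let F be the field with q² elements, n ≥ 13, and F₀ a subfield with |F| = |F₀| ^ r for an odd prime r. Let P be an invertible matrix such that the standard unitary form takes values in F₀ on the F₀-span of the columns of P. Then the elements of SU_n(q) lying in the subfield group of P (the conjugate by P of the product of GL_n(F₀) with the scalars) form a maximal subgroup of SU_n(q). -/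
theorem result {F : Type*} [Field F] [Fintype F] (n q : ℕ) (hF : Fintype.card F = q ^ 2) (hn : 13 ≤ n) (F₀ : Subfield F) (r : ℕ) (hr : r.Prime) (hro : Odd r) (hcard : Fintype.card F = Nat.card F₀ ^ r) (P : Matrix.GeneralLinearGroup (Fin n) F) (hP : Cfsg.Geo.IsFormRationalStructure (Cfsg.hermForm n F q) F₀ 1 P) : Cfsg.Geo.IsMaximalIn (Cfsg.GU n F q ⊓ Cfsg.Geo.specialLinear (Fin n) F) (Cfsg.Geo.subfieldSubgroup F₀ P ⊓ (Cfsg.GU n F q ⊓ Cfsg.Geo.specialLinear (Fin n) F)) :=
  maximal n q hF (by omega) F₀ r hr hro hcard P hP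

end Cfsg.Agent.S5658
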