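import Cfsg.Statements.S5659
import Cfsg.Agent.ClassicalMax.Subfield.RootOrth
import Cfsg.Agent.ClassicalMax.Subfield.UnitBridge

set_option autoImplicit false
open Cfsg

namespace Cfsg.Agent.S5659

open Module Cfsg.Agent.ClassicalMax Cfsg.Agent.ClassicalMax.Subfield Cfsg.Agent.Classical Cfsg.Agent.Classical.Herm

/-- The maximality statement from dimension 10 on. -/
theorem maximal {F : Type*} [Field F] [Fintype F] (n q : ℕ) (hF : Fintype.card F = q ^ 2) (hn : 10 ≤ n) (hodd : Odd q) (F₀ : Subfield F) (hcard : Fintype.card F = Nat.card F₀ ^ 2) (P : Matrix.GeneralLinearGroup (Fin n) F) (hP : Cfsg.Geo.IsFormRationalStructure (Cfsg.hermForm n F q) F₀ 1 P) : Cfsg.Geo.IsMaximalIn (Cfsg.GU n F q ⊓ Cfsg.Geo.specialLinear (Fin n) F) (Cfsg.Geo.subfieldSubgroup F₀ P ⊓ (Cfsg.GU n F q ⊓ Cfsg.Geo.specialLinear (Fin n) F)) := by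
  classical
  haveI : Fintype F₀ := Fintype.ofFinite F₀
  obtain ⟨σ, hσq, hσ, hfix, hq⟩ := exists_powHom hF
  have hB := hermB_isHerm (n := n) hσ
  have h2 : (2 : F) ≠ 0 := Ring.two_ne_zero fun h => by
    have h' := FiniteField.even_card_of_char_two h
    have h3 : Odd (q ^ 2) := hodd.pow
    rw [← hF] at h3
    obtain ⟨r, hr⟩ := h3
    omega
  have hqc : q = Fintype.card F₀ := by
    rw [hF, Nat.card_eq_fintype_card] at hcard
    exact Nat.pow_left_injective (by norm_num) hcard
  have hσ₀ : ∀ a ∈ F₀, σ a = a := fun a ha => by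
    rw [hσq, hqc]
    exact congrArg Subtype.val (FiniteField.pow_card (⟨a, ha⟩ : F₀))
  have h20 : (2 : F) ∈ F₀ := by rw [← one_add_one_eq_two]; exact F₀.add_mem F₀.one_mem F₀.one_mem
  set A := Subfield.Unit.formP (n := n) σ 1 P with hAd
  set e : (Fin n → F) ≃ₗ[F] (Fin n → F) := glEquiv (Fin n) F P with he
  have hA : ∀ x y, A x y = hermB n σ (e x) (e y) := fun x y => one_mul _
  have hform : ∀ u v, RV F₀ u → RV F₀ v → A u v ∈ F₀ := fun u v hu hv => by
    have := hP v u hv hu
    rw [one_mul, hermForm_eq hσq] at this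
    rw [hA]; exact this
  have hsymm : ∀ a b, σ (A a b) = A b a := fun a b => by rw [hA, hA]; exact hB.symm _ _
  have hnd : ∀ x, (∀ y, A x y = 0) → x = 0 := Subfield.Unit.formP_nd hσ one_ne_zero P
  have hK : ∀ g, g ∈ Cfsg.Geo.subfieldSubgroup F₀ P ↔ Ratty F₀ (e⁻¹ * glEquiv (Fin n) F g * e) := fun g => by
    rw [he, ← map_inv, ← map_mul, ← map_mul, ← mem_ratScalar_iff, Cfsg.Geo.subfieldSubgroup, Subgroup.mem_map]
    constructor
    · rintro ⟨y, hy, rfl⟩
      simpa [MulAut.conj_apply, mul_assoc] using hy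
    · intro h
      exact ⟨_, h, by simp [MulAut.conj_apply, mul_assoc]⟩
  -- singular vectors with prescribed products
  let up : (Fin n → F₀) → (Fin n → F) := fun x i => (x i : F)
  have hup : ∀ x, RV F₀ (up x) := fun x i => (x i).2
  let B₀ : LinearMap.BilinForm F₀ (Fin n → F₀) := LinearMap.mk₂ F₀
    (fun x y => ⟨_, hform _ _ (hup x) (hup y)⟩)
    (fun a b c => Subtype.ext (by
      show A (up (a + b)) (up c) = A (up a) (up c) + A (up b) (up c)
      rw [← LinearMap.add_apply, ← map_add]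
      rfl))
    (fun c a b => Subtype.ext (by
      show A (up (c • a)) (up b) = (c : F) * A (up a) (up b)
      have e1 : up (c • a) = (c : F) • up a := rfl
      rw [e1, map_smulₛₗ, LinearMap.smul_apply, hσ₀ _ c.2, smul_eq_mul]))
    (fun a b c => Subtype.ext (by
      show A (up a) (up (b + c)) = A (up a) (up b) + A (up a) (up c)
      rw [← map_add]
      rfl))
    (fun c a b => Subtype.ext (by
      show A (up a) (up (c • b)) = (c : F) * A (up a) (up b)
      rw [← smul_eq_mul, ← map_smul]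
      rfl))
  have hB₀ : ∀ x y, ((B₀ x y : F₀) : F) = A (up x) (up y) := fun x y => rfl
  have hB₀s : ∀ x y, B₀ y x = B₀ x y := fun x y => Subtype.ext (by
    rw [hB₀, hB₀, ← hsymm, hσ₀ _ (hform _ _ (hup x) (hup y))])
  have h2F₀ : (2 : F₀) ≠ 0 := fun h => h2 (congrArg Subtype.val h)
  let Q₀ : QuadraticForm F₀ (Fin n → F₀) := B₀.toQuadraticMap
  have hpol : ∀ x y, QuadraticMap.polar Q₀ x y = 2 * B₀ x y := fun x y => by
    rw [show QuadraticMap.polar Q₀ x y = B₀ x y + B₀ y x from LinearMap.BilinMap.polar_toQuadraticMap x y, hB₀s, two_mul]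
  have hQ₀ : (QuadraticMap.polarBilin Q₀).Nondegenerate := by
    have key : ∀ u, (∀ v, QuadraticMap.polar Q₀ u v = 0) → u = 0 := fun u hu => by
      have h0 : up u = 0 := hnd _ fun z => by
        rw [eq_sum_single z, map_sum]
        refine Finset.sum_eq_zero fun i _ => ?_
        have h1 := hu (down (rv_single (F₀ := F₀) i))
        rw [hpol, mul_eq_zero] at h1
        rw [map_smul, show A (up u) (Pi.single i 1) = 0 from congrArg Subtype.val (h1.resolve_left h2F₀), smul_zero]
      exact funext fun i => Subtype.ext (congrFun h0 i)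
    exact ⟨fun u hu => key u hu, fun u hu => key u fun v => (QuadraticMap.polar_comm _ u v).trans (hu v)⟩
  have hpair : ∀ (k : ℕ) (p : Fin k → Fin n → F), (∀ i, RV F₀ (p i)) → 2 * k + 4 ≤ Fintype.card (Fin n) → ∀ x : Fin n → F,
      RV F₀ x → x ∉ Submodule.span F (Set.range p) → ∀ c ∈ F₀,
      ∃ y, RV F₀ y ∧ A y y = 0 ∧ A x y = c ∧ ∀ i, A (p i) y = 0 := by
    intro k p hp hk x hx hxp c hc
    have hspan : down hx ∉ Submodule.span F₀ (Set.range fun i => down (hp i)) := fun hm => by
      obtain ⟨d, hd⟩ := (Submodule.mem_span_range_iff_exists_fun _).1 hm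
      refine hxp ((Submodule.mem_span_range_iff_exists_fun _).2 ⟨fun i => (d i : F), funext fun i => ?_⟩)
      have := congrArg Subtype.val (congrFun hd i)
      simp only [Finset.sum_apply, Pi.smul_apply, smul_eq_mul, AddSubmonoidClass.coe_finsetSum] at this ⊢
      exact this
    obtain ⟨y, hy, hxy, hpy⟩ := RootOrth.exists_singular_pairing hQ₀ (fun i => down (hp i))
      (by rw [Module.finrank_fin_fun]; rw [Fintype.card_fin] at hk; exact hk) hspan (2 * ⟨c, hc⟩)
    rw [hpol] at hxy
    refine ⟨up y, hup y, congrArg Subtype.val hy, congrArg Subtype.val (mul_left_cancel₀ h2F₀ hxy), fun i => ?_⟩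
    have h1 := hpy i
    rw [hpol, mul_eq_zero] at h1
    exact congrArg Subtype.val (h1.resolve_left h2F₀)
  have hOX : ∀ X : Subgroup ((Fin n → F) ≃ₗ[F] (Fin n → F)), X ≤ Subfield.Unit.isoA A →
      (∀ u v : Fin n → F, RV F₀ u → RV F₀ v → A u u = 0 → A v v = 0 → A u v = 0 → Root.rt A u v 1 ∈ X) →
      Root.OverR F₀ A (fun v => A v v = 0) X := fun X hX hXr =>
    ⟨hσ.invol, hσ₀, hsymm, hnd, hform, by simp, fun v hv => hv, fun v a hv => by simp [hv],
      fun u v hu hv huv => by simp [hu, hv, huv, show A v u = 0 by rw [← hsymm, huv, map_zero]],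
      fun x hx v hv => by rw [hX hx v v, hv],
      fun u hu => ⟨-A u u / 2, F₀.div_mem (F₀.neg_mem (hform u u hu hu)) h20, fun s hs hss hus => by
        have hsu : A s u = -A u u / 2 := by rw [← hsymm, hus, hσ₀ _ (F₀.div_mem (F₀.neg_mem (hform u u hu hu)) h20)]
        simp only [map_add, LinearMap.add_apply, hus, hsu, show A s s = 0 from hss]
        field_simp
        ring⟩,
      hpair, by rw [Fintype.card_fin]; omega, Or.inl (by rw [Fintype.card_fin]; exact hn), ⟨2, Nat.prime_two, hcard⟩, fun x hx => hX hx, hXr⟩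
  have hrtiso : ∀ u v : Fin n → F, A u u = 0 → A v v = 0 → A u v = 0 → Root.rt A u v 1 ∈ Subfield.Unit.isoA A := by
    intro u v hu hv huv a b
    have hvu : A v u = 0 := by rw [← hsymm, huv, map_zero]
    simp [Root.rt_apply hu hv huv hvu, hu, hv, huv, hvu, hsymm]
    ring
  have hdet : ∀ u v : Fin n → F, A u u = 0 → A v v = 0 → A u v = 0 → LinearMap.det (Root.rt A u v 1).toLinearMap = 1 := by
    intro u v hu hv huv
    have hvu : A v u = 0 := by rw [← hsymm, huv, map_zero]
    have e1 : (A v : Dual F _) u = 0 := hvu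
    have e2 : (-A u : Dual F _) v = 0 := by rw [LinearMap.neg_apply, huv, neg_zero]
    have : Root.rt A u v 1 = tvec (A v) u * tvec (-A u) v := LinearEquiv.ext fun z => by
      rw [Root.rt_apply hu hv huv hvu, LinearEquiv.mul_apply, tvec_apply e1, tvec_apply e2]
      simp [hv]
      module
    rw [this, show (tvec (A v) u * tvec (-A u) v).toLinearMap = (tvec (A v) u).toLinearMap ∘ₗ (tvec (-A u) v).toLinearMap from rfl,
      LinearMap.det_comp, det_tvec, det_tvec, one_mul]
  refine Unitary.isMaximalIn_suGL hσ hσq (by omega) _ ?_ ?_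
  · have hO := hOX (Subfield.Unit.isoA A) le_rfl fun u v _ _ => hrtiso u v
    obtain ⟨v, hv, hvv, -, hvn⟩ := hO.exists_sg_avoid (p := ![]) (w := ![]) (fun j => j.elim0) (fun j => j.elim0)
      (by rw [Fintype.card_fin]; omega) (by rw [Fintype.card_fin]; omega)
    have hv0 : v ≠ 0 := fun e => hvn (by rw [e]; exact zero_mem _)
    obtain ⟨c, hc0, hc⟩ := exists_skew hσ
    have hw : hermB n σ (e v) (e v) = 0 := by rw [← hA]; exact hvv
    refine ⟨e v, hw, c, by rw [hc, add_neg_cancel], fun h => ?_⟩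
    rw [hK, MulEquiv.apply_symm_apply] at h
    have hT : ∀ x, (e⁻¹ * Herm.tvU hw c * e) x = x + (c * A v x) • v := fun x => by
      rw [LinearEquiv.mul_apply, LinearEquiv.mul_apply, Herm.tvU_apply, map_add, map_smul, inv_apply, inv_apply, hA]
    obtain ⟨z, hz, -, hvz, -⟩ := hO.pairing 0 ![] (fun j => j.elim0) (by rw [Fintype.card_fin]; omega) v hv
      (by simpa using hv0) 1 F₀.one_mem
    have h3 := (rational_of_image h (P := F ∙ v) (fun y => by
      rw [hT, add_sub_cancel_left]; exact Submodule.smul_mem _ _ (Submodule.mem_span_singleton_self _))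
      (by rw [finrank_span_singleton hv0, Fintype.card_fin]; omega) hz).sub hz
    rw [hT, hvz, mul_one, add_sub_cancel_left] at h3
    have hcF := hσ₀ c (rv_scalar hv h3 hv0 rfl)
    rw [hc, neg_eq_iff_add_eq_zero, ← two_mul, mul_eq_zero] at hcF
    exact hc0 (hcF.resolve_left h2)
  · intro M hM hout
    let X : Subgroup ((Fin n → F) ≃ₗ[F] (Fin n → F)) := M.comap (MulAut.conj e).toMonoidHom ⊓ Subfield.Unit.isoA A
    have hO := hOX X inf_le_right fun u v hu hv huu hvv huv => by
      refine ⟨?_, hrtiso u v huu hvv huv⟩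
      show e * Root.rt A u v 1 * e⁻¹ ∈ M
      refine hM _ (fun a b => ?_) ?_ ?_
      · have h1 := hrtiso u v huu hvv huv (e⁻¹ a) (e⁻¹ b)
        rw [hA, hA, apply_inv, apply_inv] at h1
        exact h1
      · have h1 := hdet u v huu hvv huv
        rw [← LinearEquiv.coe_det] at h1 ⊢
        rw [map_mul, map_mul, map_inv, mul_comm (LinearEquiv.det e), mul_inv_cancel_right]
        exact h1
      · rw [hK, MulEquiv.apply_symm_apply, show e⁻¹ * (e * Root.rt A u v 1 * e⁻¹) * e = Root.rt A u v 1 by group]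
        refine ⟨1, one_ne_zero, fun i => ?_⟩
        rw [one_smul, Root.rt_apply huu hvv huv (by rw [← hsymm, huv, map_zero]), map_one, one_mul, one_mul]
        exact ((rv_single i).add (hu.smul (hform _ _ hv (rv_single i)))).sub (hv.smul (hform _ _ hu (rv_single i)))
    obtain ⟨g, hg, hgi, hgK⟩ := hout
    have hout' : ∃ x ∈ X, ¬ Ratty F₀ x := ⟨e⁻¹ * g * e, ⟨by show e * (e⁻¹ * g * e) * e⁻¹ ∈ M; simpa [mul_assoc] using hg,
      fun a b => by
        simp only [hA, LinearEquiv.mul_apply, apply_inv, hgi]⟩, fun h => hgK ((hK _).2 (by rwa [MulEquiv.apply_symm_apply]))⟩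
    intro w hw
    refine ⟨hw, fun hw' c hc => ?_⟩
    rcases eq_or_ne w 0 with rfl | hw0
    · have : Herm.tvU hw' c = 1 := LinearEquiv.ext fun x => by rw [Herm.tvU_apply]; simp
      rw [this]; exact one_mem M
    obtain ⟨g₀, γ, f, hg₀, hf, hfs, hf0, hx⟩ := hO.orbit hout' (fun a b ha hb hab α γ hγ h => by
      have hba : A b a = 1 := by rw [← hsymm, hab, map_one]
      have h' : A (α • a + γ • b) (α • a + γ • b) = 0 := h
      simp only [map_add, map_smulₛₗ, LinearMap.add_apply, LinearMap.smul_apply, RingHom.id_apply, smul_eq_mul,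
        show A a a = 0 from ha, show A b b = 0 from hb, hab, hba, mul_zero, mul_one, zero_add, add_zero] at h'
      have hσx : σ (α / γ) = -(α / γ) := by
        rw [map_div₀, ← neg_div, div_eq_div_iff ((map_ne_zero σ).2 hγ) hγ]
        linear_combination h'
      obtain ⟨μ, hμ⟩ := exists_antitrace hσ (k := -(α / γ)) (by rw [map_neg, hσx])
      exact ⟨μ, by linear_combination -hμ⟩) (x := e⁻¹ w) (by rw [hA, apply_inv, hw])
      (fun h => hw0 (by rw [← apply_inv e w, h, map_zero]))
    obtain ⟨μ, hμ⟩ := exists_antitrace hσ (k := -(c * (γ * σ γ))) (by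
      rw [map_neg, map_mul, map_mul, hσ.invol, show σ c = -c from eq_neg_of_add_eq_zero_right hc]
      ring)
    have hμ' : μ - σ μ = c * (γ * σ γ) := by linear_combination -hμ
    have hT : Root.rt A f f μ ∈ X := hO.C_eq_univ hout' μ f f hf hf hfs hfs hfs
    have hmem : e * (g₀ * Root.rt A f f μ * g₀⁻¹) * e⁻¹ ∈ M := (mul_mem (mul_mem hg₀ hT) (inv_mem hg₀)).1
    have : Herm.tvU hw' c = e * (g₀ * Root.rt A f f μ * g₀⁻¹) * e⁻¹ := LinearEquiv.ext fun x => by
      have hwf : w = γ • e (g₀ f) := by rw [← map_smul, ← hx, apply_inv]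
      have h1 : A f (g₀⁻¹ (e⁻¹ x)) = hermB n σ (e (g₀ f)) x := by
        rw [← hg₀.2 f (g₀⁻¹ (e⁻¹ x)), apply_inv, hA, apply_inv]
      simp only [LinearEquiv.mul_apply, Root.rt_apply hfs hfs hfs hfs, Herm.tvU_apply, map_add, map_sub, map_smul, apply_inv, h1]
      rw [hwf, map_smulₛₗ, LinearMap.smul_apply, smul_eq_mul, smul_smul, add_sub_assoc, ← sub_smul, ← sub_mul, hμ']
      ring_nf
    rw [this]
    exact hmem

/-- Let F be the field with q² elements, q odd, n ≥ 13, and F₀ the subfield with q elements. Let P be an invertible matrix such that the standard unitary form takes values in F₀ on the F₀-span of the columns of P (so it restricts to a non-degenerate symmetric bilinear form there). Then the elements of SU_n(q) lying in the subfield group of P form a maximal subgroup of SU_n(q). -/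
theorem result {F : Type*} [Field F] [Fintype F] (n q : ℕ) (hF : Fintype.card F = q ^ 2) (hn : 13 ≤ n) (hodd : Odd q) (F₀ : Subfield F) (hcard : Fintype.card F = Nat.card F₀ ^ 2) (P : Matrix.GeneralLinearGroup (Fin n) F) (hP : Cfsg.Geo.IsFormRationalStructure (Cfsg.hermForm n F q) F₀ 1 P) : Cfsg.Geo.IsMaximalIn (Cfsg.GU n F q ⊓ Cfsg.Geo.specialLinear (Fin n) F) (Cfsg.Geo.subfieldSubgroup F₀ P ⊓ (Cfsg.GU n F q ⊓ Cfsg.Geo.specialLinear (Fin n) F)) :=
  maximal n q hF (by omega) hodd F₀ hcard P hP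

end Cfsg.Agent.S5659
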