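import Cfsg.Statements.S5660
import Cfsg.Agent.ClassicalMax.Subfield.UnitBridge

set_option autoImplicit false
open Cfsg

namespace Cfsg.Agent.S5660

open Module Cfsg.Agent.ClassicalMax Cfsg.Agent.ClassicalMax.Subfield Cfsg.Agent.Classical Cfsg.Agent.Classical.Herm

/-- The maximality statement from dimension 6 on. -/
theorem maximal {F : Type*} [Field F] [Fintype F] (n q : ℕ) (hF : Fintype.card F = q ^ 2) (hn : 6 ≤ n) (heven : Even n) (F₀ : Subfield F) (hcard : Fintype.card F = Nat.card F₀ ^ 2) (ζ : F) (hζ0 : ζ ≠ 0) (hζ : ζ + ζ ^ q = 0) (P : Matrix.GeneralLinearGroup (Fin n) F) (hP : Cfsg.Geo.IsFormRationalStructure (Cfsg.hermForm n F q) F₀ ζ P) (halt : ∀ u : Fin n → F, (∀ i, u i ∈ F₀) → Cfsg.hermForm n F q (Matrix.mulVec (P : Matrix (Fin n) (Fin n) F) u) (Matrix.mulVec (P : Matrix (Fin n) (Fin n) F) u) = 0) : Cfsg.Geo.IsMaximalIn (Cfsg.GU n F q ⊓ Cfsg.Geo.specialLinear (Fin n) F) (Cfsg.Geo.subfieldSubgroup F₀ P ⊓ (Cfsg.GU n F q ⊓ Cfsg.Geo.specialLinear (Fin n) F)) := by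
  classical
  haveI : Fintype F₀ := Fintype.ofFinite F₀
  obtain ⟨σ, hσq, hσ, hfix, hq⟩ := exists_powHom hF
  have hqc : q = Fintype.card F₀ := by
    rw [hF, Nat.card_eq_fintype_card] at hcard
    exact Nat.pow_left_injective (by norm_num) hcard
  have hσ₀ : ∀ a ∈ F₀, σ a = a := fun a ha => by
    rw [hσq, hqc]
    exact congrArg Subtype.val (FiniteField.pow_card (⟨a, ha⟩ : F₀))
  have hk : σ ζ = -ζ := by rw [hσq]; exact eq_neg_of_add_eq_zero_right hζ
  set A := Subfield.Unit.formP (n := n) σ ζ P with hAd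
  have hform : ∀ u v, RV F₀ u → RV F₀ v → A u v ∈ F₀ := fun u v hu hv => by
    have := hP v u hv hu
    rw [hermForm_eq hσq] at this
    exact this
  have hself : ∀ u, RV F₀ u → A u u = 0 := fun u hu => by
    have := halt u hu
    rw [hermForm_eq hσq] at this
    show ζ * hermB n σ ((P : Matrix (Fin n) (Fin n) F).mulVec u) ((P : Matrix (Fin n) (Fin n) F).mulVec u) = 0
    rw [this, mul_zero]
  refine Subfield.Unit.isMaximalIn_subfield hσ hσq hn F₀ Nat.prime_two hcard P hζ0 hk (fun a ha => by rw [hσ₀ a ha]; exact ha)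
    hform (fun u hu => ⟨0, F₀.zero_mem, by rw [map_zero, sub_zero]; exact (hself u hu).symm⟩) ?_
  intro j p hp hj x hx hxp c hc
  obtain ⟨f, hf, hfx, hfp⟩ := exists_rf_sep hp hx hxp
  let L : (Fin n → F₀) →ₗ[F₀] (Fin n → F₀) :=
    { toFun := fun y i => ⟨A (Pi.single i 1) (fun j => (y j : F)), hform _ _ (rv_single i) (fun j => (y j).2)⟩
      map_add' := fun a b => funext fun i => Subtype.ext (by
        show A (Pi.single i 1) (fun j => ((a + b) j : F)) = A _ _ + A _ _
        rw [← map_add]
        rfl)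
      map_smul' := fun a b => funext fun i => Subtype.ext (by
        show A (Pi.single i 1) (fun j => ((a • b) j : F)) = (a : F) * A _ _
        rw [← smul_eq_mul, ← map_smul]
        rfl) }
  have hswap : ∀ u v, A u v = 0 → A v u = 0 := fun u v h => by
    have h1 := Subfield.Unit.formP_skew hσ hk P u v
    rw [show Subfield.Unit.formP σ ζ P u v = 0 from h, map_zero] at h1
    exact neg_eq_zero.1 h1.symm
  have hinj : Function.Injective L := (injective_iff_map_eq_zero L).2 fun y hy => by
    have h0 : (fun j => (y j : F)) = 0 := Subfield.Unit.formP_nd hσ hζ0 P _ fun z => hswap _ _ (by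
      rw [eq_sum_single z, map_sum, LinearMap.sum_apply]
      refine Finset.sum_eq_zero fun i _ => ?_
      rw [map_smulₛₗ, LinearMap.smul_apply, show A (Pi.single i 1) (fun j => (y j : F)) = 0 from congrArg Subtype.val (congrFun hy i),
        smul_zero])
    exact funext fun j => Subtype.ext (congrFun h0 j)
  obtain ⟨y, hy⟩ := LinearMap.surjective_of_injective hinj (fun i => ⟨c * f (Pi.single i 1), F₀.mul_mem hc (hf i)⟩)
  have hval : ∀ z, RV F₀ z → A z (fun j => (y j : F)) = c * f z := fun z hz => by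
    conv_lhs => rw [eq_sum_single z, map_sum, LinearMap.sum_apply]
    rw [apply_eq_sum f z, Finset.mul_sum]
    refine Finset.sum_congr rfl fun i _ => ?_
    rw [map_smulₛₗ, LinearMap.smul_apply, show A (Pi.single i 1) (fun j => (y j : F)) = c * f (Pi.single i 1) from
      congrArg Subtype.val (congrFun hy i), hσ₀ _ (hz i), smul_eq_mul]
    ring
  exact ⟨fun j => (y j : F), fun j => (y j).2, hself _ fun j => (y j).2, by rw [hval x hx, hfx, mul_one],
    fun i => by rw [hval _ (hp i), hfp, mul_zero]⟩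

/-- Let F be the field with q² elements, n ≥ 13 even, and F₀ the subfield with q elements. Let ζ be a non-zero element with ζ + ζ^q = 0 and P an invertible matrix such that ζ times the standard unitary form takes values in F₀ on the F₀-span of the columns of P and the form vanishes on every pair (u, u) of that span (so ζ times the form restricts to a non-degenerate alternating form there). Then the elements of SU_n(q) lying in the subfield group of P form a maximal subgroup of SU_n(q). -/
theorem result {F : Type*} [Field F] [Fintype F] (n q : ℕ) (hF : Fintype.card F = q ^ 2) (hn : 13 ≤ n) (heven : Even n) (F₀ : Subfield F) (hcard : Fintype.card F = Nat.card F₀ ^ 2) (ζ : F) (hζ0 : ζ ≠ 0) (hζ : ζ + ζ ^ q = 0) (P : Matrix.GeneralLinearGroup (Fin n) F) (hP : Cfsg.Geo.IsFormRationalStructure (Cfsg.hermForm n F q) F₀ ζ P) (halt : ∀ u : Fin n → F, (∀ i, u i ∈ F₀) → Cfsg.hermForm n F q (Matrix.mulVec (P : Matrix (Fin n) (Fin n) F) u) (Matrix.mulVec (P : Matrix (Fin n) (Fin n) F) u) = 0) : Cfsg.Geo.IsMaximalIn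 (Cfsg.GU n F q ⊓ Cfsg.Geo.specialLinear (Fin n) F) (Cfsg.Geo.subfieldSubgroup F₀ P ⊓ (Cfsg.GU n F q ⊓ Cfsg.Geo.specialLinear (Fin n) F)) :=
  maximal n q hF (by omega) heven F₀ hcard ζ hζ0 hζ P hP halt

end Cfsg.Agent.S5660
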