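import Cfsg.Statements.S5664
import Cfsg.Agent.ClassicalMax.ExtField.SymplMain
import Cfsg.Agent.ClassicalMax.ExtField.Bridge

set_option autoImplicit false
open Cfsg

namespace Cfsg.Agent.S5664

open Module Cfsg.Agent.Classical Cfsg.Agent.ClassicalMax Cfsg.Agent.ClassicalMax.ExtField

set_option linter.unusedSectionVars false

theorem aux {F : Type*} [Field F] [Finite F] {m : ℕ} (hm : 3 ≤ m) {L : Type*} [Field L] [Algebra F L]
    (j : L →ₐ[F] Matrix (Fin m ⊕ Fin m) (Fin m ⊕ Fin m) F) (hr : (finrank F L).Prime)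
    (K : Subalgebra F (Matrix (Fin m ⊕ Fin m) (Fin m ⊕ Fin m) F)) (hjK : ∀ x, x ∈ K ↔ ∃ k, j k = x)
    (hsa : Cfsg.Geo.IsSelfAdjointFor (Cfsg.sympForm m F) K)
    (halt : ∀ k ∈ K, ∀ v : (Fin m ⊕ Fin m → F), Cfsg.sympForm m F (Matrix.mulVec k v) v = 0)
    (hdvd : finrank F L ≠ 2 * m) :
    Cfsg.Geo.IsMaximalIn (Cfsg.spGL m F) (Cfsg.Geo.subalgebraNormalizer K ⊓ Cfsg.spGL m F) := by
  classical
  haveI : Nonempty (Fin m ⊕ Fin m) := ⟨Sum.inl ⟨0, by omega⟩⟩
  haveI : FiniteDimensional F L := Module.finite_of_finrank_pos hr.pos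
  haveI : Finite L := Module.finite_of_finite F
  letI : Module L (Fin m ⊕ Fin m → F) :=
    Module.compHom (Fin m ⊕ Fin m → F) ((Matrix.toLinAlgEquiv'.toAlgHom.comp j).toRingHom :
      L →+* Module.End F (Fin m ⊕ Fin m → F))
  have hsmul : ∀ (k : L) (x : Fin m ⊕ Fin m → F), k • x = (j k).mulVec x := fun k x => rfl
  haveI : IsScalarTower F L (Fin m ⊕ Fin m → F) := IsScalarTower.of_algebraMap_smul fun t x => by
    rw [hsmul, AlgHom.commutes, Matrix.algebraMap_eq_diagonal]
    funext i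
    simp [Matrix.mulVec_diagonal]
  haveI : FiniteDimensional L (Fin m ⊕ Fin m → F) := Module.Finite.right F L _
  set d := finrank L (Fin m ⊕ Fin m → F) with hd
  have hmul : finrank F L * d = 2 * m := by
    rw [hd, Module.finrank_mul_finrank, Module.finrank_fintype_fun_eq_card, Fintype.card_sum, Fintype.card_fin]
    omega
  have hd2 : 2 ≤ d := by
    by_contra hc
    push Not at hc
    interval_cases d <;> omega
  have hsize : 3 ≤ finrank F L ∨ 3 ≤ d := by
    rcases Nat.lt_or_ge (finrank F L) 3 with h | h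
    · refine Or.inr ?_
      have h2 : finrank F L = 2 := by have := hr.two_le; omega
      rw [h2] at hmul
      omega
    · exact Or.inl h
  have hdim : ∀ x : Fin m ⊕ Fin m → F, ∃ z, z ∉ L ∙ x := fun x => by
    by_contra hc
    push Not at hc
    have h1 := finrank_range_le_card (R := L) ![x]
    rw [Set.finrank, Fintype.card_fin] at h1
    have h2 : Submodule.span L (Set.range ![x]) = ⊤ := eq_top_iff.2 fun z _ => by simpa using hc z
    rw [h2, finrank_top] at h1
    omega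
  set B := sympB m F with hB
  have hA : B.IsAlt := sympB_isAlt
  have hBsa : ∀ (k : L) (x z : Fin m ⊕ Fin m → F), B (k • x) z = B x (k • z) := fun k x z => by
    rw [hB, sympB_apply, sympB_apply, hsmul, hsmul]
    exact hsa _ ((hjK _).2 ⟨k, rfl⟩) x z
  have hBha : ∀ (k : L) (x : Fin m ⊕ Fin m → F), B (k • x) x = 0 := fun k x => by
    rw [hB, sympB_apply, hsmul]
    exact halt _ ((hjK _).2 ⟨k, rfl⟩) x
  have hproper : ∃ v c, (glEquiv (Fin m ⊕ Fin m) F).symm (Alt.tv (sympB_isAlt (F := F) (m := m)) v c) ∉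
      Cfsg.Geo.subalgebraNormalizer K := by
    obtain ⟨v, hv⟩ := exists_ne (0 : Fin m ⊕ Fin m → F)
    refine ⟨v, 1, fun hmem => ?_⟩
    set t := (glEquiv (Fin m ⊕ Fin m) F).symm (Alt.tv (sympB_isAlt (F := F) (m := m)) v 1) with ht
    obtain ⟨θ, hθ⟩ : ∃ θ : L, ∀ c : F, algebraMap F L c ≠ θ := by
      by_contra hc
      push Not at hc
      have h1 := hr.two_le
      have h2 := LinearMap.finrank_range_le (Algebra.linearMap F L)
      rw [show LinearMap.range (Algebra.linearMap F L) = ⊤ from eq_top_iff.2 fun z _ => hc z, finrank_top, finrank_self] at h2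
      omega
    have htx : ∀ x, (t : Matrix (Fin m ⊕ Fin m) (Fin m ⊕ Fin m) F).mulVec x = x + B x v • v := fun x => by
      rw [ht, symm_mulVec, Alt.tv_apply, one_mul]
    have hcomm : ∀ k : L, ∀ x, (t : Matrix (Fin m ⊕ Fin m) (Fin m ⊕ Fin m) F).mulVec (k • x) = k • (t : Matrix (Fin m ⊕ Fin m) (Fin m ⊕ Fin m) F).mulVec x := by
      intro k
      obtain ⟨k', hk'⟩ := (hjK _).1 ((hmem (j k)).1 ((hjK _).2 ⟨k, rfl⟩))
      have hk'' : ∀ x, (t : Matrix (Fin m ⊕ Fin m) (Fin m ⊕ Fin m) F).mulVec (k • x) = k' • (t : Matrix (Fin m ⊕ Fin m) (Fin m ⊕ Fin m) F).mulVec x := fun x => by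
        rw [hsmul, hsmul, hk', Matrix.mulVec_mulVec, Matrix.mulVec_mulVec, mul_assoc (_ * j k), ← Units.val_mul, inv_mul_cancel,
          Units.val_one, mul_one]
      obtain ⟨x, hx, hx0⟩ : ∃ x ∈ LinearMap.ker ((B.flip v).prod (B.flip (k • v))), x ≠ 0 := by
        refine Submodule.exists_mem_ne_zero_of_ne_bot fun h => ?_
        have h1 := LinearMap.finrank_le_finrank_of_injective (LinearMap.ker_eq_bot.1 h)
        rw [finrank_prod, finrank_self, Module.finrank_fintype_fun_eq_card, Fintype.card_sum, Fintype.card_fin] at h1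
        omega
      obtain ⟨hx1, hx2⟩ := Prod.mk.injEq .. ▸ (LinearMap.mem_ker.1 hx : (B x v, B x (k • v)) = (0, 0))
      have := hk'' x
      rw [htx, htx, hBsa, show B x v = 0 from hx1, show B x (k • v) = 0 from hx2, zero_smul, add_zero, add_zero] at this
      have hkk : k = k' := smul_left_injective L hx0 this
      exact fun z => hkk ▸ hk'' z
    obtain ⟨x, hx⟩ : ∃ x, B x v ≠ 0 := by
      by_contra! h
      exact hv (sympB_nondeg.2 v h)
    have := hcomm θ x
    rw [htx, htx, smul_add, add_right_inj] at this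
    have h2 : (algebraMap F L (B (θ • x) v / B x v)) • v = θ • v := by
      rw [algebraMap_smul, div_eq_inv_mul, mul_smul, this, smul_comm θ, inv_smul_smul₀ hx]
    exact hθ _ (smul_left_injective L hv h2)
  refine isMaximalIn_spGL _ hproper fun M hM ⟨g, hgM, hgi, hgN⟩ v => ?_
  have hO : SpOver B (M ⊓ Alt.isoGroup B) L := ⟨hr, hA, sympB_nondeg, hBsa, hBha, inf_le_right, fun D hD => by
    have hiso : D.restrictScalars F ∈ Alt.isoGroup B := hD
    refine ⟨D.restrictScalars F, ⟨hM _ hiso (mem_normalizer_of_linear j K hsmul hjK _ fun k x => ?_), hiso⟩, rfl⟩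
    rw [MulEquiv.apply_symm_apply]
    exact D.map_smul k x⟩
  obtain ⟨k, x, hkx⟩ := exists_nonline j K hsmul hjK hdim _ hgN
  rw [MulEquiv.apply_symm_apply] at hkx
  exact fun c => (all_centres hO hd2 hsize ⟨g, ⟨hgM, hgi⟩, k, x, hkx⟩ v c).1

/-- the statement with the bound on `m` lowered -/
theorem maximal {F : Type*} [Field F] [Fintype F] (m : ℕ) (hm : 3 ≤ m) (r : ℕ) (hr : r.Prime) (K : Subalgebra F (Matrix (Fin m ⊕ Fin m) (Fin m ⊕ Fin m) F)) (hK : Cfsg.Geo.IsFieldSubalgebra r K) (hsa : Cfsg.Geo.IsSelfAdjointFor (Cfsg.sympForm m F) K) (halt : ∀ k ∈ K, ∀ v : (Fin m ⊕ Fin m → F), Cfsg.sympForm m F (Matrix.mulVec k v) v = 0) : Cfsg.Geo.IsMaximalIn (Cfsg.spGL m F) (Cfsg.Geo.subalgebraNormalizer K ⊓ Cfsg.spGL m F) := by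
  classical
  haveI : Nonempty (Fin m ⊕ Fin m) := ⟨Sum.inl ⟨0, by omega⟩⟩
  have hKfield : IsField K :=
    { exists_pair_ne := ⟨0, 1, fun h => zero_ne_one (α := Matrix (Fin m ⊕ Fin m) (Fin m ⊕ Fin m) F) (congrArg Subtype.val h)⟩
      mul_comm := fun x y => Subtype.ext (hK.comm _ x.2 _ y.2)
      mul_inv_cancel := fun {a} ha => by
        obtain ⟨y, hy, h⟩ := hK.inv _ a.2 (fun e => ha (Subtype.ext e))
        exact ⟨⟨y, hy⟩, Subtype.ext h⟩ }
  letI : Field K := hKfield.toField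
  exact aux hm K.val (by rw [hK.finrank_eq]; exact hr) K (fun x => ⟨fun h => ⟨⟨x, h⟩, rfl⟩, fun ⟨k, e⟩ => e ▸ k.2⟩) hsa halt
    (by
      rw [hK.finrank_eq]
      intro h
      subst h
      rcases (Nat.dvd_prime hr).1 (Dvd.intro m rfl) with h' | h' <;> omega)

/-- For a finite field F and m ≥ 7, let K be a subfield of the algebra of 2m × 2m matrices over F containing the scalars, of prime degree r over F, whose elements k are self-adjoint for the standard alternating form f on F^(2m) (f(k u, v) = f(u, k v)) and satisfy f(k v, v) = 0 for all v. Then the elements of Sp_2m(F) normalising K form a maximal subgroup of Sp_2m(F). -/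
theorem result {F : Type*} [Field F] [Fintype F] (m : ℕ) (hm : 7 ≤ m) (r : ℕ) (hr : r.Prime) (K : Subalgebra F (Matrix (Fin m ⊕ Fin m) (Fin m ⊕ Fin m) F)) (hK : Cfsg.Geo.IsFieldSubalgebra r K) (hsa : Cfsg.Geo.IsSelfAdjointFor (Cfsg.sympForm m F) K) (halt : ∀ k ∈ K, ∀ v : (Fin m ⊕ Fin m → F), Cfsg.sympForm m F (Matrix.mulVec k v) v = 0) : Cfsg.Geo.IsMaximalIn (Cfsg.spGL m F) (Cfsg.Geo.subalgebraNormalizer K ⊓ Cfsg.spGL m F) :=
  maximal m (by omega) r hr K hK hsa halt

end Cfsg.Agent.S5664
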