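import Cfsg.Statements.S5665
import Cfsg.Agent.ClassicalMax.UnitSp
import Cfsg.Agent.ClassicalMax.UnitSpGen

set_option autoImplicit false
open Cfsg

namespace Cfsg.Agent.S5665

open Cfsg.Agent.ClassicalMax Cfsg.Agent.Classical

/-- the statement with the bound on `m` lowered -/
theorem maximal_any {F : Type*} [Field F] [Fintype F] (m : ℕ) (hm : 3 ≤ m) (hodd : Odd (Fintype.card F)) (K : Subalgebra F (Matrix (Fin m ⊕ Fin m) (Fin m ⊕ Fin m) F)) (hK : Cfsg.Geo.IsFieldSubalgebra 2 K) (hac : Cfsg.Geo.IsAdjointClosedFor (Cfsg.sympForm m F) K) (hnsa : ¬ Cfsg.Geo.IsSelfAdjointFor (Cfsg.sympForm m F) K) : Cfsg.Geo.IsMaximalIn (Cfsg.spGL m F) (Cfsg.Geo.subalgebraNormalizer K ⊓ Cfsg.spGL m F) := by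
  classical
  have h2 : (2 : F) ≠ 0 := Ring.two_ne_zero fun h => by
    have h' := FiniteField.even_card_of_char_two h
    obtain ⟨r, hr⟩ := hodd
    omega
  haveI : Nonempty (Fin m ⊕ Fin m) := ⟨Sum.inl ⟨0, by omega⟩⟩
  set B := sympB m F with hB
  -- a generator
  obtain ⟨k₀, hk₀K, hk₀⟩ : ∃ k ∈ K, ∀ c : F, k ≠ c • (1 : Matrix (Fin m ⊕ Fin m) (Fin m ⊕ Fin m) F) := by
    by_contra! h
    have hle : Subalgebra.toSubmodule K ≤ Submodule.span F {(1 : Matrix (Fin m ⊕ Fin m) (Fin m ⊕ Fin m) F)} := fun k hk => by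
      obtain ⟨c, rfl⟩ := h k hk
      exact Submodule.smul_mem _ _ (Submodule.mem_span_singleton_self _)
    have h1 := Submodule.finrank_mono hle
    rw [Subalgebra.finrank_toSubmodule, hK.finrank_eq, finrank_span_singleton one_ne_zero] at h1
    omega
  have hli : LinearIndependent F ![(1 : Matrix (Fin m ⊕ Fin m) (Fin m ⊕ Fin m) F), k₀] := by
    rw [LinearIndependent.pair_iff' one_ne_zero]
    exact fun c h => hk₀ c h.symm
  have hKJ : ∀ k, k ∈ K ↔ ∃ a b : F, k = a • (1 : Matrix (Fin m ⊕ Fin m) (Fin m ⊕ Fin m) F) + b • k₀ := by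
    have hle : Submodule.span F (Set.range ![(1 : Matrix (Fin m ⊕ Fin m) (Fin m ⊕ Fin m) F), k₀]) ≤ Subalgebra.toSubmodule K :=
      Submodule.span_le.2 (by
        rintro x ⟨i, rfl⟩
        fin_cases i
        · exact K.one_mem
        · exact hk₀K)
    have heq := Submodule.eq_of_le_of_finrank_eq hle (by
      rw [finrank_span_eq_card hli, Subalgebra.finrank_toSubmodule, hK.finrank_eq]; rfl)
    intro k
    refine ⟨fun hk => ?_, fun ⟨a, b, e⟩ => e ▸ K.add_mem (K.smul_mem K.one_mem a) (K.smul_mem hk₀K b)⟩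
    have hk' : k ∈ Submodule.span F (Set.range ![(1 : Matrix (Fin m ⊕ Fin m) (Fin m ⊕ Fin m) F), k₀]) := heq ▸ hk
    obtain ⟨c, hc⟩ := (Submodule.mem_span_range_iff_exists_fun _).1 hk'
    exact ⟨c 0, c 1, by rw [← hc, Fin.sum_univ_two]; rfl⟩
  set J₀ : (Fin m ⊕ Fin m → F) →ₗ[F] (Fin m ⊕ Fin m → F) := Matrix.toLin' k₀ with hJ₀
  have happ : ∀ (a b : F) v, (a • (1 : Matrix (Fin m ⊕ Fin m) (Fin m ⊕ Fin m) F) + b • k₀).mulVec v = a • v + b • J₀ v :=
    fun a b v => by rw [Matrix.add_mulVec, Matrix.smul_mulVec, Matrix.smul_mulVec, Matrix.one_mulVec, hJ₀, Matrix.toLin'_apply]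
  have hJns : ∀ c : F, ∃ v, J₀ v ≠ c • v := fun c => by
    by_contra! h
    exact hk₀ c (Matrix.ext_of_mulVec_single fun i => by
      rw [show k₀.mulVec (Pi.single i 1) = J₀ (Pi.single i 1) from rfl, h, Matrix.smul_mulVec, Matrix.one_mulVec])
  obtain ⟨k', hk'K, hadj⟩ := hac k₀ hk₀K
  obtain ⟨a, b, rfl⟩ := (hKJ k').1 hk'K
  have hA : B.IsAlt := sympB_isAlt
  have hadj' : ∀ u v, B (J₀ u) v = a * B u v + b * B u (J₀ v) := by
    intro u v
    have h1 := hadj u v
    rw [← sympB_apply, ← sympB_apply, happ, map_add, map_smul, map_smul] at h1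
    exact h1
  have hb2 : (1 - b * b) = 0 ∧ a * (1 + b) = 0 := by
    have key : ∀ v, (1 - b * b) • J₀ v = (a * (1 + b)) • v := fun v => sub_eq_zero.1 (sympB_nondeg.2 _ fun u => by
      show B u ((1 - b * b) • J₀ v - (a * (1 + b)) • v) = 0
      rw [map_sub, map_smul, map_smul, smul_eq_mul, smul_eq_mul]
      have h1 := hadj' v u
      have h2 := hadj' u v
      rw [Alt.neg' hA u (J₀ v), Alt.neg' hA u v, Alt.neg' hA (J₀ u) v] at h1
      linear_combination -h1 + b * h2)
    have h0 : (1 - b * b) = 0 := by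
      by_contra h
      obtain ⟨v, hv⟩ := hJns ((1 - b * b)⁻¹ * (a * (1 + b)))
      refine hv ?_
      rw [mul_smul, ← key v, inv_smul_smul₀ h]
    refine ⟨h0, ?_⟩
    obtain ⟨v, hv⟩ := exists_ne (0 : Fin m ⊕ Fin m → F)
    have := key v
    rw [h0, zero_smul] at this
    exact (smul_eq_zero.1 this.symm).resolve_right hv
  have hb : b = -1 := by
    rcases eq_or_ne b 1 with rfl | h
    · rcases mul_eq_zero.1 hb2.2 with rfl | h2'
      · exfalso
        refine hnsa fun k hk u v => ?_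
        obtain ⟨c, d, rfl⟩ := (hKJ k).1 hk
        rw [← sympB_apply, ← sympB_apply, happ, happ, map_add, map_smul, map_smul, LinearMap.add_apply, LinearMap.smul_apply,
          LinearMap.smul_apply, map_add, map_smul, map_smul, hadj']
        simp [hB]
      · linear_combination h2'
    · have : (b - 1) * (b + 1) = 0 := by linear_combination -hb2.1
      exact eq_neg_of_add_eq_zero_left ((mul_eq_zero.1 this).resolve_left (sub_ne_zero.2 h))
  -- the skew generator
  set J : (Fin m ⊕ Fin m → F) →ₗ[F] (Fin m ⊕ Fin m → F) := J₀ - (a / 2) • LinearMap.id with hJ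
  have hJv : ∀ v, J v = J₀ v - (a / 2) • v := fun v => rfl
  have hJadj : ∀ u v, B (J u) v = -B u (J v) := fun u v => by
    rw [hJv, hJv, map_sub, map_smul, LinearMap.sub_apply, LinearMap.smul_apply, map_sub, map_smul, hadj', hb, smul_eq_mul]
    field_simp
    ring
  set j := k₀ - (a / 2) • (1 : Matrix (Fin m ⊕ Fin m) (Fin m ⊕ Fin m) F) with hjd
  have hjK : j ∈ K := K.sub_mem hk₀K (K.smul_mem K.one_mem _)
  have hjv : ∀ v, j.mulVec v = J v := fun v => by
    rw [hjd, Matrix.sub_mulVec, Matrix.smul_mulVec, Matrix.one_mulVec]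
    rfl
  obtain ⟨ε, β, hsq⟩ := (hKJ (j * j)).1 (K.mul_mem hjK hjK)
  have hsq' : ∀ v, J (J v) = ε • v + β • J₀ v := fun v => by rw [← hjv, ← hjv, Matrix.mulVec_mulVec, hsq, happ]
  have hβ : β = 0 := by
    by_contra h0
    obtain ⟨v, hv⟩ := hJns (a / 2)
    refine hv (sub_eq_zero.1 (sympB_nondeg.2 _ fun u => ?_))
    have h1 : B (J (J u)) v = B u (J (J v)) := by rw [hJadj, hJadj, neg_neg]
    rw [hsq', hsq', map_add, map_smul, map_smul, LinearMap.add_apply, LinearMap.smul_apply, LinearMap.smul_apply, map_add,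
      map_smul, map_smul] at h1
    have h3 : B (J₀ u) v = B u (J₀ v) := mul_left_cancel₀ h0 (by simpa using h1)
    have h4 := hadj' u v
    rw [hb, h3] at h4
    show B u (J₀ v - (a / 2) • v) = 0
    rw [map_sub, map_smul, smul_eq_mul]
    field_simp
    linear_combination h4
  have hU : UnitSp.USp B J ε := by
    refine ⟨hA, sympB_nondeg, h2, fun v => by rw [hsq', hβ, zero_smul, add_zero], fun x hx => ?_, hJadj,
      by rw [finrank_symp]; omega⟩
    obtain ⟨y, hy, hy1⟩ := hK.inv (j - x • 1) (K.sub_mem hjK (K.smul_mem K.one_mem x))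
      (fun h => hk₀ (a / 2 + x) (by rw [add_smul]; linear_combination (norm := module) h))
    obtain ⟨v, hv⟩ := hJns (a / 2 - x)
    have e0 : (j - x • 1).mulVec (J v + x • v) = 0 := by
      rw [Matrix.sub_mulVec, Matrix.smul_mulVec, Matrix.one_mulVec, hjv, map_add, map_smul, hsq', hβ, ← hx]
      module
    have hy2 : y * (j - x • 1) = 1 := mul_eq_one_comm.1 hy1
    have e1 := congrArg (fun z => y.mulVec z) e0
    simp only [Matrix.mulVec_mulVec, hy2, Matrix.one_mulVec, Matrix.mulVec_zero] at e1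
    rw [hJv] at e1
    exact hv (by linear_combination (norm := module) e1)
  have hmem : ∀ g : (Fin m ⊕ Fin m → F) ≃ₗ[F] (Fin m ⊕ Fin m → F),
      (glEquiv (Fin m ⊕ Fin m) F).symm g ∈ Cfsg.Geo.subalgebraNormalizer K ↔
        ∃ α β : F, ∀ v, g (J v) = α • g v + β • J (g v) := by
    intro g
    set G : GL (Fin m ⊕ Fin m) F := (glEquiv (Fin m ⊕ Fin m) F).symm g with hG
    have hGg : ∀ v, (G : Matrix (Fin m ⊕ Fin m) (Fin m ⊕ Fin m) F).mulVec v = g v := fun v => symm_mulVec g v
    have hKj : ∀ k, k ∈ K ↔ ∃ c d : F, k = c • (1 : Matrix (Fin m ⊕ Fin m) (Fin m ⊕ Fin m) F) + d • j := by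
      intro k
      rw [hKJ]
      constructor
      · rintro ⟨c, d, rfl⟩
        exact ⟨c + d * (a / 2), d, by rw [hjd]; module⟩
      · rintro ⟨c, d, rfl⟩
        exact ⟨c - d * (a / 2), d, by rw [hjd]; module⟩
    have happj : ∀ (c d : F) v, (c • (1 : Matrix (Fin m ⊕ Fin m) (Fin m ⊕ Fin m) F) + d • j).mulVec v = c • v + d • J v :=
      fun c d v => by rw [Matrix.add_mulVec, Matrix.smul_mulVec, Matrix.smul_mulVec, Matrix.one_mulVec, hjv]
    have hconj : ∀ (k : Matrix (Fin m ⊕ Fin m) (Fin m ⊕ Fin m) F) (α β : F),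
        (G : Matrix (Fin m ⊕ Fin m) (Fin m ⊕ Fin m) F) * k * ((G⁻¹ : GL (Fin m ⊕ Fin m) F) : Matrix (Fin m ⊕ Fin m) (Fin m ⊕ Fin m) F) =
            α • 1 + β • j ↔ ∀ v, g (k.mulVec v) = α • g v + β • J (g v) := by
      intro k α β
      rw [Units.mul_inv_eq_iff_eq_mul]
      constructor
      · intro h v
        have := congrArg (fun z => Matrix.mulVec z v) h
        simp only [← Matrix.mulVec_mulVec, happj, hGg] at this
        exact this
      · intro h
        refine Matrix.ext_of_mulVec_single fun i => ?_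
        rw [← Matrix.mulVec_mulVec, ← Matrix.mulVec_mulVec, happj, hGg, hGg, h]
    constructor
    · intro hm
      obtain ⟨α, β, e⟩ := (hKj _).1 ((hm j).1 hjK)
      exact ⟨α, β, fun v => by rw [← hjv]; exact (hconj j α β).1 e v⟩
    · rintro ⟨α, β, h⟩ k
      have hβ : β ≠ 0 := fun h0 => by
        obtain ⟨v, hv⟩ := hJns (α + a / 2)
        refine hv ?_
        have h3 : J v = α • v := g.injective (by rw [h, h0, map_smul, zero_smul, add_zero])
        rw [hJv] at h3
        linear_combination (norm := module) h3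
      constructor
      · intro hk
        obtain ⟨c, d, rfl⟩ := (hKj k).1 hk
        refine (hKj _).2 ⟨c + d * α, d * β, (hconj _ _ _).2 fun v => ?_⟩
        rw [happj, map_add, map_smul, map_smul, h]
        module
      · intro hk
        obtain ⟨c, d, e⟩ := (hKj _).1 hk
        refine (hKj k).2 ⟨c - d * α / β, d / β, Matrix.ext_of_mulVec_single fun i => g.injective ?_⟩
        rw [(hconj k c d).1 e, happj, map_add, map_smul, map_smul, h, smul_add, smul_smul, smul_smul, div_mul_cancel₀ _ hβ]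
        match_scalars <;> field_simp <;> ring
  refine isMaximalIn_spGL _ ?_ fun M hM ⟨g, hgM, hgi, hgN⟩ => ?_
  · obtain ⟨v, hv⟩ := hU.exists_out
    exact ⟨v, 1, fun hm => hv ((hmem _).1 hm)⟩
  · have hbase : ∀ u, B u (J u) = 0 → ∀ s : F, Alt.tv hU.alt u s * Alt.tv hU.alt (J u) (-s / ε) ∈ M := by
      intro u hu s
      refine hM _ (mul_mem (Alt.tv_mem_isoGroup _ _ _) (Alt.tv_mem_isoGroup _ _ _)) ((hmem _).2 ⟨0, 1, fun v => ?_⟩)
      have h3 : B (J u) u = 0 := by rw [hJadj, hu, neg_zero]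
      have hε := hU.eps_ne
      simp only [LinearEquiv.mul_apply, Alt.tv_apply, map_add, map_smul, LinearMap.add_apply, LinearMap.smul_apply, smul_eq_mul,
        h3, hU.alt u, hU.sq, hU.sim, hU.adj v u]
      match_scalars <;> field_simp <;> ring
    obtain ⟨e, he0, he, hec⟩ := hU.exists_centre_gen (fun f hf hfJ =>
      hM f hf ((hmem f).2 ⟨0, 1, fun v => by rw [zero_smul, one_smul, zero_add, hfJ]⟩)) hgM hgi
      (fun h => hgN ((hmem g).2 h))
    exact hU.all_centres_gen hbase he0 he hec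

/-- The statement in dimensions six and at least ten. -/
theorem maximal {F : Type*} [Field F] [Fintype F] (m : ℕ) (hm : 5 ≤ m ∨ m = 3) (hodd : Odd (Fintype.card F)) (K : Subalgebra F (Matrix (Fin m ⊕ Fin m) (Fin m ⊕ Fin m) F)) (hK : Cfsg.Geo.IsFieldSubalgebra 2 K) (hac : Cfsg.Geo.IsAdjointClosedFor (Cfsg.sympForm m F) K) (hnsa : ¬ Cfsg.Geo.IsSelfAdjointFor (Cfsg.sympForm m F) K) : Cfsg.Geo.IsMaximalIn (Cfsg.spGL m F) (Cfsg.Geo.subalgebraNormalizer K ⊓ Cfsg.spGL m F) :=
  maximal_any m (by omega) hodd K hK hac hnsa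

/-- For a finite field F of odd order and m ≥ 7, let K be a subfield of the algebra of 2m × 2m matrices over F containing the scalars, of degree 2 over F, that is closed under adjoints for the standard alternating form on F^(2m) but whose elements are not all self-adjoint (so the adjoint map induces the automorphism of order two of K). Then the elements of Sp_2m(F) normalising K form a maximal subgroup of Sp_2m(F). -/
theorem result {F : Type*} [Field F] [Fintype F] (m : ℕ) (hm : 7 ≤ m) (hodd : Odd (Fintype.card F)) (K : Subalgebra F (Matrix (Fin m ⊕ Fin m) (Fin m ⊕ Fin m) F)) (hK : Cfsg.Geo.IsFieldSubalgebra 2 K) (hac : Cfsg.Geo.IsAdjointClosedFor (Cfsg.sympForm m F) K) (hnsa : ¬ Cfsg.Geo.IsSelfAdjointFor (Cfsg.sympForm m F) K) : Cfsg.Geo.IsMaximalIn (Cfsg.spGL m F) (Cfsg.Geo.subalgebraNormalizer K ⊓ Cfsg.spGL m F) :=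
  maximal m (Or.inl (by omega)) hodd K hK hac hnsa

end Cfsg.Agent.S5665
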