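import Cfsg.Statements.S5666
import Cfsg.Agent.ClassicalMax.SpTensor.Bridge
import Cfsg.Agent.ClassicalMax.SpTwo.Bridge

set_option autoImplicit false
open Cfsg

namespace Cfsg.Agent.S5666

/-- For a finite field F of odd order q and m ≥ 7, suppose the standard alternating form on F^(2m) is similar, through a change of basis P and a bijection of index sets e, to the tensor product of a non-degenerate symplectic form f₁ on F^(n₁) and a non-degenerate symmetric bilinear form f₂ on F^(n₂) with n₂ ≥ 3. Unless q = 3 and n₂ = 3, the elements of Sp_2m(F) in the stabiliser of this tensor decomposition (the conjugate by P of the Kronecker-product subgroup transported along e) form a maximal subgroup of Sp_2m(F). -/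
theorem result {F : Type*} [Field F] [Fintype F] (m : ℕ) (hm : 7 ≤ m) (hodd : Odd (Fintype.card F)) (n₁ n₂ : ℕ) (hn₂ : 3 ≤ n₂) (hex : ¬ (Fintype.card F = 3 ∧ n₂ = 3)) (e : (Fin m ⊕ Fin m) ≃ Fin n₁ × Fin n₂) (P : Matrix.GeneralLinearGroup (Fin m ⊕ Fin m) F) (f₁ : (Fin n₁ → F) → (Fin n₁ → F) → F) (f₂ : (Fin n₂ → F) → (Fin n₂ → F) → F) (hf₁ : Cfsg.Geo.IsSymplecticForm f₁) (hf₂ : Cfsg.Geo.IsSymmetricForm f₂) (hT : Cfsg.Geo.IsTensorFormStructure id (Cfsg.sympForm m F) f₁ f₂ e P) : Cfsg.Geo.IsMaximalIn (Cfsg.spGL m F) (Cfsg.Geo.tensorProductSubgroup n₁ n₂ e P ⊓ Cfsg.spGL m F) := by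
  have hq : n₂ = 3 → 5 ≤ Fintype.card F := fun h => by
    obtain ⟨r, hr⟩ := hodd
    have h1 : 1 < Fintype.card F := Fintype.one_lt_card
    have h3 : Fintype.card F ≠ 3 := fun h' => hex ⟨h', h⟩
    omega
  have hcard : m + m = n₁ * n₂ := by
    have := Fintype.card_congr e
    simpa using this
  rcases Nat.lt_or_ge n₁ 4 with hlt | hge
  · -- the first factor has even dimension
    let A : LinearMap.BilinForm F (Fin n₁ → F) := LinearMap.mk₂ F f₁ hf₁.bilinear.add_left
      (fun c x y => hf₁.bilinear.smul_left c x y) hf₁.bilinear.add_right (fun c x y => hf₁.bilinear.smul_right c x y)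
    obtain ⟨k, j, b, -, -, -, hrad⟩ := Cfsg.Agent.Classical.Alt.exists_basis_symp (B := A)
      (show A.IsAlt from hf₁.alternating)
    have hj : IsEmpty (Fin j) := ⟨fun i => by
      obtain ⟨x, hx⟩ := (hf₁.nondegenerate _ (b.ne_zero (Sum.inr i))).2
      exact hx (hrad i x)⟩
    have hn : n₁ = k + k := by
      have := Module.finrank_eq_card_basis b
      rw [Module.finrank_fintype_fun_eq_card, Fintype.card_fin] at this
      simp at this
      omega
    have hn2 : n₁ = 2 := by
      rcases Nat.eq_zero_or_pos n₁ with h | h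
      · rw [h, Nat.zero_mul] at hcard; omega
      · omega
    subst hn2
    exact Cfsg.Agent.ClassicalMax.SpTwo.isMaximal_tensor (by omega) hodd e P f₁ f₂ hf₁ hf₂ hT
  · exact Cfsg.Agent.ClassicalMax.SpTensor.isMaximal_tensor hge hn₂ hq hodd e P f₁ f₂ hf₁ hf₂ hT

end Cfsg.Agent.S5666
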