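import Cfsg.Statements.S5668
import Cfsg.Agent.ClassicalMax.SpWreath.Bridge

set_option autoImplicit false
open Cfsg
open scoped Matrix

namespace Cfsg.Agent.S5668

/-- The statement for every positive `m`. -/
theorem maximal {F : Type*} [Field F] [Fintype F] (m : ℕ) (hm : 1 ≤ m) (hodd : Odd (Fintype.card F)) (k t : ℕ) (ht : Odd t) (ht3 : 3 ≤ t) (hex : ¬ (Fintype.card F = 3 ∧ k = 2)) (e : (Fin m ⊕ Fin m) ≃ (Fin t → Fin k)) (P : Matrix.GeneralLinearGroup (Fin m ⊕ Fin m) F) (f₁ : (Fin k → F) → (Fin k → F) → F) (hf₁ : Cfsg.Geo.IsSymplecticForm f₁) (hT : Cfsg.Geo.IsTensorPowerFormStructure id (Cfsg.sympForm m F) f₁ e P) : Cfsg.Geo.IsMaximalIn (Cfsg.spGL m F) (Cfsg.Geo.tensorWreathSubgroup k t e P ⊓ Cfsg.spGL m F) := by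
  classical
  have h2 : (2 : F) ≠ 0 := fun h => by
    have hc : ringChar F = 2 := by
      rcases (Nat.dvd_prime Nat.prime_two).1 (ringChar.dvd (R := F) (by exact_mod_cast h)) with h1 | h1
      · exact absurd h1 CharP.ringChar_ne_one
      · exact h1
    exact (Nat.not_even_iff_odd.2 hodd) (even_iff_two_dvd.2 (Nat.dvd_of_mod_eq_zero (FiniteField.even_card_of_char_two hc)))
  have hcard : (Fintype.card (Fin m ⊕ Fin m)) = k ^ t := by rw [Fintype.card_congr e]; simp
  rw [Fintype.card_sum, Fintype.card_fin] at hcard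
  have hk : 2 ≤ k := by
    rcases k with _ | _ | k
    · rw [zero_pow (by omega)] at hcard; omega
    · simp at hcard; omega
    · omega
  set J : Matrix (Fin k) (Fin k) F := Cfsg.Geo.gramMatrix f₁ with hJ
  let B : LinearMap.BilinForm F (Fin k → F) :=
    LinearMap.mk₂ F f₁ hf₁.bilinear.add_left (fun c x v => hf₁.bilinear.smul_left c x v) hf₁.bilinear.add_right
      (fun c v x => hf₁.bilinear.smul_right c v x)
  have hB : LinearMap.BilinForm.toMatrix' B = J := by
    ext a b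
    rw [LinearMap.BilinForm.toMatrix'_apply, LinearMap.mk₂_apply]
    rfl
  have hf : ∀ x y, f₁ x y = x ⬝ᵥ J *ᵥ y := fun x y => by
    rw [← Matrix.toBilin'_apply', ← hB, Matrix.toBilin'_toMatrix', LinearMap.mk₂_apply]
  have hdet : IsUnit J.det := by
    rw [isUnit_iff_ne_zero]
    intro h0
    obtain ⟨v, hv, hv0⟩ := Matrix.exists_mulVec_eq_zero_iff.2 h0
    obtain ⟨x, hx⟩ := (hf₁.nondegenerate v hv).1
    exact hx (by rw [hf, hv0, dotProduct_zero])
  have hJT : Jᵀ = -J := Matrix.ext fun a b => hf₁.skew _ _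
  obtain ⟨c, hc, hc'⟩ := hT
  refine Cfsg.Agent.ClassicalMax.SpWreath.isMaximalIn h2 hJT hdet ht (by omega) hk (fun hk2 => ?_) e P hc fun x y => ?_
  · rw [Nat.card_eq_fintype_card]
    rcases hodd with ⟨r, hr⟩
    have h1 := Fintype.one_lt_card (α := F)
    have : Fintype.card F ≠ 3 := fun h => hex ⟨h, hk2⟩
    omega
  · show Cfsg.sympForm m F ((P : Matrix (Fin m ⊕ Fin m) (Fin m ⊕ Fin m) F) *ᵥ (x ∘ e))
      ((P : Matrix (Fin m ⊕ Fin m) (Fin m ⊕ Fin m) F) *ᵥ (y ∘ e)) = _
    rw [hc']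
    simp only [Cfsg.Agent.ClassicalMax.TPow.bf, Cfsg.Agent.ClassicalMax.SpWreath.GV,
      Cfsg.Agent.ClassicalMax.TPow.tens_apply, dotProduct, Matrix.mulVec, Finset.mul_sum, id_eq, mul_assoc]
    rfl

/-- For a finite field F of odd order q and m ≥ 7, suppose the standard alternating form on F^(2m) is similar, through a change of basis P and a bijection of index sets e, to the t-fold tensor power of a non-degenerate symplectic form f₁ on F^k, with t odd, t ≥ 3 and (q, k) ≠ (3, 2). Then the elements of Sp_2m(F) in the stabiliser of this decomposition (the conjugate by P of the standard tensor-wreath subgroup transported along e) form a maximal subgroup of Sp_2m(F). -/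
theorem result {F : Type*} [Field F] [Fintype F] (m : ℕ) (hm : 7 ≤ m) (hodd : Odd (Fintype.card F)) (k t : ℕ) (ht : Odd t) (ht3 : 3 ≤ t) (hex : ¬ (Fintype.card F = 3 ∧ k = 2)) (e : (Fin m ⊕ Fin m) ≃ (Fin t → Fin k)) (P : Matrix.GeneralLinearGroup (Fin m ⊕ Fin m) F) (f₁ : (Fin k → F) → (Fin k → F) → F) (hf₁ : Cfsg.Geo.IsSymplecticForm f₁) (hT : Cfsg.Geo.IsTensorPowerFormStructure id (Cfsg.sympForm m F) f₁ e P) : Cfsg.Geo.IsMaximalIn (Cfsg.spGL m F) (Cfsg.Geo.tensorWreathSubgroup k t e P ⊓ Cfsg.spGL m F) :=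
  maximal m (by omega) hodd k t ht ht3 hex e P f₁ hf₁ hT

end Cfsg.Agent.S5668
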