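import Cfsg.Statements.S5673
import Cfsg.Agent.Asch.OrthOdd

set_option autoImplicit false
open Cfsg

namespace Cfsg.Agent.S5673

open Matrix Cfsg.Geo Cfsg.Agent.PrimeDim Cfsg.Agent.Asch
open Cfsg.Agent.Classical
open scoped MatrixGroups

/-- The standard form gives an odd orthogonal setting for every subgroup of `Ω`. -/
theorem odd_setting {F : Type*} [Field F] [Fintype F] (hodd : Odd (Fintype.card F)) {m : ℕ} (hm : 3 ≤ m)
    {H : Subgroup (GL (Unit ⊕ (Fin m ⊕ Fin m)) F)} (hH : H ≤ omegaGL (Cfsg.quadFormOdd m F)) :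
    QuadraticMap.polar (Cfsg.quadFormOdd m F) =
        formG (RingEquiv.refl F) (gramMatrix (QuadraticMap.polar (Cfsg.quadFormOdd m F))) ∧
      OddSetting (Cfsg.quadFormOdd m F) (gramMatrix (QuadraticMap.polar (Cfsg.quadFormOdd m F))) H := by
  have h2 := PrimeDim.two_ne_zero_of_odd hodd
  have hcard : Fintype.card (Unit ⊕ (Fin m ⊕ Fin m)) = 2 * m + 1 := by simp; omega
  let QF : QuadraticForm F (Unit ⊕ (Fin m ⊕ Fin m) → F) :=
    (Quad.hyp (Quad.sqForm F) m).comp (Quad.oddCoord m).toLinearMap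
  have hQe : ⇑QF = Cfsg.quadFormOdd m F := funext fun x => by simp [QF, Quad.oddCoord_map]
  have hQnd : (QuadraticMap.polarBilin QF).Nondegenerate :=
    Quad.Iso.nondeg (Quad.Iso.symm ⟨Quad.oddCoord m, fun x => by simp [QF]⟩) (Quad.nondeg_hyp (Quad.nondeg_sqForm h2) m)
  set Q := Cfsg.quadFormOdd m F with hQdef
  have hQ : IsNondegenerateQuadraticForm Q := by
    rw [← hQe]
    refine ⟨fun c v => by rw [QuadraticMap.map_smul, smul_eq_mul, pow_two], ⟨?_, ?_, ?_, ?_⟩, fun v hv => ⟨?_, ?_⟩⟩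
    · exact fun x y v => QuadraticMap.polar_add_left _ _ _ _
    · exact fun c x v => by rw [QuadraticMap.polar_smul_left, smul_eq_mul]
    · exact fun v x y => QuadraticMap.polar_add_right _ _ _ _
    · exact fun c v x => by rw [QuadraticMap.polar_smul_right, smul_eq_mul]
    · by_contra hcon
      push Not at hcon
      exact hv (hQnd.2 v hcon)
    · by_contra hcon
      push Not at hcon
      exact hv (hQnd.1 v hcon)
  have hfp := isSesq_of_bilinear hQ.polar_bilinear
  have hpolf : QuadraticMap.polar Q = formG (RingEquiv.refl F) (gramMatrix (QuadraticMap.polar Q)) := by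
    funext u v; exact hfp.eq_formG u v
  have hs : (gramMatrix (QuadraticMap.polar Q))ᵀ = gramMatrix (QuadraticMap.polar Q) := by
    ext i j
    rw [Matrix.transpose_apply, gramMatrix, gramMatrix, QuadraticMap.polar_comm]
  refine ⟨hpolf, h2, by rw [hcard]; exact odd_two_mul_add_one m, by rw [hcard]; omega,
    ⟨hfp.det_ne_zero hQ.nondegenerate, fun _ => rfl, by rw [one_smul, map_refl, hs]⟩, fun g hg => ?_, fun g hg => ?_,
    fun v => by rw [← hpolf, quad_eq_half hQ], fun F₁ => ?_⟩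
  · obtain ⟨g', -, rfl⟩ := Subgroup.mem_map.1 (hH hg)
    refine (hfp.fixes_iff _).1 fun u v => ?_
    show QuadraticMap.polar Q _ _ = _
    have hq : ∀ x, Q (((isometryGroup F Q).subtype g' : Matrix _ _ F) *ᵥ x) = Q x := fun x => g'.2 x x
    simp only [QuadraticMap.polar, ← Matrix.mulVec_add, hq]
  · have hdet : omegaGL Q ≤ specialLinear (Unit ⊕ (Fin m ⊕ Fin m)) F := by
      rw [omegaGL, Subgroup.map_le_iff_le_comap, Omega, _root_.commutator_def, Subgroup.commutator_le]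
      intro x _ y _
      show Matrix.GeneralLinearGroup.det ((isometryGroup F Q).subtype (x * y * x⁻¹ * y⁻¹)) = 1
      simp only [map_mul, map_inv]
      simp [mul_comm]
    exact congrArg Units.val (hdet (hH hg) : Matrix.GeneralLinearGroup.det g = 1)
  · let X₀ : Matrix (Unit ⊕ (Fin m ⊕ Fin m)) (Unit ⊕ (Fin m ⊕ Fin m)) F₁ :=
      Matrix.of fun a b => ⟨gramMatrix (QuadraticMap.polar Q) a b, by
        rw [gramMatrix, QuadraticMap.polar]
        refine sub_mem (sub_mem (quadOdd_mem fun k => ?_) (quadOdd_mem fun k => ?_)) (quadOdd_mem fun k => ?_)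
        all_goals simp only [Pi.add_apply, Pi.single_apply]
        · exact add_mem (by split_ifs <;> simp [one_mem, zero_mem]) (by split_ifs <;> simp [one_mem, zero_mem])
        · split_ifs <;> simp [one_mem, zero_mem]
        · split_ifs <;> simp [one_mem, zero_mem]⟩
    rw [show gramMatrix (QuadraticMap.polar Q) = (F₁.subtype : F₁ →+* F).mapMatrix X₀ from rfl, ← RingHom.map_det]
    exact X₀.det.2

/-- Subgroup structure of the odd-dimensional orthogonal groups. Let F be a finite field of odd order and m ≥ 3, let Q be the standard quadratic form x₀² + Σ x_i y_i on F^(2m+1), and let Ω be the commutator subgroup of its isometry group, viewed inside GL_(2m+1)(F). Let H be a subgroup of Ω whose product with the scalar matrices in Ω is not all of Ω. Then either H is contained in a member of one of the geometric classes of subgroups of the isometry group (with the conditions built into InOrthogonalOddClass), or H is in the residual class: modulo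 scalars it is almost simple, and the perfect preimage of its socle acts absolutely irreducibly, is realisable over no proper subfield, and fixes no non-degenerate unitary form. -/
theorem result {F : Type*} [Field F] [Fintype F] (hodd : Odd (Fintype.card F)) (m : ℕ) (hm : 3 ≤ m) (H : Subgroup (Matrix.GeneralLinearGroup (Unit ⊕ (Fin m ⊕ Fin m)) F)) (hH : H ≤ Cfsg.Geo.omegaGL (Cfsg.quadFormOdd m F)) (hproper : H ⊔ (Cfsg.Geo.scalars (Unit ⊕ (Fin m ⊕ Fin m)) F ⊓ Cfsg.Geo.omegaGL (Cfsg.quadFormOdd m F)) ≠ Cfsg.Geo.omegaGL (Cfsg.quadFormOdd m F)) : (∃ M : Subgroup (Matrix.GeneralLinearGroup (Unit ⊕ (Fin m ⊕ Fin m)) F), Cfsg.Geo.InOrthogonalOddClass m F M ∧ H ≤ M) ∨ Cfsg.Geo.InOrthogonalResidualClass H := by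
  obtain ⟨hpol, hset⟩ := odd_setting hodd hm hH
  refine (odd_structure hset).imp_left fun hmem => ?_
  have hI : H ≤ Cfsg.isometryGroup F (Cfsg.quadFormOdd m F) := hH.trans (Subgroup.map_subtype_le _)
  have hcard : Fintype.card (Unit ⊕ (Fin m ⊕ Fin m)) = 2 * m + 1 := by simp; omega
  rcases hmem with ⟨W, hW, hts, hle⟩ | ⟨W, hb, ht, hnd, hle⟩ | ⟨t, k, D, hk, hD, hiso, hle⟩ |
    ⟨r, K, hr, hne, hK, hsa, hle⟩ | ⟨n₁, n₂, e, P, f₁, f₂, h3, hlt, hf₁, hf₂, hst, hle⟩ |
    ⟨F₀, r, P, hr, hc, hrat, hle⟩ | ⟨k, t, e, P, f₁, h3, ht, hexc, hf₁, hst, hle⟩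
  · exact ⟨_, Or.inl ⟨W, hW, hts, rfl⟩, le_inf hle hI⟩
  · exact ⟨_, Or.inr (Or.inl ⟨W, hb, ht, hpol ▸ hnd, rfl⟩), le_inf hle hI⟩
  · rcases hk with hk | ⟨rfl, hq⟩
    · exact ⟨_, Or.inr (Or.inr (Or.inl ⟨t, k, D, hk, ⟨hpol ▸ hD, hiso⟩, rfl⟩)), le_inf hle hI⟩
    · exact ⟨_, Or.inr (Or.inr (Or.inr (Or.inl ⟨t, D, hq, ⟨hpol ▸ hD, hiso⟩, rfl⟩))), le_inf hle hI⟩
  · exact ⟨_, Or.inr (Or.inr (Or.inr (Or.inr (Or.inl ⟨r, K, hr, hcard ▸ hne, hK, hpol ▸ hsa, rfl⟩)))), le_inf hle hI⟩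
  · exact ⟨_, Or.inr (Or.inr (Or.inr (Or.inr (Or.inr (Or.inl ⟨n₁, n₂, e, P, f₁, f₂, h3, hlt, hf₁, hf₂, hpol ▸ hst,
      rfl⟩))))), le_inf hle hI⟩
  · exact ⟨_, Or.inr (Or.inr (Or.inr (Or.inr (Or.inr (Or.inr (Or.inl ⟨F₀, r, P, hr, hc, hrat, rfl⟩)))))),
      le_inf hle hI⟩
  · exact ⟨_, Or.inr (Or.inr (Or.inr (Or.inr (Or.inr (Or.inr (Or.inr ⟨k, t, e, P, f₁, h3, ht, hexc, hf₁, hpol ▸ hst,
      rfl⟩)))))), le_inf hle hI⟩

end Cfsg.Agent.S5673
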