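import Cfsg.Statements.S5674
import Cfsg.Agent.ClassicalMax.RootPar
import Cfsg.Agent.Classical.QuadStd
import Cfsg.Agent.Classical.QuadTypes

set_option autoImplicit false
open Cfsg

namespace Cfsg.Agent.S5674

open Cfsg.Agent.ClassicalMax Cfsg.Agent.Classical

/-- Let F be a finite field of odd order, m ≥ 6, Q the standard quadratic form x₀² + Σ x_i y_i on F^(2m+1) and Ω the commutator subgroup of its isometry group inside GL_(2m+1)(F). The elements of Ω stabilising a non-zero subspace on which Q vanishes form a maximal subgroup of Ω. -/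
theorem result {F : Type*} [Field F] [Fintype F] (hodd : Odd (Fintype.card F)) (m : ℕ) (hm : 6 ≤ m) (W : Submodule F (Unit ⊕ (Fin m ⊕ Fin m) → F)) (hW0 : W ≠ ⊥) (hW : Cfsg.Geo.IsTotallySingularQuad (Cfsg.quadFormOdd m F) W) : Cfsg.Geo.IsMaximalIn (Cfsg.Geo.omegaGL (Cfsg.quadFormOdd m F)) (Cfsg.Geo.subspaceStabilizer W ⊓ Cfsg.Geo.omegaGL (Cfsg.quadFormOdd m F)) := by
  classical
  have h2 : (2 : F) ≠ 0 := Ring.two_ne_zero fun h => by
    have h' := FiniteField.even_card_of_char_two h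
    obtain ⟨r, hr⟩ := hodd
    omega
  let Q : QuadraticForm F (Unit ⊕ (Fin m ⊕ Fin m) → F) := (Quad.hyp (Quad.sqForm F) m).comp (Quad.oddCoord m).toLinearMap
  have hQe : ⇑Q = Cfsg.quadFormOdd m F := funext fun x => by simp [Q, Quad.oddCoord_map]
  have hQ : (QuadraticMap.polarBilin Q).Nondegenerate :=
    Quad.Iso.nondeg (Quad.Iso.symm ⟨Quad.oddCoord m, fun x => by simp [Q]⟩) (Quad.nondeg_hyp (Quad.nondeg_sqForm h2) m)
  rw [← hQe] at hW ⊢
  refine RootPlanes.isMaximalIn_parabolic Q hQ (by simp; omega) W hW0 hW fun a haq haP haW h => ?_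
  have h1 := RootPlanes.finrank_perpS hQ W
  rw [Module.finrank_fintype_fun_eq_card, h] at h1
  simp at h1
  omega

end Cfsg.Agent.S5674
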