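import Cfsg.Statements.S5675
import Cfsg.Agent.ClassicalMax.RootNondeg
import Cfsg.Agent.Classical.QuadStd
import Cfsg.Agent.Classical.QuadTypes

set_option autoImplicit false
open Cfsg

namespace Cfsg.Agent.S5675

open Cfsg.Agent.ClassicalMax Cfsg.Agent.Classical

/-- Let F be a finite field of odd order q, m ≥ 6, Q the standard quadratic form on F^(2m+1) and Ω the commutator subgroup of its isometry group. Let W be a non-zero subspace of even dimension on which the polar form of Q is non-degenerate; exclude the case q = 3, dim W = 2 with Q vanishing on some line of W (a plus-type plane). Then the elements of Ω stabilising W (equivalently, stabilising its orthogonal complement, of odd dimension) form a maximal subgroup of Ω. -/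
theorem result {F : Type*} [Field F] [Fintype F] (hodd : Odd (Fintype.card F)) (m : ℕ) (hm : 6 ≤ m) (W : Submodule F (Unit ⊕ (Fin m ⊕ Fin m) → F)) (hW0 : W ≠ ⊥) (hev : Even (Module.finrank F W)) (hW : Cfsg.Geo.IsNondegenerateOn (QuadraticMap.polar (Cfsg.quadFormOdd m F)) W) (hex : ¬ (Fintype.card F = 3 ∧ Module.finrank F W = 2 ∧ Cfsg.Geo.IsPlusTypeOn (Cfsg.quadFormOdd m F) W)) : Cfsg.Geo.IsMaximalIn (Cfsg.Geo.omegaGL (Cfsg.quadFormOdd m F)) (Cfsg.Geo.subspaceStabilizer W ⊓ Cfsg.Geo.omegaGL (Cfsg.quadFormOdd m F)) := by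
  classical
  have h2 : (2 : F) ≠ 0 := Ring.two_ne_zero fun h => by
    have h' := FiniteField.even_card_of_char_two h
    obtain ⟨r, hr⟩ := hodd
    omega
  let Q : QuadraticForm F (Unit ⊕ (Fin m ⊕ Fin m) → F) := (Quad.hyp (Quad.sqForm F) m).comp (Quad.oddCoord m).toLinearMap
  have hQe : ⇑Q = Cfsg.quadFormOdd m F := funext fun x => by simp [Q, Quad.oddCoord_map]
  have hQ : (QuadraticMap.polarBilin Q).Nondegenerate :=
    Quad.Iso.nondeg (Quad.Iso.symm ⟨Quad.oddCoord m, fun x => by simp [Q]⟩) (Quad.nondeg_hyp (Quad.nondeg_sqForm h2) m)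
  rw [← hQe] at hW hex ⊢
  have hdim : Module.finrank F (Unit ⊕ (Fin m ⊕ Fin m) → F) = 2 * m + 1 := by
    rw [Module.finrank_fintype_fun_eq_card]; simp; omega
  have hcard : Fintype.card (Unit ⊕ (Fin m ⊕ Fin m)) = 2 * m + 1 := by simp; omega
  have hWnd : RootPlanes.NdOn Q W := fun x hx h => by_contra fun h0 =>
    (hW x hx h0).2.elim fun y hy => hy.2 (h y hy.1)
  have hW1 : W ≠ ⊤ := fun h => by
    obtain ⟨r, hr⟩ := hev
    rw [h, finrank_top, hdim] at hr
    omega
  have hsum := RootPlanes.finrank_perpS hQ W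
  refine RootPlanes.isMaximalIn_nd Q hQ (by omega) hWnd hW0 hW1 (fun h => by omega) ?_
  intro U hU hc hUW b hb hbq
  by_contra hb0
  rcases hUW with rfl | rfl
  · refine hex ⟨?_, hU, Submodule.span F {b}, (Submodule.span_singleton_le_iff_mem _ _).2 hb, ?_, ?_⟩
    · have := Fintype.one_lt_card (α := F)
      rw [Nat.card_eq_fintype_card] at hc
      obtain ⟨r, hr⟩ := hodd
      omega
    · intro x hx
      obtain ⟨c, rfl⟩ := Submodule.mem_span_singleton.1 hx
      rw [Quad.map_smul', hbq, mul_zero]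
    · rw [finrank_span_singleton hb0, hU]
  · obtain ⟨r, hr⟩ := hev
    omega

end Cfsg.Agent.S5675
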