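import Cfsg.Statements.S5677
import Cfsg.Agent.ClassicalMax.DecOrth.Main
import Cfsg.Agent.Classical.QuadStd
import Cfsg.Agent.Classical.QuadTypes

set_option autoImplicit false
open Cfsg

namespace Cfsg.Agent.S5677

open Cfsg.Agent.ClassicalMax Cfsg.Agent.Classical

/-- Let F be a finite field of odd order q, m ≥ 6, Q the standard quadratic form on F^(2m+1) and Ω the commutator subgroup of its isometry group. Let D be a decomposition of F^(2m+1) into t ≥ 2 pairwise orthogonal, pairwise Q-isometric subspaces of equal dimension k > 1 on which the polar form is non-degenerate. Unless q = 3 and k = 3, the elements of Ω permuting the members of D form a maximal subgroup of Ω. -/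
theorem result {F : Type*} [Field F] [Fintype F] (hodd : Odd (Fintype.card F)) (m : ℕ) (hm : 6 ≤ m) {t : ℕ} (k : ℕ) (hk : 1 < k) (D : Fin t → Submodule F (Unit ⊕ (Fin m ⊕ Fin m) → F)) (hD : Cfsg.Geo.IsOrthogonalMDecomposition (Cfsg.quadFormOdd m F) k D) (hex : ¬ (Fintype.card F = 3 ∧ k = 3)) : Cfsg.Geo.IsMaximalIn (Cfsg.Geo.omegaGL (Cfsg.quadFormOdd m F)) (Cfsg.Geo.decompositionStabilizer D ⊓ Cfsg.Geo.omegaGL (Cfsg.quadFormOdd m F)) := by
  classical
  have h2 : (2 : F) ≠ 0 := Ring.two_ne_zero fun h => by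
    have h' := FiniteField.even_card_of_char_two h
    obtain ⟨r, hr⟩ := hodd
    omega
  let Q : QuadraticForm F (Unit ⊕ (Fin m ⊕ Fin m) → F) := (Quad.hyp (Quad.sqForm F) m).comp (Quad.oddCoord m).toLinearMap
  have hQe : ⇑Q = Cfsg.quadFormOdd m F := funext fun x => by simp [Q, Quad.oddCoord_map]
  have hQ : (QuadraticMap.polarBilin Q).Nondegenerate :=
    Quad.Iso.nondeg (Quad.Iso.symm ⟨Quad.oddCoord m, fun x => by simp [Q]⟩) (Quad.nondeg_hyp (Quad.nondeg_sqForm h2) m)
  rw [← hQe] at hD ⊢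
  obtain ⟨⟨hM, hnd, horth⟩, hiso⟩ := hD
  have hdim : Module.finrank F (Unit ⊕ (Fin m ⊕ Fin m) → F) = 2 * m + 1 := by
    rw [Module.finrank_fintype_fun_eq_card]; simp; omega
  have hsum : 2 * m + 1 = t * k := by
    rw [← hdim]
    have hint : DirectSum.IsInternal D :=
      DirectSum.isInternal_submodule_of_iSupIndep_of_iSup_eq_top hM.indep hM.iSup_eq_top
    rw [← (LinearEquiv.ofBijective (DirectSum.coeLinearMap D) hint).finrank_eq, Module.finrank_directSum]
    simp [hM.finrank_eq]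
  have hk3 : 3 ≤ k := by
    by_contra hk'
    obtain rfl : k = 2 := by omega
    omega
  have ht3 : 3 ≤ t := by
    by_contra ht
    obtain rfl : t = 2 := by have := hM.two_le; omega
    omega
  have hd : DecOrth.Dec Q D :=
    { two := h2
      nd := hQ
      top := hM.iSup_eq_top
      perp := horth
      ndD := fun i x hx h => by_contra fun h0 => (hnd i x hx h0).2.elim fun y hy => hy.2 (h y hy.1)
      dim := fun i => by rw [hM.finrank_eq]; exact hk3
      eqdim := fun i j => by rw [hM.finrank_eq, hM.finrank_eq]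
      three := ht3
      size := by
        have := Fintype.one_lt_card (α := F)
        rw [Nat.card_eq_fintype_card]
        obtain ⟨r, hr⟩ := hodd
        by_cases h5 : 5 ≤ Fintype.card F
        · exact Or.inl h5
        refine Or.inr fun i => ?_
        rw [hM.finrank_eq]
        have hq : Fintype.card F = 3 := by omega
        have hk' : k ≠ 3 := fun h => hex ⟨hq, h⟩
        have hko : ¬ Even k := fun he => by
          obtain ⟨s, hs⟩ := he.mul_left t
          omega
        have : k ≠ 4 := fun h => hko (h ▸ ⟨2, rfl⟩)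
        omega }
  have hmem : ∀ g : (Unit ⊕ (Fin m ⊕ Fin m) → F) ≃ₗ[F] (Unit ⊕ (Fin m ⊕ Fin m) → F),
      (glEquiv _ F).symm g ∈ Cfsg.Geo.decompositionStabilizer D ↔
        ∃ σ : Equiv.Perm (Fin t), ∀ i, (D i).map g.toLinearMap = D (σ i) := by
    intro g
    have e : Matrix.toLin' ((((glEquiv _ F).symm g : GL (Unit ⊕ (Fin m ⊕ Fin m)) F)) :
        Matrix (Unit ⊕ (Fin m ⊕ Fin m)) (Unit ⊕ (Fin m ⊕ Fin m)) F) = g.toLinearMap :=
      LinearMap.ext fun x => by
        conv_rhs => rw [← (glEquiv _ F).apply_symm_apply g]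
        rw [LinearEquiv.coe_coe, glEquiv_apply, Matrix.toLin'_apply]
    show (∃ σ : Equiv.Perm (Fin t), ∀ i, _) ↔ _
    rw [e]
  have hmaps : ∀ (g : Quad.oG Q) (σ : Equiv.Perm (Fin t)), DecOrth.Maps D g.1 σ →
      (glEquiv _ F).symm g.1 ∈ Cfsg.Geo.decompositionStabilizer D :=
    fun g σ hσ => (hmem _).2 ⟨σ, fun i => RootPlanes.map_eq_of_le (hd.eqdim _ _) (hσ i)⟩
  refine RootPlanes.isMaximalIn_omega Q hQ (by simp; omega) _ ?_ fun H hH g hg hgS => ?_
  · let a : Fin t := ⟨0, by omega⟩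
    let b : Fin t := ⟨1, by omega⟩
    have hab : a ≠ b := fun h => by simpa [a, b] using congrArg Fin.val h
    obtain ⟨e, he, he0, heq⟩ := DecOrth.exists_sing hd a
    obtain ⟨f, hf, hf0, hfq⟩ := DecOrth.exists_sing hd b
    obtain ⟨f', hf', -, hff'⟩ := DecOrth.partner hd hf hf0 hfq
    have hef := horth a b hab e he f hf
    refine ⟨Quad.sO heq hef, Quad.sO_mem_commutator hQ (Or.inr (by rw [hdim]; omega)) _ _, fun hm => ?_⟩
    obtain ⟨σ, hσ⟩ := (hmem _).1 hm
    have h1 : (Quad.sO heq hef).1 f' ∈ D (σ b) := hσ b ▸ Submodule.mem_map_of_mem hf'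
    rw [Quad.sO_apply, QuadraticMap.polar_comm Q f' f, hff', horth b a hab.symm f' hf' e he] at h1
    simp only [one_smul, neg_zero, zero_smul, mul_zero, add_zero] at h1
    have hf'0 : f' ≠ 0 := fun h => by rw [h] at hff'; simp [QuadraticMap.polar] at hff'
    by_cases hb : σ b = a
    · have : f' ∈ D a := ((D a).add_mem_iff_left he).1 (hb ▸ h1)
      exact hf'0 (DecOrth.eq_zero_of_two hd hab this hf')
    · have h3 := DecOrth.pr_other hd (i := a) hb h1
      rw [map_add, DecOrth.pr_other hd hab.symm hf', DecOrth.pr_same hd he, zero_add] at h3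
      exact he0 h3
  · have hblocks : ∀ g ∈ commutator (Quad.oG Q), (∀ i, ∀ x ∈ D i, g.1 x ∈ D i) → g ∈ H :=
      fun g hg h => hH g hg (hmaps g 1 h)
    refine DecOrth.overgroup hd (H := H) ⟨hblocks, fun a b c hab hbc hac => ?_⟩ hg fun h => hgS ((hmem _).2 h)
    obtain ⟨s, hs, σ, hσ, hσ'⟩ := DecOrth.exists_cycle hd (fun i j => hiso i j) hab hbc hac
    exact ⟨s, hH s hs (hmaps s σ hσ), σ, hσ, hσ'⟩

end Cfsg.Agent.S5677
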