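import Cfsg.Statements.S5680
import Cfsg.Agent.ClassicalMax.ExtOrth3.Main
import Cfsg.Agent.ClassicalMax.ExtOrth3.Deg3.Bridge
import Cfsg.Agent.ClassicalMax.ExtField.Bridge
import Cfsg.Agent.Classical.QuadBasis

set_option autoImplicit false
open Cfsg

namespace Cfsg.Agent.S5680

open Module QuadraticMap Cfsg.Agent.Classical Cfsg.Agent.Classical.Quad Cfsg.Agent.ClassicalMax

set_option linter.unusedSectionVars false
set_option linter.style.haveILetI false

/-- an overgroup proof for a quadratic form, given the field as an abstract algebra -/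
theorem aux {F : Type*} [Field F] [Fintype F] {ι : Type} [Fintype ι] [DecidableEq ι] (hn : 9 ≤ Fintype.card ι)
    (hoddn : Odd (Fintype.card ι)) (q : QuadraticForm F (ι → F))
    (hnd : (polarBilin q).Nondegenerate) (h2 : (2 : F) ≠ 0) {L : Type*} [Field L] [Algebra F L]
    (j : L →ₐ[F] Matrix ι ι F) (hr : (finrank F L).Prime) (hnr : Fintype.card ι ≠ finrank F L)
    (K : Subalgebra F (Matrix ι ι F)) (hjK : ∀ x, x ∈ K ↔ ∃ k, j k = x)
    (hsa : Cfsg.Geo.IsSelfAdjointFor (QuadraticMap.polar q) K) :
    Cfsg.Geo.IsMaximalIn (Cfsg.Geo.omegaGL ⇑q) (Cfsg.Geo.subalgebraNormalizer K ⊓ Cfsg.Geo.omegaGL ⇑q) := by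
  classical
  haveI : Nonempty ι := Fintype.card_pos_iff.1 (by omega)
  haveI : FiniteDimensional F L := Module.finite_of_finrank_pos hr.pos
  haveI : Finite L := Module.finite_of_finite F
  haveI : Nontrivial L := inferInstance
  letI : Module L (ι → F) :=
    Module.compHom (ι → F) ((Matrix.toLinAlgEquiv'.toAlgHom.comp j).toRingHom : L →+* Module.End F (ι → F))
  have hsmul : ∀ (k : L) (x : ι → F), k • x = (j k).mulVec x := fun k x => rfl
  haveI : IsScalarTower F L (ι → F) := IsScalarTower.of_algebraMap_smul fun t x => by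
    rw [hsmul, AlgHom.commutes, Matrix.algebraMap_eq_diagonal]
    funext i
    simp [Matrix.mulVec_diagonal]
  haveI : FiniteDimensional L (ι → F) := Module.Finite.right F L _
  set d := finrank L (ι → F) with hd
  have hmul : finrank F L * d = Fintype.card ι := by
    rw [hd, Module.finrank_mul_finrank, Module.finrank_fintype_fun_eq_card]
  have hdodd : Odd d := (Nat.odd_mul.1 (hmul ▸ hoddn)).2
  have hrodd : Odd (finrank F L) := (Nat.odd_mul.1 (hmul ▸ hoddn)).1
  have hd3 : 3 ≤ d := by
    rcases hdodd with ⟨k, hk⟩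
    rcases k with _ | k
    · exact absurd (by rw [← hmul, hk]; simp) hnr
    · omega
  have hsaj : ∀ (k : L) (x z : ι → F), polar q (k • x) z = polar q x (k • z) := fun k x z => by
    rw [hsmul, hsmul]
    exact hsa _ ((hjK _).2 ⟨k, rfl⟩) x z
  haveI : Nontrivial (Dual F L) := Module.nontrivial_of_finrank_pos (R := F) (by rw [Subspace.dual_finrank_eq]; exact hr.pos)
  obtain ⟨l, hl⟩ := exists_ne (0 : Dual F L)
  choose p hp using fun x z : ι → F => ExtField.mul_rep hl
    (((polarBilin q).flip z).comp ((LinearMap.toSpanSingleton L (ι → F) x).restrictScalars F))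
  have hp' : ∀ x z c, l (c * p x z) = polar q (c • x) z := hp
  let b : (ι → F) →ₗ[L] (ι → F) →ₗ[L] L := LinearMap.mk₂ L p
    (fun x x' z => ExtField.mul_sep hl fun c => by rw [mul_add, map_add, hp', hp', hp', smul_add, polar_add_left])
    (fun a x z => ExtField.mul_sep hl fun c => by rw [smul_eq_mul, ← mul_assoc, hp', hp', smul_smul])
    (fun x z z' => ExtField.mul_sep hl fun c => by rw [mul_add, map_add, hp', hp', hp', polar_add_right])
    (fun a x z => ExtField.mul_sep hl fun c => by
      rw [smul_eq_mul, ← mul_assoc, hp', hp', ← hsaj a (c • x) z, smul_smul, mul_comm a c])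
  have hb : ∀ x z c, l (c * b x z) = polar q (c • x) z := hp'
  have hsymm : ∀ x z, b z x = b x z := fun x z => ExtField.mul_sep hl fun c => by
    rw [hb, hb, hsaj, polar_comm]
  have h2L : (2 : L) ≠ 0 := fun h => h2 ((algebraMap F L).injective (by rw [map_ofNat, map_zero]; exact h))
  set QK : QuadraticForm L (ι → F) := LinearMap.BilinMap.toQuadraticMap ((2 : L)⁻¹ • b) with hQK
  have hpol : ∀ x z, polar QK x z = b x z := fun x z => by
    rw [hQK, LinearMap.BilinMap.polar_toQuadraticMap, LinearMap.smul_apply, LinearMap.smul_apply, LinearMap.smul_apply,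
      LinearMap.smul_apply, hsymm x z, smul_eq_mul, ← add_mul, ← two_mul, mul_inv_cancel₀ h2L, one_mul]
  have hndK : (polarBilin QK).Nondegenerate := nondeg_of fun x hx => eq_zero_of_polar hnd fun z => by
    have := hb x z 1
    rw [one_mul, one_smul, ← hpol, hx z, map_zero] at this
    exact this.symm
  have heq : ∀ x, q x = l (QK x) := fun x => by
    have h1 := hb x x 1
    rw [one_mul, one_smul, ← hpol, polar_self', polar_self'] at h1
    rw [show (2 : L) * QK x = (2 : F) • QK x by rw [Algebra.smul_def, map_ofNat], map_smul, smul_eq_mul] at h1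
    exact (mul_left_cancel₀ h2 h1).symm
  have hn3 : 5 ≤ Fintype.card ι := by omega
  refine ExtOrth3.Deg3.isMaximalIn_omega_le q hnd hn3 _ ?_ fun H hHle hH g hg hgS => ?_
  · obtain ⟨v, hv0, hv⟩ := exists_singular QK (by omega)
    obtain ⟨y, hy, hvy⟩ := exists_hyp_pair hndK hv0 hv
    obtain ⟨z, hvz, hyz, hzq⟩ := exists_aniso_perp hndK hd3 hv hy hvy
    have hz0 : z ≠ 0 := fun e => hzq (by rw [e, map_zero])
    have hpe : ∀ a b, polar q a b = l (polar QK a b) := fun a b => by simp only [polar, heq, map_sub]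
    have hqv : q v = 0 := by rw [heq, hv, map_zero]
    have hqvz : polar q v z = 0 := by rw [hpe, hvz, map_zero]
    refine ⟨sO hqv hqvz, sO_mem_commutator hnd (hex_of_two h2 _) hqv hqvz, fun hmem => ?_⟩
    set s := (sO hqv hqvz).1 with hs
    set t := (glEquiv ι F).symm s with ht
    have htx : ∀ x, (t : Matrix ι ι F).mulVec x = s x := fun x => by
      rw [ht]
      exact symm_mulVec _ _
    have hline : ∀ (k : L) (x : ι → F), s (k • x) ∈ L ∙ s x := fun k x => by
      obtain ⟨k', hk'⟩ := (hjK _).1 ((hmem (j k)).1 ((hjK _).2 ⟨k, rfl⟩))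
      refine Submodule.mem_span_singleton.2 ⟨k', ?_⟩
      rw [← htx, ← htx, hsmul, hsmul, hk', Matrix.mulVec_mulVec, Matrix.mulVec_mulVec, mul_assoc (_ * j k), ← Units.val_mul,
        inv_mul_cancel, Units.val_one, mul_one]
    obtain ⟨c, hc, hc0⟩ := Submodule.exists_mem_ne_zero_of_ne_bot (p := LinearMap.ker l) (fun e => by
      have h1 := LinearMap.finrank_range_add_finrank_ker l
      have h2' := Submodule.finrank_le (LinearMap.range l)
      rw [e, finrank_bot] at h1
      rw [finrank_self] at h2'
      have := hr.two_le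
      omega)
    obtain ⟨c', hc'⟩ : ∃ c' : L, l (c' * c) = 1 := by
      obtain ⟨e, he⟩ : ∃ e : L, l (e * c) ≠ 0 := by
        by_contra hne'
        push Not at hne'
        exact hc0 (ExtField.mul_sep hl fun e => by rw [hne', mul_zero, map_zero])
      exact ⟨(l (e * c))⁻¹ • e, by rw [smul_mul_assoc, map_smul, smul_eq_mul, inv_mul_cancel₀ he]⟩
    have hc : l c = 0 := hc
    have hsk : ∀ k : L, s (k • y) = k • y + polar q (k • y) z • v + (-l k) • z + (-(q z * l k)) • v := fun k => by
      have e : polar q (k • y) v = l k := by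
        rw [hpe, polar_smul_left, polar_comm QK y v, hvy, smul_eq_mul, mul_one]
      rw [hs, sO_apply, e]
    have hfix : s (c • y) = c • y := by
      rw [hsk, hc, hpe, polar_smul_left, hyz, smul_zero, map_zero]
      simp
    have h1 := hline c' (c • y)
    rw [hfix, smul_smul, hsk, hc', hpe, polar_smul_left, hyz, smul_zero, map_zero, zero_smul, add_zero,
      Submodule.mem_span_singleton] at h1
    obtain ⟨m', hm'⟩ := h1
    have hz' : z = (c' * c - m' * c) • y + (-(q z)) • v := by
      rw [neg_one_smul, mul_one, smul_smul] at hm'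
      linear_combination (norm := module) hm'
    have hqz : (-(q z)) • v = (algebraMap F L (-(q z))) • v := (algebraMap_smul L _ v).symm
    rw [hqz] at hz'
    have e1 : c' * c - m' * c = 0 := by
      have := congrArg (polar QK v) hz'
      rw [hvz, polar_add_right, polar_smul_right, polar_smul_right, hvy, polar_self', hv, smul_eq_mul] at this
      simpa using this.symm
    rw [e1, zero_smul, zero_add] at hz'
    have e2 := congrArg (polar QK y) hz'
    rw [hyz, polar_smul_right, polar_comm QK y v, hvy, smul_eq_mul, mul_one] at e2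
    exact hz0 (by rw [hz', ← e2, zero_smul])
  · have hresH : ∀ (res : oG QK →* oG q), (∀ h x, (res h).1 x = h.1 x) → ∀ h ∈ commutator (oG QK), res h ∈ H := by
      intro res hres h hh
      refine hH _ ?_ (ExtField.mem_normalizer_of_linear j K hsmul hjK _ fun k x => ?_)
      · have h1 : (commutator (oG QK)).map res ≤ commutator (oG q) := by
          rw [commutator_def, commutator_def, Subgroup.map_commutator]
          exact Subgroup.commutator_mono le_top le_top
        exact h1 ⟨h, hh, rfl⟩
      · rw [MulEquiv.apply_symm_apply, hres, hres]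
        exact map_smul h.1 k x
    have hdim : ∀ x : ι → F, ∃ z, z ∉ L ∙ x := fun x => by
      by_contra hc
      push Not at hc
      have h1 := finrank_range_le_card (R := L) ![x]
      rw [Set.finrank, Fintype.card_fin] at h1
      have h2' : Submodule.span L (Set.range ![x]) = ⊤ := eq_top_iff.2 fun z _ => by simpa using hc z
      rw [h2', finrank_top] at h1
      omega
    obtain ⟨k, x, hkx⟩ := ExtField.exists_nonline j K hsmul hjK hdim _ hgS
    rw [MulEquiv.apply_symm_apply] at hkx
    rcases (show d = 3 ∨ 4 ≤ d by omega) with hd' | hd'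
    · have hne2 : finrank F L ≠ 2 := fun e => by
        obtain ⟨s, hs⟩ := hrodd
        omega
      have hS : ExtOrth3.Setting q QK l := ⟨hr, hne2, h2, hndK, hd', hl, heq⟩
      rcases (show finrank F L = 3 ∨ 5 ≤ finrank F L by
        obtain ⟨s, hs⟩ := hrodd
        have := hr.two_le
        omega) with h3 | h5
      · exact ExtOrth3.Deg3.eo_le_of_nonsemilinear hS h3 hHle (fun h hh hsl => hH h hh (by_contra fun hn => by
          obtain ⟨k', x', hx'⟩ := ExtField.exists_nonline j K hsmul hjK hdim _ hn
          rw [MulEquiv.apply_symm_apply] at hx'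
          exact hx' (hsl k' x'))) hg ⟨k, x, hkx⟩
      haveI : Fact (5 ≤ finrank F L) := ⟨h5⟩
      exact ExtOrth3.eo_le_of_nonsemilinear hS (hresH (ExtOrth3.res hS) fun _ _ => rfl) hg ⟨k, x, hkx⟩
    · have hS : ExtOrth.Setting q QK l := ⟨hr, h2, hndK, hd', fun h4 => by
        exfalso
        obtain ⟨s, hs⟩ := hdodd
        omega, hl, heq⟩
      exact ExtOrth.eo_le_of_nonsemilinear hS hnd (hresH (ExtOrth.res hS) fun _ _ => rfl) hg ⟨k, x, hkx⟩

/-- Let F be a finite field of odd order, m ≥ 6, Q the standard quadratic form on F^(2m+1) and Ω the commutator subgroup of its isometry group. Let K be a subfield of the algebra of (2m+1) × (2m+1) matrices over F containing the scalars, of prime degree r over F with r ≠ 2m + 1, whose elements are self-adjoint for the polar form of Q. Then the elements of Ω normalising K form a maximal subgroup of Ω. -/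
theorem result {F : Type*} [Field F] [Fintype F] (hodd : Odd (Fintype.card F)) (m : ℕ) (hm : 6 ≤ m) (r : ℕ) (hr : r.Prime) (hrn : 2 * m + 1 ≠ r) (K : Subalgebra F (Matrix (Unit ⊕ (Fin m ⊕ Fin m)) (Unit ⊕ (Fin m ⊕ Fin m)) F)) (hK : Cfsg.Geo.IsFieldSubalgebra r K) (hsa : Cfsg.Geo.IsSelfAdjointFor (QuadraticMap.polar (Cfsg.quadFormOdd m F)) K) : Cfsg.Geo.IsMaximalIn (Cfsg.Geo.omegaGL (Cfsg.quadFormOdd m F)) (Cfsg.Geo.subalgebraNormalizer K ⊓ Cfsg.Geo.omegaGL (Cfsg.quadFormOdd m F)) := by
  classical
  have h2 : (2 : F) ≠ 0 := Ring.two_ne_zero fun h => by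
    have h' := FiniteField.even_card_of_char_two h
    obtain ⟨s, hs⟩ := hodd
    omega
  let Q : QuadraticForm F (Unit ⊕ (Fin m ⊕ Fin m) → F) := (hyp (sqForm F) m).comp (oddCoord m).toLinearMap
  have hQe : ⇑Q = Cfsg.quadFormOdd m F := funext fun x => by simp [Q, oddCoord_map]
  have hQ : (polarBilin Q).Nondegenerate :=
    Iso.nondeg (Iso.symm ⟨oddCoord m, fun x => by simp [Q]⟩) (nondeg_hyp (nondeg_sqForm h2) m)
  rw [← hQe] at hsa ⊢
  have hKfield : IsField K :=
    { exists_pair_ne := ⟨0, 1, fun h => zero_ne_one (α := Matrix (Unit ⊕ (Fin m ⊕ Fin m)) (Unit ⊕ (Fin m ⊕ Fin m)) F)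
        (congrArg Subtype.val h)⟩
      mul_comm := fun x y => Subtype.ext (hK.comm _ x.2 _ y.2)
      mul_inv_cancel := fun {a} ha => by
        obtain ⟨y, hy, h⟩ := hK.inv _ a.2 (fun e => ha (Subtype.ext e))
        exact ⟨⟨y, hy⟩, Subtype.ext h⟩ }
  letI : Field K := hKfield.toField
  refine aux ?_ ?_ Q hQ h2 K.val (by rw [hK.finrank_eq]; exact hr) ?_ K
    (fun x => ⟨fun h => ⟨⟨x, h⟩, rfl⟩, fun ⟨k, e⟩ => e ▸ k.2⟩) hsa
  · simp; omega
  · exact ⟨m, by simp; omega⟩
  · rw [hK.finrank_eq]; simp; omega

end Cfsg.Agent.S5680
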