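import Cfsg.Statements.S5681
import Cfsg.Agent.ClassicalMax.OTensor.Bridge
import Cfsg.Agent.Classical.QuadBasis

set_option autoImplicit false
open Cfsg

namespace Cfsg.Agent.S5681

open Cfsg.Agent.Classical Cfsg.Agent.Classical.Quad Cfsg.Agent.ClassicalMax Cfsg.Agent.ClassicalMax.OTensor

/-- Let F be a finite field of odd order q, m ≥ 6, Q the standard quadratic form on F^(2m+1) and Ω the commutator subgroup of its isometry group. Suppose the polar form of Q is similar, through a change of basis P and a bijection of index sets e, to the tensor product of non-degenerate symmetric bilinear forms f₁ on F^(n₁) and f₂ on F^(n₂) with 3 ≤ n₁ < n₂. Unless q = 3 and n₁ = 3, the elements of Ω in the stabiliser of this tensor decomposition form a maximal subgroup of Ω. -/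
theorem result {F : Type*} [Field F] [Fintype F] (hodd : Odd (Fintype.card F)) (m : ℕ) (hm : 6 ≤ m) (n₁ n₂ : ℕ) (h1 : 3 ≤ n₁) (h12 : n₁ < n₂) (hex : ¬ (Fintype.card F = 3 ∧ n₁ = 3)) (e : (Unit ⊕ (Fin m ⊕ Fin m)) ≃ Fin n₁ × Fin n₂) (P : Matrix.GeneralLinearGroup (Unit ⊕ (Fin m ⊕ Fin m)) F) (f₁ : (Fin n₁ → F) → (Fin n₁ → F) → F) (f₂ : (Fin n₂ → F) → (Fin n₂ → F) → F) (hf₁ : Cfsg.Geo.IsSymmetricForm f₁) (hf₂ : Cfsg.Geo.IsSymmetricForm f₂) (hT : Cfsg.Geo.IsTensorFormStructure id (QuadraticMap.polar (Cfsg.quadFormOdd m F)) f₁ f₂ e P) : Cfsg.Geo.IsMaximalIn (Cfsg.Geo.omegaGL (Cfsg.quadFormOdd m F)) (Cfsg.Geo.tensorProductSubgroup n₁ n₂ e P ⊓ Cfsg.Geo.omegaGL (Cfsg.quadFormOdd m F)) := by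
  classical
  have h2 : (2 : F) ≠ 0 := Ring.two_ne_zero fun h => by
    have h' := FiniteField.even_card_of_char_two h
    obtain ⟨s, hs⟩ := hodd
    omega
  let Q : QuadraticForm F (Unit ⊕ (Fin m ⊕ Fin m) → F) := (hyp (sqForm F) m).comp (oddCoord m).toLinearMap
  have hQe : ⇑Q = Cfsg.quadFormOdd m F := funext fun x => by simp [Q, oddCoord_map]
  have hQ : (QuadraticMap.polarBilin Q).Nondegenerate :=
    Iso.nondeg (Iso.symm ⟨oddCoord m, fun x => by simp [Q]⟩) (nondeg_hyp (nondeg_sqForm h2) m)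
  rw [← hQe] at hT ⊢
  have hcard := Fintype.card_congr e
  simp at hcard
  have h5 : 5 ≤ n₂ := by
    rcases Nat.lt_or_ge n₂ 5 with h | h
    · have h3 : n₁ = 3 := by omega
      have h4 : n₂ = 4 := by omega
      subst h3 h4
      omega
    · exact h
  have hn1 : n₁ ≠ 4 := fun h => by subst h; omega
  refine isMaximal_tensor Q hQ hodd h1 (by omega) (by omega) (by omega) (fun h _ => ?_)
    (fun h h' => by omega) e P f₁ f₂ hf₁ hf₂ (fun h => absurd h hn1) (fun h h' => by omega) hT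
  have := Fintype.one_lt_card (α := F)
  obtain ⟨k, hk⟩ := hodd
  have : Fintype.card F ≠ 3 := fun h3 => hex ⟨h3, h⟩
  omega

end Cfsg.Agent.S5681
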