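import Cfsg.Statements.S5684
import Cfsg.Agent.ClassicalMax.OOWreath.OddBridge
import Cfsg.Agent.Classical.QuadStd
import Cfsg.Agent.Classical.QuadTypes

set_option autoImplicit false
open Cfsg

namespace Cfsg.Agent.S5684

open Cfsg.Agent.Classical Cfsg.Agent.ClassicalMax.OOWreath

/-- Let F be a finite field of odd order q, m ≥ 6, Q the standard quadratic form on F^(2m+1) and Ω the commutator subgroup of its isometry group. Suppose the polar form of Q is similar, through a change of basis P and a bijection of index sets e, to the t-fold tensor power (t ≥ 2) of a non-degenerate symmetric bilinear form f₁ on F^k with k ≥ 3 and (q, k) ≠ (3, 3). Then the elements of Ω in the stabiliser of this decomposition form a maximal subgroup of Ω. -/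
theorem result {F : Type*} [Field F] [Fintype F] (hodd : Odd (Fintype.card F)) (m : ℕ) (hm : 6 ≤ m) (k t : ℕ) (hk : 3 ≤ k) (ht : 2 ≤ t) (hex : ¬ (Fintype.card F = 3 ∧ k = 3)) (e : (Unit ⊕ (Fin m ⊕ Fin m)) ≃ (Fin t → Fin k)) (P : Matrix.GeneralLinearGroup (Unit ⊕ (Fin m ⊕ Fin m)) F) (f₁ : (Fin k → F) → (Fin k → F) → F) (hf₁ : Cfsg.Geo.IsSymmetricForm f₁) (hT : Cfsg.Geo.IsTensorPowerFormStructure id (QuadraticMap.polar (Cfsg.quadFormOdd m F)) f₁ e P) : Cfsg.Geo.IsMaximalIn (Cfsg.Geo.omegaGL (Cfsg.quadFormOdd m F)) (Cfsg.Geo.tensorWreathSubgroup k t e P ⊓ Cfsg.Geo.omegaGL (Cfsg.quadFormOdd m F)) := by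
  classical
  have h2 : (2 : F) ≠ 0 := Ring.two_ne_zero fun h => by
    have h' := FiniteField.even_card_of_char_two h
    obtain ⟨r, hr⟩ := hodd
    omega
  let Q : QuadraticForm F (Unit ⊕ (Fin m ⊕ Fin m) → F) :=
    (Quad.hyp (Quad.sqForm F) m).comp (Quad.oddCoord m).toLinearMap
  have hQe : ⇑Q = Cfsg.quadFormOdd m F := funext fun x => by simp [Q, Quad.oddCoord_map]
  have hQ : (QuadraticMap.polarBilin Q).Nondegenerate :=
    Quad.Iso.nondeg (Quad.Iso.symm ⟨Quad.oddCoord m, fun x => by simp [Q]⟩) (Quad.nondeg_hyp (Quad.nondeg_sqForm h2) m)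
  rw [← hQe] at hT ⊢
  have hcard : k ^ t = 2 * m + 1 := by
    have := Fintype.card_congr e
    simp only [Fintype.card_sum, Fintype.card_unit, Fintype.card_fin, Fintype.card_fun] at this
    omega
  have hkodd : Odd k := (Nat.odd_pow_iff (show t ≠ 0 by omega)).1 (show Odd (k ^ t) from ⟨m, hcard⟩)
  have hsj := symForm_sj hf₁ hodd hk (by
    by_cases h5 : 5 ≤ Fintype.card F
    · exact Or.inl h5
    refine Or.inr (Nat.lt_of_le_of_ne hk fun hk3 => hex ⟨?_, hk3.symm⟩)
    have := Fintype.one_lt_card (α := F)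
    obtain ⟨r, hr⟩ := hodd
    omega) (fun h4 => by subst h4; exact absurd hkodd (by decide))
  obtain ⟨c, hV⟩ := exists_sspace Q e P f₁ hsj hT
  exact isMaximal_of_sspace Q hQ (by simp; omega) e P ht hV fun H hH g hg hgS =>
    hV.eo_le_odd_slot hkodd ht hH hg hgS

end Cfsg.Agent.S5684
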