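import Cfsg.Statements.S5687
import Cfsg.Agent.ClassicalMax.RootPar

set_option autoImplicit false
open Cfsg

namespace Cfsg.Agent.S5687

open Cfsg.Agent.ClassicalMax Cfsg.Agent.Classical

/-- Let F be a finite field with q elements, n ≥ 13 even, Q a non-degenerate quadratic form on F^n of minus type (no subspace of dimension n/2 is totally singular), and Ω the commutator subgroup of the isometry group of Q, viewed inside GL_n(F). The elements of Ω stabilising a non-zero subspace on which Q vanishes form a maximal subgroup of Ω. -/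
theorem result {F : Type*} [Field F] [Fintype F] {n : ℕ} (hn : 13 ≤ n) (heven : Even n) (Q : (Fin n → F) → F) (hQ : Cfsg.Geo.IsNondegenerateQuadraticForm Q) (hminus : ¬ Cfsg.Geo.IsPlusTypeOn Q ⊤) (W : Submodule F (Fin n → F)) (hW0 : W ≠ ⊥) (hW : Cfsg.Geo.IsTotallySingularQuad Q W) : Cfsg.Geo.IsMaximalIn (Cfsg.Geo.omegaGL Q) (Cfsg.Geo.subspaceStabilizer W ⊓ Cfsg.Geo.omegaGL Q) := by
  classical
  let q : QuadraticForm F (Fin n → F) := QuadraticMap.ofPolar Q
    (fun a x => by rw [hQ.smul, smul_eq_mul, pow_two])
    hQ.polar_bilinear.add_left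
    (fun a x y => by rw [hQ.polar_bilinear.smul_left, smul_eq_mul])
  have hq : ⇑q = Q := rfl
  have hnd : (QuadraticMap.polarBilin q).Nondegenerate :=
    ⟨fun x hx => by_contra fun h => (hQ.nondegenerate x h).2.elim fun y hy => hy (hx y),
      fun x hx => by_contra fun h => (hQ.nondegenerate x h).1.elim fun y hy => hy (hx y)⟩
  rw [← hq]
  refine RootPlanes.isMaximalIn_parabolic q hnd (by rw [Fintype.card_fin]; omega) W hW0 hW ?_
  intro a haq haP haW h
  have h1 := RootPlanes.finrank_perpS hnd W
  rw [Module.finrank_fin_fun, h] at h1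
  have hd : Disjoint W (Submodule.span F {a}) := (Submodule.disjoint_span_singleton' (fun h0 : a = 0 => haW (by rw [h0]; exact W.zero_mem))).2 haW
  refine hminus ⟨W ⊔ Submodule.span F {a}, le_top, ?_, ?_⟩
  · intro x hx
    obtain ⟨w, hw, y, hy, rfl⟩ := Submodule.mem_sup.1 hx
    obtain ⟨c, rfl⟩ := Submodule.mem_span_singleton.1 hy
    show q (w + c • a) = 0
    rw [Quad.map_add', Quad.map_smul', haq, QuadraticMap.polar_smul_right, RootPlanes.mem_perpS.1 haP w hw, show q w = 0 from hW w hw]
    simp
  · have h2 := Submodule.finrank_sup_add_finrank_inf_eq W (Submodule.span F {a})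
    rw [hd.eq_bot, finrank_bot, finrank_span_singleton (fun h0 : a = 0 => haW (by rw [h0]; exact W.zero_mem))] at h2
    rw [finrank_top, Module.finrank_fin_fun]
    omega

end Cfsg.Agent.S5687
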