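import Cfsg.Statements.S5689
import Cfsg.Agent.ClassicalMax.RootNondeg

set_option autoImplicit false
open Cfsg

namespace Cfsg.Agent.S5689

open Cfsg.Agent.ClassicalMax Cfsg.Agent.Classical

/-- Let F be a finite field with q elements, n ≥ 13 even, Q a non-degenerate quadratic form on F^n of minus type (no subspace of dimension n/2 is totally singular), and Ω the commutator subgroup of the isometry group of Q, viewed inside GL_n(F). Let W be a non-zero proper subspace on which the polar form of Q is non-degenerate, not of odd dimension n/2. Exclude the case q ≤ 3 in which W, or its orthogonal complement, is a plane containing a line on which Q vanishes. Then the elements of Ω stabilising W form a maximal subgroup of Ω. -/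
theorem result {F : Type*} [Field F] [Fintype F] {n : ℕ} (hn : 13 ≤ n) (heven : Even n) (Q : (Fin n → F) → F) (hQ : Cfsg.Geo.IsNondegenerateQuadraticForm Q) (hminus : ¬ Cfsg.Geo.IsPlusTypeOn Q ⊤) (W : Submodule F (Fin n → F)) (hW0 : W ≠ ⊥) (hW1 : W ≠ ⊤) (hdim : ¬ (2 * Module.finrank F W = n ∧ Odd (Module.finrank F W))) (hW : Cfsg.Geo.IsNondegenerateOn (QuadraticMap.polar Q) W) (hex : ¬ (Fintype.card F ≤ 3 ∧ (∃ U : Submodule F (Fin n → F), Module.finrank F U = 2 ∧ Cfsg.Geo.IsNondegenerateOn (QuadraticMap.polar Q) U ∧ Cfsg.Geo.IsPlusTypeOn Q U ∧ (U = W ∨ (Cfsg.Geo.AreOrthogonalFor (QuadraticMap.polar Q) U W ∧ Module.finrank F U + Module.finrank F W = n))))) : Cfsg.Geo.IsMaximalIn (Cfsg.Geo.omegaGL Q) (Cfsg.Geo.subspaceStabilizer W ⊓ Cfsg.Geo.omegaGL Q) := by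
  classical
  let q : QuadraticForm F (Fin n → F) := QuadraticMap.ofPolar Q
    (fun a x => by rw [hQ.smul, smul_eq_mul, pow_two])
    hQ.polar_bilinear.add_left
    (fun a x y => by rw [hQ.polar_bilinear.smul_left, smul_eq_mul])
  have hq : ⇑q = Q := rfl
  have hnd : (QuadraticMap.polarBilin q).Nondegenerate :=
    ⟨fun x hx => by_contra fun h => (hQ.nondegenerate x h).2.elim fun y hy => hy (hx y),
      fun x hx => by_contra fun h => (hQ.nondegenerate x h).1.elim fun y hy => hy (hx y)⟩
  rw [← hq]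
  have hWnd : RootPlanes.NdOn q W := fun x hx h => by_contra fun h0 =>
    (hW x hx h0).2.elim fun y hy => hy.2 (h y hy.1)
  refine RootPlanes.isMaximalIn_nd q hnd (by rw [Fintype.card_fin]; exact hn) hWnd hW0 hW1 ?_ ?_
  · intro h
    rw [Fintype.card_fin] at h
    refine ⟨Nat.not_odd_iff_even.1 fun ho => hdim ⟨h, ho⟩, fun U hU hUts => hminus ⟨U, le_top, fun x hx => hUts x hx, ?_⟩⟩
    rw [hU, Fintype.card_fin, finrank_top, Module.finrank_fin_fun]
  · intro U hU hcard hUW b hb hbq
    by_contra hb0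
    obtain ⟨hc, hperp, hnd'⟩ := RootPlanes.nondeg_compl q hnd hWnd
    refine hex ⟨by rw [← Nat.card_eq_fintype_card]; exact hcard, U, hU, ?_, ?_, ?_⟩
    · intro x hx hx0
      have hU' : RootPlanes.NdOn q U := by
        rcases hUW with rfl | rfl
        · exact hWnd
        · exact hnd'
      obtain ⟨y, hy, hyx⟩ : ∃ y ∈ U, QuadraticMap.polar q x y ≠ 0 := by
        by_contra! h
        exact hx0 (hU' x hx h)
      exact ⟨⟨y, hy, show QuadraticMap.polar q y x ≠ 0 by rwa [QuadraticMap.polar_comm]⟩, ⟨y, hy, hyx⟩⟩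
    · refine ⟨Submodule.span F {b}, (Submodule.span_singleton_le_iff_mem _ _).2 hb, ?_, ?_⟩
      · intro x hx
        obtain ⟨c, rfl⟩ := Submodule.mem_span_singleton.1 hx
        show q (c • b) = 0
        rw [Quad.map_smul', hbq, mul_zero]
      · rw [finrank_span_singleton hb0, hU]
    · rcases hUW with rfl | rfl
      · exact Or.inl rfl
      · refine Or.inr ⟨fun u hu v hv => (QuadraticMap.polar_comm q u v).trans (RootPlanes.mem_perpS.1 hu v hv), ?_⟩
        rw [RootPlanes.finrank_perpS hnd W, Module.finrank_fin_fun]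

end Cfsg.Agent.S5689
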