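import Cfsg.Statements.S5701
import Cfsg.Agent.ClassicalMax.ExtOrth.Main
import Cfsg.Agent.ClassicalMax.ExtField.Bridge

set_option autoImplicit false
open Cfsg

namespace Cfsg.Agent.S5701

open Module QuadraticMap Cfsg.Agent.Classical Cfsg.Agent.Classical.Quad Cfsg.Agent.ClassicalMax Cfsg.Agent.ClassicalMax.ExtOrth

set_option linter.unusedSectionVars false
set_option linter.style.haveILetI false

/-- an overgroup proof for a quadratic form, given the field as an abstract algebra -/
theorem aux {F : Type*} [Field F] [Fintype F] {n : ℕ} (hn : 13 ≤ n) (heven : Even n) (q : QuadraticForm F (Fin n → F))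
    (hnd : (polarBilin q).Nondegenerate) (h2 : (2 : F) ≠ 0) {L : Type*} [Field L] [Algebra F L]
    (j : L →ₐ[F] Matrix (Fin n) (Fin n) F) (hr : (finrank F L).Prime) (hnr : 3 * finrank F L ≤ n)
    (K : Subalgebra F (Matrix (Fin n) (Fin n) F)) (hjK : ∀ x, x ∈ K ↔ ∃ k, j k = x)
    (hsa : Cfsg.Geo.IsSelfAdjointFor (QuadraticMap.polar q) K) :
    Cfsg.Geo.IsMaximalIn (Cfsg.Geo.omegaGL ⇑q) (Cfsg.Geo.subalgebraNormalizer K ⊓ Cfsg.Geo.omegaGL ⇑q) := by
  classical
  haveI : Nonempty (Fin n) := ⟨⟨0, by omega⟩⟩
  haveI : FiniteDimensional F L := Module.finite_of_finrank_pos hr.pos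
  haveI : Finite L := Module.finite_of_finite F
  haveI : Nontrivial L := inferInstance
  letI : Module L (Fin n → F) :=
    Module.compHom (Fin n → F) ((Matrix.toLinAlgEquiv'.toAlgHom.comp j).toRingHom : L →+* Module.End F (Fin n → F))
  have hsmul : ∀ (k : L) (x : Fin n → F), k • x = (j k).mulVec x := fun k x => rfl
  haveI : IsScalarTower F L (Fin n → F) := IsScalarTower.of_algebraMap_smul fun t x => by
    rw [hsmul, AlgHom.commutes, Matrix.algebraMap_eq_diagonal]
    funext i
    simp [Matrix.mulVec_diagonal]
  haveI : FiniteDimensional L (Fin n → F) := Module.Finite.right F L _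
  set d := finrank L (Fin n → F) with hd
  have hmul : finrank F L * d = n := by
    rw [hd, Module.finrank_mul_finrank, Module.finrank_fintype_fun_eq_card, Fintype.card_fin]
  have hd4 : 4 ≤ d ∧ (d = 4 → 5 ≤ finrank F L) := by
    have h3 : 3 ≤ d := by
      by_contra hc
      have := Nat.mul_le_mul_left (finrank F L) (show d ≤ 2 by omega)
      have := hr.pos
      omega
    refine ⟨?_, fun h => ?_⟩
    · by_contra hc
      have hd3 : d = 3 := by omega
      rw [hd3] at hmul
      rcases hr.eq_two_or_odd' with h | ⟨s, hs⟩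
      · omega
      · obtain ⟨t, ht⟩ := heven
        omega
    · rw [h] at hmul
      by_contra hc
      have hr4 : finrank F L = 4 := by omega
      rw [hr4] at hr
      exact absurd hr (by decide)
  have hsaj : ∀ (k : L) (x z : Fin n → F), polar q (k • x) z = polar q x (k • z) := fun k x z => by
    rw [hsmul, hsmul]
    exact hsa _ ((hjK _).2 ⟨k, rfl⟩) x z
  haveI : Nontrivial (Dual F L) := Module.nontrivial_of_finrank_pos (R := F) (by rw [Subspace.dual_finrank_eq]; exact hr.pos)
  obtain ⟨l, hl⟩ := exists_ne (0 : Dual F L)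
  choose p hp using fun x z : Fin n → F => ExtField.mul_rep hl
    (((polarBilin q).flip z).comp ((LinearMap.toSpanSingleton L (Fin n → F) x).restrictScalars F))
  have hp' : ∀ x z c, l (c * p x z) = polar q (c • x) z := hp
  let b : (Fin n → F) →ₗ[L] (Fin n → F) →ₗ[L] L := LinearMap.mk₂ L p
    (fun x x' z => ExtField.mul_sep hl fun c => by rw [mul_add, map_add, hp', hp', hp', smul_add, polar_add_left])
    (fun a x z => ExtField.mul_sep hl fun c => by rw [smul_eq_mul, ← mul_assoc, hp', hp', smul_smul])
    (fun x z z' => ExtField.mul_sep hl fun c => by rw [mul_add, map_add, hp', hp', hp', polar_add_right])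
    (fun a x z => ExtField.mul_sep hl fun c => by
      rw [smul_eq_mul, ← mul_assoc, hp', hp', ← hsaj a (c • x) z, smul_smul, mul_comm a c])
  have hb : ∀ x z c, l (c * b x z) = polar q (c • x) z := hp'
  have hsymm : ∀ x z, b z x = b x z := fun x z => ExtField.mul_sep hl fun c => by
    rw [hb, hb, hsaj, polar_comm]
  have h2L : (2 : L) ≠ 0 := fun h => h2 ((algebraMap F L).injective (by rw [map_ofNat, map_zero]; exact h))
  set QK : QuadraticForm L (Fin n → F) := LinearMap.BilinMap.toQuadraticMap ((2 : L)⁻¹ • b) with hQK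
  have hpol : ∀ x z, polar QK x z = b x z := fun x z => by
    rw [hQK, LinearMap.BilinMap.polar_toQuadraticMap, LinearMap.smul_apply, LinearMap.smul_apply, LinearMap.smul_apply,
      LinearMap.smul_apply, hsymm x z, smul_eq_mul, ← add_mul, ← two_mul, mul_inv_cancel₀ h2L, one_mul]
  have hS : Setting q QK l := {
    prime := hr
    two := h2
    nd := nondeg_of fun x hx => eq_zero_of_polar hnd fun z => by
      have := hb x z 1
      rw [one_mul, one_smul, ← hpol, hx z, map_zero] at this
      exact this.symm
    four := hd4.1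
    big := (fun h => Or.inl (le_trans (by norm_num) (hd4.2 h)))
    hl := hl
    eq := fun x => by
      have h1 := hb x x 1
      rw [one_mul, one_smul, ← hpol, polar_self', polar_self'] at h1
      rw [show (2 : L) * QK x = (2 : F) • QK x by rw [Algebra.smul_def, map_ofNat], map_smul, smul_eq_mul] at h1
      exact (mul_left_cancel₀ h2 h1).symm }
  have hn3 : 5 ≤ Fintype.card (Fin n) := by rw [Fintype.card_fin]; omega
  refine RootPlanes.isMaximalIn_omega q hnd hn3 _ ?_ fun H hH g hg hgS => ?_
  · obtain ⟨v, hv0, hv⟩ := hS.exists_cone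
    obtain ⟨y, hy, hvy⟩ := hS.partner hv0 hv
    obtain ⟨z, hz0, hz⟩ : ∃ z, z ≠ 0 ∧ z ∈ perpPair QK v y := by
      obtain ⟨z, hz, hz0⟩ := Submodule.exists_mem_ne_zero_of_ne_bot (p := perpPair QK v y) (fun e => by
        have := hS.finrank_pair hv hy hvy
        rw [e, finrank_bot] at this
        omega)
      exact ⟨z, hz0, hz⟩
    obtain ⟨hvz, hyz⟩ := mem_perpPair.1 hz
    have hqv : q v = 0 := by simpa using hS.cone hv 1
    have hqvz : polar q v z = 0 := by rw [hS.polar_eq, hvz, map_zero]
    refine ⟨sO hqv hqvz, sO_mem_commutator hnd (hex_of_two h2 _) hqv hqvz, fun hmem => ?_⟩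
    set s := (sO hqv hqvz).1 with hs
    set t := (glEquiv (Fin n) F).symm s with ht
    have htx : ∀ x, (t : Matrix (Fin n) (Fin n) F).mulVec x = s x := fun x => by
      rw [ht]
      exact symm_mulVec _ _
    have hline : ∀ (k : L) (x : Fin n → F), s (k • x) ∈ L ∙ s x := fun k x => by
      obtain ⟨k', hk'⟩ := (hjK _).1 ((hmem (j k)).1 ((hjK _).2 ⟨k, rfl⟩))
      refine Submodule.mem_span_singleton.2 ⟨k', ?_⟩
      rw [← htx, ← htx, hsmul, hsmul, hk', Matrix.mulVec_mulVec, Matrix.mulVec_mulVec, mul_assoc (_ * j k), ← Units.val_mul,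
        inv_mul_cancel, Units.val_one, mul_one]
    obtain ⟨c, hc, hc0⟩ := Submodule.exists_mem_ne_zero_of_ne_bot (p := LinearMap.ker l) (fun e => by
      have h1 := LinearMap.finrank_range_add_finrank_ker l
      have h2' := Submodule.finrank_le (LinearMap.range l)
      rw [e, finrank_bot] at h1
      rw [finrank_self] at h2'
      have := hr.two_le
      omega)
    obtain ⟨c', hc'⟩ := hS.exists_one hc0
    have hc : l c = 0 := hc
    have hsk : ∀ k : L, s (k • y) = k • y + polar q (k • y) z • v + (-l k) • z + (-(q z * l k)) • v := fun k => by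
      have e : polar q (k • y) v = l k := by
        rw [hS.polar_eq, polar_smul_left, polar_comm QK y v, hvy, smul_eq_mul, mul_one]
      rw [hs, sO_apply, e]
    have hfix : s (c • y) = c • y := by
      rw [hsk, hc, hS.polar_eq, polar_smul_left, hyz, smul_zero, map_zero]
      simp
    have h1 := hline c' (c • y)
    rw [hfix, smul_smul, hsk, hc', hS.polar_eq, polar_smul_left, hyz, smul_zero, map_zero, zero_smul, add_zero,
      Submodule.mem_span_singleton] at h1
    obtain ⟨m', hm'⟩ := h1
    have hz' : z = (c' * c - m' * c) • y + (-(q z)) • v := by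
      rw [neg_one_smul, mul_one, smul_smul] at hm'
      linear_combination (norm := module) hm'
    have hqz : (-(q z)) • v = (algebraMap F L (-(q z))) • v := (algebraMap_smul L _ v).symm
    rw [hqz] at hz'
    have e1 : c' * c - m' * c = 0 := by
      have := congrArg (polar QK v) hz'
      rw [hvz, polar_add_right, polar_smul_right, polar_smul_right, hvy, polar_self', hv, smul_eq_mul] at this
      simpa using this.symm
    rw [e1, zero_smul, zero_add] at hz'
    have e2 := congrArg (polar QK y) hz'
    rw [hyz, polar_smul_right, polar_comm QK y v, hvy, smul_eq_mul, mul_one] at e2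
    exact hz0 (by rw [hz', ← e2, zero_smul])
  · have hle : Le hS H := fun h hh => hH _ (by
      have h1 : (commutator (oG QK)).map (res hS) ≤ commutator (oG q) := by
        rw [commutator_def, commutator_def, Subgroup.map_commutator]
        exact Subgroup.commutator_mono le_top le_top
      exact h1 ⟨h, hh, rfl⟩)
      (ExtField.mem_normalizer_of_linear j K hsmul hjK _ fun k x => by
        rw [MulEquiv.apply_symm_apply]
        exact res_smul hS h k x)
    have hdim : ∀ x : Fin n → F, ∃ z, z ∉ L ∙ x := fun x => by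
      by_contra hc
      push Not at hc
      have h1 := finrank_range_le_card (R := L) ![x]
      rw [Set.finrank, Fintype.card_fin] at h1
      have h2' : Submodule.span L (Set.range ![x]) = ⊤ := eq_top_iff.2 fun z _ => by simpa using hc z
      rw [h2', finrank_top] at h1
      have := hd4.1
      omega
    obtain ⟨k, x, hkx⟩ := ExtField.exists_nonline j K hsmul hjK hdim _ hgS
    rw [MulEquiv.apply_symm_apply] at hkx
    exact eo_le_of_nonsemilinear hS hnd hle hg ⟨k, x, hkx⟩

/-- Let F be a finite field with q elements, n ≥ 13 even, Q a non-degenerate quadratic form on F^n (of either type), and Ω the commutator subgroup of the isometry group of Q, viewed inside GL_n(F). Suppose q is odd. Let K be a subfield of the algebra of n × n matrices over F containing the scalars, of prime degree r over F with n/r ≥ 3, whose elements are self-adjoint for the polar form of Q. Then the elements of Ω normalising K form a maximal subgroup of Ω. -/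
theorem result {F : Type*} [Field F] [Fintype F] {n : ℕ} (hn : 13 ≤ n) (heven : Even n) (Q : (Fin n → F) → F) (hQ : Cfsg.Geo.IsNondegenerateQuadraticForm Q) (hodd : Odd (Fintype.card F)) (r : ℕ) (hr : r.Prime) (hnr : 3 * r ≤ n) (K : Subalgebra F (Matrix (Fin n) (Fin n) F)) (hK : Cfsg.Geo.IsFieldSubalgebra r K) (hsa : Cfsg.Geo.IsSelfAdjointFor (QuadraticMap.polar Q) K) : Cfsg.Geo.IsMaximalIn (Cfsg.Geo.omegaGL Q) (Cfsg.Geo.subalgebraNormalizer K ⊓ Cfsg.Geo.omegaGL Q) := by
  classical
  let q : QuadraticForm F (Fin n → F) := QuadraticMap.ofPolar Q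
    (fun a x => by rw [hQ.smul, smul_eq_mul, pow_two])
    hQ.polar_bilinear.add_left
    (fun a x y => by rw [hQ.polar_bilinear.smul_left, smul_eq_mul])
  have hq : ⇑q = Q := rfl
  have hnd : (QuadraticMap.polarBilin q).Nondegenerate :=
    ⟨fun x hx => by_contra fun h => (hQ.nondegenerate x h).2.elim fun y hy => hy (hx y),
      fun x hx => by_contra fun h => (hQ.nondegenerate x h).1.elim fun y hy => hy (hx y)⟩
  rw [← hq] at hsa ⊢
  haveI : Nonempty (Fin n) := ⟨⟨0, by omega⟩⟩
  have h2 : (2 : F) ≠ 0 := fun h => by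
    have := CharTwo.of_one_ne_zero_of_two_eq_zero (one_ne_zero (α := F)) h
    exact (Nat.not_odd_iff_even.2 (even_iff_two_dvd.2 (Nat.dvd_of_mod_eq_zero
      (FiniteField.even_card_of_char_two (by rw [ringChar.eq F 2]))))) hodd
  have hKfield : IsField K :=
    { exists_pair_ne := ⟨0, 1, fun h => zero_ne_one (α := Matrix (Fin n) (Fin n) F) (congrArg Subtype.val h)⟩
      mul_comm := fun x y => Subtype.ext (hK.comm _ x.2 _ y.2)
      mul_inv_cancel := fun {a} ha => by
        obtain ⟨y, hy, h⟩ := hK.inv _ a.2 (fun e => ha (Subtype.ext e))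
        exact ⟨⟨y, hy⟩, Subtype.ext h⟩ }
  letI : Field K := hKfield.toField
  exact aux hn heven q hnd h2 K.val (by rw [hK.finrank_eq]; exact hr) (by rw [hK.finrank_eq]; exact hnr) K
    (fun x => ⟨fun h => ⟨⟨x, h⟩, rfl⟩, fun ⟨k, e⟩ => e ▸ k.2⟩) hsa

end Cfsg.Agent.S5701
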