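import Cfsg.Statements.S5706
import Cfsg.Agent.ClassicalMax.OWreath.Even

set_option autoImplicit false
open Cfsg

namespace Cfsg.Agent.S5706

open Matrix QuadraticMap Cfsg.Agent.Classical.Quad Cfsg.Agent.ClassicalMax.TPow
open Cfsg.Agent.ClassicalMax.SpWreath (GV pv)

theorem gram_bf {F : Type*} [Field F] {k : ℕ} {f : (Fin k → F) → (Fin k → F) → F} (hf : Cfsg.Geo.IsBilinearForm f)
    (a b : Fin k → F) : f a b = bf (Cfsg.Geo.gramMatrix f) a b := by
  let B : (Fin k → F) →ₗ[F] (Fin k → F) →ₗ[F] F := LinearMap.mk₂ F f hf.add_left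
    (fun c x v => by rw [hf.smul_left, smul_eq_mul]) hf.add_right (fun c v x => by rw [hf.smul_right, smul_eq_mul])
  show B a b = _
  conv_lhs => rw [← Matrix.toLinearMap₂'_toMatrix' (R := F) B]
  rw [Matrix.toLinearMap₂'_apply']
  rfl

/-- Let F be a finite field with q elements, n ≥ 13 even, Q a non-degenerate quadratic form on F^n of plus type (some subspace of dimension n/2 is totally singular), and Ω the commutator subgroup of the isometry group of Q, viewed inside GL_n(F). Suppose that, through a change of basis P and a bijection of index sets e, the polar form of Q is similar to the t-fold tensor power (t ≥ 2) of a non-degenerate symplectic form f₁ on F^k, that Q vanishes on the images of all pure tensors, that t is even if q is odd, that (q, k) is neither (2, 2) nor (3, 2), and that k ≥ 6 if q is even. Then the elements of Ω in the stabiliser of this decomposition form a maximal subgroup of Ω. -/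
theorem result {F : Type*} [Field F] [Fintype F] {n : ℕ} (hn : 13 ≤ n) (heven : Even n) (Q : (Fin n → F) → F) (hQ : Cfsg.Geo.IsNondegenerateQuadraticForm Q) (hplus : Cfsg.Geo.IsPlusTypeOn Q ⊤) (k t : ℕ) (ht : 2 ≤ t) (hqt : Odd (Fintype.card F) → Even t) (hex1 : ¬ (Fintype.card F = 2 ∧ k = 2)) (hex2 : ¬ (Fintype.card F = 3 ∧ k = 2)) (hex3 : ¬ Odd (Fintype.card F) → 6 ≤ k) (e : (Fin n) ≃ (Fin t → Fin k)) (P : Matrix.GeneralLinearGroup (Fin n) F) (f₁ : (Fin k → F) → (Fin k → F) → F) (hf₁ : Cfsg.Geo.IsSymplecticForm f₁) (hT : Cfsg.Geo.IsTensorPowerFormStructure id (QuadraticMap.polar Q) f₁ e P) (hpure : (∀ xs : Fin t → (Fin k → F), Q (Matrix.mulVec (P : Matrix (Fin n) (Fin n) F) ((fun a : Fin t → Fin k => ∏ i, xs i (a i)) ∘ e)) = 0)) : Cfsg.Geo.IsMaximalIn (Cfsg.Geo.omegaGL Q) (Cfsg.Geo.tensorWreathSubgroup k t e P ⊓ Cfsg.Geo.omegaGL Q) := by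
  classical
  let q : QuadraticForm F (Fin n → F) := QuadraticMap.ofPolar Q
    (fun a x => by rw [hQ.smul, smul_eq_mul, pow_two])
    hQ.polar_bilinear.add_left
    (fun a x y => by rw [hQ.polar_bilinear.smul_left, smul_eq_mul])
  have hnd : (QuadraticMap.polarBilin q).Nondegenerate :=
    ⟨fun x hx => by_contra fun h => (hQ.nondegenerate x h).2.elim fun y hy => hy (hx y),
      fun x hx => by_contra fun h => (hQ.nondegenerate x h).1.elim fun y hy => hy (hx y)⟩
  obtain ⟨c, hc, hT⟩ := hT
  set L := Asch.frL e P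
  have hnk : n = k ^ t := by simpa using Fintype.card_congr e
  have hpol : ∀ x y, polar (q.comp (L : ((Fin t → Fin k) → F) →ₗ[F] (Fin n → F))) x y =
      c * bf (GV (Cfsg.Geo.gramMatrix f₁)) x y := fun x y => by
    have e1 : polar (q.comp (L : ((Fin t → Fin k) → F) →ₗ[F] (Fin n → F))) x y = polar Q (L x) (L y) := by
      show Q (L (x + y)) - Q (L x) - Q (L y) = Q (L x + L y) - Q (L x) - Q (L y)
      rw [map_add]
    rw [e1]
    refine (hT x y).trans (congrArg (c * ·) ?_)
    simp only [bf, dotProduct, mulVec, GV, tens_apply, Finset.mul_sum, id, mul_assoc]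
  have hdet : IsUnit (Cfsg.Geo.gramMatrix f₁).det := by
    rw [isUnit_iff_ne_zero]
    intro h0
    obtain ⟨v, hv, hv0⟩ := Matrix.exists_mulVec_eq_zero_iff.2 h0
    obtain ⟨w, hw⟩ := (hf₁.nondegenerate v hv).1
    exact hw (by rw [gram_bf hf₁.bilinear, bf, hv0, dotProduct_zero])
  have hV : ClassicalMax.OWreath.Space (q.comp (L : ((Fin t → Fin k) → F) →ₗ[F] (Fin n → F)))
      (Cfsg.Geo.gramMatrix f₁) c :=
    ⟨hc, fun u => by rw [← gram_bf hf₁.bilinear, hf₁.alternating], hdet, hpol, fun a => hpure a⟩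
  have hk2 : 2 ≤ k := by
    by_contra h
    interval_cases k
    · rw [zero_pow (by omega)] at hnk; omega
    · rw [one_pow] at hnk; omega
  have hk : (3 ≤ k ∧ 2 ≤ t) ∨ (k = 2 ∧ 4 ≤ t) := by
    rcases eq_or_lt_of_le hk2 with h | h
    · refine Or.inr ⟨h.symm, ?_⟩
      by_contra hlt
      subst h
      have := Nat.pow_le_pow_right (show 1 ≤ 2 by norm_num) (show t ≤ 3 by omega)
      omega
    · exact Or.inl ⟨h, ht⟩
  refine ClassicalMax.OWreath.isMaximal_of_space q hnd (by rw [Fintype.card_fin]; omega) e P hV hk ?_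
  intro H hH g hg hgS
  by_cases h2 : (2 : F) = 0
  · have hev : ¬ Odd (Fintype.card F) := fun ho => by
      obtain ⟨m, hm⟩ := ho
      have h0 : ((Fintype.card F : ℕ) : F) = 0 := Nat.cast_card_eq_zero F
      rw [hm, Nat.cast_add, Nat.cast_mul, Nat.cast_two, Nat.cast_one, h2, zero_mul, zero_add] at h0
      exact one_ne_zero h0
    exact hV.eo_le_even h2 ht (hex3 hev) hH hg hgS
  · have hodd : Odd (Fintype.card F) := by
      have hchar : ringChar F ≠ 2 := fun h => h2 (by
        have h' : ((2 : ℕ) : F) = 0 := (ringChar.spec F 2).2 (by rw [h])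
        exact_mod_cast h')
      exact Nat.odd_iff.2 (FiniteField.odd_card_of_char_ne_two hchar)
    refine hV.eo_le_odd h2 ht (hqt hodd) hk2 (fun h => ?_) hH hg hgS
    rw [Nat.card_eq_fintype_card]
    obtain ⟨m, hm⟩ := hodd
    have h1 : Fintype.card F ≠ 3 := fun h3 => hex2 ⟨h3, h⟩
    have := Fintype.one_lt_card (α := F)
    omega

end Cfsg.Agent.S5706
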