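import Cfsg.Statements.S5707
import Cfsg.Agent.SpinWreath.Main
-- import your own Cfsg.Agent.* helpers here

set_option autoImplicit false
open Cfsg

namespace Cfsg.Agent.S5707

/-- Let F be a finite field with q elements, n ≥ 13 even, Q a non-degenerate quadratic form on F^n of plus type (some subspace of dimension n/2 is totally singular), and Ω the commutator subgroup of the isometry group of Q, viewed inside GL_n(F). Suppose q is even and that, through P and e, the polar form of Q is similar to the t-fold tensor power (t ≥ 2) of a non-degenerate symplectic form f₁ on F^k with k ≤ 4 and (q, k) ≠ (2, 2), Q vanishing on the images of all pure tensors. Then the elements of Ω in the stabiliser of this decomposition form a subgroup that is not maximal: some subgroup lies strictly between it and Ω. -/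
theorem result {F : Type*} [Field F] [Fintype F] {n : ℕ} (hn : 13 ≤ n) (heven : Even n) (Q : (Fin n → F) → F) (hQ : Cfsg.Geo.IsNondegenerateQuadraticForm Q) (hplus : Cfsg.Geo.IsPlusTypeOn Q ⊤) (hchar : ¬ Odd (Fintype.card F)) (k t : ℕ) (ht : 2 ≤ t) (hk : k ≤ 4) (hex1 : ¬ (Fintype.card F = 2 ∧ k = 2)) (e : (Fin n) ≃ (Fin t → Fin k)) (P : Matrix.GeneralLinearGroup (Fin n) F) (f₁ : (Fin k → F) → (Fin k → F) → F) (hf₁ : Cfsg.Geo.IsSymplecticForm f₁) (hT : Cfsg.Geo.IsTensorPowerFormStructure id (QuadraticMap.polar Q) f₁ e P) (hpure : (∀ xs : Fin t → (Fin k → F), Q (Matrix.mulVec (P : Matrix (Fin n) (Fin n) F) ((fun a : Fin t → Fin k => ∏ i, xs i (a i)) ∘ e)) = 0)) : ∃ K : Subgroup (Matrix.GeneralLinearGroup (Fin n) F), Cfsg.Geo.tensorWreathSubgroup k t e P ⊓ Cfsg.Geo.omegaGL Q < K ∧ K < Cfsg.Geo.omegaGL Q := by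
  have hnk : n = k ^ t := by simpa using Fintype.card_congr e
  haveI : CharP F 2 := by
    obtain ⟨p, hp⟩ := CharP.exists F
    haveI := hp
    obtain ⟨m, hpp, hm⟩ := FiniteField.card F p
    rcases hpp.eq_two_or_odd' with rfl | hodd
    · exact hp
    · exact absurd (hm ▸ hodd.pow) hchar
  have hk4 : k = 2 ∨ k = 4 := by
    interval_cases k
    · rw [zero_pow (by omega)] at hnk; omega
    · rw [one_pow] at hnk; omega
    · exact Or.inl rfl
    · exact absurd (hnk ▸ (Odd.pow (by decide : Odd 3) : Odd (3 ^ t))) (Nat.not_odd_iff_even.2 heven)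
    · exact Or.inr rfl
  rcases hk4 with rfl | rfl
  · have ht4 : 4 ≤ t := by
      by_contra h
      have := Nat.pow_le_pow_right (show 1 ≤ 2 by norm_num) (show t ≤ 3 by omega)
      omega
    let enc : (Fin 1 → Fin 2) ≃ Fin 2 := Equiv.funUnique (Fin 1) (Fin 2)
    obtain ⟨B, γ, hγ, hB⟩ := Cfsg.Agent.SpinWreath.frame_two f₁ hf₁ enc
    exact Cfsg.Agent.SpinWreath.tensor_wreath Q hQ e P f₁ hT hpure Cfsg.Agent.SpinWreath.localInv_one enc B hγ hB
      (a := (⟨0, by omega⟩, 0)) (b := (⟨1, by omega⟩, 0)) (c' := (⟨2, by omega⟩, 0)) (d := (⟨3, by omega⟩, 0))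
      (by simp [Prod.ext_iff, Fin.ext_iff]) (by simp [Fin.ext_iff]) (by simp [Prod.ext_iff, Fin.ext_iff])
      (by simp [Prod.ext_iff, Fin.ext_iff]) (by simp [Prod.ext_iff, Fin.ext_iff]) (by simp [Prod.ext_iff, Fin.ext_iff])
  · let enc : (Fin 2 → Fin 2) ≃ Fin 4 := finFunctionFinEquiv
    obtain ⟨B, hB⟩ := Cfsg.Agent.SpinWreath.exists_frame_four f₁ hf₁ enc
    exact Cfsg.Agent.SpinWreath.tensor_wreath Q hQ e P f₁ hT hpure Cfsg.Agent.SpinWreath.localInv_two enc B one_ne_zero hB
      (a := (⟨0, by omega⟩, 0)) (b := (⟨0, by omega⟩, 1)) (c' := (⟨1, by omega⟩, 0)) (d := (⟨1, by omega⟩, 1))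
      (by simp [Prod.ext_iff]) (by simp [Fin.ext_iff]) (by simp [Prod.ext_iff])
      (by simp [Prod.ext_iff]) (by simp [Prod.ext_iff, Fin.ext_iff]) (by simp [Prod.ext_iff])

end Cfsg.Agent.S5707
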