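import Cfsg.Statements.S5712
import Cfsg.Agent.ElatFree.Orth
import Cfsg.Agent.ElatFree.Radical
import Cfsg.Agent.ElatFree.Six
import Cfsg.Agent.ClassicalMax.Transvection
import Cfsg.Agent.Classical.QuadMat
import Cfsg.Agent.Classical.SympGroup
import Cfsg.Agent.Core.PCore

set_option autoImplicit false
open Cfsg

namespace Cfsg.Agent.S5712

section Prep

open Module QuadraticMap Cfsg.Agent.ElatFree
open Cfsg.Agent.ClassicalMax (glEquiv glEquiv_apply)

variable {F : Type*} [Field F] [Fintype F] [CharP F 2] {n : ℕ}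

local notation "ι" => Fin n ⊕ Fin n
local notation "frm" => fun u v : (Fin n ⊕ Fin n → F) =>
  ∑ i : Fin n, (u (Sum.inl i) * v (Sum.inr i) + u (Sum.inr i) * v (Sum.inl i))

theorem frm_eq (u v : ι → F) : Classical.sympB n F u v = (frm) u v := by
  rw [Classical.sympB_eq_sum]
  refine Finset.sum_congr rfl fun i _ => ?_
  rw [CharTwo.sub_eq_add, add_comm]

theorem mem_pres (g : GL ι F) :
    g ∈ Cfsg.preserving (Units.coeHom (Matrix ι ι F)) (frm) ↔
      glEquiv ι F g ∈ Classical.Alt.isoGroup (Classical.sympB n F) := by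
  show (∀ u v, (frm) (Matrix.mulVec (g : Matrix ι ι F) u) (Matrix.mulVec (g : Matrix ι ι F) v) = (frm) u v) ↔ _
  rw [Classical.Alt.mem_isoGroup]
  simp only [glEquiv_apply, frm_eq]

theorem even_rank_iff {Q : QuadraticForm F (ι → F)} (g : GL ι F) (h : Classical.Quad.oG Q)
    (hg : h.1 = glEquiv ι F g) :
    Even ((g : Matrix ι ι F) - 1).rank ↔ Classical.Quad.dsign h = 1 := by
  have hd : finrank F (ι → F) = 2 * n := by simp [two_mul]
  have hr := LinearMap.finrank_range_add_finrank_ker (Matrix.mulVecLin ((g : Matrix ι ι F) - 1))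
  have hk : LinearMap.ker (Matrix.mulVecLin ((g : Matrix ι ι F) - 1)) = Classical.Quad.fixSub h := by
    ext x
    rw [LinearMap.mem_ker, Classical.Quad.mem_fixSub, hg, glEquiv_apply, Matrix.mulVecLin_apply, Matrix.sub_mulVec,
      Matrix.one_mulVec, sub_eq_zero]
  rw [hk, hd] at hr
  rw [Matrix.rank, Classical.Quad.dsign, hd, neg_one_pow_eq_one_iff_even (show (-1 : ℤˣ) ≠ 1 by decide),
    Nat.even_iff, Nat.even_iff]
  omega

theorem rank_one_of_elation {x : GL ι F} {a : ι → F} (ha : a ≠ 0) {c : F} (hc : c ≠ 0)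
    (h : ∀ u, glEquiv ι F x u = siegelFun (Classical.sympB n F) a 0 c u) :
    ((x : Matrix ι ι F) - 1).rank = 1 := by
  rw [Matrix.rank]
  have e : LinearMap.range (Matrix.mulVecLin ((x : Matrix ι ι F) - 1)) = Submodule.span F {a} := by
    have hu : ∀ u, Matrix.mulVecLin ((x : Matrix ι ι F) - 1) u = (c * Classical.sympB n F a u) • a := fun u => by
      rw [Matrix.mulVecLin_apply, Matrix.sub_mulVec, Matrix.one_mulVec, ← glEquiv_apply, h, siegelFun]
      simp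
    apply le_antisymm
    · rintro _ ⟨u, rfl⟩
      rw [hu]; exact Submodule.smul_mem _ _ (Submodule.mem_span_singleton_self a)
    · obtain ⟨b, hb, -⟩ := exists_functional (Classical.sympB_nondeg (m := n) (F := F))
        (S := (⊥ : Submodule F (ι → F)))
        (show a ∉ (⊥ : Submodule F (ι → F)) from fun h => ha ((Submodule.mem_bot F).1 h))
      rw [Submodule.span_le, Set.singleton_subset_iff]
      exact ⟨c⁻¹ • b, by rw [hu, map_smul, hb, smul_eq_mul, mul_one, mul_inv_cancel₀ hc, one_smul]⟩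
  rw [e, finrank_span_singleton ha]

end Prep

/-- Let F be a finite field of characteristic two, n ≥ 2, V = F^{2n} with the non-degenerate alternating form f(u, v) = Σ (u_i v_{n+i} + u_{n+i} v_i), and G the group of invertible matrices preserving f. Let a ≠ 0 be a vector, H its stabilizer in G, and X a subgroup of O₂(H) of order |F|^{2n−2} no element of which is a transvection (no element g has g − 1 of rank one). If L is a subgroup of G containing X that acts irreducibly on V (no proper non-zero L-invariant subspace), then L = G, or, for some quadratic form Q on V whose polar form is f, L is the isometry group of Q or its subgroup of the isometries g for which g − 1 has even rank, or |F| = 2, n = 2 and L is isomorphic to the alternating group of degree 6 or to the symmetric group of degree 5. -/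
theorem result {F : Type*} [Field F] [Fintype F] [CharP F 2] {n : ℕ} (hn : 2 ≤ n) (a : (Fin n ⊕ Fin n → F)) (ha : a ≠ 0)
    (X : Subgroup (GL (Fin n ⊕ Fin n) F)) (hXG : X ≤ Cfsg.preserving (Units.coeHom (Matrix (Fin n ⊕ Fin n) (Fin n ⊕ Fin n) F)) (fun u v : (Fin n ⊕ Fin n → F) => ∑ i : Fin n, (u (Sum.inl i) * v (Sum.inr i) + u (Sum.inr i) * v (Sum.inl i))))
    (hXO : ∀ H : Subgroup (GL (Fin n ⊕ Fin n) F),
      (∀ g : GL (Fin n ⊕ Fin n) F, g ∈ H ↔ (g ∈ Cfsg.preserving (Units.coeHom (Matrix (Fin n ⊕ Fin n) (Fin n ⊕ Fin n) F)) (fun u v : (Fin n ⊕ Fin n → F) => ∑ i : Fin n, (u (Sum.inl i) * v (Sum.inr i) + u (Sum.inr i) * v (Sum.inl i))) ∧ Matrix.mulVec (g : Matrix (Fin n ⊕ Fin n) (Fin n ⊕ Fin n) F) a = a)) →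
      X ≤ (Cfsg.pCore 2 ↥H).map H.subtype)
    (hcard : Nat.card ↥X = Fintype.card F ^ (2 * n - 2))
    (hntv : ∀ x ∈ X, ((x : Matrix (Fin n ⊕ Fin n) (Fin n ⊕ Fin n) F) - 1).rank ≠ 1)
    (L : Subgroup (GL (Fin n ⊕ Fin n) F)) (hXL : X ≤ L) (hLG : L ≤ Cfsg.preserving (Units.coeHom (Matrix (Fin n ⊕ Fin n) (Fin n ⊕ Fin n) F)) (fun u v : (Fin n ⊕ Fin n → F) => ∑ i : Fin n, (u (Sum.inl i) * v (Sum.inr i) + u (Sum.inr i) * v (Sum.inl i))))
    (hirr : ∀ W : Submodule F (Fin n ⊕ Fin n → F), (∀ g ∈ L, ∀ w ∈ W, Matrix.mulVec (g : Matrix (Fin n ⊕ Fin n) (Fin n ⊕ Fin n) F) w ∈ W) → W = ⊥ ∨ W = ⊤) :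
    L = Cfsg.preserving (Units.coeHom (Matrix (Fin n ⊕ Fin n) (Fin n ⊕ Fin n) F)) (fun u v : (Fin n ⊕ Fin n → F) => ∑ i : Fin n, (u (Sum.inl i) * v (Sum.inr i) + u (Sum.inr i) * v (Sum.inl i))) ∨
    (∃ Q : QuadraticForm F (Fin n ⊕ Fin n → F), (∀ u v, QuadraticMap.polar ⇑Q u v = (fun u v : (Fin n ⊕ Fin n → F) => ∑ i : Fin n, (u (Sum.inl i) * v (Sum.inr i) + u (Sum.inr i) * v (Sum.inl i))) u v) ∧
      (L = Cfsg.isometryGroup F ⇑Q ∨
        ∀ g : GL (Fin n ⊕ Fin n) F, g ∈ L ↔ (g ∈ Cfsg.isometryGroup F ⇑Q ∧ Even ((g : Matrix (Fin n ⊕ Fin n) (Fin n ⊕ Fin n) F) - 1).rank))) ∨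
    (Fintype.card F = 2 ∧ n = 2 ∧ (Nonempty (↥L ≃* ↥(alternatingGroup (Fin 6))) ∨ Nonempty (↥L ≃* Equiv.Perm (Fin 5)))) := by
  classical
  set φ := ClassicalMax.glEquiv (Fin n ⊕ Fin n) F with hφ
  set B := Classical.sympB n F with hB
  have hA : B.IsAlt := Classical.sympB_isAlt
  have hN : B.Nondegenerate := Classical.sympB_nondeg
  have hd : Module.finrank F (Fin n ⊕ Fin n → F) = 2 * n := Classical.finrank_symp
  set L' := L.map φ.toMonoidHom with hL'
  set X' := X.map φ.toMonoidHom with hX'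
  have memL : ∀ {g}, φ g ∈ L' ↔ g ∈ L := fun {g} =>
    ⟨fun ⟨g', h, e⟩ => φ.injective e ▸ h, fun h => ⟨g, h, rfl⟩⟩
  have hLle : L' ≤ Classical.Alt.isoGroup B := by
    rintro _ ⟨g, hg, rfl⟩
    exact (mem_pres g).1 (hLG hg)
  let Hs : Subgroup (GL (Fin n ⊕ Fin n) F) :=
    ((Classical.Alt.isoGroup B) ⊓ MulAction.stabilizer ((Fin n ⊕ Fin n → F) ≃ₗ[F] (Fin n ⊕ Fin n → F)) a).comap
      φ.toMonoidHom
  have hmemH : ∀ {g}, g ∈ Hs ↔ φ g ∈ Classical.Alt.isoGroup B ∧ φ g a = a := fun {g} => Iff.rfl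
  have hXH := hXO Hs fun g => by
    rw [hmemH, mem_pres]
    exact and_congr Iff.rfl Iff.rfl
  set N := ((Cfsg.pCore 2 ↥Hs).map Hs.subtype).map φ.toMonoidHom with hNdef
  have hNprop : ∀ g ∈ N, g ∈ Classical.Alt.isoGroup B ∧ g a = a ∧ ∃ m : ℕ, g ^ 2 ^ m = 1 := by
    rintro _ ⟨_, ⟨x, hx, rfl⟩, rfl⟩
    obtain ⟨k, hk⟩ := (Core.pCore_isPGroup (p := 2) (G := Hs)) ⟨x, hx⟩
    refine ⟨(hmemH.1 x.2).1, (hmemH.1 x.2).2, k, ?_⟩
    have hk' : (x : ↥Hs) ^ 2 ^ k = 1 := congrArg Subtype.val hk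
    rw [← map_pow, ← map_pow, hk', map_one, map_one]
  have hNconj : ∀ h ∈ Classical.Alt.isoGroup B, h a = a → ∀ g ∈ N, h * g * h⁻¹ ∈ N := by
    rintro h hh hha _ ⟨_, ⟨x, hx, rfl⟩, rfl⟩
    obtain ⟨h', rfl⟩ := φ.surjective h
    refine ⟨_, ⟨⟨h', hmemH.2 ⟨hh, hha⟩⟩ * x * ⟨h', hmemH.2 ⟨hh, hha⟩⟩⁻¹,
      Core.pCore_normal.conj_mem x hx _, rfl⟩, ?_⟩
    simp
  have hXsieg : ∀ x ∈ X', ∃ d c, B a d = 0 ∧ ∀ u, x u = ElatFree.siegelFun B a d c u := by
    rintro _ ⟨g, hg, rfl⟩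
    exact ElatFree.siegel_of_radical hA hN ha N hNprop hNconj ⟨g, hXH hg, rfl⟩
  have hXfree : ∀ x ∈ X', ∀ c, (∀ u, x u = ElatFree.siegelFun B a 0 c u) → c = 0 := by
    rintro _ ⟨g, hg, rfl⟩ c hc
    by_contra h
    exact hntv g hg (rank_one_of_elation ha h hc)
  have hXcard : Nat.card X' = Nat.card F ^ (2 * n - 2) := by
    rw [hX', Subgroup.card_map_of_injective φ.injective, hcard, Nat.card_eq_fintype_card (α := F)]
  have S : ElatFree.Setup B L' a := by
    refine ⟨hA, hN, hLle, ha, fun W hW => hirr W fun g hg w hw => hW _ (memL.2 hg) w hw, fun v hv => ?_⟩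
    obtain ⟨c, h1, x, hx, hxu⟩ := ElatFree.complement_full hA hN ha hd X' hXsieg hXfree hXcard hv
    exact ⟨c, h1, x, Subgroup.map_mono hXL hx, hxu⟩
  have hd3 : 3 < Module.finrank F (Fin n ⊕ Fin n → F) := by omega
  have hfull : Classical.Alt.isoGroup B ≤ L' →
      L = Cfsg.preserving (Units.coeHom (Matrix (Fin n ⊕ Fin n) (Fin n ⊕ Fin n) F))
        (fun u v : (Fin n ⊕ Fin n → F) => ∑ i : Fin n, (u (Sum.inl i) * v (Sum.inr i) + u (Sum.inr i) * v (Sum.inl i))) := by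
    intro h
    refine le_antisymm hLG fun g hg => memL.1 (h ((mem_pres g).1 hg))
  by_cases h3 : ElatFree.ThreeOnLine B L' a
  · by_cases hex : Nat.card F ≠ 2 ∨ 4 < Module.finrank F (Fin n ⊕ Fin n → F)
    · exact Or.inl (hfull (S.three_full h3 hd3 hex))
    push Not at hex
    have hq : Fintype.card F = 2 := by rw [← Nat.card_eq_fintype_card]; exact hex.1
    have hn2 : n = 2 := by omega
    have hfix : ∀ x ∈ X', x a = a := fun x hx => by
      obtain ⟨g, hg, rfl⟩ := hx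
      exact (hNprop _ ⟨g, hXH hg, rfl⟩).2.1
    rcases S.six hex.1 (by omega) h3 X' (Subgroup.map_mono hXL) hfix (by rw [hXcard, hex.1, hn2]; rfl)
      with h | ⟨⟨e⟩⟩ | ⟨⟨e⟩⟩
    · exact Or.inl (hfull h)
    · exact Or.inr (Or.inr ⟨hq, hn2, Or.inl ⟨(L.equivMapOfInjective _ φ.injective).trans e⟩⟩)
    · exact Or.inr (Or.inr ⟨hq, hn2, Or.inr ⟨(L.equivMapOfInjective _ φ.injective).trans e⟩⟩)
  · obtain ⟨Q, hQp, hQ⟩ := S.quadric_cases h3 hd3
    refine Or.inr (Or.inl ⟨Q, fun u v => (hQp u v).trans (frm_eq u v), ?_⟩)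
    rcases hQ with h | h
    · left
      ext g
      rw [← memL, h, Classical.Quad.mem_isometryGroup_iff]
      simp only [hφ, ClassicalMax.glEquiv_apply]
    · right
      intro g
      rw [← memL, h, Classical.Quad.mem_isometryGroup_iff]
      constructor
      · rintro ⟨k, hk, hs⟩
        refine ⟨fun x => ?_, (even_rank_iff g k hk).2 hs⟩
        rw [← ClassicalMax.glEquiv_apply, ← hφ, ← hk, k.2]
      · rintro ⟨hi, he⟩
        refine ⟨⟨φ g, fun x => ?_⟩, rfl, (even_rank_iff g _ rfl).1 he⟩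
        rw [hφ, ClassicalMax.glEquiv_apply]; exact hi x

end Cfsg.Agent.S5712
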