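import Cfsg.Statements.S5713
import Cfsg.Agent.MinDeg.TwoTrans
import Cfsg.Agent.MinDeg.Uniprimitive

set_option autoImplicit false
open Cfsg

namespace Cfsg.Agent.S5713

/-- A classification-free minimal-degree bound. Let G be a finite group acting faithfully and primitively on a finite set Ω with n elements, and suppose that the image of G in the symmetric group on Ω does not contain the alternating group on Ω. Then every non-identity element of G moves at least (√n − 1)/2 points of Ω, that is, it fixes at most n − (√n − 1)/2 points. -/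
theorem result {G Ω : Type*} [Group G] [Finite G] [MulAction G Ω] [FaithfulSMul G Ω] [Fintype Ω] [DecidableEq Ω]
    (hprim : MulAction.IsPreprimitive G Ω)
    (hA : ¬ alternatingGroup Ω ≤ (MulAction.toPermHom G Ω).range)
    (g : G) (hg : g ≠ 1) :
    (Real.sqrt (Fintype.card Ω) - 1) / 2 ≤ (Fintype.card Ω : ℝ) - Nat.card (MulAction.fixedBy Ω g) := by
  classical
  obtain rfl : ‹DecidableEq Ω› = fun a b => Classical.propDecidable (a = b) := Subsingleton.elim _ _
  set φ := MulAction.toPermHom G Ω
  set H := φ.range
  have hprimH : MulAction.IsPreprimitive H Ω := by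
    let f : MulActionHom φ.rangeRestrict Ω Ω :=
      { toFun := id, map_smul' := fun _ _ => rfl }
    exact MulAction.IsPreprimitive.of_surjective (f := f) Function.surjective_id
  have hno : ∀ c ∈ H, ¬ c.IsThreeCycle := fun c hc h3 =>
    hA (Equiv.Perm.alternatingGroup_le_of_isPreprimitive_of_isThreeCycle_mem hprimH h3 hc)
  have hg1 : φ g ≠ 1 := fun h => hg (MulAction.toPerm_injective (α := G) (β := Ω) (by
    rw [show MulAction.toPerm g = φ g from rfl, h]; ext x; simp))
  have hgH : φ g ∈ H := ⟨g, rfl⟩
  have hb : Fintype.card Ω ≤ (2 * (φ g).support.card + 1) ^ 2 := by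
    by_cases h2 : ∀ x u v : Ω, u ≠ x → v ≠ x → ∃ k ∈ H, k x = x ∧ k u = v
    · have := Cfsg.Agent.MinDeg.two_transitive_bound H h2 hno (φ g) hgH hg1
      have h3 : ((φ g).support.card - 1) ^ 2 ≤ (φ g).support.card ^ 2 :=
        Nat.pow_le_pow_left (Nat.sub_le _ _) 2
      have h4 : (φ g).support.card ^ 2 + 1 ≤ (2 * (φ g).support.card + 1) ^ 2 := by
        rw [pow_two, pow_two]; nlinarith
      omega
    · exact Cfsg.Agent.MinDeg.uniprimitive_bound hprimH h2 hgH hg1
  have hfix : Nat.card (MulAction.fixedBy Ω g) + (φ g).support.card = Fintype.card Ω := by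
    have h1 : Nat.card (MulAction.fixedBy Ω g) = ((φ g).supportᶜ).card := by
      rw [Nat.card_eq_fintype_card, ← Set.toFinset_card]
      congr 1
      ext x
      simp [φ, MulAction.mem_fixedBy]
    rw [h1, Finset.card_compl]
    have := Finset.card_le_univ (φ g).support
    omega
  have hcast : (Nat.card (MulAction.fixedBy Ω g) : ℝ) + (φ g).support.card = Fintype.card Ω := by
    exact_mod_cast hfix
  have hsq : Real.sqrt (Fintype.card Ω) ≤ 2 * ((φ g).support.card : ℝ) + 1 := by
    rw [Real.sqrt_le_left (by positivity)]
    exact_mod_cast hb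
  linarith

end Cfsg.Agent.S5713
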