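import Cfsg.Statements.S5726

set_option autoImplicit false
open Cfsg

namespace Cfsg.Agent.S5726

/-- If a finite group acts faithfully and transitively on a set with p^k elements, p a prime and k ≥ 1, then some element of order p fixes no point. -/
theorem result {G Ω : Type*} [Group G] [Finite G] [MulAction G Ω] [FaithfulSMul G Ω] [Fintype Ω] (htr : MulAction.IsPretransitive G Ω)
    (p k : ℕ) (hp : p.Prime) (hk : 1 ≤ k) (hΩ : Fintype.card Ω = p ^ k) :
    ∃ g : G, orderOf g = p ∧ ∀ ω : Ω, g • ω ≠ ω := by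
  classical
  have : Fact p.Prime := ⟨hp⟩
  obtain ⟨P⟩ := (inferInstance : Nonempty (Sylow p G))
  have hne : Nonempty Ω := by
    rw [← Fintype.card_pos_iff, hΩ]; exact pow_pos hp.pos k
  obtain ⟨a⟩ := hne
  have hcop : Nat.Coprime (p ^ k) (P : Subgroup G).index :=
    ((Nat.Prime.coprime_iff_not_dvd hp).2 P.not_dvd_index).pow_left k
  have horb : ∀ x : Ω, MulAction.orbit (P : Subgroup G) x = Set.univ := by
    intro x
    have h1 : (MulAction.stabilizer (P : Subgroup G) x).index * (P : Subgroup G).index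
          = ((P : Subgroup G) ⊓ MulAction.stabilizer G x).index := by
      have : MulAction.stabilizer (P : Subgroup G) x = ((P : Subgroup G) ⊓ MulAction.stabilizer G x).subgroupOf P := by
        ext g; simp [Subgroup.mem_subgroupOf, Subgroup.smul_def]
      rw [this, ← Subgroup.relIndex, Subgroup.relIndex_mul_index inf_le_left]
    have h2 : p ^ k ∣ ((P : Subgroup G) ⊓ MulAction.stabilizer G x).index := by
      rw [← hΩ, ← Nat.card_eq_fintype_card, ← MulAction.index_stabilizer_of_transitive G x]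
      exact Subgroup.index_dvd_of_le inf_le_right
    rw [← h1] at h2
    have h3 := hcop.dvd_of_dvd_mul_right h2
    rw [MulAction.index_stabilizer] at h3
    apply Set.eq_of_subset_of_ncard_le (Set.subset_univ _) ?_ (Set.toFinite _)
    rw [Set.ncard_univ, Nat.card_eq_fintype_card, hΩ]
    exact Nat.le_of_dvd ((Set.ncard_pos).2 ⟨x, MulAction.mem_orbit_self x⟩) h3
  have htrP : ∀ x y : Ω, ∃ g ∈ (P : Subgroup G), g • x = y := by
    intro x y
    obtain ⟨g, hg⟩ : y ∈ MulAction.orbit (P : Subgroup G) x := horb x ▸ Set.mem_univ y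
    exact ⟨g, g.2, hg⟩
  have : Nontrivial (P : Subgroup G) := by
    have h1 : 1 < Fintype.card Ω := hΩ ▸ Nat.one_lt_pow (by omega) hp.one_lt
    obtain ⟨x, y, hxy⟩ := Fintype.exists_pair_of_one_lt_card h1
    obtain ⟨g, hg, hgx⟩ := htrP x y
    refine ⟨⟨⟨g, hg⟩, 1, fun h => hxy ?_⟩⟩
    have h' : g = 1 := congrArg Subtype.val h
    rw [← hgx, h', one_smul]
  have := P.2.center_nontrivial
  have hZ : p ∣ Nat.card (Subgroup.center (P : Subgroup G)) :=
    ((P.2.to_subgroup _).card_eq_or_dvd).resolve_left (Nat.ne_of_gt Finite.one_lt_card)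
  obtain ⟨z, hz⟩ := exists_prime_orderOf_dvd_card' p hZ
  refine ⟨((z : (P : Subgroup G)) : G), by rw [Subgroup.orderOf_coe, Subgroup.orderOf_coe, hz], fun ω hω => ?_⟩
  have hall : ∀ y : Ω, ((z : (P : Subgroup G)) : G) • y = y := by
    intro y
    obtain ⟨g, hg, rfl⟩ := htrP ω y
    have hc : g * ((z : (P : Subgroup G)) : G) = ((z : (P : Subgroup G)) : G) * g :=
      congrArg Subtype.val (Subgroup.mem_center_iff.1 z.2 ⟨g, hg⟩)
    rw [← mul_smul, ← hc, mul_smul, hω]
  have h1 : ((z : (P : Subgroup G)) : G) = 1 :=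
    FaithfulSMul.eq_of_smul_eq_smul (α := Ω) fun y => by rw [hall, one_smul]
  have h2 : orderOf (((z : (P : Subgroup G)) : G)) = p := by rw [Subgroup.orderOf_coe, Subgroup.orderOf_coe, hz]
  rw [h1, orderOf_one] at h2
  exact hp.ne_one h2.symm

end Cfsg.Agent.S5726
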