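import Cfsg.Statements.S5727
import Cfsg.Agent.S5726

set_option autoImplicit false
open Cfsg

namespace Cfsg.Agent.S5727

/-- If a finite group acts faithfully and transitively on a set with m·p elements, where p is a prime and 1 ≤ m ≤ p, then some element of order p fixes no point. -/
theorem result {G Ω : Type*} [Group G] [Finite G] [MulAction G Ω] [FaithfulSMul G Ω] [Fintype Ω] (htr : MulAction.IsPretransitive G Ω)
    (p m : ℕ) (hp : p.Prime) (hm : 1 ≤ m) (hmp : m ≤ p) (hΩ : Fintype.card Ω = m * p) :
    ∃ g : G, orderOf g = p ∧ ∀ ω : Ω, g • ω ≠ ω := by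
  classical
  rcases eq_or_lt_of_le hmp with rfl | hlt
  · exact Cfsg.Agent.S5726.result htr m 2 hp (by omega) (by rw [hΩ, sq])
  have : Fact p.Prime := ⟨hp⟩
  obtain ⟨P⟩ := (inferInstance : Nonempty (Sylow p G))
  have hidx : ∀ x : Ω, (MulAction.stabilizer (P : Subgroup G) x).index = p := by
    intro x
    have h1 : (MulAction.stabilizer (P : Subgroup G) x).index * (P : Subgroup G).index
          = ((P : Subgroup G) ⊓ MulAction.stabilizer G x).index := by
      have : MulAction.stabilizer (P : Subgroup G) x = ((P : Subgroup G) ⊓ MulAction.stabilizer G x).subgroupOf P := by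
        ext g; simp [Subgroup.mem_subgroupOf, Subgroup.smul_def]
      rw [this, ← Subgroup.relIndex, Subgroup.relIndex_mul_index inf_le_left]
    have h2 : p ∣ ((P : Subgroup G) ⊓ MulAction.stabilizer G x).index := by
      refine dvd_trans ?_ (Subgroup.index_dvd_of_le inf_le_right)
      rw [MulAction.index_stabilizer_of_transitive G x, Nat.card_eq_fintype_card, hΩ]
      exact Dvd.intro_left m rfl
    rw [← h1] at h2
    have h3 := ((Nat.Prime.coprime_iff_not_dvd hp).2 P.not_dvd_index).dvd_of_dvd_mul_right h2
    obtain ⟨j, hj⟩ := P.2.index (MulAction.stabilizer (P : Subgroup G) x)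
    have hle : p ^ j ≤ m * p := by
      rw [← hj, MulAction.index_stabilizer, ← hΩ, ← Nat.card_eq_fintype_card]
      exact Set.ncard_le_card _
    rw [hj] at h3 ⊢
    rcases j with _ | _ | j
    · simp [hp.ne_one] at h3
    · simp
    · exfalso
      have h4 : p * p ≤ p ^ (j + 1 + 1) := by
        rw [← sq]; exact Nat.pow_le_pow_right hp.pos (by omega)
      have h5 : m * p < p * p := (Nat.mul_lt_mul_right hp.pos).2 hlt
      omega
  have hnorm : ∀ x : Ω, (MulAction.stabilizer (P : Subgroup G) x).Normal := by
    intro x
    apply Subgroup.normal_of_index_eq_minFac_card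
    rw [hidx]
    obtain ⟨j, hj⟩ := IsPGroup.iff_card.1 P.2
    have hj0 : j ≠ 0 := by
      intro h
      have := Subgroup.index_dvd_card (MulAction.stabilizer (P : Subgroup G) x)
      rw [hidx, hj, h] at this
      simp [hp.ne_one] at this
    rw [hj, Nat.pow_minFac hj0, hp.minFac_eq]
  have : Fintype (P : Subgroup G) := Fintype.ofFinite _
  -- counting fixed points
  by_contra hcon
  push Not at hcon
  have hfix : ∀ z : (P : Subgroup G), p ≤ Nat.card (MulAction.fixedBy Ω z) := by
    intro z
    obtain ⟨x, hx⟩ : ∃ x : Ω, z • x = x := by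
      by_cases hz : z = 1
      · have : Nonempty Ω := Fintype.card_pos_iff.1 (by rw [hΩ]; exact Nat.mul_pos (by omega) hp.pos)
        exact ⟨Classical.arbitrary Ω, by rw [hz, one_smul]⟩
      · have hpow : z ^ p = 1 := by
          apply Subtype.ext
          apply FaithfulSMul.eq_of_smul_eq_smul (α := Ω)
          intro x
          have := hnorm x
          have h := Subgroup.pow_index_mem (MulAction.stabilizer (P : Subgroup G) x) z
          rw [hidx, MulAction.mem_stabilizer_iff] at h
          simpa [Subgroup.smul_def] using h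
        have hord : orderOf z = p := orderOf_eq_prime hpow hz
        obtain ⟨x, hx⟩ := hcon (z : G) (by rw [Subgroup.orderOf_coe, hord])
        exact ⟨x, hx⟩
    have hsub : MulAction.orbit (P : Subgroup G) x ⊆ MulAction.fixedBy Ω z := by
      rintro _ ⟨g, rfl⟩
      have hm : g⁻¹ * z * g ∈ MulAction.stabilizer (P : Subgroup G) x := by
        simpa using (hnorm x).conj_mem z hx g⁻¹
      rw [MulAction.mem_stabilizer_iff, mul_smul, mul_smul, inv_smul_eq_iff] at hm
      exact hm
    calc p = (MulAction.orbit (P : Subgroup G) x).ncard := by rw [← MulAction.index_stabilizer, hidx]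
      _ ≤ _ := Set.ncard_le_ncard hsub (Set.toFinite _)
  have hsum : ∑ z : (P : Subgroup G), Nat.card (MulAction.fixedBy Ω z) = m * Nat.card (P : Subgroup G) := by
    calc ∑ z : (P : Subgroup G), Nat.card (MulAction.fixedBy Ω z)
        = ∑ z : (P : Subgroup G), ∑ x : Ω, if z • x = x then 1 else 0 := by
          refine Finset.sum_congr rfl fun z _ => ?_
          rw [← Finset.card_filter, Nat.card_eq_fintype_card, Fintype.card_of_subtype]
          simp
      _ = ∑ x : Ω, ∑ z : (P : Subgroup G), if z • x = x then 1 else 0 := Finset.sum_comm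
      _ = ∑ x : Ω, Nat.card (MulAction.stabilizer (P : Subgroup G) x) := by
          refine Finset.sum_congr rfl fun x _ => ?_
          rw [← Finset.card_filter, Nat.card_eq_fintype_card, Fintype.card_of_subtype]
          simp
      _ = m * Nat.card (P : Subgroup G) := by
          have h : ∀ x : Ω, p * Nat.card (MulAction.stabilizer (P : Subgroup G) x) = Nat.card (P : Subgroup G) := fun x => by
            have := Subgroup.index_mul_card (MulAction.stabilizer (P : Subgroup G) x)
            rwa [hidx x] at this
          apply Nat.eq_of_mul_eq_mul_left hp.pos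
          rw [Finset.mul_sum, Finset.sum_congr rfl (fun x _ => h x), Finset.sum_const, Finset.card_univ, hΩ,
            smul_eq_mul]
          ring
  have hlow : p * Nat.card (P : Subgroup G) ≤ m * Nat.card (P : Subgroup G) := by
    rw [← hsum]
    calc p * Nat.card (P : Subgroup G) = ∑ _z : (P : Subgroup G), p := by
          rw [Finset.sum_const, Finset.card_univ, smul_eq_mul, Nat.card_eq_fintype_card, mul_comm]
      _ ≤ _ := Finset.sum_le_sum fun z _ => hfix z
  have := Nat.le_of_mul_le_mul_right hlow Nat.card_pos
  omega

end Cfsg.Agent.S5727
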