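import Cfsg.Statements.S5728

set_option autoImplicit false
open Cfsg

namespace Cfsg.Agent.S5728

/-- An elusive transitive action. Let p = 2^s − 1 be a prime and let F be the field with p² elements. Inside the group of affine maps x ↦ a·x + b of F (a ≠ 0), consider the subgroup of maps with both coefficients in the prime field. Then every element of prime order of the affine group is conjugate, within the affine group, to an element of that subgroup; equivalently, in the transitive action of the affine group on the cosets of that subgroup (of degree p(p + 1)) every element of prime order fixes a point. -/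
theorem result (p s : ℕ) [Fact p.Prime] (hs : p = 2 ^ s - 1)
    (g : Equiv.Perm (GaloisField p 2)) (hg : g ∈ Cfsg.affineGroup (GaloisField p 2)) (hord : (orderOf g).Prime) :
    ∃ x ∈ Cfsg.affineGroup (GaloisField p 2), ∃ a b : ZMod p, a ≠ 0 ∧
      ∀ y : GaloisField p 2, (x * g * x⁻¹) y = algebraMap (ZMod p) (GaloisField p 2) a * y + algebraMap (ZMod p) (GaloisField p 2) b := by
  classical
  have hp : p.Prime := Fact.out
  have hs1 : 2 ≤ s := by
    by_contra h
    have := hp.two_le
    interval_cases s <;> omega
  obtain ⟨a, b, hab⟩ := hg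
  have hgpow : ∀ (k : ℕ), ∃ c : (GaloisField p 2), ∀ x : (GaloisField p 2), (g ^ k) x = (a : (GaloisField p 2)) ^ k * x + c := by
    intro k
    induction k with
    | zero => exact ⟨0, fun x => by simp⟩
    | succ k ih =>
        obtain ⟨c, hc⟩ := ih
        exact ⟨(a : (GaloisField p 2)) ^ k * b + c, fun x => by rw [pow_succ, Equiv.Perm.mul_apply, hab, hc]; ring⟩
  have har : (a : (GaloisField p 2)) ^ orderOf g = 1 := by
    obtain ⟨c, hc⟩ := hgpow (orderOf g)
    rw [pow_orderOf_eq_one] at hc
    have h0 := hc 0
    have h1 := hc 1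
    simp only [Equiv.Perm.coe_one, id_eq, mul_zero, zero_add, mul_one] at h0 h1
    rw [← h0, add_zero] at h1
    exact h1.symm
  have affmem : ∀ (u : (GaloisField p 2)ˣ) (v : (GaloisField p 2)), (((Equiv.mulLeft₀ (u : (GaloisField p 2)) u.ne_zero).trans (Equiv.addRight v)) : Equiv.Perm (GaloisField p 2)) ∈ Cfsg.affineGroup (GaloisField p 2) :=
    fun u v => ⟨u, v, fun x => rfl⟩
  by_cases ha1 : (a : (GaloisField p 2)) = 1
  · have hb : b ≠ 0 := by
      intro hb
      apply hord.ne_one
      rw [orderOf_eq_one_iff]
      exact Equiv.ext fun x => by simp [hab, ha1, hb]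
    refine ⟨_, affmem (Units.mk0 b⁻¹ (inv_ne_zero hb)) 0, 1, 1, one_ne_zero, fun y => ?_⟩
    rw [Equiv.Perm.mul_apply, Equiv.Perm.mul_apply]
    simp [Equiv.Perm.inv_def, hab, ha1, mul_add, hb]
    rfl
  · -- the multiplier lies in the prime field
    have hne : (1 : (GaloisField p 2)) - (a : (GaloisField p 2)) ≠ 0 := sub_ne_zero.2 (Ne.symm ha1)
    have horda : orderOf (a : (GaloisField p 2)) = orderOf g := by
      have h := orderOf_dvd_of_pow_eq_one har
      rcases (Nat.dvd_prime hord).1 h with h' | h'
      · exact absurd (orderOf_eq_one_iff.1 h') ha1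
      · exact h'
    have : Fintype (GaloisField p 2) := Fintype.ofFinite (GaloisField p 2)
    have hcard : Fintype.card (GaloisField p 2) = p ^ 2 := by
      rw [← Nat.card_eq_fintype_card]; exact GaloisField.card p 2 two_ne_zero
    have hdvd : orderOf g ∣ (p - 1) * 2 ^ s := by
      rw [← horda]
      have h1 := orderOf_dvd_of_pow_eq_one (FiniteField.pow_card_sub_one_eq_one (a : (GaloisField p 2)) a.ne_zero)
      rw [hcard] at h1
      have h2 : 2 ^ s = p + 1 := by
        have := Nat.one_le_two_pow (n := s); omega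
      have h3 : p ^ 2 - 1 = (p - 1) * (p + 1) := by
        rw [mul_comm]; exact Nat.sq_sub_sq p 1
      rwa [h2, ← h3]
    have hp2 : p ≠ 2 := by
      intro h
      have : 2 ^ 2 ≤ 2 ^ s := Nat.pow_le_pow_right (by norm_num) hs1
      omega
    have hpm : orderOf g ∣ p - 1 := by
      rcases hord.dvd_mul.1 hdvd with h | h
      · exact h
      · have h2 : orderOf g = 2 := (Nat.prime_dvd_prime_iff_eq hord Nat.prime_two).1 (hord.dvd_of_dvd_pow h)
        rw [h2]
        exact (hp.even_sub_one hp2).two_dvd
    have hap : (a : (GaloisField p 2)) ^ p = a := by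
      obtain ⟨c, hc⟩ := hpm
      have : (a : (GaloisField p 2)) ^ (p - 1) = 1 := by rw [hc, pow_mul, har, one_pow]
      calc (a : (GaloisField p 2)) ^ p = (a : (GaloisField p 2)) ^ (p - 1) * a := by rw [← pow_succ]; congr 1; have := hp.two_le; omega
        _ = a := by rw [this, one_mul]
    obtain ⟨a0, ha0⟩ : ∃ a0 : ZMod p, algebraMap (ZMod p) (GaloisField p 2) a0 = a := by
      have hmem : (a : (GaloisField p 2)) ∈ (⊥ : Subfield (GaloisField p 2)) := (Subfield.mem_bot_iff_pow_eq_self (F := (GaloisField p 2)) (p := p)).2 hap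
      rw [← ZMod.fieldRange_castHom_eq_bot p] at hmem
      obtain ⟨a0, ha0⟩ := hmem
      exact ⟨a0, (RingHom.congr_fun (Subsingleton.elim _ _) a0).trans ha0⟩
    refine ⟨_, affmem 1 (-(b * (1 - (a : (GaloisField p 2)))⁻¹)), a0, 0, ?_, fun y => ?_⟩
    · intro h; rw [h, map_zero] at ha0; exact a.ne_zero ha0.symm
    · rw [Equiv.Perm.mul_apply, Equiv.Perm.mul_apply]
      simp [Equiv.Perm.inv_def, hab, ha0]
      field_simp
      ring

end Cfsg.Agent.S5728
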