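import Cfsg.Statements.S5729

set_option autoImplicit false
open Cfsg

namespace Cfsg.Agent.S5729

/-- counting derangements with the first two moments of the fixed point counts -/
lemma moments {G Ω : Type*} [Group G] [Fintype G] [MulAction G Ω] [Fintype Ω] [DecidableEq Ω]
    (htr : MulAction.IsPretransitive G Ω) (hn : 2 ≤ Fintype.card Ω) :
    ∃ r : ℕ, 2 ≤ r ∧ (∑ g : G, (Nat.card (MulAction.fixedBy Ω g) : ℤ)) = Nat.card G ∧
      (∑ g : G, (Nat.card (MulAction.fixedBy Ω g) : ℤ) ^ 2) = r * Nat.card G := by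
  classical
  let e : ∀ g : G, ↥(MulAction.fixedBy (Ω × Ω) g) ≃ ↥(MulAction.fixedBy Ω g) × ↥(MulAction.fixedBy Ω g) := fun g =>
    { toFun := fun x => (⟨x.1.1, congrArg Prod.fst x.2⟩, ⟨x.1.2, congrArg Prod.snd x.2⟩)
      invFun := fun y => ⟨(y.1.1, y.2.1), Prod.ext y.1.2 y.2.2⟩
      left_inv := fun x => rfl
      right_inv := fun y => rfl }
  have h1 := MulAction.sum_card_fixedBy_eq_card_orbits_mul_card_group G Ω
  have h2 := MulAction.sum_card_fixedBy_eq_card_orbits_mul_card_group G (Ω × Ω)
  simp only [← Nat.card_eq_fintype_card] at h1 h2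
  obtain ⟨x, y, hxy⟩ := Fintype.exists_pair_of_one_lt_card hn
  refine ⟨Nat.card (Quotient (MulAction.orbitRel G (Ω × Ω))), ?_, ?_, ?_⟩
  · rw [Nat.card_eq_fintype_card]
    refine Fintype.one_lt_card_iff.2 ⟨⟦(x, x)⟧, ⟦(x, y)⟧, fun h => hxy ?_⟩
    obtain ⟨g, hg⟩ := Quotient.exact h
    have ha : g • x = x := congrArg Prod.fst hg
    have hb : g • y = x := congrArg Prod.snd hg
    exact MulAction.injective g (ha.trans hb.symm)
  · have : Subsingleton (Quotient (MulAction.orbitRel G Ω)) :=
      ⟨fun a b => Quotient.inductionOn₂ a b fun a b =>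
        Quotient.sound (MulAction.exists_smul_eq G b a)⟩
    have : Nonempty (Quotient (MulAction.orbitRel G Ω)) := ⟨⟦x⟧⟩
    rw [Nat.card_unique, one_mul] at h1
    exact_mod_cast h1
  · simp only [Nat.card_congr (e _), Nat.card_prod] at h2
    rw [← Nat.cast_mul, ← h2, Nat.cast_sum]
    exact Finset.sum_congr rfl fun g _ => by rw [sq, Nat.cast_mul]

/-- Let a finite group G act faithfully and transitively on a set with n ≥ 3 points. Then either G is a Frobenius permutation group (Frobenius as a permutation group: transitive, some non-identity element fixes a point, and no non-identity element fixes two points) of order n(n − 1) and exactly |G|/n of its elements are derangements (fix no point), or the number of derangements is greater than |G|/n. -/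
theorem result {G Ω : Type*} [Group G] [Finite G] [MulAction G Ω] [FaithfulSMul G Ω] [Fintype Ω] (htr : MulAction.IsPretransitive G Ω) (hn : 3 ≤ Fintype.card Ω) :
    ((MulAction.IsPretransitive G Ω ∧ (∃ g : G, g ≠ 1 ∧ ∃ ω : Ω, g • ω = ω) ∧ ∀ g : G, g ≠ 1 → Nat.card (MulAction.fixedBy Ω g) ≤ 1) ∧ Nat.card G = Fintype.card Ω * (Fintype.card Ω - 1) ∧ Fintype.card Ω * Nat.card {g : G // ∀ ω : Ω, g • ω ≠ ω} = Nat.card G) ∨
    Nat.card G < Fintype.card Ω * Nat.card {g : G // ∀ ω : Ω, g • ω ≠ ω} := by
  classical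
  have : Fintype G := Fintype.ofFinite G
  obtain ⟨r, hr, hs1, hs2⟩ := moments (G := G) htr (show 2 ≤ Fintype.card Ω by omega)
  set n : ℤ := (Fintype.card Ω : ℤ) with hn'
  let f : G → ℤ := fun g => (Nat.card (MulAction.fixedBy Ω g) : ℤ)
  have hf0 : ∀ g, f g = 0 ↔ ∀ ω : Ω, g • ω ≠ ω := fun g => by
    simp only [f, Int.natCast_eq_zero, Finite.card_eq_zero_iff, isEmpty_subtype]
    exact ⟨fun h ω => h ω, fun h ω => h ω⟩
  have hfn : ∀ g, f g ≤ n := fun g => by
    simp only [f, n]
    rw [← Nat.card_eq_fintype_card (α := Ω)]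
    exact_mod_cast Finite.card_subtype_le _
  let D : ℕ := Nat.card {g : G // ∀ ω : Ω, g • ω ≠ ω}
  have hD : (D : ℤ) = ∑ g : G, if f g = 0 then (1 : ℤ) else 0 := by
    simp only [hf0]
    rw [Finset.sum_boole]
    simp [D, Nat.card_eq_fintype_card, Fintype.card_subtype]
  have hsum : n * D = ((r : ℤ) - 1) * Nat.card G
      + ∑ g : G, if f g = 0 then 0 else (f g - 1) * (n - f g) := by
    have h1 : ∀ g : G, n * (if f g = 0 then (1 : ℤ) else 0) =
        (f g) ^ 2 - (n + 1) * f g + n + (if f g = 0 then 0 else (f g - 1) * (n - f g)) := by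
      intro g
      split_ifs with h
      · rw [h]; ring
      · ring
    rw [hD, Finset.mul_sum, Finset.sum_congr rfl (fun g _ => h1 g)]
    simp only [Finset.sum_add_distrib, Finset.sum_sub_distrib, ← Finset.mul_sum, f, hs1, hs2,
      Finset.sum_const, Finset.card_univ, nsmul_eq_mul]
    rw [Nat.card_eq_fintype_card (α := G)]
    ring
  have hterm : ∀ g, 0 ≤ if f g = 0 then (0 : ℤ) else (f g - 1) * (n - f g) := by
    intro g
    split_ifs with h
    · rfl
    · have h0 : (0 : ℤ) ≤ f g := by simp [f]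
      exact mul_nonneg (by omega) (by linarith [hfn g])
  have hS := Finset.sum_nonneg fun g (_ : g ∈ Finset.univ) => hterm g
  have hGpos : (0 : ℤ) < Nat.card G := by exact_mod_cast Nat.card_pos
  by_cases hlt : Nat.card G < Fintype.card Ω * D
  · exact Or.inr hlt
  left
  have hle : n * D ≤ Nat.card G := by simp only [n]; exact_mod_cast Nat.le_of_not_lt hlt
  have hr2 : r = 2 := by
    by_contra h
    have : (3 : ℤ) ≤ r := by exact_mod_cast (show 3 ≤ r by omega)
    nlinarith
  subst hr2
  have hS0 : ∑ g : G, (if f g = 0 then (0 : ℤ) else (f g - 1) * (n - f g)) = 0 := by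
    push_cast at hsum; linarith
  have hz := (Finset.sum_eq_zero_iff_of_nonneg fun g _ => hterm g).1 hS0
  have hf01 : ∀ g : G, g ≠ 1 → f g = 0 ∨ f g = 1 := by
    intro g hg
    by_contra hcon
    push Not at hcon
    have h := hz g (Finset.mem_univ g)
    rw [if_neg hcon.1] at h
    rcases mul_eq_zero.1 h with h | h
    · exact hcon.2 (by linarith)
    · apply hg
      apply FaithfulSMul.eq_of_smul_eq_smul (α := Ω)
      intro x
      rw [one_smul]
      have huniv : MulAction.fixedBy Ω g = Set.univ := by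
        apply Set.eq_of_subset_of_ncard_le (Set.subset_univ _) ?_ (Set.toFinite _)
        have : f g = n := by linarith
        simp only [f, n, Nat.cast_inj, Nat.card_coe_set_eq] at this
        rw [Set.ncard_univ, this, Nat.card_eq_fintype_card]
      exact (huniv ▸ Set.mem_univ x : x ∈ MulAction.fixedBy Ω g)
  have hf1 : f 1 = n := by
    have : MulAction.fixedBy Ω (1 : G) = Set.univ := by ext; simp
    simp [f, n, this, Nat.card_eq_fintype_card]
  have hsq : ∑ g : G, f g ^ 2 = (n ^ 2 - n) + ∑ g : G, f g := by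
    rw [← Finset.add_sum_erase _ _ (Finset.mem_univ (1 : G)), ← Finset.add_sum_erase _ f (Finset.mem_univ (1 : G))]
    rw [Finset.sum_congr rfl (g := f) fun g hg => ?_]
    · rw [hf1]; ring
    · rcases hf01 g (Finset.ne_of_mem_erase hg) with h | h <;> simp [h]
  have hG : (Nat.card G : ℤ) = n * (n - 1) := by
    simp only [f, hs1, hs2] at hsq
    push_cast at hsq
    linarith
  refine ⟨⟨htr, ?_, ?_⟩, ?_, ?_⟩
  · -- some nontrivial element fixes a point
    by_contra hcon
    push Not at hcon
    have : ∑ g : G, f g = n := by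
      rw [Finset.sum_eq_single (1 : G) (fun g _ hg => (hf0 g).2 fun ω => hcon g hg ω)
        (fun h => absurd (Finset.mem_univ _) h), hf1]
    simp only [f, hs1] at this
    have h3 : (3 : ℤ) ≤ n := by simp only [n]; exact_mod_cast hn
    nlinarith
  · intro g hg
    rcases hf01 g hg with h | h <;> simp only [f] at h <;> omega
  · have h1 : 1 ≤ Fintype.card Ω := by omega
    have : ((Nat.card G : ℕ) : ℤ) = ((Fintype.card Ω * (Fintype.card Ω - 1) : ℕ) : ℤ) := by
      rw [hG]; push_cast [Nat.cast_sub h1]; ring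
    exact_mod_cast this
  · have : ((Fintype.card Ω * D : ℕ) : ℤ) = (Nat.card G : ℤ) := by
      push_cast at hsum ⊢; linarith
    exact_mod_cast this

end Cfsg.Agent.S5729
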