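import Cfsg.Statements.S5736
import Cfsg.Agent.PSL2Bin.Odd
import Cfsg.Agent.PSL2Bin.Even

set_option autoImplicit false
open Cfsg

namespace Cfsg.Agent.S5736

/-- Let F be a finite field with q ≥ 4 elements, q ≠ 5, let G = PSL₂(F) and let H be a proper subgroup of G. Then the action of G on the cosets of H is binary if and only if H is trivial, or q is a power of 2 and H is a Sylow 2-subgroup, or q = 2^a with a odd and H has order 3. Here an action is binary (relational complexity 2) when, for every n ≥ 2 and all n-tuples I, J of points, if for every pair of positions some group element carries the corresponding pair of entries of I to those of J, then a single group element carries I to J. -/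
theorem result {F : Type*} [Field F] [Fintype F] (h4 : 4 ≤ Fintype.card F) (h5 : Fintype.card F ≠ 5)
    (H : Subgroup (Matrix.ProjectiveSpecialLinearGroup (Fin 2) F)) (hH : H ≠ ⊤) :
    (∀ (n : ℕ) (I J : Fin n → Matrix.ProjectiveSpecialLinearGroup (Fin 2) F ⧸ H), 2 ≤ n →
        (∀ i j : Fin n, i ≠ j → ∃ g : Matrix.ProjectiveSpecialLinearGroup (Fin 2) F, g • I i = J i ∧ g • I j = J j) → ∃ g : Matrix.ProjectiveSpecialLinearGroup (Fin 2) F, ∀ i, g • I i = J i) ↔
      (H = ⊥ ∨ ((∃ a : ℕ, Fintype.card F = 2 ^ a) ∧ ∃ P : Sylow 2 (Matrix.ProjectiveSpecialLinearGroup (Fin 2) F), H = P) ∨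
        ((∃ a : ℕ, Odd a ∧ Fintype.card F = 2 ^ a) ∧ Nat.card H = 3)) := by
  classical
  obtain ⟨p, hp⟩ := CharP.exists F
  haveI := Fact.mk (CharP.char_is_prime F p)
  obtain ⟨f, -, hf⟩ := Cfsg.Agent.Classical.card_field_eq_pow (F := F) p
  refine (Cfsg.Agent.Suzuki.bin_iff H).trans ?_
  by_cases hp2 : p = 2
  swap
  · have hodd : Odd (Fintype.card F) := by
      rw [hf]; exact ((Fact.out : p.Prime).odd_of_ne_two hp2).pow
    have hq : 7 ≤ Fintype.card F := by
      obtain ⟨j, hj⟩ := hodd; omega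
    have hno : ∀ a : ℕ, Fintype.card F ≠ 2 ^ a := fun a e => by
      cases a with
      | zero => norm_num at e; omega
      | succ a => rw [e, pow_succ'] at hodd; exact Nat.not_odd_iff_even.2 (even_two_mul _) hodd
    constructor
    · exact fun hb => Or.inl (Cfsg.Agent.PSL2Bin.odd_main p hb hH hodd hq)
    · rintro (rfl | ⟨⟨a, ha⟩, -⟩ | ⟨⟨a, -, ha⟩, -⟩)
      · exact Cfsg.Agent.Suzuki.bin_bot
      · exact absurd ha (hno a)
      · exact absurd ha (hno a)
  subst hp2
  constructor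
  · intro hb
    by_cases hne : H = ⊥
    · exact Or.inl hne
    right
    by_cases hv : ∃ v ∈ H, v ≠ 1 ∧ v * v = 1
    · obtain ⟨v, hvH, hv1, hv2⟩ := hv
      obtain ⟨P, hP⟩ := Cfsg.Agent.Classical.Dickson2.exists_sylow_eq_tor 2 hv1 (by rw [pow_two]; exact hv2)
      exact Or.inl ⟨⟨f, hf⟩, P, (Cfsg.Agent.PSL2Bin.even_invol hb hH h4 hvH hv1 hv2).trans hP.symm⟩
    · obtain ⟨hnr, h3⟩ := Cfsg.Agent.PSL2Bin.even_odd_order hb h4 hne fun v hvH hv2 =>
        by_contra fun hv1 => hv ⟨v, hvH, hv1, hv2⟩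
      exact Or.inr ⟨⟨f, (Cfsg.Agent.PSL2Bin.noRoot_odd hf).1 hnr, hf⟩, h3⟩
  · rintro (rfl | ⟨-, P, hP⟩ | ⟨⟨a, ha, hcard⟩, h3⟩)
    · exact Cfsg.Agent.Suzuki.bin_bot
    · subst hP
      obtain ⟨x, hx1, hx, hPx⟩ := Cfsg.Agent.Classical.Dickson2.eq_tor_of_sylow 2 P
      rw [hPx]
      exact Cfsg.Agent.PSL2Bin.bin_sylow hx1 hx
    · exact Cfsg.Agent.PSL2Bin.bin_three ha hcard h3

end Cfsg.Agent.S5736
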