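import Cfsg.Statements.S5737
import Cfsg.Agent.Suzuki.BinaryMain
-- import your own Cfsg.Agent.* helpers here

set_option autoImplicit false
open Cfsg
open Cfsg.Agent

namespace Cfsg.Agent.S5737

/-- Let G = Sz(q) be a Suzuki group, q = 2^(2a+1) with a ≥ 1 (realised inside Sp₄ over the field with q elements), and let H be a proper subgroup of G. Then the action of G on the cosets of H is binary if and only if H is trivial or H is the centre of a Sylow 2-subgroup of G. Here an action is binary (relational complexity 2) when, for every n ≥ 2 and all n-tuples I, J of points, if for every pair of positions some group element carries the corresponding pair of entries of I to those of J, then a single group element carries I to J. -/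
theorem result {F : Type*} [Field F] [Fintype F] (a : ℕ) (ha : 1 ≤ a) (hF : Fintype.card F = 2 ^ (2 * a + 1))
    (H : Subgroup (Cfsg.Lie.Sz F (2 ^ (a + 1)))) (hH : H ≠ ⊤) :
    (∀ (n : ℕ) (I J : Fin n → (Cfsg.Lie.Sz F (2 ^ (a + 1))) ⧸ H), 2 ≤ n →
        (∀ i j : Fin n, i ≠ j → ∃ g : (Cfsg.Lie.Sz F (2 ^ (a + 1))), g • I i = J i ∧ g • I j = J j) → ∃ g : (Cfsg.Lie.Sz F (2 ^ (a + 1))), ∀ i, g • I i = J i) ↔
      (H = ⊥ ∨ ∃ P : Sylow 2 (Cfsg.Lie.Sz F (2 ^ (a + 1))), H = (Subgroup.center (P : Subgroup (Cfsg.Lie.Sz F (2 ^ (a + 1))))).map (P : Subgroup (Cfsg.Lie.Sz F (2 ^ (a + 1)))).subtype) := by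
  classical
  obtain ⟨e⟩ := Suzuki.nonempty_equiv ha hF
  set K : Subgroup (Cfsg.Sz F a) := H.comap e.toMonoidHom with hKdef
  have hK : ∀ x, e x ∈ H ↔ x ∈ K := fun x => Iff.rfl
  have hKtop : K ≠ ⊤ := fun h => hH (eq_top_iff.mpr fun x _ => by
    have : e.symm x ∈ K := h ▸ Subgroup.mem_top _
    simpa using (hK _).mpr this)
  have h1 : Suzuki.Bin H ↔ Suzuki.Bin K :=
    ⟨fun h => h.map e.symm fun x => by rw [← hK, e.apply_symm_apply], fun h => h.map e hK⟩
  refine (Suzuki.bin_iff H).trans (h1.trans ((Suzuki.bin_iff_center ha hF hKtop).trans ?_))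
  rw [← Suzuki.center_map_iff ha hF]
  have hmapmem : ∀ {G : Type _} [Group G] (P : Subgroup G) (x : G),
      x ∈ (Subgroup.center P).map P.subtype ↔ x ∈ P ∧ ∀ y ∈ P, x * y = y * x := by
    intro G _ P x
    constructor
    · rintro ⟨⟨z, hz⟩, hc, rfl⟩
      exact ⟨hz, fun y hy => (congrArg Subtype.val (Subgroup.mem_center_iff.mp hc ⟨y, hy⟩)).symm⟩
    · rintro ⟨hx, hc⟩
      exact ⟨⟨x, hx⟩, Subgroup.mem_center_iff.mpr fun y => Subtype.ext (hc y y.2).symm, rfl⟩
  have hs : Function.Surjective e.toMonoidHom := e.surjective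
  have hs' : Function.Surjective e.symm.toMonoidHom := e.symm.surjective
  refine or_congr ⟨fun h => ?_, fun h => ?_⟩ ⟨?_, ?_⟩
  · rw [Subgroup.eq_bot_iff_forall] at h ⊢
    intro x hx
    have := h (e.symm x) ((hK _).mp (by rwa [e.apply_symm_apply]))
    simpa using this
  · rw [Subgroup.eq_bot_iff_forall] at h ⊢
    intro x hx
    exact (map_eq_one_iff e e.injective).mp (h _ ((hK x).mpr hx))
  · rintro ⟨P, hP⟩
    refine ⟨P.mapSurjective (f := e.toMonoidHom) hs, SetLike.ext fun x => ?_⟩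
    obtain ⟨y, rfl⟩ := e.surjective x
    rw [hK, hP, hmapmem, Sylow.coe_mapSurjective, Subgroup.mem_map_equiv, e.symm_apply_apply]
    refine and_congr Iff.rfl ⟨fun h z hz => ?_, fun h z hz => e.injective ?_⟩
    · obtain ⟨w, hw, rfl⟩ := hz
      simp only [MulEquiv.coe_toMonoidHom, ← map_mul, h w hw]
    · rw [map_mul, map_mul]
      exact h _ ⟨z, hz, rfl⟩
  · rintro ⟨P, hP⟩
    refine ⟨P.mapSurjective (f := e.symm.toMonoidHom) hs', fun y => ?_⟩
    show y ∈ K ↔ y ∈ ((P.mapSurjective (f := e.symm.toMonoidHom) hs' : Sylow 2 (Cfsg.Sz F a)) : Subgroup (Cfsg.Sz F a)) ∧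
      ∀ z ∈ ((P.mapSurjective (f := e.symm.toMonoidHom) hs' : Sylow 2 (Cfsg.Sz F a)) : Subgroup (Cfsg.Sz F a)), _
    rw [← hK, hP, hmapmem, Sylow.coe_mapSurjective, Subgroup.mem_map_equiv, MulEquiv.symm_symm]
    refine and_congr Iff.rfl ⟨fun h z hz => ?_, fun h z hz => ?_⟩
    · obtain ⟨w, hw, rfl⟩ := hz
      apply e.injective
      simp only [MulEquiv.coe_toMonoidHom, map_mul, e.apply_symm_apply]
      exact h w hw
    · have := congrArg e (h (e.symm z) ⟨z, hz, rfl⟩)
      simpa using this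

end Cfsg.Agent.S5737
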