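import Cfsg.Statements.S5738

set_option autoImplicit false
open Cfsg

namespace Cfsg.Agent.S5738

variable (F K : Type*) [Field F] [Field K] [Algebra F K]

/-- multiplication by nonzero elements -/
abbrev mulHom : Kˣ →* (Module.End F K)ˣ :=
  Units.map ((Algebra.lmul F K : K →ₐ[F] Module.End F K) : K →* Module.End F K)

/-- field automorphisms as linear units -/
def autHom : (K ≃ₐ[F] K) →* (Module.End F K)ˣ :=
  MonoidHom.toHomUnits
    { toFun := fun e => (e.toLinearEquiv : K →ₗ[F] K)
      map_one' := rfl
      map_mul' := fun _ _ => rfl }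

lemma aut_mem_normalizer [Finite K] (e : K ≃ₐ[F] K) :
    autHom F K e ∈ Subgroup.normalizer ((mulHom F K).range : Set (Module.End F K)ˣ) := by
  have key : ∀ (e : K ≃ₐ[F] K) (b : Kˣ), autHom F K e * mulHom F K b * (autHom F K e)⁻¹ =
      mulHom F K (Units.map (e : K →* K) b) := by
    intro e b
    rw [mul_inv_eq_iff_eq_mul]
    refine Units.ext (LinearMap.ext fun x => ?_)
    show e ((b : K) * x) = e (b : K) * e x
    exact map_mul e _ _
  rw [Subgroup.mem_normalizer_iff]
  intro h
  constructor
  · rintro ⟨b, rfl⟩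
    exact ⟨_, (key e b).symm⟩
  · rintro ⟨b, hb⟩
    refine ⟨Units.map (e.symm : K →* K) b, ?_⟩
    have h2 := key e.symm b
    have hinv : autHom F K e.symm = (autHom F K e)⁻¹ := by
      apply eq_inv_of_mul_eq_one_left
      rw [← map_mul]
      convert map_one (autHom F K)
      ext x; simp
    rw [hinv, inv_inv, hb] at h2
    rw [← h2]
    group

lemma normalizer_eq [Finite K] (g : (Module.End F K)ˣ)
    (hg : g ∈ Subgroup.normalizer ((mulHom F K).range : Set (Module.End F K)ˣ)) :
    ∃ (a : Kˣ) (e : K ≃ₐ[F] K), g = mulHom F K a * autHom F K e := by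
  have hne : (g : Module.End F K) 1 ≠ 0 := by
    intro h0
    have := congrArg (fun f : Module.End F K => f 1) g.inv_mul
    rw [Module.End.mul_apply, h0, map_zero, Module.End.one_apply] at this
    exact one_ne_zero this.symm
  let a : Kˣ := Units.mk0 _ hne
  set h := (mulHom F K a)⁻¹ * g with hh
  have h1 : (h : Module.End F K) 1 = 1 := by
    show ((((mulHom F K a)⁻¹ : (Module.End F K)ˣ) : Module.End F K)) ((g : Module.End F K) 1) = 1
    rw [← map_inv]
    show ((a⁻¹ : Kˣ) : K) * (g : Module.End F K) 1 = 1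
    exact a.inv_mul
  have h1' : ((h⁻¹ : (Module.End F K)ˣ) : Module.End F K) 1 = 1 := by
    conv_lhs => rw [← h1]
    rw [← Module.End.mul_apply, h.inv_mul, Module.End.one_apply]
  have hhN : h ∈ Subgroup.normalizer ((mulHom F K).range : Set (Module.End F K)ˣ) :=
    mul_mem (inv_mem (Subgroup.le_normalizer ⟨a, rfl⟩)) hg
  have hmul : ∀ x y : K, (h : Module.End F K) (x * y) = (h : Module.End F K) x * (h : Module.End F K) y := by
    intro x y
    rcases eq_or_ne x 0 with rfl | hx
    · simp
    obtain ⟨c, hc⟩ := (Subgroup.mem_normalizer_iff.1 hhN (mulHom F K (Units.mk0 x hx))).1 ⟨_, rfl⟩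
    have e1 : ∀ z : K, (h : Module.End F K) (x * ((h⁻¹ : (Module.End F K)ˣ) : Module.End F K) z) = (c : K) * z := by
      intro z
      exact (congrArg (fun u : (Module.End F K)ˣ => (u : Module.End F K) z) hc).symm
    have hc1 := e1 1
    rw [h1', mul_one, mul_one] at hc1
    have h2 := e1 ((h : Module.End F K) y)
    rw [← Module.End.mul_apply, h.inv_mul, Module.End.one_apply] at h2
    rw [h2, hc1]
  let φ : K →ₐ[F] K := AlgHom.ofLinearMap (h : Module.End F K) h1 hmul
  let e : K ≃ₐ[F] K := AlgEquiv.ofBijective φ (Finite.injective_iff_bijective.1 φ.toRingHom.injective)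
  refine ⟨a, e, ?_⟩
  have : autHom F K e = h := Units.ext (LinearMap.ext fun x => rfl)
  rw [this, hh, mul_inv_cancel_left]

/-- Let F ⊆ K be finite fields with |F| = q and [K : F] = n ≥ 2, so |K| = q^n. Regard K as an n-dimensional F-vector space; the multiplications by non-zero elements of K form a cyclic subgroup of GL_F(K) of order q^n − 1 acting regularly on the non-zero vectors (a Singer group). Its normaliser in GL_F(K) has order n·(q^n − 1). -/
theorem result {F K : Type*} [Field F] [Fintype F] [Field K] [Fintype K] [Algebra F K] (n : ℕ) (hn : 2 ≤ n) (hdim : Module.finrank F K = n) :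
    Nat.card (Subgroup.normalizer (((Units.map ((Algebra.lmul F K : K →ₐ[F] Module.End F K) : K →* Module.End F K)).range : Subgroup (Module.End F K)ˣ) : Set (Module.End F K)ˣ)) = n * (Fintype.card K - 1) := by
  let ψ : Kˣ × (K ≃ₐ[F] K) →
      ↥(Subgroup.normalizer (((mulHom F K)).range : Set (Module.End F K)ˣ)) :=
    fun p => ⟨mulHom F K p.1 * autHom F K p.2, mul_mem (Subgroup.le_normalizer ⟨p.1, rfl⟩) (aut_mem_normalizer F K p.2)⟩
  have hb : Function.Bijective ψ := by
    constructor
    · rintro ⟨a, e⟩ ⟨a', e'⟩ h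
      have h' : ∀ x : K, (a : K) * e x = (a' : K) * e' x := fun x =>
        congrArg (fun u : ↥(Subgroup.normalizer (((mulHom F K)).range : Set (Module.End F K)ˣ)) =>
          ((u : (Module.End F K)ˣ) : Module.End F K) x) h
      have ha : a = a' := Units.ext (by simpa using h' 1)
      subst ha
      have : e = e' := AlgEquiv.ext fun x => mul_left_cancel₀ a.ne_zero (h' x)
      rw [this]
    · rintro ⟨g, hg⟩
      obtain ⟨a, e, rfl⟩ := normalizer_eq F K g hg
      exact ⟨(a, e), rfl⟩
  rw [← Nat.card_eq_of_bijective ψ hb, Nat.card_prod, Nat.card_units, IsGalois.card_aut_eq_finrank, hdim,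
    Nat.card_eq_fintype_card, mul_comm]

end Cfsg.Agent.S5738
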