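import Cfsg.Statements.S5739
import Cfsg.Agent.S5946

set_option autoImplicit false
open Cfsg

namespace Cfsg.Agent.S5739

/-- Let F ⊆ K be finite fields with |F| = q and [K : F] = n ≥ 2, and let M ≤ GL_F(K) be the Singer group of multiplications by non-zero elements of K. If g ∈ GL_F(K) does not normalise M, then the order of M ∩ gMg⁻¹ divides q^r − 1 for some proper divisor r of n. In particular, when n is prime, that order divides q − 1. -/
theorem result {F K : Type*} [Field F] [Fintype F] [Field K] [Fintype K] [Algebra F K] (n : ℕ) (hn : 2 ≤ n) (hdim : Module.finrank F K = n)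
    (g : (Module.End F K)ˣ) (hg : ((Units.map ((Algebra.lmul F K : K →ₐ[F] Module.End F K) : K →* Module.End F K)).range).map (MulAut.conj g).toMonoidHom ≠ (Units.map ((Algebra.lmul F K : K →ₐ[F] Module.End F K) : K →* Module.End F K)).range) :
    ∃ r : ℕ, 1 ≤ r ∧ r ∣ n ∧ r < n ∧ Nat.card ↥(((Units.map ((Algebra.lmul F K : K →ₐ[F] Module.End F K) : K →* Module.End F K)).range).map (MulAut.conj g).toMonoidHom ⊓ (Units.map ((Algebra.lmul F K : K →ₐ[F] Module.End F K) : K →* Module.End F K)).range) ∣ Fintype.card F ^ r - 1 := by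
  classical
  set μ : Kˣ →* (Module.End F K)ˣ :=
    Units.map ((Algebra.lmul F K : K →ₐ[F] Module.End F K) : K →* Module.End F K) with hμ
  have hμinj : Function.Injective μ := fun a b h =>
    Units.ext (by simpa [hμ] using congrArg (fun u : (Module.End F K)ˣ => (u : Module.End F K) 1) h)
  set D := μ.range.map (MulAut.conj g).toMonoidHom ⊓ μ.range with hD
  let S : Set K := (fun a : Kˣ => (a : K)) '' (D.comap μ : Set Kˣ)
  let L : IntermediateField F K := IntermediateField.adjoin F S
  have : Finite L := inferInstance
  set r := Module.finrank F L with hr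
  have hrn : r ∣ n := ⟨_, (hdim.symm.trans (Module.finrank_mul_finrank F L K).symm)⟩
  have hr1 : 1 ≤ r := Module.finrank_pos
  -- the intersection embeds into the units of the subfield
  have hdvd : Nat.card D ∣ Fintype.card F ^ r - 1 := by
    have e1 : Nat.card D = Nat.card (D.comap μ) := by
      rw [← Subgroup.card_map_of_injective hμinj, Subgroup.map_comap_eq, inf_eq_right.2 (hD ▸ inf_le_right)]
    have hle : D.comap μ ≤ (Units.map ((L.val : L →ₐ[F] K) : L →* K)).range := by
      intro a ha
      have haL : (a : K) ∈ L := IntermediateField.subset_adjoin F S ⟨a, ha, rfl⟩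
      exact ⟨Units.mk0 ⟨_, haL⟩ (fun h => a.ne_zero (congrArg Subtype.val h)), Units.ext rfl⟩
    have e2 : Nat.card (Units.map ((L.val : L →ₐ[F] K) : L →* K)).range = Fintype.card F ^ r - 1 := by
      rw [← Nat.card_congr (MonoidHom.ofInjective (Units.map_injective (f := ((L.val : L →ₐ[F] K) : L →* K)) Subtype.val_injective)).toEquiv,
        Nat.card_units, Module.natCard_eq_pow_finrank (K := F), Nat.card_eq_fintype_card]
    rw [e1, ← e2]
    exact Subgroup.card_dvd_of_le hle
  refine ⟨r, hr1, hrn, lt_of_le_of_ne (Nat.le_of_dvd (by omega) hrn) fun hrn' => hg ?_, hdvd⟩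
  have hLtop : L = ⊤ := IntermediateField.eq_of_le_of_finrank_eq le_top
    (by rw [IntermediateField.finrank_top', hdim]; exact hrn')
  -- every element of the conjugate commutes with all multiplications
  have hle : μ.range.map (MulAut.conj g).toMonoidHom ≤ μ.range := by
    intro y hy
    let C : IntermediateField F K :=
      { carrier := {k | ∀ x, (y : Module.End F K) (k * x) = k * (y : Module.End F K) x}
        one_mem' := fun x => by simp
        zero_mem' := fun x => by simp
        mul_mem' := fun {a b} ha hb x => by rw [mul_assoc, ha, hb, mul_assoc]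
        add_mem' := fun {a b} ha hb x => by rw [add_mul, map_add, ha, hb, add_mul]
        algebraMap_mem' := fun c x => by rw [← Algebra.smul_def, map_smul, Algebra.smul_def]
        inv_mem' := fun a ha x => by
          rcases eq_or_ne a 0 with rfl | h
          · simp
          conv_rhs => rw [show x = a * (a⁻¹ * x) by rw [mul_inv_cancel_left₀ h]]
          rw [ha, inv_mul_cancel_left₀ h] }
    have hSC : S ⊆ C := by
      rintro _ ⟨a, ha, rfl⟩ x
      obtain ⟨b, ⟨c, rfl⟩, hb⟩ := (hD ▸ ha : μ a ∈ μ.range.map (MulAut.conj g).toMonoidHom ⊓ μ.range).1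
      obtain ⟨d, ⟨e, rfl⟩, hd⟩ := hy
      have hcomm : y * μ a = μ a * y := by
        rw [← hb, ← hd, ← map_mul, ← map_mul, ← map_mul, ← map_mul, mul_comm c e]
      exact congrArg (fun u : (Module.End F K)ˣ => (u : Module.End F K) x) hcomm
    have hC : L ≤ C := IntermediateField.adjoin_le_iff.2 hSC
    rw [hLtop] at hC
    rw [hμ, ← Cfsg.Agent.S5946.result n hn hdim, Subgroup.mem_centralizer_iff]
    rintro _ ⟨a, rfl⟩
    refine Units.ext (LinearMap.ext fun x => ?_)
    exact (hC (IntermediateField.mem_top : (a : K) ∈ (⊤ : IntermediateField F K)) x).symm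
  exact Subgroup.eq_of_le_of_card_ge hle
    (Subgroup.card_map_of_injective (MulAut.conj g).injective).ge

end Cfsg.Agent.S5739
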