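import Cfsg.Statements.S5743
import Cfsg.Agent.Chev.F4InE6.Main
-- import your own Cfsg.Agent.* helpers here

set_option autoImplicit false
open Cfsg

namespace Cfsg.Agent.S5743

/-- The simple group ²E₆(2) (the twisted group of type E₆ over the field with 4 elements) contains at least three pairwise non-conjugate subgroups isomorphic to the Chevalley group F₄(2). -/
theorem result {K : Type*} [Field K] [Fintype K] (hK : Fintype.card K = 4) :
    ∃ H : Fin 3 → Subgroup (Cfsg.Lie.twistedE6 K 2),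
      (∀ i, Nonempty ((H i) ≃* Cfsg.Lie.chevF4.group (ZMod 2))) ∧
      (∀ i j, i ≠ j → ∀ g : (Cfsg.Lie.twistedE6 K 2), (H i).map (MulAut.conj g).toMonoidHom ≠ H j) := by
  classical
  haveI : Fact (Nat.Prime 2) := ⟨Nat.prime_two⟩
  haveI : CharP K 2 := by
    obtain ⟨p, hp⟩ := CharP.exists K
    obtain ⟨n, hpp, hn⟩ := FiniteField.card K p
    haveI : Fact p.Prime := ⟨hpp⟩
    have : p ∣ 2 ^ 2 := by rw [show (2 : ℕ) ^ 2 = Fintype.card K by rw [hK]; norm_num, hn]; exact dvd_pow_self p n.ne_zero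
    exact (Nat.prime_dvd_prime_iff_eq hpp Nat.prime_two).1 (hpp.dvd_of_dvd_pow this) ▸ hp
  obtain ⟨φ, hφ, -, hqφ, e⟩ := Cfsg.Agent.Chev.exists_twistE6 (K := K) (q := 2)
    Nat.prime_two.isPrimePow (by rw [hK]; norm_num)
  have hsq : ∀ t : K, φ t = t ^ 2 := fun t => by
    have := hqφ 1 t
    rwa [pow_one, pow_one] at this
  have hcard : Fintype.card Kˣ = 3 := by rw [Fintype.card_units, hK]
  have h3 : ∀ x : Kˣ, x ^ 3 = 1 := fun x => hcard ▸ pow_card_eq_one
  obtain ⟨ω, hω1⟩ : ∃ ω : Kˣ, ω ≠ 1 := Fintype.exists_ne_of_one_lt_card (by omega) 1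
  rw [← e]
  exact Cfsg.Agent.Chev.F4InE6.exists_three hsq h3 hω1

end Cfsg.Agent.S5743
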