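import Cfsg.Statements.S5747

set_option autoImplicit false
open Cfsg

namespace Cfsg.Agent.S5747

variable {G Ω : Type*} [Group G] [MulAction G Ω]

/-- `g` fixes every point of `C` -/
def Fx (g : G) (C : Set Ω) : Prop := ∀ c ∈ C, g • c = c

/-- the list is irredundant after the points of `C` have been fixed -/
def IrrFrom (G : Type*) {Ω : Type*} [Group G] [MulAction G Ω] (C : Set Ω) : List Ω → Prop
  | [] => True
  | x :: l => (∃ g : G, Fx g C ∧ g • x ≠ x) ∧ IrrFrom G (insert x C) l

lemma irrFrom_iff : ∀ (C : Set Ω) (l : List Ω), IrrFrom G C l ↔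
    ∀ i : Fin l.length, ∃ g : G, Fx g C ∧ (∀ j : Fin l.length, j < i → g • l.get j = l.get j) ∧
      g • l.get i ≠ l.get i := by
  intro C l
  induction l generalizing C with
  | nil => simp [IrrFrom]
  | cons x l ih =>
      rw [IrrFrom, ih]
      constructor
      · rintro ⟨⟨g, hg, hgx⟩, h⟩ i
        refine Fin.cases ⟨g, hg, fun j hj => absurd hj (Fin.not_lt_zero j), hgx⟩ (fun i => ?_) i
        obtain ⟨g', h1, h2, h3⟩ := h i
        refine ⟨g', fun c hc => h1 c (Set.mem_insert_of_mem _ hc), fun j => ?_, h3⟩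
        refine Fin.cases (fun _ => h1 x (Set.mem_insert _ _)) (fun j hj => h2 j (Fin.succ_lt_succ_iff.1 hj)) j
      · intro h
        refine ⟨?_, fun i => ?_⟩
        · obtain ⟨g, h1, -, h3⟩ := h ⟨0, by simp⟩
          exact ⟨g, h1, h3⟩
        · obtain ⟨g, h1, h2, h3⟩ := h i.succ
          refine ⟨g, fun c hc => ?_, fun j hj => h2 j.succ (Fin.succ_lt_succ_iff.2 hj), h3⟩
          rcases Set.mem_insert_iff.1 hc with rfl | hc
          · exact h2 ⟨0, by simp⟩ (Fin.succ_pos i)
          · exact h1 c hc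

lemma irrFrom_append : ∀ (C : Set Ω) (l₁ l₂ : List Ω),
    IrrFrom G C (l₁ ++ l₂) ↔ IrrFrom G C l₁ ∧ IrrFrom G (C ∪ {x | x ∈ l₁}) l₂ := by
  intro C l₁ l₂
  induction l₁ generalizing C with
  | nil => simp [IrrFrom]
  | cons x l ih =>
      simp only [List.cons_append, IrrFrom, ih, and_assoc]
      have : insert x C ∪ {y | y ∈ l} = C ∪ {y | y ∈ x :: l} := by
        ext y; simp [List.mem_cons]; tauto
      rw [this]

lemma irrFrom_of_indep : ∀ (C : Set Ω) (l : List Ω), l.Nodup →
    (∀ x ∈ l, ∃ g : G, Fx g C ∧ (∀ y ∈ l, y ≠ x → g • y = y) ∧ g • x ≠ x) → IrrFrom G C l := by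
  intro C l
  induction l generalizing C with
  | nil => intros; trivial
  | cons x l ih =>
      intro hnd h
      obtain ⟨hx, hl⟩ := List.nodup_cons.1 hnd
      refine ⟨?_, ih _ hl fun z hz => ?_⟩
      · obtain ⟨g, h1, -, h3⟩ := h x (by simp)
        exact ⟨g, h1, h3⟩
      · obtain ⟨g, h1, h2, h3⟩ := h z (List.mem_cons_of_mem _ hz)
        refine ⟨g, fun c hc => ?_, fun y hy hne => h2 y (List.mem_cons_of_mem _ hy) hne, h3⟩
        rcases Set.mem_insert_iff.1 hc with rfl | hc
        · exact h2 c (by simp) (fun e => hx (e ▸ hz))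
        · exact h1 c hc

/-- a minimal base, as a set -/
def Min (G : Type*) {Ω : Type*} [Group G] [MulAction G Ω] [DecidableEq Ω] (B : Finset Ω) : Prop :=
  (∀ g : G, Fx g (B : Set Ω) → g = 1) ∧ ∀ b ∈ B, ∃ g : G, Fx g (B.erase b : Set Ω) ∧ g • b ≠ b

lemma min_card_le [DecidableEq Ω]
    (hP : ∀ l : List Ω, IrrFrom G ∅ l → (∀ g : G, Fx g {x | x ∈ l} → g = 1) → l.Nodup ∧ Min G l.toFinset)
    : ∀ (k : ℕ) (B B' : Finset Ω), Min G B → Min G B' → (B' \ B).card = k → B'.card = B.card := by
  intro k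
  induction k using Nat.strong_induction_on with
  | _ k ih =>
    intro B B' hB hB' hk
    classical
    by_cases hsub : B' ⊆ B
    · have hBB : B ⊆ B' := by
        intro x hx
        by_contra hxB
        obtain ⟨g, hg, hgx⟩ := hB.2 x hx
        refine hgx ?_
        rw [hB'.1 g fun c hc => hg c (Finset.mem_coe.2 (Finset.mem_erase.2 ⟨fun e => hxB (e ▸ hc), hsub hc⟩)), one_smul]
      rw [Finset.Subset.antisymm hsub hBB]
    obtain ⟨b, hbB', hbB⟩ := Finset.not_subset.1 hsub
    set C := B ∩ B' with hC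
    obtain ⟨g₀, hg₀, hg₀b⟩ := hB'.2 b hbB'
    have hCb : ¬ ∀ g : G, Fx g (C : Set Ω) → g • b = b := fun h => hg₀b (h g₀ fun c hc => by
      have hc' := Finset.mem_inter.1 (Finset.mem_coe.1 hc)
      exact hg₀ c (Finset.mem_coe.2 (Finset.mem_erase.2 ⟨fun e => hbB (e ▸ hc'.1), hc'.2⟩)))
    obtain ⟨D, hD, hDmin⟩ := Finset.exists_min_image
      (B.powerset.filter fun D => C ⊆ D ∧ ∀ g : G, Fx g (D : Set Ω) → g • b = b) Finset.card
      ⟨B, Finset.mem_filter.2 ⟨Finset.mem_powerset.2 Finset.Subset.rfl, Finset.inter_subset_left,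
        fun g hg => by rw [hB.1 g hg, one_smul]⟩⟩
    obtain ⟨hDB, hCD, hDfix⟩ := Finset.mem_filter.1 hD
    rw [Finset.mem_powerset] at hDB
    obtain ⟨a, haD, haC⟩ : ∃ a ∈ D, a ∉ C := by
      by_contra hcon
      push Not at hcon
      exact hCb fun g hg => hDfix g fun c hc => hg c (Finset.mem_coe.2 (hcon c hc))
    have haB : a ∈ B := hDB haD
    have haB' : a ∉ B' := fun h => haC (Finset.mem_inter.2 ⟨haB, h⟩)
    have hbmove : ∃ g : G, Fx g (D.erase a : Set Ω) ∧ g • b ≠ b := by
      by_contra hcon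
      push Not at hcon
      have := hDmin (D.erase a) (Finset.mem_filter.2 ⟨Finset.mem_powerset.2 ((Finset.erase_subset _ _).trans hDB),
        fun x hx => Finset.mem_erase.2 ⟨fun e => haC (e ▸ hx), hCD hx⟩, hcon⟩)
      have := Finset.card_erase_lt_of_mem haD
      omega
    -- irredundant orderings
    set l₁ := (D.erase a).toList with hl₁
    set l₂ := (B \ D).toList with hl₂
    have hirr₁ : IrrFrom G ∅ l₁ := by
      refine irrFrom_of_indep _ _ (Finset.nodup_toList _) fun x hx => ?_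
      have hxB : x ∈ B := hDB (Finset.mem_of_mem_erase (Finset.mem_toList.1 hx))
      obtain ⟨g, hg, hgx⟩ := hB.2 x hxB
      exact ⟨g, fun c hc => absurd hc (Set.notMem_empty c), fun y hy hne => hg y (Finset.mem_coe.2
        (Finset.mem_erase.2 ⟨hne, hDB (Finset.mem_of_mem_erase (Finset.mem_toList.1 hy))⟩)), hgx⟩
    have hirr₂ : ∀ S : Set Ω, S ⊆ {b} ∪ (D : Set Ω) → IrrFrom G S l₂ := by
      intro S hS
      refine irrFrom_of_indep _ _ (Finset.nodup_toList _) fun x hx => ?_
      obtain ⟨hxB, hxD⟩ := Finset.mem_sdiff.1 (Finset.mem_toList.1 hx)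
      obtain ⟨g, hg, hgx⟩ := hB.2 x hxB
      have hgD : Fx g (D : Set Ω) := fun c hc => hg c (Finset.mem_coe.2
        (Finset.mem_erase.2 ⟨fun e => hxD (e ▸ hc), hDB hc⟩))
      refine ⟨g, fun c hc => ?_, fun y hy hne => hg y (Finset.mem_coe.2
        (Finset.mem_erase.2 ⟨hne, (Finset.mem_sdiff.1 (Finset.mem_toList.1 hy)).1⟩)), hgx⟩
      rcases hS hc with h | h
      · rw [Set.mem_singleton_iff] at h; rw [h]; exact hDfix g hgD
      · exact hgD c h
    have hfix_a : ∀ g : G, Fx g (insert b (D.erase a : Set Ω)) → g • a = a := by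
      intro g hg
      by_contra hga
      have hirr : IrrFrom G ∅ (l₁ ++ b :: a :: l₂) := by
        rw [irrFrom_append]
        refine ⟨hirr₁, ?_, ?_, hirr₂ _ ?_⟩
        · obtain ⟨g', h1, h2⟩ := hbmove
          exact ⟨g', fun c hc => h1 c (by simp [hl₁] at hc ⊢; tauto), h2⟩
        · exact ⟨g, fun c hc => hg c (by simp [hl₁] at hc ⊢; tauto), hga⟩
        · intro c hc
          simp [hl₁] at hc ⊢
          rcases hc with rfl | rfl | h
          · exact Or.inr haD
          · exact Or.inl rfl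
          · exact Or.inr h.2
      have hbase : ∀ h : G, Fx h {x | x ∈ l₁ ++ b :: a :: l₂} → h = 1 := fun h hh => hB.1 h fun c hc => hh c (by
        simp [hl₁, hl₂]
        tauto)
      obtain ⟨-, -, hmin⟩ := hP _ hirr hbase
      obtain ⟨h, hh, hhb⟩ := hmin b (by simp)
      refine hhb (hDfix h fun c hc => hh c ?_)
      have hcb : c ≠ b := fun e => hbB (e ▸ hDB hc)
      simp [hl₁, hl₂, hcb]
      tauto
    have hirr' : IrrFrom G ∅ (l₁ ++ b :: l₂) := by
      rw [irrFrom_append]
      refine ⟨hirr₁, ?_, hirr₂ _ ?_⟩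
      · obtain ⟨g', h1, h2⟩ := hbmove
        exact ⟨g', fun c hc => h1 c (by simp [hl₁] at hc ⊢; tauto), h2⟩
      · intro c hc
        simp [hl₁] at hc ⊢
        rcases hc with rfl | h
        · exact Or.inl rfl
        · exact Or.inr h.2
    have hbase' : ∀ h : G, Fx h {x | x ∈ l₁ ++ b :: l₂} → h = 1 := fun h hh => hB.1 h fun c hc => by
      by_cases hca : c = a
      · subst hca
        refine hfix_a h fun d hd => hh d ?_
        simp [hl₁, hl₂] at hd ⊢
        tauto
      · refine hh c ?_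
        simp [hl₁, hl₂]
        tauto
    obtain ⟨-, hmin'⟩ := hP _ hirr' hbase'
    have hset : (l₁ ++ b :: l₂).toFinset = insert b (B.erase a) := by
      ext x
      simp [hl₁, hl₂]
      by_cases hxb : x = b
      · simp [hxb]
      by_cases hxD : x ∈ D
      · have := hDB hxD; simp [hxb, hxD, this]
      · have : x ≠ a := fun e => hxD (e ▸ haD)
        simp [hxb, hxD, this]
    rw [hset] at hmin'
    have hlt : (B' \ insert b (B.erase a)).card < k := by
      rw [← hk]
      apply Finset.card_lt_card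
      rw [Finset.ssubset_iff_of_subset]
      · exact ⟨b, Finset.mem_sdiff.2 ⟨hbB', hbB⟩, by simp⟩
      · intro x hx
        simp at hx ⊢
        exact ⟨hx.1, fun h => hx.2.2 (fun e => haB' (e ▸ hx.1)) h⟩
    rw [ih _ hlt _ B' hmin' hB' rfl, Finset.card_insert_of_notMem (by simp [hbB]), Finset.card_erase_of_mem haB]
    have := Finset.card_pos.2 ⟨a, haB⟩
    omega

/-- Let a finite group G act on a finite set Ω. An irredundant base is a sequence of points ω₁, …, ω_t whose pointwise stabiliser is trivial and in which each ω_i is moved by some element fixing ω₁, …, ω_{i−1}. Then all irredundant bases have the same length if and only if every reordering of an irredundant base is again an irredundant base. -/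
theorem result {G Ω : Type*} [Group G] [Finite G] [MulAction G Ω] [Fintype Ω] :
    (∀ (t t' : ℕ) (f : Fin t → Ω) (f' : Fin t' → Ω), ((∀ g : G, (∀ i : Fin t, g • f i = f i) → g = 1) ∧ ∀ i : Fin t, ∃ g : G, (∀ j : Fin t, j < i → g • f j = f j) ∧ g • f i ≠ f i) → ((∀ g : G, (∀ i : Fin t', g • f' i = f' i) → g = 1) ∧ ∀ i : Fin t', ∃ g : G, (∀ j : Fin t', j < i → g • f' j = f' j) ∧ g • f' i ≠ f' i) → t = t') ↔
    (∀ (t : ℕ) (f : Fin t → Ω) (σ : Equiv.Perm (Fin t)), ((∀ g : G, (∀ i : Fin t, g • f i = f i) → g = 1) ∧ ∀ i : Fin t, ∃ g : G, (∀ j : Fin t, j < i → g • f j = f j) ∧ g • f i ≠ f i) → ((∀ g : G, (∀ i : Fin t, g • (f ∘ σ) i = (f ∘ σ) i) → g = 1) ∧ ∀ i : Fin t, ∃ g : G, (∀ j : Fin t, j < i → g • (f ∘ σ) j = (f ∘ σ) j) ∧ g • (f ∘ σ) i ≠ (f ∘ σ) i)) := by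
  classical
  constructor
  · intro hlen t f σ hf
    set g := f ∘ σ with hg
    have hbase : ∀ x : G, (∀ i, x • g i = g i) → x = 1 := fun x hx => hf.1 x fun i => by
      have := hx (σ.symm i); simpa [hg] using this
    refine ⟨hbase, ?_⟩
    let S : Finset (Fin t) := Finset.univ.filter fun i => ∃ x : G, (∀ j, j < i → x • g j = g j) ∧ x • g i ≠ g i
    let em : Fin S.card ↪o Fin t := S.orderEmbOfFin rfl
    have hS : ∀ x : G, (∀ i ∈ S, x • g i = g i) → ∀ i, x • g i = g i := by
      intro x hx i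
      induction i using WellFoundedLT.induction with
      | _ i ih =>
          by_contra hne
          exact hne (hx i (Finset.mem_filter.2 ⟨Finset.mem_univ _, x, ih, hne⟩))
    have hf' := hlen t S.card f (g ∘ em) hf ⟨fun x hx => hbase x (hS x fun i hi => by
        obtain ⟨j, rfl⟩ : i ∈ Set.range em := by rw [Finset.range_orderEmbOfFin]; exact hi
        exact hx j), fun i => by
        obtain ⟨-, x, h1, h2⟩ := Finset.mem_filter.1 (Finset.orderEmbOfFin_mem S rfl i)
        exact ⟨x, fun j hj => h1 _ (em.strictMono hj), h2⟩⟩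
    intro i
    have hSu : S = Finset.univ := Finset.eq_univ_of_card _ (by rw [Fintype.card_fin]; exact hf'.symm)
    exact (Finset.mem_filter.1 (hSu ▸ Finset.mem_univ i : i ∈ S)).2
  · intro hperm
    have hP : ∀ l : List Ω, IrrFrom G ∅ l → (∀ g : G, Fx g {x | x ∈ l} → g = 1) → l.Nodup ∧ Min G l.toFinset := by
      intro l hl hb
      have h := (irrFrom_iff ∅ l).1 hl
      have hbase : ∀ g : G, (∀ i, g • l.get i = l.get i) → g = 1 := fun g hg => hb g fun c hc => by
        obtain ⟨i, rfl⟩ := List.mem_iff_get.1 hc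
        exact hg i
      have hinj : Function.Injective l.get := by
        intro i j hij
        by_contra hne
        rcases lt_or_gt_of_ne hne with hlt | hlt
        · obtain ⟨g, -, h2, h3⟩ := h j
          exact h3 (hij ▸ h2 i hlt)
        · obtain ⟨g, -, h2, h3⟩ := h i
          exact h3 (hij.symm ▸ h2 j hlt)
      refine ⟨List.nodup_iff_injective_get.2 hinj, fun g hg => hb g fun c hc => hg c (by simpa using hc), ?_⟩
      intro b hb'
      obtain ⟨i, rfl⟩ := List.mem_iff_get.1 (List.mem_toFinset.1 hb')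
      let last : Fin l.length := ⟨l.length - 1, by have := i.2; omega⟩
      obtain ⟨-, hσ⟩ := hperm l.length l.get (Equiv.swap i last)
        ⟨hbase, fun j => by obtain ⟨g, -, h2, h3⟩ := h j; exact ⟨g, h2, h3⟩⟩
      obtain ⟨g, h2, h3⟩ := hσ last
      refine ⟨g, fun c hc => ?_, by simpa using h3⟩
      obtain ⟨hci, hcl⟩ := Finset.mem_erase.1 (Finset.mem_coe.1 hc)
      obtain ⟨j, rfl⟩ := List.mem_iff_get.1 (List.mem_toFinset.1 hcl)
      have hne : Equiv.swap i last j ≠ last := fun e => hci (by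
        have e' : j = Equiv.swap i last last := (Equiv.swap_apply_self i last j).symm.trans (congrArg _ e)
        rw [Equiv.swap_apply_right] at e'; rw [e'])
      have hlt : Equiv.swap i last j < last := lt_of_le_of_ne (by
        have h1 := (Equiv.swap i last j).2
        show (Equiv.swap i last j : ℕ) ≤ l.length - 1
        omega) hne
      simpa using h2 _ hlt
    intro t t' f f' hf hf'
    have key : ∀ (t : ℕ) (f : Fin t → Ω), ((∀ g : G, (∀ i : Fin t, g • f i = f i) → g = 1) ∧
        ∀ i : Fin t, ∃ g : G, (∀ j : Fin t, j < i → g • f j = f j) ∧ g • f i ≠ f i) →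
        Min G (List.ofFn f).toFinset ∧ (List.ofFn f).toFinset.card = t := by
      intro t f hf
      obtain ⟨hnd, hmin⟩ := hP (List.ofFn f) ((irrFrom_iff _ _).2 fun i => by
          obtain ⟨g, h1, h2⟩ := hf.2 (i.cast (List.length_ofFn))
          refine ⟨g, fun c hc => absurd hc (Set.notMem_empty c), fun j hj => ?_, by rw [List.get_ofFn]; exact h2⟩
          have := h1 (j.cast (List.length_ofFn)) hj
          rw [List.get_ofFn]; exact this)
        (fun g hg => hf.1 g fun i => hg (f i) (by simp))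
      exact ⟨hmin, by rw [List.toFinset_card_of_nodup hnd, List.length_ofFn]⟩
    obtain ⟨h1, c1⟩ := key t f hf
    obtain ⟨h2, c2⟩ := key t' f' hf'
    rw [← c1, ← c2]
    exact min_card_le hP _ _ _ h2 h1 rfl

end Cfsg.Agent.S5747
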