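import Cfsg.Statements.S5754

set_option autoImplicit false
open Cfsg

namespace Cfsg.Agent.S5754

/-- the reflection determined by an anisotropic vector, as an isometry -/
def refl {F V : Type*} [Field F] [AddCommGroup V] [Module F V] (Q : QuadraticForm F V) (d : V)
    (hd : Q d ≠ 0) : Q.IsometryEquiv Q where
  toFun x := x - ((Q d)⁻¹ * QuadraticMap.polar Q x d) • d
  map_add' x y := by
    simp only [QuadraticMap.polar_add_left, mul_add, add_smul]; abel
  map_smul' c x := by
    simp only [QuadraticMap.polar_smul_left, RingHom.id_apply, smul_sub, smul_smul, smul_eq_mul]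
    congr 2; ring
  invFun x := x - ((Q d)⁻¹ * QuadraticMap.polar Q x d) • d
  left_inv x := by
    have h : QuadraticMap.polar Q d d = 2 * Q d := by
      rw [QuadraticMap.polar_self]; simp
    simp only [QuadraticMap.polar_sub_left, QuadraticMap.polar_smul_left, h, smul_eq_mul]
    rw [sub_sub, ← add_smul, sub_eq_self]
    convert zero_smul F d using 2
    field_simp
    ring
  right_inv x := by
    have h : QuadraticMap.polar Q d d = 2 * Q d := by
      rw [QuadraticMap.polar_self]; simp
    simp only [QuadraticMap.polar_sub_left, QuadraticMap.polar_smul_left, h, smul_eq_mul]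
    rw [sub_sub, ← add_smul, sub_eq_self]
    convert zero_smul F d using 2
    field_simp
    ring
  map_app' x := by
    show Q (x - ((Q d)⁻¹ * QuadraticMap.polar Q x d) • d) = Q x
    rw [sub_eq_add_neg, ← neg_smul, QuadraticMap.map_add (⇑Q), QuadraticMap.map_smul,
      QuadraticMap.polar_smul_right]
    simp only [smul_eq_mul]
    field_simp
    ring

/-- Let V be a finite-dimensional vector space over a finite field F carrying an anisotropic quadratic form Q (Q(v) = 0 only for v = 0). Then the group of all maps v ↦ φ(v) + c, with φ an isometry of Q and c ∈ V, acts on V as a binary permutation group: given n ≥ 2 and two n-tuples u, u' of vectors such that every pair of corresponding entries of u is carried to that of u' by such a map, one such map carries u to u'. -/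
theorem result {F V : Type*} [Field F] [Finite F] [AddCommGroup V] [Module F V] [Module.Finite F V]
    (Q : QuadraticForm F V) (hQ : Q.Anisotropic) (n : ℕ) (hn : 2 ≤ n) (u u' : Fin n → V)
    (h2 : ∀ i j : Fin n, i ≠ j → ∃ (φ : Q.IsometryEquiv Q) (c : V), φ (u i) + c = u' i ∧ φ (u j) + c = u' j) :
    ∃ (φ : Q.IsometryEquiv Q) (c : V), ∀ i, φ (u i) + c = u' i := by
  let i0 : Fin n := ⟨0, by omega⟩
  have hQd : ∀ i j, Q (u i - u j) = Q (u' i - u' j) := by
    intro i j
    rcases eq_or_ne i j with rfl | h
    · simp
    obtain ⟨φ, c, h1, h2⟩ := h2 i j h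
    rw [← h1, ← h2, add_sub_add_right_eq_sub, ← map_sub, φ.map_app]
  have hp : ∀ x y : V, QuadraticMap.polar Q x y = Q x + Q y - Q (x - y) := by
    intro x y
    have h1 : Q (x - y) = Q x + Q y - QuadraticMap.polar Q x y := by
      rw [sub_eq_add_neg, QuadraticMap.map_add (⇑Q), QuadraticMap.map_neg, QuadraticMap.polar_neg_right]
      ring
    rw [h1]; ring
  suffices key : ∀ s : Finset (Fin n), ∃ φ : Q.IsometryEquiv Q,
      ∀ i ∈ s, φ (u i - u i0) = u' i - u' i0 by
    obtain ⟨φ, hφ⟩ := key Finset.univ
    refine ⟨φ, u' i0 - φ (u i0), fun i => ?_⟩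
    have := hφ i (Finset.mem_univ i)
    rw [map_sub] at this
    rw [← sub_add_cancel (u' i) (u' i0), ← this]
    abel
  intro s
  induction s using Finset.induction_on with
  | empty => exact ⟨QuadraticMap.IsometryEquiv.refl Q, by simp⟩
  | @insert a s ha ih =>
      obtain ⟨φ, hφ⟩ := ih
      set v := φ (u a - u i0) with hv
      set w := u' a - u' i0 with hw
      rcases eq_or_ne v w with hvw | hvw
      · refine ⟨φ, fun i hi => ?_⟩
        rcases Finset.mem_insert.1 hi with rfl | hi
        · exact hvw
        · exact hφ i hi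
      have hd : Q (v - w) ≠ 0 := fun h => hvw (sub_eq_zero.1 (hQ _ h))
      refine ⟨φ.trans (refl Q (v - w) hd), fun i hi => ?_⟩
      show φ (u i - u i0) - ((Q (v - w))⁻¹ * QuadraticMap.polar Q (φ (u i - u i0)) (v - w)) • (v - w) = _
      rcases Finset.mem_insert.1 hi with rfl | hi
      · have hQvw : Q v = Q w := by rw [hv, φ.map_app, hQd]
        have : QuadraticMap.polar Q v (v - w) = Q (v - w) := by
          rw [QuadraticMap.polar_sub_right, QuadraticMap.polar_self, hp v w, hQvw]
          simp; ring
        rw [← hv, this, inv_mul_cancel₀ hd, one_smul, sub_sub_cancel]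
      · have : QuadraticMap.polar Q (φ (u i - u i0)) (v - w) = 0 := by
          rw [QuadraticMap.polar_sub_right, sub_eq_zero, hv, hp, hp, ← map_sub, φ.map_app, φ.map_app, φ.map_app,
            hφ i hi, hw, sub_sub_sub_cancel_right, sub_sub_sub_cancel_right, hQd i i0, hQd a i0, hQd i a]
        rw [this, mul_zero, zero_smul, sub_zero, hφ i hi]

end Cfsg.Agent.S5754
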