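import Cfsg.Statements.S5776
import Cfsg.Agent.ResidualThree.Main
import Cfsg.Agent.ResidualThree.Bridge

set_option autoImplicit false
open Cfsg

namespace Cfsg.Agent.S5776

open Cfsg.Geo Cfsg.Agent.PrimeDim Cfsg.Agent.ResidualThree

/-- The maximal subgroups of SL_3(q) in the residual class. Let F be a finite field with q elements of characteristic p, and let H be a maximal subgroup of SL_3(F) lying in the residual class of the linear case. Then the perfect socle preimage P of H (the subgroup given by the residual-class conditions) satisfies one of: P modulo scalars is isomorphic to the simple group of order 168 (written here as PSL_3(2)) and q = p with p ≠ 2 and p ≡ 1, 2 or 4 mod 7; or P modulo scalars is isomorphic to the alternating group A_6 and either q = p with p ≡ 1 or 4 mod 15, or q = p² with p ≡ 2 or 3 mod 5 and p ≠ 3. -/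
theorem result {F : Type*} [Field F] [Fintype F] (H : Subgroup (Matrix.GeneralLinearGroup (Fin 3) F)) (hH : Cfsg.Geo.IsMaximalIn (Cfsg.Geo.specialLinear (Fin 3) F) H) (hS : Cfsg.Geo.InLinearResidualClass H) :
    ∃ (P : Subgroup (Matrix.GeneralLinearGroup (Fin 3) F)) (p : ℕ), Cfsg.Geo.IsResidualCore H P ∧ p.Prime ∧ CharP F p ∧
    ((Nonempty ((P ⧸ (Cfsg.Geo.scalars (Fin 3) F).subgroupOf P) ≃* Matrix.ProjectiveSpecialLinearGroup (Fin 3) (ZMod 2)) ∧
        Fintype.card F = p ∧ p ≠ 2 ∧ (p % 7 = 1 ∨ p % 7 = 2 ∨ p % 7 = 4)) ∨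
     (Nonempty ((P ⧸ (Cfsg.Geo.scalars (Fin 3) F).subgroupOf P) ≃* alternatingGroup (Fin 6)) ∧
        ((Fintype.card F = p ∧ (p % 15 = 1 ∨ p % 15 = 4)) ∨ (Fintype.card F = p ^ 2 ∧ p ≠ 3 ∧ (p % 5 = 2 ∨ p % 5 = 3))))) := by
  classical
  obtain ⟨P, hR, hquad, -, hherm⟩ := hS
  obtain ⟨p, hpc⟩ := CharP.exists F
  haveI : Fact p.Prime := ⟨(CharP.char_is_prime_or_zero F p).resolve_right fun e => by
    subst e
    haveI := CharP.charP_to_charZero F
    exact not_finite F⟩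
  refine ⟨P, p, hR, Fact.out, hpc, ?_⟩
  have hP := core_of_residual hR
  haveI := Small.finite_sub P
  haveI := hR.simple
  rcases hP.classify hR.no_subfield p with h | ⟨σ, G, h1, h2, h3, h4, h5, -⟩ | ⟨hp, G, h1, h2, h3⟩ | ⟨hp, hc, h⟩ |
    ⟨hp, hc, h⟩ | ⟨hp, hc, hF⟩ | ⟨-, -, -, σ, G, h1, h2, h3, h4, h5⟩
  · exact absurd (h ▸ hR.le) hH.1.not_ge
  · exact absurd (fixesForm_of_herm h1 h2 h3 h4 h5) hherm
  · exact absurd (fixesQuad_of_symm (Small.two_ne (p := p) hp) h1 h2 h3) hquad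
  · rcases h with ⟨hF, hres⟩ | ⟨hF, -, htw⟩
    · exact Or.inl ⟨iso_168 hc, by rw [← Nat.card_eq_fintype_card, hF], hp, hres⟩
    · obtain ⟨σ, G, h1, h2, h3, h4, h5⟩ := Small.herm_of_twisted (p := p) hP hF htw
      exact absurd (fixesForm_of_herm h1 h2 h3 h4 h5) hherm
  · refine Or.inr ⟨iso_360 hc, ?_⟩
    rcases h with ⟨hF, hres⟩ | ⟨hF, h3, ⟨hres, -⟩ | ⟨-, htw⟩⟩
    · exact Or.inl ⟨by rw [← Nat.card_eq_fintype_card, hF], hres⟩
    · exact Or.inr ⟨by rw [← Nat.card_eq_fintype_card, hF], h3, hres⟩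
    · obtain ⟨σ, G, h1, h2, h3, h4, h5⟩ := Small.herm_of_twisted (p := p) hP hF htw
      exact absurd (fixesForm_of_herm h1 h2 h3 h4 h5) hherm
  · refine Or.inr ⟨iso_360 hc, Or.inr ⟨?_, ?_, ?_⟩⟩
    · rw [← Nat.card_eq_fintype_card, hF, hp]; norm_num
    · omega
    · omega
  · exact absurd (fixesForm_of_herm h1 h2 h3 h4 h5) hherm

end Cfsg.Agent.S5776
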