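import Cfsg.Statements.S5778
import Cfsg.Agent.SUSmall.Extra

set_option autoImplicit false
open Cfsg

namespace Cfsg.Agent.S5778

/-- Every maximal subgroup of SU_3(q), q ≥ 3, is of one of the listed geometric types or lies in the residual class. Let F be the field with q² elements, f the standard unitary form Σ u_i v_i^q on F^3, and H a maximal subgroup of SU_3(q) (the determinant-one isometries of f, inside GL_3(F)). Then H is the intersection with SU_3(q) of one of: the stabiliser of a non-zero subspace on which f vanishes; the stabiliser of a non-degenerate 1-space; for q ≠ 5, the stabiliser of a decomposition into three mutually orthogonal non-degenerate 1-spaces; for q ≠ 3, 5, the normaliser of an adjoint-closed degree-3 subfield of the matrix algebra; a subfield group of odd prime index whose F₀-structure carries f; for q odd, q ≥ 7, a subfield group of index 2 whose F₀-structure carries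 f; for q = p ≡ 2 mod 3 prime with p ≥ 11, the normaliser of an absolutely irreducible subgroup of order 27 with centre of order 3, exponent 3 and all characteristic abelian subgroups cyclic, contained in the similarity group of f — or else H lies in the residual class of the unitary case. -/
theorem result {F : Type*} [Field F] [Fintype F] (q : ℕ) (hF : Fintype.card F = q ^ 2) (hq : 3 ≤ q) (H : Subgroup (Matrix.GeneralLinearGroup (Fin 3) F)) (hH : Cfsg.Geo.IsMaximalIn (Cfsg.GU 3 F q ⊓ Cfsg.Geo.specialLinear (Fin 3) F) H) :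
    (∃ W : Submodule F (Fin 3 → F), W ≠ ⊥ ∧ Cfsg.Geo.IsTotallySingularFor (Cfsg.hermForm 3 F q) W ∧ H = Cfsg.Geo.subspaceStabilizer W ⊓ (Cfsg.GU 3 F q ⊓ Cfsg.Geo.specialLinear (Fin 3) F)) ∨
    (∃ W : Submodule F (Fin 3 → F), W ≠ ⊥ ∧ Cfsg.Geo.IsNondegenerateOn (Cfsg.hermForm 3 F q) W ∧ 2 * Module.finrank F W < 3 ∧ H = Cfsg.Geo.subspaceStabilizer W ⊓ (Cfsg.GU 3 F q ⊓ Cfsg.Geo.specialLinear (Fin 3) F)) ∨
    (q ≠ 5 ∧ ∃ D : Fin 3 → Submodule F (Fin 3 → F), Cfsg.Geo.IsNondegenerateMDecomposition (Cfsg.hermForm 3 F q) 1 D ∧ H = Cfsg.Geo.decompositionStabilizer D ⊓ (Cfsg.GU 3 F q ⊓ Cfsg.Geo.specialLinear (Fin 3) F)) ∨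
    (q ≠ 3 ∧ q ≠ 5 ∧ ∃ K : Subalgebra F (Matrix (Fin 3) (Fin 3) F), Cfsg.Geo.IsFieldSubalgebra 3 K ∧ Cfsg.Geo.IsAdjointClosedFor (Cfsg.hermForm 3 F q) K ∧ H = Cfsg.Geo.subalgebraNormalizer K ⊓ (Cfsg.GU 3 F q ⊓ Cfsg.Geo.specialLinear (Fin 3) F)) ∨
    (∃ (F₀ : Subfield F) (r : ℕ) (P : Matrix.GeneralLinearGroup (Fin 3) F), r.Prime ∧ Odd r ∧ Fintype.card F = Nat.card F₀ ^ r ∧ Cfsg.Geo.IsFormRationalStructure (Cfsg.hermForm 3 F q) F₀ 1 P ∧ H = Cfsg.Geo.subfieldSubgroup F₀ P ⊓ (Cfsg.GU 3 F q ⊓ Cfsg.Geo.specialLinear (Fin 3) F)) ∨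
    (Odd q ∧ 7 ≤ q ∧ ∃ (F₀ : Subfield F) (P : Matrix.GeneralLinearGroup (Fin 3) F), Fintype.card F = Nat.card F₀ ^ 2 ∧ Cfsg.Geo.IsFormRationalStructure (Cfsg.hermForm 3 F q) F₀ 1 P ∧ H = Cfsg.Geo.subfieldSubgroup F₀ P ⊓ (Cfsg.GU 3 F q ⊓ Cfsg.Geo.specialLinear (Fin 3) F)) ∨
    (∃ (p : ℕ) (R : Subgroup (Matrix.GeneralLinearGroup (Fin 3) F)), p.Prime ∧ q = p ∧ p % 3 = 2 ∧ 11 ≤ p ∧ Cfsg.Geo.IsSymplecticTypeGroup 3 R ∧ Cfsg.Geo.ActsAbsolutelyIrreducibly (Cfsg.Geo.matrixSet R) ∧ R ≤ Cfsg.Geo.similarityGroup (Cfsg.hermForm 3 F q) ∧ Nat.card R = 27 ∧ Nat.card (Subgroup.center R) = 3 ∧ H = Cfsg.Geo.subgroupNormalizer R ⊓ (Cfsg.GU 3 F q ⊓ Cfsg.Geo.specialLinear (Fin 3) F)) ∨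
    Cfsg.Geo.InUnitaryResidualClass H := by
  classical
  rcases Cfsg.Agent.PrimeDim.su_three_cases (r := 3) rfl Nat.prime_three hF hq hH with h | h | ⟨⟨b, hb, hperm⟩, h⟩ |
      ⟨K, hK, hadj, hEq⟩ | h | ⟨hodd, F₀, P, hc, hrat, hEq⟩ |
      ⟨p, k, R, hp, -, hqk, hdiv, hpk, -, hX, hsymp, habs, hRU, hRsim, hcard, hcen, hEq⟩ | h
  · exact Or.inl h
  · exact Or.inr (Or.inl h)
  · refine Or.inr (Or.inr (Or.inl ⟨fun e => ?_, h⟩))
    subst e
    exact Cfsg.Agent.SUSmall.decomp_false hF hH b hb hperm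
  · refine Or.inr (Or.inr (Or.inr (Or.inl ⟨fun e => ?_, fun e => ?_, K, hK, hadj, hEq⟩)))
    · subst e
      obtain ⟨σ, hσ, hbar⟩ := Cfsg.Agent.PrimeDim.exists_bar hF
      obtain ⟨sy⟩ := Cfsg.Agent.SUSmall.exists_sys (Or.inl rfl) hF hσ
      refine Cfsg.Agent.SUSmall.field_false_aux (Or.inl rfl) hF hσ hbar sy Cfsg.Agent.SUSmall.small3
        Cfsg.Agent.SUSmall.in3_ok Cfsg.Agent.SUSmall.out3_ok Cfsg.Agent.SUSmall.cent3_ok
        Cfsg.Agent.SUSmall.x3_ok ?_ hH hK hadj (hEq ▸ inf_le_left)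
      intro h1
      have h2 := congrFun (congrFun h1 0) 1
      simp [Cfsg.Agent.SUSmall.Sys.mtx, Cfsg.Agent.SUSmall.Sys.vec, Cfsg.Agent.SUSmall.x3, sy.ev_one] at h2
    · subst e
      obtain ⟨σ, hσ, hbar⟩ := Cfsg.Agent.PrimeDim.exists_bar hF
      obtain ⟨sy⟩ := Cfsg.Agent.SUSmall.exists_sys (Or.inr rfl) hF hσ
      refine Cfsg.Agent.SUSmall.field_false_aux (Or.inr rfl) hF hσ hbar sy Cfsg.Agent.SUSmall.small5
        Cfsg.Agent.SUSmall.in5_ok Cfsg.Agent.SUSmall.out5_ok Cfsg.Agent.SUSmall.cent5_ok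
        Cfsg.Agent.SUSmall.x5_ok ?_ hH hK hadj (hEq ▸ inf_le_left)
      intro h1
      have h2 := congrFun (congrFun h1 0) 1
      simp [Cfsg.Agent.SUSmall.Sys.mtx, Cfsg.Agent.SUSmall.Sys.vec, Cfsg.Agent.SUSmall.x5] at h2
      exact sy.ev_ne_zero (by norm_num) (by norm_num) h2
  · exact Or.inr (Or.inr (Or.inr (Or.inr (Or.inl h))))
  · refine Or.inr (Or.inr (Or.inr (Or.inr (Or.inr (Or.inl ⟨hodd, ?_, F₀, P, hc, hrat, hEq⟩)))))
    by_contra hlt
    have hp : q = 3 ∨ q = 5 := by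
      obtain ⟨m, rfl⟩ := hodd
      omega
    exact Cfsg.Agent.SUSmall.subfield_false hp hF hH hc hrat hEq
  · have hk : k = 1 := by
      have h1 := Nat.le_of_dvd (by norm_num) hdiv
      rcases Nat.eq_zero_or_pos k with rfl | h
      · simp at hdiv
      · omega
    subst hk
    rw [pow_one] at hpk hqk
    refine Or.inr (Or.inr (Or.inr (Or.inr (Or.inr (Or.inr (Or.inl ⟨p, R, hp, hqk, hpk, ?_, hsymp, habs, hRsim,
      hcard, hcen, hEq⟩))))))
    by_contra hlt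
    have h5 : p = 5 := by
      have h4 : p ≠ 8 := fun e => by rw [e] at hp; norm_num at hp
      omega
    subst h5 hqk
    exact Cfsg.Agent.SUSmall.extra_false hF hH hX hRU (hEq ▸ inf_le_left)
  · exact Or.inr (Or.inr (Or.inr (Or.inr (Or.inr (Or.inr (Or.inr h))))))

end Cfsg.Agent.S5778
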