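import Cfsg.Statements.S5779
import Cfsg.Agent.ResidualThree.Main
import Cfsg.Agent.ResidualThree.Bridge
import Cfsg.Agent.ResidualThree.ThreeA7

set_option autoImplicit false
open Cfsg

namespace Cfsg.Agent.S5779

open Matrix Cfsg.Geo Cfsg.Agent.PrimeDim Cfsg.Agent.ResidualThree

/-- The maximal subgroups of SU_3(q), q ≥ 3, in the residual class. Let F be the field with q² elements and H a maximal subgroup of SU_3(q) (determinant-one isometries of the standard unitary form on F^3) lying in the residual class of the unitary case. Then q = p is prime and the perfect socle preimage P of H satisfies one of: P modulo scalars is isomorphic to the simple group of order 168 (written PSL_3(2)) and p ≡ 3, 5 or 6 mod 7 with p ≠ 5; or P modulo scalars is isomorphic to A_6 and either p ≡ 11 or 14 mod 15 or p = 5; or P modulo scalars is isomorphic to A_7 and p = 5. -/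
theorem result {F : Type*} [Field F] [Fintype F] (q : ℕ) (hF : Fintype.card F = q ^ 2) (hq : 3 ≤ q) (H : Subgroup (Matrix.GeneralLinearGroup (Fin 3) F)) (hH : Cfsg.Geo.IsMaximalIn (Cfsg.GU 3 F q ⊓ Cfsg.Geo.specialLinear (Fin 3) F) H) (hS : Cfsg.Geo.InUnitaryResidualClass H) :
    ∃ P : Subgroup (Matrix.GeneralLinearGroup (Fin 3) F), Cfsg.Geo.IsResidualCore H P ∧ q.Prime ∧
    ((Nonempty ((P ⧸ (Cfsg.Geo.scalars (Fin 3) F).subgroupOf P) ≃* Matrix.ProjectiveSpecialLinearGroup (Fin 3) (ZMod 2)) ∧ q ≠ 5 ∧ (q % 7 = 3 ∨ q % 7 = 5 ∨ q % 7 = 6)) ∨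
     (Nonempty ((P ⧸ (Cfsg.Geo.scalars (Fin 3) F).subgroupOf P) ≃* alternatingGroup (Fin 6)) ∧ (q % 15 = 11 ∨ q % 15 = 14 ∨ q = 5)) ∨
     (Nonempty ((P ⧸ (Cfsg.Geo.scalars (Fin 3) F).subgroupOf P) ≃* alternatingGroup (Fin 7)) ∧ q = 5)) := by
  classical
  obtain ⟨P, hR, hquad, -⟩ := hS
  obtain ⟨p, hpc⟩ := CharP.exists F
  haveI : Fact p.Prime := ⟨(CharP.char_is_prime_or_zero F p).resolve_right fun e => by
    subst e
    haveI := CharP.charP_to_charZero F
    exact not_finite F⟩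
  refine ⟨P, hR, ?_⟩
  have hP := core_of_residual hR
  haveI := Small.finite_sub P
  haveI := hR.simple
  obtain ⟨σ₀, hσ₀, hbar⟩ := exists_bar hF
  have hform : ∀ u v, hermForm 3 F q u v = formG σ₀ (1 : Matrix (Fin 3) (Fin 3) F) u v := fun u v => by
    simp [hermForm, formG, dotProduct, hσ₀]
  have hfix : Fixes σ₀ P 1 := fun g hg => formG_ext (σ := σ₀) fun u v => by
    rw [← formG_mulVec, ← hform, ← hform]
    exact (Subgroup.mem_inf.1 (hH.1.le (hR.le hg))).1 u v
  have h1det : (1 : Matrix (Fin 3) (Fin 3) F).det ≠ 0 := by rw [Matrix.det_one]; exact one_ne_zero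
  have htr : ∀ g ∈ P, (mat g⁻¹).trace = (mat g).trace ^ q := fun g hg => by
    rw [trace_of_fixes h1det hfix hg, hσ₀]
  obtain ⟨k, -, hk⟩ := FiniteField.card F p
  have hqp : ∀ m, Nat.card F = p ^ m → m ≠ 1 ∧ (m = 2 → q = p) := fun m hm => by
    rw [Nat.card_eq_fintype_card, hF] at hm
    refine ⟨fun e => ?_, fun e => ?_⟩
    · rw [e, pow_one] at hm
      exact (Nat.Prime.not_prime_pow (le_refl 2)) (hm.symm ▸ (Fact.out : p.Prime))
    · rw [e] at hm
      exact Nat.pow_left_injective two_ne_zero hm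
  rcases hP.classify hR.no_subfield p with h | ⟨σ, G, h1, h2, h3, h4, h5, h6⟩ | ⟨hp, G, h1, h2, h3⟩ | ⟨hp, hc, h⟩ |
    ⟨hp, hc, h⟩ | ⟨hp, hc, hF4⟩ | ⟨hp, hF25, hc, -⟩
  · exact absurd (inf_le_right.trans (h ▸ hR.le)) hH.1.not_ge
  · obtain rfl : σ = σ₀ := RingEquiv.ext fun a => by rw [invol_eq_pow hF h1 h2, hσ₀]
    obtain ⟨c, rfl⟩ := unique_form hP.abs h1det hfix h5
    refine absurd (fun g hg => hR.le (h6 g ?_ ?_)) hH.1.not_ge
    · exact congrArg Units.val (MonoidHom.mem_ker.1 (Subgroup.mem_inf.1 hg).2)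
    · rw [act_smul]
      congr 1
      refine formG_ext (σ := σ) fun u v => ?_
      rw [← formG_mulVec, ← hform, ← hform]
      exact (Subgroup.mem_inf.1 hg).1 u v
  · exact absurd (fixesQuad_of_symm (Small.two_ne (p := p) hp) h1 h2 h3) hquad
  · rcases h with ⟨hF', -⟩ | ⟨hF', hres, -⟩
    · exact absurd rfl (hqp 1 (by rw [hF', pow_one])).1
    obtain rfl := (hqp 2 hF').2 rfl
    refine ⟨Fact.out, Or.inl ⟨iso_168 hc, ?_, hres⟩⟩
    rintro rfl
    exact not_maximal_168_five hF hH hR hc fun ⟨G, h1, h2, h3⟩ =>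
      hquad (fixesQuad_of_symm (Small.two_ne (p := 5) hp) h1 h2 h3)
  · rcases h with ⟨hF', -⟩ | ⟨hF', -, h⟩
    · exact absurd rfl (hqp 1 (by rw [hF', pow_one])).1
    obtain rfl := (hqp 2 hF').2 rfl
    refine ⟨Fact.out, Or.inr (Or.inl ⟨iso_360 hc, ?_⟩)⟩
    rcases h with ⟨-, g, hg, hne⟩ | ⟨hres, -⟩
    · exact absurd (htr g hg) hne
    · exact hres
  · exfalso
    rw [Nat.card_eq_fintype_card, hF] at hF4
    nlinarith
  · obtain rfl : q = 5 := by
      rw [Nat.card_eq_fintype_card, hF] at hF25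
      exact Nat.pow_left_injective two_ne_zero (hF25.trans (by norm_num))
    exact ⟨by norm_num, Or.inr (Or.inr ⟨iso_2520 hc, rfl⟩)⟩

end Cfsg.Agent.S5779
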