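import Cfsg.Statements.S5781
import Cfsg.Agent.Asch.LinearMax
import Cfsg.Agent.Asch.FourSmall

set_option autoImplicit false
open Cfsg

namespace Cfsg.Agent.S5781

/-- Every maximal subgroup of SL_4(q) is of one of the listed geometric types or lies in the residual class. Let F be a finite field with q elements and H a maximal subgroup of SL_4(F) (inside GL_4(F)). Then H is the intersection with SL_4(F) of one of: the stabiliser of a proper non-zero subspace; for q ≥ 7, the stabiliser of a decomposition into four independent lines; for q ≥ 4, the stabiliser of a decomposition into two independent planes; the normaliser of a degree-2 subfield of the matrix algebra; a subfield group for a subfield F₀ with |F| = |F₀|^r, r prime; for q = p ≡ 1 mod 4 prime, the normaliser of an absolutely irreducible 2-subgroup R of exponent 4 with centre of order 4, all of whose characteristic abelian subgroups are cyclic, of order 2^(2+2m) for some m (here |R| = 64), with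 4 dividing p − 1; for q odd, the similarity group of a non-degenerate quadratic form; the similarity group of a non-degenerate symplectic form; the similarity group of a non-degenerate unitary form — or else H lies in the residual class of the linear case. -/
theorem result {F : Type*} [Field F] [Fintype F] (H : Subgroup (Matrix.GeneralLinearGroup (Fin 4) F)) (hH : Cfsg.Geo.IsMaximalIn (Cfsg.Geo.specialLinear (Fin 4) F) H) :
    (∃ W : Submodule F (Fin 4 → F), W ≠ ⊥ ∧ W ≠ ⊤ ∧ H = Cfsg.Geo.subspaceStabilizer W ⊓ Cfsg.Geo.specialLinear (Fin 4) F) ∨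
    (7 ≤ Fintype.card F ∧ ∃ D : Fin 4 → Submodule F (Fin 4 → F), Cfsg.Geo.IsMDecomposition 1 D ∧ H = Cfsg.Geo.decompositionStabilizer D ⊓ Cfsg.Geo.specialLinear (Fin 4) F) ∨
    (4 ≤ Fintype.card F ∧ ∃ D : Fin 2 → Submodule F (Fin 4 → F), Cfsg.Geo.IsMDecomposition 2 D ∧ H = Cfsg.Geo.decompositionStabilizer D ⊓ Cfsg.Geo.specialLinear (Fin 4) F) ∨
    (∃ K : Subalgebra F (Matrix (Fin 4) (Fin 4) F), Cfsg.Geo.IsFieldSubalgebra 2 K ∧ H = Cfsg.Geo.subalgebraNormalizer K ⊓ Cfsg.Geo.specialLinear (Fin 4) F) ∨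
    (∃ (F₀ : Subfield F) (r : ℕ) (P : Matrix.GeneralLinearGroup (Fin 4) F), r.Prime ∧ Fintype.card F = Nat.card F₀ ^ r ∧ H = Cfsg.Geo.subfieldSubgroup F₀ P ⊓ Cfsg.Geo.specialLinear (Fin 4) F) ∨
    (∃ (p : ℕ) (R : Subgroup (Matrix.GeneralLinearGroup (Fin 4) F)), p.Prime ∧ Fintype.card F = p ∧ p % 4 = 1 ∧ Cfsg.Geo.IsLinearSymplecticTypeData 2 R ∧ H = Cfsg.Geo.subgroupNormalizer R ⊓ Cfsg.Geo.specialLinear (Fin 4) F) ∨
    (Odd (Fintype.card F) ∧ ∃ Q : (Fin 4 → F) → F, Cfsg.Geo.IsNondegenerateQuadraticForm Q ∧ H = Cfsg.Geo.quadSimilarityGroup Q ⊓ Cfsg.Geo.specialLinear (Fin 4) F) ∨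
    (∃ f : (Fin 4 → F) → (Fin 4 → F) → F, Cfsg.Geo.IsSymplecticForm f ∧ H = Cfsg.Geo.similarityGroup f ⊓ Cfsg.Geo.specialLinear (Fin 4) F) ∨
    (∃ (σ : F ≃+* F) (f : (Fin 4 → F) → (Fin 4 → F) → F), Cfsg.Geo.IsUnitaryForm σ f ∧ H = Cfsg.Geo.similarityGroup f ⊓ Cfsg.Geo.specialLinear (Fin 4) F) ∨
    Cfsg.Geo.InLinearResidualClass H := by
  classical
  have hq1 := Fintype.one_lt_card (α := F)
  rcases Cfsg.Agent.Asch.linear_max (by norm_num) hH with h | ⟨t, m, D, htm, ht, h1, h2, hD, he⟩ | ⟨r, K, hr, hdvd, hK, he⟩ |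
    ⟨d, k, e, P, hdk, hd, hlt, hex, he⟩ | h | ⟨r, m, R, hr, hn, hq2, hq3, hR, he⟩ | ⟨m, t, e, P, hmt, hm, ht, he⟩ |
    h | ⟨-, h⟩ | h | h
  · exact Or.inl h
  · have hm4 : m < 4 := by have := hD.pos; nlinarith
    have hm0 := hD.pos
    interval_cases m
    · obtain rfl : t = 4 := by omega
      by_cases h7 : 7 ≤ Fintype.card F
      · exact Or.inr (Or.inl ⟨h7, D, hD, he⟩)
      exfalso
      have h5 : Fintype.card F = 5 := by
        obtain ⟨p, k, hp, hpk⟩ : ∃ p k, Nat.Prime p ∧ Fintype.card F = p ^ k := by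
          obtain ⟨p, k, hp, -, -, hn⟩ := Cfsg.Agent.PrimeDim.prime_card_pow (F := F)
          exact ⟨p, k, hp, by rw [← Nat.card_eq_fintype_card]; exact hn⟩
        have hne6 : Fintype.card F ≠ 6 := fun h6 => by
          have hdvd2 : 2 ∣ p ^ k := hpk ▸ h6 ▸ (by norm_num : 2 ∣ 6)
          have hdvd3 : 3 ∣ p ^ k := hpk ▸ h6 ▸ (by norm_num : 3 ∣ 6)
          have e2 := (Nat.prime_dvd_prime_iff_eq Nat.prime_two hp).1 (Nat.prime_two.dvd_of_dvd_pow hdvd2)
          have e3 := (Nat.prime_dvd_prime_iff_eq Nat.prime_three hp).1 (Nat.prime_three.dvd_of_dvd_pow hdvd3)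
          omega
        have := h1
        omega
      obtain ⟨K, hK1, hK2⟩ := Cfsg.Agent.Asch.lines_five h5 hD
      rw [← he] at hK1
      rcases hH.2 K hK1.le hK2.le with h | h
      · exact hK1.ne h.symm
      · exact hK2.ne h
    · obtain rfl : t = 2 := by omega
      by_cases h4 : 4 ≤ Fintype.card F
      · exact Or.inr (Or.inr (Or.inl ⟨h4, D, hD, he⟩))
      have h3 : Fintype.card F = 3 := by omega
      rcases Cfsg.Agent.Asch.max_of_sim (by norm_num) hH
        (Cfsg.Agent.Asch.planes_three hD hH.1.le (he ▸ inf_le_left) h3) with h | ⟨-, h⟩ | h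
      · exact Or.inr (Or.inr (Or.inr (Or.inr (Or.inr (Or.inr (Or.inl h))))))
      · exact Or.inr (Or.inr (Or.inr (Or.inr (Or.inr (Or.inr (Or.inr (Or.inl h)))))))
      · exact Or.inr (Or.inr (Or.inr (Or.inr (Or.inr (Or.inr (Or.inr (Or.inr (Or.inl h))))))))
    · omega
  · have h4 : r ≤ 4 := Nat.le_of_dvd (by norm_num) hdvd
    have := hr.two_le
    interval_cases r
    · exact Or.inr (Or.inr (Or.inr (Or.inl ⟨K, hK, he⟩)))
    · norm_num at hdvd
    · norm_num at hr
  · have : d * d < d * k := (Nat.mul_lt_mul_left (by omega)).2 hlt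
    nlinarith
  · exact Or.inr (Or.inr (Or.inr (Or.inr (Or.inl h))))
  · have hrm : r ≤ 4 := by rw [hn]; exact Nat.le_self_pow (fun h => by rw [h, pow_zero] at hn; omega) r
    have := hr.two_le
    interval_cases r
    · obtain ⟨p, hp, hcard, hmod⟩ := hq2 rfl
      exact Or.inr (Or.inr (Or.inr (Or.inr (Or.inr (Or.inl ⟨p, R, hp, hcard, hmod, hR, he⟩)))))
    · exfalso
      have h3 : 3 ∣ 3 ^ m := dvd_pow_self 3 fun h => by rw [h, pow_zero] at hn; omega
      rw [← hn] at h3
      omega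
    · norm_num at hr
  · exfalso
    have h1 : 3 ^ 2 ≤ m ^ t := le_trans (Nat.pow_le_pow_right (by norm_num) ht) (Nat.pow_le_pow_left hm t)
    omega
  · exact Or.inr (Or.inr (Or.inr (Or.inr (Or.inr (Or.inr (Or.inl h))))))
  · exact Or.inr (Or.inr (Or.inr (Or.inr (Or.inr (Or.inr (Or.inr (Or.inl h)))))))
  · exact Or.inr (Or.inr (Or.inr (Or.inr (Or.inr (Or.inr (Or.inr (Or.inr (Or.inl h))))))))
  · exact Or.inr (Or.inr (Or.inr (Or.inr (Or.inr (Or.inr (Or.inr (Or.inr (Or.inr h))))))))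

end Cfsg.Agent.S5781
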