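import Cfsg.Statements.S5784
import Cfsg.Agent.Asch.UnitMax
import Cfsg.Agent.Asch.UnitSixFour
import Cfsg.Agent.Asch.UnitFourPair
import Cfsg.Agent.Asch.UnitFourMono

set_option autoImplicit false
open Cfsg

namespace Cfsg.Agent.S5784

open Cfsg.Agent.Asch

/-- Every maximal subgroup of SU_4(q) is of one of the listed geometric types or lies in the residual class. Let F be the field with q² elements, f the standard unitary form Σ u_i v_i^q on F^4, and H a maximal subgroup of SU_4(q) (inside GL_4(F)). Then H is the intersection with SU_4(q) of one of: the stabiliser of a non-zero subspace on which f vanishes; the stabiliser of a non-degenerate 1-space; for q ≠ 3, the stabiliser of a decomposition into four mutually orthogonal non-degenerate 1-spaces; for q ≥ 3, of a decomposition into two orthogonal non-degenerate 2-spaces; for q ≥ 4, of a decomposition into two totally isotropic 2-spaces; a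 subfield group of odd prime index whose F₀-structure carries f; a subfield group of index 2 whose F₀-structure carries ζ f, vanishing on pairs (u, u), for some non-zero ζ with ζ + ζ^q = 0; for q odd, a subfield group of index 2 whose F₀-structure carries f; for q = p ≡ 3 mod 4 prime, the normaliser of an absolutely irreducible symplectic-type 2-group of exponent 4, order 64 and centre of order 4 inside the similarity group of f — or else H lies in the residual class of the unitary case. -/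
theorem result {F : Type*} [Field F] [Fintype F] (q : ℕ) (hF : Fintype.card F = q ^ 2) (H : Subgroup (Matrix.GeneralLinearGroup (Fin 4) F)) (hH : Cfsg.Geo.IsMaximalIn (Cfsg.GU 4 F q ⊓ Cfsg.Geo.specialLinear (Fin 4) F) H) :
    (∃ W : Submodule F (Fin 4 → F), W ≠ ⊥ ∧ Cfsg.Geo.IsTotallySingularFor (Cfsg.hermForm 4 F q) W ∧ H = Cfsg.Geo.subspaceStabilizer W ⊓ (Cfsg.GU 4 F q ⊓ Cfsg.Geo.specialLinear (Fin 4) F)) ∨
    (∃ W : Submodule F (Fin 4 → F), W ≠ ⊥ ∧ Cfsg.Geo.IsNondegenerateOn (Cfsg.hermForm 4 F q) W ∧ 2 * Module.finrank F W < 4 ∧ H = Cfsg.Geo.subspaceStabilizer W ⊓ (Cfsg.GU 4 F q ⊓ Cfsg.Geo.specialLinear (Fin 4) F)) ∨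
    (q ≠ 3 ∧ ∃ D : Fin 4 → Submodule F (Fin 4 → F), Cfsg.Geo.IsNondegenerateMDecomposition (Cfsg.hermForm 4 F q) 1 D ∧ H = Cfsg.Geo.decompositionStabilizer D ⊓ (Cfsg.GU 4 F q ⊓ Cfsg.Geo.specialLinear (Fin 4) F)) ∨
    (3 ≤ q ∧ ∃ D : Fin 2 → Submodule F (Fin 4 → F), Cfsg.Geo.IsNondegenerateMDecomposition (Cfsg.hermForm 4 F q) 2 D ∧ H = Cfsg.Geo.decompositionStabilizer D ⊓ (Cfsg.GU 4 F q ⊓ Cfsg.Geo.specialLinear (Fin 4) F)) ∨
    (4 ≤ q ∧ ∃ D : Fin 2 → Submodule F (Fin 4 → F), Cfsg.Geo.IsMDecomposition 2 D ∧ (∀ i, Cfsg.Geo.IsTotallySingularFor (Cfsg.hermForm 4 F q) (D i)) ∧ H = Cfsg.Geo.decompositionStabilizer D ⊓ (Cfsg.GU 4 F q ⊓ Cfsg.Geo.specialLinear (Fin 4) F)) ∨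
    (∃ (F₀ : Subfield F) (r : ℕ) (P : Matrix.GeneralLinearGroup (Fin 4) F), r.Prime ∧ Odd r ∧ Fintype.card F = Nat.card F₀ ^ r ∧ Cfsg.Geo.IsFormRationalStructure (Cfsg.hermForm 4 F q) F₀ 1 P ∧ H = Cfsg.Geo.subfieldSubgroup F₀ P ⊓ (Cfsg.GU 4 F q ⊓ Cfsg.Geo.specialLinear (Fin 4) F)) ∨
    (∃ (F₀ : Subfield F) (P : Matrix.GeneralLinearGroup (Fin 4) F) (ζ : F), Fintype.card F = Nat.card F₀ ^ 2 ∧ ζ ≠ 0 ∧ ζ + ζ ^ q = 0 ∧ Cfsg.Geo.IsFormRationalStructure (Cfsg.hermForm 4 F q) F₀ ζ P ∧ (∀ u : Fin 4 → F, (∀ i, u i ∈ F₀) → (Cfsg.hermForm 4 F q) (Matrix.mulVec (P : Matrix (Fin 4) (Fin 4) F) u) (Matrix.mulVec (P : Matrix (Fin 4) (Fin 4) F) u) = 0) ∧ H = Cfsg.Geo.subfieldSubgroup F₀ P ⊓ (Cfsg.GU 4 F q ⊓ Cfsg.Geo.specialLinear (Fin 4) F)) ∨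
    (Odd q ∧ ∃ (F₀ : Subfield F) (P : Matrix.GeneralLinearGroup (Fin 4) F), Fintype.card F = Nat.card F₀ ^ 2 ∧ Cfsg.Geo.IsFormRationalStructure (Cfsg.hermForm 4 F q) F₀ 1 P ∧ H = Cfsg.Geo.subfieldSubgroup F₀ P ⊓ (Cfsg.GU 4 F q ⊓ Cfsg.Geo.specialLinear (Fin 4) F)) ∨
    (∃ (p : ℕ) (R : Subgroup (Matrix.GeneralLinearGroup (Fin 4) F)), p.Prime ∧ q = p ∧ p % 4 = 3 ∧ Cfsg.Geo.IsSymplecticTypeGroup 2 R ∧ Cfsg.Geo.ActsAbsolutelyIrreducibly (Cfsg.Geo.matrixSet R) ∧ R ≤ Cfsg.Geo.similarityGroup (Cfsg.hermForm 4 F q) ∧ Nat.card R = 64 ∧ Nat.card (Subgroup.center R) = 4 ∧ H = Cfsg.Geo.subgroupNormalizer R ⊓ (Cfsg.GU 4 F q ⊓ Cfsg.Geo.specialLinear (Fin 4) F)) ∨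
    Cfsg.Geo.InUnitaryResidualClass H := by
  classical
  obtain ⟨σ, hσ, hbar⟩ := Cfsg.Agent.PrimeDim.exists_bar hF
  have hf : Cfsg.hermForm 4 F q = Cfsg.Agent.PrimeDim.formG σ (1 : Matrix (Fin 4) (Fin 4) F) := hermForm_eq_formG hσ
  have hA := hasRoots_su (n := 4) hbar hσ
  have hAf : Cfsg.Agent.PrimeDim.Fixes σ (Cfsg.GU 4 F q ⊓ Cfsg.Geo.specialLinear (Fin 4) F) (1 : Matrix (Fin 4) (Fin 4) F) :=
    fun g hg => (mem_GU_iff_act hσ g).1 hg.1
  have hq2 := root_two_le hF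
  have hfix : Nat.card (fixF σ) = q := Nat.pow_left_injective two_ne_zero ((card_fixF hbar).symm.trans hF)
  have six : ∀ (p : ℕ) (R : Subgroup (Matrix.GeneralLinearGroup (Fin 4) F)), p.Prime → q = p → p % 4 = 3 →
      Cfsg.Geo.IsSymplecticTypeGroup 2 R → Cfsg.Geo.ActsAbsolutelyIrreducibly (Cfsg.Geo.matrixSet R) →
      R ≤ Cfsg.Geo.similarityGroup (Cfsg.hermForm 4 F q) →
      (∀ x ∈ R, ∀ y ∈ R, x * y * x⁻¹ * y⁻¹ ∈ Cfsg.Geo.scalars (Fin 4) F) →
      H ≤ Cfsg.Geo.subgroupNormalizer R →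
      H = Cfsg.Geo.subgroupNormalizer R ⊓ (Cfsg.GU 4 F q ⊓ Cfsg.Geo.specialLinear (Fin 4) F) := by
    intro p R hp hqp hp4 hst habs hsim hcomm hle
    have hodd : Odd (Fintype.card F) := (odd_root hF).2 (Nat.odd_iff.2 (by omega))
    obtain ⟨I, hI⟩ : IsSquare (-1 : F) := by
      refine FiniteField.isSquare_neg_one_iff.2 ?_
      rw [hF, Nat.pow_mod, hqp, hp4]
      norm_num
    refine eq_of_max hH hle (root_not_six_four hbar hA (Fintype.card_fin 4)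
      (Cfsg.Agent.PrimeDim.two_ne_zero_of_odd hodd) (fun s hs => ?_) hst.pGroup (fun x hx => ?_) habs
      (hf ▸ hsim) hcomm)
    · rcases mul_self_eq_one_iff.1 hs with rfl | rfl
      · exact ⟨1, one_mul 1⟩
      · exact ⟨I, hI.symm⟩
    · have h1 := Monoid.pow_exponent_eq_one (⟨x, hx⟩ : R)
      rw [hst.exponent_eq] at h1
      exact congrArg Subtype.val h1
  have lines : ∀ D : Fin 4 → Submodule F (Fin 4 → F),
      Cfsg.Geo.IsNondegenerateMDecomposition (Cfsg.hermForm 4 F q) 1 D →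
      H ≤ Cfsg.Geo.decompositionStabilizer D →
      (q ≠ 3 ∧ ∃ D : Fin 4 → Submodule F (Fin 4 → F), Cfsg.Geo.IsNondegenerateMDecomposition (Cfsg.hermForm 4 F q) 1 D ∧
        H = Cfsg.Geo.decompositionStabilizer D ⊓ (Cfsg.GU 4 F q ⊓ Cfsg.Geo.specialLinear (Fin 4) F)) ∨
      ∃ (p : ℕ) (R : Subgroup (Matrix.GeneralLinearGroup (Fin 4) F)), p.Prime ∧ q = p ∧ p % 4 = 3 ∧
        Cfsg.Geo.IsSymplecticTypeGroup 2 R ∧ Cfsg.Geo.ActsAbsolutelyIrreducibly (Cfsg.Geo.matrixSet R) ∧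
        R ≤ Cfsg.Geo.similarityGroup (Cfsg.hermForm 4 F q) ∧ Nat.card R = 64 ∧ Nat.card (Subgroup.center R) = 4 ∧
        H = Cfsg.Geo.subgroupNormalizer R ⊓ (Cfsg.GU 4 F q ⊓ Cfsg.Geo.specialLinear (Fin 4) F) := by
    intro D hD hle
    by_cases hq : q = 3
    · obtain ⟨R, hst, habs, hsim, hcard, hz, hcomm, hn⟩ := lines_four_member hbar (by rw [hF, hq]; norm_num) (hf ▸ hD)
        (fun g hg => hAf g (hH.1.le hg)) (hH.1.le.trans inf_le_right) hle
      exact Or.inr ⟨3, R, Nat.prime_three, hq, rfl, hst, habs, hf.symm ▸ hsim, hcard, hz,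
        six 3 R Nat.prime_three hq rfl hst habs (hf.symm ▸ hsim) hcomm hn⟩
    · exact Or.inl ⟨hq, D, hD, eq_of_max hH hle (root_not_frame hbar hA (by simp) (hf ▸ hD))⟩
  rcases unit_max le_rfl hF hH with hmem | hres
  swap
  · exact Or.inr (Or.inr (Or.inr (Or.inr (Or.inr (Or.inr (Or.inr (Or.inr (Or.inr hres))))))))
  obtain ⟨W, hb, hts, he⟩ | ⟨W, hb, hnd, hlt, he⟩ | ⟨t, k, D, hD, ht, htk, hq, he⟩ | ⟨k, D, hk, hD, hts, he⟩ |
    ⟨F₀, r, P, hr, ho, hc, hrat, he⟩ | ⟨F₀, P, ζ, hev, hc, hζ, hsk, hrat, halt, he⟩ | ⟨F₀, P, hq, hc, hrat, he⟩ |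
    ⟨r, K, hr, ho, hdvd, hK, hadj, he⟩ |
    ⟨R, r, p, e, m, hst, habs, hsim, hp, hrp, hqp, hdiv, hmin, hm, hshape, hcomm, -, hle⟩ |
    ⟨d, k, e, P, f₁, f₂, hd, hdk, hprod, hq, hf₁, hf₂, hst, he⟩ |
    ⟨m, t, e, P, f₁, hm, ht, hex, hmt, hf₁, hst, -, -⟩ := hmem
  · exact Or.inl ⟨W, hb, hts, he⟩
  · exact Or.inr (Or.inl ⟨W, hb, hnd, hlt, he⟩)
  · have hk : k ≤ 4 := by nlinarith
    rcases (show (k = 1 ∧ t = 4) ∨ (k = 2 ∧ t = 2) by interval_cases k <;> omega) with ⟨rfl, rfl⟩ | ⟨rfl, rfl⟩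
    · rcases lines D hD (he.le.trans inf_le_left) with h | h
      · exact Or.inr (Or.inr (Or.inl h))
      · exact Or.inr (Or.inr (Or.inr (Or.inr (Or.inr (Or.inr (Or.inr (Or.inr (Or.inl h))))))))
    · by_cases hq3 : 3 ≤ q
      · exact Or.inr (Or.inr (Or.inr (Or.inl ⟨hq3, D, hD, he⟩)))
      have hq' : q = 2 := by omega
      have h4 : Fintype.card F = 4 := by rw [hF, hq']; norm_num
      have hfu : Cfsg.Geo.IsUnitaryFormPow 2 (Cfsg.Agent.PrimeDim.formG σ (1 : Matrix (Fin 4) (Fin 4) F)) := by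
        rw [← hf, hq']; exact NotMax.hermForm_unitaryPow h4
      obtain ⟨D', hD', hle'⟩ := planes_refine h4 hfu (t := 2) (Fintype.card_fin 4) hAf (hf ▸ hD)
      exact Or.inr (Or.inr (Or.inl ⟨by omega, D', hf.symm ▸ hD', eq_of_max hH (he.le.trans hle')
        (root_not_frame hbar hA (by simp) hD')⟩))
  · obtain rfl : k = 2 := by omega
    by_cases hq4 : 4 ≤ q
    · exact Or.inr (Or.inr (Or.inr (Or.inr (Or.inl ⟨hq4, D, hD, hts, he⟩))))
    obtain ⟨P, ζ, hζ, hsk, hrat, halt, hle⟩ := pair_four_rational hbar (by omega) (Fintype.card_fin 4) hD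
      (fun i => hf ▸ hts i) (fun g hg => hAf g (hH.1.le hg)) (hH.1.le.trans inf_le_right) (he.le.trans inf_le_left)
    exact Or.inr (Or.inr (Or.inr (Or.inr (Or.inr (Or.inr (Or.inl ⟨fixF σ, P, ζ, card_fixF hbar, hζ,
      by rw [← hσ]; exact hsk, hf.symm ▸ hrat, hf.symm ▸ halt,
      eq_of_max hH hle (root_not_subfield hbar hA (by simp) (fixF_ne_top hbar) P)⟩))))))
  · exact Or.inr (Or.inr (Or.inr (Or.inr (Or.inr (Or.inl ⟨F₀, r, P, hr, ho, hc, hrat, he⟩)))))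
  · exact Or.inr (Or.inr (Or.inr (Or.inr (Or.inr (Or.inr (Or.inl ⟨F₀, P, ζ, hc, hζ, hsk, hrat, halt, he⟩))))))
  · exact Or.inr (Or.inr (Or.inr (Or.inr (Or.inr (Or.inr (Or.inr (Or.inl ⟨hq, F₀, P, hc, hrat, he⟩)))))))
  · exfalso
    have hr' : r ≤ 4 := Nat.le_of_dvd (by norm_num) hdvd
    interval_cases r <;> first | (norm_num at hdvd; done) | (norm_num at hr; done) | (exact absurd ho (by decide))
  · have hrP := hst.prime
    obtain ⟨hr', hm'⟩ : r ≤ 4 ∧ m ≤ 2 := by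
      have hr2 := hst.prime.two_le
      refine ⟨?_, ?_⟩
      · rw [hm]; exact Nat.le_self_pow (by rintro rfl; simp at hm) r
      · by_contra hcon
        have h1 := Nat.pow_le_pow_left hr2 m
        have h2 := Nat.pow_le_pow_right (show 0 < 2 by norm_num) (show 3 ≤ m by omega)
        omega
    rcases (show r = 2 ∧ m = 2 by
      interval_cases m <;> interval_cases r <;> first | exact ⟨rfl, rfl⟩ | (norm_num at hm; done) | (norm_num at hrP; done)) with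
      ⟨rfl, rfl⟩
    rcases hshape with ⟨h1, -⟩ | ⟨-, rfl, hz, hR⟩
    · exact absurd h1 (by decide)
    obtain rfl : q = p := Nat.pow_left_injective two_ne_zero hqp
    have h4 := hmin 1 one_pos one_lt_two
    rw [hz, pow_one] at h4
    have hp4 : q % 4 = 3 := by
      rcases hp.eq_two_or_odd with h | h
      · exact absurd h.symm hrp
      · omega
    exact Or.inr (Or.inr (Or.inr (Or.inr (Or.inr (Or.inr (Or.inr (Or.inr (Or.inl ⟨q, R, hp, rfl, hp4, hst, habs,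
      hsim, by simpa using hR, hz, six q R hp rfl hp4 hst habs hsim hcomm hle⟩))))))))
  · exfalso
    nlinarith
  · exfalso
    have h1 := Nat.pow_le_pow_left hm t
    have h2 := Nat.pow_le_pow_right (show 0 < 3 by norm_num) ht
    omega

end Cfsg.Agent.S5784
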