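import Cfsg.Statements.S5787
import Cfsg.Agent.Asch.SpFourThree
import Cfsg.Agent.Asch.SpFourUnitary

set_option autoImplicit false
open Cfsg

namespace Cfsg.Agent.S5787

open Cfsg.Agent.Asch

/-- Every maximal subgroup of Sp_4(q), q odd, is of one of the listed geometric types or lies in the residual class. Let F be a finite field of odd order q, f the standard alternating form on F^4 (coordinates Fin 2 ⊕ Fin 2), and H a maximal subgroup of the isometry group Sp_4(F) (inside GL_4(F)). Then H is the intersection with Sp_4(F) of one of: the stabiliser of a non-zero totally isotropic subspace; the stabiliser of a decomposition into two orthogonal non-degenerate 2-spaces; for q ≥ 5, of a decomposition into two totally isotropic 2-spaces; the normaliser of a degree-2 subfield K of the matrix algebra, self-adjoint with f(k v, v) = 0; for q ≥ 5, the normaliser of a degree-2 subfield closed under adjoints but not self-adjoint;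 a subfield group whose F₀-structure carries a non-zero multiple of f, |F| = |F₀|^r with r prime; for q = p prime, the normaliser of an absolutely irreducible symplectic-type 2-group of exponent 4, order 32, centre of order 2 and minus type inside the similarity group of f — or else H lies in the residual class of the symplectic case. -/
theorem result {F : Type*} [Field F] [Fintype F] (hodd : Odd (Fintype.card F)) (H : Subgroup (Matrix.GeneralLinearGroup (Fin 2 ⊕ Fin 2) F)) (hH : Cfsg.Geo.IsMaximalIn (Cfsg.spGL 2 F) H) :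
    (∃ W : Submodule F (Fin 2 ⊕ Fin 2 → F), W ≠ ⊥ ∧ Cfsg.Geo.IsTotallySingularFor (Cfsg.sympForm 2 F) W ∧ H = Cfsg.Geo.subspaceStabilizer W ⊓ Cfsg.spGL 2 F) ∨
    (∃ D : Fin 2 → Submodule F (Fin 2 ⊕ Fin 2 → F), Cfsg.Geo.IsNondegenerateMDecomposition (Cfsg.sympForm 2 F) 2 D ∧ H = Cfsg.Geo.decompositionStabilizer D ⊓ Cfsg.spGL 2 F) ∨
    (5 ≤ Fintype.card F ∧ ∃ D : Fin 2 → Submodule F (Fin 2 ⊕ Fin 2 → F), Cfsg.Geo.IsMDecomposition 2 D ∧ (∀ i, Cfsg.Geo.IsTotallySingularFor (Cfsg.sympForm 2 F) (D i)) ∧ H = Cfsg.Geo.decompositionStabilizer D ⊓ Cfsg.spGL 2 F) ∨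
    (∃ K : Subalgebra F (Matrix (Fin 2 ⊕ Fin 2) (Fin 2 ⊕ Fin 2) F), Cfsg.Geo.IsFieldSubalgebra 2 K ∧ Cfsg.Geo.IsSelfAdjointFor (Cfsg.sympForm 2 F) K ∧ (∀ k ∈ K, ∀ v : (Fin 2 ⊕ Fin 2 → F), (Cfsg.sympForm 2 F) (Matrix.mulVec k v) v = 0) ∧ H = Cfsg.Geo.subalgebraNormalizer K ⊓ Cfsg.spGL 2 F) ∨
    (5 ≤ Fintype.card F ∧ ∃ K : Subalgebra F (Matrix (Fin 2 ⊕ Fin 2) (Fin 2 ⊕ Fin 2) F), Cfsg.Geo.IsFieldSubalgebra 2 K ∧ Cfsg.Geo.IsAdjointClosedFor (Cfsg.sympForm 2 F) K ∧ ¬ Cfsg.Geo.IsSelfAdjointFor (Cfsg.sympForm 2 F) K ∧ H = Cfsg.Geo.subalgebraNormalizer K ⊓ Cfsg.spGL 2 F) ∨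
    (∃ (F₀ : Subfield F) (r : ℕ) (P : Matrix.GeneralLinearGroup (Fin 2 ⊕ Fin 2) F) (ζ : F), r.Prime ∧ Fintype.card F = Nat.card F₀ ^ r ∧ ζ ≠ 0 ∧ Cfsg.Geo.IsFormRationalStructure (Cfsg.sympForm 2 F) F₀ ζ P ∧ H = Cfsg.Geo.subfieldSubgroup F₀ P ⊓ Cfsg.spGL 2 F) ∨
    (∃ (p : ℕ) (R : Subgroup (Matrix.GeneralLinearGroup (Fin 2 ⊕ Fin 2) F)), p.Prime ∧ Fintype.card F = p ∧ Cfsg.Geo.IsSymplecticTypeGroup 2 R ∧ Cfsg.Geo.ActsAbsolutelyIrreducibly (Cfsg.Geo.matrixSet R) ∧ R ≤ Cfsg.Geo.similarityGroup (Cfsg.sympForm 2 F) ∧ Nat.card R = 32 ∧ Nat.card (Subgroup.center R) = 2 ∧ Cfsg.Geo.IsOfMinusType 2 R ∧ H = Cfsg.Geo.subgroupNormalizer R ⊓ Cfsg.spGL 2 F) ∨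
    Cfsg.Geo.InSymplecticResidualClass H := by
  rcases symp_max (m := 2) le_rfl hH with hmem | hres
  swap
  · exact Or.inr (Or.inr (Or.inr (Or.inr (Or.inr (Or.inr (Or.inr hres))))))
  have hge : 3 ≤ Fintype.card F := by
    have := Fintype.one_lt_card (α := F)
    obtain ⟨l, hl⟩ := hodd
    omega
  have hA := hasTv_spGL (F := F) (m := 2)
  have hset := symp_setting (F := F) (m := 2) le_rfl hH.1.le
  rcases hmem with ⟨W, hb, hts, he⟩ | ⟨W, hb, -, hlt, hev, -⟩ | ⟨t, k, D, hD, ht, htk, hev, -, he⟩ | ⟨D, -, hD, hts, he⟩ |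
    ⟨F₀, r, P, ζ, hr, hc, hζ, hrat, he⟩ | ⟨R, p, k, hst, hab, hRs, hp, -, hq, hcard, hcen, hmin, hpm, he⟩ | ⟨-, heven, -⟩ |
    ⟨r, K, hr, hrd, hK, hsa, halt, he⟩ | ⟨K, -, hK, hadj, hnsa, he⟩ |
    ⟨n₁, n₂, -, -, -, -, -, hn₁, -, hn₂, hprod, -⟩ | ⟨k, t, -, -, -, -, -, ht, -, hk, -, hpow, -⟩
  · exact Or.inl ⟨W, hb, hts, he⟩
  · obtain ⟨l, hl⟩ := hev
    have h0 : Module.finrank F W = 0 := by omega
    exact absurd (Submodule.finrank_eq_zero.1 h0) hb
  · obtain rfl : k = 2 := by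
      obtain ⟨l, rfl⟩ := hev
      have : (l + l) ≤ 2 := by
        by_contra hcon
        have := Nat.mul_le_mul ht (show 4 ≤ l + l by omega)
        omega
      rcases Nat.eq_zero_or_pos l with rfl | hl
      · simp at htk
      · omega
    obtain rfl : t = 2 := by omega
    exact Or.inr (Or.inl ⟨D, hD, he⟩)
  · rcases eq_or_ne (Fintype.card F) 3 with h3 | h3
    · obtain ⟨E, hE, hle⟩ := pair_three h3 hset.rg (by simp) hset.fix hD
        (by rw [← sympForm_eq_formG]; exact hts) (he.le.trans inf_le_left)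
      exact Or.inr (Or.inl ⟨E, by rw [sympForm_eq_formG]; exact hE,
        eq_of_max hH hle (tv_not_blocks hset.rg hA hE.decomp le_rfl)⟩)
    · refine Or.inr (Or.inr (Or.inl ⟨?_, D, hD, hts, he⟩))
      obtain ⟨l, hl⟩ := hodd
      omega
  · exact Or.inr (Or.inr (Or.inr (Or.inr (Or.inr (Or.inl ⟨F₀, r, P, ζ, hr, hc, hζ, hrat, he⟩)))))
  · obtain rfl : k = 2 := (Nat.pow_right_injective le_rfl (show 2 ^ 2 = 2 ^ k from hpm)).symm
    exact Or.inr (Or.inr (Or.inr (Or.inr (Or.inr (Or.inr (Or.inl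
      ⟨p, R, hp, hq, hst, hab, hRs, hcard.trans (by norm_num), hcen, hmin, he⟩))))))
  · exact absurd hodd heven
  · obtain rfl : r = 2 := (Nat.prime_dvd_prime_iff_eq hr Nat.prime_two).1 hrd
    exact Or.inr (Or.inr (Or.inr (Or.inl ⟨K, hK, hsa, halt, he⟩)))
  · rcases eq_or_ne (Fintype.card F) 3 with h3 | h3
    · exact (field_three_not_max h3 hH hK (by rw [← sympForm_eq_formG]; exact hadj)
        (by rw [← sympForm_eq_formG]; exact hnsa) (he.le.trans inf_le_left)).elim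
    · refine Or.inr (Or.inr (Or.inr (Or.inr (Or.inl ⟨?_, K, hK, hadj, hnsa, he⟩))))
      obtain ⟨l, hl⟩ := hodd
      omega
  · have := Nat.mul_le_mul hn₁ hn₂
    omega
  · have := (Nat.pow_le_pow_left hk t)
    have := Nat.pow_le_pow_right (show 0 < 2 by norm_num) ht
    omega

end Cfsg.Agent.S5787
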