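import Cfsg.Statements.S5802
import Cfsg.Agent.Asch.UnitMax
import Cfsg.Agent.Asch.UnitSixFour
import Cfsg.Agent.Asch.UnitFieldFour

set_option autoImplicit false
open Cfsg

namespace Cfsg.Agent.S5802

open Cfsg.Agent.Asch

/-- Every maximal subgroup of SU_6(q) is of one of the listed geometric types or lies in the residual class. Let F be the field with q² elements, f the standard unitary form Σ u_i v_i^q on F^6, and H a maximal subgroup of SU_6(q) (inside GL_6(F)). Then H is the intersection with SU_6(q) of one of: the stabiliser of a non-zero totally isotropic subspace; the stabiliser of a non-degenerate 1- or 2-space; for q ≥ 3, the stabiliser of a decomposition into six mutually orthogonal non-degenerate 1-spaces; for q ≥ 3, of a decomposition into three mutually orthogonal non-degenerate 2-spaces; of a decomposition into two orthogonal non-degenerate 3-spaces; of a decomposition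 into two totally isotropic 3-spaces; for q ≥ 3, the normaliser of an adjoint-closed degree-3 subfield of the matrix algebra; for q ≥ 3, the stabiliser of a tensor decomposition of f into unitary forms on F^2 and F^3; a subfield group of odd prime index whose F₀-structure carries f; a subfield group of index 2 and symplectic type; for q odd, a subfield group of index 2 and orthogonal type — or else H lies in the residual class of the unitary case. -/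
theorem result {F : Type*} [Field F] [Fintype F] (q : ℕ) (hF : Fintype.card F = q ^ 2) (H : Subgroup (Matrix.GeneralLinearGroup (Fin 6) F)) (hH : Cfsg.Geo.IsMaximalIn (Cfsg.GU 6 F q ⊓ Cfsg.Geo.specialLinear (Fin 6) F) H) :
    (∃ W : Submodule F (Fin 6 → F), W ≠ ⊥ ∧ Cfsg.Geo.IsTotallySingularFor (Cfsg.hermForm 6 F q) W ∧ H = Cfsg.Geo.subspaceStabilizer W ⊓ (Cfsg.GU 6 F q ⊓ Cfsg.Geo.specialLinear (Fin 6) F)) ∨
    (∃ W : Submodule F (Fin 6 → F), W ≠ ⊥ ∧ Cfsg.Geo.IsNondegenerateOn (Cfsg.hermForm 6 F q) W ∧ 2 * Module.finrank F W < 6 ∧ H = Cfsg.Geo.subspaceStabilizer W ⊓ (Cfsg.GU 6 F q ⊓ Cfsg.Geo.specialLinear (Fin 6) F)) ∨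
    (3 ≤ q ∧ ∃ D : Fin 6 → Submodule F (Fin 6 → F), Cfsg.Geo.IsNondegenerateMDecomposition (Cfsg.hermForm 6 F q) 1 D ∧ H = Cfsg.Geo.decompositionStabilizer D ⊓ (Cfsg.GU 6 F q ⊓ Cfsg.Geo.specialLinear (Fin 6) F)) ∨
    (3 ≤ q ∧ ∃ D : Fin 3 → Submodule F (Fin 6 → F), Cfsg.Geo.IsNondegenerateMDecomposition (Cfsg.hermForm 6 F q) 2 D ∧ H = Cfsg.Geo.decompositionStabilizer D ⊓ (Cfsg.GU 6 F q ⊓ Cfsg.Geo.specialLinear (Fin 6) F)) ∨
    (∃ D : Fin 2 → Submodule F (Fin 6 → F), Cfsg.Geo.IsNondegenerateMDecomposition (Cfsg.hermForm 6 F q) 3 D ∧ H = Cfsg.Geo.decompositionStabilizer D ⊓ (Cfsg.GU 6 F q ⊓ Cfsg.Geo.specialLinear (Fin 6) F)) ∨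
    (∃ D : Fin 2 → Submodule F (Fin 6 → F), Cfsg.Geo.IsMDecomposition 3 D ∧ (∀ i, Cfsg.Geo.IsTotallySingularFor (Cfsg.hermForm 6 F q) (D i)) ∧ H = Cfsg.Geo.decompositionStabilizer D ⊓ (Cfsg.GU 6 F q ⊓ Cfsg.Geo.specialLinear (Fin 6) F)) ∨
    (3 ≤ q ∧ ∃ K : Subalgebra F (Matrix (Fin 6) (Fin 6) F), Cfsg.Geo.IsFieldSubalgebra 3 K ∧ Cfsg.Geo.IsAdjointClosedFor (Cfsg.hermForm 6 F q) K ∧ H = Cfsg.Geo.subalgebraNormalizer K ⊓ (Cfsg.GU 6 F q ⊓ Cfsg.Geo.specialLinear (Fin 6) F)) ∨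
    (3 ≤ q ∧ ∃ (e : Fin 6 ≃ Fin 2 × Fin 3) (P : Matrix.GeneralLinearGroup (Fin 6) F) (f₁ : (Fin 2 → F) → (Fin 2 → F) → F) (f₂ : (Fin 3 → F) → (Fin 3 → F) → F), Cfsg.Geo.IsUnitaryFormPow q f₁ ∧ Cfsg.Geo.IsUnitaryFormPow q f₂ ∧ Cfsg.Geo.IsTensorFormStructure (fun x : F => x ^ q) (Cfsg.hermForm 6 F q) f₁ f₂ e P ∧ H = Cfsg.Geo.tensorProductSubgroup 2 3 e P ⊓ (Cfsg.GU 6 F q ⊓ Cfsg.Geo.specialLinear (Fin 6) F)) ∨
    (∃ (F₀ : Subfield F) (r : ℕ) (P : Matrix.GeneralLinearGroup (Fin 6) F), r.Prime ∧ Odd r ∧ Fintype.card F = Nat.card F₀ ^ r ∧ Cfsg.Geo.IsFormRationalStructure (Cfsg.hermForm 6 F q) F₀ 1 P ∧ H = Cfsg.Geo.subfieldSubgroup F₀ P ⊓ (Cfsg.GU 6 F q ⊓ Cfsg.Geo.specialLinear (Fin 6) F)) ∨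
    (∃ (F₀ : Subfield F) (P : Matrix.GeneralLinearGroup (Fin 6) F) (ζ : F), Fintype.card F = Nat.card F₀ ^ 2 ∧ ζ ≠ 0 ∧ ζ + ζ ^ q = 0 ∧ Cfsg.Geo.IsFormRationalStructure (Cfsg.hermForm 6 F q) F₀ ζ P ∧ (∀ u : Fin 6 → F, (∀ i, u i ∈ F₀) → (Cfsg.hermForm 6 F q) (Matrix.mulVec (P : Matrix (Fin 6) (Fin 6) F) u) (Matrix.mulVec (P : Matrix (Fin 6) (Fin 6) F) u) = 0) ∧ H = Cfsg.Geo.subfieldSubgroup F₀ P ⊓ (Cfsg.GU 6 F q ⊓ Cfsg.Geo.specialLinear (Fin 6) F)) ∨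
    (Odd q ∧ ∃ (F₀ : Subfield F) (P : Matrix.GeneralLinearGroup (Fin 6) F), Fintype.card F = Nat.card F₀ ^ 2 ∧ Cfsg.Geo.IsFormRationalStructure (Cfsg.hermForm 6 F q) F₀ 1 P ∧ H = Cfsg.Geo.subfieldSubgroup F₀ P ⊓ (Cfsg.GU 6 F q ⊓ Cfsg.Geo.specialLinear (Fin 6) F)) ∨
    Cfsg.Geo.InUnitaryResidualClass H := by
  obtain ⟨σ, hσ, hbar⟩ := Cfsg.Agent.PrimeDim.exists_bar hF
  have hf : Cfsg.hermForm 6 F q = Cfsg.Agent.PrimeDim.formG σ (1 : Matrix (Fin 6) (Fin 6) F) := hermForm_eq_formG hσ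
  have hA := hasRoots_su (n := 6) hbar hσ
  have hAf : Cfsg.Agent.PrimeDim.Fixes σ (Cfsg.GU 6 F q ⊓ Cfsg.Geo.specialLinear (Fin 6) F) (1 : Matrix (Fin 6) (Fin 6) F) :=
    fun g hg => (mem_GU_iff_act hσ g).1 hg.1
  have h4 : ¬ 3 ≤ q → Fintype.card F = 4 := fun hq => by
    have := root_two_le hF
    rw [hF, show q = 2 by omega]
    norm_num
  have lines : ∀ D : Fin 6 → Submodule F (Fin 6 → F),
      Cfsg.Geo.IsNondegenerateMDecomposition (Cfsg.hermForm 6 F q) 1 D →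
      H ≤ Cfsg.Geo.decompositionStabilizer D → 3 ≤ q := fun D hD hle => by
    by_contra hq
    obtain ⟨K, hK1, hK2⟩ := six_lines_not_max hbar (h4 hq) (Fintype.card_fin 6) hA hAf inf_le_right (hf ▸ hD)
    exact not_max_between hH hle hK1 hK2
  rcases unit_max (by norm_num) hF hH with hmem | hres
  swap
  · exact Or.inr (Or.inr (Or.inr (Or.inr (Or.inr (Or.inr (Or.inr (Or.inr (Or.inr (Or.inr (Or.inr (hres)))))))))))
  obtain ⟨W, hb, hts, he⟩ | ⟨W, hb, hnd, hlt, he⟩ | ⟨t, k, D, hD, ht, htk, hq, he⟩ | ⟨k, D, hk, hD, hts, he⟩ |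
    ⟨F₀, r, P, hr, ho, hc, hrat, he⟩ | ⟨F₀, P, ζ, hev, hc, hζ, hsk, hrat, halt, he⟩ | ⟨F₀, P, hq, hc, hrat, he⟩ |
    ⟨r, K, hr, ho, hdvd, hK, hadj, he⟩ |
    ⟨R, r, p, e, m, hst, habs, hsim, hp, hrp, hqp, hdiv, hmin, hm, hshape, -, he, -⟩ |
    ⟨d, k, e, P, f₁, f₂, hd, hdk, hprod, hq, hf₁, hf₂, hst, he⟩ |
    ⟨m, t, e, P, f₁, hm, ht, hex, hmt, hf₁, hst, he, -⟩ := hmem
  · exact Or.inl ⟨W, hb, hts, he⟩
  · exact Or.inr (Or.inl ⟨W, hb, hnd, hlt, he⟩)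
  · have hk : k ≤ 3 := by nlinarith
    rcases (show (k = 1 ∧ t = 6) ∨ (k = 2 ∧ t = 3) ∨ (k = 3 ∧ t = 2) by interval_cases k <;> omega) with ⟨rfl, rfl⟩ | ⟨rfl, rfl⟩ | ⟨rfl, rfl⟩
    · exact Or.inr (Or.inr (Or.inl ⟨lines D hD (he.le.trans inf_le_left), D, hD, he⟩))
    · refine Or.inr (Or.inr (Or.inr (Or.inl ⟨?_, D, hD, he⟩)))
      by_contra hq3
      have hq2 : q = 2 := by have := root_two_le hF; omega
      have hfu : Cfsg.Geo.IsUnitaryFormPow 2 (Cfsg.Agent.PrimeDim.formG σ (1 : Matrix (Fin 6) (Fin 6) F)) := by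
        rw [← hf, hq2]; exact NotMax.hermForm_unitaryPow (h4 hq3)
      obtain ⟨D', hD', hle'⟩ := planes_refine (h4 hq3) hfu (t := 3) (Fintype.card_fin 6) hAf (hf ▸ hD)
      exact hq3 (lines D' (hf.symm ▸ hD') (he.le.trans hle'))
    · exact Or.inr (Or.inr (Or.inr (Or.inr (Or.inl ⟨D, hD, he⟩))))
  · obtain rfl : k = 3 := by omega
    exact Or.inr (Or.inr (Or.inr (Or.inr (Or.inr (Or.inl ⟨D, hD, hts, he⟩)))))
  · exact Or.inr (Or.inr (Or.inr (Or.inr (Or.inr (Or.inr (Or.inr (Or.inr (Or.inl ⟨F₀, r, P, hr, ho, hc, hrat, he⟩))))))))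
  · exact Or.inr (Or.inr (Or.inr (Or.inr (Or.inr (Or.inr (Or.inr (Or.inr (Or.inr (Or.inl ⟨F₀, P, ζ, hc, hζ, hsk, hrat, halt, he⟩)))))))))
  · exact Or.inr (Or.inr (Or.inr (Or.inr (Or.inr (Or.inr (Or.inr (Or.inr (Or.inr (Or.inr (Or.inl ⟨hq, F₀, P, hc, hrat, he⟩))))))))))
  · have hr' : r ≤ 6 := Nat.le_of_dvd (by norm_num) hdvd
    rcases (show r = 3 by
      interval_cases r <;> first | rfl | (norm_num at hdvd; done) | (norm_num at hr; done) | (exact absurd ho (by decide))) with rfl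
    by_cases hq3 : 3 ≤ q
    · exact Or.inr (Or.inr (Or.inr (Or.inr (Or.inr (Or.inr (Or.inl ⟨hq3, K, hK, hadj, he⟩))))))
    obtain ⟨P, hrat, halt, hle⟩ := field_four_rational hbar (h4 hq3) (Fintype.card_fin 6) hK (hf ▸ hadj)
      (fun g hg => hAf g (hH.1.le hg)) (hH.1.le.trans inf_le_right) (he.le.trans inf_le_left)
    have h2 : (1 : F) + (1 : F) ^ q = 0 := by
      rw [one_pow]; linear_combination NotMax.two_zero_of_four (h4 hq3)
    exact Or.inr (Or.inr (Or.inr (Or.inr (Or.inr (Or.inr (Or.inr (Or.inr (Or.inr (Or.inl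
      ⟨fixF σ, P, 1, card_fixF hbar, one_ne_zero, h2, hf.symm ▸ hrat, hf.symm ▸ halt,
        eq_of_max hH hle (root_not_subfield hbar hA (by simp) (fixF_ne_top hbar) P)⟩)))))))))
  · have hrP := hst.prime
    obtain ⟨hr', hm'⟩ : r ≤ 6 ∧ m ≤ 3 := by
      have hr2 := hst.prime.two_le
      refine ⟨?_, ?_⟩
      · rw [hm]; exact Nat.le_self_pow (by rintro rfl; simp at hm) r
      · by_contra hcon
        have h1 := Nat.pow_le_pow_left hr2 m
        have h2 := Nat.pow_le_pow_right (show 0 < 2 by norm_num) (show 4 ≤ m by omega)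
        omega
    exfalso
    interval_cases m <;> interval_cases r <;> first | (norm_num at hm; done) | (norm_num at hrP; done)
  · have hk : k ≤ 3 := by nlinarith
    rcases (show (d = 2 ∧ k = 3) by interval_cases k <;> omega) with ⟨rfl, rfl⟩
    · exact Or.inr (Or.inr (Or.inr (Or.inr (Or.inr (Or.inr (Or.inr (Or.inl ⟨hq rfl, e, P, f₁, f₂, hf₁, hf₂, hst, he⟩)))))))
  · have hm' : m ≤ 6 := hmt ▸ Nat.le_self_pow (by omega) m
    have ht' : t ≤ 2 := by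
      by_contra hcon
      have h1 := Nat.pow_le_pow_left hm t
      have h2 := Nat.pow_le_pow_right (show 0 < 3 by norm_num) (show 3 ≤ t by omega)
      omega
    obtain rfl : t = 2 := by omega
    exfalso
    have hm4 : m ≤ 3 := by nlinarith
    interval_cases m
    norm_num at hmt

end Cfsg.Agent.S5802
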