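import Cfsg.Statements.S5813
import Cfsg.Agent.ClassicalMax.RootPar
import Cfsg.Agent.ClassicalMax.NdFour
import Cfsg.Agent.ClassicalMax.OrthMono.Bridge
import Cfsg.Agent.ClassicalMax.Subfield.Odd.Main
import Cfsg.Agent.Classical.QuadStd
import Cfsg.Agent.Classical.QuadTypes
import Cfsg.Agent.Classical.QuadBasis

set_option autoImplicit false
open Cfsg

namespace Cfsg.Agent.S5813

open Cfsg.Agent.ClassicalMax Cfsg.Agent.ClassicalMax.Subfield Cfsg.Agent.Classical

/-- Maximal subgroups of Ω_7(q) of geometric type, q odd. Let F be a finite field of odd order q, Q the standard quadratic form x₀² + Σ x_i y_i on F^7 (coordinates Unit ⊕ (Fin 3 ⊕ Fin 3)), and Ω = Ω_7(q) the commutator subgroup of its isometry group, inside GL_7(F). Each of the following, intersected with Ω, is a maximal subgroup of Ω: (1) the stabiliser of any non-zero subspace on which Q vanishes identically (totally singular 1-, 2- and 3-spaces); (2) the stabiliser of any non-zero even-dimensional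 subspace W on which the polar form of Q is non-degenerate (equivalently of its odd-dimensional orthogonal complement), except when q = 3 and W is a 2-space containing a non-zero singular vector (a plus-type plane); (3) for q = p prime, the stabiliser of any decomposition of F^7 into seven pairwise orthogonal, pairwise Q-isometric non-degenerate 1-spaces; (4) every subfield group for a subfield F₀ with |F| = |F₀|^r, r prime, whose F₀-structure carries Q. -/
theorem result {F : Type*} [Field F] [Fintype F] (hodd : Odd (Fintype.card F)) :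
    (∀ W : Submodule F (Unit ⊕ (Fin 3 ⊕ Fin 3) → F), W ≠ ⊥ → Cfsg.Geo.IsTotallySingularQuad (Cfsg.quadFormOdd 3 F) W → Cfsg.Geo.IsMaximalIn (Cfsg.Geo.omegaGL (Cfsg.quadFormOdd 3 F)) (Cfsg.Geo.subspaceStabilizer W ⊓ Cfsg.Geo.omegaGL (Cfsg.quadFormOdd 3 F))) ∧
    (∀ W : Submodule F (Unit ⊕ (Fin 3 ⊕ Fin 3) → F), W ≠ ⊥ → Even (Module.finrank F W) → Cfsg.Geo.IsNondegenerateOn (QuadraticMap.polar (Cfsg.quadFormOdd 3 F)) W → ¬ (Fintype.card F = 3 ∧ Module.finrank F W = 2 ∧ Cfsg.Geo.IsPlusTypeOn (Cfsg.quadFormOdd 3 F) W) → Cfsg.Geo.IsMaximalIn (Cfsg.Geo.omegaGL (Cfsg.quadFormOdd 3 F)) (Cfsg.Geo.subspaceStabilizer W ⊓ Cfsg.Geo.omegaGL (Cfsg.quadFormOdd 3 F))) ∧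
    ((Fintype.card F).Prime → ∀ D : Fin 7 → Submodule F (Unit ⊕ (Fin 3 ⊕ Fin 3) → F), Cfsg.Geo.IsOrthogonalMDecomposition (Cfsg.quadFormOdd 3 F) 1 D → Cfsg.Geo.IsMaximalIn (Cfsg.Geo.omegaGL (Cfsg.quadFormOdd 3 F)) (Cfsg.Geo.decompositionStabilizer D ⊓ Cfsg.Geo.omegaGL (Cfsg.quadFormOdd 3 F))) ∧
    (∀ (F₀ : Subfield F) (r : ℕ) (P : Matrix.GeneralLinearGroup (Unit ⊕ (Fin 3 ⊕ Fin 3)) F), r.Prime → Fintype.card F = Nat.card F₀ ^ r → Cfsg.Geo.IsQuadFormRationalStructure (Cfsg.quadFormOdd 3 F) F₀ P → Cfsg.Geo.IsMaximalIn (Cfsg.Geo.omegaGL (Cfsg.quadFormOdd 3 F)) (Cfsg.Geo.subfieldSubgroup F₀ P ⊓ Cfsg.Geo.omegaGL (Cfsg.quadFormOdd 3 F))) := by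
  classical
  have h2 : (2 : F) ≠ 0 := Ring.two_ne_zero fun h => by
    have h' := FiniteField.even_card_of_char_two h
    obtain ⟨r, hr⟩ := hodd
    omega
  let Q : QuadraticForm F (Unit ⊕ (Fin 3 ⊕ Fin 3) → F) := (Quad.hyp (Quad.sqForm F) 3).comp (Quad.oddCoord 3).toLinearMap
  have hQe : ⇑Q = Cfsg.quadFormOdd 3 F := funext fun x => by simp [Q, Quad.oddCoord_map]
  have hQ : (QuadraticMap.polarBilin Q).Nondegenerate :=
    Quad.Iso.nondeg (Quad.Iso.symm ⟨Quad.oddCoord 3, fun x => by simp [Q]⟩) (Quad.nondeg_hyp (Quad.nondeg_sqForm h2) 3)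
  have hcard : Fintype.card (Unit ⊕ (Fin 3 ⊕ Fin 3)) = 7 := by simp
  have hdim : Module.finrank F (Unit ⊕ (Fin 3 ⊕ Fin 3) → F) = 7 := by
    rw [Module.finrank_fintype_fun_eq_card, hcard]
  rw [← hQe]
  refine ⟨fun W hW0 hW => ?_, fun W hW0 hev hW hex => ?_, fun hprime D hD => ?_,
    fun F₀ r P hr hc hP => Odd.isMaximalIn_subfield_odd Q hQ h2 (by omega) (hcard ▸ ⟨3, rfl⟩) F₀ hr hc P one_ne_zero
      fun u hu => by
      rw [one_mul, glEquiv_apply]
      exact hP u hu⟩
  · refine RootPlanes.isMaximalIn_parabolic Q hQ (by omega) W hW0 hW fun a haq haP haW h => ?_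
    have h1 := RootPlanes.finrank_perpS hQ W
    rw [hdim, h] at h1
    omega
  · have hWnd : RootPlanes.NdOn Q W := fun x hx h => by_contra fun h0 =>
      (hW x hx h0).2.elim fun y hy => hy.2 (h y hy.1)
    have hW1 : W ≠ ⊤ := fun h => by
      obtain ⟨r, hr⟩ := hev
      rw [h, finrank_top, hdim] at hr
      omega
    have hsum := RootPlanes.finrank_perpS hQ W
    obtain ⟨k, hk⟩ := hev
    refine NdFour.isMaximalIn_nd4 Q hQ h2 (by omega) hWnd hW0 hW1 (by omega) (fun h => by omega) ?_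
    intro U hU hc hUW b hb hbq
    by_contra hb0
    rcases hUW with rfl | rfl
    · refine hex ⟨?_, hU, Submodule.span F {b}, (Submodule.span_singleton_le_iff_mem _ _).2 hb, ?_, ?_⟩
      · have := Fintype.one_lt_card (α := F)
        rw [Nat.card_eq_fintype_card] at hc
        obtain ⟨r, hr⟩ := hodd
        omega
      · intro x hx
        obtain ⟨c, rfl⟩ := Submodule.mem_span_singleton.1 hx
        rw [Quad.map_smul', hbq, mul_zero]
      · rw [finrank_span_singleton hb0, hU]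
    · omega
  · exact OrthMono.isMaximalIn_frame' Q hQ h2 hprime (by omega) (Or.inr (hcard ▸ ⟨3, rfl⟩)) D hD

end Cfsg.Agent.S5813
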