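import Cfsg.Statements.S5825
import Cfsg.Agent.ClassicalMax.RootPar
import Cfsg.Agent.ClassicalMax.RootNondeg
import Cfsg.Agent.ClassicalMax.NdFour
import Cfsg.Agent.ClassicalMax.OrthEven.Point
import Cfsg.Agent.ClassicalMax.OrthEven.Ext
import Cfsg.Agent.ClassicalMax.Small8.Halves
import Cfsg.Agent.ClassicalMax.Subfield.RootOrth

set_option autoImplicit false
open Cfsg

namespace Cfsg.Agent.S5825

open Cfsg.Agent.ClassicalMax Cfsg.Agent.Classical

/-- Maximal subgroups of Ω_8^-(q) of geometric type (any q). Let F be a finite field with q elements, Q a non-degenerate quadratic form on F^8 (non-degenerate polar form) of minus type (Witt index 3: no totally singular 4-space), and Ω = Ω_8^-(q) the commutator subgroup of the isometry group of Q, inside GL_8(F). Each of the following, intersected with Ω, is a maximal subgroup of Ω: (1) the stabiliser of any non-zero subspace on which Q vanishes identically (totally singular 1-, 2- and 3-spaces); (2) for q odd, the stabiliser of any proper subspace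 of odd dimension (1, 3, 5 or 7) on which the polar form of Q is non-degenerate; (3) the stabiliser of any non-degenerate 2-space of minus type (containing no non-zero singular vector); (4) for q ≥ 4, the stabiliser of any non-degenerate 2-space of plus type (containing a non-zero singular vector); (5) the stabiliser of any non-degenerate 4-space (its orthogonal complement is then a non-degenerate 4-space of the opposite type); (6) for q even, the stabiliser of the 1-space spanned by any non-singular vector v (Q(v) ≠ 0); (7) for q odd, the normaliser of any degree-2 subfield K of the matrix algebra whose elements are self-adjoint for the polar form of Q (Q is then the trace of a quadratic form over K); (8) every subfield group for a subfield F₀ of odd prime index r in F whose F₀-structure carries a non-zero scalar multiple of Q. -/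
theorem result {F : Type*} [Field F] [Fintype F] (Q : (Fin 8 → F) → F) (hQ : Cfsg.Geo.IsNondegenerateQuadraticForm Q) (hminus : ¬ Cfsg.Geo.IsPlusTypeOn Q ⊤) :
    (∀ W : Submodule F (Fin 8 → F), W ≠ ⊥ → Cfsg.Geo.IsTotallySingularQuad Q W → Cfsg.Geo.IsMaximalIn (Cfsg.Geo.omegaGL Q) (Cfsg.Geo.subspaceStabilizer W ⊓ Cfsg.Geo.omegaGL Q)) ∧
    (Odd (Fintype.card F) → ∀ W : Submodule F (Fin 8 → F), W ≠ ⊥ → W ≠ ⊤ → Odd (Module.finrank F W) → Cfsg.Geo.IsNondegenerateOn (QuadraticMap.polar Q) W → Cfsg.Geo.IsMaximalIn (Cfsg.Geo.omegaGL Q) (Cfsg.Geo.subspaceStabilizer W ⊓ Cfsg.Geo.omegaGL Q)) ∧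
    (∀ W : Submodule F (Fin 8 → F), Module.finrank F W = 2 → Cfsg.Geo.IsNondegenerateOn (QuadraticMap.polar Q) W → ¬ Cfsg.Geo.IsPlusTypeOn Q W → Cfsg.Geo.IsMaximalIn (Cfsg.Geo.omegaGL Q) (Cfsg.Geo.subspaceStabilizer W ⊓ Cfsg.Geo.omegaGL Q)) ∧
    (4 ≤ Fintype.card F → ∀ W : Submodule F (Fin 8 → F), Module.finrank F W = 2 → Cfsg.Geo.IsNondegenerateOn (QuadraticMap.polar Q) W → Cfsg.Geo.IsPlusTypeOn Q W → Cfsg.Geo.IsMaximalIn (Cfsg.Geo.omegaGL Q) (Cfsg.Geo.subspaceStabilizer W ⊓ Cfsg.Geo.omegaGL Q)) ∧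
    (∀ W : Submodule F (Fin 8 → F), Module.finrank F W = 4 → Cfsg.Geo.IsNondegenerateOn (QuadraticMap.polar Q) W → Cfsg.Geo.IsMaximalIn (Cfsg.Geo.omegaGL Q) (Cfsg.Geo.subspaceStabilizer W ⊓ Cfsg.Geo.omegaGL Q)) ∧
    (¬ Odd (Fintype.card F) → ∀ v : (Fin 8 → F), Q v ≠ 0 → Cfsg.Geo.IsMaximalIn (Cfsg.Geo.omegaGL Q) (Cfsg.Geo.subspaceStabilizer (Submodule.span F {v}) ⊓ Cfsg.Geo.omegaGL Q)) ∧
    (Odd (Fintype.card F) → ∀ K : Subalgebra F (Matrix (Fin 8) (Fin 8) F), Cfsg.Geo.IsFieldSubalgebra 2 K → Cfsg.Geo.IsSelfAdjointFor (QuadraticMap.polar Q) K → Cfsg.Geo.IsMaximalIn (Cfsg.Geo.omegaGL Q) (Cfsg.Geo.subalgebraNormalizer K ⊓ Cfsg.Geo.omegaGL Q)) ∧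
    (∀ (F₀ : Subfield F) (r : ℕ) (P : Matrix.GeneralLinearGroup (Fin 8) F) (ζ : F), r.Prime → Odd r → Fintype.card F = Nat.card F₀ ^ r → ζ ≠ 0 → Cfsg.Geo.IsQuadFormRationalStructure (fun v : Fin 8 → F => ζ * Q v) F₀ P → Cfsg.Geo.IsMaximalIn (Cfsg.Geo.omegaGL Q) (Cfsg.Geo.subfieldSubgroup F₀ P ⊓ Cfsg.Geo.omegaGL Q)) := by
  classical
  let q : QuadraticForm F (Fin 8 → F) := QuadraticMap.ofPolar Q
    (fun a x => by rw [hQ.smul, smul_eq_mul, pow_two])
    hQ.polar_bilinear.add_left
    (fun a x y => by rw [hQ.polar_bilinear.smul_left, smul_eq_mul])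
  have hq : ⇑q = Q := rfl
  have hnd : (QuadraticMap.polarBilin q).Nondegenerate :=
    ⟨fun x hx => by_contra fun h => (hQ.nondegenerate x h).2.elim fun y hy => hy (hx y),
      fun x hx => by_contra fun h => (hQ.nondegenerate x h).1.elim fun y hy => hy (hx y)⟩
  have htwo : Odd (Fintype.card F) → (2 : F) ≠ 0 := fun hodd => Ring.two_ne_zero fun h => by
    have h' := FiniteField.even_card_of_char_two h
    obtain ⟨r, hr⟩ := hodd
    omega
  have hdim : Module.finrank F (Fin 8 → F) = 8 := Module.finrank_fin_fun F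
  have notTop : ∀ W : Submodule F (Fin 8 → F), Module.finrank F W ≠ 8 → W ≠ ⊤ := fun W h h' => by
    rw [h', finrank_top, hdim] at h
    exact h rfl
  have notBot : ∀ W : Submodule F (Fin 8 → F), Module.finrank F W ≠ 0 → W ≠ ⊥ := fun W h h' => by
    rw [h', finrank_bot] at h
    exact h rfl
  have ndOn : ∀ W : Submodule F (Fin 8 → F), Cfsg.Geo.IsNondegenerateOn (QuadraticMap.polar Q) W →
      RootPlanes.NdOn q W := fun W hW x hx h => by_contra fun h0 => (hW x hx h0).2.elim fun y hy => hy.2 (h y hy.1)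
  have plane : ∀ W : Submodule F (Fin 8 → F), Module.finrank F W = 2 →
      Cfsg.Geo.IsNondegenerateOn (QuadraticMap.polar Q) W → (Nat.card F ≤ 3 → ∀ b ∈ W, Q b = 0 → b = 0) →
      Cfsg.Geo.IsMaximalIn (Cfsg.Geo.omegaGL Q) (Cfsg.Geo.subspaceStabilizer W ⊓ Cfsg.Geo.omegaGL Q) := by
    intro W h2 hW hex
    refine RootPlanes.isMaximalIn_nd6 q hnd (by simp) (ndOn W hW) (notBot W (by omega)) (notTop W (by omega))
      (by rw [Fintype.card_fin]; omega) (fun h => absurd (h.trans (Fintype.card_fin 8)) (by omega)) fun U hU hc hUW => ?_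
    rcases hUW with rfl | rfl
    · exact hex hc
    · exfalso
      have := RootPlanes.finrank_perpS hnd W
      omega
  refine ⟨fun W h0 hW => ?_, fun ho W h0 h1 hoW hW => ?_, fun W h hW hm => plane W h hW fun _ b hb hbq => ?_,
    fun hq4 W h hW hp => plane W h hW fun hc => ?_,
    fun W h hW => Small8.isMaximalIn_halves q hnd rfl hminus (ndOn W hW) h,
    fun hev v hv => OrthEven.isMaximalIn_point (by omega) ⟨4, rfl⟩ Q hQ hev v hv,
    fun ho K hK hsa => OrthEven.isMaximalIn_fieldSubalgebra_minus q hnd (htwo ho) hminus Nat.prime_two (by omega) K hK hsa,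
    fun F₀ r P ζ hr hro hc hζ hP => Subfield.RootOrth.isMaximalIn_subfield' q hnd (by simp) F₀ hr hc (Or.inr hro) P hζ fun u hu => by
      rw [glEquiv_apply]
      exact hP u hu⟩
  · refine RootPlanes.isMaximalIn_parabolic q hnd (by simp) W h0 hW fun a haq haP haW h => hminus ?_
    have h1 := RootPlanes.finrank_perpS hnd W
    have hlt : W < W ⊔ Submodule.span F {a} := lt_of_le_of_ne le_sup_left fun e => haW
      (e.symm ▸ Submodule.mem_sup_right (Submodule.mem_span_singleton_self a))
    have h2 := Submodule.finrank_lt_finrank_of_lt hlt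
    have h3 := Submodule.finrank_add_le_finrank_add_finrank W (Submodule.span F {a})
    have h4 := finrank_span_le_card (R := F) ({a} : Set (Fin 8 → F))
    rw [Set.toFinset_singleton, Finset.card_singleton] at h4
    refine ⟨W ⊔ Submodule.span F {a}, le_top, fun x hx => ?_, by rw [finrank_top, hdim]; omega⟩
    obtain ⟨w, hw, c, hc, rfl⟩ := Submodule.mem_sup.1 hx
    obtain ⟨t, rfl⟩ := Submodule.mem_span_singleton.1 hc
    show q (w + t • a) = 0
    rw [Quad.map_add', Quad.map_smul', haq, show q w = 0 from hW w hw, QuadraticMap.polar_smul_right,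
      RootPlanes.mem_perpS.1 haP w hw]
    simp
  · obtain ⟨m, hm⟩ := hoW
    have h8 : Module.finrank F W < 8 := (Submodule.finrank_lt h1).trans_eq hdim
    refine NdFour.isMaximalIn_nd4 q hnd (htwo ho) (by simp) (ndOn W hW) h0 h1 (by rw [Fintype.card_fin]; omega)
      (by rw [Fintype.card_fin]; omega) fun U hU hc hUW => ?_
    exfalso
    have := RootPlanes.finrank_perpS hnd W
    rcases hUW with rfl | rfl <;> omega
  · by_contra hb0
    exact hm ⟨Submodule.span F {b}, (Submodule.span_singleton_le_iff_mem b W).2 hb, fun x hx => by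
      obtain ⟨t, rfl⟩ := Submodule.mem_span_singleton.1 hx
      show q (t • b) = 0
      rw [Quad.map_smul', show q b = 0 from hbq, mul_zero], by rw [finrank_span_singleton hb0, h]⟩
  · rw [Nat.card_eq_fintype_card] at hc
    omega

end Cfsg.Agent.S5825
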