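import Cfsg.Statements.S5826
import Cfsg.Agent.Asch.EvenMax

set_option autoImplicit false
open Cfsg

namespace Cfsg.Agent.S5826

open Cfsg.Agent.Asch

/-- Every maximal subgroup of Ω_8^-(q) is of one of the listed geometric types or lies in the residual class. Let F be a finite field with q elements, Q a non-degenerate quadratic form on F^8 of minus type (no totally singular 4-space), Ω the commutator subgroup of its isometry group, and H a maximal subgroup of Ω (inside GL_8(F)). Then H is the intersection with Ω of one of: the stabiliser of a non-zero totally singular subspace; for q odd, the stabiliser of a non-degenerate subspace of odd dimension; the stabiliser of a non-degenerate 2-space of minus type; for q ≥ 4, the stabiliser of a non-degenerate 2-space of plus type; the stabiliser of a non-degenerate 4-space; for q even, the stabiliser of the span of a non-singular vector; the normaliser of a degree-2 subfield of the matrix algebra;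 a subfield group of odd prime index whose F₀-structure carries a non-zero multiple of Q — or else H lies in the residual class of the orthogonal case (modulo scalars H is almost simple, with absolutely irreducible perfect socle preimage realisable over no proper subfield and fixing no non-degenerate unitary form). -/
theorem result {F : Type*} [Field F] [Fintype F] (Q : (Fin 8 → F) → F) (hQ : Cfsg.Geo.IsNondegenerateQuadraticForm Q) (hminus : ¬ Cfsg.Geo.IsPlusTypeOn Q ⊤) (H : Subgroup (Matrix.GeneralLinearGroup (Fin 8) F)) (hH : Cfsg.Geo.IsMaximalIn (Cfsg.Geo.omegaGL Q) H) :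
    (∃ W : Submodule F (Fin 8 → F), W ≠ ⊥ ∧ Cfsg.Geo.IsTotallySingularQuad Q W ∧ H = Cfsg.Geo.subspaceStabilizer W ⊓ Cfsg.Geo.omegaGL Q) ∨
    (Odd (Fintype.card F) ∧ ∃ W : Submodule F (Fin 8 → F), W ≠ ⊥ ∧ W ≠ ⊤ ∧ Odd (Module.finrank F W) ∧ Cfsg.Geo.IsNondegenerateOn (QuadraticMap.polar Q) W ∧ H = Cfsg.Geo.subspaceStabilizer W ⊓ Cfsg.Geo.omegaGL Q) ∨
    (∃ W : Submodule F (Fin 8 → F), Module.finrank F W = 2 ∧ Cfsg.Geo.IsNondegenerateOn (QuadraticMap.polar Q) W ∧ ¬ Cfsg.Geo.IsPlusTypeOn Q W ∧ H = Cfsg.Geo.subspaceStabilizer W ⊓ Cfsg.Geo.omegaGL Q) ∨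
    (4 ≤ Fintype.card F ∧ ∃ W : Submodule F (Fin 8 → F), Module.finrank F W = 2 ∧ Cfsg.Geo.IsNondegenerateOn (QuadraticMap.polar Q) W ∧ Cfsg.Geo.IsPlusTypeOn Q W ∧ H = Cfsg.Geo.subspaceStabilizer W ⊓ Cfsg.Geo.omegaGL Q) ∨
    (∃ W : Submodule F (Fin 8 → F), Module.finrank F W = 4 ∧ Cfsg.Geo.IsNondegenerateOn (QuadraticMap.polar Q) W ∧ H = Cfsg.Geo.subspaceStabilizer W ⊓ Cfsg.Geo.omegaGL Q) ∨
    (¬ Odd (Fintype.card F) ∧ ∃ v : (Fin 8 → F), Q v ≠ 0 ∧ H = Cfsg.Geo.subspaceStabilizer (Submodule.span F {v}) ⊓ Cfsg.Geo.omegaGL Q) ∨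
    (∃ K : Subalgebra F (Matrix (Fin 8) (Fin 8) F), Cfsg.Geo.IsFieldSubalgebra 2 K ∧ H = Cfsg.Geo.subalgebraNormalizer K ⊓ Cfsg.Geo.omegaGL Q) ∨
    (∃ (F₀ : Subfield F) (r : ℕ) (P : Matrix.GeneralLinearGroup (Fin 8) F) (ζ : F), r.Prime ∧ Odd r ∧ Fintype.card F = Nat.card F₀ ^ r ∧ ζ ≠ 0 ∧ Cfsg.Geo.IsQuadFormRationalStructure (fun v : Fin 8 → F => ζ * Q v) F₀ P ∧ H = Cfsg.Geo.subfieldSubgroup F₀ P ⊓ Cfsg.Geo.omegaGL Q) ∨
    Cfsg.Geo.InOrthogonalResidualClass H := by
  classical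
  obtain ⟨Q, rfl⟩ : ∃ q : QuadraticForm F (Fin 8 → F), ⇑q = Q := ⟨Cfsg.Agent.NotMax.toQF hQ, rfl⟩
  have hnd : (QuadraticMap.polarBilin Q).Nondegenerate := Cfsg.Agent.NotMax.toQF_nondeg hQ
  have h7 : 7 ≤ Fintype.card (Fin 8) := by simp
  have hev : Even (Fintype.card (Fin 8)) := ⟨4, by simp⟩
  rcases even_max hnd hev (by simp) hH with hmem | hres
  swap
  · exact Or.inr (Or.inr (Or.inr (Or.inr (Or.inr (Or.inr (Or.inr (Or.inr hres)))))))
  rcases hmem with ⟨W, hb, hts, hle⟩ | ⟨W, hb, hW, hlt, hodd, hle⟩ | ⟨k, D, hk, hD, -, hfix, -⟩ |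
    ⟨v, h2, hv, hle⟩ | ⟨t, k, D, hD, -, -⟩ | ⟨k, D, hk, hD, hts, -⟩ | ⟨r, K, hr, hdvd, hK, -, -, hle⟩ |
    ⟨d, k, e, P, f₁, f₂, -, hd, hk, -, -, -, -⟩ | ⟨d, k, e, P, f₁, f₂, hf₁, hf₂, hd, hk, hst, hpure, -⟩ |
    ⟨F₀, r, P, ζ, hr, hc, hζ, hrat, hle⟩ | ⟨hp, -⟩ | ⟨m, t, hm, ht, hcard, hp⟩
  · exact Or.inl ⟨W, hb, hts, eq_stab hnd h7 hH hb (ts_ne_top hnd hts) hle⟩
  · have hne := ne_of_rank (W := W) (Nat.pos_of_ne_zero fun e => hb (Submodule.finrank_eq_zero.1 e)) (by omega)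
    have heq := eq_stab hnd h7 hH hne.1 hne.2 hle
    rw [Fintype.card_fin] at hlt
    rcases Nat.even_or_odd (Module.finrank F W) with he | ho
    swap
    · exact Or.inr (Or.inl ⟨Cfsg.Agent.PrimeDim.odd_of_two_ne_zero (hodd ho), W, hne.1, hne.2, ho, hW, heq⟩)
    have hd2 : Module.finrank F W = 2 := by
      have := Nat.pos_of_ne_zero fun e => hb (Submodule.finrank_eq_zero.1 e)
      obtain ⟨l, hl⟩ := he
      omega
    by_cases hplus : Cfsg.Geo.IsPlusTypeOn (⇑Q) W
    · exact Or.inr (Or.inr (Or.inr (Or.inl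
        ⟨plane_small hnd (by simp) hH hd2 hW hplus hle, W, hd2, hW, hplus, heq⟩)))
    · exact Or.inr (Or.inr (Or.inl ⟨W, hd2, hW, hplus, heq⟩))
  · rw [Fintype.card_fin] at hk
    have hd4 : Module.finrank F (D 0) = 4 := by rw [hD.decomp.finrank_eq]; omega
    have hne := ne_of_rank (W := D 0) (by omega) (by simp [hd4])
    exact Or.inr (Or.inr (Or.inr (Or.inr (Or.inl ⟨D 0, hd4, hD.nondegenerate 0,
      eq_stab hnd h7 hH hne.1 hne.2 (hfix 0)⟩))))
  · have hv0 : v ≠ 0 := fun e => hv (by rw [e, QuadraticMap.map_zero])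
    have hne := ne_of_rank (W := Submodule.span F {v}) (by rw [finrank_span_singleton hv0]; omega)
      (by rw [finrank_span_singleton hv0]; simp)
    exact Or.inr (Or.inr (Or.inr (Or.inr (Or.inr (Or.inl
      ⟨not_odd_of_two h2, v, hv, eq_stab hnd h7 hH hne.1 hne.2 hle⟩)))))
  · refine absurd (plus_of_decomp hnd hD ?_ ⟨2, by simp⟩) hminus
    have htk := Cfsg.Agent.NotMax.mul_card_eq' hD.decomp.decomp
    rw [Fintype.card_fin] at htk
    have ht : t ∣ 2 ^ 3 := ⟨k, by omega⟩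
    obtain ⟨i, hi, rfl⟩ := (Nat.dvd_prime_pow Nat.prime_two).1 ht
    have h2 := hD.decomp.decomp.two_le
    rcases i with _ | i
    · simp at h2
    · exact ⟨2 ^ i, by ring⟩
  · exact absurd (plus_of_pair hk hD hts) hminus
  · rw [Fintype.card_fin] at hdvd
    have hr2 : r = 2 := (Nat.prime_dvd_prime_iff_eq hr Nat.prime_two).1
      (hr.dvd_of_dvd_pow (show r ∣ 2 ^ 3 by simpa using hdvd))
    subst hr2
    exact Or.inr (Or.inr (Or.inr (Or.inr (Or.inr (Or.inr (Or.inl
      ⟨K, hK, eq_of_max hH hle (omega_not_field hnd h7 le_rfl hK)⟩))))))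
  · have h1 := Fintype.card_congr e
    rw [Fintype.card_prod, Fintype.card_fin, Fintype.card_fin, Fintype.card_fin] at h1
    have : 3 * 3 ≤ d * k := Nat.mul_le_mul hd hk
    omega
  · refine absurd ?_ hminus
    have hde : Even d := by simpa using even_of_symp hf₁
    have hke : Even k := by simpa using even_of_symp hf₂
    have h1 := Fintype.card_congr e
    rw [Fintype.card_prod, Fintype.card_fin, Fintype.card_fin, Fintype.card_fin] at h1
    rcases (show d = 2 ∨ k = 2 by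
      obtain ⟨a, rfl⟩ := hde
      obtain ⟨b, rfl⟩ := hke
      by_contra hcon
      push Not at hcon
      have : 4 * 4 ≤ (a + a) * (b + b) := Nat.mul_le_mul (by omega) (by omega)
      omega) with rfl | rfl
    · exact plus_of_symp_tensor hf₁ hst hpure
    · obtain ⟨c, hc, hf⟩ := hst
      refine plus_of_symp_tensor (e := e.trans (Equiv.prodComm _ _)) (P := P) hf₂ (f₂ := f₁) ⟨c, hc, fun x y => ?_⟩
        fun x₁ x₂ => ?_
      · have h2 := hf (x ∘ Prod.swap) (y ∘ Prod.swap)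
        refine (h2.trans ?_)
        refine congrArg _ ?_
        simp only [Cfsg.Geo.formOfGram]
        refine Fintype.sum_equiv (Equiv.prodComm _ _) _ _ fun a => Fintype.sum_equiv (Equiv.prodComm _ _) _ _ fun b => ?_
        simp [Matrix.kronecker_apply, mul_comm]
      · have h2 := hpure x₂ x₁
        rwa [show ((fun a : Fin 2 × Fin d => x₁ a.1 * x₂ a.2) ∘ (e.trans (Equiv.prodComm _ _))) =
          (fun a : Fin d × Fin 2 => x₂ a.1 * x₁ a.2) ∘ e from funext fun i => mul_comm _ _]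
  · rcases hr.eq_two_or_odd' with rfl | hro
    · exact absurd (plus_of_subfield_two hnd hev hζ hc hrat) hminus
    exact Or.inr (Or.inr (Or.inr (Or.inr (Or.inr (Or.inr (Or.inr (Or.inl ⟨F₀, r, P, ζ, hr, hro, hc, hζ, hrat,
      eq_of_max hH hle (sg_not_subfield hnd h7 (hasSg_omega hnd (by simp)) (subfield_proper hr hc) P)⟩)))))))
  · exact absurd hp hminus
  · refine absurd (hp ?_) hminus
    rw [Fintype.card_fin] at hcard
    by_contra hne
    have : 3 ^ 2 ≤ m ^ t := (Nat.pow_le_pow_left (by omega) 2).trans (Nat.pow_le_pow_right (by omega) ht)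
    omega

end Cfsg.Agent.S5826
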