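import Cfsg.Statements.S5828
import Cfsg.Agent.Classical.Decomp.Main
import Cfsg.Agent.ClassicalMax.ExtField.Matrix
import Cfsg.Agent.ClassicalMax.SmallLinear.Plain
import Cfsg.Agent.ClassicalMax.SympThree.Unip
import Cfsg.Agent.ClassicalMax.Hessian.Main
import Cfsg.Agent.ClassicalMax.SmallLinear.Unitary
import Cfsg.Agent.ClassicalMax.SmallLinear.Quadratic
import Cfsg.Agent.ClassicalMax.LWreath.Bridge
import Cfsg.Agent.ClassicalMax.SympThree.Bridge

set_option autoImplicit false
open Cfsg

namespace Cfsg.Agent.S5828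

/-- Maximal subgroups of SL_9(q) of geometric type, for a finite field F with q elements (any q); p denotes the characteristic. Each of the following subgroups of GL_9(F), intersected with SL_9(F), is a maximal subgroup of SL_9(F): (1) the stabiliser of any proper non-zero subspace of F^9; (2) for q ≥ 5, the stabiliser of any decomposition of F^9 into 9 independent 1-spaces; (3) the stabiliser of any decomposition of F^9 into 3 independent 3-spaces; (4) the normaliser of any degree-3 subfield of the 9 × 9 matrix algebra over F (a commutative subalgebra of dimension 3 in which every non-zero element is invertible); (5) every subfield group (a conjugate of GL_9(F₀) times the scalars of F) for a subfield F₀ with |F| = |F₀|^r, r prime; (6) for q = p prime with p ≡ 1 mod 3, the normaliser of any absolutely irreducible 3-subgroup R of exponent 3 and order 3^(1+2m) with centre of order 3, all of whose characteristic abelian subgroups are cyclic, F being the smallest field of characteristic p containing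 the cube roots of unity (here R is extraspecial of order 3^5); (7) the stabiliser of any tensor decomposition of F^9 into 2 factors of dimension 3 (a conjugate of the tensor-wreath subgroup); (8) for q odd, the group of similarities of any non-degenerate quadratic form on F^9; (9) the group of similarities of any non-degenerate unitary form on F^9 (these exist exactly when q is a square). -/
theorem seven_le {p : ℕ} (hp : p.Prime) (h : p % 3 = 1) : 7 ≤ p := by
  have := hp.two_le
  by_contra hlt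
  interval_cases p <;> first | omega | norm_num at hp

theorem result {F : Type*} [Field F] [Fintype F] :
    (∀ W : Submodule F (Fin 9 → F), W ≠ ⊥ → W ≠ ⊤ → Cfsg.Geo.IsMaximalIn (Cfsg.Geo.specialLinear (Fin 9) F) (Cfsg.Geo.subspaceStabilizer W ⊓ Cfsg.Geo.specialLinear (Fin 9) F)) ∧
    (5 ≤ Fintype.card F → ∀ D : Fin 9 → Submodule F (Fin 9 → F), Cfsg.Geo.IsMDecomposition 1 D → Cfsg.Geo.IsMaximalIn (Cfsg.Geo.specialLinear (Fin 9) F) (Cfsg.Geo.decompositionStabilizer D ⊓ Cfsg.Geo.specialLinear (Fin 9) F)) ∧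
    (∀ D : Fin 3 → Submodule F (Fin 9 → F), Cfsg.Geo.IsMDecomposition 3 D → Cfsg.Geo.IsMaximalIn (Cfsg.Geo.specialLinear (Fin 9) F) (Cfsg.Geo.decompositionStabilizer D ⊓ Cfsg.Geo.specialLinear (Fin 9) F)) ∧
    (∀ K : Subalgebra F (Matrix (Fin 9) (Fin 9) F), Cfsg.Geo.IsFieldSubalgebra 3 K → Cfsg.Geo.IsMaximalIn (Cfsg.Geo.specialLinear (Fin 9) F) (Cfsg.Geo.subalgebraNormalizer K ⊓ Cfsg.Geo.specialLinear (Fin 9) F)) ∧
    (∀ (F₀ : Subfield F) (r : ℕ) (P : Matrix.GeneralLinearGroup (Fin 9) F), r.Prime → Fintype.card F = Nat.card F₀ ^ r → Cfsg.Geo.IsMaximalIn (Cfsg.Geo.specialLinear (Fin 9) F) (Cfsg.Geo.subfieldSubgroup F₀ P ⊓ Cfsg.Geo.specialLinear (Fin 9) F)) ∧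
    ((∃ p : ℕ, p.Prime ∧ Fintype.card F = p ∧ (p % 3 = 1)) → ∀ R : Subgroup (Matrix.GeneralLinearGroup (Fin 9) F), Cfsg.Geo.IsLinearSymplecticTypeData 3 R → Cfsg.Geo.IsMaximalIn (Cfsg.Geo.specialLinear (Fin 9) F) (Cfsg.Geo.subgroupNormalizer R ⊓ Cfsg.Geo.specialLinear (Fin 9) F)) ∧
    (∀ (e : Fin 9 ≃ (Fin 2 → Fin 3)) (P : Matrix.GeneralLinearGroup (Fin 9) F), Cfsg.Geo.IsMaximalIn (Cfsg.Geo.specialLinear (Fin 9) F) (Cfsg.Geo.tensorWreathSubgroup 3 2 e P ⊓ Cfsg.Geo.specialLinear (Fin 9) F)) ∧
    (Odd (Fintype.card F) → ∀ Q : (Fin 9 → F) → F, Cfsg.Geo.IsNondegenerateQuadraticForm Q → Cfsg.Geo.IsMaximalIn (Cfsg.Geo.specialLinear (Fin 9) F) (Cfsg.Geo.quadSimilarityGroup Q ⊓ Cfsg.Geo.specialLinear (Fin 9) F)) ∧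
    (∀ (σ : F ≃+* F) (f : (Fin 9 → F) → (Fin 9 → F) → F), Cfsg.Geo.IsUnitaryForm σ f → Cfsg.Geo.IsMaximalIn (Cfsg.Geo.specialLinear (Fin 9) F) (Cfsg.Geo.similarityGroup f ⊓ Cfsg.Geo.specialLinear (Fin 9) F)) := by
  exact ⟨fun W h0 h1 => ClassicalMax.SmallLinear.subspace _ W h0 h1,
    fun h5 D hD => Classical.Decomp.isMaximal hD (by simp) (by omega) (by omega),
    fun D hD => Classical.Decomp.isMaximal hD (by simp) (by omega) (by omega),
    fun K hK => (ClassicalMax.ExtField.isMaximal_normalizer Nat.prime_three K hK (by simp)).2,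
    fun F₀ r P hr hc => ClassicalMax.SmallLinear.subfield _ (by norm_num) F₀ r hr hc P,
    fun ⟨_, hp, hF, hp3⟩ R hR => by
      obtain ⟨K⟩ := ClassicalMax.SympThree.exists_root hp hF hp3
      haveI := Fact.mk hp
      haveI := charP_of_card_eq_prime hF
      have h7 : 7 ≤ _ := seven_le hp hp3
      haveI : NeZero (2 : F) := ⟨Ring.two_ne_zero (by rw [ringChar.eq F _]; omega)⟩
      have hA : K.AltSL := K.altSL_of_core hp hF (le_trans (by norm_num) h7)
        fun _ hsl hW hT hFr hF' hnt hP => ClassicalMax.Hessian.core h7 ⟨hsl, hW, hT, hFr, hF', hnt⟩ hP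
      exact ClassicalMax.SympThree.maximal_of_data K (K.dich_of_alt hA)
        ((Fintype.equivFinOfCardEq (by rw [Fintype.card_prod, ZMod.card])).symm) hR
        (ClassicalMax.SympThree.card_of_data K hR),
    fun e P => ClassicalMax.LWreath.isMaximalIn le_rfl le_rfl e P,
    fun ho Q hQ => ClassicalMax.SmallLinear.Quadratic.isMaximal _ (by norm_num) ho Q hQ,
    fun σ f hf => ClassicalMax.SmallLinear.Unitary.isMaximal _ (by norm_num) σ f hf⟩

end Cfsg.Agent.S5828
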