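import Cfsg.Statements.S5829
import Cfsg.Agent.Asch.LinearMax

set_option autoImplicit false
open Cfsg

namespace Cfsg.Agent.S5829

/-- Every maximal subgroup of SL_9(q) is of one of the listed geometric types or lies in the residual class. Let F be a finite field with q elements (p its characteristic) and H a maximal subgroup of SL_9(F) (inside GL_9(F)). Then H is the intersection with SL_9(F) of one of: the stabiliser of a proper non-zero subspace; for q ≥ 5, the stabiliser of a decomposition into 9 independent 1-spaces; the stabiliser of a decomposition into 3 independent 3-spaces; the normaliser of a degree-3 subfield of the matrix algebra; a subfield group for a subfield F₀ with |F| = |F₀|^r, r prime; for q = p prime with p ≡ 1 mod 3, the normaliser of an absolutely irreducible 3-subgroup R of exponent 3 and order 3^(1+2m) with centre of order 3, all of whose characteristic abelian subgroups are cyclic, F being the smallest field of characteristic p containing the cube roots of unity (here R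 is extraspecial of order 3^5); the stabiliser of a tensor decomposition into 2 factors of dimension 3; for q odd, the similarity group of a non-degenerate quadratic form; the similarity group of a non-degenerate unitary form — or else H lies in the residual class of the linear case (modulo scalars H is almost simple, with absolutely irreducible perfect socle preimage realisable over no proper subfield and fixing no non-degenerate quadratic, symplectic or unitary form). -/
theorem result {F : Type*} [Field F] [Fintype F] (H : Subgroup (Matrix.GeneralLinearGroup (Fin 9) F)) (hH : Cfsg.Geo.IsMaximalIn (Cfsg.Geo.specialLinear (Fin 9) F) H) :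
    (∃ W : Submodule F (Fin 9 → F), W ≠ ⊥ ∧ W ≠ ⊤ ∧ H = Cfsg.Geo.subspaceStabilizer W ⊓ Cfsg.Geo.specialLinear (Fin 9) F) ∨
    (5 ≤ Fintype.card F ∧ ∃ D : Fin 9 → Submodule F (Fin 9 → F), Cfsg.Geo.IsMDecomposition 1 D ∧ H = Cfsg.Geo.decompositionStabilizer D ⊓ Cfsg.Geo.specialLinear (Fin 9) F) ∨
    (∃ D : Fin 3 → Submodule F (Fin 9 → F), Cfsg.Geo.IsMDecomposition 3 D ∧ H = Cfsg.Geo.decompositionStabilizer D ⊓ Cfsg.Geo.specialLinear (Fin 9) F) ∨
    (∃ K : Subalgebra F (Matrix (Fin 9) (Fin 9) F), Cfsg.Geo.IsFieldSubalgebra 3 K ∧ H = Cfsg.Geo.subalgebraNormalizer K ⊓ Cfsg.Geo.specialLinear (Fin 9) F) ∨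
    (∃ (F₀ : Subfield F) (r : ℕ) (P : Matrix.GeneralLinearGroup (Fin 9) F), r.Prime ∧ Fintype.card F = Nat.card F₀ ^ r ∧ H = Cfsg.Geo.subfieldSubgroup F₀ P ⊓ Cfsg.Geo.specialLinear (Fin 9) F) ∨
    ((∃ p : ℕ, p.Prime ∧ Fintype.card F = p ∧ (p % 3 = 1)) ∧ ∃ R : Subgroup (Matrix.GeneralLinearGroup (Fin 9) F), Cfsg.Geo.IsLinearSymplecticTypeData 3 R ∧ H = Cfsg.Geo.subgroupNormalizer R ⊓ Cfsg.Geo.specialLinear (Fin 9) F) ∨
    (∃ (e : Fin 9 ≃ (Fin 2 → Fin 3)) (P : Matrix.GeneralLinearGroup (Fin 9) F), H = Cfsg.Geo.tensorWreathSubgroup 3 2 e P ⊓ Cfsg.Geo.specialLinear (Fin 9) F) ∨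
    (Odd (Fintype.card F) ∧ ∃ Q : (Fin 9 → F) → F, Cfsg.Geo.IsNondegenerateQuadraticForm Q ∧ H = Cfsg.Geo.quadSimilarityGroup Q ⊓ Cfsg.Geo.specialLinear (Fin 9) F) ∨
    (∃ (σ : F ≃+* F) (f : (Fin 9 → F) → (Fin 9 → F) → F), Cfsg.Geo.IsUnitaryForm σ f ∧ H = Cfsg.Geo.similarityGroup f ⊓ Cfsg.Geo.specialLinear (Fin 9) F) ∨
    Cfsg.Geo.InLinearResidualClass H := by
  rcases Cfsg.Agent.Asch.linear_max (by norm_num) hH with h | ⟨t, m, D, htm, ht, h1, h2, hD, he⟩ | ⟨r, K, hr, hdvd, hK, he⟩ |
    ⟨d, k, e, P, hdk, hd, hlt, hex, he⟩ | h | ⟨r, m, R, hr, hn, hq2, hq3, hR, he⟩ | ⟨m, t, e, P, hmt, hm, ht, he⟩ | h | ⟨hev, h⟩ | h | h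
  · exact Or.inl (h)
  · have hq := Fintype.one_lt_card (α := F)
    have hm0 := hD.pos
    have hm : m ∣ 9 := ⟨t, by rw [← htm, mul_comm]⟩
    have hmn : m < 9 := by nlinarith
    interval_cases m
    · obtain rfl : t = 9 := by omega
      exact Or.inr (Or.inl (⟨by omega, D, hD, he⟩))
    · norm_num at hm
    · obtain rfl : t = 3 := by omega
      exact Or.inr (Or.inr (Or.inl (⟨D, hD, he⟩)))
    · norm_num at hm
    · norm_num at hm
    · norm_num at hm
    · norm_num at hm
    · norm_num at hm
  · have hrn : r ≤ 9 := Nat.le_of_dvd (by norm_num) hdvd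
    have h2 := hr.two_le
    interval_cases r
    · norm_num at hdvd
    · exact Or.inr (Or.inr (Or.inr (Or.inl (⟨K, hK, he⟩))))
    · norm_num at hr
    · norm_num at hdvd
    · norm_num at hr
    · norm_num at hdvd
    · norm_num at hr
    · norm_num at hr
  · have hq := Fintype.one_lt_card (α := F)
    have hd4 : d < 4 := by nlinarith
    interval_cases d
    · omega
    · omega
  · exact Or.inr (Or.inr (Or.inr (Or.inr (Or.inl (h)))))
  · have hm4 : m < 4 := by
      by_contra hlt
      have h1 : 2 ^ 4 ≤ r ^ m := le_trans (Nat.pow_le_pow_right two_pos (Nat.le_of_not_lt hlt)) (Nat.pow_le_pow_left hr.two_le m)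
      omega
    have h2 := hr.two_le
    have hrn : r ≤ 9 := by rw [hn]; exact Nat.le_self_pow (fun h => by rw [h, pow_zero] at hn; omega) r
    interval_cases r
    · interval_cases m <;> norm_num at hn
    · exact Or.inr (Or.inr (Or.inr (Or.inr (Or.inr (Or.inl (⟨hq3 rfl, R, hR, he⟩))))))
    · norm_num at hr
    · interval_cases m <;> norm_num at hn
    · norm_num at hr
    · interval_cases m <;> norm_num at hn
    · norm_num at hr
    · norm_num at hr
  · have ht3 : t < 3 := by
      by_contra hlt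
      have h1 : 3 ^ 3 ≤ m ^ t := le_trans (Nat.pow_le_pow_right (by norm_num) (Nat.le_of_not_lt hlt)) (Nat.pow_le_pow_left hm t)
      omega
    obtain rfl : t = 2 := by omega
    obtain rfl : m = 3 := by nlinarith
    exact Or.inr (Or.inr (Or.inr (Or.inr (Or.inr (Or.inr (Or.inl (⟨e, P, he⟩)))))))
  · exact Or.inr (Or.inr (Or.inr (Or.inr (Or.inr (Or.inr (Or.inr (Or.inl (h))))))))
  · exact absurd hev (by decide)
  · exact Or.inr (Or.inr (Or.inr (Or.inr (Or.inr (Or.inr (Or.inr (Or.inr (Or.inl (h)))))))))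
  · exact Or.inr (Or.inr (Or.inr (Or.inr (Or.inr (Or.inr (Or.inr (Or.inr (Or.inr ((h))))))))))

end Cfsg.Agent.S5829
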