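import Cfsg.Statements.S5832
import Cfsg.Agent.Asch.UnitMax

set_option autoImplicit false
open Cfsg

namespace Cfsg.Agent.S5832

open Cfsg.Agent.Asch

/-- Every maximal subgroup of SU_9(q) is of one of the listed geometric types or lies in the residual class. Let F be the field with q² elements, f the standard unitary form Σ u_i v_i^q on F^9, and H a maximal subgroup of SU_9(q) (inside GL_9(F)). Then H is the intersection with SU_9(q) of one of: the stabiliser of a non-zero totally isotropic subspace; the stabiliser of a non-degenerate 1-, 2-, 3- or 4-space; the stabiliser of a decomposition into nine mutually orthogonal non-degenerate 1-spaces; of a decomposition into three mutually orthogonal non-degenerate 3-spaces; the normaliser of an adjoint-closed degree-3 subfield of the matrix algebra; a subfield group of odd prime index whose F₀-structure carries f; for q odd, a subfield group of index 2 whose F₀-structure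 carries f; for q = p ≡ 2 mod 3 prime, the normaliser of an absolutely irreducible extraspecial group 3_+^(1+4) of exponent 3 inside the similarity group of f; for q ≥ 3, the stabiliser of a tensor decomposition of f as a tensor square of a unitary form on F^3 — or else H lies in the residual class of the unitary case. -/
theorem result {F : Type*} [Field F] [Fintype F] (q : ℕ) (hF : Fintype.card F = q ^ 2) (H : Subgroup (Matrix.GeneralLinearGroup (Fin 9) F)) (hH : Cfsg.Geo.IsMaximalIn (Cfsg.GU 9 F q ⊓ Cfsg.Geo.specialLinear (Fin 9) F) H) :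
    (∃ W : Submodule F (Fin 9 → F), W ≠ ⊥ ∧ Cfsg.Geo.IsTotallySingularFor (Cfsg.hermForm 9 F q) W ∧ H = Cfsg.Geo.subspaceStabilizer W ⊓ (Cfsg.GU 9 F q ⊓ Cfsg.Geo.specialLinear (Fin 9) F)) ∨
    (∃ W : Submodule F (Fin 9 → F), W ≠ ⊥ ∧ Cfsg.Geo.IsNondegenerateOn (Cfsg.hermForm 9 F q) W ∧ 2 * Module.finrank F W < 9 ∧ H = Cfsg.Geo.subspaceStabilizer W ⊓ (Cfsg.GU 9 F q ⊓ Cfsg.Geo.specialLinear (Fin 9) F)) ∨
    (∃ D : Fin 9 → Submodule F (Fin 9 → F), Cfsg.Geo.IsNondegenerateMDecomposition (Cfsg.hermForm 9 F q) 1 D ∧ H = Cfsg.Geo.decompositionStabilizer D ⊓ (Cfsg.GU 9 F q ⊓ Cfsg.Geo.specialLinear (Fin 9) F)) ∨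
    (∃ D : Fin 3 → Submodule F (Fin 9 → F), Cfsg.Geo.IsNondegenerateMDecomposition (Cfsg.hermForm 9 F q) 3 D ∧ H = Cfsg.Geo.decompositionStabilizer D ⊓ (Cfsg.GU 9 F q ⊓ Cfsg.Geo.specialLinear (Fin 9) F)) ∨
    (∃ K : Subalgebra F (Matrix (Fin 9) (Fin 9) F), Cfsg.Geo.IsFieldSubalgebra 3 K ∧ Cfsg.Geo.IsAdjointClosedFor (Cfsg.hermForm 9 F q) K ∧ H = Cfsg.Geo.subalgebraNormalizer K ⊓ (Cfsg.GU 9 F q ⊓ Cfsg.Geo.specialLinear (Fin 9) F)) ∨
    (∃ (F₀ : Subfield F) (r : ℕ) (P : Matrix.GeneralLinearGroup (Fin 9) F), r.Prime ∧ Odd r ∧ Fintype.card F = Nat.card F₀ ^ r ∧ Cfsg.Geo.IsFormRationalStructure (Cfsg.hermForm 9 F q) F₀ 1 P ∧ H = Cfsg.Geo.subfieldSubgroup F₀ P ⊓ (Cfsg.GU 9 F q ⊓ Cfsg.Geo.specialLinear (Fin 9) F)) ∨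
    (Odd q ∧ ∃ (F₀ : Subfield F) (P : Matrix.GeneralLinearGroup (Fin 9) F), Fintype.card F = Nat.card F₀ ^ 2 ∧ Cfsg.Geo.IsFormRationalStructure (Cfsg.hermForm 9 F q) F₀ 1 P ∧ H = Cfsg.Geo.subfieldSubgroup F₀ P ⊓ (Cfsg.GU 9 F q ⊓ Cfsg.Geo.specialLinear (Fin 9) F)) ∨
    (∃ (p : ℕ) (R : Subgroup (Matrix.GeneralLinearGroup (Fin 9) F)), p.Prime ∧ q = p ∧ p % 3 = 2 ∧ Cfsg.Geo.IsSymplecticTypeGroup 3 R ∧ Cfsg.Geo.ActsAbsolutelyIrreducibly (Cfsg.Geo.matrixSet R) ∧ R ≤ Cfsg.Geo.similarityGroup (Cfsg.hermForm 9 F q) ∧ Nat.card R = 243 ∧ Nat.card (Subgroup.center R) = 3 ∧ H = Cfsg.Geo.subgroupNormalizer R ⊓ (Cfsg.GU 9 F q ⊓ Cfsg.Geo.specialLinear (Fin 9) F)) ∨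
    (3 ≤ q ∧ ∃ (e : Fin 9 ≃ (Fin 2 → Fin 3)) (P : Matrix.GeneralLinearGroup (Fin 9) F) (f₁ : (Fin 3 → F) → (Fin 3 → F) → F), Cfsg.Geo.IsUnitaryFormPow q f₁ ∧ Cfsg.Geo.IsTensorPowerFormStructure (fun x : F => x ^ q) (Cfsg.hermForm 9 F q) f₁ e P ∧ H = Cfsg.Geo.tensorWreathSubgroup 3 2 e P ⊓ (Cfsg.GU 9 F q ⊓ Cfsg.Geo.specialLinear (Fin 9) F)) ∨
    Cfsg.Geo.InUnitaryResidualClass H := by
  rcases unit_max (by norm_num) hF hH with hmem | hres
  swap
  · exact Or.inr (Or.inr (Or.inr (Or.inr (Or.inr (Or.inr (Or.inr (Or.inr (Or.inr (hres)))))))))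
  obtain ⟨W, hb, hts, he⟩ | ⟨W, hb, hnd, hlt, he⟩ | ⟨t, k, D, hD, ht, htk, hq, he⟩ | ⟨k, D, hk, hD, hts, he⟩ |
    ⟨F₀, r, P, hr, ho, hc, hrat, he⟩ | ⟨F₀, P, ζ, hev, hc, hζ, hsk, hrat, halt, he⟩ | ⟨F₀, P, hq, hc, hrat, he⟩ |
    ⟨r, K, hr, ho, hdvd, hK, hadj, he⟩ |
    ⟨R, r, p, e, m, hst, habs, hsim, hp, hrp, hqp, hdiv, hmin, hm, hshape, -, he, -⟩ |
    ⟨d, k, e, P, f₁, f₂, hd, hdk, hprod, hq, hf₁, hf₂, hst, he⟩ |
    ⟨m, t, e, P, f₁, hm, ht, hex, hmt, hf₁, hst, he, -⟩ := hmem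
  · exact Or.inl ⟨W, hb, hts, he⟩
  · exact Or.inr (Or.inl ⟨W, hb, hnd, hlt, he⟩)
  · have hk : k ≤ 4 := by nlinarith
    rcases (show (k = 1 ∧ t = 9) ∨ (k = 3 ∧ t = 3) by interval_cases k <;> omega) with ⟨rfl, rfl⟩ | ⟨rfl, rfl⟩
    · exact Or.inr (Or.inr (Or.inl ⟨D, hD, he⟩))
    · exact Or.inr (Or.inr (Or.inr (Or.inl ⟨D, hD, he⟩)))
  · omega
  · exact Or.inr (Or.inr (Or.inr (Or.inr (Or.inr (Or.inl ⟨F₀, r, P, hr, ho, hc, hrat, he⟩)))))
  · exact absurd hev (by decide)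
  · exact Or.inr (Or.inr (Or.inr (Or.inr (Or.inr (Or.inr (Or.inl ⟨hq, F₀, P, hc, hrat, he⟩))))))
  · have hr' : r ≤ 9 := Nat.le_of_dvd (by norm_num) hdvd
    rcases (show r = 3 by
      interval_cases r <;> first | rfl | (norm_num at hdvd; done) | (norm_num at hr; done) | (exact absurd ho (by decide))) with rfl
    exact Or.inr (Or.inr (Or.inr (Or.inr (Or.inl ⟨K, hK, hadj, he⟩))))
  · have hrP := hst.prime
    obtain ⟨hr', hm'⟩ : r ≤ 9 ∧ m ≤ 3 := by
      have hr2 := hst.prime.two_le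
      refine ⟨?_, ?_⟩
      · rw [hm]; exact Nat.le_self_pow (by rintro rfl; simp at hm) r
      · by_contra hcon
        have h1 := Nat.pow_le_pow_left hr2 m
        have h2 := Nat.pow_le_pow_right (show 0 < 2 by norm_num) (show 4 ≤ m by omega)
        omega
    rcases (show r = 3 ∧ m = 2 by
      interval_cases m <;> interval_cases r <;> first | exact ⟨rfl, rfl⟩ | (norm_num at hm; done) | (norm_num at hrP; done)) with
      ⟨rfl, rfl⟩
    rcases hshape with ⟨-, hz, -, hR⟩ | ⟨h1, -⟩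
    swap
    · exact absurd h1 (by norm_num)
    rw [hz] at hdiv hmin
    have hp3 : p % 3 ≠ 0 := fun h => hrp ((Nat.prime_dvd_prime_iff_eq Nat.prime_three hp).1 (Nat.dvd_of_mod_eq_zero h))
    have he2 : e ≤ 2 := by
      by_contra hcon
      refine hmin 2 two_pos (by omega) ?_
      have hm3 := Nat.mul_mod p p 3
      rcases (show p % 3 = 1 ∨ p % 3 = 2 by omega) with h | h <;> rw [h] at hm3 <;> norm_num at hm3 <;> rw [pow_two] <;>
        omega
    obtain rfl : e = 2 := by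
      rcases (show e = 0 ∨ e = 1 ∨ e = 2 by omega) with rfl | rfl | rfl
      · exfalso
        rw [pow_zero] at hqp
        have := root_two_le hF
        nlinarith
      · exfalso
        rw [pow_one] at hqp
        rw [← hqp] at hp
        exact Nat.Prime.not_prime_pow le_rfl hp
      · rfl
    obtain rfl : q = p := Nat.pow_left_injective two_ne_zero hqp
    have h3 := hmin 1 one_pos one_lt_two
    rw [pow_one] at h3
    have := hp.two_le
    exact Or.inr (Or.inr (Or.inr (Or.inr (Or.inr (Or.inr (Or.inr (Or.inl ⟨q, R, hp, rfl, by omega, hst, habs, hsim, by simpa using hR, hz, he (by norm_num)⟩)))))))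
  · exfalso
    have hk : k ≤ 9 := by nlinarith
    interval_cases k <;> interval_cases d <;> omega
  · have hm' : m ≤ 9 := hmt ▸ Nat.le_self_pow (by omega) m
    have ht' : t ≤ 2 := by
      by_contra hcon
      have h1 := Nat.pow_le_pow_left hm t
      have h2 := Nat.pow_le_pow_right (show 0 < 3 by norm_num) (show 3 ≤ t by omega)
      omega
    obtain rfl : t = 2 := by omega
    obtain rfl : m = 3 := Nat.pow_left_injective two_ne_zero hmt
    have hq2 := root_two_le hF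
    exact Or.inr (Or.inr (Or.inr (Or.inr (Or.inr (Or.inr (Or.inr (Or.inr (Or.inl ⟨by by_contra h; exact hex ⟨by omega, rfl⟩, e, P, f₁, hf₁, hst, he rfl⟩))))))))

end Cfsg.Agent.S5832
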