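import Cfsg.Statements.S5834
import Cfsg.Agent.ClassicalMax.RootPar
import Cfsg.Agent.ClassicalMax.RootNondeg
import Cfsg.Agent.ClassicalMax.NdFour
import Cfsg.Agent.ClassicalMax.OrthMono.Bridge
import Cfsg.Agent.ClassicalMax.Subfield.Odd.Main
import Cfsg.Agent.ClassicalMax.DecAny.Maximal
import Cfsg.Agent.Classical.QuadStd
import Cfsg.Agent.Classical.QuadTypes
import Cfsg.Agent.Classical.QuadBasis
import Cfsg.Agent.S5680
import Cfsg.Agent.ClassicalMax.OTensor3.Bridge

set_option autoImplicit false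
open Cfsg

namespace Cfsg.Agent.S5834

open Cfsg.Agent.ClassicalMax Cfsg.Agent.Classical

/-- Maximal subgroups of Ω_9(q) of geometric type, q odd. Let F be a finite field of odd order q, Q the standard quadratic form x₀² + Σ x_i y_i on F^9 (coordinates Unit ⊕ (Fin 4 ⊕ Fin 4)), and Ω = Ω_9(q) the commutator subgroup of its isometry group, inside GL_9(F). Each of the following, intersected with Ω, is a maximal subgroup of Ω: (1) the stabiliser of any non-zero subspace on which Q vanishes identically (totally singular 1- to 4-spaces); (2) the stabiliser of any non-zero even-dimensional subspace W (dimension 2, 4, 6 or 8) on which the polar form of Q is non-degenerate (equivalently of its odd-dimensional orthogonal complement), except when q = 3 and W is a 2-space containing a non-zero singular vector (a plus-type plane); (3) for q = p prime, the stabiliser of any decomposition of F^9 into nine pairwise orthogonal, pairwise Q-isometric non-degenerate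 1-spaces; (4) for q ≥ 5, the stabiliser of any decomposition of F^9 into three pairwise orthogonal, pairwise Q-isometric non-degenerate 3-spaces; (5) the normaliser of any degree-3 subfield K of the matrix algebra whose elements are self-adjoint for the polar form of Q (Q is then the trace of a quadratic form over K); (6) every subfield group for a subfield F₀ with |F| = |F₀|^r, r prime, whose F₀-structure carries Q; (7) for q ≥ 5, the stabiliser of any decomposition of the polar form of Q as the tensor square of a non-degenerate symmetric bilinear form on F^3 up to a scalar (tensor-wreath subgroup). -/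
theorem result {F : Type*} [Field F] [Fintype F] (hodd : Odd (Fintype.card F)) :
    (∀ W : Submodule F (Unit ⊕ (Fin 4 ⊕ Fin 4) → F), W ≠ ⊥ → Cfsg.Geo.IsTotallySingularQuad (Cfsg.quadFormOdd 4 F) W → Cfsg.Geo.IsMaximalIn (Cfsg.Geo.omegaGL (Cfsg.quadFormOdd 4 F)) (Cfsg.Geo.subspaceStabilizer W ⊓ Cfsg.Geo.omegaGL (Cfsg.quadFormOdd 4 F))) ∧
    (∀ W : Submodule F (Unit ⊕ (Fin 4 ⊕ Fin 4) → F), W ≠ ⊥ → Even (Module.finrank F W) → Cfsg.Geo.IsNondegenerateOn (QuadraticMap.polar (Cfsg.quadFormOdd 4 F)) W → ¬ (Fintype.card F = 3 ∧ Module.finrank F W = 2 ∧ Cfsg.Geo.IsPlusTypeOn (Cfsg.quadFormOdd 4 F) W) → Cfsg.Geo.IsMaximalIn (Cfsg.Geo.omegaGL (Cfsg.quadFormOdd 4 F)) (Cfsg.Geo.subspaceStabilizer W ⊓ Cfsg.Geo.omegaGL (Cfsg.quadFormOdd 4 F))) ∧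
    ((Fintype.card F).Prime → ∀ D : Fin 9 → Submodule F (Unit ⊕ (Fin 4 ⊕ Fin 4) → F), Cfsg.Geo.IsOrthogonalMDecomposition (Cfsg.quadFormOdd 4 F) 1 D → Cfsg.Geo.IsMaximalIn (Cfsg.Geo.omegaGL (Cfsg.quadFormOdd 4 F)) (Cfsg.Geo.decompositionStabilizer D ⊓ Cfsg.Geo.omegaGL (Cfsg.quadFormOdd 4 F))) ∧
    (5 ≤ Fintype.card F → ∀ D : Fin 3 → Submodule F (Unit ⊕ (Fin 4 ⊕ Fin 4) → F), Cfsg.Geo.IsOrthogonalMDecomposition (Cfsg.quadFormOdd 4 F) 3 D → Cfsg.Geo.IsMaximalIn (Cfsg.Geo.omegaGL (Cfsg.quadFormOdd 4 F)) (Cfsg.Geo.decompositionStabilizer D ⊓ Cfsg.Geo.omegaGL (Cfsg.quadFormOdd 4 F))) ∧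
    (∀ K : Subalgebra F (Matrix (Unit ⊕ (Fin 4 ⊕ Fin 4)) (Unit ⊕ (Fin 4 ⊕ Fin 4)) F), Cfsg.Geo.IsFieldSubalgebra 3 K → Cfsg.Geo.IsSelfAdjointFor (QuadraticMap.polar (Cfsg.quadFormOdd 4 F)) K → Cfsg.Geo.IsMaximalIn (Cfsg.Geo.omegaGL (Cfsg.quadFormOdd 4 F)) (Cfsg.Geo.subalgebraNormalizer K ⊓ Cfsg.Geo.omegaGL (Cfsg.quadFormOdd 4 F))) ∧
    (∀ (F₀ : Subfield F) (r : ℕ) (P : Matrix.GeneralLinearGroup (Unit ⊕ (Fin 4 ⊕ Fin 4)) F), r.Prime → Fintype.card F = Nat.card F₀ ^ r → Cfsg.Geo.IsQuadFormRationalStructure (Cfsg.quadFormOdd 4 F) F₀ P → Cfsg.Geo.IsMaximalIn (Cfsg.Geo.omegaGL (Cfsg.quadFormOdd 4 F)) (Cfsg.Geo.subfieldSubgroup F₀ P ⊓ Cfsg.Geo.omegaGL (Cfsg.quadFormOdd 4 F))) ∧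
    (5 ≤ Fintype.card F → ∀ (e : (Unit ⊕ (Fin 4 ⊕ Fin 4)) ≃ (Fin 2 → Fin 3)) (P : Matrix.GeneralLinearGroup (Unit ⊕ (Fin 4 ⊕ Fin 4)) F) (f₁ : (Fin 3 → F) → (Fin 3 → F) → F), Cfsg.Geo.IsSymmetricForm f₁ → Cfsg.Geo.IsTensorPowerFormStructure id (QuadraticMap.polar (Cfsg.quadFormOdd 4 F)) f₁ e P → Cfsg.Geo.IsMaximalIn (Cfsg.Geo.omegaGL (Cfsg.quadFormOdd 4 F)) (Cfsg.Geo.tensorWreathSubgroup 3 2 e P ⊓ Cfsg.Geo.omegaGL (Cfsg.quadFormOdd 4 F))) := by
  classical
  have h2 : (2 : F) ≠ 0 := Ring.two_ne_zero fun h => by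
    have h' := FiniteField.even_card_of_char_two h
    obtain ⟨r, hr⟩ := hodd
    omega
  let Q : QuadraticForm F (Unit ⊕ (Fin 4 ⊕ Fin 4) → F) := (Quad.hyp (Quad.sqForm F) 4).comp (Quad.oddCoord 4).toLinearMap
  have hQe : ⇑Q = Cfsg.quadFormOdd 4 F := funext fun x => by simp [Q, Quad.oddCoord_map]
  have hQ : (QuadraticMap.polarBilin Q).Nondegenerate :=
    Quad.Iso.nondeg (Quad.Iso.symm ⟨Quad.oddCoord 4, fun x => by simp [Q]⟩) (Quad.nondeg_hyp (Quad.nondeg_sqForm h2) 4)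
  have hcard : Fintype.card (Unit ⊕ (Fin 4 ⊕ Fin 4)) = 9 := by simp
  have hdim : Module.finrank F (Unit ⊕ (Fin 4 ⊕ Fin 4) → F) = 9 := by
    rw [Module.finrank_fintype_fun_eq_card, hcard]
  rw [← hQe]
  refine ⟨fun W hW0 hW => ?_, fun W hW0 hev hW hex => ?_,
    fun hprime D hD => OrthMono.isMaximalIn_frame Q hQ h2 hprime (by omega) D hD,
    fun hq D hD => DecAny.maximalFintype (Q := Q) hQ (by omega) 3 (by omega) (fun h => by omega) (fun _ => le_rfl) hD
      (fun _ => ⟨hodd, fun h => by omega⟩) (fun h => by omega) (fun h => by omega),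
    fun K hK hsa => by
      have hKfield : IsField K :=
        { exists_pair_ne := ⟨0, 1, fun h => zero_ne_one (congrArg Subtype.val h)⟩
          mul_comm := fun x y => Subtype.ext (hK.comm _ x.2 _ y.2)
          mul_inv_cancel := fun {a} ha => by
            obtain ⟨y, hy, h⟩ := hK.inv _ a.2 (fun e => ha (Subtype.ext e))
            exact ⟨⟨y, hy⟩, Subtype.ext h⟩ }
      letI : Field K := hKfield.toField
      exact S5680.aux (by omega) (by rw [hcard]; decide) Q hQ h2 K.val (by rw [hK.finrank_eq]; norm_num)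
        (by rw [hK.finrank_eq, hcard]; norm_num) K (fun x => ⟨fun h => ⟨⟨x, h⟩, rfl⟩, fun ⟨k, e⟩ => e ▸ k.2⟩) hsa,
    fun F₀ r P hr hc hP => Subfield.Odd.isMaximalIn_subfield_odd Q hQ h2 (by omega) (by rw [hcard]; decide) F₀ hr hc P
      one_ne_zero fun u hu => by rw [one_mul, glEquiv_apply]; exact hP u hu,
    fun hq e P f₁ hf₁ hT => OTensor3.isMaximal_wreath Q hQ h2 hq e P f₁ hf₁ hT⟩
  · refine RootPlanes.isMaximalIn_parabolic Q hQ (by omega) W hW0 hW fun a haq haP haW h => ?_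
    have h1 := RootPlanes.finrank_perpS hQ W
    rw [hdim, h] at h1
    omega
  · have hWnd : RootPlanes.NdOn Q W := fun x hx h => by_contra fun h0 =>
      (hW x hx h0).2.elim fun y hy => hy.2 (h y hy.1)
    have hsum := RootPlanes.finrank_perpS hQ W
    obtain ⟨k, hk⟩ := hev
    have hW1 : W ≠ ⊤ := fun h => by
      rw [h, finrank_top, hdim] at hk
      omega
    have hex' : ∀ U : Submodule F (Unit ⊕ (Fin 4 ⊕ Fin 4) → F), Module.finrank F U = 2 → Nat.card F ≤ 3 →
        (U = W ∨ U = RootPlanes.perpS Q W) → ∀ b ∈ U, Q b = 0 → b = 0 := by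
      intro U hU hc hUW b hb hbq
      by_contra hb0
      rcases hUW with rfl | rfl
      · refine hex ⟨?_, hU, Submodule.span F {b}, (Submodule.span_singleton_le_iff_mem _ _).2 hb, ?_, ?_⟩
        · have := Fintype.one_lt_card (α := F)
          rw [Nat.card_eq_fintype_card] at hc
          obtain ⟨r, hr⟩ := hodd
          omega
        · intro x hx
          obtain ⟨c, rfl⟩ := Submodule.mem_span_singleton.1 hx
          rw [Quad.map_smul', hbq, mul_zero]
        · rw [finrank_span_singleton hb0, hU]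
      · omega
    by_cases h4 : Module.finrank F W = 4
    · exact NdFour.isMaximalIn_nd4 Q hQ h2 (by omega) hWnd hW0 hW1 (by omega) (by omega) hex'
    · refine RootPlanes.isMaximalIn_nd6 Q hQ (by omega) hWnd hW0 hW1 (by omega) (fun h => by omega) hex'

end Cfsg.Agent.S5834
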