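import Cfsg.Statements.S5835
import Cfsg.Agent.Asch.OddProper

set_option autoImplicit false
open Cfsg

namespace Cfsg.Agent.S5835

open Matrix Cfsg.Geo Cfsg.Agent.PrimeDim Cfsg.Agent.Asch
open scoped MatrixGroups

/-- Every maximal subgroup of Ω_9(q), q odd, is of one of the listed geometric types or lies in the residual class. Let F be a finite field of odd order q, Q the standard quadratic form x₀² + Σ x_i y_i on F^9 (coordinates Unit ⊕ (Fin 4 ⊕ Fin 4)), Ω the commutator subgroup of its isometry group, and H a maximal subgroup of Ω (inside GL_9(F)). Then H is the intersection with Ω of one of: the stabiliser of a non-zero totally singular subspace; the stabiliser of a non-zero non-degenerate subspace of even dimension (not a plus-type plane when q = 3); for q prime, the stabiliser of a decomposition into nine pairwise orthogonal, pairwise isometric non-degenerate 1-spaces; for q ≥ 5, the stabiliser of a decomposition into three pairwise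 orthogonal, pairwise isometric non-degenerate 3-spaces; the normaliser of a degree-3 subfield of the matrix algebra, self-adjoint for the polar form; a subfield group (|F| = |F₀|^r, r prime) whose F₀-structure carries Q; for q ≥ 5, the stabiliser of a tensor decomposition of the polar form as a tensor square of a symmetric form on F^3 — or else H lies in the residual class of the orthogonal case (modulo scalars H is almost simple, with absolutely irreducible perfect socle preimage realisable over no proper subfield and fixing no non-degenerate unitary form). -/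
theorem result {F : Type*} [Field F] [Fintype F] (hodd : Odd (Fintype.card F)) (H : Subgroup (Matrix.GeneralLinearGroup (Unit ⊕ (Fin 4 ⊕ Fin 4)) F)) (hH : Cfsg.Geo.IsMaximalIn (Cfsg.Geo.omegaGL (Cfsg.quadFormOdd 4 F)) H) :
    (∃ W : Submodule F (Unit ⊕ (Fin 4 ⊕ Fin 4) → F), W ≠ ⊥ ∧ Cfsg.Geo.IsTotallySingularQuad (Cfsg.quadFormOdd 4 F) W ∧ H = Cfsg.Geo.subspaceStabilizer W ⊓ Cfsg.Geo.omegaGL (Cfsg.quadFormOdd 4 F)) ∨
    (∃ W : Submodule F (Unit ⊕ (Fin 4 ⊕ Fin 4) → F), W ≠ ⊥ ∧ Even (Module.finrank F W) ∧ Cfsg.Geo.IsNondegenerateOn (QuadraticMap.polar (Cfsg.quadFormOdd 4 F)) W ∧ ¬ (Fintype.card F = 3 ∧ Module.finrank F W = 2 ∧ Cfsg.Geo.IsPlusTypeOn (Cfsg.quadFormOdd 4 F) W) ∧ H = Cfsg.Geo.subspaceStabilizer W ⊓ Cfsg.Geo.omegaGL (Cfsg.quadFormOdd 4 F)) ∨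
    ((Fintype.card F).Prime ∧ ∃ D : Fin 9 → Submodule F (Unit ⊕ (Fin 4 ⊕ Fin 4) → F), Cfsg.Geo.IsOrthogonalMDecomposition (Cfsg.quadFormOdd 4 F) 1 D ∧ H = Cfsg.Geo.decompositionStabilizer D ⊓ Cfsg.Geo.omegaGL (Cfsg.quadFormOdd 4 F)) ∨
    (5 ≤ Fintype.card F ∧ ∃ D : Fin 3 → Submodule F (Unit ⊕ (Fin 4 ⊕ Fin 4) → F), Cfsg.Geo.IsOrthogonalMDecomposition (Cfsg.quadFormOdd 4 F) 3 D ∧ H = Cfsg.Geo.decompositionStabilizer D ⊓ Cfsg.Geo.omegaGL (Cfsg.quadFormOdd 4 F)) ∨
    (∃ K : Subalgebra F (Matrix (Unit ⊕ (Fin 4 ⊕ Fin 4)) (Unit ⊕ (Fin 4 ⊕ Fin 4)) F), Cfsg.Geo.IsFieldSubalgebra 3 K ∧ Cfsg.Geo.IsSelfAdjointFor (QuadraticMap.polar (Cfsg.quadFormOdd 4 F)) K ∧ H = Cfsg.Geo.subalgebraNormalizer K ⊓ Cfsg.Geo.omegaGL (Cfsg.quadFormOdd 4 F)) ∨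
    (∃ (F₀ : Subfield F) (r : ℕ) (P : Matrix.GeneralLinearGroup (Unit ⊕ (Fin 4 ⊕ Fin 4)) F), r.Prime ∧ Fintype.card F = Nat.card F₀ ^ r ∧ Cfsg.Geo.IsQuadFormRationalStructure (Cfsg.quadFormOdd 4 F) F₀ P ∧ H = Cfsg.Geo.subfieldSubgroup F₀ P ⊓ Cfsg.Geo.omegaGL (Cfsg.quadFormOdd 4 F)) ∨
    (5 ≤ Fintype.card F ∧ ∃ (e : (Unit ⊕ (Fin 4 ⊕ Fin 4)) ≃ (Fin 2 → Fin 3)) (P : Matrix.GeneralLinearGroup (Unit ⊕ (Fin 4 ⊕ Fin 4)) F) (f₁ : (Fin 3 → F) → (Fin 3 → F) → F), Cfsg.Geo.IsSymmetricForm f₁ ∧ Cfsg.Geo.IsTensorPowerFormStructure id (QuadraticMap.polar (Cfsg.quadFormOdd 4 F)) f₁ e P ∧ H = Cfsg.Geo.tensorWreathSubgroup 3 2 e P ⊓ Cfsg.Geo.omegaGL (Cfsg.quadFormOdd 4 F)) ∨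
    Cfsg.Geo.InOrthogonalResidualClass H := by
  classical
  have h2 := PrimeDim.two_ne_zero_of_odd hodd
  obtain ⟨hSie, hspan, e₁, e₂, f₁, f₂, hP⟩ := omega_facts hodd (show 3 ≤ 4 by omega)
  obtain ⟨hpol, hset⟩ := S5673.odd_setting hodd (show 3 ≤ 4 by omega) hH.1.le
  obtain ⟨-, hsetA⟩ := S5673.odd_setting hodd (show 3 ≤ 4 by omega) (le_refl (omegaGL (Cfsg.quadFormOdd 4 F)))
  set A := omegaGL (Cfsg.quadFormOdd 4 F) with hA
  set G := gramMatrix (QuadraticMap.polar (Cfsg.quadFormOdd 4 F)) with hGdef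
  have hs := hset.symm
  have hG := hset.rg.det
  have hcard : Fintype.card (Unit ⊕ (Fin 4 ⊕ Fin 4)) = 9 := by simp
  have h5 : 5 ≤ Fintype.card (Unit ⊕ (Fin 4 ⊕ Fin 4)) := by rw [hcard]; norm_num
  have hirrA : Irr A := omega_irr hG hs h2 hSie h5 hspan
  have hstab : ∀ W : Submodule F (Unit ⊕ (Fin 4 ⊕ Fin 4) → F), W ≠ ⊥ → W ≠ ⊤ → ¬ A ≤ subspaceStabilizer W := by
    intro W hb ht hle
    rcases hirrA W (fun g hg v hv => ((hle hg : _) v).1 hv) with h | h
    · exact hb h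
    · exact ht h
  have hq3 : 3 ≤ Fintype.card F := by
    have h1 := Fintype.one_lt_card (α := F)
    obtain ⟨k, hk⟩ := hodd
    omega
  have hfive : Fintype.card F ≠ 3 → 5 ≤ Fintype.card F := fun hne => by
    obtain ⟨k, hk⟩ := hodd
    omega
  have hlines : (Fintype.card F).Prime → ∀ D : Fin (Fintype.card (Unit ⊕ (Fin 4 ⊕ Fin 4))) →
      Submodule F (Unit ⊕ (Fin 4 ⊕ Fin 4) → F), IsNondegenerateMDecomposition (formG (RingEquiv.refl F) G) 1 D →
      (∀ i j, AreIsometricFor (Cfsg.quadFormOdd 4 F) (D i) (D j)) → H ≤ decompositionStabilizer D →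
      ∃ D : Fin 9 → Submodule F (Unit ⊕ (Fin 4 ⊕ Fin 4) → F),
        IsOrthogonalMDecomposition (Cfsg.quadFormOdd 4 F) 1 D ∧ H = decompositionStabilizer D ⊓ A := by
    intro hp D hD hiso hle
    have hex : ∀ i, ∃ v, v ∈ D i ∧ v ≠ 0 := fun i => (D i).exists_mem_ne_zero_of_ne_bot fun e => by
      have h1 := hD.decomp.finrank_eq i
      rw [e, finrank_bot] at h1
      omega
    choose v hv hv0 using hex
    haveI : Nonempty (Fin (Fintype.card (Unit ⊕ (Fin 4 ⊕ Fin 4)))) := ⟨⟨0, by omega⟩⟩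
    let b₀ := basisOfLinearIndependentOfCardEqFinrank (hD.decomp.indep.linearIndependent _ hv hv0)
      (by rw [Module.finrank_fintype_fun_eq_card, Fintype.card_fin])
    let ee := (Fintype.equivFin (Unit ⊕ (Fin 4 ⊕ Fin 4))).symm
    let b := b₀.reindex ee
    have hb : ∀ k, b (ee k) = v k := fun k => by simp [b, b₀]
    have hspanD : ∀ k, D k = Submodule.span F {b (ee k)} := fun k => by
      rw [hb]
      exact (Submodule.eq_of_le_of_finrank_le ((Submodule.span_singleton_le_iff_mem _ _).2 (hv k))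
        (by rw [finrank_span_singleton (hv0 k), hD.decomp.finrank_eq])).symm
    have hne : ∀ i, bf G (b i) (b i) ≠ 0 := fun i => by
      obtain ⟨k, rfl⟩ := ee.surjective i
      rw [hb]
      obtain ⟨x, hx, hxne⟩ := (hD.nondegenerate k _ (hv k) (hv0 k)).2
      rw [hspanD, hb, Submodule.mem_span_singleton] at hx
      obtain ⟨s, rfl⟩ := hx
      rw [(isSesq_formG (RingEquiv.refl F) G).smul_right] at hxne
      exact right_ne_zero_of_mul hxne
    have hproper : ¬ A ≤ decompositionStabilizer D := by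
      obtain ⟨p, hpc, hpp⟩ : ∃ p, Fintype.card F = p ∧ p.Prime := ⟨_, rfl, hp⟩
      obtain ⟨p', n, hp', hcp, -, hn⟩ := prime_card_pow (F := F)
      haveI := Fact.mk hp'
      rw [Nat.card_eq_fintype_card, hpc] at hn
      have hn1 : n = 1 := by
        rw [hn] at hpp
        exact Nat.Prime.eq_one_of_pow hpp
      refine omega_not_decomp hG hs h2 hSie hsetA.fix hp' ?_ ?_ ?_ b ee hspanD hne
        (q₀ := e₁) (q₁ := f₁) hP.h11 hP.k11
      · rintro rfl
        exact h2 (by exact_mod_cast CharP.cast_eq_zero F 2)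
      · rw [Nat.card_eq_fintype_card, hpc, hn, hn1, pow_one]
      · refine not_pow_dvd_factorial hp' ?_ h5
        rw [hn1, pow_one] at hn
        omega
    refine ⟨fun i => D (finCongr hcard.symm i), ⟨⟨⟨by norm_num, one_pos, fun i => hD.decomp.finrank_eq _,
      hD.decomp.indep.comp (finCongr hcard.symm).injective, ?_⟩, fun i => ?_, fun i j hij => ?_⟩,
      fun i j => hiso _ _⟩, ?_⟩
    · rw [(finCongr hcard.symm).iSup_comp (g := D)]
      exact hD.decomp.iSup_eq_top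
    · rw [hpol]; exact hD.nondegenerate _
    · rw [hpol]; exact hD.orthogonal _ _ fun e => hij ((finCongr hcard.symm).injective e)
    · have he : decompositionStabilizer (fun i => D (finCongr hcard.symm i)) = decompositionStabilizer D := by
        ext g
        constructor
        · rintro ⟨σ, hσ⟩
          refine ⟨((finCongr hcard.symm).symm.trans σ).trans (finCongr hcard.symm), fun k => ?_⟩
          obtain ⟨i, rfl⟩ := (finCongr hcard.symm).surjective k
          simpa using hσ i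
        · rintro ⟨σ, hσ⟩
          exact ⟨((finCongr hcard.symm).trans σ).trans (finCongr hcard.symm).symm, fun i => by simpa using hσ _⟩
      rw [he]
      exact eq_inf_of_maximal hH hle hproper
  rcases odd_structure hset with hmem | hres
  swap
  · exact Or.inr (Or.inr (Or.inr (Or.inr (Or.inr (Or.inr (Or.inr hres))))))
  rcases hmem with ⟨W, hW, hts, hle⟩ | ⟨W, hb, ht, hnd, hle⟩ | ⟨t, k, D, hk, hD, hiso, hle⟩ |
    ⟨r, K, hr, hne, hK, hsa, hle⟩ | ⟨n₁, n₂, e, P, g₁, g₂, h3, hlt, hg₁, hg₂, hst, hle⟩ |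
    ⟨F₀, r, P, hr, hc, hrat, hle⟩ | ⟨k, t, e, P, g₁, h3, ht, hexc, hg₁, hst, hle⟩
  · refine Or.inl ⟨W, hW, hts, eq_inf_of_maximal hH hle (hstab W hW fun e => ?_)⟩
    subst e
    have h1 : bf G e₁ f₁ = 0 := by
      show formG (RingEquiv.refl F) G e₁ f₁ = 0
      rw [hset.polar_eq, hts _ Submodule.mem_top, hts _ Submodule.mem_top, hts _ Submodule.mem_top]
      ring
    exact one_ne_zero (hP.k11.symm.trans h1)
  · obtain ⟨U, hUb, hUt, hUev, hUnd, hUexc, hUle⟩ := hset.even_member hb ht hnd hle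
    exact Or.inr (Or.inl ⟨U, hUb, hUev, hpol ▸ hUnd, hUexc, eq_inf_of_maximal hH hUle (hstab U hUb hUt)⟩)
  · have htk : t * k = 9 := hcard ▸ NotMax.mul_card_eq hD.decomp
    have htwo := hD.decomp.two_le
    have hpos := hD.decomp.pos
    have hk' : k = 1 ∨ k = 3 ∧ t = 3 := by
      have hkle : k ≤ 4 := by
        by_contra hcon
        have : 2 * 5 ≤ t * k := Nat.mul_le_mul htwo (by omega)
        omega
      rcases (show k = 1 ∨ k = 2 ∨ k = 3 ∨ k = 4 by omega) with rfl | rfl | rfl | rfl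
      · exact Or.inl rfl
      · omega
      · exact Or.inr ⟨rfl, by omega⟩
      · omega
    rcases hk' with rfl | ⟨rfl, rfl⟩
    · rcases hk with hk | ⟨-, hp⟩
      · exact absurd hk (lt_irrefl 1)
      rw [mul_one] at htk
      obtain rfl : t = Fintype.card (Unit ⊕ (Fin 4 ⊕ Fin 4)) := htk.trans hcard.symm
      exact Or.inr (Or.inr (Or.inl ⟨hp, hlines hp D hD hiso hle⟩))
    · by_cases hq : Fintype.card F = 3
      · have hp : (Fintype.card F).Prime := by rw [hq]; exact Nat.prime_three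
        obtain ⟨D', hD', hiso', hle'⟩ := hset.refine_three hq hD hiso hle
        exact Or.inr (Or.inr (Or.inl ⟨hp, hlines hp D' hD' hiso' hle'⟩))
      · exact Or.inr (Or.inr (Or.inr (Or.inl ⟨hfive hq, D, ⟨hpol ▸ hD, hiso⟩,
          eq_inf_of_maximal hH hle (siegel_not_blocks hG hs h2 hSie h5 hspan hD.decomp le_rfl)⟩)))
  · have hdvd : r ∣ 9 := hcard ▸ Asch.field_dvd hK
    obtain rfl : r = 3 := by
      have h1 : r ∣ 3 ^ 2 := hdvd
      exact (Nat.prime_dvd_prime_iff_eq hr Nat.prime_three).1 (hr.dvd_of_dvd_pow h1)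
    exact Or.inr (Or.inr (Or.inr (Or.inr (Or.inl ⟨K, hK, hpol ▸ hsa,
      eq_inf_of_maximal hH hle (siegel_not_field hs hSie hP hK le_rfl h5)⟩))))
  · exfalso
    have h1 := Fintype.card_congr e
    rw [Fintype.card_prod, Fintype.card_fin, Fintype.card_fin, hcard] at h1
    have : 3 * 4 ≤ n₁ * n₂ := Nat.mul_le_mul h3 (by omega)
    omega
  · refine Or.inr (Or.inr (Or.inr (Or.inr (Or.inr (Or.inl ⟨F₀, r, P, hr, hc, hrat,
      eq_inf_of_maximal hH hle (siegel_not_subfield hs h2 hSie h5 hP ?_ P)⟩)))))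
    intro e
    have h1 : Nat.card F₀ = Fintype.card F := by
      rw [e, ← Nat.card_eq_fintype_card]; exact Nat.card_congr Subfield.topEquiv.toEquiv
    rw [h1] at hc
    exact absurd hc (Nat.ne_of_lt (lt_self_pow₀ Fintype.one_lt_card hr.one_lt))
  · have h1 := Fintype.card_congr e
    rw [Fintype.card_fun, Fintype.card_fin, Fintype.card_fin, hcard] at h1
    obtain ⟨rfl, rfl⟩ : k = 3 ∧ t = 2 := by
      have hk3 : k = 3 := by
        by_contra hne
        have : 4 ^ 2 ≤ k ^ t := (Nat.pow_le_pow_left (show 4 ≤ k by omega) 2).trans (Nat.pow_le_pow_right (by omega) ht)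
        omega
      subst hk3
      exact ⟨rfl, (Nat.pow_right_injective (le_refl 2 |>.trans (by norm_num)) (show 3 ^ t = 3 ^ 2 by omega))⟩
    refine Or.inr (Or.inr (Or.inr (Or.inr (Or.inr (Or.inr (Or.inl
      ⟨hfive fun e => hexc ⟨e, rfl⟩, e, P, g₁, hg₁, hpol ▸ hst,
        eq_inf_of_maximal hH hle (siegel_not_wreath hs h2 hSie hP le_rfl e P)⟩))))))

end Cfsg.Agent.S5835
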