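import Cfsg.Statements.S5846
import Cfsg.Agent.ClassicalMax.RootPar
import Cfsg.Agent.ClassicalMax.RootNondeg
import Cfsg.Agent.ClassicalMax.RootDec5Max
import Cfsg.Agent.ClassicalMax.OrthMono.Bridge
import Cfsg.Agent.ClassicalMax.Subfield.RootOrth
import Cfsg.Agent.ClassicalMax.DecAny.Maximal
import Cfsg.Agent.ClassicalMax.OrthEven.Point
import Cfsg.Agent.ClassicalMax.OrthEven.Ext

set_option autoImplicit false
open Cfsg

namespace Cfsg.Agent.S5846

open Cfsg.Agent.ClassicalMax Cfsg.Agent.Classical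

/-- Maximal subgroups of Ω_10^+(q) of geometric type (any q). Let F be a finite field with q elements (characteristic p), Q a non-degenerate quadratic form on F^10 (non-degenerate polar form) of plus type (Witt index 5: some totally singular 5-space), and Ω = Ω_10^+(q) the commutator subgroup of the isometry group of Q, inside GL_10(F). Each of the following, intersected with Ω, is a maximal subgroup of Ω: (1) the stabiliser of any non-zero subspace on which Q vanishes identically other than those of dimension 4 (totally singular subspaces, dimensions 1, 2, 3 and 5); (2) for q odd, the stabiliser of any proper subspace of odd dimension other than 5 on which the polar form of Q is non-degenerate; (3) the stabiliser of any non-degenerate 2-space of minus type (containing no non-zero singular vector); (4) for q ≥ 4, the stabiliser of any non-degenerate 2-space of plus type (containing a non-zero singular vector); (5) the stabiliser of any non-degenerate 4-space (either type);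 (6) for q even, the stabiliser of the 1-space spanned by any non-singular vector v (Q(v) ≠ 0); (7) for q = p prime with p ≡ 1 mod 4, the stabiliser of any decomposition of F^10 into 10 pairwise orthogonal, pairwise Q-isometric non-degenerate 1-spaces; (8) for q ≥ 7, the stabiliser of any decomposition of F^10 into 5 pairwise orthogonal, pairwise Q-isometric non-degenerate 2-spaces; (9) for q ≡ 1 mod 4, the stabiliser of any decomposition of F^10 into 2 pairwise orthogonal, pairwise Q-isometric non-degenerate 5-spaces; (10) for q ≡ 3 mod 4, the stabiliser of any decomposition of F^10 into two orthogonal non-degenerate 5-spaces that are not Q-isometric; (11) for q odd, the normaliser of any degree-2 subfield K of the matrix algebra whose elements are self-adjoint for the polar form of Q (Q is then the trace of a quadratic form over K); (12) every subfield group for a subfield F₀ with |F| = |F₀|^r, r prime, whose F₀-structure carries a non-zero scalar multiple of Q. -/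
theorem result {F : Type*} [Field F] [Fintype F] (Q : (Fin 10 → F) → F) (hQ : Cfsg.Geo.IsNondegenerateQuadraticForm Q) (hplus : Cfsg.Geo.IsPlusTypeOn Q ⊤) :
    (∀ W : Submodule F (Fin 10 → F), W ≠ ⊥ → Cfsg.Geo.IsTotallySingularQuad Q W → Module.finrank F W ≠ 4 → Cfsg.Geo.IsMaximalIn (Cfsg.Geo.omegaGL Q) (Cfsg.Geo.subspaceStabilizer W ⊓ Cfsg.Geo.omegaGL Q)) ∧
    (Odd (Fintype.card F) → ∀ W : Submodule F (Fin 10 → F), W ≠ ⊥ → W ≠ ⊤ → Odd (Module.finrank F W) → 2 * Module.finrank F W ≠ 10 → Cfsg.Geo.IsNondegenerateOn (QuadraticMap.polar Q) W → Cfsg.Geo.IsMaximalIn (Cfsg.Geo.omegaGL Q) (Cfsg.Geo.subspaceStabilizer W ⊓ Cfsg.Geo.omegaGL Q)) ∧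
    (∀ W : Submodule F (Fin 10 → F), Module.finrank F W = 2 → Cfsg.Geo.IsNondegenerateOn (QuadraticMap.polar Q) W → ¬ Cfsg.Geo.IsPlusTypeOn Q W → Cfsg.Geo.IsMaximalIn (Cfsg.Geo.omegaGL Q) (Cfsg.Geo.subspaceStabilizer W ⊓ Cfsg.Geo.omegaGL Q)) ∧
    (4 ≤ Fintype.card F → ∀ W : Submodule F (Fin 10 → F), Module.finrank F W = 2 → Cfsg.Geo.IsNondegenerateOn (QuadraticMap.polar Q) W → Cfsg.Geo.IsPlusTypeOn Q W → Cfsg.Geo.IsMaximalIn (Cfsg.Geo.omegaGL Q) (Cfsg.Geo.subspaceStabilizer W ⊓ Cfsg.Geo.omegaGL Q)) ∧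
    (∀ W : Submodule F (Fin 10 → F), Module.finrank F W = 4 → Cfsg.Geo.IsNondegenerateOn (QuadraticMap.polar Q) W → Cfsg.Geo.IsMaximalIn (Cfsg.Geo.omegaGL Q) (Cfsg.Geo.subspaceStabilizer W ⊓ Cfsg.Geo.omegaGL Q)) ∧
    (¬ Odd (Fintype.card F) → ∀ v : (Fin 10 → F), Q v ≠ 0 → Cfsg.Geo.IsMaximalIn (Cfsg.Geo.omegaGL Q) (Cfsg.Geo.subspaceStabilizer (Submodule.span F {v}) ⊓ Cfsg.Geo.omegaGL Q)) ∧
    ((∃ p : ℕ, p.Prime ∧ Fintype.card F = p ∧ (p % 4 = 1)) → ∀ D : Fin 10 → Submodule F (Fin 10 → F), Cfsg.Geo.IsOrthogonalMDecomposition Q 1 D → Cfsg.Geo.IsMaximalIn (Cfsg.Geo.omegaGL Q) (Cfsg.Geo.decompositionStabilizer D ⊓ Cfsg.Geo.omegaGL Q)) ∧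
    (7 ≤ Fintype.card F → ∀ D : Fin 5 → Submodule F (Fin 10 → F), Cfsg.Geo.IsOrthogonalMDecomposition Q 2 D → Cfsg.Geo.IsMaximalIn (Cfsg.Geo.omegaGL Q) (Cfsg.Geo.decompositionStabilizer D ⊓ Cfsg.Geo.omegaGL Q)) ∧
    (Fintype.card F % 4 = 1 → ∀ D : Fin 2 → Submodule F (Fin 10 → F), Cfsg.Geo.IsOrthogonalMDecomposition Q 5 D → Cfsg.Geo.IsMaximalIn (Cfsg.Geo.omegaGL Q) (Cfsg.Geo.decompositionStabilizer D ⊓ Cfsg.Geo.omegaGL Q)) ∧
    (Fintype.card F % 4 = 3 → ∀ D : Fin 2 → Submodule F (Fin 10 → F), Cfsg.Geo.IsNondegenerateMDecomposition (QuadraticMap.polar Q) 5 D → ¬ Cfsg.Geo.AreIsometricFor Q (D 0) (D 1) → Cfsg.Geo.IsMaximalIn (Cfsg.Geo.omegaGL Q) (Cfsg.Geo.decompositionStabilizer D ⊓ Cfsg.Geo.omegaGL Q)) ∧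
    (Odd (Fintype.card F) → ∀ K : Subalgebra F (Matrix (Fin 10) (Fin 10) F), Cfsg.Geo.IsFieldSubalgebra 2 K → Cfsg.Geo.IsSelfAdjointFor (QuadraticMap.polar Q) K → Cfsg.Geo.IsMaximalIn (Cfsg.Geo.omegaGL Q) (Cfsg.Geo.subalgebraNormalizer K ⊓ Cfsg.Geo.omegaGL Q)) ∧
    (∀ (F₀ : Subfield F) (r : ℕ) (P : Matrix.GeneralLinearGroup (Fin 10) F) (ζ : F), r.Prime → Fintype.card F = Nat.card F₀ ^ r → ζ ≠ 0 → Cfsg.Geo.IsQuadFormRationalStructure (fun v : Fin 10 → F => ζ * Q v) F₀ P → Cfsg.Geo.IsMaximalIn (Cfsg.Geo.omegaGL Q) (Cfsg.Geo.subfieldSubgroup F₀ P ⊓ Cfsg.Geo.omegaGL Q)) := by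
  classical
  let q : QuadraticForm F (Fin 10 → F) := QuadraticMap.ofPolar Q
    (fun a x => by rw [hQ.smul, smul_eq_mul, pow_two])
    hQ.polar_bilinear.add_left
    (fun a x y => by rw [hQ.polar_bilinear.smul_left, smul_eq_mul])
  have hq : ⇑q = Q := rfl
  have hnd : (QuadraticMap.polarBilin q).Nondegenerate :=
    ⟨fun x hx => by_contra fun h => (hQ.nondegenerate x h).2.elim fun y hy => hy (hx y),
      fun x hx => by_contra fun h => (hQ.nondegenerate x h).1.elim fun y hy => hy (hx y)⟩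
  have htwo : Odd (Fintype.card F) → (2 : F) ≠ 0 := fun hodd => Ring.two_ne_zero fun h => by
    have h' := FiniteField.even_card_of_char_two h
    obtain ⟨r, hr⟩ := hodd
    omega
  have hdim : Module.finrank F (Fin 10 → F) = 10 := Module.finrank_fin_fun F
  have nd : ∀ W : Submodule F (Fin 10 → F), W ≠ ⊥ → W ≠ ⊤ →
      (Module.finrank F W ≤ 4 ∨ 6 ≤ Module.finrank F W) →
      Cfsg.Geo.IsNondegenerateOn (QuadraticMap.polar Q) W →
      (Module.finrank F W = 2 → Nat.card F ≤ 3 → ∀ b ∈ W, Q b = 0 → b = 0) → Module.finrank F W ≠ 8 →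
      Cfsg.Geo.IsMaximalIn (Cfsg.Geo.omegaGL Q) (Cfsg.Geo.subspaceStabilizer W ⊓ Cfsg.Geo.omegaGL Q) := by
    intro W h0 h1 hne hW hex h8
    have hWnd : RootPlanes.NdOn q W := fun x hx h => by_contra fun h0 =>
      (hW x hx h0).2.elim fun y hy => hy.2 (h y hy.1)
    refine RootPlanes.isMaximalIn_nd6 q hnd (by simp) hWnd h0 h1 (by rw [Fintype.card_fin]; omega)
      (fun h => by rw [Fintype.card_fin] at h; omega) fun U hU hc hUW => ?_
    rcases hUW with rfl | rfl
    · exact hex hU hc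
    · exfalso
      have hsum := RootPlanes.finrank_perpS hnd W
      omega
  have notTop : ∀ W : Submodule F (Fin 10 → F), Module.finrank F W ≠ 10 → W ≠ ⊤ := fun W h h' => by
    rw [h', finrank_top, hdim] at h
    exact h rfl
  have notBot : ∀ W : Submodule F (Fin 10 → F), Module.finrank F W ≠ 0 → W ≠ ⊥ := fun W h h' => by
    rw [h', finrank_bot] at h
    exact h rfl
  have hlt : ∀ W : Submodule F (Fin 10 → F), W ≠ ⊤ → Module.finrank F W < 10 := fun W h => by
    have := Submodule.finrank_lt h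
    omega
  refine ⟨fun W h0 hW h4 => ?_,
    fun ho W h0 h1 hoW h5 hW => nd W h0 h1 (by have := hlt W h1; omega) hW (fun h => ?_) (fun h => ?_),
    fun W h hW hm => nd W (notBot W (by omega)) (notTop W (by omega)) (by omega) hW (fun _ _ b hb hbq => ?_) (by omega),
    fun hq W h hW hp => nd W (notBot W (by omega)) (notTop W (by omega)) (by omega) hW (fun _ hc => ?_) (by omega),
    fun W h hW => nd W (notBot W (by omega)) (notTop W (by omega)) (by omega) hW (fun h' => absurd h' (by omega)) (by omega),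
    fun hev v hv => OrthEven.isMaximalIn_point (by omega) ⟨5, rfl⟩ Q hQ hev v hv,
    fun ⟨p, hp, hpc, hp4⟩ D hD => OrthMono.isMaximalIn_frame q hnd
      (htwo (by rw [hpc]; exact Nat.odd_iff.2 (by omega))) (hpc.symm ▸ hp) (by simp) D hD,
    fun hq D hD => DecAny.maximal5 (Q := q) hnd (by omega) 2 le_rfl (fun _ => le_rfl) (fun h => by omega) hD
      (fun h => absurd h (by decide)) (fun _ => ⟨by omega, fun _ => ⟨by omega, by omega, by omega⟩⟩) (fun h => by omega),
    fun hq D hD => DecAny.maximal5 (Q := q) hnd (by omega) 5 (by omega) (fun h => by omega) (fun h => by omega) hD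
      (fun _ => ⟨Nat.odd_iff.2 (by omega), fun h => by omega⟩) (fun h => by omega) (fun h => by omega),
    fun hq D hD hni => isMaximalIn_nonisometric Q hQ 5 rfl le_rfl D hD hni,
    fun ho K hK hsa => OrthEven.isMaximalIn_fieldSubalgebra q hnd (htwo ho) Nat.prime_two (by omega) (by omega) K hK hsa,
    fun F₀ r P ζ hr hc hζ hP => Subfield.RootOrth.isMaximalIn_subfield q hnd (by simp) F₀ hr hc P hζ
      fun u hu => by
        rw [glEquiv_apply]
        exact hP u hu⟩
  · refine RootPlanes.isMaximalIn_parabolic q hnd (by simp) W h0 hW fun a haq haP haW h => h4 ?_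
    have h1 := RootPlanes.finrank_perpS hnd W
    omega
  · rw [h] at hoW
    exact absurd hoW (by decide)
  · rw [h] at hoW
    exact absurd hoW (by decide)
  · by_contra hb0
    refine hm ⟨Submodule.span F {b}, (Submodule.span_singleton_le_iff_mem _ _).2 hb, ?_, ?_⟩
    · intro x hx
      obtain ⟨c, rfl⟩ := Submodule.mem_span_singleton.1 hx
      show q (c • b) = 0
      rw [Quad.map_smul', show q b = 0 from hbq, mul_zero]
    · rw [finrank_span_singleton hb0, h]
  · rw [Nat.card_eq_fintype_card] at hc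
    omega

end Cfsg.Agent.S5846
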