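import Cfsg.Statements.S5870
import Cfsg.Agent.ClassicalMax.RootPar
import Cfsg.Agent.ClassicalMax.RootNondeg
import Cfsg.Agent.ClassicalMax.OrthMono.Bridge
import Cfsg.Agent.ClassicalMax.Subfield.RootOrth
import Cfsg.Agent.ClassicalMax.DecAny.Maximal
import Cfsg.Agent.ClassicalMax.OrthEven.Point
import Cfsg.Agent.ClassicalMax.OrthEven.Lag
import Cfsg.Agent.ClassicalMax.OrthEven.Unitary
import Cfsg.Agent.ClassicalMax.OrthEven.SpTensor
import Cfsg.Agent.ClassicalMax.OrthEven.Ext

set_option autoImplicit false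
open Cfsg

namespace Cfsg.Agent.S5870

open Cfsg.Agent.ClassicalMax Cfsg.Agent.Classical

/-- Maximal subgroups of Ω_12^+(q) of geometric type (any q). Let F be a finite field with q elements (characteristic p), Q a non-degenerate quadratic form on F^12 (non-degenerate polar form) of plus type (Witt index 6: some totally singular 6-space), and Ω = Ω_12^+(q) the commutator subgroup of the isometry group of Q, inside GL_12(F). Each of the following, intersected with Ω, is a maximal subgroup of Ω: (1) the stabiliser of any non-zero subspace on which Q vanishes identically other than those of dimension 5 (totally singular subspaces, dimensions 1, 2, 3, 4 and 6); (2) for q odd, the stabiliser of any subspace of odd dimension on which the polar form of Q is non-degenerate; (3) the stabiliser of any non-degenerate 2-space of minus type (containing no non-zero singular vector); (4) for q ≥ 4, the stabiliser of any non-degenerate 2-space of plus type (containing a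 non-zero singular vector); (5) the stabiliser of any non-degenerate 4-space (either type); (6) for q even, the stabiliser of the 1-space spanned by any non-singular vector v (Q(v) ≠ 0); (7) for q = p an odd prime, the stabiliser of any decomposition of F^12 into 12 pairwise orthogonal, pairwise Q-isometric non-degenerate 1-spaces; (8) for q ≥ 7, the stabiliser of any decomposition of F^12 into 6 pairwise orthogonal, pairwise Q-isometric non-degenerate 2-spaces of plus type; (9) for q ≠ 3, the stabiliser of any decomposition of F^12 into 6 pairwise orthogonal, pairwise Q-isometric non-degenerate 2-spaces of minus type; (10) for q odd with q ≥ 5, the stabiliser of any decomposition of F^12 into 4 pairwise orthogonal, pairwise Q-isometric non-degenerate 3-spaces; (11) for q ≥ 3, the stabiliser of any decomposition of F^12 into 3 pairwise orthogonal, pairwise Q-isometric non-degenerate 4-spaces; (12) the stabiliser of any decomposition of F^12 into 2 pairwise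 orthogonal, pairwise Q-isometric non-degenerate 6-spaces; (13) the stabiliser of any decomposition into two totally singular 6-spaces; (14) for q odd, the normaliser of any degree-2 subfield K of the matrix algebra whose elements are self-adjoint for the polar form of Q (Q is then the trace of a quadratic form over K); (15) for q odd, the normaliser of any degree-3 subfield K of the matrix algebra whose elements are self-adjoint for the polar form of Q (Q is then the trace of a quadratic form over K); (16) the normaliser of any degree-2 subfield K of the matrix algebra, closed under adjoints for the polar form but not self-adjoint, whose elements act as similarities of Q (so F^12 becomes a 6-dimensional space over K with a hermitian form, and the subgroup is of the type of the unitary group GU_6(q)); (17) for q ≥ 3, the stabiliser of any tensor decomposition F^12 = F^2 ⊗ F^6 in which the polar form of Q is (alternating form) ⊗ (alternating form) up to a scalar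 and Q vanishes on all pure tensors; (18) every subfield group for a subfield F₀ with |F| = |F₀|^r, r prime, whose F₀-structure carries a non-zero scalar multiple of Q. -/
theorem result {F : Type*} [Field F] [Fintype F] (Q : (Fin 12 → F) → F) (hQ : Cfsg.Geo.IsNondegenerateQuadraticForm Q) (hplus : Cfsg.Geo.IsPlusTypeOn Q ⊤) :
    (∀ W : Submodule F (Fin 12 → F), W ≠ ⊥ → Cfsg.Geo.IsTotallySingularQuad Q W → Module.finrank F W ≠ 5 → Cfsg.Geo.IsMaximalIn (Cfsg.Geo.omegaGL Q) (Cfsg.Geo.subspaceStabilizer W ⊓ Cfsg.Geo.omegaGL Q)) ∧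
    (Odd (Fintype.card F) → ∀ W : Submodule F (Fin 12 → F), W ≠ ⊥ → W ≠ ⊤ → Odd (Module.finrank F W) → 2 * Module.finrank F W ≠ 12 → Cfsg.Geo.IsNondegenerateOn (QuadraticMap.polar Q) W → Cfsg.Geo.IsMaximalIn (Cfsg.Geo.omegaGL Q) (Cfsg.Geo.subspaceStabilizer W ⊓ Cfsg.Geo.omegaGL Q)) ∧
    (∀ W : Submodule F (Fin 12 → F), Module.finrank F W = 2 → Cfsg.Geo.IsNondegenerateOn (QuadraticMap.polar Q) W → ¬ Cfsg.Geo.IsPlusTypeOn Q W → Cfsg.Geo.IsMaximalIn (Cfsg.Geo.omegaGL Q) (Cfsg.Geo.subspaceStabilizer W ⊓ Cfsg.Geo.omegaGL Q)) ∧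
    (4 ≤ Fintype.card F → ∀ W : Submodule F (Fin 12 → F), Module.finrank F W = 2 → Cfsg.Geo.IsNondegenerateOn (QuadraticMap.polar Q) W → Cfsg.Geo.IsPlusTypeOn Q W → Cfsg.Geo.IsMaximalIn (Cfsg.Geo.omegaGL Q) (Cfsg.Geo.subspaceStabilizer W ⊓ Cfsg.Geo.omegaGL Q)) ∧
    (∀ W : Submodule F (Fin 12 → F), Module.finrank F W = 4 → Cfsg.Geo.IsNondegenerateOn (QuadraticMap.polar Q) W → Cfsg.Geo.IsMaximalIn (Cfsg.Geo.omegaGL Q) (Cfsg.Geo.subspaceStabilizer W ⊓ Cfsg.Geo.omegaGL Q)) ∧
    (¬ Odd (Fintype.card F) → ∀ v : (Fin 12 → F), Q v ≠ 0 → Cfsg.Geo.IsMaximalIn (Cfsg.Geo.omegaGL Q) (Cfsg.Geo.subspaceStabilizer (Submodule.span F {v}) ⊓ Cfsg.Geo.omegaGL Q)) ∧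
    ((∃ p : ℕ, p.Prime ∧ Odd p ∧ Fintype.card F = p) → ∀ D : Fin 12 → Submodule F (Fin 12 → F), Cfsg.Geo.IsOrthogonalMDecomposition Q 1 D → Cfsg.Geo.IsMaximalIn (Cfsg.Geo.omegaGL Q) (Cfsg.Geo.decompositionStabilizer D ⊓ Cfsg.Geo.omegaGL Q)) ∧
    (7 ≤ Fintype.card F → ∀ D : Fin 6 → Submodule F (Fin 12 → F), Cfsg.Geo.IsOrthogonalMDecomposition Q 2 D → (∀ i, Cfsg.Geo.IsPlusTypeOn Q (D i)) → Cfsg.Geo.IsMaximalIn (Cfsg.Geo.omegaGL Q) (Cfsg.Geo.decompositionStabilizer D ⊓ Cfsg.Geo.omegaGL Q)) ∧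
    (Fintype.card F ≠ 3 → ∀ D : Fin 6 → Submodule F (Fin 12 → F), Cfsg.Geo.IsOrthogonalMDecomposition Q 2 D → (∀ i, ¬ Cfsg.Geo.IsPlusTypeOn Q (D i)) → Cfsg.Geo.IsMaximalIn (Cfsg.Geo.omegaGL Q) (Cfsg.Geo.decompositionStabilizer D ⊓ Cfsg.Geo.omegaGL Q)) ∧
    (Odd (Fintype.card F) ∧ 5 ≤ Fintype.card F → ∀ D : Fin 4 → Submodule F (Fin 12 → F), Cfsg.Geo.IsOrthogonalMDecomposition Q 3 D → Cfsg.Geo.IsMaximalIn (Cfsg.Geo.omegaGL Q) (Cfsg.Geo.decompositionStabilizer D ⊓ Cfsg.Geo.omegaGL Q)) ∧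
    (3 ≤ Fintype.card F → ∀ D : Fin 3 → Submodule F (Fin 12 → F), Cfsg.Geo.IsOrthogonalMDecomposition Q 4 D → Cfsg.Geo.IsMaximalIn (Cfsg.Geo.omegaGL Q) (Cfsg.Geo.decompositionStabilizer D ⊓ Cfsg.Geo.omegaGL Q)) ∧
    (∀ D : Fin 2 → Submodule F (Fin 12 → F), Cfsg.Geo.IsOrthogonalMDecomposition Q 6 D → Cfsg.Geo.IsMaximalIn (Cfsg.Geo.omegaGL Q) (Cfsg.Geo.decompositionStabilizer D ⊓ Cfsg.Geo.omegaGL Q)) ∧
    (∀ D : Fin 2 → Submodule F (Fin 12 → F), Cfsg.Geo.IsMDecomposition 6 D → (∀ i, Cfsg.Geo.IsTotallySingularQuad Q (D i)) → Cfsg.Geo.IsMaximalIn (Cfsg.Geo.omegaGL Q) (Cfsg.Geo.decompositionStabilizer D ⊓ Cfsg.Geo.omegaGL Q)) ∧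
    (Odd (Fintype.card F) → ∀ K : Subalgebra F (Matrix (Fin 12) (Fin 12) F), Cfsg.Geo.IsFieldSubalgebra 2 K → Cfsg.Geo.IsSelfAdjointFor (QuadraticMap.polar Q) K → Cfsg.Geo.IsMaximalIn (Cfsg.Geo.omegaGL Q) (Cfsg.Geo.subalgebraNormalizer K ⊓ Cfsg.Geo.omegaGL Q)) ∧
    (Odd (Fintype.card F) → ∀ K : Subalgebra F (Matrix (Fin 12) (Fin 12) F), Cfsg.Geo.IsFieldSubalgebra 3 K → Cfsg.Geo.IsSelfAdjointFor (QuadraticMap.polar Q) K → Cfsg.Geo.IsMaximalIn (Cfsg.Geo.omegaGL Q) (Cfsg.Geo.subalgebraNormalizer K ⊓ Cfsg.Geo.omegaGL Q)) ∧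
    (∀ K : Subalgebra F (Matrix (Fin 12) (Fin 12) F), Cfsg.Geo.IsFieldSubalgebra 2 K → Cfsg.Geo.IsAdjointClosedFor (QuadraticMap.polar Q) K → ¬ Cfsg.Geo.IsSelfAdjointFor (QuadraticMap.polar Q) K → (∀ k ∈ K, ∃ c : F, ∀ v : (Fin 12 → F), Q (Matrix.mulVec k v) = c * Q v) → Cfsg.Geo.IsMaximalIn (Cfsg.Geo.omegaGL Q) (Cfsg.Geo.subalgebraNormalizer K ⊓ Cfsg.Geo.omegaGL Q)) ∧
    (3 ≤ Fintype.card F → ∀ (e : Fin 12 ≃ Fin 2 × Fin 6) (P : Matrix.GeneralLinearGroup (Fin 12) F) (f₁ : (Fin 2 → F) → (Fin 2 → F) → F) (f₂ : (Fin 6 → F) → (Fin 6 → F) → F), Cfsg.Geo.IsSymplecticForm f₁ → Cfsg.Geo.IsSymplecticForm f₂ → Cfsg.Geo.IsTensorFormStructure id (QuadraticMap.polar Q) f₁ f₂ e P → (∀ (x₁ : Fin 2 → F) (x₂ : Fin 6 → F), Q (Matrix.mulVec (P : Matrix (Fin 12) (Fin 12) F) ((fun a : Fin 2 × Fin 6 => x₁ a.1 * x₂ a.2) ∘ e)) = 0) → Cfsg.Geo.IsMaximalIn (Cfsg.Geo.omegaGL Q) (Cfsg.Geo.tensorProductSubgroup 2 6 e P ⊓ Cfsg.Geo.omegaGL Q)) ∧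
    (∀ (F₀ : Subfield F) (r : ℕ) (P : Matrix.GeneralLinearGroup (Fin 12) F) (ζ : F), r.Prime → Fintype.card F = Nat.card F₀ ^ r → ζ ≠ 0 → Cfsg.Geo.IsQuadFormRationalStructure (fun v : Fin 12 → F => ζ * Q v) F₀ P → Cfsg.Geo.IsMaximalIn (Cfsg.Geo.omegaGL Q) (Cfsg.Geo.subfieldSubgroup F₀ P ⊓ Cfsg.Geo.omegaGL Q)) := by
  classical
  let q : QuadraticForm F (Fin 12 → F) := QuadraticMap.ofPolar Q
    (fun a x => by rw [hQ.smul, smul_eq_mul, pow_two])
    hQ.polar_bilinear.add_left
    (fun a x y => by rw [hQ.polar_bilinear.smul_left, smul_eq_mul])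
  have hq : ⇑q = Q := rfl
  have hnd : (QuadraticMap.polarBilin q).Nondegenerate :=
    ⟨fun x hx => by_contra fun h => (hQ.nondegenerate x h).2.elim fun y hy => hy (hx y),
      fun x hx => by_contra fun h => (hQ.nondegenerate x h).1.elim fun y hy => hy (hx y)⟩
  have htwo : Odd (Fintype.card F) → (2 : F) ≠ 0 := fun hodd => Ring.two_ne_zero fun h => by
    have h' := FiniteField.even_card_of_char_two h
    obtain ⟨r, hr⟩ := hodd
    omega
  have hdim : Module.finrank F (Fin 12 → F) = 12 := Module.finrank_fin_fun F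
  have nd : ∀ W : Submodule F (Fin 12 → F), W ≠ ⊥ → W ≠ ⊤ → 2 * Module.finrank F W ≠ 12 →
      Cfsg.Geo.IsNondegenerateOn (QuadraticMap.polar Q) W →
      (Module.finrank F W = 2 → Nat.card F ≤ 3 → ∀ b ∈ W, Q b = 0 → b = 0) → (Module.finrank F W ≠ 10) →
      Cfsg.Geo.IsMaximalIn (Cfsg.Geo.omegaGL Q) (Cfsg.Geo.subspaceStabilizer W ⊓ Cfsg.Geo.omegaGL Q) := by
    intro W h0 h1 hne hW hex h10
    have hWnd : RootPlanes.NdOn q W := fun x hx h => by_contra fun h0 =>
      (hW x hx h0).2.elim fun y hy => hy.2 (h y hy.1)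
    refine RootPlanes.isMaximalIn_nd6 q hnd (by simp) hWnd h0 h1 (by rw [Fintype.card_fin]; omega)
      (fun h => absurd (h.trans (Fintype.card_fin 12)) hne) fun U hU hc hUW => ?_
    rcases hUW with rfl | rfl
    · exact hex hU hc
    · exfalso
      have hsum := RootPlanes.finrank_perpS hnd W
      omega
  have notTop : ∀ W : Submodule F (Fin 12 → F), Module.finrank F W ≠ 12 → W ≠ ⊤ := fun W h h' => by
    rw [h', finrank_top, hdim] at h
    exact h rfl
  have notBot : ∀ W : Submodule F (Fin 12 → F), Module.finrank F W ≠ 0 → W ≠ ⊥ := fun W h h' => by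
    rw [h', finrank_bot] at h
    exact h rfl
  refine ⟨fun W h0 hW h5 => ?_, fun ho W h0 h1 hoW h6 hW => nd W h0 h1 h6 hW (fun h => ?_) (fun h => ?_),
    fun W h hW hm => nd W (notBot W (by omega)) (notTop W (by omega)) (by omega) hW (fun _ _ b hb hbq => ?_) (by omega),
    fun hq W h hW hp => nd W (notBot W (by omega)) (notTop W (by omega)) (by omega) hW (fun _ hc => ?_) (by omega),
    fun W h hW => nd W (notBot W (by omega)) (notTop W (by omega)) (by omega) hW (fun h' => absurd h' (by omega)) (by omega),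
    fun hev v hv => OrthEven.isMaximalIn_point (by omega) ⟨6, rfl⟩ Q hQ hev v hv,
    fun ⟨p, hp, hpo, hpc⟩ D hD => OrthMono.isMaximalIn_frame q hnd (htwo (hpc.symm ▸ hpo)) (hpc.symm ▸ hp) (by simp) D hD,
    fun hq D hD hp => DecAny.maximal' (Q := q) hnd (by omega) 2 le_rfl (fun _ => le_rfl) (fun h => by omega) hD
      (fun h => absurd h (by decide)) (fun _ => ⟨by omega, fun _ => ⟨by omega, by omega, by omega⟩⟩) (fun h => by omega),
    fun hq D hD hm => DecAny.maximal' (Q := q) hnd (by omega) 2 le_rfl (fun _ => le_rfl) (fun h => by omega) hD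
      (fun h => absurd h (by decide)) (fun _ => ⟨hq, fun h => absurd (h 0) (hm 0)⟩) (fun h => by omega),
    fun ⟨ho, hq⟩ D hD => DecAny.maximal' (Q := q) hnd (by omega) 3 (by omega) (fun h => by omega) (fun _ => by omega) hD
      (fun _ => ⟨ho, fun h => by omega⟩) (fun h => by omega) (fun h => by omega),
    fun hq D hD => DecAny.maximal' (Q := q) hnd (by omega) 4 (by omega) (fun h => by omega) (fun h => by omega) hD
      (fun h => absurd h (by decide)) (fun h => by omega) (fun _ h => by omega),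
    fun D hD => DecAny.maximal' (Q := q) hnd (by omega) 6 (by omega) (fun h => by omega) (fun h => by omega) hD
      (fun h => absurd h (by decide)) (fun h => by omega) (fun h => by omega),
    fun D hD hts => OrthEven.isMaximalIn_lag le_rfl ⟨6, rfl⟩ Q hQ hplus 6 rfl ⟨3, rfl⟩ D hD hts,
    fun ho K hK hsa => OrthEven.isMaximalIn_fieldSubalgebra q hnd (htwo ho) Nat.prime_two (by omega) (by omega) K hK hsa,
    fun ho K hK hsa => OrthEven.isMaximalIn_fieldSubalgebra q hnd (htwo ho) Nat.prime_three (by omega) (by omega) K hK hsa,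
    fun K hK hac hnsa hsc => OrthEven.isMaximalIn_unitary (by omega) ⟨6, rfl⟩ Q hQ K hK hac hnsa hsc,
    fun hq e P f₁ f₂ hf₁ hf₂ hT hpure => OrthEven.isMaximalIn_spTensor le_rfl ⟨6, rfl⟩ Q hQ hplus 2 6 (by omega)
      (fun h => by omega) e P f₁ f₂ hf₁ hf₂ hT hpure,
    fun F₀ r P ζ hr hc hζ hP => Subfield.RootOrth.isMaximalIn_subfield q hnd (by simp) F₀ hr hc P hζ fun u hu => by
      rw [glEquiv_apply]
      exact hP u hu⟩
  · refine RootPlanes.isMaximalIn_parabolic q hnd (by simp) W h0 hW fun a haq haP haW h => h5 ?_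
    have h1 := RootPlanes.finrank_perpS hnd W
    omega
  · rw [h] at hoW
    exact absurd hoW (by decide)
  · rw [h] at hoW
    exact absurd hoW (by decide)
  · by_contra hb0
    refine hm ⟨Submodule.span F {b}, (Submodule.span_singleton_le_iff_mem _ _).2 hb, ?_, ?_⟩
    · intro x hx
      obtain ⟨c, rfl⟩ := Submodule.mem_span_singleton.1 hx
      show q (c • b) = 0
      rw [Quad.map_smul', show q b = 0 from hbq, mul_zero]
    · rw [finrank_span_singleton hb0, h]
  · rw [Nat.card_eq_fintype_card] at hc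
    omega

end Cfsg.Agent.S5870
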