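import Cfsg.Statements.S5873
import Cfsg.Agent.ClassicalMax.RootPar
import Cfsg.Agent.ClassicalMax.RootNondeg
import Cfsg.Agent.ClassicalMax.Subfield.RootOrth
import Cfsg.Agent.ClassicalMax.DecAny.Maximal
import Cfsg.Agent.ClassicalMax.OrthEven.Point
import Cfsg.Agent.ClassicalMax.OrthEven.Ext
import Cfsg.Agent.ClassicalMax.OTensor4.Bridge

set_option autoImplicit false
open Cfsg

namespace Cfsg.Agent.S5873

open Cfsg.Agent.ClassicalMax Cfsg.Agent.Classical

/-- Maximal subgroups of Ω_12^-(q) of geometric type (any q). Let F be a finite field with q elements (characteristic p), Q a non-degenerate quadratic form on F^12 (non-degenerate polar form) of minus type (Witt index 5: no totally singular 6-space), and Ω = Ω_12^-(q) the commutator subgroup of the isometry group of Q, inside GL_12(F). Each of the following, intersected with Ω, is a maximal subgroup of Ω: (1) the stabiliser of any non-zero subspace on which Q vanishes identically (totally singular subspaces, dimensions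 1 to 5); (2) for q odd, the stabiliser of any subspace of odd dimension on which the polar form of Q is non-degenerate; (3) the stabiliser of any non-degenerate 2-space of minus type (containing no non-zero singular vector); (4) for q ≥ 4, the stabiliser of any non-degenerate 2-space of plus type (containing a non-zero singular vector); (5) the stabiliser of any non-degenerate 4-space (either type); (6) the stabiliser of any non-degenerate 6-space (either type); (7) for q even, the stabiliser of the 1-space spanned by any non-singular vector v (Q(v) ≠ 0); (8) the stabiliser of any decomposition of F^12 into 3 pairwise orthogonal, pairwise Q-isometric non-degenerate 4-spaces of minus type; (9) for q odd, the normaliser of any degree-2 subfield K of the matrix algebra whose elements are self-adjoint for the polar form of Q (Q is then the trace of a quadratic form over K); (10) for q odd, the normaliser of any degree-3 subfield K of the matrix algebra whose elements are self-adjoint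 for the polar form of Q (Q is then the trace of a quadratic form over K); (11) for q odd with q ≥ 5, the stabiliser of any tensor decomposition F^12 = F^3 ⊗ F^4 in which the polar form of Q is the product of non-degenerate symmetric bilinear forms, the second of minus type, up to a scalar; (12) every subfield group for a subfield F₀ with |F| = |F₀|^r, r an odd prime, whose F₀-structure carries a non-zero scalar multiple of Q. -/
theorem result {F : Type*} [Field F] [Fintype F] (Q : (Fin 12 → F) → F) (hQ : Cfsg.Geo.IsNondegenerateQuadraticForm Q) (hminus : ¬ Cfsg.Geo.IsPlusTypeOn Q ⊤) :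
    (∀ W : Submodule F (Fin 12 → F), W ≠ ⊥ → Cfsg.Geo.IsTotallySingularQuad Q W → Cfsg.Geo.IsMaximalIn (Cfsg.Geo.omegaGL Q) (Cfsg.Geo.subspaceStabilizer W ⊓ Cfsg.Geo.omegaGL Q)) ∧
    (Odd (Fintype.card F) → ∀ W : Submodule F (Fin 12 → F), W ≠ ⊥ → W ≠ ⊤ → Odd (Module.finrank F W) → 2 * Module.finrank F W ≠ 12 → Cfsg.Geo.IsNondegenerateOn (QuadraticMap.polar Q) W → Cfsg.Geo.IsMaximalIn (Cfsg.Geo.omegaGL Q) (Cfsg.Geo.subspaceStabilizer W ⊓ Cfsg.Geo.omegaGL Q)) ∧
    (∀ W : Submodule F (Fin 12 → F), Module.finrank F W = 2 → Cfsg.Geo.IsNondegenerateOn (QuadraticMap.polar Q) W → ¬ Cfsg.Geo.IsPlusTypeOn Q W → Cfsg.Geo.IsMaximalIn (Cfsg.Geo.omegaGL Q) (Cfsg.Geo.subspaceStabilizer W ⊓ Cfsg.Geo.omegaGL Q)) ∧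
    (4 ≤ Fintype.card F → ∀ W : Submodule F (Fin 12 → F), Module.finrank F W = 2 → Cfsg.Geo.IsNondegenerateOn (QuadraticMap.polar Q) W → Cfsg.Geo.IsPlusTypeOn Q W → Cfsg.Geo.IsMaximalIn (Cfsg.Geo.omegaGL Q) (Cfsg.Geo.subspaceStabilizer W ⊓ Cfsg.Geo.omegaGL Q)) ∧
    (∀ W : Submodule F (Fin 12 → F), Module.finrank F W = 4 → Cfsg.Geo.IsNondegenerateOn (QuadraticMap.polar Q) W → Cfsg.Geo.IsMaximalIn (Cfsg.Geo.omegaGL Q) (Cfsg.Geo.subspaceStabilizer W ⊓ Cfsg.Geo.omegaGL Q)) ∧
    (∀ W : Submodule F (Fin 12 → F), Module.finrank F W = 6 → Cfsg.Geo.IsNondegenerateOn (QuadraticMap.polar Q) W → Cfsg.Geo.IsMaximalIn (Cfsg.Geo.omegaGL Q) (Cfsg.Geo.subspaceStabilizer W ⊓ Cfsg.Geo.omegaGL Q)) ∧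
    (¬ Odd (Fintype.card F) → ∀ v : (Fin 12 → F), Q v ≠ 0 → Cfsg.Geo.IsMaximalIn (Cfsg.Geo.omegaGL Q) (Cfsg.Geo.subspaceStabilizer (Submodule.span F {v}) ⊓ Cfsg.Geo.omegaGL Q)) ∧
    (∀ D : Fin 3 → Submodule F (Fin 12 → F), Cfsg.Geo.IsOrthogonalMDecomposition Q 4 D → (∀ i, ¬ Cfsg.Geo.IsPlusTypeOn Q (D i)) → Cfsg.Geo.IsMaximalIn (Cfsg.Geo.omegaGL Q) (Cfsg.Geo.decompositionStabilizer D ⊓ Cfsg.Geo.omegaGL Q)) ∧
    (Odd (Fintype.card F) → ∀ K : Subalgebra F (Matrix (Fin 12) (Fin 12) F), Cfsg.Geo.IsFieldSubalgebra 2 K → Cfsg.Geo.IsSelfAdjointFor (QuadraticMap.polar Q) K → Cfsg.Geo.IsMaximalIn (Cfsg.Geo.omegaGL Q) (Cfsg.Geo.subalgebraNormalizer K ⊓ Cfsg.Geo.omegaGL Q)) ∧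
    (Odd (Fintype.card F) → ∀ K : Subalgebra F (Matrix (Fin 12) (Fin 12) F), Cfsg.Geo.IsFieldSubalgebra 3 K → Cfsg.Geo.IsSelfAdjointFor (QuadraticMap.polar Q) K → Cfsg.Geo.IsMaximalIn (Cfsg.Geo.omegaGL Q) (Cfsg.Geo.subalgebraNormalizer K ⊓ Cfsg.Geo.omegaGL Q)) ∧
    (Odd (Fintype.card F) ∧ 5 ≤ Fintype.card F → ∀ (e : Fin 12 ≃ Fin 3 × Fin 4) (P : Matrix.GeneralLinearGroup (Fin 12) F) (f₁ : (Fin 3 → F) → (Fin 3 → F) → F) (f₂ : (Fin 4 → F) → (Fin 4 → F) → F), Cfsg.Geo.IsSymmetricForm f₁ → Cfsg.Geo.IsSymmetricForm f₂ → ¬ Cfsg.Geo.IsPlusTypeOn (fun v : Fin 4 → F => f₂ v v) ⊤ → Cfsg.Geo.IsTensorFormStructure id (QuadraticMap.polar Q) f₁ f₂ e P → Cfsg.Geo.IsMaximalIn (Cfsg.Geo.omegaGL Q) (Cfsg.Geo.tensorProductSubgroup 3 4 e P ⊓ Cfsg.Geo.omegaGL Q)) ∧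
    (∀ (F₀ : Subfield F) (r : ℕ) (P : Matrix.GeneralLinearGroup (Fin 12) F) (ζ : F), r.Prime → Odd r → Fintype.card F = Nat.card F₀ ^ r → ζ ≠ 0 → Cfsg.Geo.IsQuadFormRationalStructure (fun v : Fin 12 → F => ζ * Q v) F₀ P → Cfsg.Geo.IsMaximalIn (Cfsg.Geo.omegaGL Q) (Cfsg.Geo.subfieldSubgroup F₀ P ⊓ Cfsg.Geo.omegaGL Q)) := by
  classical
  let q : QuadraticForm F (Fin 12 → F) := QuadraticMap.ofPolar Q
    (fun a x => by rw [hQ.smul, smul_eq_mul, pow_two])
    hQ.polar_bilinear.add_left
    (fun a x y => by rw [hQ.polar_bilinear.smul_left, smul_eq_mul])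
  have hq : ⇑q = Q := rfl
  have hnd : (QuadraticMap.polarBilin q).Nondegenerate :=
    ⟨fun x hx => by_contra fun h => (hQ.nondegenerate x h).2.elim fun y hy => hy (hx y),
      fun x hx => by_contra fun h => (hQ.nondegenerate x h).1.elim fun y hy => hy (hx y)⟩
  have htwo : Odd (Fintype.card F) → (2 : F) ≠ 0 := fun hodd => Ring.two_ne_zero fun h => by
    have h' := FiniteField.even_card_of_char_two h
    obtain ⟨r, hr⟩ := hodd
    omega
  have hdim : Module.finrank F (Fin 12 → F) = 12 := Module.finrank_fin_fun F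
  have hhalf : ∀ U : Submodule F (Fin 12 → F), 2 * Module.finrank F U = 12 → ¬ ∀ x ∈ U, q x = 0 := fun U hU h =>
    hminus ⟨U, le_top, h, by rw [hU, finrank_top, hdim]⟩
  have nd : ∀ W : Submodule F (Fin 12 → F), W ≠ ⊥ → W ≠ ⊤ →
      (2 * Module.finrank F W = 12 → Even (Module.finrank F W)) →
      Cfsg.Geo.IsNondegenerateOn (QuadraticMap.polar Q) W →
      (Module.finrank F W = 2 → Nat.card F ≤ 3 → ∀ b ∈ W, Q b = 0 → b = 0) → (Module.finrank F W ≠ 10) →
      Cfsg.Geo.IsMaximalIn (Cfsg.Geo.omegaGL Q) (Cfsg.Geo.subspaceStabilizer W ⊓ Cfsg.Geo.omegaGL Q) := by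
    intro W h0 h1 hev hW hex h10
    have hWnd : RootPlanes.NdOn q W := fun x hx h => by_contra fun h0 =>
      (hW x hx h0).2.elim fun y hy => hy.2 (h y hy.1)
    refine RootPlanes.isMaximalIn_nd6 q hnd (by simp) hWnd h0 h1 (by rw [Fintype.card_fin]; omega)
      (fun h => ⟨hev (h.trans (Fintype.card_fin 12)), fun U hU => hhalf U (hU.trans (Fintype.card_fin 12))⟩)
      fun U hU hc hUW => ?_
    rcases hUW with rfl | rfl
    · exact hex hU hc
    · exfalso
      have hsum := RootPlanes.finrank_perpS hnd W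
      omega
  have notTop : ∀ W : Submodule F (Fin 12 → F), Module.finrank F W ≠ 12 → W ≠ ⊤ := fun W h h' => by
    rw [h', finrank_top, hdim] at h
    exact h rfl
  have notBot : ∀ W : Submodule F (Fin 12 → F), Module.finrank F W ≠ 0 → W ≠ ⊥ := fun W h h' => by
    rw [h', finrank_bot] at h
    exact h rfl
  refine ⟨fun W h0 hW => ?_, fun ho W h0 h1 hoW h6 hW => nd W h0 h1 (fun h => absurd h h6) hW (fun h => ?_) (fun h => ?_),
    fun W h hW hm => nd W (notBot W (by omega)) (notTop W (by omega)) (by omega) hW (fun _ _ b hb hbq => ?_) (by omega),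
    fun hq W h hW hp => nd W (notBot W (by omega)) (notTop W (by omega)) (by omega) hW (fun _ hc => ?_) (by omega),
    fun W h hW => nd W (notBot W (by omega)) (notTop W (by omega)) (by omega) hW (fun h' => absurd h' (by omega)) (by omega),
    fun W h hW => nd W (notBot W (by omega)) (notTop W (by omega)) (fun _ => h ▸ ⟨3, rfl⟩) hW
      (fun h' => absurd h' (by omega)) (by omega),
    fun hev v hv => OrthEven.isMaximalIn_point (by omega) ⟨6, rfl⟩ Q hQ hev v hv,
    fun D hD hm => DecAny.maximal' (Q := q) hnd (by omega) 4 (by omega) (fun h => by omega) (fun h => by omega) hD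
      (fun h => absurd h (by decide)) (fun h => by omega) (fun _ _ h => hm 0 (h 0)),
    fun ho K hK hsa => OrthEven.isMaximalIn_fieldSubalgebra q hnd (htwo ho) Nat.prime_two (by omega) (by omega) K hK hsa,
    fun ho K hK hsa => OrthEven.isMaximalIn_fieldSubalgebra q hnd (htwo ho) Nat.prime_three (by omega) (by omega) K hK hsa,
    fun ⟨ho, hq⟩ e P f₁ f₂ hf₁ hf₂ hm hT => OTensor.isMaximal_three_four q hnd ho hq e P f₁ f₂ hf₁ hf₂ hm hT,
    fun F₀ r P ζ hr _ hc hζ hP => Subfield.RootOrth.isMaximalIn_subfield q hnd (by simp) F₀ hr hc P hζ fun u hu => by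
      rw [glEquiv_apply]
      exact hP u hu⟩
  · refine RootPlanes.isMaximalIn_parabolic q hnd (by simp) W h0 hW fun a haq haP haW h => ?_
    have h1 := RootPlanes.finrank_perpS hnd W
    rw [hdim, h] at h1
    have hd : Disjoint W (Submodule.span F {a}) :=
      (Submodule.disjoint_span_singleton' (fun h0 : a = 0 => haW (by rw [h0]; exact W.zero_mem))).2 haW
    refine hhalf (W ⊔ Submodule.span F {a}) ?_ ?_
    · have h2 := Submodule.finrank_sup_add_finrank_inf_eq W (Submodule.span F {a})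
      rw [hd.eq_bot, finrank_bot, finrank_span_singleton (fun h0 : a = 0 => haW (by rw [h0]; exact W.zero_mem))] at h2
      omega
    · intro x hx
      obtain ⟨w, hw, y, hy, rfl⟩ := Submodule.mem_sup.1 hx
      obtain ⟨c, rfl⟩ := Submodule.mem_span_singleton.1 hy
      rw [Quad.map_add', Quad.map_smul', haq, QuadraticMap.polar_smul_right, RootPlanes.mem_perpS.1 haP w hw,
        show q w = 0 from hW w hw]
      simp
  · rw [h] at hoW
    exact absurd hoW (by decide)
  · rw [h] at hoW
    exact absurd hoW (by decide)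
  · by_contra hb0
    refine hm ⟨Submodule.span F {b}, (Submodule.span_singleton_le_iff_mem _ _).2 hb, ?_, ?_⟩
    · intro x hx
      obtain ⟨c, rfl⟩ := Submodule.mem_span_singleton.1 hx
      show q (c • b) = 0
      rw [Quad.map_smul', show q b = 0 from hbq, mul_zero]
    · rw [finrank_span_singleton hb0, h]
  · rw [Nat.card_eq_fintype_card] at hc
    omega

end Cfsg.Agent.S5873
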