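import Cfsg.Statements.S5876

set_option autoImplicit false
open Cfsg

namespace Cfsg.Agent.S5876

open Module

variable {G : Type*} [Group G] [Finite G] {F : Type*} [Field F] [Finite F]
  {V : Type*} [AddCommGroup V] [Module F V] [FiniteDimensional F V]
  (ρ : G →* Module.End F V)

/-- the fixed space of an element -/
def fx (g : G) : Submodule F V := LinearMap.ker (ρ g - 1)

omit [Finite G] [Finite F] [FiniteDimensional F V] in
lemma mem_fx {g : G} {v : V} : v ∈ fx ρ g ↔ ρ g v = v := by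
  simp [fx, sub_eq_zero]

omit [Finite G] [Finite F] [FiniteDimensional F V] in
lemma ap_mul (x y : G) (v : V) : ρ (x * y) v = ρ x (ρ y v) := by
  rw [map_mul]; rfl

omit [Finite G] [Finite F] [FiniteDimensional F V] in
lemma ap_cancel (x : G) (v : V) : ρ x⁻¹ (ρ x v) = v := by
  rw [← ap_mul, inv_mul_cancel, map_one]; rfl

omit [Finite G] [Finite F] in
lemma fx_comm_bound (g x : G) :
    2 * finrank F (fx ρ g) ≤ finrank F V + finrank F (fx ρ (g * x * g⁻¹ * x⁻¹)) := by
  have hinj : Function.Injective (ρ x) := Function.LeftInverse.injective (ap_cancel ρ x)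
  have h1 : finrank F ((fx ρ g).map (ρ x)) = finrank F (fx ρ g) :=
    ((fx ρ g).equivMapOfInjective (ρ x) hinj).finrank_eq.symm
  have h2 := Submodule.finrank_sup_add_finrank_inf_eq (fx ρ g) ((fx ρ g).map (ρ x))
  have h3 : finrank F ↥(fx ρ g ⊔ (fx ρ g).map (ρ x)) ≤ finrank F V := Submodule.finrank_le _
  have h4 : fx ρ g ⊓ (fx ρ g).map (ρ x) ≤ fx ρ (g * x * g⁻¹ * x⁻¹) := by
    rintro v ⟨hv, w, hw, rfl⟩
    have hv' : ρ g (ρ x w) = ρ x w := (mem_fx ρ).1 hv
    have hw' : ρ g⁻¹ w = w := by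
      conv_lhs => rw [← (mem_fx ρ).1 hw]
      exact ap_cancel ρ g w
    rw [mem_fx, ap_mul, ap_cancel, ap_mul, hw', ap_mul, hv']
  have h5 := Submodule.finrank_mono h4
  omega

omit [Finite G] [Finite F] in
/-- No proper idempotent in a conjugation-stable commutative algebra of a primitive group. -/
lemma idem_trivial
    (hirr : ∀ W : Submodule F V, (∀ g, W.map (ρ g) ≤ W) → W = ⊥ ∨ W = ⊤)
    (hprim : ∀ (m t : ℕ) (D : Fin t → Submodule F V), 2 ≤ t → 0 < m →
      (∀ i, finrank F (D i) = m) → iSupIndep D → iSup D = ⊤ →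
      ∃ g, ¬ ∃ σ : Equiv.Perm (Fin t), ∀ i, (D i).map (ρ g) = D (σ i))
    [Finite (Module.End F V)]
    (R : Set (Module.End F V)) (hmul : ∀ x ∈ R, ∀ y ∈ R, x * y ∈ R ∧ x * y = y * x)
    (hconj : ∀ g, ∀ x ∈ R, ρ g * x * ρ g⁻¹ ∈ R)
    {e : Module.End F V} (he : e ∈ R) (hid : e * e = e) : e = 0 ∨ e = 1 := by
  classical
  by_cases he0 : e = 0
  · exact Or.inl he0
  right
  let S : Set (Module.End F V) := {x | x ∈ R ∧ x * x = x ∧ x ≠ 0}
  obtain ⟨f, hfS, hmin⟩ := Set.exists_min_image S (fun x => finrank F (LinearMap.range x))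
    (Set.toFinite _) ⟨e, he, hid, he0⟩
  have gg : ∀ g, ρ g * ρ g⁻¹ = 1 ∧ ρ g⁻¹ * ρ g = 1 := fun g => by
    simp [← map_mul]
  have hrange : ∀ (g : G) (x : Module.End F V),
      (LinearMap.range x).map (ρ g) = LinearMap.range (ρ g * x * ρ g⁻¹) := by
    intro g x
    apply le_antisymm
    · rintro _ ⟨_, ⟨v, rfl⟩, rfl⟩
      exact ⟨ρ g v, by simp [ap_cancel]⟩
    · rintro _ ⟨v, rfl⟩
      exact ⟨x (ρ g⁻¹ v), LinearMap.mem_range_self _ _, rfl⟩
  have hcS : ∀ g x, x ∈ S → ρ g * x * ρ g⁻¹ ∈ S ∧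
      finrank F (LinearMap.range (ρ g * x * ρ g⁻¹)) = finrank F (LinearMap.range x) := by
    intro g x ⟨hx, hxx, hx0⟩
    refine ⟨⟨hconj g x hx, ?_, ?_⟩, ?_⟩
    · calc ρ g * x * ρ g⁻¹ * (ρ g * x * ρ g⁻¹) = ρ g * x * (ρ g⁻¹ * ρ g) * x * ρ g⁻¹ := by
            noncomm_ring
        _ = ρ g * (x * x) * ρ g⁻¹ := by rw [(gg g).2]; noncomm_ring
        _ = _ := by rw [hxx]
    · intro h
      apply hx0
      have : ρ g⁻¹ * (ρ g * x * ρ g⁻¹) * ρ g = 0 := by rw [h]; simp
      calc x = (ρ g⁻¹ * ρ g) * x * (ρ g⁻¹ * ρ g) := by rw [(gg g).2, one_mul, mul_one]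
        _ = _ := by noncomm_ring
        _ = 0 := this
    · rw [← hrange]
      exact ((LinearMap.range x).equivMapOfInjective (ρ g)
        (Function.LeftInverse.injective (ap_cancel ρ g))).finrank_eq.symm
  let O : Finset (Module.End F V) :=
    Set.Finite.toFinset (Set.toFinite (Set.range fun g => ρ g * f * ρ g⁻¹))
  have hO : ∀ x, x ∈ O ↔ ∃ g, ρ g * f * ρ g⁻¹ = x := fun x => by simp [O]
  have hOS : ∀ x ∈ O, x ∈ S ∧ finrank F (LinearMap.range x) = finrank F (LinearMap.range f) := by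
    intro x hx
    obtain ⟨g, rfl⟩ := (hO x).1 hx
    exact hcS g f hfS
  have absorb : ∀ x ∈ O, ∀ y ∈ O, x * y ≠ 0 → x * y = x := by
    intro x hx y hy hxy
    obtain ⟨⟨hxR, hxx, _⟩, hxd⟩ := hOS x hx
    obtain ⟨⟨hyR, hyy, _⟩, _⟩ := hOS y hy
    have hc := (hmul x hxR y hyR).2
    have hzS : x * y ∈ S := ⟨(hmul x hxR y hyR).1, by
      calc x * y * (x * y) = x * (y * x) * y := by noncomm_ring
        _ = (x * x) * (y * y) := by rw [← hc]; noncomm_ring
        _ = _ := by rw [hxx, hyy], hxy⟩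
    have hle : LinearMap.range (x * y) ≤ LinearMap.range x := by
      rintro _ ⟨v, rfl⟩
      exact ⟨y v, rfl⟩
    have heq : LinearMap.range (x * y) = LinearMap.range x :=
      Submodule.eq_of_le_of_finrank_le hle (by rw [hxd]; exact hmin _ hzS)
    apply LinearMap.ext
    intro v
    have hm : x v ∈ LinearMap.range (x * y) := by rw [heq]; exact LinearMap.mem_range_self _ _
    obtain ⟨w, hw⟩ := hm
    have hfix : (x * y) (x v) = x v := by
      rw [← hw, ← Module.End.mul_apply, hzS.2.1]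
    calc (x * y) v = (x * y * x) v := by
          rw [show x * y * x = x * x * y by rw [mul_assoc, ← hc, mul_assoc], hxx]
      _ = x v := hfix
  have orth : ∀ x ∈ O, ∀ y ∈ O, x ≠ y → x * y = 0 := by
    intro x hx y hy hne
    by_contra h
    apply hne
    have hc := (hmul x (hOS x hx).1.1 y (hOS y hy).1.1).2
    rw [← absorb x hx y hy h, hc, absorb y hy x hx (hc ▸ h)]
  have hsum : ∀ x ∈ O, x * ∑ y ∈ O, y = x := by
    intro x hx
    rw [Finset.mul_sum, Finset.sum_eq_single x (fun y hy hne => orth x hx y hy hne.symm)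
      (fun h => absurd hx h), (hOS x hx).1.2.1]
  have hfO : f ∈ O := (hO f).2 ⟨1, by simp⟩
  let T : Submodule F V := ⨆ x : O, LinearMap.range (x : Module.End F V)
  have hT : T = ⊤ := by
    refine (hirr T ?_).resolve_left ?_
    · intro g
      simp only [T, Submodule.map_iSup]
      refine iSup_le fun x => ?_
      rw [hrange]
      have hm : ρ g * (x : Module.End F V) * ρ g⁻¹ ∈ O := by
        obtain ⟨h, hh⟩ := (hO x).1 x.2
        refine (hO _).2 ⟨g * h, ?_⟩
        rw [← hh, map_mul, mul_inv_rev, map_mul]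
        noncomm_ring
      exact le_iSup (fun x : O => LinearMap.range (x : Module.End F V)) ⟨_, hm⟩
    · intro h
      apply hfS.2.2
      have : LinearMap.range f ≤ ⊥ := h ▸ le_iSup (fun x : O => LinearMap.range (x : Module.End F V)) ⟨f, hfO⟩
      exact LinearMap.range_eq_bot.1 (le_bot_iff.1 this)
  -- the index type has only one element
  have hcard : O.card ≤ 1 := by
    by_contra hcon
    let ε : Fin O.card ≃ O := O.equivFin.symm
    let D : Fin O.card → Submodule F V := fun i => LinearMap.range ((ε i : O) : Module.End F V)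
    have hm : 0 < finrank F (LinearMap.range f) := by
      rw [Nat.pos_iff_ne_zero, Ne, Submodule.finrank_eq_zero, LinearMap.range_eq_bot]
      exact hfS.2.2
    have hind : iSupIndep D := by
      intro i
      rw [disjoint_iff_inf_le]
      rintro v ⟨⟨w, rfl⟩, hv⟩
      have hker : (⨆ (j) (_ : j ≠ i), D j) ≤ LinearMap.ker ((ε i : O) : Module.End F V) := by
        refine iSup₂_le fun j hj => ?_
        rintro _ ⟨u, rfl⟩
        show (((ε i : O) : Module.End F V) * ((ε j : O) : Module.End F V)) u = 0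
        rw [orth _ (ε i).2 _ (ε j).2 (fun h => hj (ε.injective (Subtype.ext h)).symm)]
        rfl
      have h0 : ((ε i : O) : Module.End F V) (((ε i : O) : Module.End F V) w) = 0 :=
        LinearMap.mem_ker.1 (hker hv)
      rw [← Module.End.mul_apply, (hOS _ (ε i).2).1.2.1] at h0
      exact h0
    have htop : iSup D = ⊤ := by
      rw [← hT]
      exact le_antisymm (iSup_le fun i => le_iSup (fun x : O => LinearMap.range (x : Module.End F V)) (ε i))
        (iSup_le fun x => le_iSup_of_le (ε.symm x) (by simp [D]))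
    obtain ⟨g, hg⟩ := hprim _ O.card D (by omega) hm (fun i => (hOS _ (ε i).2).2) hind htop
    apply hg
    have hmem : ∀ x : O, ρ g * (x : Module.End F V) * ρ g⁻¹ ∈ O := by
      intro x
      obtain ⟨h, hh⟩ := (hO x).1 x.2
      refine (hO _).2 ⟨g * h, ?_⟩
      rw [← hh, map_mul, mul_inv_rev, map_mul]
      noncomm_ring
    let φ : O → O := fun x => ⟨_, hmem x⟩
    have hφ : Function.Injective φ := by
      intro x y h
      have h' := congrArg (fun z : O => ρ g⁻¹ * (z : Module.End F V) * ρ g) h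
      simp only [φ] at h'
      have key : ∀ z : Module.End F V, ρ g⁻¹ * (ρ g * z * ρ g⁻¹) * ρ g = z := fun z => by
        calc _ = (ρ g⁻¹ * ρ g) * z * (ρ g⁻¹ * ρ g) := by noncomm_ring
          _ = z := by rw [(gg g).2, one_mul, mul_one]
      rw [key, key] at h'
      exact Subtype.ext h'
    let π : Equiv.Perm O := Equiv.ofBijective φ (Finite.injective_iff_bijective.1 hφ)
    refine ⟨(ε.trans π).trans ε.symm, fun i => ?_⟩
    simp only [D, Equiv.trans_apply, Equiv.apply_symm_apply]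
    rw [hrange]
    rfl
  have hf1 : f = 1 := by
    apply LinearMap.ext
    intro v
    have hv : v ∈ LinearMap.range f := by
      have : T ≤ LinearMap.range f := iSup_le fun x => by
        rw [Finset.card_le_one.1 hcard x x.2 f hfO]
      exact this (hT ▸ Submodule.mem_top)
    obtain ⟨w, rfl⟩ := hv
    exact congrArg (· w) hfS.2.1
  have h : finrank F (LinearMap.range f) ≤ finrank F (LinearMap.range e) := hmin e ⟨he, hid, he0⟩
  have hetop : LinearMap.range e = ⊤ := by
    apply Submodule.eq_top_of_finrank_eq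
    rw [hf1, Module.End.one_eq_id, LinearMap.range_id, finrank_top] at h
    exact le_antisymm (Submodule.finrank_le _) h
  apply LinearMap.ext
  intro v
  obtain ⟨w, rfl⟩ : v ∈ LinearMap.range e := hetop ▸ Submodule.mem_top
  exact congrArg (· w) hid

omit [Finite G] in
lemma abelian_normal_fpf (hinj : Function.Injective ρ)
    (hirr : ∀ W : Submodule F V, (∀ g, W.map (ρ g) ≤ W) → W = ⊥ ∨ W = ⊤)
    (hprim : ∀ (m t : ℕ) (D : Fin t → Submodule F V), 2 ≤ t → 0 < m →
      (∀ i, finrank F (D i) = m) → iSupIndep D → iSup D = ⊤ →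
      ∃ g, ¬ ∃ σ : Equiv.Perm (Fin t), ∀ i, (D i).map (ρ g) = D (σ i))
    [Finite G] (A : Subgroup G) [A.Normal] (hA : ∀ x ∈ A, ∀ y ∈ A, x * y = y * x)
    {a : G} (ha : a ∈ A) (ha1 : a ≠ 1) : fx ρ a = ⊥ := by
  classical
  by_contra hfx
  obtain ⟨v, hv, hv0⟩ := Submodule.exists_mem_ne_zero_of_ne_bot hfx
  rw [mem_fx] at hv
  obtain ⟨ℓ, hℓ, hdvd⟩ := Nat.exists_prime_and_dvd (mt orderOf_eq_one_iff.1 ha1)
  set b := a ^ (orderOf a / ℓ) with hb
  have hordb : orderOf b = ℓ := orderOf_pow_orderOf_div (orderOf_pos a).ne' hdvd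
  have hbA : b ∈ A := A.pow_mem ha _
  have hvb : ρ b v = v := by
    have : ∀ k : ℕ, ρ (a ^ k) v = v := fun k => by
      induction k with
      | zero => simp
      | succ k ih => rw [pow_succ, ap_mul, hv, ih]
    exact this _
  have : Fact ℓ.Prime := ⟨hℓ⟩
  have : Finite V := Module.finite_of_finite F
  have : Finite (Module.End F V) := Finite.of_injective _ DFunLike.coe_injective
  by_cases hℓF : (ℓ : F) = 0
  · -- elements of order dividing ℓ form a normal ℓ-subgroup, with a nonzero fixed vector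
    let T : Subgroup G :=
      { carrier := {x | x ∈ A ∧ x ^ ℓ = 1}
        one_mem' := ⟨A.one_mem, one_pow _⟩
        mul_mem' := fun {x y} hx hy => ⟨A.mul_mem hx.1 hy.1, by
          rw [(show Commute x y from hA x hx.1 y hy.1).mul_pow, hx.2, hy.2, one_mul]⟩
        inv_mem' := fun {x} hx => ⟨A.inv_mem hx.1, by rw [inv_pow, hx.2, inv_one]⟩ }
    let act : MulAction T V :=
      { smul := fun x w => ρ x w
        one_smul := fun w => show ρ ((1 : T) : G) w = w by simp
        mul_smul := fun x y w => ap_mul ρ x y w }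
    have hT : IsPGroup ℓ T := fun x => ⟨1, Subtype.ext (by simpa using x.2.2)⟩
    have hdiv : ℓ ∣ Nat.card V := by
      have hchar : CharP F ℓ := by
        have h1 : ringChar F ∣ ℓ := (ringChar.spec F ℓ).1 hℓF
        have := (Nat.dvd_prime hℓ).1 h1
        rcases this with h | h
        · exact absurd h (CharP.ringChar_ne_one)
        · exact h ▸ ringChar.charP F
      have : Fintype F := Fintype.ofFinite F
      obtain ⟨k, -, hk⟩ := FiniteField.card F ℓ
      rw [Module.natCard_eq_pow_finrank (K := F), Nat.card_eq_fintype_card, hk, ← pow_mul]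
      refine dvd_pow_self ℓ (Nat.mul_ne_zero k.pos.ne' ?_)
      have : Nontrivial V := ⟨⟨v, 0, hv0⟩⟩
      exact Module.finrank_pos.ne'
    have h0 : (0 : V) ∈ MulAction.fixedPoints T V := fun x => map_zero _
    obtain ⟨w, hw, hw0⟩ := hT.exists_fixed_point_of_prime_dvd_card_of_fixed_point V hdiv h0
    let W : Submodule F V := ⨅ x : T, fx ρ (x : G)
    have hW : ∀ g, W.map (ρ g) ≤ W := by
      intro g
      rintro _ ⟨u, hu, rfl⟩
      have hu' := Submodule.mem_iInf _ |>.1 hu
      refine (Submodule.mem_iInf _).2 fun x => ?_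
      have hx : g⁻¹ * x * g ∈ T := by
        refine ⟨?_, ?_⟩
        · simpa using Subgroup.Normal.conj_mem inferInstance _ x.2.1 g⁻¹
        · have := conj_pow (a := g⁻¹) (b := (x : G)) (i := ℓ)
          simp only [inv_inv] at this
          rw [this, x.2.2, mul_one, inv_mul_cancel]
      have := (mem_fx ρ).1 (hu' ⟨_, hx⟩)
      rw [mem_fx]
      calc ρ (x : G) (ρ g u) = ρ (g * (g⁻¹ * x * g)) u := by
            rw [← ap_mul]; congr 2; group
        _ = _ := by rw [ap_mul, this]
    rcases hirr W hW with h | h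
    · have : w ∈ W := (Submodule.mem_iInf _).2 fun x => (mem_fx ρ).2 (hw x)
      rw [h, Submodule.mem_bot] at this
      exact hw0 this.symm
    · have hbT : b ∈ T := ⟨hbA, hordb ▸ pow_orderOf_eq_one b⟩
      have hb1 : ρ b = ρ 1 := by
        rw [map_one]
        apply LinearMap.ext
        intro u
        exact (mem_fx ρ).1 ((Submodule.mem_iInf _).1 (h ▸ Submodule.mem_top : u ∈ W) ⟨b, hbT⟩)
      have := hinj hb1
      rw [this, orderOf_one] at hordb
      exact hℓ.ne_one hordb.symm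
  · let R := Algebra.adjoin F ((fun x => ρ x) '' (A : Set G))
    have hRc : ∀ x ∈ R, ∀ y ∈ R, x * y = y * x := by
      intro x hx y hy
      have hcomm : ∀ s ∈ (fun x => ρ x) '' (A : Set G), ∀ t ∈ (fun x => ρ x) '' (A : Set G),
          s * t = t * s := by
        rintro _ ⟨s, hs, rfl⟩ _ ⟨t, ht, rfl⟩
        rw [← map_mul, ← map_mul, hA s hs t ht]
      haveI := Algebra.isMulCommutative_adjoin F hcomm
      exact congrArg Subtype.val (mul_comm' (⟨x, hx⟩ : R) ⟨y, hy⟩)
    have hconj : ∀ g, ∀ x ∈ R, ρ g * x * ρ g⁻¹ ∈ R := by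
      intro g x hx
      induction hx using Algebra.adjoin_induction with
      | mem x hx =>
          obtain ⟨s, hs, rfl⟩ := hx
          refine Algebra.subset_adjoin ⟨g * s * g⁻¹, Subgroup.Normal.conj_mem inferInstance s hs g, ?_⟩
          simp
      | algebraMap r =>
          have : ρ g * algebraMap F _ r * ρ g⁻¹ = algebraMap F (Module.End F V) r := by
            rw [← (Algebra.commutes r (ρ g)), mul_assoc, ← map_mul, mul_inv_cancel, map_one, mul_one]
          rw [this]
          exact R.algebraMap_mem r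
      | add x y _ _ hx hy => simpa [mul_add, add_mul] using R.add_mem hx hy
      | mul x y _ _ hx hy =>
          have : ρ g * (x * y) * ρ g⁻¹ = (ρ g * x * ρ g⁻¹) * (ρ g * y * ρ g⁻¹) := by
            calc ρ g * (x * y) * ρ g⁻¹ = ρ g * x * 1 * y * ρ g⁻¹ := by noncomm_ring
              _ = ρ g * x * (ρ g⁻¹ * ρ g) * y * ρ g⁻¹ := by simp [← map_mul]
              _ = _ := by noncomm_ring
          rw [this]; exact R.mul_mem hx hy
    have hbℓ : ρ b ^ ℓ = 1 := by rw [← map_pow, ← hordb, pow_orderOf_eq_one, map_one]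
    let s : Module.End F V := ∑ i ∈ Finset.range ℓ, ρ b ^ i
    have hbs : ρ b * s = s := by
      have h := mul_geom_sum (ρ b) ℓ
      rw [hbℓ, sub_self, sub_mul, one_mul] at h
      exact sub_eq_zero.1 h
    have hbsi : ∀ i, ρ b ^ i * s = s := fun i => by
      induction i with
      | zero => simp
      | succ i ih => rw [pow_succ, mul_assoc, hbs, ih]
    have hss : s * s = (ℓ : F) • s := by
      conv_lhs => arg 1; unfold s
      rw [Finset.sum_mul]
      simp [hbsi, Nat.cast_smul_eq_nsmul]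
    let e : Module.End F V := (ℓ : F)⁻¹ • s
    have hee : e * e = e := by
      simp only [e, smul_mul_smul_comm, hss, smul_smul]
      congr 1
      field_simp
    have heR : e ∈ R := R.smul_mem (R.sum_mem fun i _ => R.pow_mem (Algebra.subset_adjoin (Set.mem_image_of_mem _ hbA)) _) _
    have hev : e v = v := by
      have : s v = (ℓ : F) • v := by
        simp only [s, LinearMap.sum_apply]
        have : ∀ i : ℕ, (ρ b ^ i) v = v := fun i => by
          induction i with
          | zero => simp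
          | succ i ih => rw [pow_succ, Module.End.mul_apply, hvb, ih]
        simp [this, Nat.cast_smul_eq_nsmul]
      simp [e, this, smul_smul, inv_mul_cancel₀ hℓF]
    rcases idem_trivial ρ hirr hprim (R : Set _) (fun x hx y hy => ⟨R.mul_mem hx hy, hRc x hx y hy⟩)
      hconj heR hee with h | h
    · rw [h] at hev; exact hv0 (by simpa using hev.symm)
    · have : ρ b = ρ 1 := by
        rw [map_one, ← h]
        calc ρ b = ρ b * e := by rw [h, mul_one]
          _ = e := by simp only [e, mul_smul_comm, hbs]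
      have := hinj this
      rw [this, orderOf_one] at hordb
      exact hℓ.ne_one hordb.symm

lemma main_abs (hinj : Function.Injective ρ) [Group.IsSolvable G]
    (hirr : ∀ W : Submodule F V, (∀ g, W.map (ρ g) ≤ W) → W = ⊥ ∨ W = ⊤)
    (hprim : ∀ (m t : ℕ) (D : Fin t → Submodule F V), 2 ≤ t → 0 < m →
      (∀ i, finrank F (D i) = m) → iSupIndep D → iSup D = ⊤ →
      ∃ g, ¬ ∃ σ : Equiv.Perm (Fin t), ∀ i, (D i).map (ρ g) = D (σ i))
    (g : G) (hg1 : g ≠ 1) : 4 * finrank F (fx ρ g) ≤ 3 * finrank F V := by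
  classical
  obtain ⟨A, hAmax⟩ := (Set.toFinite {A : Subgroup G | A.Normal ∧ ∀ x ∈ A, ∀ y ∈ A, x * y = y * x}).exists_maximal
    ⟨⊥, by infer_instance, by simp⟩
  have hAn : A.Normal := hAmax.1.1
  have hA : ∀ x ∈ A, ∀ y ∈ A, x * y = y * x := hAmax.1.2
  have fpf : ∀ a ∈ A, a ≠ 1 → finrank F (fx ρ a) = 0 := fun a ha h1 => by
    rw [abelian_normal_fpf ρ hinj hirr hprim A hA ha h1, finrank_bot]
  have done1 : ∀ x, g * x * g⁻¹ * x⁻¹ ∈ A → g * x * g⁻¹ * x⁻¹ ≠ 1 →
      4 * finrank F (fx ρ g) ≤ 3 * finrank F V := by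
    intro x h1 h2
    have := fx_comm_bound ρ g x
    have := fpf _ h1 h2
    omega
  by_cases hgA : g ∈ A
  · rw [fpf g hgA hg1]; omega
  by_cases hgC : ∃ a ∈ A, g * a * g⁻¹ * a⁻¹ ≠ 1
  · obtain ⟨a, ha, h⟩ := hgC
    exact done1 a (A.mul_mem (hAn.conj_mem a ha g) (A.inv_mem ha)) h
  push Not at hgC
  let C : Subgroup G := Subgroup.centralizer (A : Set G)
  have hgC' : g ∈ C := Subgroup.mem_centralizer_iff.2 fun a ha => by
    have h := hgC a ha
    rw [mul_inv_eq_one, mul_inv_eq_iff_eq_mul] at h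
    exact h.symm
  have hAC : A ≤ C := fun a ha => Subgroup.mem_centralizer_iff.2 fun b hb => hA b hb a ha
  by_cases hB : ∃ B : Subgroup G, B.Normal ∧ A ≤ B ∧ B ≤ C ∧ ⁅B, B⁆ ≤ A ∧
      g ∉ Subgroup.centralizer (B : Set G)
  · obtain ⟨B, hBn, hAB, hBC, hBB, hgB⟩ := hB
    rw [Subgroup.mem_centralizer_iff] at hgB
    push Not at hgB
    obtain ⟨b, hb, hgb⟩ := hgB
    set c := g * b * g⁻¹ * b⁻¹ with hc
    have hc1 : c ≠ 1 := by
      intro h
      rw [hc, mul_inv_eq_one, mul_inv_eq_iff_eq_mul] at h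
      exact hgb h.symm
    by_cases hcA : c ∈ A
    · exact done1 b hcA hc1
    have hcB : c ∈ B := B.mul_mem (hBn.conj_mem b hb g) (B.inv_mem hb)
    have hZ : B ⊓ Subgroup.centralizer (B : Set G) ≤ A := by
      have : (B ⊓ Subgroup.centralizer (B : Set G)).Normal := inferInstance
      refine hAmax.2 ⟨this, fun x hx y hy => ?_⟩ (le_inf hAB fun a ha => ?_)
      · exact Subgroup.mem_centralizer_iff.1 hy.2 x hx.1
      · exact Subgroup.mem_centralizer_iff.2 fun x hx =>
          (Subgroup.mem_centralizer_iff.1 (hBC hx) a ha).symm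
    have : c ∉ Subgroup.centralizer (B : Set G) := fun h => hcA (hZ ⟨hcB, h⟩)
    rw [Subgroup.mem_centralizer_iff] at this
    push Not at this
    obtain ⟨b2, hb2, hcb2⟩ := this
    have hd : c * b2 * c⁻¹ * b2⁻¹ ≠ 1 := by
      intro h
      rw [mul_inv_eq_one, mul_inv_eq_iff_eq_mul] at h
      exact hcb2 h.symm
    have hdA : c * b2 * c⁻¹ * b2⁻¹ ∈ A := hBB (Subgroup.commutator_mem_commutator hcB hb2)
    have h1 := fx_comm_bound ρ c b2
    have h2 := fpf _ hdA hd
    have h3 := fx_comm_bound ρ g b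
    rw [← hc] at h3
    omega
  exfalso
  push Not at hB
  let P : Subgroup G → Prop := fun B => B.Normal ∧ A ≤ B ∧ B ≤ C ∧ ⁅B, B⁆ ≤ A
  let N : Subgroup G := C ⊓ ⨅ B : {B // P B}, Subgroup.centralizer ((B : Subgroup G) : Set G)
  have hNn : N.Normal := by
    have : ∀ B : {B // P B}, (Subgroup.centralizer ((B : Subgroup G) : Set G)).Normal := fun B => by
      have := B.2.1
      infer_instance
    have := Subgroup.normal_iInf_normal this
    infer_instance
  have hgN : g ∈ N := ⟨hgC', Subgroup.mem_iInf.2 fun B => hB B.1 B.2.1 B.2.2.1 B.2.2.2.1 B.2.2.2.2⟩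
  have hAN : A ≤ N := le_inf hAC (le_iInf fun B => fun a ha =>
    Subgroup.mem_centralizer_iff.2 fun x hx =>
      (Subgroup.mem_centralizer_iff.1 (B.2.2.2.1 hx) a ha).symm)
  obtain ⟨M, hMmin⟩ := (Set.toFinite {M : Subgroup G | M.Normal ∧ A < M ∧ M ≤ N}).exists_minimal
    ⟨N, hNn, lt_of_le_of_ne hAN (fun h => hgA (h ▸ hgN)), le_rfl⟩
  obtain ⟨hMn, hAM, hMN⟩ := hMmin.1
  have hM'le : ⁅M, M⁆ ≤ A := by
    by_contra hcon
    have hnA : A < ⁅M, M⁆ ⊔ A := lt_of_le_of_ne le_sup_right fun h => hcon (h ▸ le_sup_left)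
    have hle : ⁅M, M⁆ ⊔ A ≤ M := sup_le (Subgroup.commutator_le_right M M) hAM.le
    have hMle : M ≤ ⁅M, M⁆ ⊔ A := hMmin.2 ⟨inferInstance, hnA, hle.trans hMN⟩ hle
    have key : ∀ k, M.map (QuotientGroup.mk' A) ≤ derivedSeries (G ⧸ A) k := by
      intro k
      induction k with
      | zero => simp
      | succ k ih =>
          refine (Subgroup.map_mono hMle).trans ?_
          rw [Subgroup.map_sup, Subgroup.map_commutator, derivedSeries_succ]
          refine sup_le (Subgroup.commutator_mono ih ih) ?_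
          simp
    obtain ⟨k, hk⟩ := (Group.isSolvable_def (G ⧸ A)).1 inferInstance
    have hm := key k
    rw [hk, le_bot_iff, Subgroup.map_eq_bot_iff, QuotientGroup.ker_mk'] at hm
    exact hAM.not_ge hm
  have hMP : P M := ⟨hMn, hAM.le, hMN.trans inf_le_left, hM'le⟩
  have hMab : M ≤ A := hAmax.2 ⟨hMn, fun x hx y hy => by
    exact Subgroup.mem_centralizer_iff.1 (Subgroup.mem_iInf.1 (hMN hy).2 ⟨M, hMP⟩) x hx⟩ hAM.le
  exact hAM.not_ge hMab

/-- Fixed-point spaces in primitive soluble linear groups. -/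
theorem result {F : Type*} [Field F] [Fintype F] {n : ℕ} (G : Subgroup (Matrix.GeneralLinearGroup (Fin n) F)) (hsol : IsSolvable G) (hirr : Cfsg.Geo.ActsIrreducibly (Cfsg.Geo.matrixSet G)) (hprim : ∀ (m t : ℕ) (D : Fin t → Submodule F (Fin n → F)), 2 ≤ t → Cfsg.Geo.IsMDecomposition m D → ¬ G ≤ Cfsg.Geo.decompositionStabilizer D) (g : Matrix.GeneralLinearGroup (Fin n) F) (hg : g ∈ G) (hg1 : g ≠ 1) :
    4 * Module.finrank F (Module.End.eigenspace (Matrix.toLin' (g : Matrix (Fin n) (Fin n) F)) 1) ≤ 3 * n := by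
  let ρ : G →* Module.End F (Fin n → F) :=
    { toFun := fun x => Matrix.toLin' ((x : Matrix.GeneralLinearGroup (Fin n) F) : Matrix (Fin n) (Fin n) F)
      map_one' := by simp [Module.End.one_eq_id]
      map_mul' := fun x y => by simp [Matrix.toLin'_mul, Module.End.mul_eq_comp] }
  have hinj : Function.Injective ρ := fun x y h =>
    Subtype.ext (Units.ext (Matrix.toLin'.injective h))
  have h1 : ∀ W : Submodule F (Fin n → F), (∀ x : G, W.map (ρ x) ≤ W) → W = ⊥ ∨ W = ⊤ := by
    intro W hW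
    refine hirr W ?_
    rintro _ ⟨x, hx, rfl⟩
    exact hW ⟨x, hx⟩
  have h2 : ∀ (m t : ℕ) (D : Fin t → Submodule F (Fin n → F)), 2 ≤ t → 0 < m →
      (∀ i, finrank F (D i) = m) → iSupIndep D → iSup D = ⊤ →
      ∃ x : G, ¬ ∃ σ : Equiv.Perm (Fin t), ∀ i, (D i).map (ρ x) = D (σ i) := by
    intro m t D ht hm hd hi hs
    have := hprim m t D ht ⟨ht, hm, hd, hi, hs⟩
    rw [SetLike.not_le_iff_exists] at this
    obtain ⟨x, hx, hnx⟩ := this
    exact ⟨⟨x, hx⟩, hnx⟩
  haveI : Group.IsSolvable G := hsol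
  have := main_abs ρ hinj h1 h2 ⟨g, hg⟩ (fun h => hg1 (congrArg Subtype.val h))
  rw [Module.finrank_fin_fun] at this
  have e : Module.End.eigenspace (Matrix.toLin' (g : Matrix (Fin n) (Fin n) F)) 1 = fx ρ ⟨g, hg⟩ := by
    ext v
    simp [fx, ρ, Module.End.mem_eigenspace_iff, sub_eq_zero]
  rw [e]
  exact this

end Cfsg.Agent.S5876
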