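import Cfsg.Statements.S5877
import Mathlib

set_option autoImplicit false
open Cfsg

namespace Cfsg.Agent.S5877

open Module
open scoped commutatorElement

/-! ### Sequences in an abelian group -/

/-- The difference sequence. -/
def diff {A : Type*} [AddCommGroup A] (s : ℕ → A) : ℕ → A := fun j => s (j + 1) - s j

theorem diff_iter_const {A : Type*} [AddCommGroup A] {ϖ r : ℕ} (hcop : ϖ.Coprime r) :
    ∀ (k : ℕ) (s : ℕ → A), (∀ j, s (j + ϖ) = s j) → (∀ j, r • s j = 0) →
      (∀ j, diff^[k + 1] s j = 0) → ∀ j, s (j + 1) = s j := by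
  intro k
  induction k with
  | zero => intro s _ _ h j; exact sub_eq_zero.mp (h j)
  | succ k ih =>
    intro s hper hr h
    have hd := ih (diff s) (fun j => by
        show s (j + ϖ + 1) - s (j + ϖ) = s (j + 1) - s j
        rw [add_right_comm, hper, hper])
      (fun j => by
        show r • (s (j + 1) - s j) = 0
        rw [smul_sub, hr, hr, sub_zero])
      (fun j => by rw [← Function.iterate_succ_apply]; exact h j)
    have hconst : ∀ j, diff s j = diff s 0 := fun j => by
      induction j with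
      | zero => rfl
      | succ j ihj => rw [hd j, ihj]
    have hlin : ∀ j, s j = s 0 + j • diff s 0 := fun j => by
      induction j with
      | zero => simp
      | succ j ihj =>
        rw [succ_nsmul, ← add_assoc, ← ihj, ← hconst j]
        show s (j + 1) = s j + (s (j + 1) - s j)
        abel
    have hϖ : ϖ • diff s 0 = 0 := by
      have h1 := hlin ϖ
      rw [show s ϖ = s 0 by simpa using hper 0, left_eq_add] at h1
      exact h1
    have hr0 : r • diff s 0 = 0 := by
      show r • (s 1 - s 0) = 0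
      rw [smul_sub, hr, hr, sub_zero]
    have h0 : diff s 0 = 0 := by
      have h1 := Nat.dvd_gcd (addOrderOf_dvd_iff_nsmul_eq_zero.mpr hϖ)
        (addOrderOf_dvd_iff_nsmul_eq_zero.mpr hr0)
      rw [hcop.gcd_eq_one, Nat.dvd_one] at h1
      exact AddMonoid.addOrderOf_eq_one_iff.mp h1
    intro j
    have := hconst j
    rw [h0] at this
    exact sub_eq_zero.mp this

theorem diff_pow_prime {A : Type*} [AddCommGroup A] {r : ℕ} (hr : r.Prime) (hodd : Odd r) :
    ∀ (s : ℕ → A), (∀ j, s (j + r) = s j) → (∀ j, r • s j = 0) → ∀ j, diff^[r] s j = 0 := by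
  intro s hper hrs
  let S : AddMonoid.End (ℕ → A) := AddMonoidHom.mk' (fun f j => f (j + 1)) fun _ _ => rfl
  have hS : ∀ (k : ℕ) (f : ℕ → A) (j : ℕ), (S ^ k) f j = f (j + k) := by
    intro k
    induction k with
    | zero => intro f j; rfl
    | succ k ih =>
      intro f j
      rw [pow_succ']
      show (S ^ k) f (j + 1) = _
      rw [ih, add_right_comm, add_assoc]
  have hpow : ∀ k, diff^[k] s = ((S - 1) ^ k) s := by
    intro k
    induction k with
    | zero => rfl
    | succ k ih => rw [Function.iterate_succ_apply', ih, pow_succ']; rfl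
  intro j
  obtain ⟨u, hu⟩ := (Commute.neg_right (Commute.one_right S)).exists_add_pow_prime_eq hr
  rw [hpow, sub_eq_add_neg, hu, hodd.neg_one_pow]
  show (S ^ r) s j + (-(s j)) + ((r : AddMonoid.End (ℕ → A)) * (S * (-1) * u)) s j = 0
  rw [hS, hper, add_neg_cancel, zero_add]
  have h : ∀ (f : ℕ → A), ((r : AddMonoid.End (ℕ → A))) f = r • f := fun f => by
    simp [AddMonoid.End.natCast_apply]
  rw [show (r : AddMonoid.End (ℕ → A)) * (S * (-1) * u) = (S * (-1) * u) * (r : AddMonoid.End (ℕ → A))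
    from (Nat.cast_commute r _).eq]
  show (S * (-1) * u) ((r : AddMonoid.End (ℕ → A)) s) j = 0
  rw [h, show r • s = 0 from funext hrs, map_zero]
  rfl

/-! ### Eigenspaces -/

variable {F : Type*} [Field F] {V : Type*} [AddCommGroup V] [Module F V] [FiniteDimensional F V]

/-- The fixed space of a unit. -/
abbrev eig (g : (End F V)ˣ) (c : F) : Submodule F V := End.eigenspace (g : End F V) c

omit [FiniteDimensional F V] in
theorem mem_eig {g : (End F V)ˣ} {c : F} {v : V} : v ∈ eig g c ↔ (g : End F V) v = c • v :=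
  End.mem_eigenspace_iff

omit [FiniteDimensional F V] in
theorem unit_injective (g : (End F V)ˣ) : Function.Injective (g : End F V) := by
  intro a b h
  have h1 : ((g⁻¹ : (End F V)ˣ) : End F V) ((g : End F V) a) =
      ((g⁻¹ : (End F V)ˣ) : End F V) ((g : End F V) b) := by rw [h]
  rwa [← End.mul_apply, ← End.mul_apply, ← Units.val_mul, inv_mul_cancel, Units.val_one,
    End.one_apply, End.one_apply] at h1

omit [FiniteDimensional F V] in
theorem unit_mul_apply (g h : (End F V)ˣ) (v : V) :
    ((g * h : (End F V)ˣ) : End F V) v = (g : End F V) ((h : End F V) v) := rfl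

theorem sum_eig_le (f : End F V) {k : ℕ} (μ : Fin k → F) (hμ : Function.Injective μ) :
    ∑ i, finrank F (f.eigenspace (μ i)) ≤ finrank F V := by
  have hind : iSupIndep fun i => f.eigenspace (μ i) := f.eigenspaces_iSupIndep.comp hμ
  rw [← Module.finrank_directSum F (fun i => f.eigenspace (μ i))]
  exact LinearMap.finrank_le_finrank_of_injective hind.dfinsupp_lsum_injective

/-- An element multiplied by a root of unity under conjugation spreads the eigenspaces. -/
theorem shift_bound {g u : (End F V)ˣ} {κ : F} {s : ℕ} (hs : s.Prime)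
    (hgu : (g : End F V) * u = κ • ((u : End F V) * g)) (hκs : κ ^ s = 1) (hκ : κ ≠ 1) (c : F) :
    s * finrank F (eig g c) ≤ finrank F V := by
  rcases eq_or_ne c 0 with rfl | hc
  · have h : eig g (0 : F) = ⊥ := by
      rw [eq_bot_iff]
      intro v hv
      rw [mem_eig, zero_smul, ← map_zero (g : End F V)] at hv
      exact unit_injective g hv
    rw [h, finrank_bot, mul_zero]
    exact Nat.zero_le _
  have hprim : IsPrimitiveRoot κ s := by
    rw [IsPrimitiveRoot.iff_orderOf]
    exact haveI := Fact.mk hs; orderOf_eq_prime hκs hκ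
  have hinj : Function.Injective fun i : Fin s => c * κ ^ (i : ℕ) := fun i j h =>
    Fin.ext (hprim.pow_inj i.2 j.2 (mul_left_cancel₀ hc h))
  have hmap : ∀ (i : ℕ) (v : V), (g : End F V) v = c • v →
      (g : End F V) (((u ^ i : (End F V)ˣ) : End F V) v) =
        (c * κ ^ i) • ((u ^ i : (End F V)ˣ) : End F V) v := by
    intro i
    induction i with
    | zero => intro v hv; simpa using hv
    | succ i ih =>
      intro v hv
      rw [pow_succ' u, unit_mul_apply, ← End.mul_apply, hgu, LinearMap.smul_apply, End.mul_apply,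
        ih v hv, map_smul, smul_smul]
      congr 1
      ring
  calc s * finrank F (eig g c) = ∑ _i : Fin s, finrank F (eig g c) := by simp
    _ ≤ ∑ i : Fin s, finrank F ((g : End F V).eigenspace (c * κ ^ (i : ℕ))) := by
      refine Finset.sum_le_sum fun i _ => ?_
      let e : eig g c →ₗ[F] (g : End F V).eigenspace (c * κ ^ (i : ℕ)) :=
        LinearMap.codRestrict _ (((u ^ (i : ℕ) : (End F V)ˣ) : End F V).comp (eig g c).subtype)
          fun v => End.mem_eigenspace_iff.mpr (hmap i v (mem_eig.mp v.2))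
      exact LinearMap.finrank_le_finrank_of_injective (f := e) fun a b h =>
        Subtype.ext (unit_injective (u ^ (i : ℕ)) (congrArg Subtype.val h))
    _ ≤ _ := sum_eig_le (g : End F V) (fun i : Fin s => c * κ ^ (i : ℕ)) hinj

/-! ### Groups with scalar commutators -/

/-- The centre as a commutative group. -/
local instance centerCommGroup : CommGroup ↥(Subgroup.center (End F V)ˣ) :=
  { (inferInstance : Group ↥(Subgroup.center (End F V)ˣ)) with
    mul_comm := fun a b => Subtype.ext (Subgroup.mem_center_iff.mp b.2 a) }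


/-- Being a scalar. -/
def Sc (u : (End F V)ˣ) : Prop := ∃ a : F, (u : End F V) = a • 1

omit [FiniteDimensional F V] in
theorem Sc.central {u : (End F V)ˣ} (h : Sc u) (v : (End F V)ˣ) : v * u = u * v := by
  obtain ⟨a, ha⟩ := h
  ext1
  rw [Units.val_mul, Units.val_mul, ha]
  simp

omit [FiniteDimensional F V] in
theorem Sc.one : Sc (1 : (End F V)ˣ) := ⟨1, by simp⟩

omit [FiniteDimensional F V] in
theorem Sc.mul {u v : (End F V)ˣ} (hu : Sc u) (hv : Sc v) : Sc (u * v) := by
  obtain ⟨a, ha⟩ := hu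
  obtain ⟨b, hb⟩ := hv
  exact ⟨a * b, by rw [Units.val_mul, ha, hb, smul_mul_assoc, one_mul, smul_smul]⟩

/-- The standing hypotheses on the normal subgroup. -/
structure Good (r : ℕ) (N : Subgroup (End F V)ˣ) : Prop where
  comm : ∀ u ∈ N, ∀ v ∈ N, Sc ⁅u, v⁆ ∧ ⁅u, v⁆ ^ r = 1
  cent : ∀ M : End F V, (∀ u ∈ N, M * u = (u : End F V) * M) → ∃ a : F, M = a • 1

variable {r : ℕ} {N : Subgroup (End F V)ˣ}

omit [FiniteDimensional F V] in
theorem Good.mem_center (hN : Good r N) {u v : (End F V)ˣ} (hu : u ∈ N) (hv : v ∈ N) :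
    ⁅u, v⁆ ∈ Subgroup.center (End F V)ˣ :=
  Subgroup.mem_center_iff.mpr ((hN.comm u hu v hv).1.central)

omit [FiniteDimensional F V] in
theorem Good.mul_left (hN : Good r N) {u v w : (End F V)ˣ} (hu : u ∈ N) (hv : v ∈ N) (hw : w ∈ N) :
    ⁅u * v, w⁆ = ⁅u, w⁆ * ⁅v, w⁆ := by
  have h : ⁅u * v, w⁆ = u * ⁅v, w⁆ * u⁻¹ * ⁅u, w⁆ := by
    simp only [commutatorElement_def]; group
  rw [h, Subgroup.mem_center_iff.mp (hN.mem_center hv hw) u, mul_inv_cancel_right]
  exact (Subgroup.mem_center_iff.mp (hN.mem_center hv hw) _).symm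

omit [FiniteDimensional F V] in
theorem Good.mul_right (hN : Good r N) {u v w : (End F V)ˣ} (hu : u ∈ N) (hv : v ∈ N) (hw : w ∈ N) :
    ⁅u, v * w⁆ = ⁅u, v⁆ * ⁅u, w⁆ := by
  rw [← commutatorElement_inv (v * w) u, hN.mul_left hv hw hu, mul_inv_rev, commutatorElement_inv,
    commutatorElement_inv]
  exact Subgroup.mem_center_iff.mp (hN.mem_center hu hv) _

omit [FiniteDimensional F V] in
theorem Good.pow_left (hN : Good r N) {u v : (End F V)ˣ} (hu : u ∈ N) (hv : v ∈ N) (k : ℕ) :
    ⁅u ^ k, v⁆ = ⁅u, v⁆ ^ k := by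
  induction k with
  | zero => simp [commutatorElement_def]
  | succ k ih => rw [pow_succ, hN.mul_left (pow_mem hu k) hu hv, ih, pow_succ]

omit [FiniteDimensional F V] in
theorem Good.sc_of_central (hN : Good r N) {u : (End F V)ˣ} (h : ∀ v ∈ N, ⁅u, v⁆ = 1) : Sc u :=
  hN.cent u fun v hv => by
    rw [← Units.val_mul, ← Units.val_mul, commutatorElement_eq_one_iff_mul_comm.mp (h v hv)]

omit [FiniteDimensional F V] in
theorem comm_eq_one {u : (End F V)ˣ} (hu : Sc u) (v : (End F V)ˣ) : ⁅u, v⁆ = 1 :=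
  commutatorElement_eq_one_iff_mul_comm.mpr (hu.central v).symm

omit [FiniteDimensional F V] in
theorem comm_eq_one' {u : (End F V)ˣ} (hu : Sc u) (v : (End F V)ˣ) : ⁅v, u⁆ = 1 :=
  commutatorElement_eq_one_iff_mul_comm.mpr (hu.central v)

omit [FiniteDimensional F V] in
theorem exists_scalar [Nontrivial V] {u v : (End F V)ˣ} (h : Sc ⁅u, v⁆) {k : ℕ}
    (hk : ⁅u, v⁆ ^ k = 1) :
    ∃ κ : F, (u : End F V) * v = κ • ((v : End F V) * u) ∧ κ ^ k = 1 ∧ (κ = 1 → ⁅u, v⁆ = 1) := by
  obtain ⟨κ, hκ⟩ := h
  refine ⟨κ, ?_, ?_, fun h1 => Units.ext (by rw [hκ, h1, one_smul, Units.val_one])⟩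
  · have h1 : u * v = ⁅u, v⁆ * (v * u) := by simp only [commutatorElement_def]; group
    have h2 := congrArg Units.val h1
    rw [Units.val_mul, Units.val_mul, hκ, Units.val_mul, smul_mul_assoc, one_mul] at h2
    exact h2
  · have h2 := congrArg Units.val hk
    rw [Units.val_pow_eq_pow_val, hκ, smul_pow, one_pow, Units.val_one] at h2
    obtain ⟨w, hw⟩ := exists_ne (0 : V)
    have h3 := LinearMap.congr_fun h2 w
    rw [LinearMap.smul_apply, End.one_apply] at h3
    exact smul_left_injective F hw (h3.trans (one_smul F w).symm)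

/-- An element with a non-central commutator has small eigenspaces. -/
theorem Good.eig_le [Nontrivial V] (hN : Good r N) (hr : r.Prime) {y : (End F V)ˣ} (hy : y ∈ N)
    (hns : ¬ Sc y) (c : F) : r * finrank F (eig y c) ≤ finrank F V := by
  obtain ⟨z, hz, hne⟩ : ∃ z ∈ N, ⁅y, z⁆ ≠ 1 := by
    by_contra hh
    push Not at hh
    exact hns (hN.sc_of_central hh)
  obtain ⟨κ, h1, h2, h3⟩ := exists_scalar (hN.comm y hy z hz).1 (hN.comm y hy z hz).2
  exact shift_bound hr h1 h2 (fun h => hne (h3 h)) c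

/-- Conjugation-fixed modulo scalars, but not centralized. -/
theorem Good.fixed_bound [Nontrivial V] (hN : Good r N) (hr : r.Prime) {ϖ : ℕ} (hϖ : ϖ.Prime)
    {g x : (End F V)ˣ} (hx : x ∈ N) (hgϖ : g ^ ϖ = 1) (hD : Sc ⁅g, x⁆) (hne : ⁅g, x⁆ ≠ 1) (c : F) :
    ϖ = r ∧ ϖ * finrank F (eig g c) ≤ finrank F V := by
  have hcen : ∀ w, w * ⁅g, x⁆ = ⁅g, x⁆ * w := hD.central
  have hgx : g * x * g⁻¹ = ⁅g, x⁆ * x := by simp only [commutatorElement_def]; group
  have hiter : ∀ k : ℕ, g ^ k * x * (g ^ k)⁻¹ = ⁅g, x⁆ ^ k * x := by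
    intro k
    induction k with
    | zero => simp
    | succ k ih =>
      calc g ^ (k + 1) * x * (g ^ (k + 1))⁻¹ = g * (g ^ k * x * (g ^ k)⁻¹) * g⁻¹ := by
            rw [pow_succ']; group
        _ = ⁅g, x⁆ ^ k * (g * x * g⁻¹) := by
            rw [ih, ← mul_assoc g, (Commute.pow_right (hcen g) k).eq]
            simp only [mul_assoc]
        _ = _ := by rw [hgx, ← mul_assoc, ← pow_succ]
  have hpϖ : ⁅g, x⁆ ^ ϖ = 1 := by
    have h := hiter ϖ
    rw [hgϖ, one_mul, inv_one, mul_one] at h
    exact mul_eq_right.mp h.symm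
  have hxr : Sc (x ^ r) := hN.sc_of_central fun v hv => by
    rw [hN.pow_left hx hv, (hN.comm x hx v hv).2]
  have hpr : ⁅g, x⁆ ^ r = 1 := by
    have h1 : (g * x * g⁻¹) ^ r = x ^ r := by
      rw [conj_pow, hxr.central g, mul_inv_cancel_right]
    rw [hgx, (show Commute ⁅g, x⁆ x from (hcen x).symm).mul_pow] at h1
    exact mul_eq_right.mp h1
  have heq : ϖ = r := by
    by_contra hne'
    have h1 := Nat.dvd_gcd (orderOf_dvd_of_pow_eq_one hpϖ) (orderOf_dvd_of_pow_eq_one hpr)
    rw [(Nat.coprime_primes hϖ hr).mpr hne' |>.gcd_eq_one, Nat.dvd_one, orderOf_eq_one_iff] at h1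
    exact hne h1
  obtain ⟨κ, h1, h2, h3⟩ := exists_scalar hD hpϖ
  exact ⟨heq, shift_bound hϖ h1 h2 (fun h => hne (h3 h)) c⟩

/-- The normalizer hypothesis. -/
def Norm (N : Subgroup (End F V)ˣ) (g : (End F V)ˣ) : Prop := ∀ u ∈ N, g * u * g⁻¹ ∈ N

omit [FiniteDimensional F V] in
theorem Norm.dee {g : (End F V)ˣ} (hg : Norm N g) {u : (End F V)ˣ} (hu : u ∈ N) : ⁅g, u⁆ ∈ N := by
  rw [commutatorElement_def]; exact mul_mem (hg u hu) (inv_mem hu)

omit [FiniteDimensional F V] in
theorem Norm.iter {g : (End F V)ˣ} (hg : Norm N g) {u : (End F V)ˣ} (hu : u ∈ N) :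
    ∀ k : ℕ, g ^ k * u * (g ^ k)⁻¹ ∈ N := by
  intro k
  induction k with
  | zero => simpa using hu
  | succ k ih =>
    rw [show g ^ (k + 1) * u * (g ^ (k + 1))⁻¹ = g * (g ^ k * u * (g ^ k)⁻¹) * g⁻¹ by
      rw [pow_succ']; group]
    exact hg _ ih

omit [FiniteDimensional F V] in
theorem Good.comm_conj (hN : Good r N) {g u v : (End F V)ˣ} (hu : u ∈ N) (hv : v ∈ N) :
    ⁅g * u * g⁻¹, g * v * g⁻¹⁆ = ⁅u, v⁆ := by
  have h : ⁅g * u * g⁻¹, g * v * g⁻¹⁆ = g * ⁅u, v⁆ * g⁻¹ := by
    simp only [commutatorElement_def]; group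
  rw [h, (hN.comm u hu v hv).1.central g, mul_inv_cancel_right]

section Orbit

variable (hN : Good r N) {g : (End F V)ˣ} (hg : Norm N g)

/-- The commutator pairing with the elements of an orbit. -/
noncomputable def orb {u : (End F V)ˣ} (hu : u ∈ N) (j : ℕ) :
    Additive (↥N → Subgroup.center (End F V)ˣ) :=
  Additive.ofMul fun v => ⟨⁅g ^ j * u * (g ^ j)⁻¹, (v : (End F V)ˣ)⁆,
    hN.mem_center (hg.iter hu j) v.2⟩

variable {hN hg}

omit [FiniteDimensional F V] in
theorem orb_eq_iff {u w : (End F V)ˣ} {hu : u ∈ N} {hw : w ∈ N} {i j : ℕ} :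
    orb hN hg hu i = orb hN hg hw j ↔
      ∀ v ∈ N, ⁅g ^ i * u * (g ^ i)⁻¹, v⁆ = ⁅g ^ j * w * (g ^ j)⁻¹, v⁆ := by
  refine ⟨fun h v hv => congrArg Subtype.val (congrFun h ⟨v, hv⟩), fun h => funext fun v =>
    Subtype.ext (h v v.2)⟩

omit [FiniteDimensional F V] in
theorem orb_periodic {u : (End F V)ˣ} (hu : u ∈ N) {ϖ : ℕ} (hgϖ : g ^ ϖ = 1) (j : ℕ) :
    orb hN hg hu (j + ϖ) = orb hN hg hu j := by
  rw [orb_eq_iff]; intro v _; rw [pow_add, hgϖ, mul_one]

omit [FiniteDimensional F V] in
theorem orb_torsion {u : (End F V)ˣ} (hu : u ∈ N) (j : ℕ) : r • orb hN hg hu j = 0 := by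
  refine funext fun v => Subtype.ext ?_
  exact (hN.comm _ (hg.iter hu j) v v.2).2

omit [FiniteDimensional F V] in
theorem orb_dee {u : (End F V)ˣ} (hu : u ∈ N) (j : ℕ) :
    orb hN hg (hg.dee hu) j = diff (orb hN hg hu) j := by
  refine eq_sub_iff_add_eq.mpr (funext fun v => Subtype.ext ?_)
  show ⁅g ^ j * ⁅g, u⁆ * (g ^ j)⁻¹, (v : (End F V)ˣ)⁆ * ⁅g ^ j * u * (g ^ j)⁻¹, (v : (End F V)ˣ)⁆ =
    ⁅g ^ (j + 1) * u * (g ^ (j + 1))⁻¹, (v : (End F V)ˣ)⁆
  rw [← hN.mul_left (hg.iter (hg.dee hu) j) (hg.iter hu j) v.2]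
  congr 1
  rw [commutatorElement_def, pow_succ]
  group

omit [FiniteDimensional F V] in
theorem sc_of_orb_eq_zero {u : (End F V)ˣ} (hu : u ∈ N) (h : orb hN hg hu 0 = 0) : Sc u := by
  refine hN.sc_of_central fun v hv => ?_
  have h' : ⁅g ^ 0 * u * (g ^ 0)⁻¹, v⁆ = 1 :=
    congrArg Subtype.val (congrFun (congrArg Additive.toMul h) ⟨v, hv⟩)
  simpa using h'

omit [FiniteDimensional F V] in
theorem sc_dee_of_orb_eq {u : (End F V)ˣ} (hu : u ∈ N)
    (h : orb hN hg hu 1 = orb hN hg hu 0) : Sc ⁅g, u⁆ := by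
  refine sc_of_orb_eq_zero (hN := hN) (hg := hg) (hg.dee hu) ?_
  rw [orb_dee hu 0]
  show orb hN hg hu (0 + 1) - orb hN hg hu 0 = 0
  rw [zero_add, h, sub_self]

end Orbit

/-- The pairing with values in the centre, written additively. -/
noncomputable def pair (hN : Good r N) (a b : ↥N) : Additive (Subgroup.center (End F V)ˣ) :=
  Additive.ofMul ⟨⁅(a : (End F V)ˣ), (b : (End F V)ˣ)⁆, hN.mem_center a.2 b.2⟩

omit [FiniteDimensional F V] in
theorem pair_mul_left (hN : Good r N) (a b c : ↥N) :
    pair hN (a * b) c = pair hN a c + pair hN b c :=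
  congrArg Additive.ofMul (Subtype.ext (hN.mul_left a.2 b.2 c.2))

omit [FiniteDimensional F V] in
theorem pair_mul_right (hN : Good r N) (a b c : ↥N) :
    pair hN a (b * c) = pair hN a b + pair hN a c :=
  congrArg Additive.ofMul (Subtype.ext (hN.mul_right a.2 b.2 c.2))

omit [FiniteDimensional F V] in
theorem pair_swap (hN : Good r N) (a b : ↥N) : pair hN b a = - pair hN a b :=
  congrArg Additive.ofMul (Subtype.ext (commutatorElement_inv (a : (End F V)ˣ) b).symm)

omit [FiniteDimensional F V] in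
theorem pair_self (hN : Good r N) (a : ↥N) : pair hN a a = 0 :=
  congrArg Additive.ofMul (Subtype.ext (commutatorElement_self _))

omit [FiniteDimensional F V] in
theorem pair_inv_left (hN : Good r N) (a c : ↥N) : pair hN a⁻¹ c = - pair hN a c := by
  rw [eq_neg_iff_add_eq_zero, ← pair_mul_left, inv_mul_cancel]
  exact congrArg Additive.ofMul (Subtype.ext (commutatorElement_one_left _))

omit [FiniteDimensional F V] in
theorem pair_inv_right (hN : Good r N) (a c : ↥N) : pair hN c a⁻¹ = - pair hN c a := by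
  rw [pair_swap hN a⁻¹ c, pair_inv_left, neg_neg, pair_swap hN c a]

/-- An element of odd order different from `r` moves some element to a non-commuting one. -/
theorem Good.exists_noncommuting (hN : Good r N) (hr : r.Prime) {ϖ : ℕ} (hϖ : ϖ.Prime)
    (hodd : Odd ϖ) (hne : ϖ ≠ r) {g x : (End F V)ˣ} (hg : Norm N g) (hgϖ : g ^ ϖ = 1) (hx : x ∈ N)
    (hxD : ¬ Sc ⁅g, x⁆) : ∃ u ∈ N, ⁅⁅g, u⁆, g * ⁅g, u⁆ * g⁻¹⁆ ≠ 1 := by
  by_contra hall
  push Not at hall
  let γ : ℕ → ↥N → ↥N := fun k a => ⟨g ^ k * a * (g ^ k)⁻¹, hg.iter a.2 k⟩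
  have hγγ : ∀ i j a, γ i (γ j a) = γ (i + j) a := fun i j a => Subtype.ext (by
    show g ^ i * (g ^ j * (a : (End F V)ˣ) * (g ^ j)⁻¹) * (g ^ i)⁻¹ = _
    show _ = g ^ (i + j) * (a : (End F V)ˣ) * (g ^ (i + j))⁻¹
    rw [pow_add]; group)
  have hγmul : ∀ i a b, γ i (a * b) = γ i a * γ i b := fun i a b => Subtype.ext (by
    show g ^ i * ((a : (End F V)ˣ) * b) * (g ^ i)⁻¹ =
      (g ^ i * (a : (End F V)ˣ) * (g ^ i)⁻¹) * (g ^ i * (b : (End F V)ˣ) * (g ^ i)⁻¹)
    group)
  have hinv : ∀ k a b, pair hN (γ k a) (γ k b) = pair hN a b := fun k a b =>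
    congrArg Additive.ofMul (Subtype.ext (hN.comm_conj a.2 b.2))
  -- the quadratic relation
  have hquad : ∀ a : ↥N, pair hN a (γ 1 a) + pair hN a (γ 1 a) = pair hN a (γ 2 a) := by
    intro a
    have h0 : pair hN (γ 1 a * a⁻¹) (γ 2 a * (γ 1 a)⁻¹) = 0 := by
      refine congrArg Additive.ofMul (Subtype.ext ?_)
      have e1 : ((γ 1 a * a⁻¹ : ↥N) : (End F V)ˣ) = ⁅g, (a : (End F V)ˣ)⁆ := by
        show (g ^ 1 * (a : (End F V)ˣ) * (g ^ 1)⁻¹) * (a : (End F V)ˣ)⁻¹ = _
        rw [pow_one, commutatorElement_def]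
      have e2 : ((γ 2 a * (γ 1 a)⁻¹ : ↥N) : (End F V)ˣ) = g * ⁅g, (a : (End F V)ˣ)⁆ * g⁻¹ := by
        show (g ^ 2 * (a : (End F V)ˣ) * (g ^ 2)⁻¹) * (g ^ 1 * (a : (End F V)ˣ) * (g ^ 1)⁻¹)⁻¹ = _
        rw [commutatorElement_def, pow_two, pow_one]; group
      show ⁅((γ 1 a * a⁻¹ : ↥N) : (End F V)ˣ), ((γ 2 a * (γ 1 a)⁻¹ : ↥N) : (End F V)ˣ)⁆ = 1
      rw [e1, e2]
      exact hall a a.2
    rw [pair_mul_left, pair_mul_right, pair_mul_right, pair_inv_left, pair_inv_left,
      pair_inv_right, pair_inv_right, pair_self,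
      show γ 2 a = γ 1 (γ 1 a) from (hγγ 1 1 a).symm, hinv 1] at h0
    rw [show γ 2 a = γ 1 (γ 1 a) from (hγγ 1 1 a).symm, ← sub_eq_zero]
    rw [← h0]; abel
  have hpol : ∀ a b : ↥N, pair hN a (γ 1 b) + pair hN b (γ 1 a) + (pair hN a (γ 1 b) + pair hN b (γ 1 a))
      = pair hN a (γ 2 b) + pair hN b (γ 2 a) := by
    intro a b
    have h := hquad (a * b)
    rw [hγmul, hγmul, pair_mul_left, pair_mul_left, pair_mul_right, pair_mul_right, pair_mul_right,
      pair_mul_right, ← hquad a, ← hquad b] at h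
    rw [← sub_eq_zero] at h ⊢
    rw [← h]; abel
  let T : ℕ → ↥N → Additive (Subgroup.center (End F V)ˣ) := fun j v => pair hN (γ j ⟨x, hx⟩) v
  have hrel : ∀ j v, T (j + 4) v - (T (j + 3) v + T (j + 3) v) + (T (j + 1) v + T (j + 1) v) - T j v
      = 0 := by
    intro j v
    have h := hpol (γ (j + 2) ⟨x, hx⟩) v
    have e1 : pair hN (γ (j + 2) ⟨x, hx⟩) (γ 1 v) = T (j + 1) v := by
      rw [show γ (j + 2) ⟨x, hx⟩ = γ 1 (γ (j + 1) ⟨x, hx⟩) by rw [hγγ]; congr 1; omega, hinv]
    have e2 : pair hN (γ (j + 2) ⟨x, hx⟩) (γ 2 v) = T j v := by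
      rw [show γ (j + 2) ⟨x, hx⟩ = γ 2 (γ j ⟨x, hx⟩) by rw [hγγ]; congr 1; omega, hinv]
    have e3 : pair hN v (γ 1 (γ (j + 2) ⟨x, hx⟩)) = - T (j + 3) v := by
      rw [hγγ, show 1 + (j + 2) = j + 3 by omega, pair_swap hN]
    have e4 : pair hN v (γ 2 (γ (j + 2) ⟨x, hx⟩)) = - T (j + 4) v := by
      rw [hγγ, show 2 + (j + 2) = j + 4 by omega, pair_swap hN]
    rw [e1, e2, e3, e4, ← sub_eq_zero] at h
    rw [← h]; abel
  have hper : ∀ j, T (j + ϖ) = T j := by
    intro j
    have h : γ (j + ϖ) ⟨x, hx⟩ = γ j ⟨x, hx⟩ := Subtype.ext (by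
      show g ^ (j + ϖ) * x * (g ^ (j + ϖ))⁻¹ = g ^ j * x * (g ^ j)⁻¹
      rw [pow_add, hgϖ, mul_one])
    show (fun v => pair hN (γ (j + ϖ) ⟨x, hx⟩) v) = _
    rw [h]
  have htor : ∀ j, r • T j = 0 := fun j => funext fun v =>
    congrArg Additive.ofMul (Subtype.ext (hN.comm _ (hg.iter hx j) v v.2).2)
  have hcop : ϖ.Coprime r := (Nat.coprime_primes hϖ hr).mpr hne
  -- the third difference is killed by `shift + 1`
  have hf : ∀ j, diff^[3] T (j + 1) + diff^[3] T j = 0 := by
    intro j
    funext v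
    have h := hrel j v
    simp only [Function.iterate_succ, Function.iterate_zero, Function.comp_apply, id_eq, diff,
      Pi.add_apply, Pi.sub_apply, Pi.zero_apply, add_assoc, Nat.reduceAdd]
    rw [← h]; abel
  have hfper : ∀ (k j : ℕ), diff^[k] T (j + ϖ) = diff^[k] T j := by
    intro k
    induction k with
    | zero => exact hper
    | succ k ih =>
      intro j
      rw [Function.iterate_succ_apply']
      show diff^[k] T (j + ϖ + 1) - diff^[k] T (j + ϖ) = _
      rw [add_right_comm, ih, ih]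
      rfl
  have hftor : ∀ (k j : ℕ), r • diff^[k] T j = 0 := by
    intro k
    induction k with
    | zero => exact htor
    | succ k ih =>
      intro j
      rw [Function.iterate_succ_apply']
      show r • (diff^[k] T (j + 1) - diff^[k] T j) = 0
      rw [smul_sub, ih, ih, sub_zero]
  have h4 : ∀ j, diff^[3 + 1] T j = 0 := by
    intro j
    rw [Function.iterate_succ_apply']
    show diff^[3] T (j + 1) - diff^[3] T j = 0
    have hneg : diff^[3] T (j + 1) = - diff^[3] T j := eq_neg_of_add_eq_zero_left (hf j)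
    rcases hr.eq_two_or_odd' with h2 | h2
    · rw [hneg, sub_eq_add_neg]
      have := hftor 3 j
      rw [h2, two_nsmul] at this
      rw [← neg_add, this, neg_zero]
    · have halt : ∀ i : ℕ, diff^[3] T (j + i) = (-1 : ℤ) ^ i • diff^[3] T j := by
        intro i
        induction i with
        | zero => simp
        | succ i ih =>
          rw [← add_assoc, eq_neg_of_add_eq_zero_left (hf (j + i)), ih, pow_succ, mul_neg_one,
            neg_smul]
      have h1 := halt ϖ
      rw [hfper, hodd.neg_one_pow, neg_one_smul] at h1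
      have h2' : 2 • diff^[3] T j = 0 := by rw [two_nsmul]; exact eq_neg_iff_add_eq_zero.mp h1
      have h0 : diff^[3] T j = 0 := by
        obtain ⟨m, hm⟩ := h2
        have h3 := hftor 3 j
        rwa [hm, add_smul, mul_comm, mul_smul, h2', smul_zero, zero_add, one_smul] at h3
      rw [hneg, h0, neg_zero, sub_zero]
  have hconst := diff_iter_const hcop 3 T hper htor h4 0
  apply hxD
  refine hN.sc_of_central fun v hv => ?_
  have e : ⁅g, x⁆ = ((γ 1 ⟨x, hx⟩ * (γ 0 ⟨x, hx⟩)⁻¹ : ↥N) : (End F V)ˣ) := by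
    show _ = (g ^ 1 * x * (g ^ 1)⁻¹) * (g ^ 0 * x * (g ^ 0)⁻¹)⁻¹
    rw [commutatorElement_def, pow_one, pow_zero]; group
  have h5 : pair hN (γ 1 ⟨x, hx⟩ * (γ 0 ⟨x, hx⟩)⁻¹) ⟨v, hv⟩ = 0 := by
    rw [pair_mul_left, pair_inv_left, ← sub_eq_add_neg, sub_eq_zero]
    exact congrFun hconst ⟨v, hv⟩
  rw [e]
  exact congrArg Subtype.val h5

/-- Two elements of the orbit sharing a fixed vector commute, which bounds the eigenspace. -/
theorem Good.noncommuting_bound (hN : Good r N) {g u : (End F V)ˣ} (hg : Norm N g) (hu : u ∈ N)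
    (hne : ⁅⁅g, u⁆, g * ⁅g, u⁆ * g⁻¹⁆ ≠ 1) (c : F) :
    2 * finrank F (eig g c) ≤ finrank F V := by
  rcases subsingleton_or_nontrivial V with h | h
  · rw [Submodule.eq_bot_of_subsingleton (p := eig g c), finrank_bot, mul_zero]
    exact Nat.zero_le _
  set y := ⁅g, u⁆ with hy
  set W := eig g c
  have hyN : y ∈ N := hg.dee hu
  let L : V →ₗ[F] V := (u : End F V)
  have hdis : W ⊓ W.map L = ⊥ := by
    rw [eq_bot_iff]
    rintro v ⟨hvW, w, hw, rfl⟩
    rw [Submodule.mem_bot]
    by_contra hv0
    have hv := mem_eig.mp hvW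
    have hw' := mem_eig.mp hw
    have hc : c ≠ 0 := fun hc => hv0 (by
      rw [hc, zero_smul, ← map_zero (g : End F V)] at hv
      exact unit_injective g hv)
    have h1 : (y : End F V) (L w) = L w := by
      have e : g * u = y * (u * g) := by rw [hy, commutatorElement_def]; group
      have e' := LinearMap.congr_fun (congrArg Units.val e) w
      simp only [Units.val_mul, End.mul_apply] at e'
      rw [hw', map_smul, map_smul] at e'
      exact smul_right_injective V hc (e'.symm.trans hv)
    have h2 : ((g * y * g⁻¹ : (End F V)ˣ) : End F V) (L w) = L w := by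
      have e : g * y * g⁻¹ * g = g * y := by group
      have e' := LinearMap.congr_fun (congrArg Units.val e) (L w)
      rw [Units.val_mul, End.mul_apply, hv, map_smul, unit_mul_apply g y, h1, hv] at e'
      exact smul_right_injective V hc e'
    obtain ⟨κ, hκ, -, hκ1⟩ := exists_scalar (hN.comm y hyN _ (hg y hyN)).1 (hN.comm y hyN _ (hg y hyN)).2
    have h3 := LinearMap.congr_fun hκ (L w)
    rw [LinearMap.smul_apply, End.mul_apply, End.mul_apply, h2, h1, h2] at h3
    exact hne (hκ1 (smul_left_injective F hv0 (by show κ • L w = (1 : F) • L w; rw [one_smul, ← h3])))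
  have h1 := Submodule.finrank_sup_add_finrank_inf_eq W (W.map L)
  rw [hdis, finrank_bot, add_zero, ← (Submodule.equivMapOfInjective L (unit_injective u) W).finrank_eq] at h1
  have h2 := Submodule.finrank_le (W ⊔ W.map L)
  omega

/-- The bound for involutions. -/
theorem Good.two_bound (hN : Good r N) (hr : r.Prime) {g u : (End F V)ˣ} (hg : Norm N g) (hu : u ∈ N)
    (hns : ¬ Sc ⁅g, u⁆) (c : F) : 4 * finrank F (eig g c) ≤ 3 * finrank F V := by
  rcases subsingleton_or_nontrivial V with h | h
  · rw [Submodule.eq_bot_of_subsingleton (p := eig g c), finrank_bot, mul_zero]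
    exact Nat.zero_le _
  set W := eig g c
  let L : V →ₗ[F] V := (u : End F V)
  rcases eq_or_ne c 0 with hc | hc
  · have : W = ⊥ := by
      rw [eq_bot_iff]
      intro v hv
      have hv' := mem_eig.mp hv
      rw [hc, zero_smul, ← map_zero (g : End F V)] at hv'
      exact unit_injective g hv'
    rw [this, finrank_bot, mul_zero]
    exact Nat.zero_le _
  have hle : W ⊓ W.map L ≤ eig ⁅g, u⁆ 1 := by
    rintro v ⟨hvW, w, hw, rfl⟩
    rw [mem_eig, one_smul]
    have e : g * u = ⁅g, u⁆ * (u * g) := by rw [commutatorElement_def]; group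
    have e' := LinearMap.congr_fun (congrArg Units.val e) w
    simp only [Units.val_mul, End.mul_apply] at e'
    rw [mem_eig.mp hw, map_smul, map_smul] at e'
    exact smul_right_injective V hc (e'.symm.trans (mem_eig.mp hvW))
  have h1 := Submodule.finrank_sup_add_finrank_inf_eq W (W.map L)
  rw [← (Submodule.equivMapOfInjective L (unit_injective u) W).finrank_eq] at h1
  have h2 := Submodule.finrank_le (W ⊔ W.map L)
  have h3 := Submodule.finrank_mono hle
  have h4 := hN.eig_le hr (hg.dee hu) hns 1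
  have h5 : 2 * finrank F (eig ⁅g, u⁆ 1) ≤ r * finrank F (eig ⁅g, u⁆ 1) :=
    Nat.mul_le_mul_right _ hr.two_le
  omega

/-! ### Decomposition along an element of order `r` -/

/-- The projection to the eigenspace of `z` for the root of unity `μ`. -/
noncomputable def proj (r : ℕ) (z : (End F V)ˣ) (μ : F) : End F V :=
  (r : F)⁻¹ • ∑ i ∈ Finset.range r, (μ⁻¹ • (z : End F V)) ^ i

omit [FiniteDimensional F V] in
theorem proj_mem {z : (End F V)ˣ} {μ : F} (hr : 0 < r) (hz : z ^ r = 1) (hμ : μ ^ r = 1) (v : V) :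
    proj r z μ v ∈ eig z μ := by
  have hμ0 : μ ≠ 0 := fun h => by rw [h, zero_pow hr.ne'] at hμ; exact zero_ne_one hμ
  have h1 : (μ⁻¹ • (z : End F V) - 1) * ∑ i ∈ Finset.range r, (μ⁻¹ • (z : End F V)) ^ i = 0 := by
    rw [mul_geom_sum, smul_pow, ← Units.val_pow_eq_pow_val, hz, Units.val_one, inv_pow, hμ, inv_one,
      one_smul, sub_self]
  rw [mem_eig]
  have h2 := LinearMap.congr_fun h1 v
  rw [End.mul_apply, LinearMap.sub_apply, LinearMap.smul_apply, End.one_apply, LinearMap.zero_apply,
    sub_eq_zero, inv_smul_eq_iff₀ hμ0] at h2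
  rw [proj, LinearMap.smul_apply, map_smul, h2, smul_comm]

omit [FiniteDimensional F V] in
theorem proj_apply {z : (End F V)ˣ} {μ ν : F} {v : V} (hv : v ∈ eig z ν) :
    proj r z μ v = ((r : F)⁻¹ * ∑ i ∈ Finset.range r, (μ⁻¹ * ν) ^ i) • v := by
  have h : ∀ i : ℕ, ((μ⁻¹ • (z : End F V)) ^ i) v = (μ⁻¹ * ν) ^ i • v := by
    intro i
    induction i with
    | zero => simp
    | succ i ih =>
      rw [pow_succ', End.mul_apply, ih, LinearMap.smul_apply, map_smul, mem_eig.mp hv, smul_smul,
        smul_smul]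
      congr 1
      ring
  rw [proj, LinearMap.smul_apply, LinearMap.sum_apply, mul_smul, Finset.sum_smul]
  exact congrArg _ (Finset.sum_congr rfl fun i _ => h i)

omit [FiniteDimensional F V] in
theorem proj_comm {z u : (End F V)ˣ} (h : u * z = z * u) (μ : F) (v : V) :
    proj r z μ ((u : End F V) v) = (u : End F V) (proj r z μ v) := by
  have hc : Commute (u : End F V) (proj r z μ) := by
    refine Commute.smul_right (Commute.sum_right _ _ _ fun i _ =>
      (Commute.smul_right ?_ _).pow_right i) _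
    show (u : End F V) * z = z * u
    rw [← Units.val_mul, h, Units.val_mul]
  exact (LinearMap.congr_fun hc.eq v).symm

omit [FiniteDimensional F V] in
theorem sum_proj {z : (End F V)ˣ} {ζ : F} (hrF : (r : F) ≠ 0) (hζ : IsPrimitiveRoot ζ r)
    (hr : r.Prime) (v : V) : v = ∑ j ∈ Finset.range r, proj r z (ζ ^ j) v := by
  have h : ∑ j ∈ Finset.range r, proj r z (ζ ^ j) = 1 := by
    simp only [proj, ← Finset.smul_sum, smul_pow]
    rw [Finset.sum_comm, Finset.sum_eq_single 0]
    · simp [← Nat.cast_smul_eq_nsmul F, inv_smul_smul₀ hrF]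
    · intro i hi hi0
      rw [← Finset.sum_smul]
      have hprim : IsPrimitiveRoot ((ζ⁻¹) ^ i) r :=
        hζ.inv.pow_of_coprime i ((Nat.coprime_comm.mp (hr.coprime_iff_not_dvd.mpr fun hd =>
          hi0 (Nat.eq_zero_of_dvd_of_lt hd (Finset.mem_range.mp hi)))))
      have h0 := hprim.geom_sum_eq_zero hr.one_lt
      rw [Finset.sum_congr rfl fun j _ => show ((ζ ^ j)⁻¹) ^ i = (ζ⁻¹ ^ i) ^ j by
        rw [← inv_pow, ← pow_mul, ← pow_mul, mul_comm], h0, zero_smul]
    · intro h0
      exact absurd (Finset.mem_range.mpr hr.pos) h0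
  have := LinearMap.congr_fun h v
  rw [LinearMap.sum_apply, End.one_apply] at this
  exact this.symm

theorem cast_prime_ne_zero {ζ : F} (hr : r.Prime) (hζ : IsPrimitiveRoot ζ r) : (r : F) ≠ 0 := by
  intro h
  haveI : Fact r.Prime := ⟨hr⟩
  haveI : CharP F r := (CharP.charP_iff_prime_eq_zero hr).mpr h
  have h1 := hζ.pow_eq_one
  rw [← frobenius_def, ← map_one (frobenius F r)] at h1
  exact hζ.ne_one hr.one_lt (frobenius_inj F r h1)

/-- Restriction to the fixed space of `z`. -/
noncomputable def resHom (z : (End F V)ˣ) :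
    ↥(Subgroup.centralizer ({z} : Set (End F V)ˣ)) →* (End F ↥(eig z (1 : F)))ˣ :=
  MonoidHom.toHomUnits
    { toFun := fun u => LinearMap.restrict ((u : (End F V)ˣ) : End F V) fun v hv => by
        rw [mem_eig, one_smul] at hv ⊢
        have h := congrArg Units.val (Subgroup.mem_centralizer_singleton_iff.mp u.2)
        rw [Units.val_mul, Units.val_mul] at h
        have h' := LinearMap.congr_fun h v
        rw [End.mul_apply, End.mul_apply, hv] at h'
        exact h'.symm
      map_one' := LinearMap.ext fun v => Subtype.ext rfl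
      map_mul' := fun u w => LinearMap.ext fun v => Subtype.ext rfl }

omit [FiniteDimensional F V] in
theorem resHom_apply (z : (End F V)ˣ) (u : ↥(Subgroup.centralizer ({z} : Set (End F V)ˣ)))
    (v : ↥(eig z (1 : F))) :
    (((resHom z u : (End F ↥(eig z (1 : F)))ˣ) : End F ↥(eig z (1 : F))) v : V) =
      ((u : (End F V)ˣ) : End F V) v := rfl

omit [FiniteDimensional F V] in
theorem Sc.res {z : (End F V)ˣ} {u : ↥(Subgroup.centralizer ({z} : Set (End F V)ˣ))}
    (h : Sc (u : (End F V)ˣ)) : Sc (resHom z u) := by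
  obtain ⟨a, ha⟩ := h
  refine ⟨a, LinearMap.ext fun v => Subtype.ext ?_⟩
  rw [resHom_apply, ha]
  rfl

/-- The group induced on the fixed space of `z`. -/
noncomputable def block (N : Subgroup (End F V)ˣ) (z : (End F V)ˣ) :
    Subgroup (End F ↥(eig z (1 : F)))ˣ :=
  (N.subgroupOf (Subgroup.centralizer ({z} : Set (End F V)ˣ))).map (resHom z)

omit [FiniteDimensional F V] in
theorem Norm.block {g : (End F V)ˣ} (hg : Norm N g) {z : (End F V)ˣ}
    (hgz : g ∈ Subgroup.centralizer ({z} : Set (End F V)ˣ)) :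
    Norm (S5877.block N z) (resHom z ⟨g, hgz⟩) := by
  rintro _ ⟨u, hu, rfl⟩
  refine ⟨⟨g, hgz⟩ * u * ⟨g, hgz⟩⁻¹, hg _ hu, ?_⟩
  simp only [map_mul, map_inv]

omit [FiniteDimensional F V] in
/-- A scalar commutator of value a root of unity. -/
theorem comm_eq_pow [Nontrivial V] (hN : Good r N) (hr : r.Prime) {u v a b : (End F V)ˣ}
    (ha : a ∈ N) (hb : b ∈ N) (hu : u ∈ N) (hv : v ∈ N) (hne : ⁅a, b⁆ ≠ 1) :
    ∃ i : ℕ, ⁅u, v⁆ = ⁅a, b⁆ ^ i := by
  haveI : NeZero r := ⟨hr.ne_zero⟩
  obtain ⟨α, hα⟩ := (hN.comm a ha b hb).1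
  obtain ⟨β, hβ⟩ := (hN.comm u hu v hv).1
  obtain ⟨w, hw⟩ := exists_ne (0 : V)
  have hval : ∀ {x : (End F V)ˣ} {κ : F}, (x : End F V) = κ • 1 → x ^ r = 1 → κ ^ r = 1 := by
    intro x κ hx hxr
    have h2 := congrArg Units.val hxr
    rw [Units.val_pow_eq_pow_val, hx, smul_pow, one_pow, Units.val_one] at h2
    have h3 := LinearMap.congr_fun h2 w
    rw [LinearMap.smul_apply, End.one_apply] at h3
    exact smul_left_injective F hw (h3.trans (one_smul F w).symm)
  have hα1 : α ≠ 1 := fun h => hne (Units.ext (by rw [hα, h, one_smul, Units.val_one]))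
  have hprim : IsPrimitiveRoot α r := by
    rw [IsPrimitiveRoot.iff_orderOf]
    exact haveI := Fact.mk hr; orderOf_eq_prime (hval hα (hN.comm a ha b hb).2) hα1
  obtain ⟨i, -, hi⟩ := hprim.eq_pow_of_pow_eq_one (hval hβ (hN.comm u hu v hv).2)
  exact ⟨i, Units.ext (by rw [hβ, Units.val_pow_eq_pow_val, hα, smul_pow, one_pow, hi])⟩

omit [FiniteDimensional F V] in
/-- The hypotheses pass to the fixed space. -/
theorem Good.block [Nontrivial V] (hN : Good r N) (hr : r.Prime) (hrF : (r : F) ≠ 0)
    {z t : (End F V)ˣ} (hz : z ∈ N) (ht : t ∈ N) (hzr : z ^ r = 1) (hzt : ⁅t, z⁆ ≠ 1) :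
    Good r (S5877.block N z) := by
  constructor
  · rintro _ ⟨u, hu, rfl⟩ _ ⟨v, hv, rfl⟩
    have h := hN.comm _ hu _ hv
    rw [← map_commutatorElement]
    refine ⟨Sc.res (u := ⁅u, v⁆) (by simpa [commutatorElement_def] using h.1), ?_⟩
    rw [← map_pow]
    have h' : ⁅u, v⁆ ^ r = 1 := Subtype.ext (by simpa [commutatorElement_def] using h.2)
    rw [h', map_one]
  intro M hM
  have hP1 : ∀ v : V, proj r z 1 v ∈ eig z (1 : F) := fun v => proj_mem hr.pos hzr (one_pow r) v
  let E : End F V :=
    (eig z (1 : F)).subtype ∘ₗ M ∘ₗ LinearMap.codRestrict (eig z (1 : F)) (proj r z 1) hP1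
  let f : ℕ → End F V := fun j =>
    ((t ^ j : (End F V)ˣ) : End F V) * E * (((t ^ j)⁻¹ : (End F V)ˣ) : End F V)
  have htr : Sc (t ^ r) := hN.sc_of_central fun v hv => by
    rw [hN.pow_left ht hv, (hN.comm t ht v hv).2]
  have hfr : f r = f 0 := by
    obtain ⟨a, ha⟩ := htr
    have h1 : ((t ^ r : (End F V)ˣ) : End F V) * (((t ^ r)⁻¹ : (End F V)ˣ) : End F V) = 1 :=
      Units.mul_inv _
    show ((t ^ r : (End F V)ˣ) : End F V) * E * _ = ((t ^ 0 : (End F V)ˣ) : End F V) * E * _
    rw [ha, smul_mul_assoc, one_mul] at h1 ⊢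
    rw [smul_mul_assoc, ← mul_smul_comm, h1]
    simp
  let H : End F V := ∑ j ∈ Finset.range r, f j
  have hHt : H * t = (t : End F V) * H := by
    have h1 : ∀ j, (t : End F V) * f j = f (j + 1) * t := by
      intro j
      simp only [f, pow_succ', mul_inv_rev, Units.val_mul, mul_assoc, Units.inv_mul, mul_one]
    have h2 : ∑ j ∈ Finset.range r, f (j + 1) = H := by
      have e1 := Finset.sum_range_succ f r
      have e2 := Finset.sum_range_succ' f r
      rw [e1, hfr] at e2
      exact (add_right_cancel e2).symm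
    conv_rhs => rw [show H = ∑ j ∈ Finset.range r, f j from rfl, Finset.mul_sum,
      Finset.sum_congr rfl fun j _ => h1 j, ← Finset.sum_mul, h2]
  have hHC : ∀ u ∈ N, u * z = z * u → H * u = (u : End F V) * H := by
    intro u hu huz
    have hEu : E * u = (u : End F V) * E := by
      refine LinearMap.ext fun v => ?_
      rw [End.mul_apply, End.mul_apply]
      let uK : ↥(Subgroup.centralizer ({z} : Set (End F V)ˣ)) :=
        ⟨u, Subgroup.mem_centralizer_singleton_iff.mpr huz⟩
      have hMu := LinearMap.congr_fun (hM (resHom z uK) ⟨uK, hu, rfl⟩) ⟨proj r z 1 v, hP1 v⟩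
      have e : LinearMap.codRestrict (eig z (1 : F)) (proj r z 1) hP1 ((u : End F V) v) =
          ((resHom z uK : (End F ↥(eig z (1 : F)))ˣ) : End F ↥(eig z (1 : F)))
            ⟨proj r z 1 v, hP1 v⟩ := Subtype.ext (proj_comm huz 1 v)
      show ((M (LinearMap.codRestrict (eig z (1 : F)) (proj r z 1) hP1 ((u : End F V) v))) : V) = _
      rw [e]
      exact congrArg Subtype.val hMu
    have hf : ∀ j, f j * u = (u : End F V) * f j := by
      intro j
      have hc := (hN.comm u hu _ (pow_mem ht j)).1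
      have e1 : (t ^ j)⁻¹ * u = ⁅u, t ^ j⁆ * (u * (t ^ j)⁻¹) := by
        calc (t ^ j)⁻¹ * u = ((t ^ j)⁻¹ * ⁅u, t ^ j⁆) * ((t ^ j * u) * (t ^ j)⁻¹) := by
              simp only [commutatorElement_def]; group
          _ = (⁅u, t ^ j⁆ * (t ^ j)⁻¹) * ((t ^ j * u) * (t ^ j)⁻¹) := by rw [hc.central]
          _ = _ := by group
      have e2 : ⁅u, t ^ j⁆ * ((t ^ j) * u) = u * t ^ j := by
        simp only [commutatorElement_def]; group
      obtain ⟨a, ha⟩ := hc
      have e1' := congrArg Units.val e1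
      have e2' := congrArg Units.val e2
      simp only [Units.val_mul, ha, smul_mul_assoc, one_mul] at e1' e2'
      show ((t ^ j : (End F V)ˣ) : End F V) * E * _ * u = (u : End F V) * (_ * E * _)
      rw [mul_assoc, e1', mul_smul_comm, ← mul_assoc (((t ^ j : (End F V)ˣ) : End F V) * E),
        mul_assoc ((t ^ j : (End F V)ˣ) : End F V), hEu, ← mul_assoc, ← smul_mul_assoc,
        ← smul_mul_assoc, e2']
      simp only [mul_assoc]
    show (∑ j ∈ Finset.range r, f j) * _ = _ * ∑ j ∈ Finset.range r, f j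
    rw [Finset.mul_sum, Finset.sum_mul]
    exact Finset.sum_congr rfl fun j _ => hf j
  have hH : ∀ u ∈ N, H * u = (u : End F V) * H := by
    intro u hu
    obtain ⟨i, hi⟩ := comm_eq_pow hN hr ht hz hu hz hzt
    have hu' : (t ^ i)⁻¹ * u ∈ N := mul_mem (inv_mem (pow_mem ht i)) hu
    have hcomm : ((t ^ i)⁻¹ * u) * z = z * ((t ^ i)⁻¹ * u) := by
      rw [← commutatorElement_eq_one_iff_mul_comm, hN.mul_left (inv_mem (pow_mem ht i)) hu hz, hi]
      have h1 : ⁅(t ^ i)⁻¹, z⁆ * ⁅t ^ i, z⁆ = 1 := by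
        rw [← hN.mul_left (inv_mem (pow_mem ht i)) (pow_mem ht i) hz, inv_mul_cancel,
          commutatorElement_one_left]
      rwa [hN.pow_left ht hz] at h1
    have h2 : Commute H ((t ^ i : (End F V)ˣ) : End F V) := by
      rw [Units.val_pow_eq_pow_val]
      exact Commute.pow_right hHt i
    have h3 : Commute H ((((t ^ i)⁻¹ * u : (End F V)ˣ)) : End F V) := hHC _ hu' hcomm
    have h4 := h2.mul_right h3
    rw [← Units.val_mul, mul_inv_cancel_left] at h4
    exact h4.eq
  obtain ⟨a, ha⟩ := hN.cent H hH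
  refine ⟨a, LinearMap.ext fun v => Subtype.ext ?_⟩
  obtain ⟨κ, hκ, hκr, hκ1⟩ := exists_scalar (hN.comm t ht z hz).1 (hN.comm t ht z hz).2
  have hκ' : IsPrimitiveRoot κ r := by
    rw [IsPrimitiveRoot.iff_orderOf]
    exact haveI := Fact.mk hr; orderOf_eq_prime hκr fun h => hzt (hκ1 h)
  have hv1 : proj r z 1 (v : V) = v := by
    rw [proj_apply v.2]
    simp [inv_mul_cancel₀ hrF]
  have hHv : H v = (M v : V) := by
    show (∑ j ∈ Finset.range r, f j) (v : V) = _
    rw [LinearMap.sum_apply, Finset.sum_eq_single 0]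
    · have e : f 0 (v : V) = E v := by simp [f]
      rw [e]
      show ((M ⟨proj r z 1 (v : V), hP1 _⟩) : V) = _
      congr 2
      exact Subtype.ext hv1
    · intro j hj hj0
      show ((t ^ j : (End F V)ˣ) : End F V) (E ((((t ^ j)⁻¹ : (End F V)ˣ) : End F V) v)) = 0
      -- the shifted vector lies in another eigenspace
      set w := (((t ^ j)⁻¹ : (End F V)ˣ) : End F V) (v : V) with hw
      have hzw : w ∈ eig z (κ ^ j) := by
        obtain ⟨b, hb⟩ := (hN.comm (t ^ j) (pow_mem ht j) z hz).1
        have hb' : b = κ ^ j := by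
          obtain ⟨x₀, hx₀⟩ := exists_ne (0 : V)
          obtain ⟨κ', hκ''⟩ := (hN.comm t ht z hz).1
          have hκκ : κ' = κ := by
            have e : t * z = ⁅t, z⁆ * (z * t) := by simp only [commutatorElement_def]; group
            have e' := congrArg Units.val e
            simp only [Units.val_mul, hκ'', smul_mul_assoc, one_mul] at e'
            rw [hκ] at e'
            have h5 := LinearMap.congr_fun e' x₀
            simp only [LinearMap.smul_apply, End.mul_apply] at h5
            refine (smul_left_injective F (fun h => hx₀ ?_) h5).symm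
            exact unit_injective t (unit_injective z (by rw [h, map_zero, map_zero]))
          have h6 := congrArg Units.val (hN.pow_left ht hz j)
          rw [hb, Units.val_pow_eq_pow_val, hκ'', hκκ, smul_pow, one_pow] at h6
          have h7 := LinearMap.congr_fun h6 x₀
          rw [LinearMap.smul_apply, LinearMap.smul_apply, End.one_apply] at h7
          exact smul_left_injective F hx₀ h7
        have e : (t ^ j)⁻¹ * ⁅t ^ j, z⁆ * z = z * (t ^ j)⁻¹ := by
          simp only [commutatorElement_def]; group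
        have e' := LinearMap.congr_fun (congrArg Units.val e) (v : V)
        simp only [Units.val_mul, End.mul_apply, hb, mem_eig.mp v.2, one_smul, LinearMap.smul_apply,
          End.one_apply, map_smul] at e'
        rw [mem_eig, ← hb', hw]
        exact e'.symm
      have hne : κ ^ j ≠ 1 := hκ'.pow_ne_one_of_pos_of_lt hj0 (Finset.mem_range.mp hj)
      have hz0 : proj r z 1 w = 0 := by
        have h8 : ∑ i ∈ Finset.range r, ((1 : F)⁻¹ * κ ^ j) ^ i = 0 := by
          refine IsPrimitiveRoot.geom_sum_eq_zero ?_ hr.one_lt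
          rw [inv_one, one_mul, IsPrimitiveRoot.iff_orderOf]
          exact haveI := Fact.mk hr; orderOf_eq_prime (by rw [← pow_mul, mul_comm, pow_mul, hκr, one_pow]) hne
        rw [proj_apply hzw, h8, mul_zero, zero_smul]
      show ((t ^ j : (End F V)ˣ) : End F V) ((M ⟨proj r z 1 w, hP1 w⟩) : V) = 0
      rw [show (⟨proj r z 1 w, hP1 w⟩ : ↥(eig z (1 : F))) = 0 from Subtype.ext hz0]
      simp
    · intro h0
      exact absurd (Finset.mem_range.mpr hr.pos) h0
  show (M v : V) = ((a • (1 : End F ↥(eig z (1 : F)))) v : V)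
  rw [← hHv, ha]
  rfl

/-- Every element is a scalar times an element of order dividing `r`. -/
def Expo (r : ℕ) (N : Subgroup (End F V)ˣ) : Prop :=
  ∀ u ∈ N, ∃ s, Sc s ∧ s ∈ N ∧ (s * u) ^ r = 1

omit [FiniteDimensional F V] in
theorem Expo.block {z : (End F V)ˣ} (h : Expo r N) : Expo r (S5877.block N z) := by
  rintro _ ⟨u, hu, rfl⟩
  obtain ⟨s, hs, hsN, hsu⟩ := h _ hu
  let sK : ↥(Subgroup.centralizer ({z} : Set (End F V)ˣ)) :=
    ⟨s, Subgroup.mem_centralizer_singleton_iff.mpr (hs.central z).symm⟩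
  refine ⟨resHom z sK, Sc.res hs, ⟨sK, hsN, rfl⟩, ?_⟩
  rw [← map_mul, ← map_pow, show (sK * u) ^ r = 1 from Subtype.ext hsu, map_one]

omit [FiniteDimensional F V] in
theorem twist_pow (hN : Good r N) {h t : (End F V)ˣ} (hh : h ∈ N) (ht : t ∈ N) (j : ℕ) :
    (t * h) ^ j = t ^ j * h ^ j * ⁅h, t⁆ ^ j.choose 2 := by
  induction j with
  | zero => simp
  | succ j ih =>
    have hz : ∀ (m : ℕ) (u : (End F V)ˣ), u * ⁅h, t⁆ ^ m = ⁅h, t⁆ ^ m * u := fun m u =>
      Subgroup.mem_center_iff.mp (pow_mem (hN.mem_center hh ht) m) u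
    have hs : h ^ j * t = t * h ^ j * ⁅h, t⁆ ^ j := by
      rw [hz, ← hN.pow_left hh ht]
      simp only [commutatorElement_def]; group
    rw [pow_succ, ih, Nat.choose_succ_succ, Nat.choose_one_right]
    calc t ^ j * h ^ j * ⁅h, t⁆ ^ j.choose 2 * (t * h)
        = t ^ j * (h ^ j * t) * h * ⁅h, t⁆ ^ j.choose 2 := by
          simp only [mul_assoc]; rw [← hz (j.choose 2) (t * h)]; simp only [mul_assoc]
      _ = t ^ (j + 1) * h ^ (j + 1) * (⁅h, t⁆ ^ j * ⁅h, t⁆ ^ j.choose 2) := by
          rw [hs, pow_succ, pow_succ]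
          simp only [mul_assoc]
          rw [← mul_assoc (⁅h, t⁆ ^ j) h, ← hz j h, mul_assoc]
      _ = _ := by rw [← pow_add]

/-- At most two indices give the same value of a quadratic exponent. -/
theorem quad_card {η b d : F} (hr : r.Prime) (hodd : Odd r) (hη : IsPrimitiveRoot η r)
    (hb : b ^ r = 1) [DecidableEq F] :
    ((Finset.range r).filter fun j => η ^ j.choose 2 * b ^ j = d).card ≤ 2 := by
  haveI : NeZero r := ⟨hr.ne_zero⟩
  haveI : Fact r.Prime := ⟨hr⟩
  obtain ⟨e, -, he⟩ := hη.eq_pow_of_pow_eq_one hb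
  have h2 : (2 : ZMod r) ≠ 0 := by
    intro h
    have h2' : ((2 : ℕ) : ZMod r) = 0 := by exact_mod_cast h
    rw [ZMod.natCast_eq_zero_iff] at h2'
    have := (Nat.prime_dvd_prime_iff_eq hr Nat.prime_two).mp h2'
    subst this
    exact (by decide : ¬ Odd 2) hodd
  have key : ∀ i j : ℕ, i < r → j < r → η ^ i.choose 2 * b ^ i = η ^ j.choose 2 * b ^ j → i ≠ j →
      ((i : ZMod r) + j - 1 + 2 * e) = 0 := by
    intro i j hi hj h hne
    rw [← he, ← pow_mul, ← pow_mul, ← pow_add, ← pow_add] at h
    have hm : ((i.choose 2 + e * i : ℕ) : ZMod r) = ((j.choose 2 + e * j : ℕ) : ZMod r) := by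
      rw [ZMod.natCast_eq_natCast_iff']
      have h' : η ^ ((i.choose 2 + e * i) % r) = η ^ ((j.choose 2 + e * j) % r) := by
        rw [← pow_eq_pow_mod _ hη.pow_eq_one, ← pow_eq_pow_mod _ hη.pow_eq_one]; exact h
      exact hη.pow_inj (Nat.mod_lt _ hr.pos) (Nat.mod_lt _ hr.pos) h'
    push_cast at hm
    have hc : ∀ k : ℕ, (2 : ZMod r) * (k.choose 2 : ZMod r) = (k : ZMod r) * ((k : ZMod r) - 1) := by
      intro k
      induction k with
      | zero => simp
      | succ k ih =>
        rw [Nat.choose_succ_succ, Nat.choose_one_right]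
        push_cast
        linear_combination ih
    have hij : (i : ZMod r) - j ≠ 0 := by
      intro h0
      rw [sub_eq_zero, ZMod.natCast_eq_natCast_iff', Nat.mod_eq_of_lt hi, Nat.mod_eq_of_lt hj] at h0
      exact hne h0
    refine (mul_eq_zero.mp (?_ : ((i : ZMod r) - j) * ((i : ZMod r) + j - 1 + 2 * e) = 0)).resolve_left hij
    linear_combination 2 * hm - hc i + hc j
  by_contra h3
  push Not at h3
  obtain ⟨x, hx, y, hy, w, hw, hxy, hxw, hyw⟩ := Finset.two_lt_card.mp h3
  obtain ⟨hx1, hx2⟩ := Finset.mem_filter.mp hx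
  obtain ⟨hy1, hy2⟩ := Finset.mem_filter.mp hy
  obtain ⟨hw1, hw2⟩ := Finset.mem_filter.mp hw
  have e1 := key x y (Finset.mem_range.mp hx1) (Finset.mem_range.mp hy1) (hx2.trans hy2.symm) hxy
  have e2 := key x w (Finset.mem_range.mp hx1) (Finset.mem_range.mp hw1) (hx2.trans hw2.symm) hxw
  have h4 : (y : ZMod r) = w := by linear_combination e1 - e2
  rw [ZMod.natCast_eq_natCast_iff', Nat.mod_eq_of_lt (Finset.mem_range.mp hy1),
    Nat.mod_eq_of_lt (Finset.mem_range.mp hw1)] at h4
  exact hyw h4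

/-- The two bounds for an element of order `r`. -/
def Bd (r w n : ℕ) : Prop := 3 * w ≤ 2 * n ∧ (5 ≤ r → 2 * w ≤ n)

theorem bd_of_mul_le {w n : ℕ} (h3 : 3 ≤ r) (h : r * w ≤ n) : Bd r w n := by
  have h1 : 3 * w ≤ r * w := Nat.mul_le_mul_right _ h3
  exact ⟨by omega, fun _ => by omega⟩

/-- Elements of order `r` normalizing a group of the standing type, `r` odd. -/
theorem order_r_bound {F : Type*} [Field F] {r : ℕ} (hr : r.Prime) (hodd : Odd r) :
    ∀ (n : ℕ) {V : Type*} [AddCommGroup V] [Module F V] [FiniteDimensional F V]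
      (N : Subgroup (End F V)ˣ) (g : (End F V)ˣ), Module.finrank F V = n → Good r N → Expo r N →
      Norm N g → g ^ r = 1 → ¬ Sc g → ∀ c : F, Bd r (finrank F (eig g c)) n := by
  intro n
  induction n using Nat.strong_induction_on with
  | _ n IH =>
    intro V _ _ _ N g hn hN hE hg hgr hgns c
    classical
    subst hn
    have hr3 : 3 ≤ r := by
      rcases hr.eq_two_or_odd' with h | h
      · subst h; exact absurd hodd (by decide)
      · have := hr.two_le; obtain ⟨m, hm⟩ := h; omega
    haveI : Nontrivial V := by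
      rcases subsingleton_or_nontrivial V with h | h
      · exact absurd ⟨1, LinearMap.ext fun v => Subsingleton.elim _ _⟩ hgns
      · exact h
    by_cases hA : ∃ u ∈ N, Sc ⁅g, u⁆ ∧ ⁅g, u⁆ ≠ 1
    · obtain ⟨u, hu, h1, h2⟩ := hA
      exact bd_of_mul_le hr3 (hN.fixed_bound hr hr hu hgr h1 h2 c).2
    push Not at hA
    -- an element fixed modulo scalars
    obtain ⟨x, hx, hxD⟩ : ∃ x ∈ N, ¬ Sc ⁅g, x⁆ := by
      by_contra hh
      push Not at hh
      refine hgns (hN.cent g fun u hu => ?_)
      rw [← Units.val_mul, ← Units.val_mul,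
        commutatorElement_eq_one_iff_mul_comm.mp (hA u hu (hh u hu))]
    let D : ℕ → (End F V)ˣ := fun k => (fun u => ⁅g, u⁆)^[k] x
    have hDN : ∀ k, D k ∈ N := by
      intro k
      induction k with
      | zero => exact hx
      | succ k ih =>
        show (fun u => ⁅g, u⁆)^[k + 1] x ∈ N
        rw [Function.iterate_succ_apply']
        exact hg.dee ih
    have horb : ∀ k j, orb hN hg (hDN k) j = diff^[k] (orb hN hg hx) j := by
      intro k
      induction k with
      | zero => intro j; rfl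
      | succ k ih =>
        intro j
        rw [Function.iterate_succ_apply']
        have e : D (k + 1) = ⁅g, D k⁆ := Function.iterate_succ_apply' _ _ _
        calc orb hN hg (hDN (k + 1)) j = orb hN hg (hg.dee (hDN k)) j :=
              orb_eq_iff.mpr fun v _ => by rw [e]
          _ = diff (orb hN hg (hDN k)) j := orb_dee _ j
          _ = _ := by
              show orb hN hg (hDN k) (j + 1) - orb hN hg (hDN k) j = _
              rw [ih, ih]
              rfl
    have hDr : Sc (D r) := by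
      refine sc_of_orb_eq_zero (hN := hN) (hg := hg) (hDN r) ?_
      rw [horb]
      exact diff_pow_prime hr hodd _ (orb_periodic hx hgr) (orb_torsion hx) 0
    have hex : ∃ k, Sc (D (k + 1)) := ⟨r - 1, by rw [Nat.sub_add_cancel hr.one_le]; exact hDr⟩
    set k := Nat.find hex with hk
    have hk1 : Sc ⁅g, D k⁆ := by
      have h := Nat.find_spec hex
      rwa [show D (k + 1) = ⁅g, D k⁆ from Function.iterate_succ_apply' _ _ _] at h
    have hk0 : ¬ Sc (D k) := by
      rcases Nat.eq_zero_or_pos k with h0 | h0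
      · rw [h0]
        intro hs
        apply hxD
        rw [comm_eq_one' (u := x) hs g]
        exact Sc.one
      · obtain ⟨k', hk'⟩ : ∃ k', k = k' + 1 := ⟨k - 1, by omega⟩
        rw [hk']
        exact Nat.find_min hex (by omega)
    obtain ⟨s, hs, hsN, hsr⟩ := hE _ (hDN k)
    obtain ⟨z, hzdef⟩ : ∃ z, z = s * D k := ⟨_, rfl⟩
    have hzN : z ∈ N := hzdef ▸ mul_mem hsN (hDN k)
    have hgz : g * z = z * g := by
      have h1 : g * D k = D k * g := commutatorElement_eq_one_iff_mul_comm.mp (hA _ (hDN k) hk1)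
      rw [hzdef, ← mul_assoc, hs.central g, mul_assoc, h1, ← mul_assoc]
    have hzns : ¬ Sc z := by
      intro hzs
      apply hk0
      have hsi : Sc s⁻¹ := by
        obtain ⟨a, ha⟩ := hs
        have ha0 : a ≠ 0 := by
          intro h
          obtain ⟨v, hv⟩ := exists_ne (0 : V)
          apply hv
          apply unit_injective s
          rw [ha, h]; simp
        refine ⟨a⁻¹, ?_⟩
        have h1 : ((s⁻¹ : (End F V)ˣ) : End F V) * (s : End F V) = 1 := Units.inv_mul s
        rw [ha, mul_smul_comm, mul_one] at h1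
        rw [← h1, smul_smul, inv_mul_cancel₀ ha0, one_smul]
      rw [show D k = s⁻¹ * z by rw [hzdef, inv_mul_cancel_left]]
      exact hsi.mul hzs
    obtain ⟨t, htN, htz⟩ : ∃ t ∈ N, ⁅z, t⁆ ≠ 1 := by
      by_contra hh
      push Not at hh
      exact hzns (hN.sc_of_central hh)
    have htz' : ⁅t, z⁆ ≠ 1 := fun h => htz (by rw [← commutatorElement_inv, h, inv_one])
    obtain ⟨ζ, hζ, hζr, hζ1⟩ := exists_scalar (hN.comm z hzN t htN).1 (hN.comm z hzN t htN).2
    have hprim : IsPrimitiveRoot ζ r := by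
      rw [IsPrimitiveRoot.iff_orderOf]
      exact haveI := Fact.mk hr; orderOf_eq_prime hζr fun h => htz (hζ1 h)
    have hrF : (r : F) ≠ 0 := cast_prime_ne_zero hr hprim
    have hzr : z ^ r = 1 := hzdef ▸ hsr
    set m := finrank F (eig z (1 : F)) with hm
    -- the powers of `t` permute the eigenspaces of `z`
    have hzt : ∀ j : ℕ, (z : End F V) * ((t ^ j : (End F V)ˣ) : End F V) =
        ζ ^ j • (((t ^ j : (End F V)ˣ) : End F V) * z) := by
      intro j
      induction j with
      | zero => simp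
      | succ j ih =>
        rw [pow_succ t, Units.val_mul, ← mul_assoc, ih, smul_mul_assoc, mul_assoc, hζ, mul_smul_comm,
          smul_smul, ← pow_succ, mul_assoc]
    have hup : ∀ (j : ℕ) (v : V), v ∈ eig z (1 : F) →
        ((t ^ j : (End F V)ˣ) : End F V) v ∈ eig z (ζ ^ j) := by
      intro j v hv
      rw [mem_eig] at hv ⊢
      rw [← End.mul_apply, hzt, LinearMap.smul_apply, End.mul_apply, hv, one_smul]
    have hdown : ∀ (j : ℕ) (v : V), v ∈ eig z (ζ ^ j) →
        (((t ^ j)⁻¹ : (End F V)ˣ) : End F V) v ∈ eig z (1 : F) := by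
      intro j v hv
      rw [mem_eig, one_smul]
      rw [mem_eig] at hv
      set w := (((t ^ j)⁻¹ : (End F V)ˣ) : End F V) v with hw
      have hw' : ((t ^ j : (End F V)ˣ) : End F V) w = v := by
        rw [hw, ← unit_mul_apply, mul_inv_cancel]; simp
      have h2 := LinearMap.congr_fun (hzt j) w
      rw [End.mul_apply, hw', hv, LinearMap.smul_apply, End.mul_apply, ← hw'] at h2
      exact (unit_injective (t ^ j)
        (smul_right_injective V (pow_ne_zero j (hprim.ne_zero hr.ne_zero)) h2)).symm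
    have hrm : r * m ≤ finrank F V := shift_bound hr hζ hζr (fun h => htz (hζ1 h)) 1
    -- the conjugates of `g`
    let K := Subgroup.centralizer ({z} : Set (End F V)ˣ)
    have hxK : ∀ j : ℕ, (t ^ j)⁻¹ * g * t ^ j ∈ K := by
      intro j
      rw [Subgroup.mem_centralizer_singleton_iff]
      have hcg := (hN.comm z hzN _ (pow_mem htN j)).1
      have e : z * t ^ j = ⁅z, t ^ j⁆ * (t ^ j * z) := by simp only [commutatorElement_def]; group
      have e2 : t ^ j * z * (t ^ j)⁻¹ = ⁅z, t ^ j⁆⁻¹ * z := by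
        simp only [commutatorElement_def]; group
      have e3 : g * (t ^ j * z * (t ^ j)⁻¹) = (t ^ j * z * (t ^ j)⁻¹) * g := by
        rw [e2, ← mul_assoc, (Commute.inv_right (hcg.central g)).eq, mul_assoc, hgz, mul_assoc]
      calc (t ^ j)⁻¹ * g * t ^ j * z = (t ^ j)⁻¹ * (g * (t ^ j * z * (t ^ j)⁻¹)) * t ^ j := by group
        _ = _ := by rw [e3]; group
    let X : ℕ → (End F ↥(eig z (1 : F)))ˣ := fun j => resHom z ⟨_, hxK j⟩
    have hXn : ∀ j : ℕ, Norm N ((t ^ j)⁻¹ * g * t ^ j) := by
      intro j u hu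
      have h1 : t ^ j * u * (t ^ j)⁻¹ ∈ N :=
        mul_mem (mul_mem (pow_mem htN j) hu) (inv_mem (pow_mem htN j))
      have h2 := mul_mem (mul_mem (inv_mem (pow_mem htN j)) (hg _ h1)) (pow_mem htN j)
      simpa [mul_assoc] using h2
    have hXr : ∀ j : ℕ, ((t ^ j)⁻¹ * g * t ^ j) ^ r = 1 := by
      intro j
      have e : (t ^ j)⁻¹ * g * t ^ j = (t ^ j)⁻¹ * g * ((t ^ j)⁻¹)⁻¹ := by rw [inv_inv]
      rw [e, conj_pow, hgr, mul_one, mul_inv_cancel]
    have hsum : finrank F (eig g c) ≤ ∑ j ∈ Finset.range r, finrank F (eig (X j) c) := by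
      let Wj : ℕ → Submodule F V := fun j => eig g c ⊓ eig z (ζ ^ j)
      have hle : eig g c ≤ (Finset.range r).sup Wj := by
        intro v hv
        rw [sum_proj hrF hprim hr v (z := z)]
        refine Submodule.sum_mem _ fun j hj => Finset.le_sup (f := Wj) hj ⟨?_, ?_⟩
        · show proj r z (ζ ^ j) v ∈ eig g c
          rw [mem_eig, ← proj_comm hgz, mem_eig.mp hv, map_smul]
        · exact proj_mem hr.pos hzr (by rw [← pow_mul, mul_comm, pow_mul, hζr, one_pow]) v
      refine (Submodule.finrank_mono hle).trans ?_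
      refine (?_ : finrank F ↥((Finset.range r).sup Wj) ≤ ∑ j ∈ Finset.range r, finrank F (Wj j)).trans ?_
      · generalize Finset.range r = S
        induction S using Finset.induction_on with
        | empty => simp
        | @insert a S ha ih =>
          rw [Finset.sup_insert, Finset.sum_insert ha]
          exact (Submodule.finrank_add_le_finrank_add_finrank _ _).trans (Nat.add_le_add_left ih _)
      · refine Finset.sum_le_sum fun j _ => ?_
        let emap : ↥(Wj j) →ₗ[F] ↥(eig (X j) c) :=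
          LinearMap.codRestrict _
            (LinearMap.codRestrict (eig z (1 : F))
              ((((t ^ j)⁻¹ : (End F V)ˣ) : End F V) ∘ₗ (Wj j).subtype) fun v => hdown j _ v.2.2)
            fun v => by
              rw [mem_eig]
              apply Subtype.ext
              show (((t ^ j)⁻¹ * g * t ^ j : (End F V)ˣ) : End F V)
                ((((t ^ j)⁻¹ : (End F V)ˣ) : End F V) v) = c • (((t ^ j)⁻¹ : (End F V)ˣ) : End F V) v
              rw [← unit_mul_apply, mul_inv_cancel_right, unit_mul_apply, mem_eig.mp v.2.1, map_smul]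
        exact LinearMap.finrank_le_finrank_of_injective (f := emap) fun a b hab =>
          Subtype.ext (unit_injective _ (congrArg Subtype.val (congrArg Subtype.val hab)))
    by_cases hblock : ∃ j, j < r ∧ Sc (X j)
    swap
    · push Not at hblock
      have hgood := Good.block hN hr hrF hzN htN hzr htz'
      have hm0 : m < finrank F V := by
        have h1 : 0 < finrank F V := finrank_pos
        have h2 : 3 * m ≤ r * m := Nat.mul_le_mul_right _ hr3
        omega
      have hIH : ∀ j ∈ Finset.range r, Bd r (finrank F (eig (X j) c)) m := by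
        intro j hj
        refine IH m hm0 (S5877.block N z) (X j) rfl hgood hE.block (Norm.block (hXn j) (hxK j)) ?_
          (hblock j (Finset.mem_range.mp hj)) c
        show resHom z ⟨_, hxK j⟩ ^ r = 1
        rw [← map_pow, show (⟨_, hxK j⟩ : ↥K) ^ r = 1 from Subtype.ext (hXr j), map_one]
      refine ⟨?_, fun h5 => ?_⟩
      · have h1 := Finset.sum_le_sum fun j hj => (hIH j hj).1
        rw [← Finset.mul_sum, Finset.sum_const, Finset.card_range, smul_eq_mul, mul_left_comm] at h1
        omega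
      · have h1 := Finset.sum_le_sum fun j hj => (hIH j hj).2 h5
        rw [← Finset.mul_sum, Finset.sum_const, Finset.card_range, smul_eq_mul] at h1
        omega
    -- some conjugate acts on the fixed space as a scalar
    obtain ⟨j₀, -, hj₀⟩ := hblock
    set g' := (t ^ j₀)⁻¹ * g * t ^ j₀ with hg'
    have hg'z : g' * z = z * g' := Subgroup.mem_centralizer_singleton_iff.mp (hxK j₀)
    have heq : finrank F (eig g c) ≤ finrank F (eig g' c) := by
      let emap : ↥(eig g c) →ₗ[F] ↥(eig g' c) :=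
        LinearMap.codRestrict _ ((((t ^ j₀)⁻¹ : (End F V)ˣ) : End F V) ∘ₗ (eig g c).subtype) fun v => by
          rw [mem_eig]
          show (g' : End F V) ((((t ^ j₀)⁻¹ : (End F V)ˣ) : End F V) v) =
            c • (((t ^ j₀)⁻¹ : (End F V)ˣ) : End F V) v
          rw [← unit_mul_apply, hg', mul_inv_cancel_right, unit_mul_apply, mem_eig.mp v.2, map_smul]
      exact LinearMap.finrank_le_finrank_of_injective (f := emap) fun a b hab =>
        Subtype.ext (unit_injective _ (congrArg Subtype.val hab))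
    obtain ⟨a, ha⟩ := hj₀
    have hga : ∀ v ∈ eig z (1 : F), (g' : End F V) v = a • v := by
      intro v hv
      have h := congrArg Subtype.val (LinearMap.congr_fun ha ⟨v, hv⟩)
      exact h
    set h := t⁻¹ * (g' * t * g'⁻¹) with hh
    have hhN : h ∈ N := mul_mem (inv_mem htN) (hXn j₀ t htN)
    have hthh : g' * t * g'⁻¹ = t * h := by rw [hh, mul_inv_cancel_left]
    set κ := ⁅h, t⁆ with hκdef
    have hκc := (hN.comm h hhN t htN).1
    have hconj : ∀ j : ℕ, (t ^ j)⁻¹ * g' * t ^ j = h ^ j * κ ^ j.choose 2 * g' := by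
      intro j
      have e : g' * t ^ j * g'⁻¹ = t ^ j * h ^ j * κ ^ j.choose 2 := by
        rw [← conj_pow, hthh, twist_pow hN hhN htN]
      calc (t ^ j)⁻¹ * g' * t ^ j = (t ^ j)⁻¹ * (g' * t ^ j * g'⁻¹) * g' := by group
        _ = _ := by rw [e]; group
    have hκr : κ ^ r = 1 := (hN.comm h hhN t htN).2
    have hhr : h ^ r = 1 := by
      have htr : Sc (t ^ r) := hN.sc_of_central fun v hv => by
        rw [hN.pow_left htN hv, (hN.comm t htN v hv).2]
      have e := hconj r
      rw [mul_assoc, htr.central g', inv_mul_cancel_left] at e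
      have hc2 : κ ^ r.choose 2 = 1 := by
        obtain ⟨q, hq⟩ := hodd
        rw [Nat.choose_two_right, show r * (r - 1) / 2 = r * q by
          rw [hq, Nat.add_sub_cancel, ← mul_assoc, mul_comm (2 * q + 1) 2, mul_assoc,
            Nat.mul_div_cancel_left _ two_pos], pow_mul, hκr, one_pow]
      rw [hc2, mul_one] at e
      exact mul_eq_right.mp e.symm
    have hhz : h * z = z * h := by
      have e1 : ⁅g' * t * g'⁻¹, z⁆ = ⁅t, z⁆ := by
        have h1 := hN.comm_conj (g := g') htN hzN
        rwa [show g' * z * g'⁻¹ = z by rw [hg'z, mul_inv_cancel_right]] at h1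
      rw [← commutatorElement_eq_one_iff_mul_comm, hh, hN.mul_left (inv_mem htN) (hXn j₀ t htN) hzN,
        e1, ← hN.mul_left (inv_mem htN) htN hzN, inv_mul_cancel, commutatorElement_one_left]
    let hK : ↥K := ⟨h, Subgroup.mem_centralizer_singleton_iff.mpr hhz⟩
    obtain ⟨η, hη⟩ := hκc
    have hκapp : ∀ (i : ℕ) (v : V), ((κ ^ i : (End F V)ˣ) : End F V) v = η ^ i • v := by
      intro i v
      rw [Units.val_pow_eq_pow_val, hη, smul_pow, one_pow, LinearMap.smul_apply, End.one_apply]
    -- the value of the conjugates on a vector of a shifted eigenspace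
    have hshift : ∀ (j : ℕ) (v : V), v ∈ eig z (1 : F) →
        (g' : End F V) (((t ^ j : (End F V)ˣ) : End F V) v) =
          ((t ^ j : (End F V)ˣ) : End F V) ((η ^ j.choose 2 * a) • ((h ^ j : (End F V)ˣ) : End F V) v) := by
      intro j v hv
      have e : g' * t ^ j = t ^ j * (h ^ j * κ ^ j.choose 2 * g') := by
        rw [← hconj j]; group
      rw [← unit_mul_apply, e, unit_mul_apply, unit_mul_apply, hga v hv, map_smul,
        unit_mul_apply, hκapp]
      simp only [map_smul, smul_smul, mul_comm]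
    let f : ℕ → ℕ := fun j => finrank F ↥(eig g' c ⊓ eig z (ζ ^ j))
    have hsum' : finrank F (eig g' c) ≤ ∑ j ∈ Finset.range r, f j := by
      have hle : eig g' c ≤ (Finset.range r).sup fun j => eig g' c ⊓ eig z (ζ ^ j) := by
        intro v hv
        rw [sum_proj hrF hprim hr v (z := z)]
        refine Submodule.sum_mem _ fun j hj =>
          Finset.le_sup (f := fun j => eig g' c ⊓ eig z (ζ ^ j)) hj ⟨?_, ?_⟩
        · show proj r z (ζ ^ j) v ∈ eig g' c
          rw [mem_eig, ← proj_comm hg'z, mem_eig.mp hv, map_smul]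
        · exact proj_mem hr.pos hzr (by rw [← pow_mul, mul_comm, pow_mul, hζr, one_pow]) v
      refine (Submodule.finrank_mono hle).trans ?_
      show finrank F ↥((Finset.range r).sup fun j => eig g' c ⊓ eig z (ζ ^ j)) ≤ _
      generalize Finset.range r = S
      induction S using Finset.induction_on with
      | empty => simp
      | @insert b S hb ih =>
        rw [Finset.sup_insert, Finset.sum_insert hb]
        exact (Submodule.finrank_add_le_finrank_add_finrank _ _).trans (Nat.add_le_add_left ih _)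
    have hfm : ∀ j, f j ≤ m := by
      intro j
      let emap : ↥(eig g' c ⊓ eig z (ζ ^ j)) →ₗ[F] ↥(eig z (1 : F)) :=
        LinearMap.codRestrict _
          ((((t ^ j)⁻¹ : (End F V)ˣ) : End F V) ∘ₗ (eig g' c ⊓ eig z (ζ ^ j)).subtype)
          fun v => hdown j _ v.2.2
      exact LinearMap.finrank_le_finrank_of_injective (f := emap) fun a b hab =>
        Subtype.ext (unit_injective _ (congrArg Subtype.val hab))
    refine (fun (hb : Bd r (∑ j ∈ Finset.range r, f j) (finrank F V)) =>
      ⟨by have := hb.1; omega, fun h5 => by have := hb.2 h5; omega⟩) ?_ |> fun hb => hb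
    by_cases hhs : Sc (resHom z hK)
    · -- the twisting element is a scalar on the fixed space
      obtain ⟨b, hb⟩ := hhs
      have hhb : ∀ (j : ℕ) (v : V), v ∈ eig z (1 : F) →
          ((h ^ j : (End F V)ˣ) : End F V) v = b ^ j • v := by
        intro j
        induction j with
        | zero => intro v _; simp
        | succ j ih =>
          intro v hv
          rw [pow_succ, unit_mul_apply,
            show (h : End F V) v = b • v from congrArg Subtype.val (LinearMap.congr_fun hb ⟨v, hv⟩),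
            map_smul, ih v hv, smul_smul, ← pow_succ']
      by_cases hη1 : η = 1
      · exfalso
        have hκ1 : κ = 1 := Units.ext (by rw [hη, hη1, one_smul, Units.val_one])
        have hht : h * t = t * h := commutatorElement_eq_one_iff_mul_comm.mp hκ1
        have hhall : Sc h := by
          refine ⟨b, LinearMap.ext fun v => ?_⟩
          rw [sum_proj hrF hprim hr v (z := z), map_sum, map_sum]
          refine Finset.sum_congr rfl fun j _ => ?_
          have hv := proj_mem (z := z) hr.pos hzr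
            (show (ζ ^ j) ^ r = 1 by rw [← pow_mul, mul_comm, pow_mul, hζr, one_pow]) v
          set w := proj r z (ζ ^ j) v
          have hw : w = ((t ^ j : (End F V)ˣ) : End F V) ((((t ^ j)⁻¹ : (End F V)ˣ) : End F V) w) := by
            rw [← unit_mul_apply, mul_inv_cancel]; simp
          have h1 := hhb 1 _ (hdown j w hv)
          rw [pow_one, pow_one] at h1
          conv_lhs => rw [hw, ← unit_mul_apply, (Commute.pow_right hht j).eq, unit_mul_apply, h1,
            map_smul, ← hw]
          simp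
        have hsc : Sc ⁅g', t⁆ := by
          rw [show ⁅g', t⁆ = h by
            rw [commutatorElement_def, hthh, ← hht, mul_inv_cancel_right]]
          exact hhall
        by_cases hgt : ⁅g', t⁆ = 1
        · apply hgns
          have hgt' : g' * t = t * g' := commutatorElement_eq_one_iff_mul_comm.mp hgt
          have hg's : Sc g' := by
            refine ⟨a, LinearMap.ext fun v => ?_⟩
            rw [sum_proj hrF hprim hr v (z := z), map_sum, map_sum]
            refine Finset.sum_congr rfl fun j _ => ?_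
            have hv := proj_mem (z := z) hr.pos hzr
              (show (ζ ^ j) ^ r = 1 by rw [← pow_mul, mul_comm, pow_mul, hζr, one_pow]) v
            set w := proj r z (ζ ^ j) v
            have hw : w = ((t ^ j : (End F V)ˣ) : End F V) ((((t ^ j)⁻¹ : (End F V)ˣ) : End F V) w) := by
              rw [← unit_mul_apply, mul_inv_cancel]; simp
            conv_lhs => rw [hw, ← unit_mul_apply, (Commute.pow_right hgt' j).eq, unit_mul_apply,
              hga _ (hdown j w hv), map_smul, ← hw]
            simp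
          have e : g = t ^ j₀ * g' * (t ^ j₀)⁻¹ := by rw [hg']; group
          rw [e, hg's.central (t ^ j₀), mul_inv_cancel_right]
          exact hg's
        · have hb' := (hN.fixed_bound hr hr htN (hXr j₀) hsc hgt c).2
          -- already excluded, as `g` would multiply `t` by a scalar
          have hne : ⁅g, t ^ j₀ * t * (t ^ j₀)⁻¹⁆ ≠ 1 := by
            intro h1
            apply hgt
            have e : ⁅g', t⁆ = (t ^ j₀)⁻¹ * ⁅g, t ^ j₀ * t * (t ^ j₀)⁻¹⁆ * t ^ j₀ := by
              simp only [hg', commutatorElement_def]; group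
            rw [e, h1, mul_one, inv_mul_cancel]
          refine hne (hA _ (mul_mem (mul_mem (pow_mem htN j₀) htN) (inv_mem (pow_mem htN j₀))) ?_)
          have e : ⁅g, t ^ j₀ * t * (t ^ j₀)⁻¹⁆ = t ^ j₀ * ⁅g', t⁆ * (t ^ j₀)⁻¹ := by
            simp only [hg', commutatorElement_def]; group
          rw [e, hsc.central (t ^ j₀), mul_inv_cancel_right]
          exact hsc
      rcases Nat.eq_zero_or_pos m with hm0 | hm0
      · have : ∑ j ∈ Finset.range r, f j = 0 :=
          Finset.sum_eq_zero fun j _ => by have := hfm j; omega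
        rw [this]; exact ⟨by omega, fun _ => by omega⟩
      have hb1 : b ^ r = 1 := by
        haveI : Nontrivial ↥(eig z (1 : F)) := Module.finrank_pos_iff.mp hm0
        obtain ⟨v, hv⟩ := exists_ne (0 : ↥(eig z (1 : F)))
        have h1 := hhb r v v.2
        rw [hhr, Units.val_one, End.one_apply] at h1
        exact smul_left_injective F (fun h => hv (Subtype.ext h)) (h1.symm.trans (one_smul F (v : V)).symm)
      have hη' : IsPrimitiveRoot η r := by
        rw [IsPrimitiveRoot.iff_orderOf]
        refine haveI := Fact.mk hr; orderOf_eq_prime ?_ hη1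
        obtain ⟨v, hv⟩ := exists_ne (0 : V)
        have h1 := hκapp r v
        rw [hκr, Units.val_one, End.one_apply] at h1
        exact smul_left_injective F hv (h1.symm.trans (one_smul F v).symm)
      have hzero : ∀ j, η ^ j.choose 2 * b ^ j ≠ c / a → f j = 0 := by
        intro j hj
        rw [Submodule.finrank_eq_zero]
        rw [eq_bot_iff]
        rintro v ⟨hv1, hv2⟩
        rw [Submodule.mem_bot]
        by_contra hv0
        set w := (((t ^ j)⁻¹ : (End F V)ˣ) : End F V) v with hw
        have hwv : ((t ^ j : (End F V)ˣ) : End F V) w = v := by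
          rw [hw, ← unit_mul_apply, mul_inv_cancel]; simp
        have h1 := hshift j w (hdown j v hv2)
        rw [hwv, hhb j w (hdown j v hv2), smul_smul, map_smul, hwv, mem_eig.mp hv1] at h1
        have h2 := smul_left_injective F hv0 h1
        have ha0 : a ≠ 0 := by
          intro h0
          have := hga w (hdown j v hv2)
          rw [h0, zero_smul, ← map_zero (g' : End F V)] at this
          exact hv0 (by rw [← hwv, unit_injective g' this, map_zero])
        apply hj
        rw [eq_div_iff ha0, h2]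
        ring
      have h1 : ∑ j ∈ Finset.range r, f j ≤ 2 * m := by
        rw [← Finset.sum_filter_add_sum_filter_not (Finset.range r)
          (fun j => η ^ j.choose 2 * b ^ j = c / a), Finset.sum_eq_zero (s := (Finset.range r).filter _)
          (fun j hj => hzero j (Finset.mem_filter.mp hj).2), add_zero]
        refine (Finset.sum_le_card_nsmul _ _ m fun j _ => hfm j).trans ?_
        rw [smul_eq_mul]
        exact Nat.mul_le_mul_right _ (quad_card hr hodd hη' hb1)
      have h3 : 3 * m ≤ r * m := Nat.mul_le_mul_right _ hr3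
      refine ⟨by omega, fun h5 => ?_⟩
      have h5' : 5 * m ≤ r * m := Nat.mul_le_mul_right _ h5
      omega
    · -- the twisting element is not a scalar on the fixed space
      rcases Nat.eq_zero_or_pos m with hm0 | hm0
      · have : ∑ j ∈ Finset.range r, f j = 0 :=
          Finset.sum_eq_zero fun j _ => by have := hfm j; omega
        rw [this]; exact ⟨by omega, fun _ => by omega⟩
      haveI : Nontrivial ↥(eig z (1 : F)) := Module.finrank_pos_iff.mp hm0
      have hgood := Good.block hN hr hrF hzN htN hzr htz'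
      have hsmall : ∀ j ∈ (Finset.range r).erase 0, r * f j ≤ m := by
        intro j hj
        obtain ⟨hj0, hjr⟩ := Finset.mem_erase.mp hj
        rw [Finset.mem_range] at hjr
        have hns : ¬ Sc (resHom z (hK ^ j)) := by
          intro hs'
          apply hhs
          have hcop : j.Coprime (orderOf hK) := by
            refine Nat.Coprime.of_dvd_right ?_ (Nat.Coprime.symm (hr.coprime_iff_not_dvd.mpr fun hd =>
              hj0 (Nat.eq_zero_of_dvd_of_lt hd hjr)))
            exact orderOf_dvd_of_pow_eq_one (Subtype.ext hhr)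
          obtain ⟨i, hi⟩ := exists_pow_eq_self_of_coprime hcop
          rw [← hi, map_pow]
          obtain ⟨α, hα⟩ := hs'
          exact ⟨α ^ i, by rw [Units.val_pow_eq_pow_val, hα, smul_pow, one_pow]⟩
        have h1 := hgood.eig_le hr (y := resHom z (hK ^ j))
          ⟨hK ^ j, by show ((hK ^ j : ↥K) : (End F V)ˣ) ∈ N; exact pow_mem hhN j, rfl⟩ hns
          (c / (η ^ j.choose 2 * a))
        refine le_trans (Nat.mul_le_mul_left _ ?_) h1
        let emap : ↥(eig g' c ⊓ eig z (ζ ^ j)) →ₗ[F]
            ↥(eig (resHom z (hK ^ j)) (c / (η ^ j.choose 2 * a))) :=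
          LinearMap.codRestrict _
            (LinearMap.codRestrict (eig z (1 : F))
              ((((t ^ j)⁻¹ : (End F V)ˣ) : End F V) ∘ₗ (eig g' c ⊓ eig z (ζ ^ j)).subtype)
              fun v => hdown j _ v.2.2)
            fun v => by
              rw [mem_eig]
              apply Subtype.ext
              set w := (((t ^ j)⁻¹ : (End F V)ˣ) : End F V) (v : V) with hw
              show ((h ^ j : (End F V)ˣ) : End F V) w = (c / (η ^ j.choose 2 * a)) • w
              have hwv : ((t ^ j : (End F V)ˣ) : End F V) w = v := by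
                rw [hw, ← unit_mul_apply, mul_inv_cancel]; simp
              rcases eq_or_ne w 0 with hw0 | hw0
              · rw [hw0]; simp
              have h2 := hshift j w (hdown j v v.2.2)
              rw [hwv, mem_eig.mp v.2.1, ← hwv, ← map_smul] at h2
              have h3 := unit_injective _ h2
              have ha0 : η ^ j.choose 2 * a ≠ 0 := by
                intro h0
                rw [h0, zero_smul, map_zero] at h2
                have h4 : c = 0 ∨ w = 0 := by
                  have := unit_injective (t ^ j) (h2.trans (map_zero _).symm)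
                  exact smul_eq_zero.mp this
                rcases h4 with h4 | h4
                · have h5 := mem_eig.mp v.2.1
                  have h6 := (h5.trans (smul_eq_zero.mpr (Or.inl h4))).trans (map_zero (g' : End F V)).symm
                  exact hw0 (by rw [hw, unit_injective g' h6, map_zero])
                · exact hw0 h4
              rw [div_eq_inv_mul, mul_smul, h3, inv_smul_smul₀ ha0]
        exact LinearMap.finrank_le_finrank_of_injective (f := emap) fun a b hab =>
          Subtype.ext (unit_injective _ (congrArg Subtype.val (congrArg Subtype.val hab)))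
      have h1 : r * ∑ j ∈ Finset.range r, f j ≤ r * m + (r - 1) * m := by
        rw [← Finset.add_sum_erase _ _ (Finset.mem_range.mpr hr.pos), mul_add, Finset.mul_sum]
        refine Nat.add_le_add (Nat.mul_le_mul_left _ (hfm 0)) ?_
        refine (Finset.sum_le_card_nsmul _ _ m hsmall).trans ?_
        rw [smul_eq_mul, Finset.card_erase_of_mem (Finset.mem_range.mpr hr.pos), Finset.card_range]
      have h2 : (r - 1) * m ≤ r * m := Nat.mul_le_mul_right _ (Nat.sub_le _ _)
      have h3 : ∑ j ∈ Finset.range r, f j ≤ 2 * m := by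
        refine Nat.le_of_mul_le_mul_left ?_ hr.pos
        calc r * ∑ j ∈ Finset.range r, f j ≤ r * m + (r - 1) * m := h1
          _ ≤ r * (2 * m) := by rw [mul_left_comm]; omega
      have h4 : 3 * m ≤ r * m := Nat.mul_le_mul_right _ hr3
      refine ⟨by omega, fun h5 => ?_⟩
      have h5' : 5 * m ≤ r * m := Nat.mul_le_mul_right _ h5
      omega

/-- Eigenspaces of elements normalising an absolutely irreducible extraspecial group. Let F be a finite field, r a prime, and R ≤ GL_n(F) an absolutely irreducible extraspecial r-group (an r-group whose centre equals its derived subgroup and has order r) of exponent r or 4. Let g ∈ GL_n(F) normalise the product of R with the scalar matrices, have prime order ϖ and not be scalar, and let W be the eigenspace of g for any c ∈ F (W may be the zero subspace). Then dim W ≤ 3n/4 if ϖ = 2, dim W ≤ 2n/3 if ϖ = 3, and dim W ≤ n/2 if ϖ > 3; moreover if ϖ = 3 and 3 does not divide n then dim W ≤ n/2. -/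
theorem result {F : Type*} [Field F] [Fintype F] {n r ϖ : ℕ} (R : Subgroup (Matrix.GeneralLinearGroup (Fin n) F)) (hr : r.Prime) (hR : IsPGroup r R) (hZ : Nat.card (Subgroup.center R) = r) (hext : commutator R = Subgroup.center R) (hexp : Monoid.exponent R = r ∨ Monoid.exponent R = 4) (hirr : Cfsg.Geo.ActsAbsolutelyIrreducibly (Cfsg.Geo.matrixSet R)) (g : Matrix.GeneralLinearGroup (Fin n) F) (hg : g ∈ Cfsg.Geo.subgroupNormalizer (R ⊔ Cfsg.Geo.scalars (Fin n) F)) (hϖ : ϖ.Prime) (hord : orderOf g = ϖ) (hns : g ∉ Cfsg.Geo.scalars (Fin n) F) (c : F) :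
    (ϖ = 2 → 4 * Module.finrank F (Module.End.eigenspace (Matrix.toLin' (g : Matrix (Fin n) (Fin n) F)) c) ≤ 3 * n) ∧
    (ϖ = 3 → 3 * Module.finrank F (Module.End.eigenspace (Matrix.toLin' (g : Matrix (Fin n) (Fin n) F)) c) ≤ 2 * n) ∧
    (3 < ϖ → 2 * Module.finrank F (Module.End.eigenspace (Matrix.toLin' (g : Matrix (Fin n) (Fin n) F)) c) ≤ n) ∧
    (ϖ = 3 → ¬ 3 ∣ n → 2 * Module.finrank F (Module.End.eigenspace (Matrix.toLin' (g : Matrix (Fin n) (Fin n) F)) c) ≤ n) := by
  classical
  haveI : Fact r.Prime := ⟨hr⟩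
  let ψ : Matrix.GeneralLinearGroup (Fin n) F ≃* (End F (Fin n → F))ˣ :=
    Units.mapEquiv (Matrix.toLinAlgEquiv' (R := F) (n := Fin n)).toMulEquiv
  have hψ : ∀ x : Matrix.GeneralLinearGroup (Fin n) F,
      ((ψ x : (End F (Fin n → F))ˣ) : End F (Fin n → F)) = Matrix.toLin' (x : Matrix (Fin n) (Fin n) F) :=
    fun x => rfl
  set N₀ := R ⊔ Cfsg.Geo.scalars (Fin n) F with hN₀
  let N : Subgroup (End F (Fin n → F))ˣ := N₀.map ψ.toMonoidHom
  have hnpos : 0 < n := by
    rcases Nat.eq_zero_or_pos n with rfl | h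
    · refine absurd ((Cfsg.Geo.mem_scalars_iff g).mpr ⟨1, ?_⟩) hns
      ext i; exact i.elim0
    · exact h
  haveI : Nonempty (Fin n) := ⟨⟨0, hnpos⟩⟩
  -- scalars
  have hscψ : ∀ x, x ∈ Cfsg.Geo.scalars (Fin n) F ↔ Sc (ψ x) := by
    intro x
    rw [Cfsg.Geo.mem_scalars_iff]
    constructor
    · rintro ⟨a, ha⟩
      exact ⟨a, by rw [hψ, ha, map_smul, Matrix.toLin'_one]; rfl⟩
    · rintro ⟨a, ha⟩
      rw [hψ] at ha
      have hx : (x : Matrix (Fin n) (Fin n) F) = a • (1 : Matrix (Fin n) (Fin n) F) :=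
        Matrix.toLin'.injective (by rw [ha, map_smul, Matrix.toLin'_one]; rfl)
      have ha0 : a ≠ 0 := by
        intro h0
        have := x.isUnit
        rw [hx, h0, zero_smul, isUnit_zero_iff] at this
        exact one_ne_zero (α := Matrix (Fin n) (Fin n) F) this.symm
      exact ⟨Units.mk0 a ha0, hx⟩
  have hZsc : ∀ z : R, z ∈ Subgroup.center R →
      (z : Matrix.GeneralLinearGroup (Fin n) F) ∈ Cfsg.Geo.scalars (Fin n) F := by
    intro z hz
    obtain ⟨a, ha⟩ := hirr.2 ((z : Matrix.GeneralLinearGroup (Fin n) F) : Matrix (Fin n) (Fin n) F) (by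
      rintro _ ⟨x, hx, rfl⟩
      have := congrArg (fun u : R => ((u : Matrix.GeneralLinearGroup (Fin n) F) : Matrix (Fin n) (Fin n) F))
        (Subgroup.mem_center_iff.mp hz ⟨x, hx⟩)
      simpa using this.symm)
    rw [hscψ]
    exact ⟨a, by rw [hψ, ha, map_smul, Matrix.toLin'_one]; rfl⟩
  have hdecomp : ∀ u ∈ N₀, ∃ x : R, ∃ s ∈ Cfsg.Geo.scalars (Fin n) F,
      (x : Matrix.GeneralLinearGroup (Fin n) F) * s = u := by
    intro u hu
    have hle : R ≤ Subgroup.normalizer ((Cfsg.Geo.scalars (Fin n) F : Subgroup _) : Set (Matrix.GeneralLinearGroup (Fin n) F)) := by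
      intro x _
      rw [Subgroup.mem_normalizer_iff]
      intro y
      constructor
      · intro hy
        have h1 := ((hscψ y).mp hy).central (ψ x)
        rw [← map_mul, ← map_mul] at h1
        rwa [ψ.injective h1, mul_inv_cancel_right]
      · intro hy
        have h1 := ((hscψ _).mp hy).central (ψ x)
        rw [← map_mul, ← map_mul] at h1
        have h2 : x * (x * y * x⁻¹) = x * y := by
          rw [ψ.injective h1]; group
        have h3 : x * y * x⁻¹ = y := mul_left_cancel h2
        rwa [h3] at hy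
    have h := (Subgroup.coe_mul_of_left_le_normalizer_right _ _ hle) ▸ (SetLike.mem_coe.mpr hu)
    obtain ⟨x, hx, s, hs, hxs⟩ := h
    exact ⟨⟨x, hx⟩, s, hs, hxs⟩
  have hpowR : ∀ z : R, z ∈ Subgroup.center R → z ^ r = 1 := fun z hz => by
    have h := pow_card_eq_one' (x := (⟨z, hz⟩ : Subgroup.center R))
    rw [hZ] at h
    exact congrArg Subtype.val h
  have hN : Good r N := by
    constructor
    · rintro _ ⟨u, hu, rfl⟩ _ ⟨v, hv, rfl⟩
      obtain ⟨x, s, hs, rfl⟩ := hdecomp u hu
      obtain ⟨y, s', hs', rfl⟩ := hdecomp v hv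
      simp only [MulEquiv.coe_toMonoidHom, map_mul]
      have hS := (hscψ s).mp hs
      have hS' := (hscψ s').mp hs'
      have e : ∀ (a b k : (End F (Fin n → F))ˣ), (∀ w, w * k = k * w) → ⁅a * k, b⁆ = ⁅a, b⁆ := by
        intro a b k hk
        have h1 : a * k * b * (a * k)⁻¹ = a * (k * b * k⁻¹) * a⁻¹ := by group
        rw [commutatorElement_def, h1, ← hk b, mul_inv_cancel_right, ← commutatorElement_def]
      have e2 : ⁅ψ x * ψ s, ψ y * ψ s'⁆ = ⁅ψ (x : Matrix.GeneralLinearGroup (Fin n) F), ψ y⁆ := by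
        rw [e _ _ _ hS.central, ← commutatorElement_inv (ψ (y : Matrix.GeneralLinearGroup (Fin n) F) * ψ s'),
          e _ _ _ hS'.central, commutatorElement_inv]
      rw [e2, ← map_commutatorElement ψ]
      have hmem : (⁅x, y⁆ : R) ∈ Subgroup.center R := by
        rw [← hext, _root_.commutator_def]
        exact Subgroup.commutator_mem_commutator (Subgroup.mem_top _) (Subgroup.mem_top _)
      refine ⟨(hscψ _).mp ?_, ?_⟩
      · simpa [commutatorElement_def] using hZsc _ hmem
      · rw [← map_pow]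
        have h1 := congrArg (fun u : R => (u : Matrix.GeneralLinearGroup (Fin n) F)) (hpowR _ hmem)
        simp only [commutatorElement_def, SubmonoidClass.coe_pow, Subgroup.coe_mul, Subgroup.coe_inv,
          OneMemClass.coe_one] at h1
        rw [commutatorElement_def, h1, map_one]
    · intro M hM
      obtain ⟨a, ha⟩ := hirr.2 (Matrix.toLinAlgEquiv'.symm M) (by
        rintro _ ⟨x, hx, rfl⟩
        apply (Matrix.toLinAlgEquiv' (R := F) (n := Fin n)).injective
        rw [map_mul, map_mul, AlgEquiv.apply_symm_apply]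
        exact hM (ψ x) ⟨x, Subgroup.mem_sup_left hx, rfl⟩)
      refine ⟨a, ?_⟩
      rw [← AlgEquiv.apply_symm_apply (Matrix.toLinAlgEquiv' (R := F) (n := Fin n)) M, ha, map_smul, map_one]
  have hgN : Norm N (ψ g) := by
    rintro _ ⟨u, hu, rfl⟩
    refine ⟨g * u * g⁻¹, (Subgroup.mem_normalizer_iff.mp hg u).mp hu, ?_⟩
    simp
  have hgϖ : ψ g ^ ϖ = 1 := by rw [← map_pow, ← hord, pow_orderOf_eq_one, map_one]
  have hgns : ¬ Sc (ψ g) := fun h => hns ((hscψ g).mpr h)
  have hfr : finrank F (Fin n → F) = n := Module.finrank_fin_fun F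
  haveI : Nontrivial (Fin n → F) := inferInstance
  set W := finrank F (eig (ψ g) c) with hW
  have hWeq : Module.finrank F (Module.End.eigenspace (Matrix.toLin' (g : Matrix (Fin n) (Fin n) F)) c) = W := rfl
  rw [hWeq]
  -- an element fixed modulo scalars but moved
  by_cases hA : ∃ u ∈ N, Sc ⁅ψ g, u⁆ ∧ ⁅ψ g, u⁆ ≠ 1
  · obtain ⟨u, hu, h1, h2⟩ := hA
    have h3 := (hN.fixed_bound hr hϖ hu hgϖ h1 h2 c).2
    rw [hfr, ← hW] at h3
    have h4 : 2 * W ≤ ϖ * W := Nat.mul_le_mul_right _ hϖ.two_le
    exact ⟨fun _ => by omega, fun h => by subst h; omega, fun _ => by omega, fun _ _ => by omega⟩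
  push Not at hA
  obtain ⟨x, hx, hxD⟩ : ∃ x ∈ N, ¬ Sc ⁅ψ g, x⁆ := by
    by_contra hh
    push Not at hh
    refine hgns (hN.cent (ψ g) fun u hu => ?_)
    rw [← Units.val_mul, ← Units.val_mul,
      commutatorElement_eq_one_iff_mul_comm.mp (hA u hu (hh u hu))]
  rcases hϖ.eq_two_or_odd' with h2 | hodd
  · have h3 := hN.two_bound hr hgN hx hxD c
    rw [hfr] at h3
    subst h2
    exact ⟨fun _ => h3, fun h => by omega, fun h => by omega, fun h => by omega⟩
  by_cases hϖr : ϖ = r
  · subst hϖr
    have hE : Expo ϖ N := by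
      rintro _ ⟨u, hu, rfl⟩
      obtain ⟨x, s, hs, rfl⟩ := hdecomp u hu
      have hxr : (x : Matrix.GeneralLinearGroup (Fin n) F) ^ ϖ = 1 := by
        have hexp' : Monoid.exponent R = ϖ := by
          rcases hexp with h | h
          · exact h
          · exfalso
            have h4 : (4 : ℕ) ∣ Nat.card R := h ▸ Group.exponent_dvd_nat_card
            obtain ⟨k, hk⟩ := IsPGroup.iff_card.mp hR
            rw [hk] at h4
            have h2 : 2 ∣ ϖ := Nat.prime_two.dvd_of_dvd_pow ((by norm_num : 2 ∣ 4).trans h4)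
            exact (Nat.not_even_iff_odd.mpr hodd) (even_iff_two_dvd.mpr h2)
        have := congrArg (fun u : R => (u : Matrix.GeneralLinearGroup (Fin n) F))
          (Monoid.pow_exponent_eq_one x)
        simpa [hexp'] using this
      refine ⟨ψ s⁻¹, (hscψ _).mp (inv_mem hs), ⟨s⁻¹, Subgroup.mem_sup_right (inv_mem hs), rfl⟩, ?_⟩
      rw [MulEquiv.coe_toMonoidHom, ← map_mul, ← map_pow]
      have h1 : s⁻¹ * ((x : Matrix.GeneralLinearGroup (Fin n) F) * s) = (x : Matrix.GeneralLinearGroup (Fin n) F) := by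
        apply ψ.injective
        rw [map_mul, map_mul, ((hscψ s).mp hs).central (ψ x), ← mul_assoc, ← map_mul, inv_mul_cancel,
          map_one, one_mul]
      rw [h1, hxr, map_one]
    have hb := order_r_bound hr hodd _ N (ψ g) hfr hN hE hgN hgϖ hgns c
    refine ⟨fun h => absurd hodd (h ▸ by decide), fun _ => hb.1, fun h => hb.2 (by
      rcases hr.eq_two_or_odd' with h2 | ⟨k, hk⟩ <;> omega), fun h3 hn3 => absurd ?_ hn3⟩
    subst h3
    obtain ⟨y, hy, hne⟩ : ∃ y ∈ N, ⁅⁅ψ g, x⁆, y⁆ ≠ 1 := by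
      by_contra hh
      push Not at hh
      exact hxD (hN.sc_of_central hh)
    obtain ⟨κ, h1, h2, h4⟩ := exists_scalar (hN.comm _ (hgN.dee hx) y hy).1 (hN.comm _ (hgN.dee hx) y hy).2
    have hdet := congrArg LinearMap.det h1
    rw [LinearMap.det_smul, hfr, map_mul, map_mul, mul_comm (LinearMap.det (y : End F (Fin n → F)))] at hdet
    have hd0 : LinearMap.det ((⁅ψ g, x⁆ : (End F (Fin n → F))ˣ) : End F (Fin n → F)) *
        LinearMap.det (y : End F (Fin n → F)) ≠ 0 :=
      mul_ne_zero ((Units.isUnit _).map LinearMap.det).ne_zero ((Units.isUnit _).map LinearMap.det).ne_zero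
    have hκn : κ ^ n = 1 := (mul_eq_right₀ hd0).mp hdet.symm
    have hprim : IsPrimitiveRoot κ 3 := by
      rw [IsPrimitiveRoot.iff_orderOf]
      exact haveI : Fact (Nat.Prime 3) := ⟨Nat.prime_three⟩; orderOf_eq_prime h2 fun h => hne (h4 h)
    exact (hprim.pow_eq_one_iff_dvd n).mp hκn
  · obtain ⟨u, hu, hne⟩ := hN.exists_noncommuting hr hϖ hodd hϖr hgN hgϖ hx hxD
    have h3 := hN.noncommuting_bound hgN hu hne c
    rw [hfr] at h3
    exact ⟨fun h => absurd hodd (h ▸ by decide), fun _ => by omega, fun _ => h3, fun _ _ => h3⟩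

end Cfsg.Agent.S5877
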