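import Cfsg.Statements.S5885

set_option autoImplicit false
open Cfsg

namespace Cfsg.Agent.S5885

/-- a product of two transpositions sending `b` to `y` -/
lemma exists_three {Ω : Type*} [DecidableEq Ω] [Fintype Ω] {b y c : Ω} (hby : b ≠ y) (hbc : b ≠ c) (hyc : y ≠ c) :
    ∃ σ : Equiv.Perm Ω, Equiv.Perm.sign σ = 1 ∧ σ b = y ∧ σ y = c ∧ σ c = b ∧
      ∀ x, x ≠ b → x ≠ y → x ≠ c → σ x = x := by
  refine ⟨Equiv.swap b y * Equiv.swap y c, ?_, ?_, ?_, ?_, ?_⟩
  · rw [map_mul, Equiv.Perm.sign_swap hby, Equiv.Perm.sign_swap hyc]; simp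
  · simp [Equiv.swap_apply_of_ne_of_ne hby hbc]
  · simp [Equiv.swap_apply_of_ne_of_ne hbc.symm hyc.symm]
  · simp
  · intro x h1 h2 h3
    simp [Equiv.swap_apply_of_ne_of_ne h2 h3, Equiv.swap_apply_of_ne_of_ne h1 h2]

/-- Second maximality for odd degree whose only primitive groups contain the alternating group. -/
theorem result {G : Type*} [Group G] [Finite G] (n : ℕ) (hodd : Odd n) (hA : ∀ P : Subgroup (Equiv.Perm (Fin n)), MulAction.IsPreprimitive P (Fin n) → alternatingGroup (Fin n) ≤ P) (M : Subgroup G) (hM : IsCoatom M) (hn : M.index = n) (H : Subgroup G) (hHM : H ≤ M) (hmax : IsCoatom (H.subgroupOf M)) (K : Subgroup G) (hK : IsCoatom K) (hHK : H ≤ K) : IsCoatom (H.subgroupOf K) := by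
  classical
  rcases eq_or_ne K M with rfl | hKM
  · exact hmax
  -- maximality of H in M, in plain form
  have hmax' : ∀ L : Subgroup G, H ≤ L → L ≤ M → L = H ∨ L = M := by
    intro L h1 h2
    rcases eq_or_lt_of_le (Subgroup.comap_mono (f := M.subtype) h1) with h | h
    · left
      have := Subgroup.subgroupOf_inj.1 h.symm
      rw [inf_eq_left.2 h2, inf_eq_left.2 hHM] at this
      exact this
    · right
      exact le_antisymm h2 (Subgroup.subgroupOf_eq_top.1 (hmax.2 _ h))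
  have hinf : K ⊓ M = H := by
    refine (hmax' _ (le_inf hHK hHM) inf_le_right).resolve_right fun h => ?_
    rcases eq_or_lt_of_le (inf_eq_right.1 h) with h' | h'
    · exact hKM h'.symm
    · exact hK.1 (hM.2 _ h')
  have memH : ∀ x, x ∈ K → x ∈ M → x ∈ H := fun x h1 h2 => hinf ▸ ⟨h1, h2⟩
  -- it suffices to treat subgroups between H and K
  suffices key : ∀ L : Subgroup G, H ≤ L → L ≤ K → ¬ L ≤ H → K ≤ L by
    refine ⟨fun h => ?_, fun L' hL' => ?_⟩
    · have hle : K ≤ H := Subgroup.subgroupOf_eq_top.1 h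
      rcases eq_or_lt_of_le (hle.trans hHM) with h' | h'
      · exact hKM h'
      · exact hM.1 (hK.2 _ h')
    · have h1 : H ≤ L'.map K.subtype := fun x hx => ⟨⟨x, hHK hx⟩, hL'.le hx, rfl⟩
      have h2 : ¬ L'.map K.subtype ≤ H := fun h => hL'.not_ge fun x hx => h ⟨x, hx, rfl⟩
      have h3 := key _ h1 (Subgroup.map_subtype_le _) h2
      rw [eq_top_iff]
      intro x _
      obtain ⟨y, hy, hyx⟩ := h3 x.2
      rwa [← Subtype.ext hyx]
  intro L hHL hLK hLH
  have hLM : ¬ L ≤ M := fun h => hLH fun x hx => memH x (hLK hx) (h hx)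
  set N := M.normalCore with hNdef
  by_cases hN : N ≤ H
  swap
  · -- K covers G modulo N
    have hNK : ¬ N ≤ K := fun h => hN fun x hx => memH x (h hx) (M.normalCore_le hx)
    have hKN : K ⊔ N = ⊤ := hK.2 _ (lt_of_le_of_ne le_sup_left fun h => hNK (h ▸ le_sup_right))
    have hHN : H ⊔ N = M := (hmax' _ le_sup_left (sup_le hHM M.normalCore_le)).resolve_left
      fun h => hN (h ▸ le_sup_right)
    have hML : M ≤ L ⊔ N := hHN ▸ sup_le_sup_right hHL N
    have hLN : L ⊔ N = ⊤ := by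
      refine hM.2 _ (lt_of_le_of_ne hML fun h => hLM (h ▸ le_sup_left))
    intro k hk
    have hk' : k ∈ ((L ⊔ N : Subgroup G) : Set G) := by simp [hLN]
    rw [Subgroup.mul_normal] at hk'
    obtain ⟨l, hl, x, hx, rfl⟩ := hk'
    refine L.mul_mem hl (hHL (memH x ?_ (M.normalCore_le hx)))
    simpa using K.mul_mem (K.inv_mem (hLK hl)) hk
  -- N ≤ H: the image is the symmetric or alternating group
  let Ω := G ⧸ M
  let ω : Ω := ((1 : G) : G ⧸ M)
  have hstab : ∀ g : G, g • ω = ω ↔ g ∈ M := fun g => by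
    rw [← MulAction.mem_stabilizer_iff, MulAction.stabilizer_quotient]
  have : Nontrivial Ω := by
    rw [← not_subsingleton_iff_nontrivial]
    intro h
    have : M.index = 1 := by rw [Subgroup.index_eq_card]; exact Nat.card_unique
    exact hM.1 (Subgroup.index_eq_one.1 this)
  have hprim : MulAction.IsPreprimitive G Ω :=
    (MulAction.isCoatom_stabilizer_iff_preprimitive G ω).1 (by rw [MulAction.stabilizer_quotient]; exact hM)
  have : Fintype Ω := Fintype.ofFinite _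
  let e : Ω ≃ Fin n := Fintype.equivFinOfCardEq (by rw [← hn, Subgroup.index_eq_card, Nat.card_eq_fintype_card])
  have heven : ∀ σ : Equiv.Perm Ω, Equiv.Perm.sign σ = 1 → ∃ g : G, ∀ x : Ω, g • x = σ x := by
    let ψ : G →* Equiv.Perm (Fin n) := e.permCongrHom.toMonoidHom.comp (MulAction.toPermHom G Ω)
    have hval : ∀ g x, ψ g (e x) = e (g • x) := fun g x => by simp [ψ, Equiv.permCongrHom]
    let f : Ω →ₑ[ψ.rangeRestrict] Fin n :=
      { toFun := e
        map_smul' := fun g x => (hval g x).symm }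
    have hP : MulAction.IsPreprimitive ψ.range (Fin n) :=
      MulAction.IsPreprimitive.of_surjective (f := f) e.surjective
    intro σ hσ
    have hmem : e.permCongr σ ∈ alternatingGroup (Fin n) := by
      rw [Equiv.Perm.mem_alternatingGroup, Equiv.Perm.sign_permCongr, hσ]
    obtain ⟨g, hg⟩ := hA _ hP hmem
    refine ⟨g, fun x => e.injective ?_⟩
    rw [← hval, hg]
    simp
  let B : Set Ω := {x | ∃ l ∈ L, l • ω = x}
  let O : Set Ω := {x | ∃ k ∈ K, k • ω = x}
  have hBO : B ⊆ O := fun x ⟨l, hl, h⟩ => ⟨l, hLK hl, h⟩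
  have hωB : ω ∈ B := ⟨1, L.one_mem, one_smul _ _⟩
  -- the block property
  have hblock : ∀ k ∈ K, ∀ x ∈ B, k • x ∈ B → k ∈ L := by
    rintro k hk _ ⟨l1, hl1, rfl⟩ ⟨l2, hl2, h2⟩
    have : l2⁻¹ * k * l1 ∈ H := by
      refine memH _ (K.mul_mem (K.mul_mem (K.inv_mem (hLK hl2)) hk) (hLK hl1)) ((hstab _).1 ?_)
      rw [mul_smul, mul_smul, ← h2, inv_smul_smul]
    have := L.mul_mem (L.mul_mem hl2 (hHL this)) (L.inv_mem hl1)
    simpa [mul_assoc] using this
  by_contra hKL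
  obtain ⟨k₀, hk₀, hk₀L⟩ := SetLike.not_le_iff_exists.1 hKL
  set β := k₀ • ω with hβdef
  have hβO : β ∈ O := ⟨k₀, hk₀, rfl⟩
  have hβB : β ∉ B := fun h => hk₀L (hblock k₀ hk₀ ω hωB h)
  obtain ⟨l₀, hl₀, hl₀M⟩ := SetLike.not_le_iff_exists.1 hLM
  set b := l₀ • ω with hbdef
  have hbω : b ≠ ω := fun h => hl₀M ((hstab _).1 h)
  have hbB : b ∈ B := ⟨l₀, hl₀, rfl⟩
  set c := k₀ • b with hcdef
  have hcO : c ∈ O := ⟨k₀ * l₀, K.mul_mem hk₀ (hLK hl₀), mul_smul _ _ _⟩
  have hcB : c ∉ B := fun h => hk₀L (hblock k₀ hk₀ b hbB h)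
  have hβω : β ≠ ω := fun h => hβB (h ▸ hωB)
  have hbβ : b ≠ β := fun h => hβB (h ▸ hbB)
  have hcb : c ≠ b := fun h => hcB (h ▸ hbB)
  have hcβ : c ≠ β := fun h => hbω (MulAction.injective k₀ h)
  have hcω : c ≠ ω := fun h => hcB (h ▸ hωB)
  -- elements of M preserving an H-invariant set
  have hsetstab : ∀ X : Set Ω, b ∈ X → (∃ y, y ∉ X ∧ y ≠ ω) → (∀ h ∈ H, ∀ x ∈ X, h • x ∈ X) →
      ∀ g ∈ M, (∀ x ∈ X, g • x ∈ X) → g ∈ H := by
    intro X hbX ⟨y, hy, hyω⟩ hHX g hgM hg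
    let SX : Subgroup G :=
      { carrier := {a | a ∈ M ∧ ∀ x, a • x ∈ X ↔ x ∈ X}
        one_mem' := ⟨M.one_mem, fun x => by rw [one_smul]⟩
        mul_mem' := fun {u v} hu hv => ⟨M.mul_mem hu.1 hv.1, fun x => by rw [mul_smul, hu.2, hv.2]⟩
        inv_mem' := fun {u} hu => ⟨M.inv_mem hu.1, fun x => by rw [← hu.2 (u⁻¹ • x), smul_inv_smul]⟩ }
    have iff_of : ∀ a : G, (∀ x ∈ X, a • x ∈ X) → ∀ x, a • x ∈ X ↔ x ∈ X := by
      intro a ha x
      refine ⟨fun h => ?_, ha x⟩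
      have himg : (fun x => a • x) '' X = X :=
        Set.eq_of_subset_of_ncard_le (Set.image_subset_iff.2 ha)
          (Set.ncard_image_of_injective X (MulAction.injective a)).ge (Set.toFinite X)
      rw [← himg] at h
      obtain ⟨z, hz, hza⟩ := h
      rwa [← MulAction.injective a hza]
    have hHS : H ≤ SX := fun h hh => ⟨hHM hh, iff_of h (hHX h hh)⟩
    have hSM : SX ≠ M := by
      intro hSX
      obtain ⟨z, hz1, hz2, hz3⟩ : ∃ z, z ≠ ω ∧ z ≠ b ∧ z ≠ y := by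
        by_cases h : y = β
        · exact ⟨c, hcω, hcb, h ▸ hcβ⟩
        · exact ⟨β, hβω, hbβ.symm, Ne.symm h⟩
      obtain ⟨σ, hσs, hσb, -, -, hσfix⟩ :=
        exists_three (fun h => hy (h ▸ hbX) : b ≠ y) hz2.symm hz3.symm
      obtain ⟨a, ha⟩ := heven σ hσs
      have haM : a ∈ M := (hstab a).1 (by rw [ha, hσfix _ hbω.symm hyω.symm hz1.symm])
      rw [← hSX] at haM
      have := (haM.2 b).2 hbX
      rw [ha, hσb] at this
      exact hy this
    have hgS : g ∈ SX := ⟨hgM, iff_of g hg⟩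
    exact ((hmax' SX hHS fun a ha => ha.1).resolve_right hSM) ▸ hgS
  have hHB : ∀ h ∈ H, ∀ x ∈ B, h • x ∈ B := fun h hh x ⟨l, hl, hx⟩ =>
    ⟨h * l, L.mul_mem (hHL hh) hl, by rw [mul_smul, hx]⟩
  by_cases hO : O = Set.univ
  · -- K transitive and imprimitive: n = |B| * (number of blocks), both odd
    obtain ⟨z, hzB, hzB'⟩ : ∃ z, z ∉ B ∧ z ∉ (fun x => k₀ • x) '' B := by
      by_contra hcon
      push Not at hcon
      have huniv : B ∪ (fun x => k₀ • x) '' B = Set.univ := Set.eq_univ_of_forall fun x => by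
        by_cases hx : x ∈ B
        · exact Or.inl hx
        · exact Or.inr (hcon x hx)
      have hdisj : Disjoint B ((fun x => k₀ • x) '' B) := by
        rw [Set.disjoint_left]
        rintro _ hx ⟨x, hx', rfl⟩
        exact hk₀L (hblock k₀ hk₀ x hx' hx)
      have h1 := Set.ncard_union_eq hdisj
      rw [huniv, Set.ncard_univ, Set.ncard_image_of_injective _ (MulAction.injective k₀),
        ← Subgroup.index_eq_card, hn] at h1
      obtain ⟨m, hm⟩ := hodd
      omega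
    have hzβ : z ≠ β := fun h => hzB' ⟨ω, hωB, h.symm⟩
    have hzc : z ≠ c := fun h => hzB' ⟨b, hbB, h.symm⟩
    have hzω : z ≠ ω := fun h => hzB (h ▸ hωB)
    obtain ⟨σ, hσs, hσβ, hσc, -, hσfix⟩ := exists_three hcβ.symm hzβ.symm hzc.symm
    obtain ⟨g, hg⟩ := heven σ hσs
    have hgM : g ∈ M := (hstab g).1 (by rw [hg, hσfix _ hβω.symm hcω.symm hzω.symm])
    have hgH : g ∈ H := hsetstab B hbB ⟨β, hβB, hβω⟩ hHB g hgM fun x hx => by
      rw [hg, hσfix x (fun h => hβB (h ▸ hx)) (fun h => hcB (h ▸ hx)) (fun h => hzB (h ▸ hx))]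
      exact hx
    -- g sends β into the block of β, hence fixes that block
    have h1 : k₀⁻¹ * g * k₀ ∈ L := by
      refine hblock _ (K.mul_mem (K.mul_mem (K.inv_mem hk₀) (hHK hgH)) hk₀) ω hωB ?_
      rw [mul_smul, mul_smul, ← hβdef, hg, hσβ, hcdef, inv_smul_smul]
      exact hbB
    apply hzB'
    refine ⟨(k₀⁻¹ * g * k₀) • b, ?_, ?_⟩
    · obtain ⟨l, hl, hlb⟩ := hbB
      exact ⟨k₀⁻¹ * g * k₀ * l, L.mul_mem h1 hl, by rw [mul_smul, hlb]⟩
    · rw [mul_smul, mul_smul, ← hcdef, hg, hσc]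
      exact smul_inv_smul k₀ z
  · obtain ⟨y, hy⟩ := (Set.ne_univ_iff_exists_notMem O).1 hO
    have hyω : y ≠ ω := fun h => hy (h ▸ hBO hωB)
    have hHO : ∀ h ∈ H, ∀ x ∈ O, h • x ∈ O := fun h hh x ⟨k, hk, hx⟩ =>
      ⟨h * k, K.mul_mem (hHK hh) hk, by rw [mul_smul, hx]⟩
    obtain ⟨σ, hσs, hσb, hσβ, hσc, hσfix⟩ := exists_three hbβ hcb.symm hcβ.symm
    obtain ⟨g, hg⟩ := heven σ hσs
    have hgM : g ∈ M := (hstab g).1 (by rw [hg, hσfix _ hbω.symm hβω.symm hcω.symm])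
    have hgH : g ∈ H := hsetstab O (hBO hbB) ⟨y, hy, hyω⟩ hHO g hgM fun x hx => by
      rw [hg]
      rcases eq_or_ne x b with rfl | h1
      · rw [hσb]; exact hβO
      rcases eq_or_ne x β with rfl | h2
      · rw [hσβ]; exact hcO
      rcases eq_or_ne x c with rfl | h3
      · rw [hσc]; exact hBO hbB
      rw [hσfix x h1 h2 h3]; exact hx
    have := hHB g hgH b hbB
    rw [hg, hσb] at this
    exact hβB this

end Cfsg.Agent.S5885
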