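import Cfsg.Statements.S5894
import Mathlib

set_option autoImplicit false
open Cfsg

namespace Cfsg.Agent.S5894

open MulAction Pointwise

theorem mem_stab_set {α : Type*} [Finite α] {σ : Equiv.Perm α} {s : Set α} :
    σ ∈ stabilizer (Equiv.Perm α) s ↔ ∀ x, σ x ∈ s ↔ x ∈ s := by
  rw [mem_stabilizer_iff]
  constructor
  · intro h x
    conv_lhs => rw [← h]
    exact Set.smul_mem_smul_set_iff
  · intro h
    ext y
    rw [Set.mem_smul_set_iff_inv_smul_mem, ← h]
    simp

/-- For every m ≥ 2 the symmetric group on 2m letters has a maximal subgroup M of index 2m together with a maximal subgroup H of M that is not second maximal: some maximal subgroup K of the symmetric group contains H without H being maximal in K. (One may take M the stabiliser of a letter, H ≅ S_m × S_{m−1} inside it, and K ≅ S_m ≀ S₂ the stabiliser of a partition into two m-sets, with H < S_m × S_m < K.) So the prime-index hypothesis in the second-maximality criterion cannot be relaxed to any even index ≥ 4. -/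
theorem result (m : ℕ) (hm : 2 ≤ m) :
    ∃ M H K : Subgroup (Equiv.Perm (Fin (2 * m))), IsCoatom M ∧ M.index = 2 * m ∧ H ≤ M ∧ IsCoatom (H.subgroupOf M) ∧
      IsCoatom K ∧ H ≤ K ∧ ¬ IsCoatom (H.subgroupOf K) := by
  classical
  let α := Fin (2 * m)
  let o : α := ⟨2 * m - 1, by omega⟩
  let S : Set α := {i | (i : ℕ) < m}
  let z : α := ⟨0, by omega⟩
  let u : α := ⟨m, by omega⟩
  have hS : S.ncard = m := by
    rw [show S = Set.range (Fin.castLE (n := m) (m := 2 * m) (by omega)) from Set.ext fun i =>
      ⟨fun h => ⟨⟨i, h⟩, rfl⟩, by rintro ⟨j, rfl⟩; exact j.2⟩,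
      Set.ncard_range_of_injective (Fin.castLE_injective _), Nat.card_eq_fintype_card, Fintype.card_fin]
  let M : Subgroup (Equiv.Perm α) := stabilizer (Equiv.Perm α) o
  let A : Subgroup (Equiv.Perm α) := stabilizer (Equiv.Perm α) S
  let P : Subgroup (Equiv.Perm α) := stabilizer (Equiv.Perm α) ({S, Sᶜ} : Set (Set α))
  have hAP : A ≤ P := fun σ hσ => by
    rw [mem_stabilizer_iff, Set.smul_set_insert, Set.smul_set_singleton, Set.smul_set_compl,
      mem_stabilizer_iff.1 hσ]
  have hP : P ≠ ⊤ := fun h => by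
    have hmem : Equiv.swap z u • ({S, Sᶜ} : Set (Set α)) = {S, Sᶜ} :=
      mem_stabilizer_iff.1 (show Equiv.swap z u ∈ P from h ▸ Subgroup.mem_top _)
    have h1 : Equiv.swap z u • S ∈ Equiv.swap z u • ({S, Sᶜ} : Set (Set α)) :=
      Set.smul_mem_smul_set (Set.mem_insert _ _)
    rw [hmem] at h1
    have hu : u ∈ Equiv.swap z u • S := ⟨z, show (0 : ℕ) < m by omega, Equiv.swap_apply_left z u⟩
    have hone : (⟨1, by omega⟩ : α) ∈ Equiv.swap z u • S := ⟨⟨1, by omega⟩, show (1 : ℕ) < m by omega,
      Equiv.swap_apply_of_ne_of_ne (fun h => absurd (congrArg Fin.val h) (show (1 : ℕ) ≠ 0 by omega)) (fun h => absurd (congrArg Fin.val h) (show (1 : ℕ) ≠ m by omega))⟩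
    rcases h1 with e | e
    · rw [e] at hu; exact lt_irrefl m hu
    · rw [Set.mem_singleton_iff.1 e] at hone; exact hone (show (1 : ℕ) < m by omega)
  obtain ⟨K, hK, hPK⟩ := (eq_top_or_exists_le_coatom P).resolve_left hP
  let τ : Equiv.Perm α := Fin.revPerm
  have hτS : τ • S = Sᶜ := by
    ext i
    rw [Set.mem_smul_set_iff_inv_smul_mem]
    show ((τ⁻¹ i : α) : ℕ) < m ↔ ¬ (i : ℕ) < m
    rw [show τ⁻¹ i = i.rev from rfl, Fin.val_rev]
    omega
  have hτP : τ ∈ P := by
    rw [mem_stabilizer_iff, Set.smul_set_insert, Set.smul_set_singleton, Set.smul_set_compl, hτS,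
      compl_compl, Set.pair_comm]
  have hτA : τ ∉ A := fun h => by
    have e : S = Sᶜ := (mem_stabilizer_iff.1 h).symm.trans hτS
    have hz : z ∈ S := show (0 : ℕ) < m by omega
    have hz' := e ▸ hz
    exact hz' hz
  have hswA : Equiv.swap o u ∈ A := by
    rw [mem_stab_set]
    intro x
    rcases eq_or_ne x o with rfl | hxo
    · rw [Equiv.swap_apply_left]
      exact iff_of_false (show ¬ (m : ℕ) < m by omega) (show ¬ (2 * m - 1 : ℕ) < m by omega)
    rcases eq_or_ne x u with rfl | hxu
    · rw [Equiv.swap_apply_right]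
      exact iff_of_false (show ¬ (2 * m - 1 : ℕ) < m by omega) (show ¬ (m : ℕ) < m by omega)
    rw [Equiv.swap_apply_of_ne_of_ne hxo hxu]
  have hswM : Equiv.swap o u ∉ M := fun h => by
    have h' : Equiv.swap o u o = o := mem_stabilizer_iff.1 h
    rw [Equiv.swap_apply_left] at h'
    have := congrArg Fin.val h'
    simp only [u, o] at this
    omega
  refine ⟨M, A ⊓ M, K, ?_, ?_, inf_le_right, ?_, hK, (inf_le_left.trans hAP).trans hPK, fun hco => ?_⟩
  · show IsCoatom (stabilizer (Equiv.Perm α) o)
    rw [← stabilizer_singleton (G := Equiv.Perm α) o]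
    refine Equiv.Perm.isCoatom_stabilizer (Set.singleton_nonempty o) ⟨u, fun h => ?_⟩ ?_
    · have := congrArg Fin.val (Set.mem_singleton_iff.1 h)
      simp only [u, o] at this
      omega
    · rw [Set.ncard_singleton, Nat.card_eq_fintype_card, Fintype.card_fin]; omega
  · rw [Subgroup.index, ← Nat.card_congr (MulAction.orbitEquivQuotientStabilizer (Equiv.Perm α) o),
      MulAction.orbit_eq_univ, Nat.card_univ, Nat.card_eq_fintype_card, Fintype.card_fin]
  · let β := {x : α // x ≠ o}
    let S' : Set β := {x | (x : α) ∈ S}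
    let φ : Equiv.Perm β →* M := (Equiv.Perm.ofSubtype (p := fun x : α => x ≠ o)).codRestrict M
      fun f => mem_stabilizer_iff.2 (Equiv.Perm.ofSubtype_apply_of_not_mem f (fun h => h rfl))
    have hφ : Function.Surjective φ := fun g => by
      have hg : ∀ x, (g : Equiv.Perm α) x ≠ o ↔ x ≠ o := fun x => not_congr (by
        conv_lhs => rw [← (show (g : Equiv.Perm α) o = o from g.2)]
        exact (g : Equiv.Perm α).injective.eq_iff)
      refine ⟨(g : Equiv.Perm α).subtypePerm hg, Subtype.ext ?_⟩
      exact Equiv.Perm.ofSubtype_subtypePerm (p := fun x : α => x ≠ o) hg fun x hx h =>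
        hx (by rw [h]; exact g.2)
    have hcomap : ((A ⊓ M).subgroupOf M).comap φ = stabilizer (Equiv.Perm β) S' := by
      ext f
      rw [Subgroup.mem_comap, Subgroup.mem_subgroupOf, mem_stab_set]
      constructor
      · intro h x
        have := (mem_stab_set.1 (Subgroup.mem_inf.1 h).1) x.1
        rw [show ((φ f : Equiv.Perm α) x.1) = f x from Equiv.Perm.ofSubtype_apply_coe f x] at this
        exact this
      · intro h
        refine Subgroup.mem_inf.2 ⟨mem_stab_set.2 fun x => ?_, (φ f).2⟩
        by_cases hx : x = o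
        · rw [hx, show ((φ f : Equiv.Perm α) o) = o from (φ f).2]
        · rw [show ((φ f : Equiv.Perm α) x) = f ⟨x, hx⟩ from Equiv.Perm.ofSubtype_apply_of_mem f hx]
          exact h ⟨x, hx⟩
    have hS'c : S'.ncard = m := by
      rw [← hS, show S = Subtype.val '' S' from Set.ext fun i => ⟨fun h => ⟨⟨i, fun e => by
        have : (i : ℕ) < m := h
        rw [e] at this
        simp only [o] at this
        omega⟩, h, rfl⟩, by rintro ⟨x, hx, rfl⟩; exact hx⟩,
        Set.ncard_image_of_injective _ Subtype.val_injective]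
    have hβ : Nat.card β = 2 * m - 1 := by
      rw [Nat.card_eq_fintype_card, Fintype.card_subtype_compl, Fintype.card_fin, Fintype.card_subtype_eq]
    have hco := Equiv.Perm.isCoatom_stabilizer (s := S')
      (Set.nonempty_of_ncard_ne_zero (by omega)) (Set.nonempty_of_ncard_ne_zero (by
        rw [Set.ncard_compl, hS'c, hβ]; omega)) (by rw [hβ, hS'c]; omega)
    rw [← hcomap] at hco
    refine ⟨fun h => hco.1 (by rw [h, Subgroup.comap_top]), fun N hN => ?_⟩
    refine Subgroup.comap_injective hφ ?_
    rw [Subgroup.comap_top]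
    exact hco.2 _ ((Subgroup.comap_lt_comap_of_surjective hφ).2 hN)
  · have hAK : A ≤ K := hAP.trans hPK
    have hlt : (A ⊓ M).subgroupOf K < A.subgroupOf K := by
      refine lt_of_le_of_ne (Subgroup.comap_mono inf_le_left) fun h => hswM ?_
      have h2 : (⟨_, hAK hswA⟩ : K) ∈ (A ⊓ M).subgroupOf K := h ▸ Subgroup.mem_subgroupOf.2 hswA
      exact (Subgroup.mem_inf.1 (Subgroup.mem_subgroupOf.1 h2)).2
    have := hco.2 _ hlt
    exact hτA (Subgroup.subgroupOf_eq_top.1 this (hPK hτP))

end Cfsg.Agent.S5894
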