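import Cfsg.Statements.S5895

set_option autoImplicit false
open Cfsg

namespace Cfsg.Agent.S5895

open MulAction SemidirectProduct
open scoped LinearAlgebra.Projectivization

section

variable (F V : Type) [Field F] [AddCommGroup V] [Module F V]

/-- the linear group acting on the translations -/
def act : (V ≃ₗ[F] V) →* MulAut (Multiplicative V) where
  toFun l := AddEquiv.toMultiplicative l.toAddEquiv
  map_one' := MulEquiv.ext fun _ => rfl
  map_mul' _ _ := MulEquiv.ext fun _ => rfl

lemma act_apply (l : V ≃ₗ[F] V) (v : V) : act F V l (Multiplicative.ofAdd v) = Multiplicative.ofAdd (l v) := rfl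

lemma exists_map {v u : V} (hv : v ≠ 0) (hu : u ≠ 0) : ∃ l : V ≃ₗ[F] V, l v = u := by
  haveI := Projectivization.linearEquiv_is_two_pretransitive F V
  haveI : IsPretransitive (V ≃ₗ[F] V) (ℙ F V) := isPretransitive_of_is_two_pretransitive
  obtain ⟨g, hg⟩ := exists_smul_eq (V ≃ₗ[F] V) (Projectivization.mk F v hv) (Projectivization.mk F u hu)
  rw [Projectivization.smul_mk, Projectivization.mk_eq_mk_iff] at hg
  obtain ⟨c, hc⟩ := hg
  refine ⟨g.trans (LinearEquiv.smulOfUnit c⁻¹), ?_⟩
  have hc' : (c : F) • u = g v := hc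
  rw [LinearEquiv.trans_apply, ← hc']
  show c⁻¹ • (c : F) • u = u
  rw [Units.smul_def, smul_smul, Units.inv_mul, one_smul]

theorem construction [Finite V] (e e' : V) (he : e ≠ 0) (hne : e' ∉ Submodule.span F {e}) :
    let G := Multiplicative V ⋊[act F V] (V ≃ₗ[F] V)
    ∃ M H K : Subgroup G, IsCoatom M ∧ M.index = Nat.card V ∧ H ≤ M ∧ IsCoatom (H.subgroupOf M) ∧ IsCoatom K ∧ H ≤ K ∧
      ¬ IsCoatom (H.subgroupOf K) := by
  intro G
  let P := Projectivization.mk F e he
  let H0 : Subgroup (V ≃ₗ[F] V) := stabilizer (V ≃ₗ[F] V) P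
  have he' : e' ≠ 0 := fun h => hne (h ▸ Submodule.zero_mem _)
  haveI : Nontrivial (ℙ F V) := ⟨P, Projectivization.mk F e' he', fun h => by
    rw [Projectivization.mk_eq_mk_iff'] at h
    obtain ⟨c, hc⟩ := h
    rcases eq_or_ne c 0 with rfl | hc0
    · exact he (by rw [← hc, zero_smul])
    · exact hne (Submodule.mem_span_singleton.2 ⟨c⁻¹, by rw [← hc, smul_smul, inv_mul_cancel₀ hc0, one_smul]⟩)⟩
  haveI := Projectivization.linearEquiv_is_two_pretransitive F V
  haveI : IsPretransitive (V ≃ₗ[F] V) (ℙ F V) := isPretransitive_of_is_two_pretransitive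
  have hH0 : IsCoatom H0 := (isCoatom_stabilizer_iff_preprimitive _ P).2 (isPreprimitive_of_is_two_pretransitive ‹_›)
  let W : Submodule F V := Submodule.span F {e}
  have hW : ∀ l ∈ H0, ∀ w ∈ W, l w ∈ W := fun l hl w hw => by
    have h : l • P = P := hl
    rw [Projectivization.smul_mk, Projectivization.mk_eq_mk_iff'] at h
    obtain ⟨c, hc⟩ := h
    obtain ⟨a, rfl⟩ := Submodule.mem_span_singleton.1 hw
    rw [map_smul]
    refine W.smul_mem a (Submodule.mem_span_singleton.2 ⟨c, ?_⟩)
    exact hc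
  let ι : (V ≃ₗ[F] V) →* G := inr
  let π : G →* (V ≃ₗ[F] V) := rightHom
  have hM : ∀ x : G, x ∈ ι.range ↔ x.left = 1 := fun x =>
    ⟨by rintro ⟨l, rfl⟩; rfl, fun h => ⟨x.right, SemidirectProduct.ext h.symm rfl⟩⟩
  refine ⟨ι.range, H0.map ι, H0.comap π, ?_, ?_, fun x ⟨l, _, e⟩ => ⟨l, e⟩, ?_, ?_, ?_, ?_⟩
  · refine ⟨fun h => ?_, fun X hX => ?_⟩
    · have := (hM (inl (Multiplicative.ofAdd e))).1 (h.ge (Subgroup.mem_top _))
      rw [left_inl] at this
      exact he (Multiplicative.ofAdd.injective this)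
    obtain ⟨x, hxX, hx⟩ := SetLike.exists_of_lt hX
    rw [hM] at hx
    have hl : inl x.left ∈ X := by
      have := mul_mem hxX (inv_mem (hX.le ⟨x.right, rfl⟩))
      rwa [show x * (ι x.right)⁻¹ = inl x.left from by
        conv_lhs => rw [← inl_left_mul_inr_right x]
        exact mul_inv_cancel_right _ _] at this
    have hall : ∀ v : Multiplicative V, inl v ∈ X := fun v => by
      rcases eq_or_ne v 1 with rfl | hv
      · rw [map_one]; exact one_mem X
      obtain ⟨l, hlv⟩ := exists_map F V (v := Multiplicative.toAdd x.left) (u := Multiplicative.toAdd v)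
        (fun h => hx (Multiplicative.toAdd.injective h)) (fun h => hv (Multiplicative.toAdd.injective h))
      have := mul_mem (mul_mem (hX.le ⟨l, rfl⟩) hl) (inv_mem (hX.le ⟨l, rfl⟩))
      rw [show ι l * inl x.left * (ι l)⁻¹ = inl (act F V l x.left) from by rw [inl_aut, map_inv]] at this
      rwa [show act F V l x.left = v from Multiplicative.toAdd.injective hlv] at this
    refine eq_top_iff.2 fun y _ => ?_
    rw [← inl_left_mul_inr_right y]
    exact mul_mem (hall _) (hX.le ⟨y.right, rfl⟩)
  · have hc := Subgroup.card_mul_index ι.range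
    rw [← Nat.card_congr (MonoidHom.ofInjective (f := ι) inr_injective).toEquiv, SemidirectProduct.card,
      mul_comm (Nat.card (Multiplicative V))] at hc
    rw [Nat.card_congr Multiplicative.toAdd] at hc
    haveI : Finite (V ≃ₗ[F] V) := Finite.of_injective (fun l : V ≃ₗ[F] V => (l : V → V)) DFunLike.coe_injective
    exact Nat.eq_of_mul_eq_mul_left Nat.card_pos hc
  · refine ⟨fun h => hH0.1 (eq_top_iff.2 fun l _ => ?_), fun X hX => ?_⟩
    · obtain ⟨l', hl', e⟩ := h.ge (Subgroup.mem_top (⟨ι l, l, rfl⟩ : ι.range))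
      rwa [← inr_injective e]
    have hlt : H0 < X.comap ι.rangeRestrict := by
      refine lt_of_le_of_ne (fun l hl => hX.le ⟨l, hl, rfl⟩) fun e => hX.ne (le_antisymm hX.le fun x hx => ?_)
      obtain ⟨l, rfl⟩ := ι.rangeRestrict_surjective x
      exact ⟨l, e.ge hx, rfl⟩
    refine eq_top_iff.2 fun x _ => ?_
    obtain ⟨l, rfl⟩ := ι.rangeRestrict_surjective x
    exact (hH0.2 _ hlt).ge (Subgroup.mem_top l)
  · exact Subgroup.isCoatom_comap_of_surjective rightHom_surjective hH0
  · rintro x ⟨l, hl, rfl⟩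
    show π (ι l) ∈ H0
    exact hl
  · intro hco
    let Y : Subgroup G :=
      { carrier := {x | x.right ∈ H0 ∧ Multiplicative.toAdd x.left ∈ W}
        one_mem' := ⟨one_mem H0, W.zero_mem⟩
        mul_mem' := fun {x y} hx hy => ⟨mul_mem hx.1 hy.1, W.add_mem hx.2 (hW _ hx.1 _ hy.2)⟩
        inv_mem' := fun {x} hx => ⟨inv_mem hx.1, hW _ (inv_mem hx.1) _ (W.neg_mem hx.2)⟩ }
    have h1 : (H0.map ι).subgroupOf (H0.comap π) < Y.subgroupOf (H0.comap π) := by
      refine lt_of_le_of_ne (fun x hx => ?_) fun h => ?_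
      · obtain ⟨l, hl, e⟩ := hx
        show (x : G) ∈ Y
        rw [show (x : G) = ι l from e.symm]
        exact ⟨hl, W.zero_mem⟩
      · have hmem : inl (Multiplicative.ofAdd e) ∈ H0.comap π := by
          show π (inl _) ∈ H0
          rw [rightHom_inl]; exact one_mem H0
        obtain ⟨l, -, he1⟩ := h.ge (show (⟨_, hmem⟩ : H0.comap π) ∈ Y.subgroupOf (H0.comap π) from
          ⟨one_mem H0, Submodule.mem_span_singleton_self e⟩)
        exact he (Multiplicative.ofAdd.injective (congrArg SemidirectProduct.left he1).symm)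
    have hmem : inl (Multiplicative.ofAdd e') ∈ H0.comap π := by
      show π (inl _) ∈ H0
      rw [rightHom_inl]; exact one_mem H0
    have h2 := (hco.2 _ h1).ge (Subgroup.mem_top (⟨_, hmem⟩ : H0.comap π))
    exact hne h2.2

end

/-- For every prime p and every d ≥ 2 there is a finite group G with a maximal subgroup M of index p^d and a maximal subgroup H of M that is not second maximal in G: some maximal subgroup K of G contains H without H being maximal in K. (One may take G the affine group V ⋊ GL(V) of V = 𝔽_p^d, M = GL(V), H the stabiliser in M of a line W of V, and K = V ⋊ H, with H < W ⋊ H < K.) So the prime-index hypothesis in the second-maximality criterion cannot be relaxed to prime-power index. -/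
theorem result (p d : ℕ) (hp : p.Prime)
    (hd : 2 ≤ d) :
    ∃ (G : Type) (_ : Group G) (_ : Finite G) (M H K : Subgroup G), IsCoatom M ∧ M.index = p ^ d ∧ H ≤ M ∧
      IsCoatom (H.subgroupOf M) ∧ IsCoatom K ∧ H ≤ K ∧ ¬ IsCoatom (H.subgroupOf K) := by
  haveI := Fact.mk hp
  let V := Fin d → ZMod p
  let e : V := Pi.single ⟨0, by omega⟩ 1
  let e' : V := Pi.single ⟨1, by omega⟩ 1
  have he : e ≠ 0 := fun h => by
    have := congrFun h ⟨0, by omega⟩
    simp only [e, Pi.single_eq_same] at this
    exact one_ne_zero (this.trans rfl)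
  have hne : e' ∉ Submodule.span (ZMod p) {e} := fun h => by
    obtain ⟨c, hc⟩ := Submodule.mem_span_singleton.1 h
    have := congrFun hc ⟨1, by omega⟩
    have e1 : (c • e) ⟨1, by omega⟩ = c * e ⟨1, by omega⟩ := rfl
    rw [e1] at this
    simp [e, e', Fin.ext_iff] at this
  haveI : Finite (V ≃ₗ[ZMod p] V) := Finite.of_injective (fun l : V ≃ₗ[ZMod p] V => (l : V → V)) DFunLike.coe_injective
  haveI : Finite (Multiplicative V ⋊[act (ZMod p) V] (V ≃ₗ[ZMod p] V)) := Finite.of_equiv _ SemidirectProduct.equivProd.symm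
  obtain ⟨M, H, K, h1, h2, h3⟩ := construction (ZMod p) V e e' he hne
  refine ⟨_, inferInstance, inferInstance, M, H, K, h1, ?_, h3⟩
  rw [h2, Nat.card_fun, Nat.card_zmod, Nat.card_fin]

end Cfsg.Agent.S5895
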