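import Cfsg.Statements.S5896

set_option autoImplicit false
open Cfsg

namespace Cfsg.Agent.S5896

open Matrix
open scoped commutatorElement

section

variable {R : Type*} [CommRing R]

local notation "SL2" R => Matrix.SpecialLinearGroup (Fin 2) R

/-- upper unipotent -/
def uE (a : R) : SL2 R := ⟨!![1, a; 0, 1], by simp [Matrix.det_fin_two]⟩

/-- lower unipotent -/
def lE (b : R) : SL2 R := ⟨!![1, 0; b, 1], by simp [Matrix.det_fin_two]⟩

/-- diagonal -/
def dE (t : Rˣ) : SL2 R := ⟨!![(t : R), 0; 0, (↑t⁻¹ : R)], by simp [Matrix.det_fin_two]⟩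

lemma ext2 {g h : SL2 R} (h00 : g.1 0 0 = h.1 0 0) (h01 : g.1 0 1 = h.1 0 1) (h10 : g.1 1 0 = h.1 1 0) (h11 : g.1 1 1 = h.1 1 1) :
    g = h := Subtype.ext (Matrix.ext fun i j => by fin_cases i <;> fin_cases j <;> assumption)

lemma mul_coe (g h : SL2 R) : (g * h).1 = g.1 * h.1 := rfl

lemma one_coe : (1 : SL2 R).1 = 1 := rfl

lemma uE_coe (a : R) : (uE a).1 = !![1, a; 0, 1] := rfl

lemma lE_coe (b : R) : (lE b).1 = !![1, 0; b, 1] := rfl

lemma dE_coe (t : Rˣ) : (dE t).1 = !![(t : R), 0; 0, (↑t⁻¹ : R)] := rfl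

lemma uE_mul (a b : R) : uE a * uE b = uE (a + b) := by
  refine ext2 ?_ ?_ ?_ ?_ <;> simp [uE_coe, mul_coe, one_coe, Matrix.mul_apply, Fin.sum_univ_two, add_comm]

lemma lE_mul (a b : R) : lE a * lE b = lE (a + b) := by
  refine ext2 ?_ ?_ ?_ ?_ <;> simp [lE_coe, mul_coe, one_coe, Matrix.mul_apply, Fin.sum_univ_two]

lemma uE_zero : uE (0 : R) = 1 := by refine ext2 ?_ ?_ ?_ ?_ <;> simp [uE_coe, mul_coe, one_coe]

lemma lE_zero : lE (0 : R) = 1 := by refine ext2 ?_ ?_ ?_ ?_ <;> simp [lE_coe, mul_coe, one_coe]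

lemma uE_inv (a : R) : (uE a)⁻¹ = uE (-a) := inv_eq_of_mul_eq_one_right (by rw [uE_mul, add_neg_cancel, uE_zero])

lemma lE_inv (a : R) : (lE a)⁻¹ = lE (-a) := inv_eq_of_mul_eq_one_right (by rw [lE_mul, add_neg_cancel, lE_zero])

lemma comm_dE_uE (t : Rˣ) (a : R) : ⁅dE t, uE a⁆ = uE (((t : R) * t - 1) * a) := by
  have h : dE t * uE a = uE (((t : R) * t - 1) * a) * uE a * dE t := by
    refine ext2 ?_ ?_ ?_ ?_ <;> simp [uE_coe, dE_coe, mul_coe, one_coe, Matrix.mul_apply, Fin.sum_univ_two]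
    linear_combination (-(t : R) * a) * t.mul_inv
  rw [commutatorElement_def, h]; group

lemma comm_dE_lE (t : Rˣ) (b : R) : ⁅dE t⁻¹, lE b⁆ = lE (((t : R) * t - 1) * b) := by
  have h : dE t⁻¹ * lE b = lE (((t : R) * t - 1) * b) * lE b * dE t⁻¹ := by
    refine ext2 ?_ ?_ ?_ ?_ <;> simp [lE_coe, dE_coe, mul_coe, one_coe, Matrix.mul_apply, Fin.sum_univ_two]
    linear_combination (-(t : R) * b) * t.mul_inv
  rw [commutatorElement_def, h]; group

lemma comm_uE_lE (a b : R) (t : Rˣ) (ht : (t : R) = 1 - a * b) :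
    ⁅uE a, lE b⁆ = uE (-(a * a * b) * ↑t⁻¹) * dE t⁻¹ * lE (a * b * b * ↑t⁻¹) := by
  rw [commutatorElement_def, uE_inv, lE_inv]
  refine ext2 ?_ ?_ ?_ ?_ <;> simp [uE_coe, lE_coe, dE_coe, mul_coe, one_coe, Matrix.mul_apply, Fin.sum_univ_two]
  · linear_combination (-(1 + a * b + a * a * b * b)) * t.mul_inv +
      ((↑t⁻¹ : R) * (1 + a * b + a * a * b * b)) * ht
  · linear_combination (-(a * a * b)) * t.mul_inv * 0
  · linear_combination (-(a * b * b)) * t.mul_inv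
  · linear_combination -ht

lemma mem_of_gen [Nontrivial R] (hR : ∀ g : SL2 R, IsUnit (g.1 0 0) ∨ IsUnit (g.1 1 0)) (X : Subgroup (SL2 R))
    (hu : ∀ a, uE a ∈ X) (hl : ∀ b, lE b ∈ X) : X = ⊤ := by
  have hC : ∀ g : SL2 R, IsUnit (g.1 1 0) → g ∈ X := fun g hg => by
    obtain ⟨c, hc⟩ := hg
    have e : g = uE ((g.1 0 0 - 1) * ↑c⁻¹) * lE (c : R) * uE ((g.1 1 1 - 1) * ↑c⁻¹) := by
      have hd : g.1 0 0 * g.1 1 1 - g.1 0 1 * g.1 1 0 = 1 := by rw [← Matrix.det_fin_two]; exact g.2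
      rw [← hc] at hd
      refine ext2 ?_ ?_ ?_ ?_ <;> simp [uE_coe, lE_coe, mul_coe, one_coe, Matrix.mul_apply, Fin.sum_univ_two, ← hc]
      · linear_combination -(↑c⁻¹ : R) * hd - g.1 0 1 * c.mul_inv
      · linear_combination -(g.1 1 1 - 1) * c.mul_inv
    rw [e]
    exact mul_mem (mul_mem (hu _) (hl _)) (hu _)
  refine (Subgroup.eq_top_iff' X).2 fun g => ?_
  rcases hR g with ⟨A, hA⟩ | h
  · by_cases hc : IsUnit (g.1 1 0)
    · exact hC g hc
    have hmem : lE ((1 - g.1 1 0) * ↑A⁻¹) * g ∈ X := by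
      refine hC _ ⟨1, ?_⟩
      simp [lE_coe, mul_coe, one_coe, Matrix.mul_apply, Fin.sum_univ_two, ← hA]
    simpa using mul_mem (inv_mem (hl ((1 - g.1 1 0) * ↑A⁻¹))) hmem
  · exact hC g h

lemma one_add_pow (c : R) (X : Matrix (Fin 2) (Fin 2) R) :
    ∀ m : ℕ, ∃ Z, (1 + c • X) ^ m = 1 + ((m : R) * c) • X + (c * c) • Z
  | 0 => ⟨0, by simp⟩
  | m + 1 => by
    obtain ⟨Z, hZ⟩ := one_add_pow c X m
    refine ⟨(m : R) • (X * X) + Z + c • (Z * X), ?_⟩
    rw [pow_succ, hZ]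
    simp only [mul_add, mul_one, add_mul, one_mul, Matrix.smul_mul, Matrix.mul_smul, smul_add, smul_smul, Nat.cast_succ]
    module

lemma pow_congr_one (p : ℕ) (g : SL2 R) (X : Matrix (Fin 2) (Fin 2) R) (hg : g.1 = 1 + (p : R) • X) :
    ∀ j : ℕ, ∃ Y : Matrix (Fin 2) (Fin 2) R, (g ^ (p ^ j)).1 = 1 + ((p : R) ^ (j + 1)) • Y
  | 0 => ⟨X, by simp [hg]⟩
  | j + 1 => by
    obtain ⟨Y, hY⟩ := pow_congr_one p g X hg j
    obtain ⟨Z, hZ⟩ := one_add_pow ((p : R) ^ (j + 1)) Y p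
    refine ⟨Y + ((p : R) ^ j) • Z, ?_⟩
    rw [pow_succ p j, pow_mul, Matrix.SpecialLinearGroup.coe_pow, hY, hZ]
    module

end

section

variable (n : ℕ)

local notation "Rn" => ZMod (5 ^ (n + 1))
local notation "Gn" => Matrix.SpecialLinearGroup (Fin 2) (ZMod (5 ^ (n + 1)))

instance : Fact (Nat.Prime 5) := ⟨by norm_num⟩

/-- reduction to the prime field -/
noncomputable def red : Gn →* Matrix.SpecialLinearGroup (Fin 2) (ZMod 5) :=
  Matrix.SpecialLinearGroup.map (ZMod.castHom (dvd_pow_self 5 (Nat.succ_ne_zero n)) (ZMod 5))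

lemma red_apply (g : Gn) (i j : Fin 2) : (red n g).1 i j = ZMod.castHom (dvd_pow_self 5 (Nat.succ_ne_zero n)) (ZMod 5) (g.1 i j) :=
  rfl

lemma dvd_of_red {x : Rn} (h : ZMod.castHom (dvd_pow_self 5 (Nat.succ_ne_zero n)) (ZMod 5) x = 0) : ∃ y : Rn, x = (5 : ℕ) * y := by
  have h' : ((x.val : ℕ) : ZMod 5) = 0 := by
    rwa [← ZMod.natCast_zmod_val x, map_natCast] at h
  obtain ⟨k, hk⟩ := (ZMod.natCast_eq_zero_iff _ _).1 h'
  refine ⟨(k : Rn), ?_⟩
  rw [← Nat.cast_mul, ← hk, ZMod.natCast_zmod_val]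

lemma isUnit_iff_red {x : Rn} : IsUnit x ↔ ZMod.castHom (dvd_pow_self 5 (Nat.succ_ne_zero n)) (ZMod 5) x ≠ 0 := by
  constructor
  · intro h
    exact (h.map _).ne_zero
  · intro h
    rw [← ZMod.natCast_zmod_val x, ZMod.isUnit_iff_coprime]
    refine (Nat.Coprime.pow_right _ ?_)
    rw [Nat.coprime_comm, Nat.Prime.coprime_iff_not_dvd (by norm_num)]
    intro h5
    apply h
    rw [← ZMod.natCast_zmod_val x, map_natCast]
    exact (ZMod.natCast_eq_zero_iff _ _).2 h5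

lemma unit_or (g : Gn) : IsUnit (g.1 0 0) ∨ IsUnit (g.1 1 0) := by
  rw [isUnit_iff_red, isUnit_iff_red]
  by_contra! hc
  have hd := (red n g).2
  rw [Matrix.det_fin_two, red_apply, red_apply, red_apply, red_apply, hc.1, hc.2, zero_mul, mul_zero, sub_zero] at hd
  exact zero_ne_one hd

/-- the upper triangular subgroup of the prime field group -/
def borel : Subgroup (Matrix.SpecialLinearGroup (Fin 2) (ZMod 5)) where
  carrier := {g | g.1 1 0 = 0}
  one_mem' := rfl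
  mul_mem' {g h} hg hh := by
    show (g.1 * h.1) 1 0 = 0
    simp only [Matrix.mul_apply, Fin.sum_univ_two, show g.1 1 0 = 0 from hg, show h.1 1 0 = 0 from hh, zero_mul, mul_zero, add_zero]
  inv_mem' {g} hg := by
    show (g⁻¹).1 1 0 = 0
    rw [Matrix.SpecialLinearGroup.coe_inv, Matrix.adjugate_fin_two]
    simpa using hg

lemma borel_solvable : Group.IsSolvable borel := by
  let φ : borel →* ZMod 5 :=
    { toFun := fun g => g.1.1 0 0
      map_one' := rfl
      map_mul' := fun g h => by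
        show (g.1.1 * h.1.1) 0 0 = _
        simp [Matrix.mul_apply, Fin.sum_univ_two, show h.1.1 1 0 = 0 from h.2] }
  let ψ : borel →* (ZMod 5)ˣ := φ.toHomUnits
  have hcomm : ∀ g h : ψ.ker, g * h = h * g := fun g h => by
    have key : ∀ k : ψ.ker, k.1.1.1 0 0 = 1 ∧ k.1.1.1 1 0 = 0 ∧ k.1.1.1 1 1 = 1 := fun k => by
      have h1 : k.1.1.1 0 0 = 1 := congrArg Units.val (MonoidHom.mem_ker.1 k.2)
      have h2 : k.1.1.1 1 0 = 0 := k.1.2
      have hd := k.1.1.2
      rw [Matrix.det_fin_two, h1, h2, one_mul, mul_zero, sub_zero] at hd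
      exact ⟨h1, h2, hd⟩
    obtain ⟨a1, a2, a3⟩ := key g
    obtain ⟨b1, b2, b3⟩ := key h
    refine Subtype.ext (Subtype.ext (ext2 ?_ ?_ ?_ ?_)) <;>
      simp [mul_coe, Matrix.mul_apply, Fin.sum_univ_two, a1, a2, a3, b1, b2, b3, add_comm]
  haveI : Group.IsSolvable ψ.ker := Group.isSolvable_of_comm hcomm
  exact Group.isSolvable_of_ker_le_range ψ.ker.subtype ψ (by simp)

/-- the preimage of the Borel subgroup -/
noncomputable def bigBorel : Subgroup Gn := borel.comap (red n)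

lemma bigBorel_solvable : Group.IsSolvable (bigBorel n) := by
  haveI := borel_solvable
  let ρ : bigBorel n →* borel := ((red n).comp (bigBorel n).subtype).codRestrict borel fun g => g.2
  have hp : IsPGroup 5 ρ.ker := fun ⟨g, hg⟩ => by
    have h1 : red n g.1 = 1 := congrArg Subtype.val (MonoidHom.mem_ker.1 hg)
    have h2 : ∀ i j, ∃ y : Rn, g.1.1 i j - (1 : Matrix (Fin 2) (Fin 2) Rn) i j = (5 : ℕ) * y := fun i j => by
      refine dvd_of_red n ?_
      rw [map_sub, ← red_apply, h1]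
      show (1 : Matrix (Fin 2) (Fin 2) (ZMod 5)) i j - _ = 0
      rcases eq_or_ne i j with rfl | hij
      · rw [Matrix.one_apply_eq, Matrix.one_apply_eq, map_one, sub_self]
      · rw [Matrix.one_apply_ne hij, Matrix.one_apply_ne hij, map_zero, sub_self]
    choose X hX using h2
    obtain ⟨Y, hY⟩ := pow_congr_one 5 g.1 (Matrix.of X) (Matrix.ext fun i j => by
      rw [Matrix.add_apply, Matrix.smul_apply, Matrix.of_apply, smul_eq_mul, ← hX]; ring) n
    refine ⟨n, Subtype.ext (Subtype.ext (Subtype.ext ?_))⟩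
    simp only [SubgroupClass.coe_pow]
    rw [hY, ← Nat.cast_pow, ZMod.natCast_self, zero_smul, add_zero]
    rfl
  haveI : Fact (Nat.Prime 5) := ⟨by norm_num⟩
  haveI : Finite ρ.ker := inferInstance
  haveI : Group.IsNilpotent ρ.ker := hp.isNilpotent
  exact Group.isSolvable_of_ker_le_range ρ.ker.subtype ρ (by simp)

/-- the congruence statement along the derived series -/
def Deep (e : ℕ) (D : Set Gn) : Prop :=
  (∀ y : Rn, uE ((5 : Rn) ^ e * y) ∈ D) ∧ (∀ y : Rn, lE ((5 : Rn) ^ e * y) ∈ D) ∧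
    ∀ t : Rnˣ, (∃ y : Rn, (t : Rn) = 1 + (5 : Rn) ^ e * y) → dE t ∈ D

lemma isUnit_one_add {e : ℕ} (he : 1 ≤ e) (y : Rn) : IsUnit (1 + (5 : Rn) ^ e * y) := by
  rw [isUnit_iff_red, map_add, map_one, map_mul, map_pow, map_ofNat, show (5 : ZMod 5) = 0 from by decide,
    zero_pow (by omega), zero_mul, add_zero]
  exact one_ne_zero

lemma deep_bigBorel : Deep n 1 (bigBorel n : Set Gn) := by
  have h5 : ZMod.castHom (dvd_pow_self 5 (Nat.succ_ne_zero n)) (ZMod 5) (5 : Rn) = 0 := by rw [map_ofNat]; decide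
  refine ⟨fun y => ?_, fun y => ?_, fun t _ => ?_⟩ <;> show (red n _).1 1 0 = 0 <;>
    rw [red_apply] <;> simp [uE_coe, lE_coe, dE_coe, h5, map_mul, -ZMod.castHom_apply]

lemma deep_step {e : ℕ} (he : 1 ≤ e) (D : Subgroup Gn) (hD : Deep n e (D : Set Gn)) : Deep n (2 * e) ((⁅D, D⁆ : Subgroup Gn) : Set Gn) := by
  obtain ⟨hu, hl, ht⟩ := hD
  obtain ⟨t, htv⟩ := isUnit_one_add n he 1
  have hu2 : IsUnit ((2 : Rn) + (5 : Rn) ^ e) := by
    rw [isUnit_iff_red, map_add, map_pow, map_ofNat, map_ofNat, show (5 : ZMod 5) = 0 from by decide, zero_pow (by omega), add_zero]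
    decide
  obtain ⟨c, hc⟩ := hu2
  have hts : (t : Rn) * t - 1 = (5 : Rn) ^ e * c := by rw [htv, hc]; ring
  have U : ∀ y : Rn, uE ((5 : Rn) ^ (2 * e) * y) ∈ ⁅D, D⁆ := fun y => by
    have := Subgroup.commutator_mem_commutator (ht t ⟨1, htv⟩) (hu (↑c⁻¹ * y))
    rwa [comm_dE_uE, hts, show (5 : Rn) ^ e * c * ((5 : Rn) ^ e * (↑c⁻¹ * y)) = (5 : Rn) ^ (2 * e) * y from by
      linear_combination ((5 : Rn) ^ (2 * e) * y) * c.mul_inv] at this
  have L : ∀ y : Rn, lE ((5 : Rn) ^ (2 * e) * y) ∈ ⁅D, D⁆ := fun y => by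
    have := Subgroup.commutator_mem_commutator (inv_mem (ht t ⟨1, htv⟩)) (hl (↑c⁻¹ * y))
    rwa [show (dE t)⁻¹ = dE t⁻¹ from inv_eq_of_mul_eq_one_right (by refine ext2 ?_ ?_ ?_ ?_ <;> simp [dE_coe, mul_coe, one_coe, Matrix.mul_apply, Fin.sum_univ_two]),
      comm_dE_lE, hts, show (5 : Rn) ^ e * c * ((5 : Rn) ^ e * (↑c⁻¹ * y)) = (5 : Rn) ^ (2 * e) * y from by
      linear_combination ((5 : Rn) ^ (2 * e) * y) * c.mul_inv] at this
  refine ⟨U, L, fun w ⟨y, hy⟩ => ?_⟩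
  -- the inverse of w
  obtain ⟨y', hy'⟩ : ∃ y', (↑w⁻¹ : Rn) = 1 + (5 : Rn) ^ (2 * e) * y' :=
    ⟨-y * ↑w⁻¹, by linear_combination w.mul_inv - (↑w⁻¹ : Rn) * hy⟩
  have h := Subgroup.commutator_mem_commutator (hu 1) (hl (-y'))
  rw [comm_uE_lE ((5 : Rn) ^ e * 1) ((5 : Rn) ^ e * -y') w⁻¹ (by rw [hy']; ring)] at h
  rw [inv_inv] at h
  have h1 : uE (-((5 : Rn) ^ e * 1 * ((5 : Rn) ^ e * 1) * ((5 : Rn) ^ e * -y')) * ↑w) ∈ ⁅D, D⁆ := by
    convert U (-((5 : Rn) ^ e * -y') * ↑w) using 2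
    ring
  have h2 : lE ((5 : Rn) ^ e * 1 * ((5 : Rn) ^ e * -y') * ((5 : Rn) ^ e * -y') * ↑w) ∈ ⁅D, D⁆ := by
    convert L ((5 : Rn) ^ e * y' * y' * ↑w) using 2
    ring
  have := mul_mem (mul_mem (inv_mem h1) h) (inv_mem h2)
  rwa [← mul_assoc, ← mul_assoc, inv_mul_cancel, one_mul, mul_inv_cancel_right] at this

lemma perfect : commutator Gn = ⊤ := by
  haveI : Nontrivial Rn := ZMod.nontrivial_iff.2 (Nat.one_lt_pow (Nat.succ_ne_zero n) (by norm_num)).ne'
  have h2 : IsUnit (2 : Rn) := by rw [isUnit_iff_red, map_ofNat]; decide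
  obtain ⟨t, ht⟩ := h2
  have h3 : IsUnit ((t : Rn) * t - 1) := by rw [isUnit_iff_red, ht, map_sub, map_mul, map_ofNat, map_one]; decide
  obtain ⟨c, hc⟩ := h3
  refine mem_of_gen (unit_or n) _ (fun a => ?_) fun b => ?_
  · have := Subgroup.commutator_mem_commutator (Subgroup.mem_top (dE t)) (Subgroup.mem_top (uE (↑c⁻¹ * a)))
    rwa [comm_dE_uE, ← hc, Units.mul_inv_cancel_left] at this
  · have := Subgroup.commutator_mem_commutator (Subgroup.mem_top (dE t⁻¹)) (Subgroup.mem_top (lE (↑c⁻¹ * b)))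
    rwa [comm_dE_lE, ← hc, Units.mul_inv_cancel_left] at this

lemma coatom : IsCoatom (bigBorel n) := by
  haveI : Nontrivial Rn := ZMod.nontrivial_iff.2 (Nat.one_lt_pow (Nat.succ_ne_zero n) (by norm_num)).ne'
  have hU : ∀ a : Rn, uE a ∈ bigBorel n := fun a => by
    show (red n _).1 1 0 = 0
    rw [red_apply]; simp [uE_coe, mul_coe, one_coe]
  refine ⟨fun h => ?_, fun X hX => ?_⟩
  · have := h.ge (Subgroup.mem_top (lE (1 : Rn)))
    change (red n _).1 1 0 = 0 at this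
    rw [red_apply] at this
    simp [lE_coe, mul_coe, one_coe] at this
  obtain ⟨g, hgX, hg⟩ := SetLike.exists_of_lt hX
  have hgc : IsUnit (g.1 1 0) := (isUnit_iff_red n).2 fun h => hg h
  obtain ⟨c, hc⟩ := hgc
  have hl : lE (c : Rn) ∈ X := by
    have hd : g.1 0 0 * g.1 1 1 - g.1 0 1 * g.1 1 0 = 1 := by rw [← Matrix.det_fin_two]; exact g.2
    rw [← hc] at hd
    have e : uE ((g.1 0 0 - 1) * ↑c⁻¹) * lE (c : Rn) * uE ((g.1 1 1 - 1) * ↑c⁻¹) = g := by
      refine ext2 ?_ ?_ ?_ ?_ <;> simp [uE_coe, lE_coe, mul_coe, one_coe, Matrix.mul_apply, Fin.sum_univ_two, ← hc]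
      · linear_combination (↑c⁻¹ : Rn) * hd + g.1 0 1 * c.mul_inv
      · linear_combination (g.1 1 1 - 1) * c.mul_inv
    have := mul_mem (mul_mem (inv_mem (hX.le (hU ((g.1 0 0 - 1) * ↑c⁻¹)))) hgX) (inv_mem (hX.le (hU ((g.1 1 1 - 1) * ↑c⁻¹))))
    have e' : lE (c : Rn) = (uE ((g.1 0 0 - 1) * ↑c⁻¹))⁻¹ * g * (uE ((g.1 1 1 - 1) * ↑c⁻¹))⁻¹ := by
      rw [eq_mul_inv_iff_mul_eq, eq_inv_mul_iff_mul_eq, ← mul_assoc]
      exact e
    rwa [← e'] at this
  have hL : ∀ b : Rn, lE b ∈ X := fun b => by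
    have key : ∀ k : ℕ, lE ((k : Rn) * c) ∈ X := fun k => by
      induction k with
      | zero => rw [Nat.cast_zero, zero_mul, lE_zero]; exact one_mem X
      | succ k ih =>
        rw [Nat.cast_succ, add_mul, one_mul, ← lE_mul]
        exact mul_mem ih hl
    have := key (b * ↑c⁻¹ : Rn).val
    rwa [ZMod.natCast_zmod_val, Units.inv_mul_cancel_right] at this
  exact mem_of_gen (unit_or n) X (fun a => hX.le (hU a)) hL

end

/-- Finite perfect groups have solvable maximal subgroups of unbounded derived length: for every d there is a finite perfect group G (equal to its commutator subgroup) with a solvable maximal subgroup H whose derived length exceeds d, i.e. the d-th term of the derived series of H is non-trivial. (Take the derived subgroup of a wreath product S ≀ A₅ with S solvable of large derived length, and H the preimage of a maximal subgroup of A₅.) -/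
theorem result (d : ℕ) :
    ∃ (G : Type) (_ : Group G) (_ : Finite G) (H : Subgroup G), commutator G = ⊤ ∧ IsCoatom H ∧ Group.IsSolvable H ∧
      derivedSeries H d ≠ ⊥ := by
  haveI : Fact (Nat.Prime 5) := ⟨by norm_num⟩
  let n := 2 ^ d
  haveI : NeZero (5 ^ (n + 1)) := ⟨pow_ne_zero _ (by norm_num)⟩
  refine ⟨Matrix.SpecialLinearGroup (Fin 2) (ZMod (5 ^ (n + 1))), inferInstance, inferInstance, bigBorel n, perfect n, coatom n,
    bigBorel_solvable n, fun h => ?_⟩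
  have key : ∀ j, Deep n (2 ^ j) (((derivedSeries (bigBorel n) j).map (bigBorel n).subtype : Subgroup _) : Set _) := fun j => by
    induction j with
    | zero =>
      rw [derivedSeries_zero, ← MonoidHom.range_eq_map, Subgroup.range_subtype, pow_zero]
      exact deep_bigBorel n
    | succ j ih =>
      rw [derivedSeries_succ, Subgroup.map_commutator, pow_succ']
      exact deep_step n (Nat.one_le_two_pow) _ ih
  have h1 := (key d).1 1
  rw [h, Subgroup.map_bot, SetLike.mem_coe, Subgroup.mem_bot] at h1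
  have h2 := congrArg (fun g : Matrix.SpecialLinearGroup (Fin 2) (ZMod (5 ^ (n + 1))) => g.1 0 1) h1
  simp only [uE, Matrix.SpecialLinearGroup.coe_one] at h2
  have h3 : ((5 ^ n : ℕ) : ZMod (5 ^ (n + 1))) = 0 := by push_cast; simpa using h2
  rw [ZMod.natCast_eq_zero_iff] at h3
  have := Nat.le_of_dvd (Nat.pow_pos (by norm_num)) h3
  exact absurd this (not_le.2 (Nat.pow_lt_pow_succ (by norm_num)))

end Cfsg.Agent.S5896
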