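import Cfsg.Statements.S5902

set_option autoImplicit false
open Cfsg

namespace Cfsg.Agent.S5902

/-- a complement for every subgroup outside the unique maximal subgroup over `X` -/
lemma compl_of_not_le {G : Type*} [Group G] [Finite G] (X M : Subgroup G) (hK : ComplementedLattice (Subgroup X))
    (huniq : ∀ M' : Subgroup G, IsCoatom M' → X ≤ M' → M' = M) (H : Subgroup G) (hH : ¬ H ≤ M) :
    ∃ C : Subgroup G, H ⊔ C = ⊤ ∧ H ⊓ C = ⊥ := by
  obtain ⟨Y, hY⟩ := hK.exists_isCompl (H.subgroupOf X)
  refine ⟨Y.map X.subtype, ?_, ?_⟩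
  · by_contra hne
    obtain ⟨M', hM', hle⟩ := (eq_top_or_exists_le_coatom (H ⊔ Y.map X.subtype)).resolve_left hne
    refine hH (huniq M' hM' ?_ ▸ le_sup_left.trans hle)
    have h := congrArg (Subgroup.map X.subtype) hY.sup_eq_top
    rw [Subgroup.map_sup, Subgroup.subgroupOf_map_subtype, ← MonoidHom.range_eq_map, Subgroup.range_subtype] at h
    rw [← h]
    exact sup_le ((inf_le_left.trans le_sup_left).trans hle) (le_sup_right.trans hle)
  · rw [eq_bot_iff]
    rintro x ⟨hxH, y, hy, rfl⟩
    have : y ∈ H.subgroupOf X ⊓ Y := ⟨hxH, hy⟩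
    rw [hY.inf_eq_bot, Subgroup.mem_bot] at this
    simp [this]

/-- the same after conjugation -/
lemma compl_conj {G : Type*} [Group G] [Finite G] (X M : Subgroup G) (hK : ComplementedLattice (Subgroup X))
    (huniq : ∀ M' : Subgroup G, IsCoatom M' → X ≤ M' → M' = M) (H : Subgroup G) (a : G)
    (hH : ¬ H ≤ M.map (MulAut.conj a).toMonoidHom) :
    ∃ C : Subgroup G, H ⊔ C = ⊤ ∧ H ⊓ C = ⊥ := by
  let e : Subgroup G ≃o Subgroup G := (MulAut.conj a).mapSubgroup
  obtain ⟨C, h1, h2⟩ := compl_of_not_le X M hK huniq (e.symm H)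
    (fun h => hH (by have := e.monotone h; rwa [OrderIso.apply_symm_apply] at this))
  refine ⟨e C, ?_, ?_⟩
  · have := congrArg e h1
    simpa only [map_sup, OrderIso.apply_symm_apply, map_top] using this
  · have := congrArg e h2
    simpa only [map_inf, OrderIso.apply_symm_apply, map_bot] using this

/-- Let G be a finite group, X a subgroup whose own subgroup lattice is complemented, and suppose X lies in exactly one maximal subgroup M of G. Then every subgroup H of G not contained in the normal core of M has a complement in the subgroup lattice of G (some C with H ⊔ C = G and H ⊓ C = 1); in particular the subgroup lattice of G modulo the normal core of M is complemented. -/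
theorem result {G : Type*} [Group G] [Finite G] (X M : Subgroup G)
    (hK : ComplementedLattice (Subgroup X))
    (hM : IsCoatom M) (hXM : X ≤ M) (huniq : ∀ M' : Subgroup G, IsCoatom M' → X ≤ M' → M' = M) :
    (∀ H : Subgroup G, ¬ H ≤ M.normalCore → ∃ C : Subgroup G, H ⊔ C = ⊤ ∧ H ⊓ C = ⊥) ∧
    ComplementedLattice (Subgroup (G ⧸ M.normalCore)) := by
  have key : ∀ H : Subgroup G, ¬ H ≤ M.normalCore → ∃ C : Subgroup G, H ⊔ C = ⊤ ∧ H ⊓ C = ⊥ := by
    intro H hH
    obtain ⟨h, hh, hh'⟩ := SetLike.not_le_iff_exists.1 hH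
    have : ∃ b : G, b * h * b⁻¹ ∉ M := by
      by_contra hcon
      push Not at hcon
      exact hh' hcon
    obtain ⟨b, hb⟩ := this
    refine compl_conj X M hK huniq H b⁻¹ fun hle => hb ?_
    obtain ⟨m, hm, hmh⟩ := hle hh
    have : b * h * b⁻¹ = m := by rw [← hmh]; simp [mul_assoc]
    exact this ▸ hm
  refine ⟨key, ⟨fun Hb => ?_⟩⟩
  set N := M.normalCore
  set q := QuotientGroup.mk' N
  by_cases hb : Hb.comap q ≤ N
  · refine ⟨⊤, disjoint_iff.2 ?_, codisjoint_top_right⟩
    rw [inf_top_eq, ← Subgroup.map_comap_eq_self_of_surjective (QuotientGroup.mk'_surjective N) Hb,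
      Subgroup.map_eq_bot_iff, QuotientGroup.ker_mk']
    exact hb
  obtain ⟨C, h1, h2⟩ := key _ hb
  refine ⟨C.map q, disjoint_iff.2 ?_, codisjoint_iff.2 ?_⟩
  · rw [eq_bot_iff]
    rintro x ⟨hx, c, hc, rfl⟩
    have : c ∈ Hb.comap q ⊓ C := ⟨hx, hc⟩
    rw [h2, Subgroup.mem_bot] at this
    simp [this]
  · rw [← Subgroup.map_comap_eq_self_of_surjective (QuotientGroup.mk'_surjective N) Hb, ← Subgroup.map_sup, h1,
      Subgroup.map_top_of_surjective _ (QuotientGroup.mk'_surjective N)]

end Cfsg.Agent.S5902
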