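import Cfsg.Statements.S5903
import Cfsg.Agent.S5901

set_option autoImplicit false
open Cfsg

namespace Cfsg.Agent.S5903

/-- Let G be a finite simple group, X a subgroup lying in exactly one maximal subgroup M of G, and N a subgroup of prime order with N ≤ X that is central in M. If the subgroup lattice of X/N is complemented, then the subgroup lattice of G is complemented. -/
theorem result {G : Type*} [Group G] [Finite G] [IsSimpleGroup G] (X M N : Subgroup G)
    (hM : IsCoatom M) (hXM : X ≤ M) (huniq : ∀ M' : Subgroup G, IsCoatom M' → X ≤ M' → M' = M)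
    (hNX : N ≤ X) (hN : (Nat.card N).Prime) (hcen : ∀ n ∈ N, ∀ m ∈ M, m * n = n * m)
    [(N.subgroupOf X).Normal] (hK : ComplementedLattice (Subgroup (X ⧸ N.subgroupOf X))) :
    ComplementedLattice (Subgroup G) := by
  classical
  by_cases hcomm : ∀ a b : G, a * b = b * a
  · -- abelian simple: the lattice is trivial
    refine ⟨fun H => ?_⟩
    rcases (⟨fun n hn g => by rw [hcomm g n, mul_inv_cancel_right]; exact hn⟩ : H.Normal).eq_bot_or_eq_top with h | h
    · exact ⟨⊤, h ▸ isCompl_bot_top⟩
    · exact ⟨⊥, h ▸ isCompl_top_bot⟩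
  refine ⟨fun H => ?_⟩
  by_cases hb : H = ⊥
  · exact ⟨⊤, hb ▸ isCompl_bot_top⟩
  by_cases ht : H = ⊤
  · exact ⟨⊥, ht ▸ isCompl_top_bot⟩
  -- a conjugate avoiding H
  suffices hex : ∃ a : G, ¬ H ≤ M.map (MulAut.conj a).toMonoidHom ∧ ¬ N.map (MulAut.conj a).toMonoidHom ≤ H by
    obtain ⟨a, hHM, hNH⟩ := hex
    let e : Subgroup G ≃o Subgroup G := (MulAut.conj a).mapSubgroup
    have hHM' : ¬ e.symm H ≤ M := fun h => hHM (by have := e.monotone h; rwa [OrderIso.apply_symm_apply] at this)
    have hHN' : e.symm H ⊓ N = ⊥ := by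
      have : Fact (Nat.card N).Prime := ⟨hN⟩
      rcases Subgroup.eq_bot_or_eq_top_of_prime_card ((e.symm H).subgroupOf N) with h | h
      · exact disjoint_iff.1 (Subgroup.subgroupOf_eq_bot.1 h)
      · exact absurd (by have := e.monotone (Subgroup.subgroupOf_eq_top.1 h); rwa [OrderIso.apply_symm_apply] at this) hNH
    have hXtop : X ≠ ⊤ := fun h => hM.1 (eq_top_iff.2 (h ▸ hXM))
    have hint : ∀ Y : Subgroup G, N ≤ Y → Y ≤ X → ∃ C : Subgroup G, N ≤ C ∧ C ≤ X ∧ Y ⊔ C = X ∧ Y ⊓ C = N := by
      intro Y hNY hYX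
      set q := QuotientGroup.mk' (N.subgroupOf X)
      have hker : N.subgroupOf X ≤ Y.subgroupOf X := Subgroup.comap_mono hNY
      have hY : ((Y.subgroupOf X).map q).comap q = Y.subgroupOf X := by
        rw [Subgroup.comap_map_eq, QuotientGroup.ker_mk', sup_eq_left.2 hker]
      obtain ⟨Z, hZ⟩ := hK.exists_isCompl ((Y.subgroupOf X).map q)
      have hsup : Y.subgroupOf X ⊔ Z.comap q = ⊤ := by
        rw [← hY, Subgroup.comap_sup_eq _ _ _ (QuotientGroup.mk'_surjective _), hZ.sup_eq_top, Subgroup.comap_top]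
      have hinf : Y.subgroupOf X ⊓ Z.comap q = N.subgroupOf X := by
        rw [← hY, ← Subgroup.comap_inf, hZ.inf_eq_bot, MonoidHom.comap_bot, QuotientGroup.ker_mk']
      refine ⟨(Z.comap q).map X.subtype, ?_, Subgroup.map_subtype_le _, ?_, ?_⟩
      · have := Subgroup.map_mono (f := X.subtype) (hinf.symm.le.trans inf_le_right)
        rwa [Subgroup.subgroupOf_map_subtype, inf_eq_left.2 hNX] at this
      · have := congrArg (Subgroup.map X.subtype) hsup
        rwa [Subgroup.map_sup, Subgroup.subgroupOf_map_subtype, inf_eq_left.2 hYX, ← MonoidHom.range_eq_map,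
          Subgroup.range_subtype] at this
      · have := congrArg (Subgroup.map X.subtype) hinf
        rwa [Subgroup.map_inf _ _ _ (Subgroup.subtype_injective X), Subgroup.subgroupOf_map_subtype, inf_eq_left.2 hYX,
          Subgroup.subgroupOf_map_subtype, inf_eq_left.2 hNX] at this
    obtain ⟨C, h1, h2⟩ := Cfsg.Agent.S5901.result N X M hNX hXtop hint hM hXM huniq (e.symm H) hHM' hHN'
    refine ⟨e C, disjoint_iff.2 ?_, codisjoint_iff.2 ?_⟩
    · have := congrArg e h2
      simpa only [map_inf, OrderIso.apply_symm_apply, map_bot] using this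
    · have := congrArg e h1
      simpa only [map_sup, OrderIso.apply_symm_apply, map_top] using this
  by_contra hcon
  push Not at hcon
  let A : Set G := {a | N.map (MulAut.conj a).toMonoidHom ≤ H}
  let SA : Subgroup G := ⨆ a ∈ A, N.map (MulAut.conj a).toMonoidHom
  let SB : Subgroup G := ⨆ a ∈ Aᶜ, N.map (MulAut.conj a).toMonoidHom
  have hSAH : SA ≤ H := iSup₂_le fun a ha => ha
  have hBM : ∀ b ∈ Aᶜ, H ≤ M.map (MulAut.conj b).toMonoidHom := fun b hb => by
    by_contra h
    exact hb (hcon b h)
  -- SA and SB commute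
  have hSB : SB ≤ Subgroup.centralizer (SA : Set G) := by
    refine iSup₂_le fun b hb => ?_
    rw [Subgroup.le_centralizer_iff]
    refine (hSAH.trans (hBM b hb)).trans ?_
    rintro _ ⟨m, hm, rfl⟩
    rw [Subgroup.mem_centralizer_iff]
    rintro _ ⟨x, hx, rfl⟩
    rw [← map_mul, ← map_mul, hcen x hx m hm]
  have hgen : SA ⊔ SB = ⊤ := by
    let T : Subgroup G := ⨆ a : G, N.map (MulAut.conj a).toMonoidHom
    have hTn : T.Normal := by
      refine ⟨fun t ht g => ?_⟩
      have hle : T.map (MulAut.conj g).toMonoidHom ≤ T := by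
        rw [Subgroup.map_iSup]
        refine iSup_le fun a => le_iSup_of_le (g * a) ?_
        rw [Subgroup.map_map]
        refine le_of_eq (congrArg (N.map ·) ?_)
        ext x; simp [mul_assoc]
      simpa using hle ⟨t, ht, rfl⟩
    have hT : T = ⊤ := by
      refine hTn.eq_bot_or_eq_top.resolve_left fun h => ?_
      have h1 : N.map (MulAut.conj (1 : G)).toMonoidHom ≤ ⊥ := h ▸ le_iSup (fun a : G => N.map (MulAut.conj a).toMonoidHom) 1
      rw [le_bot_iff, Subgroup.map_eq_bot_iff_of_injective N (MulAut.conj (1 : G)).injective] at h1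
      rw [h1] at hN
      simp at hN
      exact Nat.not_prime_one hN
    rw [eq_top_iff, ← hT]
    refine iSup_le fun a => ?_
    by_cases ha : a ∈ A
    · exact le_trans (le_biSup (fun a => N.map (MulAut.conj a).toMonoidHom) ha) le_sup_left
    · exact le_trans (le_biSup (fun a => N.map (MulAut.conj a).toMonoidHom) (show a ∈ Aᶜ from ha)) le_sup_right
  have hSAn : SA.Normal := by
    rw [← Subgroup.normalizer_eq_top_iff, eq_top_iff, ← hgen]
    refine sup_le Subgroup.le_normalizer (hSB.trans fun x hx => Subgroup.mem_normalizer_iff.2 fun y => ?_)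
    have hc := Subgroup.mem_centralizer_iff.1 hx
    constructor
    · intro hy
      have : x * y * x⁻¹ = y := by rw [← hc y hy, mul_inv_cancel_right]
      rwa [this]
    · intro hy
      have h2 : y = x⁻¹ * (x * y * x⁻¹) * x := by group
      rw [h2, mul_assoc, hc _ hy, inv_mul_cancel_left]
      exact hy
  rcases hSAn.eq_bot_or_eq_top with h | h
  · -- no conjugate lies in H, so H lies in every conjugate of M
    have hall : ∀ b : G, H ≤ M.map (MulAut.conj b).toMonoidHom := by
      intro b
      apply hBM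
      intro hb
      have h1 : N.map (MulAut.conj b).toMonoidHom ≤ ⊥ := h ▸ le_biSup (fun a => N.map (MulAut.conj a).toMonoidHom) hb
      rw [le_bot_iff, Subgroup.map_eq_bot_iff_of_injective N (MulAut.conj b).injective] at h1
      rw [h1] at hN
      simp at hN
      exact Nat.not_prime_one hN
    have hcore : H ≤ M.normalCore := fun x hx b => by
      obtain ⟨m, hm, hmx⟩ := hall b⁻¹ hx
      have : b * x * b⁻¹ = m := by rw [← hmx]; simp [mul_assoc]
      exact this ▸ hm
    rcases (inferInstance : M.normalCore.Normal).eq_bot_or_eq_top with h' | h'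
    · exact hb (le_bot_iff.1 (h' ▸ hcore))
    · exact hM.1 (eq_top_iff.2 (h' ▸ M.normalCore_le))
  · exact ht (eq_top_iff.2 (h ▸ hSAH))

end Cfsg.Agent.S5903
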