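import Cfsg.Statements.S5904

set_option autoImplicit false
open scoped Pointwise
open Cfsg

namespace Cfsg.Agent.S5904

/-- Let Ω be a finite set with more than two elements and O ⊆ Ω a subset with exactly as many elements as its complement. Then the setwise stabilizer of O in the symmetric group on Ω is not a maximal subgroup (it is properly contained in the stabilizer of the partition {O, Ω ∖ O}, which is proper). -/
theorem result {Ω : Type*} [Fintype Ω] [DecidableEq Ω] (hΩ : 2 < Fintype.card Ω)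
    (O : Set Ω) (hO : Nat.card O = Nat.card ↥Oᶜ) :
    ¬ IsCoatom (MulAction.stabilizer (Equiv.Perm Ω) O) := by
  classical
  intro hco
  rw [Nat.card_coe_set_eq, Nat.card_coe_set_eq] at hO
  have hfin : O.ncard + Oᶜ.ncard = Fintype.card Ω := by
    rw [Set.ncard_add_ncard_compl, Nat.card_eq_fintype_card]
  let e : ↥O ≃ ↥Oᶜ := Classical.choice (Finite.card_eq.1 (by rw [Nat.card_coe_set_eq, Nat.card_coe_set_eq]; exact hO))
  let t : Ω → Ω := fun x => if h : x ∈ O then (e ⟨x, h⟩ : Ω) else (e.symm ⟨x, h⟩ : Ω)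
  have ht : Function.Involutive t := by
    intro x
    by_cases h : x ∈ O
    · have h' : (e ⟨x, h⟩ : Ω) ∉ O := (e ⟨x, h⟩).2
      simp [t, h, h']
    · simp [t, h]
  let τ : Equiv.Perm Ω := ht.toPerm t
  let S : Subgroup (Equiv.Perm Ω) :=
    { carrier := {g | g • O = O ∨ g • O = Oᶜ}
      one_mem' := Or.inl (one_smul _ _)
      mul_mem' := by
        rintro a b ha (hb | hb)
        · simpa [mul_smul, hb] using ha
        · rcases ha with ha | ha
          · right; rw [mul_smul, hb, Set.smul_set_compl, ha]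
          · left; rw [mul_smul, hb, Set.smul_set_compl, ha, compl_compl]
      inv_mem' := by
        rintro a (ha | ha)
        · left; rw [inv_smul_eq_iff, ha]
        · right; rw [inv_smul_eq_iff, Set.smul_set_compl, ha, compl_compl] }
  have hτ : τ • O = Oᶜ := by
    ext x
    constructor
    · rintro ⟨y, hy, rfl⟩
      show t y ∈ Oᶜ
      simp only [t, dif_pos hy]
      exact (e ⟨y, hy⟩).2
    · intro hx
      refine ⟨(e.symm ⟨x, hx⟩ : Ω), (e.symm ⟨x, hx⟩).2, ?_⟩
      show t _ = x
      simp [t]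
  have hOne : O ≠ Oᶜ := fun h => by
    obtain ⟨x⟩ : Nonempty Ω := Fintype.card_pos_iff.1 (by omega)
    by_cases hx : x ∈ O
    · exact (h ▸ hx : x ∈ Oᶜ) hx
    · exact hx (h.symm ▸ (show x ∈ Oᶜ from hx))
  have hlt : MulAction.stabilizer (Equiv.Perm Ω) O < S := by
    refine lt_of_le_of_ne (fun g hg => Or.inl hg) fun h => hOne ?_
    have : τ ∈ MulAction.stabilizer (Equiv.Perm Ω) O := h ▸ (Or.inr hτ : τ ∈ S)
    rw [MulAction.mem_stabilizer_iff, hτ] at this
    exact this.symm
  have hS := hco.2 S hlt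
  obtain ⟨a, b, ha, hb, hab⟩ := (Set.one_lt_ncard_iff (Set.toFinite O)).1 (show 1 < O.ncard by omega)
  obtain ⟨c, hc⟩ : ∃ c, c ∈ Oᶜ := (Set.ncard_pos (s := Oᶜ)).1 (by omega)
  have hmem : Equiv.swap a c ∈ S := hS ▸ Subgroup.mem_top _
  have hbi : b ∈ Equiv.swap a c • O :=
    ⟨b, hb, Equiv.swap_apply_of_ne_of_ne hab.symm (fun h => hc (h ▸ hb))⟩
  have hci : c ∈ Equiv.swap a c • O := ⟨a, ha, Equiv.swap_apply_left a c⟩
  rcases hmem with h | h
  · exact hc (h ▸ hci)
  · exact (h ▸ hbi : b ∈ Oᶜ) hb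

end Cfsg.Agent.S5904
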