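import Cfsg.Statements.S5905

set_option autoImplicit false
open Cfsg

namespace Cfsg.Agent.S5905

open Equiv MulAction
open scoped Pointwise

section

variable {Ω : Type*} [Fintype Ω] [DecidableEq Ω] {a b : ℕ} {f : Ω → Fin b}

/-- the permutations preserving the fibres -/
def pres (f : Ω → Fin b) : Subgroup (Perm Ω) where
  carrier := {g | ∀ x y, f x = f y ↔ f (g x) = f (g y)}
  mul_mem' hg hh x y := (hh x y).trans (hg _ _)
  one_mem' _ _ := Iff.rfl
  inv_mem' {g} hg x y := by rw [hg (g⁻¹ x) (g⁻¹ y), ← Perm.mul_apply, ← Perm.mul_apply, mul_inv_cancel, Perm.one_apply, Perm.one_apply]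

lemma closure_eq (f : Ω → Fin b) :
    Subgroup.closure {g : Perm Ω | ∀ x y : Ω, f x = f y ↔ f (g x) = f (g y)} = pres f := Subgroup.closure_eq (pres f)

lemma swap_mem {x y : Ω} (h : f x = f y) : swap x y ∈ pres f := by
  have : ∀ z, f (swap x y z) = f z := fun z => by
    rw [swap_apply_def]; split_ifs with h1 h2 <;> simp [*]
  intro u v
  rw [this, this]

variable (hf : ∀ i : Fin b, Nat.card {x : Ω // f x = i} = a)
include hf

lemma exists_lift (τ : Perm (Fin b)) : ∃ g ∈ pres f, ∀ x, f (g x) = τ (f x) := by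
  have e : ∀ i, {x : Ω // f x = i} ≃ {x : Ω // f x = τ i} := fun i => Classical.choice (by
    rw [← Cardinal.eq, ← Nat.cast_card, ← Nat.cast_card, hf, hf])
  let g : Ω ≃ Ω := (sigmaFiberEquiv f).symm.trans ((Equiv.sigmaCongr τ e).trans (sigmaFiberEquiv f))
  have hg : ∀ x, f (g x) = τ (f x) := fun x => (e (f x) ⟨x, rfl⟩).2
  exact ⟨g, fun x y => by rw [hg, hg, τ.injective.eq_iff], hg⟩

lemma exists_map (x y : Ω) : ∃ g ∈ pres f, g x = y := by
  obtain ⟨g, hg, hgf⟩ := exists_lift hf (swap (f x) (f y))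
  refine ⟨swap (g x) y * g, mul_mem (swap_mem (by rw [hgf, swap_apply_left])) hg, ?_⟩
  rw [Perm.mul_apply, swap_apply_left]

lemma exists_other (ha : 2 ≤ a) (x : Ω) : ∃ x', f x' = f x ∧ x' ≠ x := by
  by_contra! hc
  have : Subsingleton {z : Ω // f z = f x} := ⟨fun u v => Subtype.ext ((hc u u.2).trans (hc v v.2).symm)⟩
  have := hf (f x)
  have := Finite.card_le_one_iff_subsingleton.2 (inferInstance : Subsingleton {z : Ω // f z = f x})
  omega

omit hf

/-- a block of an overgroup is a full fibre, unless trivial -/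
lemma block_eq (hf : ∀ i : Fin b, Nat.card {x : Ω // f x = i} = a) (ha : 2 ≤ a) {K : Subgroup (Perm Ω)} (hK : pres f ≤ K)
    {B : Set Ω} (hB : IsBlock K B) {x : Ω} (hx : x ∈ B) (h2 : B.Nontrivial) (hu : B ≠ Set.univ) :
    ∀ z, z ∈ B ↔ f z = f x := by
  have mv : ∀ g ∈ pres f, ∀ u ∈ B, g u ∈ B → ∀ z ∈ B, g z ∈ B := fun g hg u hu' hgu z hz => by
    have h := hB.smul_eq_of_nonempty (g := ⟨g, hK hg⟩) ⟨g u, ⟨u, hu', rfl⟩, hgu⟩
    rw [← h]
    exact ⟨z, hz, rfl⟩
  have sub : ∀ z ∈ B, f z = f x := by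
    by_contra! hc
    obtain ⟨y, hy, hyx⟩ := hc
    have h1 : ∀ z, f z = f y → z ∈ B := fun z hz => by
      have hxy : x ≠ y := fun h => hyx (by rw [h])
      have hxz : x ≠ z := fun h => hyx (by rw [h, hz])
      have := mv _ (swap_mem hz.symm) x hx (by rwa [swap_apply_of_ne_of_ne hxy hxz]) y hy
      rwa [swap_apply_left] at this
    have h2 : ∀ z, f z = f x → z ∈ B := fun z hz => by
      have hyx' : y ≠ x := fun h => hyx (by rw [h])
      have hyz : y ≠ z := fun h => hyx (by rw [h, hz])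
      have := mv _ (swap_mem hz.symm) y hy (by rwa [swap_apply_of_ne_of_ne hyx' hyz]) x hx
      rwa [swap_apply_left] at this
    refine hu (Set.eq_univ_of_forall fun z => ?_)
    by_cases hzx : f z = f x
    · exact h2 z hzx
    by_cases hzy : f z = f y
    · exact h1 z hzy
    obtain ⟨g, hg, hgf⟩ := exists_lift hf (swap (f y) (f z))
    have hgx : g x ∈ B := h2 _ (by rw [hgf, swap_apply_of_ne_of_ne (Ne.symm hyx) (Ne.symm hzx)])
    have h3 := mv g hg x hx hgx y hy
    have hf3 : f (g y) = f z := by rw [hgf, swap_apply_left]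
    have hne : x ≠ g y ∧ x ≠ z := ⟨fun h => hzx (by rw [h, hf3]), fun h => hzx (by rw [h])⟩
    have := mv _ (swap_mem hf3) x hx (by rwa [swap_apply_of_ne_of_ne hne.1 hne.2]) _ h3
    rwa [swap_apply_left] at this
  refine fun z => ⟨sub z, fun hz => ?_⟩
  obtain ⟨y, hy, hyx⟩ := h2.exists_ne x
  rcases eq_or_ne z x with rfl | hzx
  · exact hx
  have := mv _ (swap_mem ((sub y hy).trans hz.symm)) x hx (by rwa [swap_apply_of_ne_of_ne hyx.symm hzx.symm]) y hy
  rwa [swap_apply_left] at this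

theorem isCoatom_pres (hf : ∀ i : Fin b, Nat.card {x : Ω // f x = i} = a) (ha : 2 ≤ a) (hb : 2 ≤ b) : IsCoatom (pres f) := by
  have hne : ∀ i, ∃ x, f x = i := fun i => by
    have : 0 < Nat.card {x : Ω // f x = i} := by rw [hf]; omega
    obtain ⟨x⟩ := (Nat.card_pos_iff.1 this).1
    exact ⟨x, x.2⟩
  obtain ⟨x, hx⟩ := hne ⟨0, by omega⟩
  obtain ⟨y, hy⟩ := hne ⟨1, by omega⟩
  obtain ⟨x', hx', hxx'⟩ := exists_other hf ha x
  refine ⟨fun h => ?_, fun K hK => ?_⟩
  · have hxy : x ≠ y := fun h => by rw [h, hy] at hx; simp [Fin.ext_iff] at hx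
    have hx'y : x' ≠ y := fun h => by rw [h, hy, hx] at hx'; simp [Fin.ext_iff] at hx'
    have := (h.ge (Subgroup.mem_top (swap x y)) x x').1 hx'.symm
    rw [swap_apply_left, swap_apply_of_ne_of_ne hxx' hx'y, hx', hx, hy] at this
    simp [Fin.ext_iff] at this
  obtain ⟨g, hgK, hg⟩ := SetLike.exists_of_lt hK
  have : IsPretransitive K Ω := ⟨fun u v => by
    obtain ⟨g, hg, e⟩ := exists_map hf u v
    exact ⟨⟨g, hK.le hg⟩, e⟩⟩
  have hprim : IsPreprimitive K Ω := ⟨fun {B} hB => by
    by_contra hc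
    simp only [IsTrivialBlock, not_or] at hc
    obtain ⟨hsub, hu⟩ := hc
    rw [Set.not_subsingleton_iff] at hsub
    obtain ⟨u, hu'⟩ := hsub.nonempty
    have h1 := block_eq hf ha hK.le hB hu' hsub hu
    refine hg fun p q => ?_
    have key : ∀ p, ∀ k : K, ∀ q, f p = f q ↔ f ((k : Perm Ω) p) = f ((k : Perm Ω) q) := fun p k q => by
      obtain ⟨t, ht, rfl⟩ := exists_map hf u p
      let k' : K := k * ⟨t, hK.le ht⟩
      have h2 := block_eq hf ha hK.le (hB.translate k') (x := (k' : Perm Ω) u) ⟨u, hu', rfl⟩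
        (hsub.image (MulAction.injective k')) (fun h => hu (by
          rw [← Set.image_eq_image (MulAction.injective k'), Set.image_univ_of_surjective (MulAction.surjective k')]
          exact h))
      obtain ⟨r, rfl⟩ := t.surjective q
      rw [← ht u r]
      have h3 : (k' : Perm Ω) r ∈ k' • B ↔ r ∈ B := Set.smul_mem_smul_set_iff
      rw [h2, h1] at h3
      constructor
      · exact fun e => (h3.2 e.symm).symm
      · exact fun e => (h3.1 e.symm).symm
    exact key p ⟨g, hgK⟩ q⟩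
  exact Perm.subgroup_eq_top_of_isPreprimitive_of_isSwap_mem hprim _ ⟨x, x', hxx'.symm, rfl⟩ (hK.le (swap_mem hx'.symm))

end

/-- Let Ω be a finite set and f : Ω → Fin b a map onto b ≥ 2 labels whose fibres all have the same size a ≥ 2 (a partition of Ω into b blocks of size a, so |Ω| = ab). Then the stabilizer of this partition in the symmetric group on Ω — the permutations g such that x and y lie in the same block exactly when g x and g y do, a group isomorphic to the imprimitive wreath product S_a ≀ S_b — is a maximal subgroup of the symmetric group. -/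
theorem result {Ω : Type*} [Fintype Ω] [DecidableEq Ω] (a b : ℕ) (ha : 2 ≤ a) (hb : 2 ≤ b)
    (f : Ω → Fin b) (hf : ∀ i : Fin b, Nat.card {x : Ω // f x = i} = a) :
    IsCoatom (Subgroup.closure {g : Equiv.Perm Ω | ∀ x y : Ω, f x = f y ↔ f (g x) = f (g y)}) := by
  rw [closure_eq]
  exact isCoatom_pres hf ha hb

end Cfsg.Agent.S5905
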