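import Cfsg.Statements.S5908
import Cfsg.Agent.Classical.UnitaryThreeTwo

set_option autoImplicit false
open Cfsg

namespace Cfsg.Agent.S5908

/-- The subgroup lattice of PSU₃(2) (the solvable group of order 72, realised over the field with 4 elements) is not complemented: some subgroup H has no subgroup X with H ⊔ X = ⊤ and H ⊓ X = ⊥. -/
theorem result {F : Type*} [Field F] [Fintype F] (hF : Fintype.card F = 4) :
    ¬ ComplementedLattice (Subgroup (Cfsg.PSU 3 F 2)) := by
  intro hc
  obtain ⟨ψ⟩ := Cfsg.Agent.Classical.U32.psu32_equiv hF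
  obtain ⟨N, hN, hN9, -, ⟨φ⟩⟩ := Cfsg.Agent.Classical.U32.structure_psu32
  let π : Cfsg.PSU 3 F 2 →* QuaternionGroup 2 :=
    (φ.toMonoidHom.comp (QuotientGroup.mk' N)).comp ψ.toMonoidHom
  have hπ : Function.Surjective π :=
    (φ.surjective.comp (QuotientGroup.mk'_surjective N)).comp ψ.surjective
  let Z : Subgroup (QuaternionGroup 2) := Subgroup.zpowers (QuaternionGroup.a 2)
  have hZn : Z.Normal := ⟨fun z hz g => by
    have key : ∀ g : QuaternionGroup 2, g * QuaternionGroup.a 2 * g⁻¹ = QuaternionGroup.a 2 := by decide +kernel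
    obtain ⟨k, rfl⟩ := hz
    show g * QuaternionGroup.a 2 ^ k * g⁻¹ ∈ Z
    rw [← conj_zpow, key]
    exact ⟨k, rfl⟩⟩
  have hZi : Z.index = 4 := by
    have h := Z.index_mul_card
    rw [Nat.card_zpowers, Nat.card_eq_fintype_card] at h
    have ho : orderOf (QuaternionGroup.a 2 : QuaternionGroup 2) = 2 := orderOf_eq_prime (by decide +kernel) (by decide +kernel)
    rw [ho, show Fintype.card (QuaternionGroup 2) = 8 from rfl] at h
    omega
  obtain ⟨X, hX⟩ := hc.exists_isCompl (Z.comap π)
  have hn : (Z.comap π).Normal := hZn.comap π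
  have hcompl : Subgroup.IsComplement' (Z.comap π) X :=
    Subgroup.isComplement'_of_disjoint_and_mul_eq_univ hX.disjoint (by
      rw [← Subgroup.normal_mul, hX.sup_eq_top, Subgroup.coe_top])
  have hX4 : Nat.card X = 4 := by
    rw [← hcompl.symm.index_eq_card, Subgroup.index_comap_of_surjective _ hπ, hZi]
  have : Fact (Nat.Prime 2) := ⟨Nat.prime_two⟩
  obtain ⟨x, hx⟩ := exists_prime_orderOf_dvd_card' (G := X) 2 (by rw [hX4]; norm_num)
  have hx2 : (x : Cfsg.PSU 3 F 2) ^ 2 = 1 := by
    have h1 := pow_orderOf_eq_one x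
    rw [hx] at h1
    simpa using congrArg Subtype.val h1
  have hmem : (x : Cfsg.PSU 3 F 2) ∈ Z.comap π := by
    have key : ∀ q : QuaternionGroup 2, q ^ 2 = 1 → q = 1 ∨ q = QuaternionGroup.a 2 := by decide +kernel
    rw [Subgroup.mem_comap]
    rcases key (π x) (by rw [← map_pow, hx2, map_one]) with h | h
    · rw [h]; exact one_mem _
    · rw [h]; exact Subgroup.mem_zpowers _
  have h1 : (x : Cfsg.PSU 3 F 2) = 1 := Subgroup.mem_bot.1 (hX.disjoint.le_bot ⟨hmem, x.2⟩)
  rw [show x = 1 from Subtype.ext h1, orderOf_one] at hx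
  norm_num at hx

end Cfsg.Agent.S5908
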