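import Cfsg.Statements.S5909
import Cfsg.Agent.S5905

set_option autoImplicit false
open Cfsg

namespace Cfsg.Agent.S5909

open Equiv MulAction
open scoped Pointwise
open Cfsg.Agent.S5905 (pres exists_lift exists_other)

section

variable {Ω : Type*} [Fintype Ω] [DecidableEq Ω] {a b : ℕ} {f : Ω → Fin b}

lemma exists_third (hf : ∀ i : Fin b, Nat.card {x : Ω // f x = i} = a) (ha : 3 ≤ a) (x y : Ω) :
    ∃ z, f z = f x ∧ z ≠ x ∧ z ≠ y := by
  by_contra! hc
  have h : Set.ncard {z | f z = f x} ≤ 2 := (Set.ncard_le_ncard (t := {x, y}) (fun z hz => by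
    rcases eq_or_ne z x with h | h
    · exact Or.inl h
    · exact Or.inr (hc z hz h))).trans (by
        have := Set.ncard_insert_le x ({y} : Set Ω)
        rwa [Set.ncard_singleton] at this)
  rw [← Nat.card_coe_set_eq] at h
  have := hf (f x)
  change Nat.card {z // f z = f x} ≤ 2 at h
  omega

lemma cycle_mem {x y z : Ω} (hxy : x ≠ y) (hxz : x ≠ z) (hyz : y ≠ z) (h1 : f x = f y) (h2 : f x = f z) :
    swap x y * swap x z ∈ pres f ⊓ alternatingGroup Ω :=
  ⟨mul_mem (S5905.swap_mem h1) (S5905.swap_mem h2),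
    (Perm.isThreeCycle_swap_mul_swap_same hxy hxz hyz).mem_alternatingGroup⟩

lemma double_mem {x y u v : Ω} (hxy : x ≠ y) (huv : u ≠ v) (h1 : f x = f y) (h2 : f u = f v) :
    swap x y * swap u v ∈ pres f ⊓ alternatingGroup Ω :=
  ⟨mul_mem (S5905.swap_mem h1) (S5905.swap_mem h2), Perm.mem_alternatingGroup.2 (by simp [Perm.sign_swap hxy, Perm.sign_swap huv])⟩

/-- even permutations preserving the fibres induce all permutations of the labels -/
lemma exists_lift_even (hf : ∀ i : Fin b, Nat.card {x : Ω // f x = i} = a) (ha : 2 ≤ a) (x : Ω) (τ : Perm (Fin b)) :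
    ∃ g ∈ pres f ⊓ alternatingGroup Ω, ∀ x, f (g x) = τ (f x) := by
  obtain ⟨g, hg, hgf⟩ := exists_lift hf τ
  obtain ⟨x', hx', hne⟩ := exists_other hf ha x
  rcases Int.units_eq_one_or (Perm.sign g) with h | h
  · exact ⟨g, ⟨hg, Perm.mem_alternatingGroup.2 h⟩, hgf⟩
  · refine ⟨swap x' x * g, ⟨mul_mem (S5905.swap_mem hx') hg, Perm.mem_alternatingGroup.2 (by simp [Perm.sign_swap hne, h])⟩,
      fun z => ?_⟩
    rw [Perm.mul_apply, ← hgf z, swap_apply_def]
    split_ifs with h1 h2 <;> simp [*]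

/-- a point of a fibre moves to any other point of it, fixing a point outside -/
lemma mover (hf : ∀ i : Fin b, Nat.card {x : Ω // f x = i} = a) (ha : 2 ≤ a) (h : 3 ≤ a ∨ 3 ≤ b) {x y z : Ω}
    (hyz : f y = f z) (hx : f x ≠ f y) : ∃ g ∈ pres f ⊓ alternatingGroup Ω, g y = z ∧ g x = x := by
  rcases eq_or_ne y z with rfl | hne
  · exact ⟨1, one_mem _, rfl, rfl⟩
  have hxy : x ≠ y := fun e => hx (by rw [e])
  have hxz : x ≠ z := fun e => hx (by rw [e, hyz])
  rcases h with h | h
  · obtain ⟨w, hw, hwy, hwz⟩ := exists_third hf h y z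
    have hxw : x ≠ w := fun e => hx (by rw [e, hw])
    refine ⟨_, cycle_mem hne.symm hwz.symm hwy.symm hyz.symm (hyz.symm.trans hw.symm), ?_, ?_⟩
    · rw [Perm.mul_apply, swap_apply_of_ne_of_ne hne hwy.symm, swap_apply_right]
    · rw [Perm.mul_apply, swap_apply_of_ne_of_ne hxz hxw, swap_apply_of_ne_of_ne hxz hxy]
  · obtain ⟨k, -, hk⟩ := Finset.exists_mem_notMem_of_card_lt_card (s := ({f x, f y} : Finset (Fin b))) (t := Finset.univ)
      (Finset.card_le_two.trans_lt (by rw [Finset.card_univ, Fintype.card_fin]; omega))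
    simp only [Finset.mem_insert, Finset.mem_singleton, not_or] at hk
    obtain ⟨⟨u, hu⟩⟩ : Nonempty {x : Ω // f x = k} := (Nat.card_pos_iff.1 (by rw [hf]; omega)).1
    obtain ⟨v, hv, hvu⟩ := exists_other hf ha u
    refine ⟨_, double_mem hne hvu.symm hyz hv.symm, ?_, ?_⟩
    · have h1 : y ≠ u := fun e => hk.2 (by rw [e, hu])
      have h2 : y ≠ v := fun e => hk.2 (by rw [e, hv, hu])
      rw [Perm.mul_apply, swap_apply_of_ne_of_ne h1 h2, swap_apply_left]
    · have h1 : x ≠ u := fun e => hk.1 (by rw [e, hu])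
      have h2 : x ≠ v := fun e => hk.1 (by rw [e, hv, hu])
      rw [Perm.mul_apply, swap_apply_of_ne_of_ne h1 h2, swap_apply_of_ne_of_ne hxy hxz]

lemma block_eq (hf : ∀ i : Fin b, Nat.card {x : Ω // f x = i} = a) (ha : 2 ≤ a) (hab : 3 ≤ a ∨ 3 ≤ b)
    {K : Subgroup (Perm Ω)} (hK : pres f ⊓ alternatingGroup Ω ≤ K)
    {B : Set Ω} (hB : IsBlock K B) {x : Ω} (hx : x ∈ B) (h2 : B.Nontrivial) (hu : B ≠ Set.univ) :
    ∀ z, z ∈ B ↔ f z = f x := by
  have mv : ∀ g ∈ pres f ⊓ alternatingGroup Ω, ∀ u ∈ B, g u ∈ B → ∀ z ∈ B, g z ∈ B := fun g hg u hu' hgu z hz => by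
    have h := hB.smul_eq_of_nonempty (g := ⟨g, hK hg⟩) ⟨g u, ⟨u, hu', rfl⟩, hgu⟩
    rw [← h]
    exact ⟨z, hz, rfl⟩
  have ext' : ∀ x ∈ B, ∀ y ∈ B, f x ≠ f y → ∀ z, f z = f y → z ∈ B := fun x hx y hy hxy z hz => by
    obtain ⟨g, hg, hgy, hgx⟩ := mover hf ha hab hz.symm hxy
    exact hgy ▸ mv g hg x hx (hgx.symm ▸ hx) y hy
  have sub : ∀ z ∈ B, f z = f x := by
    by_contra! hc
    obtain ⟨y, hy, hyx⟩ := hc
    refine hu (Set.eq_univ_of_forall fun z => ?_)
    by_cases hzx : f z = f x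
    · exact ext' y hy x hx hyx z hzx
    by_cases hzy : f z = f y
    · exact ext' x hx y hy (Ne.symm hyx) z hzy
    obtain ⟨g, hg, hgf⟩ := exists_lift_even hf ha x (swap (f y) (f z))
    have hgx' : f (g x) = f x := by rw [hgf, swap_apply_of_ne_of_ne (Ne.symm hyx) (Ne.symm hzx)]
    have h3 := mv g hg x hx (ext' y hy x hx hyx _ hgx') y hy
    have hf3 : f (g y) = f z := by rw [hgf, swap_apply_left]
    exact ext' x hx _ h3 (by rw [hf3]; exact Ne.symm hzx) z hf3.symm
  refine fun z => ⟨sub z, fun hz => ?_⟩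
  obtain ⟨y, hy, hyx⟩ := h2.exists_ne x
  rcases eq_or_ne z x with rfl | hzx
  · exact hx
  rcases eq_or_ne z y with rfl | hzy
  · exact hy
  -- the three-cycle x ↦ y ↦ z
  have hc := cycle_mem (f := f) hyx hzy.symm hzx.symm (sub y hy) ((sub y hy).trans hz.symm)
  have h1 : (swap y x * swap y z) x = y := by
    rw [Perm.mul_apply, swap_apply_of_ne_of_ne hyx.symm hzx.symm, swap_apply_right]
  have := mv _ hc x hx (by rwa [h1]) y hy
  rwa [Perm.mul_apply, swap_apply_left, swap_apply_of_ne_of_ne hzy hzx] at this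

lemma threeCycle_of_pairs (hf : ∀ i : Fin b, Nat.card {x : Ω // f x = i} = 2) (hb : 5 ≤ b) {K : Subgroup (Perm Ω)}
    (hK : pres f ⊓ alternatingGroup Ω ≤ K) {g : Perm Ω} (hgK : g ∈ K) (hg : g ∉ pres f) :
    ∃ c ∈ K, c.IsThreeCycle := by
  have hmate : ∀ x, ∃ x', f x' = f x ∧ x' ≠ x ∧ ∀ z, f z = f x → z = x ∨ z = x' := fun x => by
    obtain ⟨x', hx', hne⟩ := exists_other hf le_rfl x
    refine ⟨x', hx', hne, fun z hz => ?_⟩
    by_contra! hc
    have h3 := Finset.card_le_univ (s := ({⟨x, rfl⟩, ⟨x', hx'⟩, ⟨z, hz⟩} : Finset {w // f w = f x}))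
    rw [Finset.card_eq_three.2 ⟨_, _, _, by simpa using hne.symm, by simpa using hc.1.symm, by simpa using hc.2.symm, rfl⟩,
      ← Nat.card_eq_fintype_card, hf] at h3
    omega
  choose μ hμf hμne hμ using hmate
  -- two fibres whose image is not a union of two fibres
  obtain ⟨u, v, huv, p, hp, hp'⟩ : ∃ u v, f u ≠ f v ∧ ∃ p, (f p = f u ∨ f p = f v) ∧
      ¬(f (g⁻¹ (μ (g p))) = f u ∨ f (g⁻¹ (μ (g p))) = f v) := by
    by_contra! hc
    refine hg ?_
    have key : ∀ p, f (g⁻¹ (μ (g p))) = f p := fun p => by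
      obtain ⟨i, -, hi⟩ := Finset.exists_mem_notMem_of_card_lt_card (s := ({f p, f (g⁻¹ (μ (g p)))} : Finset (Fin b)))
        (t := Finset.univ) (Finset.card_le_two.trans_lt (by rw [Finset.card_univ, Fintype.card_fin]; omega))
      simp only [Finset.mem_insert, Finset.mem_singleton, not_or] at hi
      obtain ⟨⟨w, hw⟩⟩ : Nonempty {x : Ω // f x = i} := (Nat.card_pos_iff.1 (by rw [hf]; omega)).1
      rcases hc p w (fun h => hi.1 (by rw [h, hw])) p (Or.inl rfl) with h | h
      · exact h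
      · exact absurd (h.trans hw).symm hi.2
    have hmap : ∀ p, μ (g p) = g (μ p) := fun p => by
      rcases hμ p _ (key p) with h | h
      · rw [Perm.inv_eq_iff_eq] at h; exact absurd h (hμne (g p))
      · rwa [Perm.inv_eq_iff_eq] at h
    intro x y
    constructor
    · intro h
      rcases hμ x y h.symm with rfl | rfl
      · rfl
      · rw [← hmap, hμf]
    · intro h
      rcases hμ (g x) (g y) h.symm with h' | h'
      · rw [g.injective h']
      · rw [hmap] at h'; rw [g.injective h', hμf]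
  have hconj := mul_mem (mul_mem hgK (hK (double_mem (hμne u).symm (hμne v).symm (hμf u).symm (hμf v).symm))) (inv_mem hgK)
  have hconj' : swap (g u) (g (μ u)) * swap (g v) (g (μ v)) ∈ K := by
    rwa [Equiv.swap_apply_apply, Equiv.swap_apply_apply, show g * swap u (μ u) * g⁻¹ * (g * swap v (μ v) * g⁻¹)
      = g * (swap u (μ u) * swap v (μ v)) * g⁻¹ by group]
  set x := swap (g u) (g (μ u)) * swap (g v) (g (μ v)) with hx
  have hsupp : ∀ z, x z ≠ z → f (g⁻¹ z) = f u ∨ f (g⁻¹ z) = f v := fun z hz => by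
    by_contra! hc
    refine hz ?_
    have e : ∀ w, f w = f u ∨ f w = f v → z ≠ g w := fun w hw e => by
      have : g⁻¹ z = w := by rw [Perm.inv_eq_iff_eq]; exact e
      rcases hw with h | h
      · exact hc.1 (by rw [this, h])
      · exact hc.2 (by rw [this, h])
    rw [hx, Perm.mul_apply, swap_apply_of_ne_of_ne (e v (Or.inr rfl)) (e _ (Or.inr (hμf v))),
      swap_apply_of_ne_of_ne (e u (Or.inl rfl)) (e _ (Or.inl (hμf u)))]
  set q := g p
  have hq' : x (μ q) = μ q := by
    by_contra h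
    exact (hsupp _ h).elim (fun e => hp' (Or.inl e)) fun e => hp' (Or.inr e)
  have hqx : x q ≠ q := by
    have hd : ∀ {s t s' : Ω}, f s ≠ f t → f s' = f s → g s' ≠ g t := fun hst hs' e => hst (by rw [← hs', g.injective e])
    have hμu := hμne u; have hμv := hμne v
    rcases hp with hp | hp
    · rcases hμ u p hp with rfl | rfl
      · rw [hx, Perm.mul_apply, swap_apply_of_ne_of_ne (hd huv rfl) (hd (by rw [hμf v]; exact huv) rfl), swap_apply_left]
        exact g.injective.ne (hμne p)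
      · rw [hx, Perm.mul_apply, swap_apply_of_ne_of_ne (hd huv (hμf u)) (hd (by rw [hμf v]; exact huv) (hμf u)), swap_apply_right]
        exact g.injective.ne (hμne u).symm
    · rcases hμ v p hp with rfl | rfl
      · rw [hx, Perm.mul_apply, swap_apply_left, swap_apply_of_ne_of_ne (hd huv.symm (hμf p)) (hd (by rw [hμf u]; exact huv.symm) (hμf p))]
        exact g.injective.ne (hμne p)
      · rw [hx, Perm.mul_apply, swap_apply_right, swap_apply_of_ne_of_ne (hd huv.symm rfl) (hd (by rw [hμf u]; exact huv.symm) rfl)]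
        exact g.injective.ne (hμne v).symm
  obtain ⟨k, -, hk⟩ := Finset.exists_mem_notMem_of_card_lt_card (s := ({f (g u), f (g (μ u)), f (g v), f (g (μ v))} : Finset (Fin b)))
    (t := Finset.univ) (lt_of_le_of_lt Finset.card_le_four (by rw [Finset.card_univ, Fintype.card_fin]; omega))
  simp only [Finset.mem_insert, Finset.mem_singleton, not_or] at hk
  obtain ⟨⟨w, hw⟩⟩ : Nonempty {x : Ω // f x = k} := (Nat.card_pos_iff.1 (by rw [hf]; omega)).1
  have hfix : ∀ z, f z = k → x z = z := fun z hz => by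
    have h1 : z ≠ g v := fun e => hk.2.2.1 (by rw [← hz, e])
    have h2 : z ≠ g (μ v) := fun e => hk.2.2.2 (by rw [← hz, e])
    have h3 : z ≠ g u := fun e => hk.1 (by rw [← hz, e])
    have h4 : z ≠ g (μ u) := fun e => hk.2.1 (by rw [← hz, e])
    rw [hx, Perm.mul_apply, swap_apply_of_ne_of_ne h1 h2, swap_apply_of_ne_of_ne h3 h4]
  have hy := hK (double_mem (hμne q).symm (hμne w).symm (hμf q).symm (hμf w).symm)
  refine ⟨x * (swap q (μ q) * swap w (μ w)) * x⁻¹ * (swap q (μ q) * swap w (μ w))⁻¹,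
    mul_mem (mul_mem (mul_mem hconj' hy) (inv_mem hconj')) (inv_mem hy), ?_⟩
  have e1 : x * (swap q (μ q) * swap w (μ w)) * x⁻¹ = swap (x q) (μ q) * swap w (μ w) := by
    have h : swap (x q) (x (μ q)) * swap (x w) (x (μ w)) = x * (swap q (μ q) * swap w (μ w)) * x⁻¹ := by
      rw [Equiv.swap_apply_apply, Equiv.swap_apply_apply]
      group
    rw [hq', hfix w hw, hfix (μ w) ((hμf w).trans hw)] at h
    exact h.symm
  rw [e1, mul_inv_rev, swap_inv, swap_inv, mul_assoc, ← mul_assoc (swap w (μ w)) (swap w (μ w)), swap_mul_self, one_mul,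
    swap_comm (x q), swap_comm q]
  refine Perm.isThreeCycle_swap_mul_swap_same (fun e => hqx (x.injective ?_)) (hμne q) hqx
  rw [← hq'] at e
  exact absurd (x.injective e) (hμne q)

lemma exists_ne_label (hb : 2 ≤ b) (i : Fin b) : ∃ j : Fin b, j ≠ i :=
  Fintype.exists_ne_of_one_lt_card (by rw [Fintype.card_fin]; omega) i

theorem maximal_big (hf : ∀ i : Fin b, Nat.card {x : Ω // f x = i} = a) (ha : 2 ≤ a) (hb : 2 ≤ b)
    (h : 3 ≤ a ∨ 5 ≤ b) {K : Subgroup (Perm Ω)} (hK : pres f ⊓ alternatingGroup Ω ≤ K) {g : Perm Ω} (hgK : g ∈ K)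
    (hg : g ∉ pres f) : alternatingGroup Ω ≤ K := by
  have hab : 3 ≤ a ∨ 3 ≤ b := h.imp_right fun h => by omega
  have hne : ∀ i, ∃ x, f x = i := fun i => by
    obtain ⟨⟨x, hx⟩⟩ := (Nat.card_pos_iff.1 (show 0 < Nat.card {x : Ω // f x = i} by rw [hf]; omega)).1
    exact ⟨x, hx⟩
  have hmap : ∀ x y, ∃ g ∈ pres f ⊓ alternatingGroup Ω, g x = y := fun x y => by
    obtain ⟨g, hg, hgf⟩ := exists_lift_even hf ha x (swap (f x) (f y))
    obtain ⟨j, hj⟩ := exists_ne_label hb (f y)
    obtain ⟨w, rfl⟩ := hne j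
    have hgx : f (g x) = f y := by rw [hgf, swap_apply_left]
    obtain ⟨k, hk, hky, -⟩ := mover hf ha hab hgx (x := w) (by rw [hgx]; exact hj)
    exact ⟨k * g, mul_mem hk hg, hky⟩
  have : IsPretransitive K Ω := ⟨fun u v => by
    obtain ⟨g, hg, e⟩ := hmap u v
    exact ⟨⟨g, hK hg⟩, e⟩⟩
  have hprim : IsPreprimitive K Ω := ⟨fun {B} hB => by
    by_contra hc
    simp only [IsTrivialBlock, not_or] at hc
    obtain ⟨hsub, hu⟩ := hc
    rw [Set.not_subsingleton_iff] at hsub
    obtain ⟨u, hu'⟩ := hsub.nonempty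
    have h1 := block_eq hf ha hab hK hB hu' hsub hu
    refine hg fun p q => ?_
    have key : ∀ p, ∀ k : K, ∀ q, f p = f q ↔ f ((k : Perm Ω) p) = f ((k : Perm Ω) q) := fun p k q => by
      obtain ⟨t, ht, rfl⟩ := hmap u p
      let k' : K := k * ⟨t, hK ht⟩
      have h2 := block_eq hf ha hab hK (hB.translate k') (x := (k' : Perm Ω) u) ⟨u, hu', rfl⟩
        (hsub.image (MulAction.injective k')) (fun h => hu (by
          rw [← Set.image_eq_image (MulAction.injective k'), Set.image_univ_of_surjective (MulAction.surjective k')]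
          exact h))
      obtain ⟨r, rfl⟩ := t.surjective q
      rw [← ht.1 u r]
      have h3 : (k' : Perm Ω) r ∈ k' • B ↔ r ∈ B := Set.smul_mem_smul_set_iff
      rw [h2, h1] at h3
      constructor
      · exact fun e => (h3.2 e.symm).symm
      · exact fun e => (h3.1 e.symm).symm
    exact key p ⟨g, hgK⟩ q⟩
  obtain ⟨c, hcK, hc⟩ : ∃ c ∈ K, c.IsThreeCycle := by
    by_cases ha3 : 3 ≤ a
    · obtain ⟨x, -⟩ := hne ⟨0, by omega⟩
      obtain ⟨x', hx', hxx'⟩ := exists_other hf ha x
      obtain ⟨z, hz, hzx, hzx'⟩ := exists_third hf ha3 x x'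
      exact ⟨_, hK (cycle_mem hxx'.symm hzx.symm hzx'.symm hx'.symm hz.symm),
        Perm.isThreeCycle_swap_mul_swap_same hxx'.symm hzx.symm hzx'.symm⟩
    · obtain rfl : a = 2 := by omega
      exact threeCycle_of_pairs hf (h.resolve_left ha3) hK hgK hg
  exact Equiv.Perm.alternatingGroup_le_of_isPreprimitive_of_isThreeCycle_mem hprim hc hcK

end

section

variable {Ω : Type*} [Fintype Ω] [DecidableEq Ω] {a b : ℕ} {f : Ω → Fin b}

lemma not_le_pres (hf : ∀ i : Fin b, Nat.card {x : Ω // f x = i} = a) (ha : 2 ≤ a) (hb : 2 ≤ b) :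
    ∃ g ∈ alternatingGroup Ω, g ∉ pres f := by
  have hne : ∀ i, ∃ x, f x = i := fun i => by
    obtain ⟨⟨x, hx⟩⟩ := (Nat.card_pos_iff.1 (show 0 < Nat.card {x : Ω // f x = i} by rw [hf]; omega)).1
    exact ⟨x, hx⟩
  obtain ⟨x, hx⟩ := hne ⟨0, by omega⟩
  obtain ⟨y, hy⟩ := hne ⟨1, by omega⟩
  obtain ⟨x', hx', hne'⟩ := exists_other hf ha x
  have hfxy : f x ≠ f y := by rw [hx, hy]; simp [Fin.ext_iff]
  have hxy : x ≠ y := fun e => hfxy (by rw [e])
  have hx'y : x' ≠ y := fun e => hfxy (by rw [← hx', e])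
  refine ⟨swap x x' * swap x y, (Perm.isThreeCycle_swap_mul_swap_same hne'.symm hxy hx'y).mem_alternatingGroup, fun h => ?_⟩
  have := (h x x').1 hx'.symm
  rw [Perm.mul_apply, Perm.mul_apply, swap_apply_left, swap_apply_of_ne_of_ne hne' hx'y, swap_apply_right,
    swap_apply_of_ne_of_ne hxy.symm hx'y.symm] at this
  exact hfxy this.symm

lemma card_pairs_two : Nat.card {g : Perm (Fin 2 × Fin 2) // (∀ u v, u.1 = v.1 ↔ (g u).1 = (g v).1) ∧ Perm.sign g = 1} = 4 := by
  rw [Nat.card_eq_fintype_card, Fintype.card_subtype]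
  decide +kernel

lemma card_pairs_three : Nat.card {g : Perm (Fin 3 × Fin 2) // (∀ u v, u.1 = v.1 ↔ (g u).1 = (g v).1) ∧ Perm.sign g = 1} = 24 := by
  rw [Nat.card_eq_fintype_card, Fintype.card_subtype]
  decide +kernel

lemma card_pairs (hf : ∀ i : Fin b, Nat.card {x : Ω // f x = i} = 2) :
    Nat.card ↥(pres f ⊓ alternatingGroup Ω) =
      Nat.card {g : Perm (Fin b × Fin 2) // (∀ u v, u.1 = v.1 ↔ (g u).1 = (g v).1) ∧ Perm.sign g = 1} := by
  let e : Ω ≃ Fin b × Fin 2 := ((sigmaFiberEquiv f).symm.trans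
    (Equiv.sigmaCongrRight fun i => Finite.equivFinOfCardEq (hf i))).trans (Equiv.sigmaEquivProd _ _)
  have he : ∀ x, (e x).1 = f x := fun x => rfl
  refine Nat.card_congr (e.permCongr.subtypeEquiv fun g => ?_)
  rw [Subgroup.mem_inf, Perm.mem_alternatingGroup, Perm.sign_permCongr]
  refine and_congr_left fun _ => ?_
  constructor
  · intro h u v
    simp only [Equiv.permCongr_apply, he]
    have := h (e.symm u) (e.symm v)
    rwa [← he, ← he, e.apply_symm_apply, e.apply_symm_apply] at this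
  · intro h x y
    have := h (e x) (e y)
    simpa only [Equiv.permCongr_apply, he, e.symm_apply_apply] using this

lemma maximal_small {A : Type*} [Group A] [Finite A] [IsSimpleGroup A] (hA : Nat.card A = 360) {H : Subgroup A}
    (hH : H.index = 15) {M : Subgroup A} (hM : H < M) : M = ⊤ := by
  have hlt := Subgroup.index_strictAnti hM
  have hdvd : M.index ∣ 15 := hH ▸ Subgroup.index_dvd_of_le hM.le
  by_contra hne
  have h1 : M.index ≠ 1 := fun h => hne (Subgroup.index_eq_one.1 h)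
  have h5 : M.index ≤ 5 := by
    have : M.index ∈ (15 : ℕ).divisors := Nat.mem_divisors.2 ⟨hdvd, by norm_num⟩
    have hd : (15 : ℕ).divisors = {1, 3, 5, 15} := by decide +kernel
    rw [hd] at this
    simp only [Finset.mem_insert, Finset.mem_singleton] at this
    omega
  have hcore : M.normalCore = ⊥ := M.normalCore_normal.eq_bot_or_eq_top.resolve_right fun h =>
    hne (top_le_iff.1 (h.ge.trans M.normalCore_le))
  rw [Subgroup.normalCore_eq_ker, MonoidHom.ker_eq_bot_iff] at hcore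
  have := Nat.card_le_card_of_injective _ hcore
  rw [hA, Nat.card_perm] at this
  change _ ≤ M.index.factorial at this
  exact absurd (this.trans (Nat.factorial_le h5)) (by decide)

end

/-- Let Ω be a finite set whose size is not 8, and f : Ω → Fin b a labelling with b ≥ 2 whose fibres all have the same size a ≥ 2 (a partition into b blocks of size a). Then the even permutations preserving the partition — the intersection of the imprimitive wreath product S_a ≀ S_b with the alternating group — form a maximal subgroup of the alternating group on Ω. -/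
theorem result {Ω : Type*} [Fintype Ω] [DecidableEq Ω] (h8 : Fintype.card Ω ≠ 8) (a b : ℕ) (ha : 2 ≤ a) (hb : 2 ≤ b)
    (f : Ω → Fin b) (hf : ∀ i : Fin b, Nat.card {x : Ω // f x = i} = a) :
    IsCoatom ((Subgroup.closure {g : Equiv.Perm Ω | ∀ x y : Ω, f x = f y ↔ f (g x) = f (g y)} ⊓ alternatingGroup Ω).subgroupOf (alternatingGroup Ω)) := by
  rw [Cfsg.Agent.S5905.closure_eq]
  have hcard : Fintype.card Ω = a * b := by
    rw [← Nat.card_eq_fintype_card, ← Nat.card_congr (Equiv.sigmaFiberEquiv f), Nat.card_sigma]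
    rw [Finset.sum_congr rfl fun i _ => hf i, Finset.sum_const, Finset.card_univ, Fintype.card_fin, smul_eq_mul, mul_comm]
  constructor
  · intro h
    obtain ⟨g, hg, hg'⟩ := not_le_pres hf ha hb
    exact hg' (h.ge (Subgroup.mem_top (⟨g, hg⟩ : alternatingGroup Ω))).1
  intro M hM
  obtain ⟨⟨g, hgA⟩, hgM, hg⟩ := SetLike.exists_of_lt hM
  have hg' : g ∉ pres f := fun h => hg ⟨h, hgA⟩
  by_cases hbig : 3 ≤ a ∨ 5 ≤ b
  · have hK : pres f ⊓ alternatingGroup Ω ≤ M.map (alternatingGroup Ω).subtype := fun k hk =>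
      ⟨⟨k, hk.2⟩, hM.le hk, rfl⟩
    have := maximal_big hf ha hb hbig hK ⟨_, hgM, rfl⟩ hg'
    refine eq_top_iff.2 fun k _ => ?_
    obtain ⟨k', hk', e⟩ := this k.2
    rwa [show k = k' from Subtype.ext e.symm]
  push Not at hbig
  obtain rfl : a = 2 := by omega
  have hHcard : Nat.card ↥((pres f ⊓ alternatingGroup Ω).subgroupOf (alternatingGroup Ω)) =
      Nat.card ↥(pres f ⊓ alternatingGroup Ω) := Nat.card_congr (Subgroup.subgroupOfEquivOfLe inf_le_right).toEquiv
  rw [card_pairs hf] at hHcard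
  have hmul := Subgroup.card_mul_index ((pres f ⊓ alternatingGroup Ω).subgroupOf (alternatingGroup Ω))
  have hA : 2 * Nat.card (alternatingGroup Ω) = (Fintype.card Ω).factorial := by
    have : Nontrivial Ω := Fintype.one_lt_card_iff_nontrivial.1 (by omega)
    rw [nat_card_alternatingGroup, Nat.card_eq_fintype_card]
    exact Nat.mul_div_cancel' (Nat.dvd_factorial two_pos (by omega))
  obtain rfl | rfl | rfl : b = 2 ∨ b = 3 ∨ b = 4 := by omega
  · rw [hcard, show Nat.factorial (2 * 2) = 24 from rfl] at hA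
    rw [hHcard, card_pairs_two, show Nat.card (alternatingGroup Ω) = 12 by omega] at hmul
    have hlt := Subgroup.index_strictAnti hM
    have hdvd := Subgroup.index_dvd_of_le hM.le
    rw [show ((pres f ⊓ alternatingGroup Ω).subgroupOf (alternatingGroup Ω)).index = 3 by omega] at hlt hdvd
    rcases (Nat.dvd_prime Nat.prime_three).1 hdvd with h | h
    · exact Subgroup.index_eq_one.1 h
    · omega
  · rw [hcard, show Nat.factorial (2 * 3) = 720 from rfl] at hA
    rw [hHcard, card_pairs_three, show Nat.card (alternatingGroup Ω) = 360 by omega] at hmul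
    haveI := alternatingGroup.isSimpleGroup (α := Ω) (by rw [Nat.card_eq_fintype_card, hcard]; omega)
    exact maximal_small (by omega) (by omega) hM
  · omega

end Cfsg.Agent.S5909
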