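import Cfsg.Statements.S5910
import Cfsg.Agent.S5905

set_option autoImplicit false
open Cfsg

namespace Cfsg.Agent.S5910

open Equiv

/-- addition in a three-dimensional space over two elements, the pairs being the cosets of a line -/
def add3 (u v : Fin 4 × Fin 2) : Fin 4 × Fin 2 :=
  (⟨(u.1 : ℕ) ^^^ (v.1 : ℕ), Nat.xor_lt_two_pow (n := 2) u.1.2 v.1.2⟩, u.2 + v.2)

lemma add3_facts : (∀ u v, add3 u v = add3 v u) ∧ (∀ u v w, add3 (add3 u v) w = add3 u (add3 v w)) ∧
    (∀ u, add3 u u = (0, 0)) ∧ ∀ u, add3 u (0, 0) = u := by decide +kernel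

/-- affine permutations -/
def IsAff (g : Perm (Fin 4 × Fin 2)) : Prop := ∀ u v, g (add3 u v) = add3 (add3 (g u) (g v)) (g (0, 0))

instance (g : Perm (Fin 4 × Fin 2)) : Decidable (IsAff g) := inferInstanceAs (Decidable (∀ _, _))

/-- the affine group -/
def agl : Subgroup (Perm (Fin 4 × Fin 2)) :=
  let M : Submonoid (Perm (Fin 4 × Fin 2)) :=
    { carrier := {g | IsAff g}
      one_mem' := fun u v => (add3_facts.2.2.2 _).symm
      mul_mem' := fun {g h} hg hh u v => by
        obtain ⟨hc, ha, hs, hz⟩ := add3_facts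
        simp only [Perm.mul_apply]
        rw [hh u v, hg, hg]
        generalize g (h u) = A
        generalize g (h v) = B
        generalize g (h (0, 0)) = C
        generalize g (0, 0) = D
        rw [ha (add3 (add3 A B) D) C D, ha (add3 A B) D (add3 C D), ← ha D C D, hc D C, ha C D D, hs, hz] }
  { M with
    inv_mem' := fun {g} hg => by
      have : g⁻¹ = g ^ (orderOf g - 1) := by
        rw [eq_comm, ← mul_eq_one_iff_eq_inv, ← pow_succ, Nat.sub_add_cancel (orderOf_pos g), pow_orderOf_eq_one]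
      rw [this]
      exact M.pow_mem hg _ }

lemma mem_agl {g : Perm (Fin 4 × Fin 2)} : g ∈ agl ↔ IsAff g := Iff.rfl

/-- the permutations preserving the pairs -/
def cand (τ : Perm (Fin 4)) (s : Fin 4 → Fin 2) : Perm (Fin 4 × Fin 2) :=
  Equiv.prodShear τ fun i => Equiv.addRight (s i)

lemma cand_aff : ∀ (τ : Perm (Fin 4)) (s : Fin 4 → Fin 2), Perm.sign (cand τ s) = 1 → IsAff (cand τ s) := by decide +kernel

lemma pres_aff {g : Perm (Fin 4 × Fin 2)} (h : ∀ u v, u.1 = v.1 ↔ (g u).1 = (g v).1) (hs : Perm.sign g = 1) : IsAff g := by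
  have hinj : Function.Injective fun i => (g (i, 0)).1 := fun i j e => (h (i, 0) (j, 0)).2 e
  let τ : Perm (Fin 4) := Equiv.ofBijective _ (Finite.injective_iff_bijective.1 hinj)
  have e : g = cand τ (fun i => (g (i, 0)).2) := by
    refine Equiv.ext fun ⟨i, k⟩ => ?_
    have h1 : (g (i, k)).1 = (g (i, 0)).1 := (h (i, k) (i, 0)).1 rfl
    refine Prod.ext h1 ?_
    show (g (i, k)).2 = k + (g (i, 0)).2
    rcases (show k = 0 ∨ k = 1 by omega) with rfl | rfl
    · rw [zero_add]
    · have : (g (i, 1)).2 ≠ (g (i, 0)).2 := fun e => by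
        simpa using g.injective (Prod.ext h1 e)
      omega
  rw [e] at hs ⊢
  exact cand_aff τ _ hs

lemma witness : ∃ g : Perm (Fin 4 × Fin 2), IsAff g ∧ Perm.sign g = 1 ∧ ∃ u v, u.1 = v.1 ∧ (g u).1 ≠ (g v).1 := by
  refine ⟨swap (0, 1) (1, 0) * swap (2, 1) (3, 0), ?_, ?_, (0, 0), (0, 1), ?_⟩ <;> decide +kernel

lemma proper : ∃ g : Perm (Fin 4 × Fin 2), Perm.sign g = 1 ∧ ¬IsAff g := by
  refine ⟨swap (0, 0) (0, 1) * swap (0, 0) (1, 0), ?_, ?_⟩ <;> decide +kernel

/-- Let Ω be a set with 8 elements and f : Ω → Fin 4 a labelling whose four fibres all have size 2 (a partition of the 8 points into 4 pairs). Then the group of even permutations preserving this partition, (S₂ ≀ S₄) ∩ A₈, is not a maximal subgroup of the alternating group A₈ (it lies in a subgroup isomorphic to the affine group AGL₃(2)). -/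
theorem result {Ω : Type*} [Fintype Ω] [DecidableEq Ω] (h8 : Fintype.card Ω = 8)
    (f : Ω → Fin 4) (hf : ∀ i : Fin 4, Nat.card {x : Ω // f x = i} = 2) :
    ¬ IsCoatom ((Subgroup.closure {g : Equiv.Perm Ω | ∀ x y : Ω, f x = f y ↔ f (g x) = f (g y)} ⊓ alternatingGroup Ω).subgroupOf (alternatingGroup Ω)) := by
  rw [Cfsg.Agent.S5905.closure_eq]
  let e : Ω ≃ Fin 4 × Fin 2 := ((sigmaFiberEquiv f).symm.trans
    (Equiv.sigmaCongrRight fun i => Finite.equivFinOfCardEq (hf i))).trans (Equiv.sigmaEquivProd _ _)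
  have he : ∀ x, (e x).1 = f x := fun x => rfl
  let K : Subgroup (alternatingGroup Ω) := (agl.comap e.permCongrHom.toMonoidHom).subgroupOf (alternatingGroup Ω)
  have hmem : ∀ g : alternatingGroup Ω, g ∈ K ↔ IsAff (e.permCongr g) := fun g => Iff.rfl
  have hle : (Cfsg.Agent.S5905.pres f ⊓ alternatingGroup Ω).subgroupOf (alternatingGroup Ω) ≤ K := fun g hg => by
    refine (hmem g).2 (pres_aff (fun u v => ?_) ?_)
    · have := hg.1 (e.symm u) (e.symm v)
      rw [← he, ← he, e.apply_symm_apply, e.apply_symm_apply] at this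
      simpa only [Equiv.permCongr_apply, he, Subgroup.coe_subtype] using this
    · rw [Equiv.Perm.sign_permCongr]; exact Equiv.Perm.mem_alternatingGroup.1 g.2
  intro hco
  obtain ⟨g, hg1, hg2, u, v, huv, hne⟩ := witness
  obtain ⟨k, hk1, hk2⟩ := proper
  have hgA : e.symm.permCongr g ∈ alternatingGroup Ω := Equiv.Perm.mem_alternatingGroup.2 (by rwa [Equiv.Perm.sign_permCongr])
  have hkA : e.symm.permCongr k ∈ alternatingGroup Ω := Equiv.Perm.mem_alternatingGroup.2 (by rwa [Equiv.Perm.sign_permCongr])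
  have hinv : ∀ k : Equiv.Perm (Fin 4 × Fin 2), e.permCongr (e.symm.permCongr k) = k := fun k => Equiv.ext fun x => by simp
  rcases hle.eq_or_lt with heq | hlt
  · have hgK : (⟨_, hgA⟩ : alternatingGroup Ω) ∈ K := (hmem _).2 (by rw [hinv]; exact hg1)
    rw [← heq] at hgK
    have := (hgK.1 (e.symm u) (e.symm v)).1 (by rw [← he, ← he, e.apply_symm_apply, e.apply_symm_apply, huv])
    rw [← he, ← he] at this
    simp at this
    exact hne this
  · have := (hmem ⟨_, hkA⟩).1 ((hco.2 K hlt).ge (Subgroup.mem_top _))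
    rw [hinv] at this
    exact hk2 this

end Cfsg.Agent.S5910
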