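import Cfsg.Statements.S5912
import Cfsg.Agent.PermGroups.Six

set_option autoImplicit false
open Cfsg

namespace Cfsg.Agent.S5912

open Cfsg.Agent.PermGroups.Sym

/-- The symmetric group on a 6-element set Ω has exactly two conjugacy classes of subgroups of index 6: there are two non-conjugate subgroups of index 6 (a point stabilizer and a transitive subgroup isomorphic to S₅), and every subgroup of index 6 is conjugate to one of them. -/
theorem result {Ω : Type*} [Fintype Ω] [DecidableEq Ω] (h6 : Fintype.card Ω = 6) :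
    ∃ H₁ H₂ : Subgroup (Equiv.Perm Ω), H₁.index = 6 ∧ H₂.index = 6 ∧
      (¬ ∃ g : Equiv.Perm Ω, Subgroup.map (MulAut.conj g).toMonoidHom H₁ = H₂) ∧
      ∀ H : Subgroup (Equiv.Perm Ω), H.index = 6 →
        ∃ g : Equiv.Perm Ω, Subgroup.map (MulAut.conj g).toMonoidHom H₁ = H ∨ Subgroup.map (MulAut.conj g).toMonoidHom H₂ = H := by
  obtain ⟨θ, hθ⟩ := Six.exists_outer h6
  obtain ⟨x₀⟩ : Nonempty Ω := Fintype.card_pos_iff.1 (by omega)
  refine ⟨MulAction.stabilizer _ x₀, (MulAction.stabilizer _ x₀).comap θ.toMonoidHom, Six.index_stabilizer h6 x₀,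
    Six.index_comap h6 θ x₀, fun ⟨g, hg⟩ => ?_, fun H hH => ?_⟩
  · rw [Six.map_conj_stabilizer] at hg
    exact Six.comap_ne_stabilizer h6 θ hθ _ _ hg.symm
  · obtain ⟨x, hx⟩ := Six.index_six h6 θ hθ H hH
    rcases hx with rfl | rfl
    · exact ⟨Equiv.swap x₀ x, Or.inl (by rw [Six.map_conj_stabilizer, Equiv.swap_apply_left])⟩
    · obtain ⟨g, hg⟩ := θ.surjective (Equiv.swap x₀ x)
      refine ⟨g, Or.inr ?_⟩
      have e := Six.map_conj_stabilizer (θ g) x₀
      rw [hg, Equiv.swap_apply_left] at e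
      rw [← e]
      ext z
      simp only [Subgroup.mem_map, Subgroup.mem_comap, MulEquiv.coe_toMonoidHom, MulAut.conj_apply, ← hg]
      refine ⟨fun ⟨w, hw, hwz⟩ => ⟨θ w, hw, by rw [← hwz, map_mul, map_mul, map_inv]⟩, fun ⟨w, hw, hwz⟩ => ⟨θ.symm w, by rwa [MulEquiv.apply_symm_apply], ?_⟩⟩
      apply θ.injective
      rw [map_mul, map_mul, map_inv, MulEquiv.apply_symm_apply, hwz]

end Cfsg.Agent.S5912
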