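import Cfsg.Statements.S5913

set_option autoImplicit false
open Cfsg

namespace Cfsg.Agent.S5913

/-- Let S be a non-abelian simple group and n a natural number. Every normal subgroup N of the direct power S^n (functions Fin n → S) is a subproduct: there is a set T of coordinates such that N consists exactly of the elements whose coordinates outside T are trivial. In particular the minimal normal subgroups of S^n are its n factors. -/
theorem result {S : Type*} [Group S] [IsSimpleGroup S] (hS : ¬ IsMulCommutative S) (n : ℕ)
    (N : Subgroup (Fin n → S)) [N.Normal] :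
    ∃ T : Finset (Fin n), ∀ x : Fin n → S, x ∈ N ↔ ∀ i, i ∉ T → x i = 1 := by
  classical
  let T : Finset (Fin n) := Finset.univ.filter fun i => ∃ x ∈ N, x i ≠ 1
  refine ⟨T, fun x => ⟨fun hx i hi => ?_, fun hx => ?_⟩⟩
  · by_contra h
    exact hi (Finset.mem_filter.2 ⟨Finset.mem_univ _, x, hx, h⟩)
  have hsingle : ∀ i ∈ T, ∀ s : S, Pi.mulSingle i s ∈ N := by
    intro i hi
    obtain ⟨-, y, hy, hyi⟩ := Finset.mem_filter.1 hi
    let K : Subgroup S := N.comap (MonoidHom.mulSingle (fun _ : Fin n => S) i)
    have hKn : K.Normal := inferInstance
    rcases hKn.eq_bot_or_eq_top with h | h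
    · exfalso
      apply hS
      have hcen : y i ∈ Subgroup.center S := by
        rw [Subgroup.mem_center_iff]
        intro t
        have hm : y * Pi.mulSingle i t * y⁻¹ * (Pi.mulSingle i t)⁻¹ ∈ N := by
          have := N.mul_mem hy (Subgroup.Normal.conj_mem inferInstance y⁻¹ (N.inv_mem hy) (Pi.mulSingle i t))
          simpa [mul_assoc] using this
        have heq : y * Pi.mulSingle i t * y⁻¹ * (Pi.mulSingle i t)⁻¹ = Pi.mulSingle i (y i * t * (y i)⁻¹ * t⁻¹) := by
          funext j
          rcases eq_or_ne j i with rfl | hj
          · simp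
          · simp [Pi.mulSingle_eq_of_ne hj]
        rw [heq] at hm
        have hK : y i * t * (y i)⁻¹ * t⁻¹ ∈ K := hm
        rw [h, Subgroup.mem_bot, mul_inv_eq_one, mul_inv_eq_iff_eq_mul] at hK
        exact hK.symm
      rcases (inferInstance : (Subgroup.center S).Normal).eq_bot_or_eq_top with h' | h'
      · rw [h', Subgroup.mem_bot] at hcen; exact absurd hcen hyi
      · exact ⟨⟨fun a b => Subgroup.mem_center_iff.1 (h' ▸ Subgroup.mem_top b) a⟩⟩
    · intro s
      exact (h ▸ Subgroup.mem_top s : s ∈ K)
  have key : ∀ s : Finset (Fin n), ∀ y : Fin n → S, (∀ i, i ∉ s → y i = 1) → s ⊆ T → y ∈ N := by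
    intro s
    induction s using Finset.induction_on with
    | empty =>
        intro y hy _
        rw [show y = 1 from funext fun i => hy i (Finset.notMem_empty i)]
        exact N.one_mem
    | @insert a s ha ih =>
        intro y hy hsub
        have : y = Pi.mulSingle a (y a) * Function.update y a 1 := by
          funext j
          rcases eq_or_ne j a with rfl | hj
          · simp
          · simp [Pi.mulSingle_eq_of_ne hj, hj]
        rw [this]
        refine N.mul_mem (hsingle a (hsub (Finset.mem_insert_self _ _)) _) (ih _ (fun i hi => ?_) ((Finset.subset_insert _ _).trans hsub))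
        rcases eq_or_ne i a with rfl | hia
        · simp
        · rw [Function.update_of_ne hia]; exact hy i (by simp [hi, hia])
  exact key T x hx Finset.Subset.rfl

end Cfsg.Agent.S5913
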