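import Cfsg.Statements.S5914
import Cfsg.Agent.S0721

set_option autoImplicit false
open Cfsg

namespace Cfsg.Agent.S5914

lemma power_charSimple {S : Type*} [Group S] [IsSimpleGroup S] {n : ℕ} (H : Subgroup (Fin n → S))
    (hc : H.Characteristic) : H = ⊥ ∨ H = ⊤ := by
  classical
  refine or_iff_not_imp_left.2 fun hne => ?_
  obtain ⟨⟨h, hh⟩, hh1⟩ := Subgroup.ne_bot_iff_exists_ne_one.1 hne
  replace hh1 : h ≠ 1 := fun e => hh1 (Subtype.ext e)
  obtain ⟨i, hi⟩ := Function.ne_iff.1 hh1
  have himg : ∀ φ : (Fin n → S) ≃* (Fin n → S), ∀ x ∈ H, φ x ∈ H := fun φ x hx => by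
    rw [← hc.fixed φ] at hx; exact hx
  obtain ⟨j, a, ha1, ha⟩ : ∃ j, ∃ a : S, a ≠ 1 ∧ Pi.mulSingle j a ∈ H := by
    by_cases hcomm : ∀ x y : S, x * y = y * x
    · by_cases hall : ∀ j, j = i
      · refine ⟨i, h i, hi, ?_⟩
        convert hh
        funext k
        rw [hall k, Pi.mulSingle_eq_same]
      push Not at hall
      obtain ⟨j, hj⟩ := hall
      let φ : (Fin n → S) ≃* (Fin n → S) :=
        { toFun := fun x => x * Pi.mulSingle j (x i)
          invFun := fun x => x * Pi.mulSingle j (x i)⁻¹
          left_inv := fun x => by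
            simp only [Pi.mul_apply, Pi.inv_apply, inv_one, Pi.mulSingle_eq_of_ne hj.symm, mul_one, Pi.mulSingle_inv, mul_inv_cancel_right]
          right_inv := fun x => by
            simp only [Pi.mul_apply, Pi.inv_apply, inv_one, Pi.mulSingle_eq_of_ne hj.symm, mul_one, Pi.mulSingle_inv, inv_mul_cancel_right]
          map_mul' := fun x y => by
            funext k
            simp only [Pi.mul_apply, Pi.mulSingle_mul]
            rw [mul_assoc (x k), ← mul_assoc (y k), hcomm (y k) (Pi.mulSingle (M := fun _ => S) j (x i) k)]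
            simp only [mul_assoc] }
      refine ⟨j, h i, hi, ?_⟩
      have := mul_mem (inv_mem hh) (himg φ h hh)
      rwa [show φ h = h * Pi.mulSingle j (h i) from rfl, inv_mul_cancel_left] at this
    · have hz : Subgroup.center S = ⊥ :=
        ((Subgroup.center S).normal_of_characteristic).eq_bot_or_eq_top.resolve_right fun e => hcomm fun x y =>
          (Subgroup.mem_center_iff.1 (e.ge (Subgroup.mem_top y)) x)
      obtain ⟨s, hs⟩ : ∃ s, s * h i ≠ h i * s := by
        by_contra! hs
        exact hi (by simpa [hz] using Subgroup.mem_center_iff.2 hs)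
      refine ⟨i, h i * (s * (h i)⁻¹ * s⁻¹), fun e => hs ?_, ?_⟩
      · have e' : s * (h i)⁻¹ * s⁻¹ = (h i)⁻¹ := eq_inv_of_mul_eq_one_right e
        have := congrArg (fun t => t⁻¹) e'
        simp only [mul_inv_rev, inv_inv] at this
        conv_rhs => rw [← this]
        group
      · have hn : H.Normal := inferInstance
        have := mul_mem hh (hn.conj_mem _ (inv_mem hh) (Pi.mulSingle i s))
        convert this using 1
        funext k
        rcases eq_or_ne k i with rfl | hk
        · simp
        · simp [Pi.mulSingle_eq_of_ne hk]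
  have hsingle : ∀ k, ∀ b, Pi.mulSingle k b ∈ H := by
    intro k b
    let C : Subgroup S := H.comap (MonoidHom.mulSingle (fun _ : Fin n => S) j)
    have hn : H.Normal := inferInstance
    have hC : C.Normal := hn.comap _
    have hCt : C = ⊤ := hC.eq_bot_or_eq_top.resolve_left fun e => ha1 (Subgroup.mem_bot.1 (e.le (show a ∈ C from ha)))
    have hb : Pi.mulSingle j b ∈ H := hCt.ge (Subgroup.mem_top b)
    let φ : (Fin n → S) ≃* (Fin n → S) :=
      { toEquiv := Equiv.arrowCongr (Equiv.swap j k) (Equiv.refl S)
        map_mul' := fun _ _ => rfl }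
    have := himg φ _ hb
    convert this using 1
    funext l
    show _ = Pi.mulSingle (M := fun _ => S) j b ((Equiv.swap j k).symm l)
    rw [Equiv.symm_swap]
    rcases eq_or_ne l k with rfl | hl
    · simp
    · rcases eq_or_ne l j with rfl | hl'
      · simp [Pi.mulSingle_eq_of_ne hl, Pi.mulSingle_eq_of_ne hl.symm]
      · simp [Equiv.swap_apply_of_ne_of_ne hl' hl, Pi.mulSingle_eq_of_ne hl, Pi.mulSingle_eq_of_ne hl']
  exact (Subgroup.eq_top_iff' H).2 fun x => Subgroup.pi_mem_of_mulSingle_mem x fun k => hsingle k (x k)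

/-- A non-trivial finite group G is characteristically simple (its only characteristic subgroups are 1 and G) if and only if G is isomorphic to a direct power S^n (n ≥ 1) of some simple group S (possibly cyclic of prime order). -/
theorem result {G : Type*} [Group G] [Finite G] [Nontrivial G] :
    (∀ H : Subgroup G, H.Characteristic → H = ⊥ ∨ H = ⊤) ↔
    ∃ (S : Type) (_ : Group S) (_ : IsSimpleGroup S) (n : ℕ), 1 ≤ n ∧ Nonempty (G ≃* (Fin n → S)) := by
  constructor
  · intro hchar
    haveI : Finite (MulAut G) := Finite.of_injective (fun φ : MulAut G => (φ : G → G)) DFunLike.coe_injective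
    haveI : Finite (SemidirectProduct G (MulAut G) (MonoidHom.id _)) := Finite.of_equiv _ SemidirectProduct.equivProd.symm
    let ι : G →* SemidirectProduct G (MulAut G) (MonoidHom.id _) := SemidirectProduct.inl
    have hι : Function.Injective ι := SemidirectProduct.inl_injective
    haveI hN : ι.range.Normal := by
      rw [show ι.range = _ from SemidirectProduct.range_inl_eq_ker_rightHom]
      infer_instance
    obtain ⟨T, hT, m, hs, hm, ⟨e⟩⟩ := Cfsg.Agent.S0721.result ι.range
      (fun h => by
        obtain ⟨g, hg⟩ := exists_ne (1 : G)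
        exact hg (hι ((Subgroup.mem_bot.1 (h.le ⟨g, rfl⟩)).trans (map_one ι).symm)))
      (fun M hM hMN => by
        have hK : (M.comap ι).Characteristic := Subgroup.characteristic_iff_le_comap.2 fun φ g hg => by
          have := hM.conj_mem _ hg (SemidirectProduct.inr φ)
          rw [Subgroup.mem_comap, Subgroup.mem_comap]
          show SemidirectProduct.inl (φ g) ∈ M
          rwa [show ι g = SemidirectProduct.inl g from rfl, ← map_inv, ← SemidirectProduct.inl_aut] at this
        refine (hchar _ hK).imp (fun h => ?_) (fun h => ?_)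
        · rw [← Subgroup.map_comap_eq_self hMN, h, Subgroup.map_bot]
        · rw [← Subgroup.map_comap_eq_self hMN, h, MonoidHom.range_eq_map])
    exact ⟨T, hT, hs, m, hm, ⟨(MonoidHom.ofInjective hι).trans e⟩⟩
  · rintro ⟨S, _, _, n, -, ⟨e⟩⟩ H hH
    haveI := hH
    have hc : (H.map e.toMonoidHom).Characteristic := Subgroup.characteristic_iff_le_comap.2 fun φ x hx => by
      obtain ⟨g, hg, rfl⟩ := hx
      refine ⟨e.symm (φ (e g)), ?_, e.apply_symm_apply _⟩
      have := hH.fixed ((e.trans φ).trans e.symm)
      rw [← this] at hg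
      exact hg
    rcases power_charSimple _ hc with h | h
    · left; rwa [Subgroup.map_eq_bot_iff_of_injective _ e.injective] at h
    · right
      rw [← Subgroup.comap_map_eq_self_of_injective (f := e.toMonoidHom) e.injective H, h, Subgroup.comap_top]

end Cfsg.Agent.S5914
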