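import Cfsg.Statements.S5945
import Cfsg.Agent.PermGroups.Six

set_option autoImplicit false
open Cfsg

namespace Cfsg.Agent.S5945

open Cfsg.Agent.PermGroups.Sym

/-- The symmetric group S_6 has exactly 12 subgroups of index 6; each of them is isomorphic to S_5, and at least one of them is not the stabilizer of any point. -/
theorem result : Nat.card {H : Subgroup (Equiv.Perm (Fin 6)) // H.index = 6} = 12 ∧ (∀ H : Subgroup (Equiv.Perm (Fin 6)), H.index = 6 → Nonempty (H ≃* Equiv.Perm (Fin 5))) ∧ ∃ H : Subgroup (Equiv.Perm (Fin 6)), H.index = 6 ∧ ∀ a : Fin 6, H ≠ MulAction.stabilizer (Equiv.Perm (Fin 6)) a := by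
  have h6 : Fintype.card (Fin 6) = 6 := Fintype.card_fin 6
  obtain ⟨θ, hθ⟩ := Six.exists_outer (α := Fin 6) h6
  refine ⟨?_, fun H hH => ?_, (MulAction.stabilizer (Equiv.Perm (Fin 6)) (0 : Fin 6)).comap θ.toMonoidHom,
    Six.index_comap h6 θ 0, fun a => Six.comap_ne_stabilizer h6 θ hθ 0 a⟩
  · let f : Fin 6 ⊕ Fin 6 → {H : Subgroup (Equiv.Perm (Fin 6)) // H.index = 6} :=
      Sum.elim (fun x => ⟨MulAction.stabilizer _ x, Six.index_stabilizer h6 x⟩)
        (fun x => ⟨(MulAction.stabilizer _ x).comap θ.toMonoidHom, Six.index_comap h6 θ x⟩)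
    have hf : Function.Bijective f := by
      refine ⟨?_, fun ⟨H, hH⟩ => ?_⟩
      · rintro (x | x) (y | y) h <;> have h' := congrArg Subtype.val h <;> simp only [f, Sum.elim_inl, Sum.elim_inr] at h'
        · rw [Six.stabilizer_injective h6 h']
        · exact absurd h'.symm (Six.comap_ne_stabilizer h6 θ hθ y x)
        · exact absurd h' (Six.comap_ne_stabilizer h6 θ hθ x y)
        · rw [Six.stabilizer_injective h6 (Subgroup.comap_injective θ.surjective h')]
      · obtain ⟨x, rfl | rfl⟩ := Six.index_six h6 θ hθ H hH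
        exacts [⟨.inl x, rfl⟩, ⟨.inr x, rfl⟩]
    rw [← Nat.card_eq_of_bijective f hf]
    simp
  · obtain ⟨x, hx⟩ := Six.index_six h6 θ hθ H hH
    have key : Nonempty (MulAction.stabilizer (Equiv.Perm (Fin 6)) x ≃* Equiv.Perm (Fin 5)) := by
      let g : Equiv.Perm {y : Fin 6 // y ≠ x} →* MulAction.stabilizer (Equiv.Perm (Fin 6)) x :=
        Equiv.Perm.ofSubtype.codRestrict _ fun p => by
          rw [MulAction.mem_stabilizer_iff, Equiv.Perm.smul_def, Equiv.Perm.ofSubtype_apply_of_not_mem p (fun h : x ≠ x => h rfl)]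
      have hinj : Function.Injective g := fun p q h => Equiv.Perm.ofSubtype_injective (congrArg Subtype.val h)
      have hc : Fintype.card {y : Fin 6 // y ≠ x} = 5 := by simp
      have hcard : Nat.card (MulAction.stabilizer (Equiv.Perm (Fin 6)) x) = Nat.card (Equiv.Perm {y : Fin 6 // y ≠ x}) := by
        have := Subgroup.card_mul_index (MulAction.stabilizer (Equiv.Perm (Fin 6)) x)
        rw [Six.index_stabilizer h6 x, Nat.card_perm (α := Fin 6), Nat.card_eq_fintype_card (α := Fin 6), h6] at this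
        rw [Nat.card_perm, Nat.card_eq_fintype_card (α := {y : Fin 6 // y ≠ x}), hc]
        have e1 : Nat.factorial 6 = 720 := rfl
        have e2 : Nat.factorial 5 = 120 := rfl
        omega
      exact ⟨(MulEquiv.ofBijective g ((Nat.bijective_iff_injective_and_card g).2 ⟨hinj, hcard.symm⟩)).symm.trans
        (Fintype.equivFinOfCardEq hc).permCongrHom⟩
    obtain ⟨e⟩ := key
    rcases hx with rfl | rfl
    · exact ⟨e⟩
    · exact ⟨((θ.subgroupMap _).trans (MulEquiv.subgroupCongr
        (Subgroup.map_comap_eq_self_of_surjective θ.surjective _))).trans e⟩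

end Cfsg.Agent.S5945
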