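import Cfsg.Statements.S5947
import Mathlib
import Cfsg.Agent.LocalStructure.Zsigmondy

set_option autoImplicit false
open Cfsg

namespace Cfsg.Agent.S5947

open Polynomial Module

/-- A prime power `q` with `q + 1` a power of two is prime. -/
theorem prime_of_succ_two_pow {p e m : ℕ} (hp : p.Prime) (he : 0 < e) (h : p ^ e + 1 = 2 ^ m) : e = 1 := by
  have hp2 : p ≠ 2 := by
    rintro rfl
    rcases Nat.eq_zero_or_pos m with rfl | hm
    · simp at h
    · have h1 : 2 ∣ 2 ^ e := dvd_pow_self 2 he.ne'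
      have h2 : 2 ∣ 2 ^ m := dvd_pow_self 2 hm.ne'
      omega
  have hodd : p % 2 = 1 := (hp.eq_two_or_odd).resolve_left hp2
  have hm : 2 ≤ m := by
    rcases Nat.lt_or_ge m 2 with h' | h'
    · have h3 : 3 ≤ p ^ e := le_trans (by have := hp.two_le; omega) (Nat.le_self_pow he.ne' p)
      interval_cases m <;> omega
    · exact h'
  have h4 : 4 ∣ p ^ e + 1 := h ▸ (pow_dvd_pow 2 hm)
  rcases Nat.even_or_odd e with ⟨k, rfl⟩ | ⟨k, rfl⟩
  · exfalso
    have : p ^ (k + k) = (p ^ k) ^ 2 := by rw [← pow_mul]; congr 1; omega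
    rw [this] at h4
    obtain ⟨c, hc⟩ : Odd (p ^ k) := (Nat.odd_iff.2 hodd).pow
    rw [hc, show (2 * c + 1) ^ 2 + 1 = 4 * (c * c + c) + 2 by ring] at h4
    omega
  · by_contra hk
    have hk0 : 1 ≤ k := by omega
    have hfac : p + 1 ∣ p ^ (2 * k + 1) + 1 := by
      simpa using (Odd.nat_add_dvd_pow_add_pow p 1 (odd_two_mul_add_one k))
    rw [h] at hfac
    obtain ⟨b, hb, hpb⟩ := (Nat.dvd_prime_pow Nat.prime_two).1 hfac
    have hb1 : 1 ≤ b := by
      rcases Nat.eq_zero_or_pos b with rfl | hb'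
      · have := hp.two_le; omega
      · exact hb'
    have hsq : p * p ≡ 1 [MOD 2 ^ (b + 1)] := by
      have hpe : p = 2 ^ b - 1 := by omega
      refine ((Nat.modEq_iff_dvd' (Nat.mul_pos hp.pos hp.pos)).2 ?_).symm
      obtain ⟨b', rfl⟩ : ∃ b', b = b' + 1 := ⟨b - 1, by omega⟩
      have h1 : 1 ≤ 2 ^ b' := Nat.one_le_two_pow
      obtain ⟨u, hu⟩ := Nat.exists_eq_add_of_le h1
      have hp' : p = 2 * u + 1 := by rw [hpe, pow_succ, hu]; omega
      have hP2 : 2 ^ (b' + 1 + 1) = (1 + u) * 2 * 2 := by rw [pow_succ, pow_succ, hu]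
      refine ⟨u, ?_⟩
      rw [hp', hP2]
      refine Nat.sub_eq_of_eq_add ?_
      ring
    have hmod : p ^ (2 * k + 1) + 1 ≡ 2 ^ b [MOD 2 ^ (b + 1)] := by
      rw [← hpb]
      refine Nat.ModEq.add_right 1 ?_
      rw [pow_succ p, pow_mul, pow_two]
      simpa using (hsq.pow k).mul_right p
    have hbm : b + 1 ≤ m := by
      by_contra hc
      have h5 : 2 ^ m ≤ 2 ^ b := Nat.pow_le_pow_right (by norm_num) (by omega)
      have h6 : p ^ 2 ≤ p ^ (2 * k + 1) := Nat.pow_le_pow_right hp.pos (by omega)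
      have : p * 2 ≤ p ^ 2 := by rw [pow_two]; exact Nat.mul_le_mul_left _ hp.two_le
      have := hp.two_le
      omega
    rw [h] at hmod
    have h7 : 2 ^ b % 2 ^ (b + 1) = 0 := by
      rw [← hmod, Nat.mod_eq_zero_of_dvd (pow_dvd_pow 2 hbm)]
    rw [Nat.mod_eq_of_lt (Nat.pow_lt_pow_right (by norm_num) (Nat.lt_succ_self b))] at h7
    exact absurd h7 (pow_ne_zero _ two_ne_zero)

variable {F K : Type*} [Field F] [Fintype F] [Field K] [Fintype K] [Algebra F K]

/-- Let F ⊆ K be finite fields with |F| = q and [K : F] = n ≥ 2, regard K as an n-dimensional F-vector space, and let M ≤ GL_F(K) be the Singer group of multiplications by non-zero elements of K (cyclic of order q^n − 1). Assume (n, q) ≠ (6, 2), and that it is not the case that n = 2 with q a prime such that q + 1 is a power of 2. Then every abelian subgroup of GL_F(K) of order q^n − 1 is conjugate to M. -/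
theorem result {F K : Type*} [Field F] [Fintype F] [Field K] [Fintype K] [Algebra F K] (n : ℕ) (hn : 2 ≤ n) (hdim : Module.finrank F K = n)
    (hex1 : ¬ (n = 6 ∧ Fintype.card F = 2))
    (hex2 : ¬ (n = 2 ∧ (Fintype.card F).Prime ∧ ∃ a : ℕ, Fintype.card F + 1 = 2 ^ a))
    (U : Subgroup (Module.End F K)ˣ) (hU : IsMulCommutative U) (hcard : Nat.card U = Fintype.card K - 1) :
    ∃ g : (Module.End F K)ˣ, U.map (MulAut.conj g).toMonoidHom = (Units.map ((Algebra.lmul F K : K →ₐ[F] Module.End F K) : K →* Module.End F K)).range := by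
  classical
  set q := Fintype.card F with hq
  have hK : Fintype.card K = q ^ n := by rw [Module.card_eq_pow_finrank (K := F), hdim]
  obtain ⟨p, hpc⟩ := CharP.exists F
  obtain ⟨e, hpp, hqe⟩ := FiniteField.card F p
  haveI := Fact.mk hpp
  obtain ⟨r, hr, hrd, hrk⟩ := Cfsg.Agent.LocalStructure.zsigmondy (a := q) (n := n) Fintype.one_lt_card
    (by omega) (fun h => hex1 ⟨h.2, h.1⟩) (fun h => hex2 ⟨h.1, by
      obtain ⟨m, hm⟩ := h.2
      rw [← hq] at hqe
      rw [hqe] at hm
      rw [hqe, prime_of_succ_two_pow hpp e.pos hm, pow_one]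
      exact hpp, h.2⟩)
  haveI := Fact.mk hr
  haveI : Finite U := Nat.finite_of_card_ne_zero (by
    rw [hcard]; have := Fintype.one_lt_card (α := K); omega)
  obtain ⟨x, hx⟩ := exists_prime_orderOf_dvd_card' (G := U) r (by rw [hcard, hK]; exact hrd)
  set f : Module.End F K := ((x : (Module.End F K)ˣ) : Module.End F K) with hf
  have hfr : f ^ r = 1 := by
    rw [hf, ← Units.val_pow_eq_pow_val, ← SubmonoidClass.coe_pow, ← hx, pow_orderOf_eq_one]; rfl
  have hf1 : f ≠ 1 := fun h => hr.ne_one (by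
    rw [← hx, orderOf_eq_one_iff]; exact Subtype.ext (Units.ext h))
  have hrq : ¬ r ∣ q := fun h => by
    have h1 : r ∣ q ^ n := dvd_pow h (by omega)
    have h2 := Nat.dvd_sub h1 hrd
    rw [Nat.sub_sub_self (Nat.one_le_pow _ _ Fintype.card_pos)] at h2
    exact hr.ne_one (Nat.dvd_one.1 h2)
  have hr0 : ((r : ℕ) : F) ≠ 0 := fun h => hrq (by
    rw [CharP.cast_eq_zero_iff F p, Nat.prime_dvd_prime_iff_eq hpp hr] at h
    rw [← h, hq, hqe]; exact dvd_pow_self p e.pos.ne')
  set P := minpoly F f with hP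
  have hint : IsIntegral F f := IsIntegral.of_finite F f
  have hPd : P ∣ X ^ r - C 1 := minpoly.dvd F f (by simp [hfr])
  have hsqf : Squarefree (X ^ r - C (1 : F)) := (separable_X_pow_sub_C 1 hr0 one_ne_zero).squarefree
  have hdegP : P.natDegree ≤ n := by
    have := Polynomial.natDegree_le_of_dvd (LinearMap.minpoly_dvd_charpoly f) f.charpoly_monic.ne_zero
    rwa [LinearMap.charpoly_natDegree, hdim] at this
  have hfac : ∀ Q : F[X], Irreducible Q → Q ∣ P → Associated Q (X - C 1) ∨ n ≤ Q.natDegree := by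
    intro Q hQ hQP
    haveI := Fact.mk hQ
    haveI : Module.Finite F (AdjoinRoot Q) := (AdjoinRoot.powerBasis hQ.ne_zero).finite
    haveI : Finite (AdjoinRoot Q) := Module.finite_of_finite F
    have := Fintype.ofFinite (AdjoinRoot Q)
    set z := AdjoinRoot.root Q with hz
    by_cases hz1 : z = 1
    · refine Or.inl ((hQ.associated_of_dvd (irreducible_X_sub_C 1)) ?_)
      rw [← AdjoinRoot.mk_eq_zero, map_sub, AdjoinRoot.mk_X, AdjoinRoot.mk_C, map_one, ← hz, hz1, sub_self]
    · right
      have hzr : z ^ r = 1 := by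
        have h := AdjoinRoot.mk_eq_zero.2 (hQP.trans hPd)
        rwa [map_sub, map_pow, AdjoinRoot.mk_X, AdjoinRoot.mk_C, map_one, sub_eq_zero] at h
      have hzo : orderOf z = r := orderOf_eq_prime hzr hz1
      have hz0 : z ≠ 0 := fun h => by rw [h, zero_pow hr.ne_zero] at hzr; exact zero_ne_one hzr
      have hdvd : r ∣ q ^ Q.natDegree - 1 := by
        have h := FiniteField.pow_card_sub_one_eq_one z hz0
        rw [Module.card_eq_pow_finrank (K := F) (V := AdjoinRoot Q), (AdjoinRoot.powerBasis hQ.ne_zero).finrank,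
          AdjoinRoot.powerBasis_dim] at h
        exact hzo ▸ orderOf_dvd_of_pow_eq_one h
      by_contra hlt
      exact hrk _ hQ.natDegree_pos (not_le.1 hlt) hdvd
  have hP1 : (X - C (1 : F)) ≠ P := fun h => hf1 (by
    have := minpoly.aeval F f
    rw [← hP, ← h, map_sub, aeval_X, aeval_C, map_one, sub_eq_zero] at this
    exact this)
  obtain ⟨Q, hQ, hQP, hQn⟩ : ∃ Q : F[X], Irreducible Q ∧ Q ∣ P ∧ n ≤ Q.natDegree := by
    by_contra hcon
    push_neg at hcon
    have hall : ∀ Q, Irreducible Q → Q ∣ P → Associated Q (X - C 1) := fun Q hQ hQP =>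
      (hfac Q hQ hQP).resolve_right (not_le.2 (hcon Q hQ hQP))
    obtain ⟨Q, hQ, hQP⟩ := WfDvdMonoid.exists_irreducible_factor (minpoly.not_isUnit F f) (minpoly.ne_zero hint)
    obtain ⟨P', hP'⟩ := (hall Q hQ hQP).symm.dvd.trans hQP
    change P = (X - C 1) * P' at hP'
    by_cases hu : IsUnit P'
    · refine hP1 (eq_of_monic_of_associated (monic_X_sub_C 1) (minpoly.monic hint) ?_)
      exact ⟨hu.unit, by rw [IsUnit.unit_spec]; exact hP'.symm⟩
    · have hP'0 : P' ≠ 0 := fun h => minpoly.ne_zero hint (by rw [← hP, hP', h, mul_zero])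
      obtain ⟨R, hR, hRP⟩ := WfDvdMonoid.exists_irreducible_factor hu hP'0
      have hR' := hall R hR (by rw [hP']; exact hRP.mul_left _)
      have : (X - C (1 : F)) * (X - C 1) ∣ X ^ r - C 1 := by
        refine dvd_trans ?_ hPd
        rw [hP']
        exact mul_dvd_mul_left _ (hR'.symm.dvd.trans hRP)
      exact (irreducible_X_sub_C (1 : F)).not_isUnit (hsqf _ this)
  have hPirr : Irreducible P := by
    obtain ⟨R, hR⟩ := hQP
    have hR0 : R ≠ 0 := fun h => minpoly.ne_zero hint (by rw [← hP, hR, h, mul_zero])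
    have : R.natDegree = 0 := by
      rw [hR, natDegree_mul hQ.ne_zero hR0] at hdegP
      omega
    have hu : IsUnit R := by
      rw [eq_C_of_natDegree_eq_zero this] at hR0 ⊢
      exact isUnit_C.2 (isUnit_iff_ne_zero.2 fun h => hR0 (by rw [h, C_0]))
    exact (associated_mul_unit_right Q R hu).irreducible hQ |> (hR ▸ ·)
  haveI := Fact.mk hPirr
  have hPdeg : P.natDegree = n := le_antisymm hdegP (by
    have := Polynomial.natDegree_le_of_dvd hQP (minpoly.ne_zero hint)
    omega)
  let ψ : AdjoinRoot P →ₐ[F] Module.End F K :=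
    Ideal.Quotient.liftₐ (Ideal.span {P}) (aeval f) (fun g hg => by
      obtain ⟨c, rfl⟩ := Ideal.mem_span_singleton.1 hg
      rw [map_mul, minpoly.aeval, zero_mul])
  have hψmk : ∀ g : F[X], ψ (AdjoinRoot.mk P g) = aeval f g := fun g => rfl
  haveI : Module.Finite F (AdjoinRoot P) := (AdjoinRoot.powerBasis hPirr.ne_zero).finite
  haveI : Finite (AdjoinRoot P) := Module.finite_of_finite F
  have hLdim : Module.finrank F (AdjoinRoot P) = n := by
    rw [(AdjoinRoot.powerBasis hPirr.ne_zero).finrank, AdjoinRoot.powerBasis_dim, hPdeg]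
  let T₀ : AdjoinRoot P →ₗ[F] K :=
    { toFun := fun l => ψ l 1
      map_add' := fun a b => by rw [map_add]; rfl
      map_smul' := fun c a => by rw [map_smul]; rfl }
  have hT₀ : Function.Injective T₀ := by
    refine (injective_iff_map_eq_zero T₀).2 fun l hl => ?_
    by_contra hne
    have h1 : ψ l⁻¹ (ψ l 1) = 1 := by
      rw [← Module.End.mul_apply, ← map_mul, inv_mul_cancel₀ hne, map_one ψ]; rfl
    rw [show ψ l 1 = 0 from hl, map_zero] at h1
    exact zero_ne_one h1
  have hT₀s : Function.Surjective T₀ :=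
    (LinearMap.injective_iff_surjective_of_finrank_eq_finrank (by rw [hLdim, hdim])).1 hT₀
  have hUψ : U ≤ (Units.map (ψ : AdjoinRoot P →* Module.End F K)).range := by
    intro u hu
    have hcomm : Commute (u : Module.End F K) f := by
      have := congrArg (fun w : U => ((w : (Module.End F K)ˣ) : Module.End F K)) (hU.is_comm.comm ⟨u, hu⟩ x)
      exact this
    have hall : ∀ l, Commute (u : Module.End F K) (ψ l) := by
      intro l
      obtain ⟨g, rfl⟩ := AdjoinRoot.mk_surjective l
      rw [hψmk]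
      induction g using Polynomial.induction_on' with
      | add a b ha hb => rw [map_add]; exact ha.add_right hb
      | monomial k c =>
        rw [aeval_monomial]
        exact (Algebra.commute_algebraMap_right c _).mul_right (hcomm.pow_right k)
    obtain ⟨l, hl⟩ := hT₀s ((u : Module.End F K) 1)
    have hul : (u : Module.End F K) = ψ l := by
      refine LinearMap.ext fun y => ?_
      obtain ⟨m, rfl⟩ := hT₀s y
      have h1 := congrArg (fun e : Module.End F K => e 1) (hall m).eq
      simp only [Module.End.mul_apply] at h1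
      show (u : Module.End F K) (ψ m 1) = ψ l (ψ m 1)
      have key : ψ m (ψ l 1) = ψ l (ψ m 1) := by
        rw [← Module.End.mul_apply, ← Module.End.mul_apply, ← map_mul, ← map_mul, mul_comm]
      rw [h1, ← hl]
      exact key
    have hl0 : l ≠ 0 := fun h => by
      rw [h, map_zero] at hul
      exact Units.ne_zero u hul
    exact ⟨Units.mk0 l hl0, Units.ext hul.symm⟩
  obtain ⟨φ⟩ := FiniteField.nonempty_algHom_of_finrank_dvd (F := F) (K := K) (L := AdjoinRoot P)
    (by rw [hdim, hLdim])
  let ψ' : K →ₐ[F] Module.End F K := ψ.comp φ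
  have hψi : Function.Injective ψ := fun a b h => hT₀ (by show ψ a 1 = ψ b 1; rw [h])
  have hψ'i : Function.Injective ψ' := hψi.comp (φ : K →+* AdjoinRoot P).injective
  have := Fintype.ofFinite (AdjoinRoot P)
  have hUc : (Units.map (ψ : AdjoinRoot P →* Module.End F K)).range = U := by
    refine (Subgroup.eq_of_le_of_card_ge hUψ ?_).symm
    rw [hcard, ← Nat.card_congr (MonoidHom.ofInjective (Units.map_injective (f := (ψ : AdjoinRoot P →* Module.End F K)) hψi)).toEquiv,
      Nat.card_units, Nat.card_eq_fintype_card, Module.card_eq_pow_finrank (K := F), hLdim, hK]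
  let T : K →ₗ[F] K :=
    { toFun := fun a => ψ' a 1
      map_add' := fun a b => by rw [map_add]; rfl
      map_smul' := fun c a => by rw [map_smul]; rfl }
  have hTi : Function.Injective T := fun a b h => (φ : K →+* AdjoinRoot P).injective (hT₀ h)
  let Te : K ≃ₗ[F] K := LinearEquiv.ofBijective T ⟨hTi, LinearMap.injective_iff_surjective.1 hTi⟩
  have hTmul : ∀ a b, T (a * b) = ψ' a (T b) := fun a b => by
    show ψ' (a * b) 1 = ψ' a (ψ' b 1)
    rw [map_mul]; rfl
  let g : (Module.End F K)ˣ := LinearMap.GeneralLinearGroup.ofLinearEquiv Te.symm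
  refine ⟨g, Subgroup.eq_of_le_of_card_ge ?_ ?_⟩
  · rintro _ ⟨u, hu, rfl⟩
    rw [SetLike.mem_coe, ← hUc] at hu
    obtain ⟨l, rfl⟩ := hu
    obtain ⟨a, ha⟩ : ∃ a, φ a = (l : AdjoinRoot P) := by
      have hb : Function.Bijective φ := (Fintype.bijective_iff_injective_and_card _).2
        ⟨(φ : K →+* AdjoinRoot P).injective,
          by rw [Module.card_eq_pow_finrank (K := F), Module.card_eq_pow_finrank (K := F) (V := AdjoinRoot P), hdim, hLdim]⟩
      exact hb.2 _
    have ha0 : a ≠ 0 := fun h => l.ne_zero (by rw [← ha, h, map_zero])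
    refine ⟨Units.mk0 a ha0, Units.ext (LinearMap.ext fun b => ?_)⟩
    show a * b = Te.symm (ψ (l : AdjoinRoot P) (Te b))
    rw [← ha]
    exact (Te.eq_symm_apply).2 (hTmul a b)
  · rw [Subgroup.card_map_of_injective (MulEquiv.injective _), hcard,
      ← Nat.card_congr (MonoidHom.ofInjective (Units.map_injective (f := ((Algebra.lmul F K : K →ₐ[F] Module.End F K) : K →* Module.End F K)) (fun a b h => by
        have := congrArg (fun e : Module.End F K => e 1) h
        simpa using this))).toEquiv,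
      Nat.card_units, Nat.card_eq_fintype_card]

end Cfsg.Agent.S5947
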