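import Cfsg.Statements.S5950
import Cfsg.Agent.Classical.Elusive.Linear
import Cfsg.Agent.Classical.Elusive.Jordan

set_option autoImplicit false

open Cfsg.Agent

namespace Cfsg.Agent.S5950

/-- Elements of prime order of PSL_n(q) fixing no decomposition `F^n = U ⊕ W` with `dim U = m`. Here `T = PSL_n(F)` for a field `F` with `q = p^f` elements (`n ≥ 2`, `(n, q) ≠ (2, 2), (2, 3)`); an element of `T` of prime order `r` is represented by a matrix `x` of determinant 1 with `x^r` scalar and `x` not scalar; `i` denotes the multiplicative order of `q` modulo `r` (when `r ≠ p`), and `(a)_r` the `r`-part of `a`. Let `n ≥ 3`, `1 ≤ m < n/2`, and let `r` be a prime dividing the number of such decompositions (unordered pairs `{U, W}` of complementary subspaces with `dim U = m`; since `m ≠ n − m` these are the ordered pairs with `dim U = m`). Then every element of `T` of order `r` fixes such a pair (fixes both `U` and `W` for some complementary `U, W` with `dim U = m`) if and only if one of: (i) `r = p > 2` and every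 partition of `n` into parts of size at most `p` contains, as a sub-multiset, a partition of `m`; (ii) `r = p = 2` and `n` is odd or `m` is even; (iii) `r ≠ p`, `i = 1`, and `r ∣ m` or `(q−1)_r ≥ (n)_r` (with `q ≡ 1 (mod 4)` required when `r = 2` and `n` is even); (iv) `r ≠ p`, `2 ≤ i ≤ m` and `n mod i ≥ m mod i`. -/
theorem result {F : Type*} [Field F] [Fintype F] {p : ℕ} [Fact p.Prime] [CharP F p] {q : ℕ} (hq : Fintype.card F = q)
    (n m : ℕ) (hn : 3 ≤ n) (hm : 1 ≤ m) (hmn : 2 * m < n)
    (r : ℕ) [Fact r.Prime]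
    (hrΩ : r ∣ Nat.card {P : Submodule F (Fin n → F) × Submodule F (Fin n → F) // IsCompl P.1 P.2 ∧ Module.finrank F ↥P.1 = m}) :
    (∀ x : Matrix.SpecialLinearGroup (Fin n) F,
      (∃ c : F, ((x ^ r : Matrix.SpecialLinearGroup (Fin n) F) : Matrix (Fin n) (Fin n) F) = c • (1 : Matrix (Fin n) (Fin n) F)) →
      (∀ c : F, (x : Matrix (Fin n) (Fin n) F) ≠ c • (1 : Matrix (Fin n) (Fin n) F)) →
      ∃ U W : Submodule F (Fin n → F), IsCompl U W ∧ Module.finrank F ↥U = m ∧
        U.map (Matrix.toLin' (x : Matrix (Fin n) (Fin n) F)) ≤ U ∧ W.map (Matrix.toLin' (x : Matrix (Fin n) (Fin n) F)) ≤ W) ↔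
    ((r = p ∧ 2 < p ∧ (∀ μ : Multiset ℕ, (∀ a ∈ μ, 0 < a ∧ a ≤ p) → μ.sum = n → ∃ ν : Multiset ℕ, ν ≤ μ ∧ ν.sum = m)) ∨
     (r = p ∧ p = 2 ∧ (Odd n ∨ Even m)) ∨
     (r ≠ p ∧
      ((orderOf (q : ZMod r) = 1 ∧ (r ∣ m ∨ (padicValNat r n ≤ padicValNat r (q - 1) ∧ (r = 2 → Even n → q % 4 = 1)))) ∨
       (2 ≤ orderOf (q : ZMod r) ∧ orderOf (q : ZMod r) ≤ m ∧ m % orderOf (q : ZMod r) ≤ n % orderOf (q : ZMod r))))) := by
  classical
  subst hq
  have hdec := Classical.Elusive.of_dvd_decompositions (r := r) (Module.finrank_fin_fun F) (by omega) hrΩ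
  set i := orderOf (Fintype.card F : ZMod r) with hidef
  by_cases hrp : r = p
  · subst hrp
    haveI : Nonempty (Fin n) := ⟨⟨0, by omega⟩⟩
    haveI : CharP (Module.End F (Fin n → F)) r :=
      charP_of_injective_algebraMap (FaithfulSMul.algebraMap_injective F _) r
    have hne1 : r ≠ 1 := (Fact.out : r.Prime).ne_one
    constructor
    · intro H
      by_contra hne
      obtain ⟨μ, hμ, hμs, hμn⟩ : ∃ μ : Multiset ℕ, (∀ a ∈ μ, 0 < a ∧ a ≤ r) ∧ μ.sum = n ∧
          ¬ ∃ ν : Multiset ℕ, ν ≤ μ ∧ ν.sum = m := by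
        rcases eq_or_ne r 2 with h2 | h2
        · subst h2
          have h : ¬ (Odd n ∨ Even m) := fun h => hne (Or.inr (Or.inl ⟨rfl, rfl, h⟩))
          rw [not_or, Nat.not_odd_iff_even, Nat.not_even_iff_odd] at h
          obtain ⟨⟨k, hk⟩, l, hl⟩ := h
          refine ⟨Multiset.replicate k 2, fun a ha => by rw [Multiset.eq_of_mem_replicate ha]; omega,
            by rw [Multiset.sum_replicate, smul_eq_mul]; omega, ?_⟩
          rintro ⟨ν, hν, hs⟩
          obtain ⟨j, -, rfl⟩ := Multiset.le_replicate_iff.1 hν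
          rw [Multiset.sum_replicate, smul_eq_mul] at hs
          omega
        · by_contra h
          refine hne (Or.inl ⟨rfl, lt_of_le_of_ne (Fact.out : r.Prime).two_le h2.symm, fun μ hμ hs => ?_⟩)
          by_contra h'
          exact h ⟨μ, hμ, hs, h'⟩
      have h0 : (0 : ℕ) ∉ μ := fun h => absurd (hμ 0 h).1 (lt_irrefl 0)
      obtain ⟨g, hg⟩ := MatModule.exists_gl_hasType (F := F) μ hμs
      have hz := (MatModule.sub_one_pow_eq_zero_iff hg r).2 fun a ha => (hμ a ha).2
      have hgp : g ^ r = 1 := by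
        have := (MatModule.toLin'_pow_eq_one_iff g 1 (p := r)).2 (by rwa [pow_one])
        rwa [pow_one] at this
      have hdet : (g : Matrix (Fin n) (Fin n) F).det = 1 := by
        have h1 : ((g : Matrix (Fin n) (Fin n) F).det - 1) ^ r = 0 := by
          rw [sub_pow_char, one_pow, ← Matrix.det_pow, ← Units.val_pow_eq_pow_val, hgp, Units.val_one,
            Matrix.det_one, sub_self]
        exact sub_eq_zero.1 (eq_zero_of_pow_eq_zero h1)
      obtain ⟨x, hxg⟩ : ∃ x : Matrix.SpecialLinearGroup (Fin n) F, (x : Matrix (Fin n) (Fin n) F) = g :=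
        ⟨⟨g, hdet⟩, rfl⟩
      obtain ⟨U, W, hc, hU, hUi, hWi⟩ := H x ⟨1, by
          rw [Matrix.SpecialLinearGroup.coe_pow, one_smul]
          rw [hxg, ← Units.val_pow_eq_pow_val, hgp, Units.val_one]⟩ (by
        intro z hz1
        rw [hxg] at hz1
        have hzr : z ^ r = 1 := by
          have := congrArg Units.val hgp
          rw [Units.val_pow_eq_pow_val, hz1, Units.val_one, _root_.smul_pow, one_pow] at this
          exact smul_left_injective F (one_ne_zero (α := Matrix (Fin n) (Fin n) F))
            (this.trans (one_smul F 1).symm)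
        have hz2 : (z - 1) ^ r = 0 := by rw [sub_pow_char, hzr, one_pow, sub_self]
        rw [sub_eq_zero.1 (eq_zero_of_pow_eq_zero hz2), one_smul] at hz1
        have h1 := (MatModule.sub_one_pow_eq_zero_iff hg 1).1 (by
          rw [hz1, Matrix.toLin'_one, pow_one]; exact sub_self _)
        have hrep : μ = Multiset.replicate μ.card 1 :=
          Multiset.eq_replicate_card.2 fun a ha => le_antisymm (h1 a ha) (hμ a ha).1
        have hcard : μ.card = n := by
          rw [hrep, Multiset.sum_replicate, smul_eq_mul, mul_one] at hμs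
          exact hμs
        exact hμn ⟨Multiset.replicate m 1, by
          rw [hrep, hcard]; exact (Multiset.replicate_le_replicate 1).2 (by omega), by simp⟩)
      rw [hxg] at hUi hWi
      obtain ⟨ν, hν, hs⟩ := Classical.Elusive.exists_le_of_decomp hg h0 hc hUi hWi
      exact hμn ⟨ν, hν, hs.trans hU⟩
    · intro hR x ⟨c, hx⟩ _
      have hc := Classical.Elusive.scalar_ne_zero (by omega) x hx
      obtain ⟨d, rfl⟩ : ∃ d : F, d ^ r = c :=
        ⟨(frobeniusEquiv F r).symm c, frobeniusEquiv_symm_pow_p F r c⟩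
      have hd : d ≠ 0 := fun h => hc (by rw [h, zero_pow (Fact.out : r.Prime).ne_zero])
      set φ := Matrix.toLin' (x : Matrix (Fin n) (Fin n) F) with hφ
      set ψ := d⁻¹ • φ with hψdef
      have hψ : (ψ - 1) ^ r = 0 := by
        rw [sub_pow_char_of_commute _ (Commute.one_right ψ), hψdef, _root_.smul_pow,
          Classical.Elusive.toLin'_pow_smul x hx, smul_smul, ← mul_pow, inv_mul_cancel₀ hd, one_pow,
          one_smul, one_pow, sub_self]
      obtain ⟨μ, h0, hμ⟩ := MatModule.exists_hasType ψ hψ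
      have hsum : μ.sum = n := by rw [MatModule.sum_eq_finrank hμ, Module.finrank_fin_fun]
      have hle := (MatModule.sub_one_pow_eq_zero_iff hμ r).1 hψ
      have hpos : ∀ a ∈ μ, 0 < a ∧ a ≤ r :=
        fun a ha => ⟨Nat.pos_of_ne_zero fun h => h0 (h ▸ ha), hle a ha⟩
      obtain ⟨ν, hν, hs⟩ : ∃ ν : Multiset ℕ, ν ≤ μ ∧ ν.sum = m := by
        rcases hR with ⟨-, -, h⟩ | ⟨-, h2, h⟩ | ⟨h, -⟩
        · exact h μ hpos hsum
        · subst h2
          have hD : ∀ a : μ.ToType, a.fst = 1 ∨ a.fst = 2 := fun a => by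
            have := hpos a.fst Multiset.coe_mem
            omega
          obtain ⟨S, -, hS, -⟩ := Classical.Elusive.exists_two_subsets (ι := μ.ToType)
            (deg := fun a => a.fst) (D := 2) (n := n) (m := m) (t := 1) hD
            (by rw [← hsum]; exact congrArg Multiset.sum (Multiset.map_univ_coe μ)) (Or.inl rfl) (by omega) (by
              rcases h with h | h
              · rw [Nat.odd_iff.1 h]; omega
              · rw [Nat.even_iff.1 h]; omega)
          refine ⟨S.val.map fun a : μ.ToType => a.fst, ?_, hS⟩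
          calc S.val.map (fun a => a.fst) ≤ Finset.univ.val.map (fun a : μ.ToType => a.fst) :=
                Multiset.map_le_map (Finset.val_le_iff.2 S.subset_univ)
            _ = μ := Multiset.map_univ_coe μ
        · exact absurd rfl h
      obtain ⟨U, W, hcompl, hU, hUi, hWi⟩ := Classical.Elusive.exists_decomp_of_le hμ hν
      have hmap : ∀ X : Submodule F (Fin n → F), X.map ψ ≤ X → X.map φ ≤ X := by
        rintro X hX _ ⟨v, hv, rfl⟩
        have h2 : φ v = d • ψ v := by
          rw [hψdef, LinearMap.smul_apply, smul_smul, mul_inv_cancel₀ hd, one_smul]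
        rw [h2]
        exact X.smul_mem d (hX (Submodule.mem_map_of_mem hv))
      exact ⟨U, W, hcompl, hU.trans hs, hmap U hUi, hmap W hWi⟩
  · have hr : (r : F) ≠ 0 := fun h => hrp
      ((Nat.prime_dvd_prime_iff_eq (Fact.out : p.Prime) (Fact.out : r.Prime)).1
        ((CharP.cast_eq_zero_iff F p r).1 h)).symm
    obtain ⟨hrq, hnlt, hile⟩ := hdec.resolve_left fun hd => hr (by
      obtain ⟨k, hk, hk'⟩ := FiniteField.card F p
      rw [hk'] at hd
      exact absurd ((Nat.prime_dvd_prime_iff_eq (Fact.out : r.Prime) hk).1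
        ((Fact.out : r.Prime).dvd_of_dvd_pow hd)) hrp)
    constructor
    · intro H
      refine Or.inr (Or.inr ⟨hrp, ?_⟩)
      by_contra hne
      have hnc : ¬ Classical.Elusive.Cond (Fintype.card F) n m r 1 := by
        rintro (h | ⟨h2, h⟩)
        · exact hne (Or.inl h)
        · rw [one_mul, ← hidef] at h
          refine hne (Or.inr ⟨h2, ?_, h⟩)
          by_contra hlt
          rw [Nat.mod_eq_of_lt (Nat.lt_of_not_le hlt)] at h
          omega
      obtain ⟨x, c, hx, hns, hbad⟩ := Classical.Elusive.exists_bad hr (by omega) hile hnc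
      obtain ⟨W, W', -, hW, hinv, -⟩ := H x ⟨c, hx⟩ hns
      rcases hbad with ⟨hrm, hd⟩ | ⟨rfl, hlt, heig⟩
      · exact hrm (hW ▸ hd W hinv)
      · obtain ⟨a, j, hsum, ha⟩ := Classical.Elusive.exists_finrank_decomp hr (one_ne_zero (α := F))
          (by rw [one_pow]; exact Classical.Elusive.toLin'_pow_smul x hx) W hinv
        have := (Submodule.finrank_mono (inf_le_right (a := W))).trans heig
        rw [← hidef] at hsum hlt this
        have h1 : m % i ≤ a := by
          rw [← hW, hsum, Nat.add_mul_mod_self_left]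
          exact Nat.mod_le _ _
        omega
    · rintro hR x ⟨c, hx⟩ -
      have hR' := ((hR.resolve_left fun h => hrp h.1).resolve_left fun h => hrp h.1).2
      have hcond : Classical.Elusive.Cond (Fintype.card F) n m r 1 := by
        rcases hR' with h | ⟨h2, -, h⟩
        · exact Or.inl h
        · exact Or.inr ⟨h2, by rwa [one_mul]⟩
      obtain ⟨ι, _, s, hs, hsum, ⟨Φ, hΦ⟩, D, hD, hmod⟩ :=
        Classical.Elusive.exists_pieces hr (by omega) hcond x hx
      obtain ⟨S, -, hS, -⟩ := Classical.Elusive.exists_two_subsets hD hsum (Or.inl rfl) (by omega) hmod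
      exact ⟨Classical.Elusive.piece Φ S, Classical.Elusive.piece Φ Sᶜ,
        Classical.Elusive.isCompl_piece S, (Classical.Elusive.finrank_piece hs S).trans hS,
        Classical.Elusive.piece_map_le hΦ S, Classical.Elusive.piece_map_le hΦ Sᶜ⟩

end Cfsg.Agent.S5950
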