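import Cfsg.Statements.S5951
import Cfsg.Agent.Classical.Elusive.Linear

set_option autoImplicit false

open Cfsg.Agent

namespace Cfsg.Agent.S5951

/-- Elements of prime order of PSL_n(q) fixing no pair of subspaces `U < W` with `dim U = m`, `dim W = n − m`. Here `T = PSL_n(F)` for a field `F` with `q = p^f` elements (`n ≥ 2`, `(n, q) ≠ (2, 2), (2, 3)`); an element of `T` of prime order `r` is represented by a matrix `x` of determinant 1 with `x^r` scalar and `x` not scalar; `i` denotes the multiplicative order of `q` modulo `r` (when `r ≠ p`), and `(a)_r` the `r`-part of `a`. Let `1 ≤ m < n/2` and let `r` be a prime dividing the number of such pairs. Then every element of `T` of order `r` fixes such a pair (both `U` and `W`) if and only if `r ≠ p` and either (i) `i = 1` and (`r ∣ m`, or `(q−1)_r ≥ (n)_r` with `q ≡ 1 (mod 4)` required when `r = 2` and `n` is even), or (ii) `2 ≤ i ≤ m` and `n mod i ≥ 2 (m mod i)`. -/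
theorem result {F : Type*} [Field F] [Fintype F] {p : ℕ} [Fact p.Prime] [CharP F p] {q : ℕ} (hq : Fintype.card F = q)
    (n m : ℕ) (hn : 2 ≤ n) (hT : (n, q) ≠ (2, 2) ∧ (n, q) ≠ (2, 3)) (hm : 1 ≤ m) (hmn : 2 * m < n)
    (r : ℕ) [Fact r.Prime]
    (hrΩ : r ∣ Nat.card {P : Submodule F (Fin n → F) × Submodule F (Fin n → F) //
        P.1 ≤ P.2 ∧ Module.finrank F ↥P.1 = m ∧ Module.finrank F ↥P.2 = n - m}) :
    (∀ x : Matrix.SpecialLinearGroup (Fin n) F,
      (∃ c : F, ((x ^ r : Matrix.SpecialLinearGroup (Fin n) F) : Matrix (Fin n) (Fin n) F) = c • (1 : Matrix (Fin n) (Fin n) F)) →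
      (∀ c : F, (x : Matrix (Fin n) (Fin n) F) ≠ c • (1 : Matrix (Fin n) (Fin n) F)) →
      ∃ U W : Submodule F (Fin n → F), U ≤ W ∧ Module.finrank F ↥U = m ∧ Module.finrank F ↥W = n - m ∧
        U.map (Matrix.toLin' (x : Matrix (Fin n) (Fin n) F)) ≤ U ∧ W.map (Matrix.toLin' (x : Matrix (Fin n) (Fin n) F)) ≤ W) ↔
    (r ≠ p ∧
      ((orderOf (q : ZMod r) = 1 ∧ (r ∣ m ∨ (padicValNat r n ≤ padicValNat r (q - 1) ∧ (r = 2 → Even n → q % 4 = 1)))) ∨
       (2 ≤ orderOf (q : ZMod r) ∧ orderOf (q : ZMod r) ≤ m ∧ 2 * (m % orderOf (q : ZMod r)) ≤ n % orderOf (q : ZMod r)))) := by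
  classical
  subst hq
  obtain ⟨hrq, hnlt, hile⟩ := Classical.Elusive.of_dvd_flags (Module.finrank_fin_fun F) (by omega) hrΩ
  have hr : (r : F) ≠ 0 := Classical.Elusive.cast_ne_zero_of_not_dvd hrq
  have hrp : r ≠ p := by
    rintro rfl
    exact hr (CharP.cast_eq_zero F r)
  set i := orderOf (Fintype.card F : ZMod r) with hidef
  constructor
  · intro H
    refine ⟨hrp, ?_⟩
    by_contra hne
    have hnc : ¬ Classical.Elusive.Cond (Fintype.card F) n m r 2 := by
      rintro (h | ⟨h2, h⟩)
      · exact hne (Or.inl h)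
      · rw [← hidef] at h
        refine hne (Or.inr ⟨h2, ?_, h⟩)
        by_contra hlt
        rw [Nat.mod_eq_of_lt (Nat.lt_of_not_le hlt)] at h
        omega
    obtain ⟨x, c, hx, hns, hbad⟩ := Classical.Elusive.exists_bad hr (by omega) hile hnc
    obtain ⟨U, W, hUW, hU, hW, hUi, hWi⟩ := H x ⟨c, hx⟩ hns
    rcases hbad with ⟨hrm, hd⟩ | ⟨rfl, hlt, heig⟩
    · exact hrm (hU ▸ hd U hUi)
    · have hpow := Classical.Elusive.toLin'_pow_smul x hx
      obtain ⟨W', hW'i, hc⟩ := Classical.Elusive.exists_compl_invariant hr (one_ne_zero (α := F)) hpow W hWi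
      have hW' : Module.finrank F W' = m := by
        have := Submodule.finrank_add_eq_of_isCompl hc
        rw [Module.finrank_fin_fun, hW] at this
        omega
      obtain ⟨a, j, hsum, ha⟩ := Classical.Elusive.exists_finrank_decomp hr (one_ne_zero (α := F))
        (by rw [one_pow]; exact hpow) U hUi
      obtain ⟨b, k, hsum', hb⟩ := Classical.Elusive.exists_finrank_decomp hr (one_ne_zero (α := F))
        (by rw [one_pow]; exact hpow) W' hW'i
      set E := Module.End.eigenspace (Matrix.toLin' (x : Matrix (Fin n) (Fin n) F)) (1 : F)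
      have hdis : (U ⊓ E) ⊓ (W' ⊓ E) = ⊥ := by
        rw [eq_bot_iff]
        exact (inf_le_inf (inf_le_left.trans hUW) inf_le_left).trans hc.disjoint.le_bot
      have hs := Submodule.finrank_sup_add_finrank_inf_eq (U ⊓ E) (W' ⊓ E)
      rw [hdis, finrank_bot, add_zero] at hs
      have hle := (Submodule.finrank_mono (sup_le (inf_le_right (a := U)) (inf_le_right (a := W')))).trans heig
      rw [← hidef] at hsum hsum' hlt hle
      have h1 : m % i ≤ a := by
        rw [← hU, hsum, Nat.add_mul_mod_self_left]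
        exact Nat.mod_le _ _
      have h2 : m % i ≤ b := by
        rw [← hW', hsum', Nat.add_mul_mod_self_left]
        exact Nat.mod_le _ _
      omega
  · rintro ⟨-, hR⟩ x ⟨c, hx⟩ -
    have hcond : Classical.Elusive.Cond (Fintype.card F) n m r 2 := by
      rcases hR with h | ⟨h2, -, h⟩
      · exact Or.inl h
      · exact Or.inr ⟨h2, h⟩
    obtain ⟨ι, _, s, hs, hsum, ⟨Φ, hΦ⟩, D, hD, hmod⟩ :=
      Classical.Elusive.exists_pieces hr (by omega) hcond x hx
    obtain ⟨S, T, hS, h2⟩ := Classical.Elusive.exists_two_subsets hD hsum (Or.inr rfl) (by omega) hmod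
    obtain ⟨hST, hT⟩ := h2 rfl
    refine ⟨Classical.Elusive.piece Φ S, Classical.Elusive.piece Φ Tᶜ,
      Classical.Elusive.piece_mono (fun a ha => Finset.mem_compl.2 (Finset.disjoint_left.1 hST ha)),
      (Classical.Elusive.finrank_piece hs S).trans hS, ?_,
      Classical.Elusive.piece_map_le hΦ S, Classical.Elusive.piece_map_le hΦ Tᶜ⟩
    rw [Classical.Elusive.finrank_piece hs]
    have := Finset.sum_compl_add_sum T fun a => (s a).natDegree
    omega

end Cfsg.Agent.S5951
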