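import Cfsg.Statements.S5952
import Mathlib

set_option autoImplicit false
open Cfsg

namespace Cfsg.Agent.S5952

/-- Which dimensions of invariant subspaces a semisimple linear map has. Let `V` be a finite-dimensional vector space over a field `F` and `f` an invertible semisimple linear map of `V`. Suppose `V` is the internal direct sum of the fixed space `C_V(f)` (the eigenspace for 1) and subspaces `U_1, …, U_s`, each `f`-invariant of dimension `a ≥ 1` on which `f` acts irreducibly (no `f`-invariant subspaces other than 0 and `U_j`). Let `0 < m < dim V` and `ℓ = m mod a`. Then `f` leaves some `m`-dimensional subspace invariant if and only if `dim C_V(f) ≥ m`, or `a ≤ m` and `dim C_V(f) ≥ ℓ`. -/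
theorem result {F V : Type*} [Field F] [AddCommGroup V] [Module F V]
    [FiniteDimensional F V] (f : V →ₗ[F] V) (hf : Function.Bijective f) (hss : Module.End.IsSemisimple f)
    {s a : ℕ} (ha : 1 ≤ a) (U : Fin s → Submodule F V)
    (hUinv : ∀ j, (U j).map f ≤ U j) (hUdim : ∀ j, Module.finrank F ↥(U j) = a)
    (hUirr : ∀ j, ∀ W : Submodule F V, W ≤ U j → W.map f ≤ W → W = ⊥ ∨ W = U j)
    (hdec : DirectSum.IsInternal (fun o : Option (Fin s) => o.elim (Module.End.eigenspace f 1) U))
    (m : ℕ) (hm : 0 < m) (hmV : m < Module.finrank F V) :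
    (∃ W : Submodule F V, Module.finrank F ↥W = m ∧ W.map f ≤ W) ↔
    (m ≤ Module.finrank F ↥(Module.End.eigenspace f 1) ∨
      (a ≤ m ∧ m % a ≤ Module.finrank F ↥(Module.End.eigenspace f 1))) := by
  classical
  set E := Module.End.eigenspace f 1 with hE
  let fam : Option (Fin s) → Submodule F V := fun o => o.elim E U
  have hind : iSupIndep fam := hdec.submodule_iSupIndep
  have htop : iSup fam = ⊤ := hdec.submodule_iSup_eq_top
  let T : Finset (Fin s) → Submodule F V := fun S => E ⊔ S.sup U
  have hfix : ∀ x ∈ E, f x = x := fun x hx => by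
    simpa using Module.End.mem_eigenspace_iff.1 hx
  have hTinv : ∀ S, (T S).map f ≤ T S := by
    intro S
    rw [Submodule.map_sup]
    refine sup_le_sup ?_ ?_
    · rintro _ ⟨x, hx, rfl⟩
      rw [hfix x hx]; exact hx
    · induction S using Finset.induction with
      | empty => simp
      | insert j S _ ih =>
        rw [Finset.sup_insert, Submodule.map_sup]
        exact sup_le_sup (hUinv j) ih
  have hTdisj : ∀ (S : Finset (Fin s)) (j : Fin s), j ∉ S → Disjoint (T S) (U j) := by
    intro S j hj
    refine ((hind (some j)).symm.mono_left ?_)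
    refine sup_le (le_iSup₂_of_le none (by simp) le_rfl) (Finset.sup_le fun i hi => ?_)
    exact le_iSup₂_of_le (some i) (by simp only [ne_eq, Option.some.injEq]; exact ne_of_mem_of_not_mem hi hj) le_rfl
  have hTins : ∀ (S : Finset (Fin s)) (j : Fin s), T (insert j S) = T S ⊔ U j := fun S j => by
    simp only [T, Finset.sup_insert]
    rw [sup_comm (U j), sup_assoc]
  have hT0 : T ∅ = E := by simp [T]
  have hrank : ∀ S : Finset (Fin s), Module.finrank F ↥(T S) = Module.finrank F ↥E + S.card * a := by
    intro S
    induction S using Finset.induction with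
    | empty =>
      rw [hT0, Finset.card_empty, zero_mul, add_zero]
    | insert j S hj ih =>
      have h := Submodule.finrank_sup_add_finrank_inf_eq (T S) (U j)
      rw [(hTdisj S j hj).eq_bot, finrank_bot, add_zero, ih, hUdim j, ← hTins] at h
      rw [h, Finset.card_insert_of_notMem hj]
      ring
  have hTuniv : T Finset.univ = ⊤ := by
    refine eq_top_iff.2 (htop.ge.trans (iSup_le fun o => ?_))
    cases o with
    | none => exact le_sup_left
    | some j => exact le_sup_of_le_right (Finset.le_sup (Finset.mem_univ j))
  have hVdim : Module.finrank F V = Module.finrank F ↥E + s * a := by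
    have := hrank Finset.univ
    rwa [hTuniv, finrank_top, Finset.card_univ, Fintype.card_fin] at this
  constructor
  · rintro ⟨W, hWm, hWinv⟩
    have key : ∀ S : Finset (Fin s), ∃ k, Module.finrank F ↥(W ⊓ T S) =
        Module.finrank F ↥(W ⊓ E) + k * a := by
      intro S
      induction S using Finset.induction with
      | empty =>
        refine ⟨0, ?_⟩
        rw [hT0, zero_mul, add_zero]
      | insert j S hj ih =>
        obtain ⟨k, hk⟩ := ih
        set Z := (W ⊓ (T S ⊔ U j)) ⊔ T S with hZ
        have hZinv : Z.map f ≤ Z := by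
          rw [hZ, Submodule.map_sup]
          refine sup_le_sup ((Submodule.map_inf_le f).trans (inf_le_inf hWinv ?_)) (hTinv S)
          rw [Submodule.map_sup]
          exact sup_le_sup (hTinv S) (hUinv j)
        have hZle : Z ≤ T S ⊔ U j := sup_le inf_le_right le_sup_left
        have hZeq : Z = T S ⊔ (U j ⊓ Z) := by
          rw [← sup_inf_assoc_of_le (U j) (le_sup_right : T S ≤ Z), inf_eq_right.2 hZle]
        have hrZ : ∃ d, Module.finrank F ↥Z = Module.finrank F ↥(T S) + d * a := by
          rcases hUirr j (U j ⊓ Z) inf_le_left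
            ((Submodule.map_inf_le f).trans (inf_le_inf (hUinv j) hZinv)) with h | h
          · exact ⟨0, by rw [hZeq, h, sup_bot_eq]; simp⟩
          · refine ⟨1, ?_⟩
            rw [hZeq, h, ← hTins, hrank, hrank, Finset.card_insert_of_notMem hj]
            ring
        obtain ⟨d, hd⟩ := hrZ
        refine ⟨k + d, ?_⟩
        have h := Submodule.finrank_sup_add_finrank_inf_eq (W ⊓ (T S ⊔ U j)) (T S)
        rw [← hZ, hd, inf_assoc, inf_eq_right.2 (le_sup_left : T S ≤ T S ⊔ U j), hk] at h
        rw [hTins, add_mul]
        omega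
    obtain ⟨k, hk⟩ := key Finset.univ
    rw [hTuniv, inf_top_eq, hWm] at hk
    have hle : Module.finrank F ↥(W ⊓ E) ≤ Module.finrank F ↥E := Submodule.finrank_mono inf_le_right
    rcases Nat.eq_zero_or_pos k with rfl | hk0
    · left; omega
    · right
      refine ⟨le_trans (Nat.le_mul_of_pos_left a hk0) (by omega), ?_⟩
      rw [hk, Nat.add_mul_mod_self_right]
      exact (Nat.mod_le _ _).trans hle
  · intro h
    obtain ⟨q, hqs, hqm, hqe⟩ : ∃ q, q ≤ s ∧ q * a ≤ m ∧ m - q * a ≤ Module.finrank F ↥E := by
      rcases h with h | ⟨ham, hr⟩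
      · exact ⟨0, Nat.zero_le _, by simp, by simpa using h⟩
      · have h1 := Nat.div_add_mod m a
        by_cases hq : m / a ≤ s
        · refine ⟨m / a, hq, ?_, ?_⟩ <;> rw [mul_comm] <;> omega
        · refine ⟨s, le_rfl, ?_, by omega⟩
          have : s * a ≤ a * (m / a) := by
            rw [mul_comm s]; exact Nat.mul_le_mul_left a (by omega)
          omega
    obtain ⟨S, -, hS⟩ := Finset.exists_subset_card_eq (s := (Finset.univ : Finset (Fin s)))
      (show q ≤ _ by rw [Finset.card_univ, Fintype.card_fin]; exact hqs)
    obtain ⟨W₀, hW₀⟩ : ∃ W₀ : Submodule F ↥E, Module.finrank F ↥W₀ = m - q * a :=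
      ⟨_, (finrank_span_eq_card ((Module.finBasis F ↥E).linearIndependent.comp _
        (Fin.castLE_injective hqe))).trans (Fintype.card_fin _)⟩
    refine ⟨W₀.map E.subtype ⊔ S.sup U, ?_, ?_⟩
    · have hd : Disjoint E (S.sup U) := by
        refine (hind none).mono_right (Finset.sup_le fun i _ => le_iSup₂_of_le (some i) (by simp) le_rfl)
      have h1 := Submodule.finrank_sup_add_finrank_inf_eq (W₀.map E.subtype) (S.sup U)
      rw [(hd.mono_left (Submodule.map_subtype_le E W₀)).eq_bot, finrank_bot, add_zero,
        Submodule.finrank_map_subtype_eq, hW₀] at h1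
      have h2 := hrank S
      have h3 := Submodule.finrank_sup_add_finrank_inf_eq E (S.sup U)
      rw [hd.eq_bot, finrank_bot, add_zero] at h3
      rw [hS] at h2
      simp only [T] at h2
      omega
    · rw [Submodule.map_sup]
      refine sup_le_sup ?_ ?_
      · rintro _ ⟨_, ⟨x, hx, rfl⟩, rfl⟩
        exact ⟨x, hx, (hfix x x.2).symm⟩
      · exact Finset.sup_induction (p := fun X : Submodule F V => X.map f ≤ X) (by simp)
          (fun X hX Y hY => by rw [Submodule.map_sup]; exact sup_le_sup hX hY) (fun i _ => hUinv i)

end Cfsg.Agent.S5952
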