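import Cfsg.Statements.S5953
import Cfsg.Agent.Classical.UnitElem.Tools
-- import your own Cfsg.Agent.* helpers here

set_option autoImplicit false
open scoped MatrixGroups
open Cfsg

namespace Cfsg.Agent.S5953

open Module in
open Classical.Herm in
open Classical.UnitElem in
open Classical.SympElem (Inv fx mv fx_apply) in
/-- An element of order two without an invariant maximal totally isotropic subspace. -/
theorem exists_bad_two {F : Type*} [Field F] [Fintype F] {σ : F →+* F} (hσ : IsInvol σ) {q n : ℕ}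
    (hF : Fintype.card F = q ^ 2) (hσq : ∀ x, σ x = x ^ q) (h2 : (2 : F) ≠ 0) (hn : 2 ≤ n)
    (hv : padicValNat 2 n < padicValNat 2 (q + 1)) :
    ∃ D : Datum F σ n 2, ∀ W : Submodule F D.V, Inv D.a W → TI D.B W → 2 * finrank F W < n := by
  classical
  haveI : Fact (Nat.Prime 2) := ⟨Nat.prime_two⟩
  obtain ⟨w, hwo, hwq⟩ := exists_of_order hF (d := 2 ^ (padicValNat 2 n + 1))
    ((pow_dvd_pow 2 hv).trans pow_padicValNat_dvd)
  have hwn : w ^ n = -1 := by
    refine ((mul_self_eq_one_iff (a := w ^ n)).1 ?_).resolve_left fun h => ?_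
    · rw [← pow_add]
      refine orderOf_dvd_iff_pow_eq_one.1 ?_
      rw [hwo, ← two_mul, pow_succ']
      exact Nat.mul_dvd_mul_left 2 pow_padicValNat_dvd
    · have := hwo ▸ orderOf_dvd_of_pow_eq_one h
      exact pow_succ_padicValNat_not_dvd (p := 2) (by omega) this
  have hw0 : w ≠ 0 := fun h => by rw [h, zero_pow (by omega)] at hwn; simp at hwn
  have hone : (-1 : F) ≠ 1 := fun h => h2 (by linear_combination -h)
  let last : Fin n := ⟨n - 1, by omega⟩
  let u : Fin n → F := fun i => if i = last then -1 else 1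
  have hu2 : ∀ i, u i * u i = 1 := fun i => by by_cases h : i = last <;> simp [u, h]
  have huσ : ∀ i, u i * σ (u i) = 1 := fun i => by by_cases h : i = last <;> simp [u, h]
  obtain ⟨g, hg, hgv, hgd⟩ := HermPair.exists_diag u huσ
  set b : Module.End F (Fin n → F) := (g : (Fin n → F) →ₗ[F] (Fin n → F)) with hb
  have hbP : Pres (Classical.hermB n σ) b := fun x y => hg x y
  have hb2 : b ^ 2 = 1 := LinearMap.ext fun v => funext fun i => by
    rw [sq, Module.End.mul_apply, Module.End.one_apply]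
    show g (g v) i = v i
    rw [hgv, hgv, ← mul_assoc, hu2, one_mul]
  have hprod : ∏ i, u i = -1 := by
    rw [Finset.prod_ite_eq' Finset.univ last (fun _ => (-1 : F)), if_pos (Finset.mem_univ _)]
  have hwσ : w * σ w = 1 := by rw [hσq, ← pow_succ']; exact hwq
  have hns : ∀ z : F, w • b ≠ z • (1 : Module.End F (Fin n → F)) := by
    intro z hz
    have e : ∀ i, w * u i = z := fun i => by
      have h := congrFun (LinearMap.congr_fun hz (fun _ => (1 : F))) i
      simp only [LinearMap.smul_apply, Module.End.one_apply, Pi.smul_apply, smul_eq_mul, mul_one] at h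
      rw [← h, hb]
      show w * u i = w * g (fun _ => (1 : F)) i
      rw [hgv, mul_one]
    have h1 := (e last).trans (e ⟨0, by omega⟩).symm
    rw [show u last = -1 from if_pos rfl, show u ⟨0, _⟩ = 1 from if_neg fun h => by
      have := congrArg Fin.val h
      simp only [last] at this
      omega] at h1
    exact hone (mul_left_cancel₀ hw0 h1)
  suffices key : ∀ W : Submodule F (Fin n → F), Inv (w • b) W → TI (Classical.hermB n σ) W →
      2 * finrank F W < n by
    refine ⟨⟨_, Classical.hermB n σ, w • b, w ^ 2, Classical.hermB_isHerm hσ n, fun x y => ?_,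
      Module.finrank_fin_fun F, ?_, ?_, hns⟩, key⟩
    · simp only [LinearMap.smul_apply, map_smulₛₗ, smul_eq_mul, RingHom.id_apply, hbP x y]
      linear_combination Classical.hermB n σ x y * hwσ
    · rw [LinearMap.det_smul, Module.finrank_fin_fun, hwn, hb, hgd, hprod, neg_one_mul, neg_neg]
    · rw [_root_.smul_pow, hb2]
  intro W hW hT
  have hWb : Inv b W := fun x hx => by
    have := W.smul_mem w⁻¹ (hW x hx)
    rwa [LinearMap.smul_apply, smul_smul, inv_mul_cancel₀ hw0, one_smul] at this
  obtain ⟨-, hNf, hNm, -, hdim⟩ := fixed_decomp (Classical.hermB_isHerm hσ n) hbP (r := 2)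
    (by exact_mod_cast h2) hb2
  obtain ⟨-, hsum⟩ := split_inv (r := 2) (by exact_mod_cast h2) hb2 hWb
  have h1 := two_mul_le_of_ti (Classical.hermB_isHerm hσ n) hNf inf_le_right
    (fun x hx y hy => hT x hx.1 y hy.1 : TI (Classical.hermB n σ) (W ⊓ fx b))
  have h3 := two_mul_le_of_ti (Classical.hermB_isHerm hσ n) hNm inf_le_right
    (fun x hx y hy => hT x hx.1 y hy.1 : TI (Classical.hermB n σ) (W ⊓ mv b))
  have hle : finrank F (mv b) ≤ 1 := by
    refine (Submodule.finrank_mono (t := Submodule.span F {(Pi.single last 1 : Fin n → F)}) ?_).trans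
      ((finrank_span_le_card _).trans (by simp))
    rintro _ ⟨x, rfl⟩
    refine Submodule.mem_span_singleton.2 ⟨(u last - 1) * x last, funext fun i => ?_⟩
    show ((u last - 1) * x last) • (Pi.single last (1 : F) : Fin n → F) i = g x i - x i
    rw [hgv]
    by_cases h : i = last
    · subst h; simp; ring
    · simp [h, u]
  have hge : 0 < finrank F (mv b) := by
    refine Nat.pos_of_ne_zero fun h0 => hone ?_
    have h4 : mv b = ⊥ := Submodule.finrank_eq_zero.1 h0
    have h5 : (b - 1) (Pi.single last 1) = 0 := by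
      rw [← Submodule.mem_bot F, ← h4]; exact ⟨_, rfl⟩
    have h6 : g (Pi.single last 1) last - (Pi.single last (1 : F) : Fin n → F) last = 0 := congrFun h5 last
    rw [hgv, Pi.single_eq_same, mul_one, show u last = -1 from if_pos rfl, sub_eq_zero] at h6
    exact h6
  rw [Module.finrank_fin_fun] at hdim
  omega


/-- Elements of prime order of PSU_n(q) with no fixed totally isotropic `m`-space. Here `T = PSU_n(q)` (`n ≥ 3`, `(n, q) ≠ (3, 2)`), realised through the matrices of determinant 1 over the field `F` with `q²` elements preserving the Hermitian form `h(u, v) = Σ u_i v_i^q`; an element of `T` of prime order `r` is such a matrix `x` with `x^r` scalar and `x` not scalar. For `r ≠ p` let `i` be the multiplicative order of `q` modulo `r`, `b = i/2` for `i` even and `b = i` for `i` odd, `c = i, i/2, 2i` according as `i ≡ 0, 2 (mod 4)` or `i` odd, and write `k = n mod c`, `ℓ = m mod b`, `ℓ' = m mod c`, `n' = ⌊n/b⌋`, `m' = ⌊m/b⌋`, `s = (r−1)/b`; `(a)_r` is the `r`-part of `a`. Let `1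 ≤ m ≤ n/2` and let `r` be a prime dividing the number of totally isotropic `m`-spaces. Then every element of `T` of order `r` fixes a totally isotropic `m`-space if and only if either (i) `r = 2`, `p ≠ 2`, and (`m < n/2` or `(q+1)_2 ≤ (n)_2`); or (ii) `r ≠ p`, `r > 2`, `b ≤ m`, `k ≥ 2ℓ`, and either `i ≢ 2 (mod 4)`, or `i ≡ 2 (mod 4)`, `n' − 2m' ≥ s` and (`i > 2`, or `i = 2` and (`r ∣ m` or `(q+1)_r ≥ (n)_r`)). -/
theorem result {F : Type*} [Field F] [Fintype F] {p : ℕ} [Fact p.Prime] [CharP F p] {q : ℕ} (hq : Fintype.card F = q ^ 2)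
    (n m : ℕ) (hn : 3 ≤ n) (hT : (n, q) ≠ (3, 2)) (hm : 1 ≤ m) (hmn : 2 * m ≤ n)
    (r : ℕ) [Fact r.Prime]
    (hrΩ : r ∣ Nat.card {W : Submodule F (Fin n → F) // Module.finrank F ↥W = m ∧ (∀ u ∈ W, ∀ v ∈ W, Cfsg.hermForm n F q u v = 0)})
    (i b c : ℕ) (hi : i = orderOf (q : ZMod r)) (hb : b = if Even i then i / 2 else i)
    (hc : c = if i % 4 = 0 then i else if i % 4 = 2 then i / 2 else 2 * i) :
    (∀ x : Matrix.SpecialLinearGroup (Fin n) F, x ∈ Cfsg.SU n F q →
      (∃ z : F, ((x ^ r : Matrix.SpecialLinearGroup (Fin n) F) : Matrix (Fin n) (Fin n) F) = z • (1 : Matrix (Fin n) (Fin n) F)) →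
      (∀ z : F, (x : Matrix (Fin n) (Fin n) F) ≠ z • (1 : Matrix (Fin n) (Fin n) F)) →
      ∃ W : Submodule F (Fin n → F), Module.finrank F ↥W = m ∧ (∀ u ∈ W, ∀ v ∈ W, Cfsg.hermForm n F q u v = 0) ∧
        W.map (Matrix.toLin' (x : Matrix (Fin n) (Fin n) F)) ≤ W) ↔
    ((r = 2 ∧ p ≠ 2 ∧ (2 * m < n ∨ padicValNat 2 (q + 1) ≤ padicValNat 2 n)) ∨
     (r ≠ p ∧ 2 < r ∧ b ≤ m ∧ 2 * (m % b) ≤ n % c ∧
       (i % 4 ≠ 2 ∨ (i % 4 = 2 ∧ (r - 1) / b + 2 * (m / b) ≤ n / b ∧
         (2 < i ∨ (i = 2 ∧ (r ∣ m ∨ padicValNat r n ≤ padicValNat r (q + 1)))))))) := by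
  classical
  obtain ⟨σ, hσq, hσ, hfix, hq1⟩ := Classical.exists_powHom hq
  rw [Classical.UnitElem.card_ti_eq hσ hσq] at hrΩ
  obtain ⟨hrq, j₀, hj1, hj2, hj3⟩ := Classical.UnitElem.of_dvd_ti hσ hfix hmn hrΩ
  have hr := (Fact.out : r.Prime)
  obtain ⟨k₀, hpp, hk₀⟩ := FiniteField.card F p
  have hpq : p ∣ q := hpp.dvd_of_dvd_pow (n := 2) (by rw [← hq, hk₀]; exact dvd_pow_self p k₀.ne_zero)
  have hrp : r ≠ p := fun h => hrq (h ▸ hpq)
  have hrF : (r : F) ≠ 0 := fun h => hrp
    ((Nat.prime_dvd_prime_iff_eq hpp hr).1 ((CharP.cast_eq_zero_iff F p r).1 h)).symm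
  have hfin : Module.finrank F (Fin n → F) = n := Module.finrank_fin_fun F
  by_cases hr2 : r = 2
  · subst hr2
    have hp2 : p ≠ 2 := fun h => hrp h.symm
    have h2 : (2 : F) ≠ 0 := by exact_mod_cast hrF
    have hqo : q % 2 = 1 := by omega
    constructor
    · intro H
      refine Or.inl ⟨rfl, hp2, ?_⟩
      by_contra hne
      simp only [not_or, not_lt, not_le] at hne
      obtain ⟨D, hD⟩ := exists_bad_two hσ hq hσq h2 (by omega) hne.2
      obtain ⟨e, W, ⟨hWd, hWT⟩, he, hWi, hWr⟩ := D.pull hσq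
        (P := fun W => Module.finrank F W = m ∧ ∀ u ∈ W, ∀ v ∈ W, Cfsg.hermForm n F q u v = 0)
        (fun x hx hx1 hx2 => by obtain ⟨W, h1, h2, h3⟩ := H x hx hx1 hx2; exact ⟨W, ⟨h1, h2⟩, h3⟩)
      have hT := (Classical.UnitElem.ti_iff hσ hσq W).1 hWT
      have := hD _ hWi (fun u hu v hv => by rw [← he]; exact hT _ hu _ hv)
      rw [hWr, hWd] at this
      omega
    · intro hR x hx ⟨z, hz⟩ hns
      obtain ⟨-, -, hcond⟩ := hR.resolve_right (fun h => by omega)
      obtain ⟨hP, ha, hdet⟩ := Classical.UnitElem.of_mem hσq hx hz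
      set a : Module.End F (Fin n → F) := Matrix.toLin' (x : Matrix (Fin n) (Fin n) F)
      have hB := Classical.hermB_isHerm hσ n
      obtain ⟨v, hv⟩ := Classical.UnitElem.exists_ne_zero (F := F) (V := Fin n → F) (by omega)
      have hzq := Classical.UnitElem.scalar_norm hσq hB hP ha hv
      obtain ⟨w, hw0, hw2, hwq, hsign⟩ := Classical.UnitElem.exists_sqrt hq hqo hzq
      obtain ⟨hb1, hb2, hbW⟩ := Classical.UnitElem.smul_inv_props hP ha hw2 hw0
      have hwσ : w * σ w = z ^ ((q + 1) / 2) := by rw [hσq, ← pow_succ']; exact hwq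
      obtain ⟨W, hWi, hWT, hWd⟩ : Classical.UnitElem.HasTI (Classical.hermB n σ) (w⁻¹ • a) m := by
        rcases hsign with hs | hs
        · have hPb : Classical.UnitElem.Pres (Classical.hermB n σ) (w⁻¹ • a) := fun u v => by
            rw [hb1, hwσ, hs, inv_one, one_mul]
          refine Classical.UnitElem.exists_ti_involution hB hPb h2 hb2 ?_
          have hdim := Submodule.finrank_add_eq_of_isCompl (Classical.UnitElem.isCompl_fx_mv h2 hb2)
          rw [hfin] at hdim
          by_contra hlt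
          have hodd : Odd (Module.finrank F (Classical.SympElem.mv (w⁻¹ • a))) := by
            rw [Nat.odd_iff]; omega
          have hdb := Classical.UnitElem.det_involution h2 hb2
          rw [LinearMap.det_smul, hdet, mul_one, hodd.neg_one_pow, hfin, inv_pow, inv_eq_iff_eq_inv, inv_neg,
            inv_one] at hdb
          have hle := hcond.resolve_left (by omega)
          obtain ⟨M, hM⟩ : 2 ^ padicValNat 2 (q + 1) ∣ q + 1 := pow_padicValNat_dvd
          obtain ⟨N, hN⟩ : 2 ^ padicValNat 2 (q + 1) ∣ n := (pow_dvd_pow 2 hle).trans pow_padicValNat_dvd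
          have hModd : Odd M := by
            rw [← Nat.not_even_iff_odd]
            rintro ⟨k, hk⟩
            refine pow_succ_padicValNat_not_dvd (p := 2) (n := q + 1) (by omega) ⟨k, ?_⟩
            calc q + 1 = 2 ^ padicValNat 2 (q + 1) * M := hM
              _ = 2 ^ (padicValNat 2 (q + 1) + 1) * k := by rw [hk]; ring
          have hwu : w ^ (q + 1) = 1 := hwq.trans hs
          have h5 : ((-1 : F)) ^ M = 1 := by
            have hnM : n * M = (q + 1) * N := by rw [hM, hN]; ring
            rw [← hdb, ← pow_mul, hnM, pow_mul, hwu, one_pow]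
          rw [hModd.neg_one_pow] at h5
          exact h2 (by linear_combination -h5)
        · have hanti : ∀ u v, Classical.hermB n σ ((w⁻¹ • a) u) ((w⁻¹ • a) v) = -Classical.hermB n σ u v :=
            fun u v => by rw [hb1, hwσ, hs, inv_neg, inv_one, neg_one_mul]
          obtain ⟨hf, -, hd, he⟩ := Classical.UnitElem.anti_pair hB h2 hb2 hanti
          rw [hfin] at hd
          obtain ⟨W, hW, hWd⟩ : ∃ W : Submodule F (Fin n → F),
              W ≤ Classical.SympElem.fx (w⁻¹ • a) ∧ Module.finrank F W = m := by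
            let bs := Module.finBasis F (Classical.SympElem.fx (w⁻¹ • a))
            let g : Fin m → (Fin n → F) := fun i => (bs (Fin.castLE (by omega) i) : Fin n → F)
            have hg : LinearIndependent F g :=
              (bs.linearIndependent.comp _ (Fin.castLE_injective _)).map'
                (Classical.SympElem.fx (w⁻¹ • a)).subtype (Submodule.ker_subtype _)
            exact ⟨Submodule.span F (Set.range g),
              Submodule.span_le.2 (by rintro _ ⟨i, rfl⟩; exact Submodule.coe_mem _),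
              by rw [finrank_span_eq_card hg, Fintype.card_fin]⟩
          exact ⟨W, Classical.SympElem.inv_of_le_fx hW, fun u hu v hv => hf u (hW hu) v (hW hv), hWd⟩
      exact ⟨W, hWd, (Classical.UnitElem.ti_iff hσ hσq W).2 hWT,
        Classical.SympElem.inv_iff.1 (hbW W hWi)⟩
  -- odd primes
  have hOP : Classical.UnitElem.OddPrime σ q r := ⟨hσ, hq, hσq, hr, hr2, hrF⟩
  have hr3 : 2 < r := by have := hr.two_le; omega
  obtain ⟨hcc, hi2, hi1, hipos⟩ := Classical.UnitElem.orderOf_two_cases hr2 hOP.not_dvd hi hc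
  have hbb : b = orderOf ((q : ZMod r) ^ 2) := by rw [hb, hi, Classical.UnitElem.orderOf_sq_cases]
  obtain ⟨hb0, hcases⟩ := Classical.UnitElem.block_cases hr2 hOP.not_dvd
  rw [← hcc, ← hbb, ← hi] at hcases
  rw [← hbb] at hb0
  constructor
  swap
  · intro hR x hx ⟨z, hz⟩ hns
    obtain ⟨-, -, hbm, hkl, hcond⟩ := hR.resolve_left (fun h => hr2 h.1)
    obtain ⟨hP, ha, hdet⟩ := Classical.UnitElem.of_mem hσq hx hz
    have hB := Classical.hermB_isHerm hσ n
    suffices Classical.UnitElem.HasTI (Classical.hermB n σ) (Matrix.toLin' (x : Matrix (Fin n) (Fin n) F)) m by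
      obtain ⟨W, hWi, hWT, hWd⟩ := this
      exact ⟨W, hWd, (Classical.UnitElem.ti_iff hσ hσq W).2 hWT, Classical.SympElem.inv_iff.1 hWi⟩
    rcases Classical.UnitElem.normalise hσ hq hσq (p := p) (Or.inr hr2) hB hP ha (by omega) with
      ⟨b', hPb, hbr, hbW⟩ | ⟨hrq1, -, hzq, hroot⟩
    · obtain ⟨W, hWi, hWT, hWd⟩ := Classical.UnitElem.exists_prime_ti hOP hB hPb hbr hfin hmn
        (by rw [← hbb, ← hcc]; exact hkl) (by
          rw [← hbb, ← hcc]
          rcases hcond with h4 | ⟨h4, h5, -⟩
          · rcases hcases with ⟨h6, -⟩ | ⟨-, h6⟩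
            · exact absurd h6 h4
            · exact Or.inl h6
          · exact Or.inr h5)
      exact ⟨W, hbW W hWi, hWT, hWd⟩
    · have hi_2 := hi2.2 hrq1
      obtain ⟨hn', hdn⟩ := Classical.UnitElem.det_twisted hr2 hroot ha
      rw [hfin] at hn' hdn
      have hrm : r ∣ m := by
        obtain ⟨-, -, h6⟩ := hcond.resolve_left (by omega)
        rcases (h6.resolve_left (by omega)).2 with h7 | h7
        · exact h7
        · have := Classical.UnitElem.twisted_valuation hq hrq1 hzq hroot (by omega) hn' (hdn.symm.trans hdet)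
          omega
      have hS := Classical.UnitElem.twisted_self_inv hq hσq hrq1 hr2 hzq hroot ha
      obtain ⟨A, hA⟩ := hrm
      obtain ⟨-, T, -, -, -, -, -, hTi, hTT, hTd⟩ := Classical.UnitElem.chain (M := (Polynomial.X ^ r - Polynomial.C z : Polynomial F).natDegree)
        (c := 2 * r) (t := r) hB hP (fun W hW hN hlt => Classical.UnitElem.step_ti hB hP hS hW hN hlt) A
        Classical.SympElem.inv_top (Classical.UnitElem.ndon_top hB) (Or.inr (by
          rw [finrank_top, hfin, Polynomial.natDegree_X_pow_sub_C, mul_assoc, ← hA]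
          omega))
      exact ⟨T, hTi, hTT, by rw [hTd, ← hA]⟩
  intro H
  refine Or.inr ⟨hrp, hr3, ?_⟩
  have htest : ∀ D : Classical.UnitElem.Datum F σ n r, ∃ W : Submodule F D.V,
      Classical.SympElem.Inv D.a W ∧ Classical.UnitElem.TI D.B W ∧ Module.finrank F W = m := by
    intro D
    obtain ⟨e, W, ⟨hWd, hWT⟩, he, hWi, hWr⟩ := D.pull hσq
      (P := fun W => Module.finrank F W = m ∧ ∀ u ∈ W, ∀ v ∈ W, Cfsg.hermForm n F q u v = 0)
      (fun x hx hx1 hx2 => by obtain ⟨W, h1, h2, h3⟩ := H x hx hx1 hx2; exact ⟨W, ⟨h1, h2⟩, h3⟩)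
    have hT := (Classical.UnitElem.ti_iff hσ hσq W).1 hWT
    exact ⟨_, hWi, fun u hu v hv => by rw [← he]; exact hT _ hu _ hv, hWr.trans hWd⟩
  have hcj : c ∣ j₀ := hcc ▸ orderOf_dvd_of_pow_eq_one hj3
  have hcn : c ≤ n := (Nat.le_of_dvd (by omega) hcj).trans hj2
  have hkl : 2 * (m % b) ≤ n % c := by
    by_cases hrq1 : r ∣ q + 1
    · have : b = 1 := by rw [hb, hi2.2 hrq1]; rfl
      rw [this, Nat.mod_one]
      exact Nat.zero_le _
    · obtain ⟨D, hz1, hfx⟩ := Classical.UnitElem.exists_min_fixed hOP hrq1 (hcc ▸ hcn)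
      rw [← hcc] at hfx
      obtain ⟨W, hWi, hWT, hWd⟩ := htest D
      have hzr : D.a ^ r = 1 := D.pow.trans (by rw [hz1, one_smul])
      obtain ⟨k', j', h1, h3, -⟩ := (Classical.UnitElem.parts hOP D.herm D.pres hzr hWi).1 hWT
      rw [hWd, ← hbb] at h1
      have : m % b = k' % b := by rw [h1, Nat.add_mul_mod_self_left]
      have := Nat.mod_le k' b
      omega
  have hbm : b ≤ m := by
    by_contra hcon
    rw [Nat.mod_eq_of_lt (by omega : m < b)] at hkl
    obtain ⟨s, hs⟩ := hcj
    rw [show n = (n - j₀) + c * s by omega, Nat.add_mul_mod_self_left] at hkl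
    have := Nat.mod_le (n - j₀) c
    omega
  refine ⟨hbm, hkl, ?_⟩
  by_cases h4 : i % 4 = 2
  swap
  · exact Or.inl h4
  refine Or.inr ⟨h4, ?_⟩
  obtain ⟨-, hbodd, hcb, -⟩ := hcases.resolve_right (fun h => h.1 h4)
  have hbdvd : b ∣ r - 1 := by
    rw [hbb, ← hOP.card_eq]
    exact (Classical.SympElem.poly_facts (F := F) hrF).2.2.2.2
  have hbr : b ≤ r - 1 := Nat.le_of_dvd (by omega) hbdvd
  constructor
  · by_contra hlt
    push Not at hlt
    by_cases hrq1 : r ∣ q + 1
    · have hb1 : b = 1 := by rw [hb, hi2.2 hrq1]; rfl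
      rw [hb1, Nat.div_one, Nat.div_one, Nat.div_one] at hlt
      obtain ⟨D, hD⟩ := Classical.UnitElem.exists_distinct_split hOP hrq1 (n := n) (by omega)
      obtain ⟨W, hWi, hWT, hWd⟩ := htest D
      have := hD W hWi hWT
      omega
    · set N := min ((r - 1) / b) (n / b) with hN
      have hNle : b * N ≤ n :=
        (Nat.mul_le_mul_left b (min_le_right _ _)).trans (Nat.mul_div_le n b)
      have hN0 : 0 < N := by
        have := Nat.div_pos hbr hb0
        have := Nat.div_pos (show b ≤ n by omega) hb0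
        omega
      obtain ⟨D, hD⟩ := Classical.UnitElem.exists_distinct hOP hrq1 (by rw [← hbb, ← hcc]; exact hcb)
        (e := n - b * N) (N := N) (n := n) (by rw [← hbb]; exact min_le_left _ _) (by rw [← hbb]; omega)
        (by have := Nat.mul_pos hb0 hN0; omega)
      obtain ⟨W, hWi, hWT, hWd⟩ := htest D
      have h5 := hD W hWi hWT
      rw [hWd] at h5
      have hdn := Nat.mod_add_div n b
      have hdm := Nat.mod_add_div m b
      have hmod := Nat.mod_lt n hb0
      rcases min_choice ((r - 1) / b) (n / b) with hmin | hmin <;> rw [← hN] at hmin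
      · have h6 := Nat.mul_le_mul_left b (show n / b + 1 ≤ (r - 1) / b + 2 * (m / b) by omega)
        rw [Nat.mul_add, Nat.mul_add, mul_one, show b * (2 * (m / b)) = 2 * (b * (m / b)) by ring, ← hmin] at h6
        omega
      · rw [← hmin] at hdn
        omega
  · by_cases h5 : i = 2
    · refine Or.inr ⟨h5, ?_⟩
      by_contra hne
      simp only [not_or, not_le] at hne
      obtain ⟨D, hD⟩ := Classical.UnitElem.exists_twisted hOP (hi2.1 h5) (n := n) (by omega) hne.2
      obtain ⟨W, hWi, -, hWd⟩ := htest D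
      exact hne.1 (hWd ▸ hD W hWi)
    · exact Or.inl (by omega)

end Cfsg.Agent.S5953
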