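import Cfsg.Statements.S5954
import Cfsg.Agent.Classical.UnitElem.Tools
-- import your own Cfsg.Agent.* helpers here

set_option autoImplicit false
open scoped MatrixGroups
open Cfsg

namespace Cfsg.Agent.S5954

open Module in
open Classical.Herm in
open Classical.UnitElem in
open Classical.SympElem (Inv fx mv) in
/-- An element of order two all of whose invariant non-degenerate subspaces have even dimension. -/
theorem exists_bad_two {F : Type*} [Field F] [Fintype F] {σ : F →+* F} (hσ : IsInvol σ) {q n : ℕ}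
    (hF : Fintype.card F = q ^ 2) (hσq : ∀ x, σ x = x ^ q) (hqo : q % 2 = 1) (h2 : (2 : F) ≠ 0) (hn : 0 < n)
    (heven : Even n) (hv : q % 4 = 1 ∨ padicValNat 2 (q + 1) < padicValNat 2 n) :
    ∃ D : Datum F σ n 2, ∀ W : Submodule F D.V, Inv D.a W → NDon D.B W → Even (finrank F W) := by
  classical
  obtain ⟨k, hk⟩ := heven
  obtain ⟨z, hzq, hzh, hze⟩ : ∃ z : F, z ^ (q + 1) = 1 ∧ z ^ ((q + 1) / 2) = -1 ∧ (-z) ^ k = 1 := by
    have hq1 : (q + 1) % 2 = 0 := by omega
    by_cases h4 : q % 4 = 1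
    · refine ⟨-1, ?_, ?_, by rw [neg_neg, one_pow]⟩
      · exact Even.neg_one_pow (Nat.even_iff.2 hq1)
      · exact Odd.neg_one_pow (Nat.odd_iff.2 (by omega))
    · have hvn := hv.resolve_left h4
      haveI : Fact (Nat.Prime 2) := ⟨Nat.prime_two⟩
      obtain ⟨ζ, hζo, hζq⟩ := exists_of_order hF (d := 2 ^ padicValNat 2 (q + 1)) pow_padicValNat_dvd
      have hhalf : ζ ^ ((q + 1) / 2) = -1 := by
        refine ((mul_self_eq_one_iff (a := ζ ^ ((q + 1) / 2))).1 ?_).resolve_left fun h => ?_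
        · rw [← pow_add, show (q + 1) / 2 + (q + 1) / 2 = q + 1 by omega, hζq]
        · obtain ⟨j, hj⟩ := hζo ▸ orderOf_dvd_of_pow_eq_one h
          exact pow_succ_padicValNat_not_dvd (p := 2) (n := q + 1) (by omega) ⟨j, by
            calc q + 1 = 2 * ((q + 1) / 2) := by omega
              _ = _ := by rw [hj, pow_succ']; ring⟩
      refine ⟨-ζ, by rw [Even.neg_pow (Nat.even_iff.2 hq1), hζq],
        by rw [Even.neg_pow (Nat.even_iff.2 (by omega)), hhalf], ?_⟩
      rw [neg_neg]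
      refine orderOf_dvd_iff_pow_eq_one.1 ?_
      obtain ⟨j, hj⟩ := (pow_dvd_pow 2 hvn).trans (pow_padicValNat_dvd (p := 2) (n := n))
      rw [hζo]
      refine ⟨j, ?_⟩
      rw [pow_succ', mul_assoc] at hj
      omega
  obtain ⟨w, hw0, hw2, hwq, -⟩ := exists_sqrt hF hqo hzq
  rw [hzh] at hwq
  obtain ⟨p, hp⟩ := CharP.exists F
  haveI := hp
  obtain ⟨e, hpr, he⟩ := FiniteField.card F p
  haveI := Fact.mk hpr
  obtain ⟨i, -, hi⟩ := (Nat.dvd_prime_pow hpr).1 (show q ∣ p ^ (e : ℕ) from ⟨q, by rw [← he, hF, sq]⟩)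
  obtain ⟨B2, hB2, hP2⟩ := exists_pair_form (p := p) (L := F) hσ ⟨i, hi⟩ hσq
  have hinv : (w ^ q)⁻¹ = -w := by
    refine inv_eq_of_mul_eq_one_right ?_
    rw [mul_neg, ← pow_succ, hwq, neg_neg]
  set f : Module.End F (F × F) := (LinearMap.mulLeft F w).prodMap (LinearMap.mulLeft F (-w)) with hf
  have hPf : Pres B2 f := by rw [hf, ← hinv]; exact hP2 w hw0
  set a : Module.End F (Fin k → F × F) := LinearMap.pi fun l => f.comp (LinearMap.proj l) with ha
  have hB := isHerm_piB (ι := Fin k) hB2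
  have hPa : Pres (piB (Fin k) B2) a := pres_pi fun _ => hPf
  have ha2 : a ^ 2 = z • 1 := by
    rw [ha, pow_pi]
    refine LinearMap.ext fun x => funext fun l => ?_
    show (f ^ 2) (x l) = z • x l
    refine Prod.ext ?_ ?_ <;> simp [hf, sq, ← hw2, mul_assoc]
  have hdim : finrank F (Fin k → F × F) = n := by
    rw [Module.finrank_pi_fintype]; simp [Module.finrank_prod, hk]; ring
  have hdet : LinearMap.det a = 1 := by
    rw [ha, LinearMap.det_pi, Finset.prod_const, Finset.card_univ, Fintype.card_fin]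
    have hf' : LinearMap.det f = -z := by
      rw [hf, LinearMap.det_prodMap,
        show LinearMap.mulLeft F w = w • (LinearMap.id : F →ₗ[F] F) from LinearMap.ext fun x => rfl,
        show LinearMap.mulLeft F (-w) = (-w) • (LinearMap.id : F →ₗ[F] F) from LinearMap.ext fun x => rfl,
        LinearMap.det_smul, LinearMap.det_smul, Module.finrank_self, LinearMap.det_id, ← hw2]
      ring
    rw [hf', hze]
  have hns : ∀ c : F, a ≠ c • (1 : Module.End F (Fin k → F × F)) := by
    intro c hc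
    have hk0 : 0 < k := by omega
    have h := congrFun (LinearMap.congr_fun hc (fun _ => ((1 : F), (1 : F)))) ⟨0, hk0⟩
    simp [ha, hf] at h
    obtain ⟨h1, h3⟩ := h
    refine hw0 ((mul_eq_zero.1 (show (2 : F) * w = 0 by linear_combination h1 - h3)).resolve_left h2)
  suffices key : ∀ W : Submodule F (Fin k → F × F), Inv a W → NDon (piB (Fin k) B2) W → Even (finrank F W) by
    exact ⟨⟨_, piB (Fin k) B2, a, z, hB, hPa, hdim, hdet, ha2, hns⟩, key⟩
  intro W hW hN
  obtain ⟨hb1, hb2, -⟩ := smul_inv_props hPa ha2 hw2 hw0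
  refine even_of_nd_anti hB h2 hb2 (fun u v => ?_) (fun x hx => W.smul_mem _ (hW x hx)) hN
  rw [hb1, hσq, ← pow_succ', hwq, inv_neg, inv_one, neg_one_mul]

open Module in
open Classical.Herm in
open Classical.UnitElem in
open Classical.SympElem (Inv) in
/-- An element of order `p` with prescribed blocks. -/
theorem exists_unip_datum {F : Type*} [Field F] [Fintype F] {σ : F →+* F} (hσ : IsInvol σ) {p : ℕ}
    [Fact p.Prime] [CharP F p] (μ : Multiset ℕ) (hμ : ∀ a ∈ μ, 0 < a ∧ a ≤ p) {x : ℕ} (hx : x ∈ μ) (hx1 : 1 < x) :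
    ∃ D : Datum F σ μ.sum p, ∀ W : Submodule F D.V, Inv D.a W → NDon D.B W → ∃ ν ≤ μ, ν.sum = finrank F W := by
  obtain ⟨B, a, hB, hP, hap, hrank⟩ := exists_unip (p := p) hσ μ hμ
  have ha1 : a ^ p = 1 := by rw [sub_one_pow_char, sub_eq_zero] at hap; exact hap
  have hdet : LinearMap.det a = 1 := by
    have h := congrArg LinearMap.det ha1
    rw [map_pow, map_one] at h
    have h' : (LinearMap.det a - 1) ^ p = 0 := by rw [sub_pow_char, one_pow, h, sub_self]
    exact sub_eq_zero.1 (eq_zero_of_pow_eq_zero h')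
  have hns : ∀ z : F, a ≠ z • (1 : Module.End F (Fin μ.sum → F)) := by
    intro z hz
    have hsum : 0 < μ.sum := lt_of_lt_of_le (by omega) (Multiset.le_sum_of_mem hx)
    have h0 : (z - 1) ^ p • (1 : Module.End F (Fin μ.sum → F)) = 0 := by
      rw [← hap, hz, show z • (1 : Module.End F (Fin μ.sum → F)) - 1 = (z - 1 : F) • (1 : Module.End F (Fin μ.sum → F)) from
          LinearMap.ext fun v => by simp [sub_smul],
        _root_.smul_pow, one_pow]
    obtain ⟨v, hv⟩ := exists_ne_zero (F := F) (V := Fin μ.sum → F) (by rw [Module.finrank_fin_fun]; exact hsum)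
    have h1 : (z - 1) ^ p = 0 := by
      have := LinearMap.congr_fun h0 v
      exact (smul_eq_zero.1 this).resolve_right hv
    rw [sub_eq_zero.1 (eq_zero_of_pow_eq_zero h1), one_smul] at hz
    have h2 := hrank 1
    rw [hz, sub_self, pow_one, LinearMap.range_zero, finrank_bot, rankFn] at h2
    have := Multiset.le_sum_of_mem (Multiset.mem_map_of_mem (fun y => y - 1) hx)
    omega
  refine ⟨⟨_, B, a, 1, hB, hP, Module.finrank_fin_fun F, hdet, by rw [ha1, one_smul], hns⟩, fun W hW hN => ?_⟩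
  exact exists_sub_of_nd hB hP hap (fun y hy => (hμ y hy).1) hrank hW hN


/-- Elements of prime order of PSU_n(q) with no fixed nondegenerate `m`-space. Here `T = PSU_n(q)` (`n ≥ 3`, `(n, q) ≠ (3, 2)`), realised through the matrices of determinant 1 over the field `F` with `q²` elements preserving the Hermitian form `h(u, v) = Σ u_i v_i^q`; an element of `T` of prime order `r` is such a matrix `x` with `x^r` scalar and `x` not scalar. For `r ≠ p` let `i` be the multiplicative order of `q` modulo `r`, `b = i/2` for `i` even and `b = i` for `i` odd, `c = i, i/2, 2i` according as `i ≡ 0, 2 (mod 4)` or `i` odd, and write `k = n mod c`, `ℓ = m mod b`, `ℓ' = m mod c`, `n' = ⌊n/b⌋`, `m' = ⌊m/b⌋`, `s = (r−1)/b`; `(a)_r` is the `r`-part of `a`. Let `1 ≤ m < n/2` and let `r` be a prime dividing the number of nondegenerate `m`-spaces. Then every element of `T` of order `r` fixes a nondegenerate `m`-space if and only if one of: (i) `r = p > 2` and every partition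 of `n` into parts of size at most `p` contains (as a sub-multiset) a partition of `m`; (ii) `r = p = 2` and (`n` is odd or `m` is even); (iii) `r = 2 ≠ p` and (`n` is odd, or `m` is even, or `(q+1)_2 ≥ (n)_2` and `q ≡ 3 (mod 4)`); (iv) `r ≠ p`, `r > 2`, and either `i ≠ 2`, `c ≤ m` and `k ≥ ℓ'`, or `i = 2` and (`r ∣ m` or `(q+1)_r ≥ (n)_r`). -/
theorem result {F : Type*} [Field F] [Fintype F] {p : ℕ} [Fact p.Prime] [CharP F p] {q : ℕ} (hq : Fintype.card F = q ^ 2)
    (n m : ℕ) (hn : 3 ≤ n) (hT : (n, q) ≠ (3, 2)) (hm : 1 ≤ m) (hmn : 2 * m < n)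
    (r : ℕ) [Fact r.Prime]
    (hrΩ : r ∣ Nat.card {W : Submodule F (Fin n → F) // Module.finrank F ↥W = m ∧ (∀ u ∈ W, u ≠ 0 → ∃ v ∈ W, Cfsg.hermForm n F q u v ≠ 0)})
    (i b c : ℕ) (hi : i = orderOf (q : ZMod r)) (hb : b = if Even i then i / 2 else i)
    (hc : c = if i % 4 = 0 then i else if i % 4 = 2 then i / 2 else 2 * i) :
    (∀ x : Matrix.SpecialLinearGroup (Fin n) F, x ∈ Cfsg.SU n F q →
      (∃ z : F, ((x ^ r : Matrix.SpecialLinearGroup (Fin n) F) : Matrix (Fin n) (Fin n) F) = z • (1 : Matrix (Fin n) (Fin n) F)) →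
      (∀ z : F, (x : Matrix (Fin n) (Fin n) F) ≠ z • (1 : Matrix (Fin n) (Fin n) F)) →
      ∃ W : Submodule F (Fin n → F), Module.finrank F ↥W = m ∧ (∀ u ∈ W, u ≠ 0 → ∃ v ∈ W, Cfsg.hermForm n F q u v ≠ 0) ∧
        W.map (Matrix.toLin' (x : Matrix (Fin n) (Fin n) F)) ≤ W) ↔
    ((r = p ∧ 2 < p ∧ (∀ μ : Multiset ℕ, (∀ a ∈ μ, 0 < a ∧ a ≤ p) → μ.sum = n → ∃ ν : Multiset ℕ, ν ≤ μ ∧ ν.sum = m)) ∨
     (r = p ∧ p = 2 ∧ (Odd n ∨ Even m)) ∨
     (r = 2 ∧ p ≠ 2 ∧ (Odd n ∨ Even m ∨ (padicValNat 2 n ≤ padicValNat 2 (q + 1) ∧ q % 4 = 3))) ∨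
     (r ≠ p ∧ 2 < r ∧ ((i ≠ 2 ∧ c ≤ m ∧ m % c ≤ n % c) ∨ (i = 2 ∧ (r ∣ m ∨ padicValNat r n ≤ padicValNat r (q + 1)))))) := by
  classical
  obtain ⟨σ, hσq, hσ, hfix, hq1⟩ := Classical.exists_powHom hq
  rw [Classical.UnitElem.card_nd_eq hσ hσq] at hrΩ
  have hr := (Fact.out : r.Prime)
  obtain ⟨k₀, hpp, hk₀⟩ := FiniteField.card F p
  have hpq : p ∣ q := hpp.dvd_of_dvd_pow (n := 2) (by rw [← hq, hk₀]; exact dvd_pow_self p k₀.ne_zero)
  have hqp : ∀ s : ℕ, s.Prime → s ∣ q → s = p := fun s hs hd => by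
    have h1 : s ∣ p ^ (k₀ : ℕ) := by rw [← hk₀, hq]; exact dvd_pow hd two_ne_zero
    exact (Nat.prime_dvd_prime_iff_eq hs hpp).1 (hs.dvd_of_dvd_pow h1)
  have hfin : Module.finrank F (Fin n → F) = n := Module.finrank_fin_fun F
  have hB := Classical.hermB_isHerm hσ n
  have htest : (∀ x : Matrix.SpecialLinearGroup (Fin n) F, x ∈ Cfsg.SU n F q →
      (∃ z : F, ((x ^ r : Matrix.SpecialLinearGroup (Fin n) F) : Matrix (Fin n) (Fin n) F) = z • (1 : Matrix (Fin n) (Fin n) F)) →
      (∀ z : F, (x : Matrix (Fin n) (Fin n) F) ≠ z • (1 : Matrix (Fin n) (Fin n) F)) →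
      ∃ W : Submodule F (Fin n → F), Module.finrank F ↥W = m ∧ (∀ u ∈ W, u ≠ 0 → ∃ v ∈ W, Cfsg.hermForm n F q u v ≠ 0) ∧
        W.map (Matrix.toLin' (x : Matrix (Fin n) (Fin n) F)) ≤ W) →
      ∀ D : Classical.UnitElem.Datum F σ n r, ∃ W : Submodule F D.V,
        Classical.SympElem.Inv D.a W ∧ Classical.UnitElem.NDon D.B W ∧ Module.finrank F W = m := by
    intro H D
    obtain ⟨e, W, ⟨hWd, hWT⟩, he, hWi, hWr⟩ := D.pull hσq
      (P := fun W => Module.finrank F W = m ∧ ∀ u ∈ W, u ≠ 0 → ∃ v ∈ W, Cfsg.hermForm n F q u v ≠ 0)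
      (fun x hx hx1 hx2 => by obtain ⟨W, h1, h2, h3⟩ := H x hx hx1 hx2; exact ⟨W, ⟨h1, h2⟩, h3⟩)
    have hN := (Classical.UnitElem.nd_iff hσ hσq W).1 hWT
    refine ⟨_, hWi, fun u hu h => e.injective ?_, hWr.trans hWd⟩
    rw [map_zero]
    refine hN _ hu fun v hv => ?_
    obtain ⟨v', rfl⟩ := e.surjective v
    rw [he]
    exact h v' hv
  have hback : ∀ x : Matrix.SpecialLinearGroup (Fin n) F,
      Classical.UnitElem.HasND (Classical.hermB n σ) (Matrix.toLin' (x : Matrix (Fin n) (Fin n) F)) m →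
      ∃ W : Submodule F (Fin n → F), Module.finrank F ↥W = m ∧ (∀ u ∈ W, u ≠ 0 → ∃ v ∈ W, Cfsg.hermForm n F q u v ≠ 0) ∧
        W.map (Matrix.toLin' (x : Matrix (Fin n) (Fin n) F)) ≤ W := fun x ⟨W, hWi, hWT, hWd⟩ =>
    ⟨W, hWd, (Classical.UnitElem.nd_iff hσ hσq W).2 hWT, Classical.SympElem.inv_iff.1 hWi⟩
  by_cases hrp : r = p
  · subst hrp
    have hiff : ((r = r ∧ 2 < r ∧ (∀ μ : Multiset ℕ, (∀ a ∈ μ, 0 < a ∧ a ≤ r) → μ.sum = n → ∃ ν : Multiset ℕ, ν ≤ μ ∧ ν.sum = m)) ∨
        (r = r ∧ r = 2 ∧ (Odd n ∨ Even m))) ↔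
        (∀ μ : Multiset ℕ, (∀ a ∈ μ, 0 < a ∧ a ≤ r) → μ.sum = n → ∃ ν : Multiset ℕ, ν ≤ μ ∧ ν.sum = m) := by
      by_cases hr2 : r = 2
      · subst hr2
        rw [Classical.UnitElem.partition_two m n (by omega)]
        simp
      · constructor
        · rintro (⟨-, -, h⟩ | ⟨-, h, -⟩)
          exacts [h, absurd h hr2]
        · exact fun h => Or.inl ⟨rfl, by have := hr.two_le; omega, h⟩
    constructor
    · intro H
      have key : ∀ μ : Multiset ℕ, (∀ a ∈ μ, 0 < a ∧ a ≤ r) → μ.sum = n → ∃ ν : Multiset ℕ, ν ≤ μ ∧ ν.sum = m := by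
        intro μ hμ hsum
        by_cases hall : ∃ x ∈ μ, 1 < x
        · obtain ⟨x, hx, hx1⟩ := hall
          subst hsum
          obtain ⟨D, hD⟩ := exists_unip_datum hσ μ hμ hx hx1
          obtain ⟨W, hWi, hWN, hWd⟩ := htest H D
          obtain ⟨ν, hν, hνs⟩ := hD W hWi hWN
          exact ⟨ν, hν, hνs.trans hWd⟩
        · push Not at hall
          have hrep : μ = Multiset.replicate (Multiset.card μ) 1 :=
            Multiset.eq_replicate_card.2 fun a ha => by have := hall a ha; have := (hμ a ha).1; omega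
          have hcard : Multiset.card μ = n := by rw [← hsum]; conv_rhs => rw [hrep]; simp
          exact ⟨Multiset.replicate m 1, by rw [hrep, hcard]; exact (Multiset.replicate_le_replicate 1).2 (by omega),
            by simp⟩
      rcases hiff.2 key with h | h
      · exact Or.inl h
      · exact Or.inr (Or.inl h)
    · intro hR x hx ⟨z, hz⟩ hns
      have key : ∀ μ : Multiset ℕ, (∀ a ∈ μ, 0 < a ∧ a ≤ r) → μ.sum = n → ∃ ν : Multiset ℕ, ν ≤ μ ∧ ν.sum = m := by
        rcases hR with h | h | ⟨h1, h2, -⟩ | ⟨h1, -⟩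
        · exact hiff.1 (Or.inl h)
        · exact hiff.1 (Or.inr h)
        · exact absurd h1 h2
        · exact absurd rfl h1
      obtain ⟨hP, ha, hdet⟩ := Classical.UnitElem.of_mem hσq hx hz
      refine hback x ?_
      rcases Classical.UnitElem.normalise hσ hq hσq (p := r) (Or.inl rfl) hB hP ha (by omega) with
        ⟨b', hPb, hbr, hbW⟩ | ⟨hrq1, -, -⟩
      · have hu : (b' - 1) ^ r = 0 := by rw [Classical.UnitElem.sub_one_pow_char, hbr, sub_self]
        obtain ⟨μ, hμ, hμs, -, hsub⟩ := Classical.UnitElem.exists_blocks hB hPb hu Classical.SympElem.inv_top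
          (Classical.UnitElem.ndon_top hB)
        rw [finrank_top, hfin] at hμs
        obtain ⟨ν, hν, hνs⟩ := key μ hμ hμs
        obtain ⟨W, -, hWi, hWN, hWd⟩ := hsub ν hν
        exact ⟨W, hbW W hWi, hWN, hWd.trans hνs⟩
      · have := Nat.dvd_sub hrq1 hpq
        rw [Nat.add_sub_cancel_left] at this
        exact absurd this hr.not_dvd_one
  have hrq : ¬ r ∣ q := fun h => hrp (hqp r hr h)
  have hrF : (r : F) ≠ 0 := fun h => hrp
    ((Nat.prime_dvd_prime_iff_eq hpp hr).1 ((CharP.cast_eq_zero_iff F p r).1 h)).symm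
  by_cases hr2 : r = 2
  · subst hr2
    have hp2 : p ≠ 2 := fun h => hrp h.symm
    have h2 : (2 : F) ≠ 0 := by exact_mod_cast hrF
    have hqo : q % 2 = 1 := by omega
    constructor
    · intro H
      refine Or.inr (Or.inr (Or.inl ⟨rfl, hp2, ?_⟩))
      by_contra hne
      simp only [not_or, not_and, Nat.not_odd_iff_even] at hne
      obtain ⟨D, hD⟩ := exists_bad_two hσ hq hσq hqo h2 (n := n) (by omega) hne.1 (by
        by_cases h4 : q % 4 = 1
        · exact Or.inl h4
        · refine Or.inr (not_le.1 fun hle => hne.2.2 hle ?_)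
          omega)
      obtain ⟨W, hWi, hWN, hWd⟩ := htest H D
      exact hne.2.1 (hWd ▸ hD W hWi hWN)
    · intro hR x hx ⟨z, hz⟩ hns
      obtain ⟨hP, ha, hdet⟩ := Classical.UnitElem.of_mem hσq hx hz
      have hcond : Odd n ∨ Even m ∨ (padicValNat 2 n ≤ padicValNat 2 (q + 1) ∧ q % 4 = 3) := by
        rcases hR with ⟨h, -⟩ | ⟨h, -⟩ | ⟨-, -, h⟩ | ⟨-, h, -⟩
        exacts [absurd h hrp, absurd h hrp, h, absurd h (by omega)]
      refine hback x ?_
      set a : Module.End F (Fin n → F) := Matrix.toLin' (x : Matrix (Fin n) (Fin n) F)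
      obtain ⟨v, hv⟩ := Classical.UnitElem.exists_ne_zero (F := F) (V := Fin n → F) (by omega)
      have hzq := Classical.UnitElem.scalar_norm hσq hB hP ha hv
      obtain ⟨w, hw0, hw2, hwq, hsign⟩ := Classical.UnitElem.exists_sqrt hq hqo hzq
      obtain ⟨hb1, hb2, hbW⟩ := Classical.UnitElem.smul_inv_props hP ha hw2 hw0
      have hwσ : w * σ w = z ^ ((q + 1) / 2) := by rw [hσq, ← pow_succ']; exact hwq
      obtain ⟨W, hWi, hWN, hWd⟩ : Classical.UnitElem.HasND (Classical.hermB n σ) (w⁻¹ • a) m := by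
        rcases hsign with hs | hs
        · have hPb : Classical.UnitElem.Pres (Classical.hermB n σ) (w⁻¹ • a) := fun u v => by
            rw [hb1, hwσ, hs, inv_one, one_mul]
          exact Classical.UnitElem.exists_nd_involution hB hPb h2 hb2 (by omega)
        · have hanti : ∀ u v, Classical.hermB n σ ((w⁻¹ • a) u) ((w⁻¹ • a) v) = -Classical.hermB n σ u v :=
            fun u v => by rw [hb1, hwσ, hs, inv_neg, inv_one, neg_one_mul]
          obtain ⟨-, -, hd, he⟩ := Classical.UnitElem.anti_pair hB h2 hb2 hanti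
          rw [hfin] at hd
          by_cases hme : Even m
          · obtain ⟨k, rfl⟩ := hme
            have := Classical.UnitElem.exists_nd_anti hB h2 hb2 hanti (k := k) (by rw [hfin]; omega)
            rwa [two_mul] at this
          exfalso
          obtain ⟨hle, h43⟩ := (hcond.resolve_left (by rw [Nat.not_odd_iff_even, Nat.even_iff]; omega)).resolve_left hme
          have hdb := Classical.UnitElem.det_involution h2 hb2
          rw [LinearMap.det_smul, hdet, mul_one, hfin] at hdb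
          set e := Module.finrank F (Classical.SympElem.mv (w⁻¹ • a))
          have hne : n = 2 * e := by omega
          -- `(-z) ^ e = 1`
          have hze : (-z) ^ e = 1 := by
            have h1 : (w ^ n) * (-1) ^ e = 1 := by
              rw [← hdb, inv_pow, mul_inv_cancel₀ (pow_ne_zero _ hw0)]
            rw [neg_pow, ← hw2, ← pow_mul, ← hne, mul_comm]
            exact h1
          have he0 : e ≠ 0 := by omega
          obtain ⟨s, E, hE, hes⟩ := Nat.exists_eq_pow_mul_and_not_dvd he0 2 (by norm_num)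
          have hvn : padicValNat 2 n = s + 1 := by
            rw [hne, hes, ← mul_assoc, ← pow_succ',
              padicValNat.mul (pow_ne_zero _ two_ne_zero) (fun h : E = 0 => hE (by rw [h]; exact dvd_zero _)),
              padicValNat.prime_pow, padicValNat.eq_zero_of_not_dvd hE, add_zero]
          obtain ⟨M, hM⟩ := (pow_dvd_pow 2 (hvn ▸ hle)).trans (pow_padicValNat_dvd (p := 2) (n := q + 1))
          have hdiv : (q + 1) / 2 = 2 ^ s * M := by
            rw [hM, pow_succ', mul_assoc, Nat.mul_div_cancel_left _ two_pos]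
          have h1 : ((-z) ^ ((q + 1) / 2)) ^ E = 1 := by
            rw [← pow_mul, hdiv, show 2 ^ s * M * E = e * M by rw [hes]; ring, pow_mul, hze, one_pow]
          rw [Even.neg_pow (Nat.even_iff.2 (by omega)), hs,
            (Nat.odd_iff.2 (Nat.two_dvd_ne_zero.1 hE)).neg_one_pow] at h1
          exact h2 (by linear_combination -h1)
      exact ⟨W, hbW W hWi, hWN, hWd⟩
  -- odd primes
  obtain ⟨j₀, hj1, hj2, hj3⟩ := Classical.UnitElem.of_dvd_nd hσ hfix (by omega) hrΩ hrq
  have hOP : Classical.UnitElem.OddPrime σ q r := ⟨hσ, hq, hσq, hr, hr2, hrF⟩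
  have hr3 : 2 < r := by have := hr.two_le; omega
  obtain ⟨hcc, hi2, hi1, hipos⟩ := Classical.UnitElem.orderOf_two_cases hr2 hOP.not_dvd hi hc
  constructor
  swap
  · intro hR x hx ⟨z, hz⟩ hns
    have hcond : (i ≠ 2 ∧ c ≤ m ∧ m % c ≤ n % c) ∨ (i = 2 ∧ (r ∣ m ∨ padicValNat r n ≤ padicValNat r (q + 1))) := by
      rcases hR with ⟨h, -⟩ | ⟨h, -⟩ | ⟨h, -⟩ | ⟨-, -, h⟩
      exacts [absurd h hrp, absurd h hrp, absurd h hr2, h]
    obtain ⟨hP, ha, hdet⟩ := Classical.UnitElem.of_mem hσq hx hz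
    refine hback x ?_
    rcases Classical.UnitElem.normalise hσ hq hσq (p := p) (Or.inr hr2) hB hP ha (by omega) with
      ⟨b', hPb, hbr, hbW⟩ | ⟨hrq1, -, hzq, hroot⟩
    · obtain ⟨W, hWi, hWT, hWd⟩ := Classical.UnitElem.exists_prime_nd hOP hB hPb hbr hfin (m := m) (by omega)
        (by
          rw [← hcc]
          rcases hcond with ⟨-, -, h⟩ | ⟨h, -⟩
          · exact h
          · rw [hi1.1 h, Nat.mod_one, Nat.mod_one])
      exact ⟨W, hbW W hWi, hWT, hWd⟩
    · have hi_2 := hi2.2 hrq1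
      obtain ⟨hn', hdn⟩ := Classical.UnitElem.det_twisted hr2 hroot ha
      rw [hfin] at hn' hdn
      have hrm : r ∣ m := by
        rcases (hcond.resolve_left (fun h => h.1 hi_2)).2 with h7 | h7
        · exact h7
        · have := Classical.UnitElem.twisted_valuation hq hrq1 hzq hroot (by omega) hn' (hdn.symm.trans hdet)
          omega
      have hS := Classical.UnitElem.twisted_self_inv hq hσq hrq1 hr2 hzq hroot ha
      obtain ⟨A, hA⟩ := hrm
      obtain ⟨P, -, -, -, hPi, hPn, hPd, -⟩ := Classical.UnitElem.chain (M := 0) (c := r) (t := 0) hB hP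
        (fun W hW hN hlt => Classical.UnitElem.step_nd hB hP hS hW hN hlt) A
        Classical.SympElem.inv_top (Classical.UnitElem.ndon_top hB) (Or.inr (by
          rw [finrank_top, hfin, ← hA]
          omega))
      exact ⟨P, hPi, hPn, hPd.trans hA.symm⟩
  intro H
  refine Or.inr (Or.inr (Or.inr ⟨hrp, hr3, ?_⟩))
  by_cases hi_2 : i = 2
  · refine Or.inr ⟨hi_2, ?_⟩
    by_contra hne
    simp only [not_or, not_le] at hne
    obtain ⟨D, hD⟩ := Classical.UnitElem.exists_twisted hOP (hi2.1 hi_2) (n := n) (by omega) hne.2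
    obtain ⟨W, hWi, -, hWd⟩ := htest H D
    exact hne.1 (hWd ▸ hD W hWi)
  refine Or.inl ⟨hi_2, ?_⟩
  have hcj : c ∣ j₀ := hcc ▸ orderOf_dvd_of_pow_eq_one hj3
  have hcn : c ≤ n := (Nat.le_of_dvd (by omega) hcj).trans hj2
  obtain ⟨D, hz1, hfx⟩ := Classical.UnitElem.exists_min_fixed hOP (fun h => hi_2 (hi2.2 h)) (hcc ▸ hcn)
  rw [← hcc] at hfx
  obtain ⟨W, hWi, hWN, hWd⟩ := htest H D
  obtain ⟨k', j', h1, h3⟩ :=
    (Classical.UnitElem.parts hOP D.herm D.pres (D.pow.trans (by rw [hz1, one_smul])) hWi).2 hWN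
  rw [hWd, ← hcc] at h1
  have hle : m % c ≤ n % c := by
    rw [h1, Nat.add_mul_mod_self_left]
    exact (Nat.mod_le k' c).trans (h3.trans hfx)
  refine ⟨?_, hle⟩
  by_contra hcon
  rw [Nat.mod_eq_of_lt (by omega : m < c)] at hle
  obtain ⟨s, hs⟩ := hcj
  rw [show n = (n - j₀) + c * s by omega, Nat.add_mul_mod_self_left] at hle
  have := Nat.mod_le (n - j₀) c
  omega

end Cfsg.Agent.S5954
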