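import Cfsg.Statements.S5955
import Cfsg.Agent.Classical.SympElem.Scalar
import Cfsg.Agent.Classical.SympElem.Count
import Cfsg.Agent.Classical.Elusive.Block

set_option autoImplicit false
open scoped MatrixGroups
open Cfsg
open Cfsg.Agent

namespace Cfsg.Agent.S5955

/-- Elements of prime order of PSp_n(q) with no fixed totally isotropic `m`-space. Here `T = PSp_n(q)` with `n = 2d ≥ 4`, `(n, q) ≠ (4, 2)`, realised through the symplectic matrices over the field `F` with `q` elements (preserving the standard alternating form); an element of `T` of prime order `r` is such a matrix `x` with `x^r` scalar and `x` not scalar. For `r ≠ p` let `i` be the multiplicative order of `q` modulo `r`, `c = i` for `i` even and `c = 2i` for `i` odd, and write `k = n mod c`, `ℓ = m mod i`, `ℓ' = m mod c`, `n' = ⌊n/i⌋`, `m' = ⌊m/i⌋`, `t = (r−1)/i`. Let `1 ≤ m ≤ n/2` and let `r` be a prime dividing the number of totally isotropic `m`-spaces. Then every element of `T` of order `r` fixes a totally isotropic `m`-space if and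 only if either (i) `r = 2 ≠ p` and (`m` is even or `q ≡ 1 (mod 4)`); or (ii) `r ≠ p`, `r > 2`, `i ≤ m`, `k ≥ 2ℓ`, and (`i` is odd or `n' − 2m' ≥ t`). -/
theorem result {F : Type*} [Field F] [Fintype F] {p : ℕ} [Fact p.Prime] [CharP F p] {q : ℕ} (hq : Fintype.card F = q)
    (d m : ℕ) (hd : 2 ≤ d) (hT : (d, q) ≠ (2, 2)) (hm : 1 ≤ m) (hmd : m ≤ d)
    (r : ℕ) [Fact r.Prime]
    (hrΩ : r ∣ Nat.card {W : Submodule F (Fin d ⊕ Fin d → F) // Module.finrank F ↥W = m ∧ (∀ u ∈ W, ∀ v ∈ W, Cfsg.sympForm d F u v = 0)})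
    (i c : ℕ) (hi : i = orderOf (q : ZMod r)) (hc : c = if Even i then i else 2 * i) :
    (∀ x : ↥(Matrix.symplecticGroup (Fin d) F),
      (∃ z : F, ((x ^ r : ↥(Matrix.symplecticGroup (Fin d) F)) : Matrix (Fin d ⊕ Fin d) (Fin d ⊕ Fin d) F) = z • (1 : Matrix (Fin d ⊕ Fin d) (Fin d ⊕ Fin d) F)) →
      (∀ z : F, (x : Matrix (Fin d ⊕ Fin d) (Fin d ⊕ Fin d) F) ≠ z • (1 : Matrix (Fin d ⊕ Fin d) (Fin d ⊕ Fin d) F)) →
      ∃ W : Submodule F (Fin d ⊕ Fin d → F), Module.finrank F ↥W = m ∧ (∀ u ∈ W, ∀ v ∈ W, Cfsg.sympForm d F u v = 0) ∧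
        W.map (Matrix.toLin' (x : Matrix (Fin d ⊕ Fin d) (Fin d ⊕ Fin d) F)) ≤ W) ↔
    ((r = 2 ∧ p ≠ 2 ∧ (Even m ∨ q % 4 = 1)) ∨
     (r ≠ p ∧ 2 < r ∧ i ≤ m ∧ 2 * (m % i) ≤ (2 * d) % c ∧ (Odd i ∨ (r - 1) / i + 2 * (m / i) ≤ (2 * d) / i))) := by
  classical
  subst hq
  have hd1 : 1 ≤ d := by omega
  have hr := (Fact.out : r.Prime)
  have hdvd := Classical.SympElem.of_dvd_ti (r := r) hmd hrΩ
  obtain ⟨j₀, hj₀, hij⟩ := Classical.SympElem.exists_of_dvd_prod hdvd
  rw [← hi] at hij
  have hrq : ¬ r ∣ Fintype.card F := fun h => by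
    obtain ⟨j, hj, hj'⟩ := (hr.prime.dvd_finsetProd_iff _).1 hdvd
    have := Finset.mem_range.1 hj
    have hq1 : 1 ≤ Fintype.card F ^ (2 * (d - j)) := Nat.one_le_pow _ _ Fintype.card_pos
    have h1 := Nat.dvd_sub (dvd_pow h (show 2 * (d - j) ≠ 0 by omega)) hj'
    rw [show Fintype.card F ^ (2 * (d - j)) - (Fintype.card F ^ (2 * (d - j)) - 1) = 1 by omega] at h1
    exact hr.not_dvd_one h1
  have hrF : (r : F) ≠ 0 := Classical.Elusive.cast_ne_zero_of_not_dvd hrq
  have hrp : r ≠ p := fun h => hrF (by rw [h]; exact CharP.cast_eq_zero F p)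
  obtain ⟨n₀, hp', hqn⟩ := FiniteField.card F p
  by_cases hr2 : r = 2
  · subst hr2
    have hp2 : p ≠ 2 := fun h => hrp h.symm
    have h2 : (2 : F) ≠ 0 := by exact_mod_cast hrF
    have hodd : Fintype.card F % 2 = 1 := by
      rw [hqn, ← Nat.odd_iff]
      exact (hp'.odd_of_ne_two hp2).pow
    constructor
    · intro H
      refine Or.inl ⟨rfl, hp2, ?_⟩
      by_contra hne
      simp only [not_or] at hne
      have hq3 : Fintype.card F % 4 = 3 := by omega
      obtain ⟨x, hx2, hxns, hxv⟩ := Classical.SympElem.J_facts (F := F) hd1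
      obtain ⟨W, hW, -, hWx⟩ := H x ⟨-1, hx2⟩ hxns
      have := Classical.SympElem.neg_one_even hxv hq3 (Classical.SympElem.inv_iff.2 hWx)
      rw [hW] at this
      exact hne.1 this
    · intro hR x hx _
      obtain ⟨z, hz⟩ := hx
      have hG := Classical.SympElem.good_matrix x
      have hcond : Even m ∨ Fintype.card F % 4 = 1 := by
        rcases hR with ⟨-, -, h⟩ | ⟨-, h, -⟩
        · exact h
        · omega
      have hfin : Module.finrank F (Fin d ⊕ Fin d → F) = 2 * d := Classical.finrank_symp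
      obtain ⟨W, hW, hti, hWd⟩ : ∃ W : Submodule F (Fin d ⊕ Fin d → F),
          Classical.SympElem.Inv (Matrix.toLin' x.1) W ∧ Classical.SympElem.TI (Classical.sympB d F) W ∧
            Module.finrank F W = m := by
        rcases Classical.SympElem.sq_cases hd1 x hz with h1 | h1
        · exact (Classical.SympElem.exists_involution_sub hG h2 h1 hfin hmd).1
        by_cases hsq : IsSquare (-1 : F)
        · obtain ⟨w, hw⟩ := hsq
          exact Classical.SympElem.exists_neg_one_ti_split hG h2 h1 hw.symm hfin hmd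
        · rw [FiniteField.isSquare_neg_one_iff, not_not] at hsq
          obtain ⟨k, rfl⟩ := hcond.resolve_right (by omega)
          obtain ⟨W, h3, h4, h5⟩ := Classical.SympElem.exists_neg_one_ti hG h1 hsq hfin (k := k) (by omega)
          exact ⟨W, h3, h4, by omega⟩
      exact ⟨W, hWd, fun u hu v hv => by rw [← Classical.sympB_apply]; exact hti u hu v hv,
        Classical.SympElem.inv_iff.1 hW⟩
  -- odd primes
  have hr3 : 2 < r := by have := hr.two_le; omega
  have hrodd : Odd r := hr.odd_of_ne_two hr2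
  obtain ⟨hsf, hAll, -, hi0, hidvd⟩ := Classical.SympElem.poly_facts (F := F) (r := r) hrF
  rw [← hi] at hi0 hidvd hAll
  constructor
  swap
  · intro hR x hx _
    obtain ⟨z, hz⟩ := hx
    obtain ⟨a, hG, har, htr⟩ := Classical.SympElem.exists_normalise hd1 hrodd x hz
    obtain ⟨-, -, -, hk, ht⟩ := hR.resolve_left (fun h => hr2 h.1)
    subst hi hc
    obtain ⟨W, hW, hti, hWd⟩ := Classical.SympElem.exists_prime_ti hG hrF har Classical.finrank_symp hmd hk ht
    exact ⟨W, hWd, fun u hu v hv => by rw [← Classical.sympB_apply]; exact hti u hu v hv, htr W hW⟩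
  intro H
  refine Or.inr ⟨hrp, hr3, ?_⟩
  have htest : ∀ x : ↥(Matrix.symplecticGroup (Fin d) F), x ^ r = 1 →
      Module.finrank F (Classical.SympElem.fx (Matrix.toLin' x.1)) < 2 * d →
      ∃ W : Submodule F (Fin d ⊕ Fin d → F), Module.finrank F W = m ∧
        Classical.SympElem.TI (Classical.sympB d F) W ∧
        Classical.SympElem.Inv (Matrix.toLin' x.1) W := by
    intro x hx hfx
    obtain ⟨W, h1, h2, h3⟩ := H x (Classical.SympElem.pow_scalar_of_one x hx)
      (Classical.SympElem.not_scalar hd1 hrodd x hx hfx)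
    exact ⟨W, h1, fun u hu v hv => by rw [Classical.sympB_apply]; exact h2 u hu v hv,
      Classical.SympElem.inv_iff.2 h3⟩
  -- an element with fixed space of dimension at most the remainder
  have hkl : 2 * (m % i) ≤ (2 * d) % c := by
    by_contra hcon
    have hdiv := Nat.mod_add_div m i
    have hi1 : i ≠ 1 := fun h => by rw [h, Nat.mod_one] at hcon; omega
    obtain ⟨x, hx, hfx, hfd⟩ : ∃ x : ↥(Matrix.symplecticGroup (Fin d) F), x ^ r = 1 ∧
        Module.finrank F (Classical.SympElem.fx (Matrix.toLin' x.1)) ≤ (2 * d) % c ∧ (2 * d) % c < 2 * d := by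
      by_cases heven : Even i
      · rw [if_pos heven] at hc
        obtain ⟨h, hh⟩ := heven
        rw [hc] at hcon ⊢
        clear hc
        obtain ⟨t, fs, ht, -, hfs⟩ := Classical.SympElem.exists_factors (F := F) hrF
        rw [← hi] at ht
        have ht0 : 0 < t := Nat.pos_of_ne_zero fun h0 => by rw [h0, zero_mul] at ht; omega
        set N := (2 * d) / i with hN
        have hdn := Nat.mod_add_div (2 * d) i
        rw [← hN] at hdn
        have hiN : i * N = 2 * (h * N) := by rw [hh]; ring
        have hN0 : 0 < N := Nat.div_pos (Nat.le_trans (Nat.le_of_dvd (by omega) hij) (by omega)) hi0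
        have hiN1 : i ≤ i * N := Nat.le_mul_of_pos_right _ hN0
        obtain ⟨x, hx, hxf⟩ : Classical.SympElem.HasElem r d
            ((Polynomial.X - Polynomial.C (1 : F)) ^ (2 * (d - N * h)) * ∏ _l : Fin N, fs ⟨0, ht0⟩) := by
          have h1 := Classical.SympElem.hasElem_add (Classical.SympElem.hasElem_one (F := F) r (d - N * h))
            (Classical.SympElem.hasElem_prod hrF (hi.symm.trans hh) (fun _ : Fin N => fs ⟨0, ht0⟩)
              fun _ => hfs _)
          rwa [show d - N * h + N * h = d by rw [mul_comm N h]; omega] at h1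
        refine ⟨x, hx, ?_, by omega⟩
        refine (Classical.SympElem.finrank_fx_le (k := 2 * (d - N * h)) (by rw [Matrix.charpoly_toLin', hxf]) ?_).trans
          (by rw [mul_comm N h]; omega)
        rw [Polynomial.eval_prod, Finset.prod_ne_zero_iff]
        exact fun _ _ => Classical.SympElem.eval_one_cyclo hrF (hfs _).2.2
      · rw [if_neg heven] at hc
        subst hc
        have hid : i ≤ d := by
          have := Nat.le_of_dvd (by omega) ((Nat.coprime_two_right.2 (Nat.not_even_iff_odd.1 heven)).dvd_of_dvd_mul_left hij)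
          omega
        set k := d / i with hk
        have hk1 : 1 ≤ k := Nat.div_pos hid hi0
        have hdn := Nat.mod_add_div d i
        rw [← hk] at hdn
        obtain ⟨M, hM, hMe, -⟩ := Classical.Elusive.exists_block (F := F) (n := d) (r := r) (k := k) hrF
          (by rw [← hi]; exact hi1) hk1 (by rw [← hi]; omega)
        have hM1 : M ^ r = 1 := Subtype.ext (by rw [hM, one_smul]; rfl)
        obtain ⟨x, hx, hxf⟩ := Classical.SympElem.exists_hyperbolic M hM1
        refine ⟨x, hx, hxf.trans ?_, ?_⟩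
        · rw [hMe, ← hi, Nat.mul_mod_mul_left]; omega
        · rw [Nat.mul_mod_mul_left]
          have := Nat.mod_lt d hi0
          omega
    obtain ⟨W, hWd, hti, hW⟩ := htest x hx (by omega)
    have hG := Classical.SympElem.good_matrix x
    have har := Classical.SympElem.toLin'_pow_one x hx
    obtain ⟨-, hsum⟩ := Classical.SympElem.split_inv hG hrF har hW
    obtain ⟨A, hA⟩ := Classical.SympElem.dvd_inf_mv hG hrF har hW
    have hb := Classical.SympElem.ti_bound hG hrF har hti
    rw [← hi] at hA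
    rw [hWd, hA] at hsum
    set a1 := Module.finrank F (W ⊓ Classical.SympElem.fx (Matrix.toLin' x.1) : Submodule F (Fin d ⊕ Fin d → F))
    have h4 : m % i = a1 % i := by rw [← hsum, Nat.add_mul_mod_self_left]
    have := Nat.mod_le a1 i
    omega
  have him : i ≤ m := by
    by_contra hcon
    rw [Nat.mod_eq_of_lt (by omega : m < i)] at hkl
    have hcd : c ∣ 2 * (d - j₀) := by
      rw [hc]
      split_ifs with heven
      · exact hij
      · exact Nat.Coprime.mul_dvd_of_dvd_of_dvd (Nat.coprime_two_left.2 (Nat.not_even_iff_odd.1 heven))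
          (dvd_mul_right 2 _) hij
    obtain ⟨s, hs⟩ := hcd
    rw [show 2 * d = 2 * j₀ + c * s by omega, Nat.add_mul_mod_self_left] at hkl
    have := Nat.mod_le (2 * j₀) c
    omega
  refine ⟨him, hkl, ?_⟩
  by_contra hcon
  simp only [not_or, not_le, Nat.not_odd_iff_even] at hcon
  obtain ⟨heven, hlt⟩ := hcon
  rw [if_pos heven] at hc
  obtain ⟨h, hh⟩ := heven
  rw [hc] at hkl
  clear hc
  obtain ⟨t, fs, ht, hinj, hfs⟩ := Classical.SympElem.exists_factors (F := F) hrF
  rw [← hi] at ht
  rw [← ht, Nat.mul_div_cancel _ hi0] at hlt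
  set s := min t (2 * d / i) with hs
  have hdn := Nat.mod_add_div (2 * d) i
  have hdm := Nat.mod_add_div m i
  have hsN : i * s ≤ i * (2 * d / i) := Nat.mul_le_mul_left _ (min_le_right _ _)
  have his : i * s = 2 * (s * h) := by rw [hh]; ring
  have hs0 : 0 < s := by
    have : 0 < 2 * d / i := Nat.div_pos (by omega) hi0
    have ht0 : 0 < t := Nat.pos_of_ne_zero fun h0 => by rw [h0, zero_mul] at ht; omega
    omega
  have hsh : 0 < s * h := Nat.mul_pos hs0 (by omega)
  have hkey : d < m + s * h := by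
    have hnm : i ≤ m := him
    have hklt := Nat.mod_lt (2 * d) hi0
    rcases min_choice t (2 * d / i) with hmin | hmin <;> rw [← hs] at hmin
    · have h6 : i * (2 * d / i + 1) ≤ i * (t + 2 * (m / i)) := Nat.mul_le_mul_left _ hlt
      rw [Nat.mul_add, Nat.mul_add, mul_one, show i * (2 * (m / i)) = 2 * (i * (m / i)) by ring, ← hmin] at h6
      omega
    · rw [← hmin] at hdn
      omega
  set g := ∏ l : Fin s, fs (Fin.castLE (min_le_left _ _) l) with hg
  obtain ⟨x, hx, hxf⟩ : Classical.SympElem.HasElem r d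
      ((Polynomial.X - Polynomial.C (1 : F)) ^ (2 * (d - s * h)) * g) := by
    have h1 := Classical.SympElem.hasElem_add (Classical.SympElem.hasElem_one (F := F) r (d - s * h))
      (Classical.SympElem.hasElem_prod hrF (hi.symm.trans hh) (fun l : Fin s => fs (Fin.castLE (min_le_left _ _) l))
        fun _ => hfs _)
    rwa [show d - s * h + s * h = d by omega] at h1
  have hgsf : Squarefree g := by
    refine hsf.squarefree_of_dvd (Fintype.prod_dvd_of_coprime (fun a b hab => ?_) fun l => (hfs _).2.2)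
    refine (hfs _).2.1.coprime_iff_not_dvd.2 fun hd' => hab (Fin.castLE_injective (min_le_left _ _) (hinj ?_))
    exact Polynomial.eq_of_monic_of_associated (hfs _).1 (hfs _).1 ((hfs _).2.1.associated_of_dvd (hfs _).2.1 hd')
  have hg1 : g.eval 1 ≠ 0 := by
    rw [hg, Polynomial.eval_prod, Finset.prod_ne_zero_iff]
    exact fun _ _ => Classical.SympElem.eval_one_cyclo hrF (hfs _).2.2
  have hchar : (Matrix.toLin' x.1).charpoly = (Polynomial.X - Polynomial.C (1 : F)) ^ (2 * (d - s * h)) * g := by
    rw [Matrix.charpoly_toLin', hxf]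
  have hfx := Classical.SympElem.finrank_fx_le hchar hg1
  obtain ⟨W, hWd, hti, hW⟩ := htest x hx (by omega)
  have hG := Classical.SympElem.good_matrix x
  have har := Classical.SympElem.toLin'_pow_one x hx
  obtain ⟨-, hsum⟩ := Classical.SympElem.split_inv hG hrF har hW
  have hbot := Classical.SympElem.no_ti_mv hG hrF har (hi.symm.trans hh) hchar hgsf hW hti
  have hb := Classical.SympElem.ti_bound hG hrF har hti
  rw [hbot, _root_.finrank_bot, hWd] at hsum
  omega

end Cfsg.Agent.S5955
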