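import Cfsg.Statements.S5956
import Cfsg.Agent.Classical.SympElem.Scalar
import Cfsg.Agent.Classical.SympElem.Count
import Cfsg.Agent.Classical.SympElem.Unip
import Cfsg.Agent.Classical.Elusive.Block

set_option autoImplicit false
open scoped MatrixGroups
open Cfsg
open Cfsg.Agent

namespace Cfsg.Agent.S5956

/-- Elements of prime order of PSp_n(q) with no fixed nondegenerate `m`-space. Here `T = PSp_n(q)` with `n = 2d ≥ 4`, `(n, q) ≠ (4, 2)`, realised through the symplectic matrices over the field `F` with `q` elements (preserving the standard alternating form); an element of `T` of prime order `r` is such a matrix `x` with `x^r` scalar and `x` not scalar. For `r ≠ p` let `i` be the multiplicative order of `q` modulo `r`, `c = i` for `i` even and `c = 2i` for `i` odd, and write `k = n mod c`, `ℓ = m mod i`, `ℓ' = m mod c`, `n' = ⌊n/i⌋`, `m' = ⌊m/i⌋`, `t = (r−1)/i`. Let `m` be even with `2 ≤ m < n/2` and let `r` be a prime dividing the number of nondegenerate `m`-spaces. Then every element of `T` of order `r` fixes a nondegenerate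 `m`-space if and only if one of: (i) `r = p > 2` and every partition of `n` into parts of size at most `p` in which every odd part has even multiplicity contains (as a sub-multiset) a partition of `m` in which every odd part has even multiplicity; (ii) `r = p = 2` and (`n ≡ 2 (mod 4)` or `m ≡ 0 (mod 4)`); (iii) `r = 2 ≠ p`; (iv) `r ≠ p`, `r > 2`, `c ≤ m` and `k ≥ ℓ'`. -/
theorem result {F : Type*} [Field F] [Fintype F] {p : ℕ} [Fact p.Prime] [CharP F p] {q : ℕ} (hq : Fintype.card F = q)
    (d m : ℕ) (hd : 2 ≤ d) (hT : (d, q) ≠ (2, 2)) (hm : 2 ≤ m) (hme : Even m) (hmd : m < d)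
    (r : ℕ) [Fact r.Prime]
    (hrΩ : r ∣ Nat.card {W : Submodule F (Fin d ⊕ Fin d → F) // Module.finrank F ↥W = m ∧ (∀ u ∈ W, u ≠ 0 → ∃ v ∈ W, Cfsg.sympForm d F u v ≠ 0)})
    (i c : ℕ) (hi : i = orderOf (q : ZMod r)) (hc : c = if Even i then i else 2 * i) :
    (∀ x : ↥(Matrix.symplecticGroup (Fin d) F),
      (∃ z : F, ((x ^ r : ↥(Matrix.symplecticGroup (Fin d) F)) : Matrix (Fin d ⊕ Fin d) (Fin d ⊕ Fin d) F) = z • (1 : Matrix (Fin d ⊕ Fin d) (Fin d ⊕ Fin d) F)) →
      (∀ z : F, (x : Matrix (Fin d ⊕ Fin d) (Fin d ⊕ Fin d) F) ≠ z • (1 : Matrix (Fin d ⊕ Fin d) (Fin d ⊕ Fin d) F)) →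
      ∃ W : Submodule F (Fin d ⊕ Fin d → F), Module.finrank F ↥W = m ∧ (∀ u ∈ W, u ≠ 0 → ∃ v ∈ W, Cfsg.sympForm d F u v ≠ 0) ∧
        W.map (Matrix.toLin' (x : Matrix (Fin d ⊕ Fin d) (Fin d ⊕ Fin d) F)) ≤ W) ↔
    ((r = p ∧ 2 < p ∧ (∀ μ : Multiset ℕ, (∀ a ∈ μ, 0 < a ∧ a ≤ p) → (∀ a : ℕ, Odd a → Even (μ.count a)) → μ.sum = 2 * d →
        ∃ ν : Multiset ℕ, ν ≤ μ ∧ ν.sum = m ∧ ∀ a : ℕ, Odd a → Even (ν.count a))) ∨
     (r = p ∧ p = 2 ∧ ((2 * d) % 4 = 2 ∨ m % 4 = 0)) ∨
     (r = 2 ∧ p ≠ 2) ∨
     (r ≠ p ∧ 2 < r ∧ c ≤ m ∧ m % c ≤ (2 * d) % c)) := by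
  classical
  subst hq
  have hd1 : 1 ≤ d := by omega
  have hr := (Fact.out : r.Prime)
  have hfin : Module.finrank F (Fin d ⊕ Fin d → F) = 2 * d := Classical.finrank_symp
  obtain ⟨m₂, rfl⟩ : ∃ k, m = 2 * k := by obtain ⟨k, hk⟩ := hme; exact ⟨k, by omega⟩
  -- translation
  have hout : ∀ (x : ↥(Matrix.symplecticGroup (Fin d) F)) (W : Submodule F (Fin d ⊕ Fin d → F)),
      Classical.SympElem.Inv (Matrix.toLin' x.1) W → Classical.Alt.NDon (Classical.sympB d F) W →
      (∀ u ∈ W, u ≠ 0 → ∃ v ∈ W, Cfsg.sympForm d F u v ≠ 0) ∧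
        W.map (Matrix.toLin' (x : Matrix (Fin d ⊕ Fin d) (Fin d ⊕ Fin d) F)) ≤ W := by
    intro x W hW hN
    refine ⟨fun u hu h0 => ?_, Classical.SympElem.inv_iff.1 hW⟩
    obtain ⟨v, hv, hne⟩ := hN u hu h0
    exact ⟨v, hv, by rwa [← Classical.sympB_apply]⟩
  have hin : ∀ W : Submodule F (Fin d ⊕ Fin d → F),
      (∀ u ∈ W, u ≠ 0 → ∃ v ∈ W, Cfsg.sympForm d F u v ≠ 0) → Classical.Alt.NDon (Classical.sympB d F) W := by
    intro W hN u hu h0
    obtain ⟨v, hv, hne⟩ := hN u hu h0
    exact ⟨v, hv, by rwa [Classical.sympB_apply]⟩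
  obtain ⟨n₀, hp', hqn⟩ := FiniteField.card F p
  by_cases hrp : r = p
  · subst hrp
    haveI : CharP (Module.End F (Fin d ⊕ Fin d → F)) r := by
      haveI := Classical.nontrivial_symp (F := F) (m := d) hd1
      exact charP_of_injective_algebraMap (FaithfulSMul.algebraMap_injective F _) r
    by_cases hr2 : r = 2
    · -- involutions in characteristic two
      subst hr2
      have h2 : (2 : F) = 0 := by exact_mod_cast CharP.cast_eq_zero F 2
      have hneg : (-1 : F) = 1 := by linear_combination -h2
      constructor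
      · intro H
        refine Or.inr (Or.inl ⟨rfl, rfl, ?_⟩)
        by_contra hne
        simp only [not_or] at hne
        obtain ⟨g, rfl⟩ : ∃ g, d = 2 * g := ⟨d / 2, by omega⟩
        set U := Fin g → F
        set dot : U →ₗ[F] U →ₗ[F] F := LinearMap.mk₂ F (fun s t => dotProduct s t) add_dotProduct smul_dotProduct dotProduct_add dotProduct_smul with hdot
        have hdotsym : ∀ s t : U, dot s t = dot t s := fun s t => by
          simp [hdot, dotProduct_comm]
        have hdotsep : ∀ s : U, (∀ t, dot s t = 0) → s = 0 := fun s hs => by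
          funext l
          have h := hs (Pi.single l 1)
          simp [hdot] at h
          exact h
        set B : LinearMap.BilinForm F ((U × U) × (U × U)) := LinearMap.mk₂ F
          (fun s t => dot s.1.1 t.2.1 + dot s.1.2 t.2.2 + dot s.2.1 t.1.1 + dot s.2.2 t.1.2)
          (fun s s' t => by simp only [Prod.fst_add, Prod.snd_add, map_add, LinearMap.add_apply]; ring)
          (fun c s t => by simp only [Prod.smul_fst, Prod.smul_snd, map_smul, LinearMap.smul_apply, smul_eq_mul]; ring)
          (fun s t t' => by simp only [Prod.fst_add, Prod.snd_add, map_add]; ring)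
          (fun c s t => by simp only [Prod.smul_fst, Prod.smul_snd, map_smul, smul_eq_mul]; ring) with hB
        set a : Module.End F ((U × U) × (U × U)) :=
          { toFun := fun s => ((s.1.1 + s.1.2, s.1.2), (s.2.1, s.2.2 + s.2.1))
            map_add' := fun s t => by simp [Prod.ext_iff]; constructor <;> abel
            map_smul' := fun c s => by simp [Prod.ext_iff, smul_add] } with ha
        have hBapp : ∀ s t, B s t = dot s.1.1 t.2.1 + dot s.1.2 t.2.2 + dot s.2.1 t.1.1 + dot s.2.2 t.1.2 :=
          fun _ _ => rfl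
        have haapp : ∀ s, a s = ((s.1.1 + s.1.2, s.1.2), (s.2.1, s.2.2 + s.2.1)) := fun _ => rfl
        have hG : Cfsg.Agent.SympConj.Good B a := by
          refine ⟨fun s => ?_, fun s hs => ?_, fun s t => ?_⟩
          · rw [hBapp, hdotsym s.2.1, hdotsym s.2.2]
            linear_combination (dot s.1.1 s.2.1 + dot s.1.2 s.2.2) * h2
          · refine Prod.ext (Prod.ext (hdotsep _ fun t => ?_) (hdotsep _ fun t => ?_))
              (Prod.ext (hdotsep _ fun t => ?_) (hdotsep _ fun t => ?_))
            · simpa [hBapp] using hs ((0, 0), (t, 0))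
            · simpa [hBapp] using hs ((0, 0), (0, t))
            · simpa [hBapp] using hs ((t, 0), (0, 0))
            · simpa [hBapp] using hs ((0, t), (0, 0))
          · simp only [hBapp, haapp, map_add, LinearMap.add_apply]
            linear_combination (dot s.1.2 t.2.1 + dot s.2.1 t.1.2) * h2
        have hneU : ∀ s : U, s + s = 0 := fun s => by rw [← two_smul F, h2, zero_smul]
        have hN : ∀ s, a s - s = ((s.1.2, 0), (0, s.2.1)) := fun s => by simp [haapp, Prod.ext_iff]
        have hker : ∀ s, a s - s = 0 → ∃ t, a t - t = s := fun s hs => by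
          rw [hN] at hs
          simp only [Prod.ext_iff, Prod.fst_zero, Prod.snd_zero] at hs
          exact ⟨((0, s.1.1), (s.2.2, 0)), by rw [hN]; simp [Prod.ext_iff, hs.1.1, hs.2.2]⟩
        have halt : ∀ s, B (a s - s) s = 0 := fun s => by
          rw [hN, hBapp]
          simp only [map_zero, LinearMap.zero_apply, add_zero, zero_add]
          rw [hdotsym s.2.1]
          linear_combination (dot s.1.2 s.2.1) * h2
        have ha2 : a ^ 2 = 1 := LinearMap.ext fun s => by
          rw [pow_two, Module.End.mul_apply, haapp, haapp, Module.End.one_apply]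
          simp [Prod.ext_iff, add_assoc, hneU]
        obtain ⟨x, Ψ, hΨ, hform⟩ := Classical.SympElem.exists_realize hG (d := 2 * g) (by
          simp only [Module.finrank_prod, Module.finrank_fin_fun, U]; omega)
        have hx2 : x ^ 2 = 1 := Classical.SympElem.of_toLin' x (LinearMap.ext fun v => by
          obtain ⟨s, rfl⟩ := Ψ.surjective v
          rw [pow_two, Module.End.mul_apply, ← hΨ, ← hΨ, ← Module.End.mul_apply, ← pow_two, ha2]
          rfl)
        obtain ⟨W, hWd, hWn, hWx⟩ := H x (Classical.SympElem.pow_scalar_of_one x hx2) (fun z hz => by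
          have hz1 : z = 1 := by
            have h1 := Classical.SympElem.scalar_sq hd1 x hz
            rcases sq_eq_one_iff.1 h1 with h1 | h1
            · exact h1
            · rw [h1, hneg]
          rw [hz1, one_smul] at hz
          have h1 := hΨ ((0, Function.const _ 1), (0, 0))
          rw [hz, Matrix.toLin'_one, LinearMap.id_apply, Ψ.injective.eq_iff, haapp] at h1
          simp only [Prod.ext_iff, zero_add] at h1
          exact one_ne_zero (congrFun h1.1.1 ⟨0, by omega⟩))
        set W₀ := W.comap Ψ.toLinearMap with hW₀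
        have hW₀d : Module.finrank F W₀ = 2 * m₂ := by
          rw [hW₀, Submodule.comap_equiv_eq_map_symm, LinearEquiv.finrank_map_eq, hWd]
        have hW₀i : Classical.SympElem.Inv a W₀ := fun w hw => by
          show Ψ (a w) ∈ W
          rw [hΨ]
          exact hWx ⟨_, hw, rfl⟩
        have hW₀n : Classical.Alt.NDon B W₀ := fun w hw h0 => by
          obtain ⟨v, hv, hne'⟩ := hin W hWn (Ψ w) hw (by simpa using h0)
          refine ⟨Ψ.symm v, by show Ψ (Ψ.symm v) ∈ W; rwa [LinearEquiv.apply_symm_apply], ?_⟩
          rwa [← hform, LinearEquiv.apply_symm_apply]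
        set N₀ := (a - 1).restrict (show ∀ w ∈ W₀, (a - 1) w ∈ W₀ from fun w hw =>
          W₀.sub_mem (hW₀i w hw) hw) with hN₀
        set β : LinearMap.BilinForm F W₀ := B.comp (W₀.subtype ∘ₗ N₀) W₀.subtype with hβ
        have hev := UniForm.even_rank β (fun w => halt w)
        have hkβ : LinearMap.ker β = LinearMap.ker N₀ := by
          ext w
          rw [LinearMap.mem_ker, LinearMap.mem_ker]
          constructor
          · intro hw
            by_contra h0
            obtain ⟨z, hz, hne'⟩ := hW₀n _ (N₀ w).2 (fun h => h0 (Subtype.ext h))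
            exact hne' (LinearMap.congr_fun hw ⟨z, hz⟩)
          · intro hw
            refine LinearMap.ext fun z => ?_
            show B ((N₀ w : W₀) : (U × U) × (U × U)) _ = 0
            rw [hw, Submodule.coe_zero, map_zero, LinearMap.zero_apply]
        have hrk : LinearMap.ker N₀ = LinearMap.range N₀ := by
          ext w
          rw [LinearMap.mem_ker, LinearMap.mem_range]
          constructor
          · intro hw
            obtain ⟨t, ht⟩ := hker w (congrArg Subtype.val hw)
            obtain ⟨t₁, h₁, t₂, h₂, rfl⟩ := Submodule.mem_sup.1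
              ((Classical.SympElem.isCompl_orth hG hW₀n).sup_eq_top.symm ▸ Submodule.mem_top (x := t))
            refine ⟨⟨t₁, h₁⟩, Subtype.ext (sub_eq_zero.1 ?_)⟩
            show (a t₁ - t₁) - (w : (U × U) × (U × U)) = 0
            refine Submodule.disjoint_def.1 (Classical.SympElem.isCompl_orth hG hW₀n).disjoint _
              (W₀.sub_mem (W₀.sub_mem (hW₀i _ h₁) h₁) w.2) ?_
            rw [← ht, map_add]
            convert Submodule.neg_mem _ ((B.orthogonal W₀).sub_mem (Classical.SympElem.inv_orth hG hW₀i _ h₂) h₂) using 1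
            abel
          · rintro ⟨t, rfl⟩
            refine Subtype.ext ?_
            show a (a (t : (U × U) × (U × U)) - t) - (a t - t) = 0
            rw [hN, hN]
            simp [Prod.ext_iff]
        have e1 := β.finrank_range_add_finrank_ker
        rw [hkβ, hW₀d] at e1
        have e2 := N₀.finrank_range_add_finrank_ker
        rw [hW₀d] at e2
        have e3 : Module.finrank F (LinearMap.ker N₀) = Module.finrank F (LinearMap.range N₀) := by rw [hrk]
        obtain ⟨t, ht⟩ := hev
        omega
      · intro hR x hx _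
        obtain ⟨z, hz⟩ := hx
        have hpar : Odd d ∨ Even m₂ := by
          rcases hR with h | h | h | h
          · omega
          · simp only [Nat.odd_iff, Nat.even_iff]; omega
          · exact absurd rfl h.2
          · exact absurd rfl h.1
        have hinv : ∀ v, Matrix.toLin' x.1 (Matrix.toLin' x.1 v) = v := by
          intro v
          rcases Classical.SympElem.sq_cases hd1 x hz with h | h
          · rw [← Module.End.mul_apply, ← pow_two, h, Module.End.one_apply]
          · rw [h, ← neg_one_smul F v, hneg, one_smul]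
        obtain ⟨W, -, hW, hN, hWd⟩ := Classical.SympElem.exists_char_two_nd (Classical.SympElem.good_matrix x) h2
          hinv d ⊤ Classical.SympElem.inv_top
          (Classical.SympElem.ndon_top' (Classical.SympElem.good_matrix x)) (by rw [finrank_top, hfin]) m₂
          (by omega) hpar
        exact ⟨W, hWd, hout x W hW hN⟩
    · -- unipotent elements in odd characteristic
      have hodd : Odd r := hr.odd_of_ne_two hr2
      have hr3 : 2 < r := by have := hr.two_le; omega
      have h2 : (2 : F) ≠ 0 := by
        intro h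
        exact hr2 ((Nat.prime_dvd_prime_iff_eq hr Nat.prime_two).1
          ((CharP.cast_eq_zero_iff F r 2).1 (by exact_mod_cast h)))
      constructor
      · intro H
        refine Or.inl ⟨rfl, hr3, fun μ hμ hμp hμs => ?_⟩
        by_cases hone : ∀ a ∈ μ, a = 1
        · rw [Multiset.eq_replicate_card.2 hone, Multiset.sum_replicate, smul_eq_mul, mul_one] at hμs
          refine ⟨Multiset.replicate (2 * m₂) 1, ?_, by simp, fun a _ => ?_⟩
          · rw [Multiset.eq_replicate_card.2 hone]
            exact (Multiset.replicate_le_replicate 1).2 (by omega)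
          · rw [Multiset.count_replicate]; split_ifs <;> simp
        push Not at hone
        obtain ⟨a₀, ha₀, ha1⟩ := hone
        have h0 : (0 : ℕ) ∉ μ := fun h => absurd (hμ 0 h).1 (lt_irrefl 0)
        obtain ⟨B, φ, hk, hsep, hpres, hT⟩ := UniForm.realizes_of_even (F := F) true (by simp) μ h0
          (fun j hj _ => hμp j (hj.2 rfl))
        have hG : Cfsg.Agent.SympConj.Good B φ := ⟨by simpa [UniForm.Kind] using hk, hsep, hpres⟩
        have hnil : (φ - 1) ^ r = 0 := (MatModule.sub_one_pow_eq_zero_iff hT r).2 fun a ha => (hμ a ha).2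
        obtain ⟨x, Ψ, hΨ, -⟩ := Classical.SympElem.exists_realize hG (d := d) (by
          rw [Module.finrank_fin_fun, hμs])
        have hT' := UniForm.hasType_equiv Ψ hΨ hT
        have hnil' : (Matrix.toLin' x.1 - 1) ^ r = 0 :=
          (MatModule.sub_one_pow_eq_zero_iff hT' r).2 fun a ha => (hμ a ha).2
        have hx : x ^ r = 1 := by
          refine Classical.SympElem.of_toLin' x ?_
          rwa [sub_pow_char_of_commute _ (Commute.one_right _), one_pow, sub_eq_zero] at hnil'
        obtain ⟨W, hWd, hWn, hWx⟩ := H x (Classical.SympElem.pow_scalar_of_one x hx)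
          (Classical.SympElem.not_scalar hd1 hodd x hx (by
            refine lt_of_le_of_ne ((Submodule.finrank_le _).trans_eq hfin) fun heq => ?_
            have htop : Classical.SympElem.fx (Matrix.toLin' x.1) = ⊤ :=
              Submodule.eq_top_of_finrank_eq (heq.trans hfin.symm)
            have hle1 := (MatModule.sub_one_pow_eq_zero_iff hT' 1).1 (by
              rw [pow_one]; exact LinearMap.ker_eq_top.1 htop) a₀ ha₀
            have := (hμ a₀ ha₀).1
            omega))
        obtain ⟨ν, h1, h3, h4⟩ := Classical.SympElem.type_parts (Classical.SympElem.good_matrix x)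
          (Classical.SympElem.inv_iff.2 hWx) (hin W hWn) hnil' hT' h0
        exact ⟨ν, h1, h3.trans hWd, h4⟩
      · intro hR x hx _
        obtain ⟨z, hz⟩ := hx
        have hμR := hR.resolve_right (by
          rintro (h | h | h)
          · exact hr2 h.2.1
          · exact hr2 h.1
          · exact h.1 rfl)
        obtain ⟨a, hG, har, htr⟩ := Classical.SympElem.exists_normalise hd1 hodd x hz
        have hnil : (a - 1) ^ r = 0 := by
          rw [sub_pow_char_of_commute _ (Commute.one_right _), one_pow, har, sub_self]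
        obtain ⟨μ, hμ0, hμ⟩ := MatModule.exists_hasType a hnil
        have hle := (MatModule.sub_one_pow_eq_zero_iff hμ r).1 hnil
        obtain ⟨ν, hνμ, hνs, hνp⟩ := hμR.2.2 μ
          (fun b hb => ⟨Nat.pos_of_ne_zero fun h => hμ0 (h ▸ hb), hle b hb⟩)
          (fun j hj => UniForm.even_count_odd_of_alt (Classical.SympElem.ctx_of_good hG) hnil hG.alt hμ hj)
          (by rw [MatModule.sum_eq_finrank hμ, hfin])
        obtain ⟨W, hW, hN, hWd⟩ := Classical.SympElem.exists_nd_of_type h2 μ _ a hG hμ hμ0 ν hνμ hνp
        obtain ⟨v1, -⟩ : (∀ u ∈ W, u ≠ 0 → ∃ v ∈ W, Cfsg.sympForm d F u v ≠ 0) ∧ True :=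
          ⟨fun u hu h0 => by
            obtain ⟨v, hv, hne⟩ := hN u hu h0
            exact ⟨v, hv, by rwa [← Classical.sympB_apply]⟩, trivial⟩
        exact ⟨W, hWd.trans hνs, v1, htr W hW⟩
  have hrq : ¬ r ∣ Fintype.card F := fun h => by
    rw [hqn] at h
    exact hrp ((Nat.prime_dvd_prime_iff_eq hr hp').1 (hr.dvd_of_dvd_pow h))
  have hrF : (r : F) ≠ 0 := Classical.Elusive.cast_ne_zero_of_not_dvd hrq
  by_cases hr2 : r = 2
  · subst hr2
    have hp2 : p ≠ 2 := fun h => hrp h.symm
    have h2 : (2 : F) ≠ 0 := by exact_mod_cast hrF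
    refine iff_of_true (fun x hx _ => ?_) (Or.inr (Or.inr (Or.inl ⟨rfl, hp2⟩)))
    obtain ⟨z, hz⟩ := hx
    have hG := Classical.SympElem.good_matrix x
    obtain ⟨W, hW, hN, hWd⟩ : ∃ W : Submodule F (Fin d ⊕ Fin d → F),
        Classical.SympElem.Inv (Matrix.toLin' x.1) W ∧ Classical.Alt.NDon (Classical.sympB d F) W ∧
          Module.finrank F W = 2 * m₂ := by
      rcases Classical.SympElem.sq_cases hd1 x hz with h1 | h1
      · exact (Classical.SympElem.exists_involution_sub hG h2 h1 hfin (k := m₂) (by omega)).2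
      · exact Classical.SympElem.exists_neg_one_nd hG h2 h1 hfin (by omega)
    exact ⟨W, hWd, hout x W hW hN⟩
  have hr3 : 2 < r := by have := hr.two_le; omega
  have hrodd : Odd r := hr.odd_of_ne_two hr2
  obtain ⟨hsf, hAll, -, hi0, hidvd⟩ := Classical.SympElem.poly_facts (F := F) (r := r) hrF
  rw [← hi] at hi0 hidvd hAll
  constructor
  swap
  · intro hR x hx _
    obtain ⟨z, hz⟩ := hx
    obtain ⟨a, hG, har, htr⟩ := Classical.SympElem.exists_normalise hd1 hrodd x hz
    have hk : (2 * m₂) % c ≤ (2 * d) % c := by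
      rcases hR with h | h | h | h
      · exact absurd h.1 hrp
      · exact absurd h.1 hrp
      · exact absurd h.1 hr2
      · exact h.2.2.2
    subst hi
    obtain ⟨W, hW, hN, hWd⟩ := Classical.SympElem.exists_prime_nd hG hrF hr2 har hfin (by omega) hme hc hk
    refine ⟨W, hWd, fun u hu h0 => ?_, htr W hW⟩
    obtain ⟨v, hv, hne⟩ := hN u hu h0
    exact ⟨v, hv, by rwa [← Classical.sympB_apply]⟩
  intro H
  refine Or.inr (Or.inr (Or.inr ⟨hrp, hr3, ?_⟩))
  have hdvd := Classical.SympElem.of_dvd_nd (r := r) hrq hme (by omega) hrΩ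
  obtain ⟨j₀, hj₀, hij⟩ := Classical.SympElem.exists_of_dvd_prod hdvd
  rw [← hi] at hij
  rw [Nat.mul_div_cancel_left _ two_pos] at hj₀
  have hcd : c ∣ 2 * (d - j₀) := by
    rw [hc]
    split_ifs with heven
    · exact hij
    · exact Nat.Coprime.mul_dvd_of_dvd_of_dvd (Nat.coprime_two_left.2 (Nat.not_even_iff_odd.1 heven))
        (dvd_mul_right 2 _) hij
  have hkl : (2 * m₂) % c ≤ (2 * d) % c := by
    by_contra hcon
    have hi1 : i ≠ 1 := fun h => by
      rw [h, if_neg Nat.not_even_one, mul_one] at hc
      rw [hc, Nat.mul_mod_right] at hcon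
      omega
    obtain ⟨x, hx, hfx, hfd⟩ : ∃ x : ↥(Matrix.symplecticGroup (Fin d) F), x ^ r = 1 ∧
        Module.finrank F (Classical.SympElem.fx (Matrix.toLin' x.1)) ≤ (2 * d) % c ∧ (2 * d) % c < 2 * d := by
      by_cases heven : Even i
      · rw [if_pos heven] at hc
        obtain ⟨h, hh⟩ := heven
        rw [hc]
        obtain ⟨t, fs, ht, -, hfs⟩ := Classical.SympElem.exists_factors (F := F) hrF
        rw [← hi] at ht
        have ht0 : 0 < t := Nat.pos_of_ne_zero fun h0 => by rw [h0, zero_mul] at ht; omega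
        set N := (2 * d) / i with hN
        have hdn := Nat.mod_add_div (2 * d) i
        rw [← hN] at hdn
        have hiN : i * N = 2 * (h * N) := by rw [hh]; ring
        have hN0 : 0 < N := Nat.div_pos (Nat.le_trans (Nat.le_of_dvd (by omega) hij) (by omega)) hi0
        have hiN1 : i ≤ i * N := Nat.le_mul_of_pos_right _ hN0
        obtain ⟨x, hx, hxf⟩ : Classical.SympElem.HasElem r d
            ((Polynomial.X - Polynomial.C (1 : F)) ^ (2 * (d - N * h)) * ∏ _l : Fin N, fs ⟨0, ht0⟩) := by
          have h1 := Classical.SympElem.hasElem_add (Classical.SympElem.hasElem_one (F := F) r (d - N * h))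
            (Classical.SympElem.hasElem_prod hrF (hi.symm.trans hh) (fun _ : Fin N => fs ⟨0, ht0⟩)
              fun _ => hfs _)
          rwa [show d - N * h + N * h = d by rw [mul_comm N h]; omega] at h1
        refine ⟨x, hx, ?_, by omega⟩
        refine (Classical.SympElem.finrank_fx_le (k := 2 * (d - N * h)) (by rw [Matrix.charpoly_toLin', hxf]) ?_).trans
          (by rw [mul_comm N h]; omega)
        rw [Polynomial.eval_prod, Finset.prod_ne_zero_iff]
        exact fun _ _ => Classical.SympElem.eval_one_cyclo hrF (hfs _).2.2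
      · rw [if_neg heven] at hc
        rw [hc]
        have hid : i ≤ d := by
          have := Nat.le_of_dvd (by omega) ((Nat.coprime_two_right.2 (Nat.not_even_iff_odd.1 heven)).dvd_of_dvd_mul_left hij)
          omega
        set k := d / i with hk
        have hk1 : 1 ≤ k := Nat.div_pos hid hi0
        have hdn := Nat.mod_add_div d i
        rw [← hk] at hdn
        obtain ⟨M, hM, hMe, -⟩ := Classical.Elusive.exists_block (F := F) (n := d) (r := r) (k := k) hrF
          (by rw [← hi]; exact hi1) hk1 (by rw [← hi]; omega)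
        have hM1 : M ^ r = 1 := Subtype.ext (by rw [hM, one_smul]; rfl)
        obtain ⟨x, hx, hxf⟩ := Classical.SympElem.exists_hyperbolic M hM1
        refine ⟨x, hx, hxf.trans ?_, ?_⟩
        · rw [hMe, ← hi, Nat.mul_mod_mul_left]; omega
        · rw [Nat.mul_mod_mul_left]
          have := Nat.mod_lt d hi0
          omega
    obtain ⟨W, hWd, hWn, hWx⟩ := H x (Classical.SympElem.pow_scalar_of_one x hx)
      (Classical.SympElem.not_scalar hd1 hrodd x hx (by omega))
    have hW : Classical.SympElem.Inv (Matrix.toLin' x.1) W := Classical.SympElem.inv_iff.2 hWx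
    have hG := Classical.SympElem.good_matrix x
    have har := Classical.SympElem.toLin'_pow_one x hx
    obtain ⟨-, hsum⟩ := Classical.SympElem.split_inv hG hrF har hW
    obtain ⟨-, hev⟩ := Classical.SympElem.nd_parts hG hrF har hW (hin W hWn)
    have hle : Module.finrank F (W ⊓ Classical.SympElem.fx (Matrix.toLin' x.1) : Submodule F (Fin d ⊕ Fin d → F)) ≤
        Module.finrank F (Classical.SympElem.fx (Matrix.toLin' x.1)) := Submodule.finrank_mono inf_le_right
    have hidv := Classical.SympElem.dvd_inf_mv hG hrF har hW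
    rw [← hi] at hidv
    obtain ⟨A, hA⟩ : c ∣ Module.finrank F (W ⊓ Classical.SympElem.mv (Matrix.toLin' x.1) : Submodule F (Fin d ⊕ Fin d → F)) := by
      rw [hc]
      split_ifs with heven
      · exact hidv
      · exact Nat.Coprime.mul_dvd_of_dvd_of_dvd (Nat.coprime_two_left.2 (Nat.not_even_iff_odd.1 heven))
          (even_iff_two_dvd.1 hev) hidv
    rw [hWd, hA] at hsum
    rw [← hsum, Nat.add_mul_mod_self_left] at hcon
    exact hcon (le_trans (Nat.mod_le _ _) (hle.trans hfx))
  refine ⟨?_, hkl⟩
  by_contra hcon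
  obtain ⟨s, hs⟩ := hcd
  rw [Nat.mod_eq_of_lt (by omega : 2 * m₂ < c), show 2 * d = 2 * j₀ + c * s by omega, Nat.add_mul_mod_self_left,
    Nat.mod_eq_of_lt (by omega : 2 * j₀ < c)] at hkl
  omega

end Cfsg.Agent.S5956
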