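import Cfsg.Statements.S5957

set_option autoImplicit false
open scoped MatrixGroups
open Cfsg

namespace Cfsg.Agent.S5957

open Module

/-- a block respecting involution with a given number of moved points -/
def Good (t a k : ℕ) : Prop :=
  ∃ g : Equiv.Perm (Fin t × Fin a), g * g = 1 ∧ (∀ u v, u.1 = v.1 → (g u).1 = (g v).1) ∧
    Nat.card {u // g u ≠ u} = 2 * k

lemma exists_invol (a k : ℕ) (h : 2 * k ≤ a) : ∃ g : Equiv.Perm (Fin a), g * g = 1 ∧ Nat.card {u // g u ≠ u} = 2 * k := by
  obtain ⟨g, hg⟩ := (Equiv.Perm.exists_with_cycleType_iff (Fin a) (m := Multiset.replicate k 2)).2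
    ⟨by rw [Multiset.sum_replicate, smul_eq_mul, Fintype.card_fin]; omega, fun x hx => by rw [Multiset.eq_of_mem_replicate hx]⟩
  refine ⟨g, ?_, ?_⟩
  · rw [← pow_two]
    refine orderOf_dvd_iff_pow_eq_one.1 ?_
    rw [← Equiv.Perm.lcm_cycleType, hg]
    exact Multiset.lcm_dvd.2 fun x hx => by rw [Multiset.eq_of_mem_replicate hx]
  · have := g.sum_cycleType
    rw [hg, Multiset.sum_replicate, smul_eq_mul] at this
    rw [Nat.card_eq_fintype_card, Fintype.card_subtype]
    rw [mul_comm, this]
    rfl

lemma moved_sum {α β : Type*} [Finite α] [Finite β] (g : Equiv.Perm α) (h : Equiv.Perm β) :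
    Nat.card {u // Equiv.sumCongr g h u ≠ u} = Nat.card {u // g u ≠ u} + Nat.card {u // h u ≠ u} := by
  rw [← Nat.card_sum]
  exact Nat.card_congr ((Equiv.subtypeSum).trans (Equiv.sumCongr
    (Equiv.subtypeEquivRight fun x => by simp) (Equiv.subtypeEquivRight fun x => by simp)))

lemma moved_congr {α β : Type*} (e : α ≃ β) (g : Equiv.Perm α) :
    Nat.card {u // e.permCongr g u ≠ u} = Nat.card {u // g u ≠ u} :=
  (Nat.card_congr (e.subtypeEquiv fun a => by simp)).symm

lemma good_add {s t a k l : ℕ} (h1 : Good s a k) (h2 : Good t a l) : Good (s + t) a (k + l) := by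
  obtain ⟨g, hg, hgf, hgc⟩ := h1
  obtain ⟨h, hh, hhf, hhc⟩ := h2
  let e : (Fin s × Fin a) ⊕ (Fin t × Fin a) ≃ Fin (s + t) × Fin a :=
    (Equiv.sumProdDistrib _ _ _).symm.trans (Equiv.prodCongr finSumFinEquiv (Equiv.refl _))
  refine ⟨e.permCongr (Equiv.sumCongr g h), ?_, fun u v huv => ?_, ?_⟩
  · have e1 : Equiv.sumCongr g h * Equiv.sumCongr g h = 1 := by
      rw [Equiv.Perm.sumCongr_mul, hg, hh, Equiv.Perm.sumCongr_one]
    refine Equiv.ext fun x => ?_
    have := congrArg (fun f : Equiv.Perm _ => e (f (e.symm x))) e1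
    simpa using this
  · obtain ⟨u, rfl⟩ := e.surjective u
    obtain ⟨v, rfl⟩ := e.surjective v
    simp only [Equiv.permCongr_apply, e.symm_apply_apply]
    rcases u with u | u <;> rcases v with v | v <;> simp [e] at huv ⊢
    · exact hgf u v huv
    · exact absurd huv (by intro h; have := congrArg Fin.val h; simp at this; omega)
    · exact absurd huv (by intro h; have := congrArg Fin.val h; simp at this; omega)
    · exact hhf u v huv
  · rw [moved_congr, moved_sum, hgc, hhc]; ring

lemma good_one {a k : ℕ} (h : 2 * k ≤ a) : Good 1 a k := by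
  obtain ⟨g, hg, hc⟩ := exists_invol a k h
  refine ⟨(Equiv.uniqueProd (Fin a) (Fin 1)).symm.permCongr g, ?_, fun u v _ => Subsingleton.elim _ _, by rw [moved_congr, hc]⟩
  refine Equiv.ext fun x => ?_
  have := congrArg (fun f : Equiv.Perm _ => f x.2) hg
  simp at this ⊢
  exact Prod.ext (Subsingleton.elim _ _) this

lemma good_two (a : ℕ) : Good 2 a a := by
  refine ⟨Equiv.prodCongr (Equiv.swap 0 1) (Equiv.refl _), Equiv.ext fun x => Prod.ext (by simp) rfl, fun u v h => by simp [h], ?_⟩
  have : ∀ u : Fin 2 × Fin a, Equiv.prodCongr (Equiv.swap (0 : Fin 2) 1) (Equiv.refl (Fin a)) u ≠ u := fun u h => by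
    have h' := congrArg Prod.fst h
    simp only [Equiv.prodCongr_apply, Prod.map_fst] at h'
    exact (show ∀ i : Fin 2, Equiv.swap (0 : Fin 2) 1 i ≠ i by decide) _ h'
  rw [Nat.card_congr (Equiv.subtypeUnivEquiv this), Nat.card_prod, Nat.card_fin, Nat.card_fin]

lemma good_all (a : ℕ) : ∀ t k, 2 * k ≤ t * a → Good t a k
  | 0, k, h => ⟨1, mul_one _, fun u => u.1.elim0, by
      obtain rfl : k = 0 := by simpa using h
      simp⟩
  | 1, k, h => good_one (by simpa using h)
  | t + 2, k, h => by
    by_cases hk : a ≤ k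
    · have := good_add (good_all a t (k - a) (by
        have e : (t + 2) * a = t * a + 2 * a := by ring
        omega)) (good_two a)
      rwa [Nat.sub_add_cancel hk] at this
    · have hle : min k (a / 2) ≤ k := min_le_left _ _
      have hta : a ≤ (t + 1) * a := Nat.le_mul_of_pos_left a (by omega)
      have := good_add (good_all a (t + 1) (k - min k (a / 2)) (by
        have := le_or_gt k (a / 2)
        rcases this with h' | h'
        · rw [min_eq_left h']; simp
        · rw [min_eq_right h'.le]; omega)) (good_one (a := a) (k := min k (a / 2)) (by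
          have := min_le_right k (a / 2); omega))
      rwa [Nat.sub_add_cancel hle] at this

lemma exists_labels {ι : Type*} [Fintype ι] [DecidableEq ι] (π : Equiv.Perm ι) (hπ : π * π = 1) (a t : ℕ)
    (hc : Fintype.card ι = t * a) :
    ∃ e : ι ≃ Fin t × Fin a, ∀ i j, (e i).1 = (e j).1 → (e (π i)).1 = (e (π j)).1 := by
  have hsupp : ∀ {β : Type} [Fintype β] [DecidableEq β] (g : Equiv.Perm β), g * g = 1 →
      g.cycleType = Multiset.replicate (Nat.card {u // g u ≠ u} / 2) 2 := by
    intro β _ _ g hg
    have h2 : ∀ n ∈ g.cycleType, n = 2 := fun n hn => by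
      have h := (Equiv.Perm.dvd_of_mem_cycleType hn).trans (orderOf_dvd_of_pow_eq_one (show g ^ 2 = 1 by rw [pow_two, hg]))
      have := Equiv.Perm.two_le_of_mem_cycleType hn
      have := Nat.le_of_dvd two_pos h
      omega
    rw [Multiset.eq_replicate]
    refine ⟨?_, h2⟩
    have := g.sum_cycleType
    rw [Multiset.eq_replicate_card.2 h2, Multiset.sum_replicate, smul_eq_mul] at this
    rw [Nat.card_eq_fintype_card, Fintype.card_subtype]
    change _ = g.support.card / 2
    omega
  let ε : ι ≃ Fin t × Fin a := Fintype.equivOfCardEq (by simp [hc])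
  let π' : Equiv.Perm (Fin t × Fin a) := ε.permCongr π
  have hπ' : π' * π' = 1 := Equiv.ext fun x => by
    have := congrArg (fun f : Equiv.Perm ι => ε (f (ε.symm x))) hπ
    simpa [π'] using this
  set k := Nat.card {u // π' u ≠ u} / 2
  have hle : 2 * k ≤ t * a := by
    have h1 : Nat.card {u // π' u ≠ u} ≤ Nat.card (Fin t × Fin a) := Finite.card_subtype_le _
    rw [Nat.card_prod, Nat.card_fin, Nat.card_fin] at h1
    omega
  obtain ⟨g, hg, hgf, hgc⟩ := good_all a t k hle
  have hct : π'.cycleType = g.cycleType := by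
    rw [hsupp π' hπ', hsupp g hg, hgc]; congr 1; omega
  obtain ⟨c, hc'⟩ := isConj_iff.1 (Equiv.Perm.isConj_iff_cycleType_eq.2 hct)
  refine ⟨ε.trans c, fun i j h => ?_⟩
  have key : ∀ i, c (ε (π i)) = g (c (ε i)) := fun i => by
    have h1 : c (π' (ε i)) = g (c (ε i)) := by rw [← hc']; simp
    simpa [π'] using h1
  simp only [Equiv.trans_apply] at h ⊢
  rw [key, key]
  exact hgf _ _ h

section

variable {F V : Type*} [Field F] [AddCommGroup V] [Module F V] [FiniteDimensional F V]

/-- a basis of lines permuted by the map -/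
def Monomial (T : Module.End F V) : Prop :=
  ∃ (ι : Type) (_ : Fintype ι) (b : Basis ι F V) (π : ι → ι), π ∘ π = id ∧ ∀ i, ∃ c : F, T (b i) = c • b (π i)

lemma monomial_nonsquare {T : Module.End F V} {z : F} (hT : ∀ v, T (T v) = z • v) (hz : ∀ c : F, c * c ≠ z) : Monomial T := by
  classical
  let P : ℕ → Prop := fun k => ∃ u : Fin k → V, LinearIndependent F (Sum.elim u (T ∘ u))
  have hb : ∀ k, P k → 2 * k ≤ finrank F V := fun k ⟨u, hu⟩ => by
    have := hu.fintype_card_le_finrank
    rw [Fintype.card_sum, Fintype.card_fin] at this; omega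
  have h0 : P 0 := ⟨Fin.elim0, linearIndependent_empty_type⟩
  obtain ⟨k, hkdef⟩ : ∃ k, k = Nat.findGreatest P (finrank F V) := ⟨_, rfl⟩
  obtain ⟨u, hu⟩ : P k := hkdef ▸ Nat.findGreatest_spec (P := P) (Nat.zero_le (finrank F V)) h0
  have htop : Submodule.span F (Set.range (Sum.elim u (T ∘ u))) = ⊤ := by
    by_contra hne
    obtain ⟨v, -, hv⟩ := SetLike.exists_of_lt (lt_top_iff_ne_top.2 hne)
    set S := Submodule.span F (Set.range (Sum.elim u (T ∘ u)))
    have hS : ∀ x ∈ S, T x ∈ S := by
      have : S ≤ S.comap T := Submodule.span_le.2 (by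
        rintro _ ⟨i | i, rfl⟩
        · exact Submodule.subset_span ⟨.inr i, rfl⟩
        · show T (T (u i)) ∈ S
          rw [hT]; exact S.smul_mem z (Submodule.subset_span ⟨.inl i, rfl⟩))
      exact fun x hx => this hx
    have key : ∀ a b : F, a • v + b • T v ∈ S → a = 0 ∧ b = 0 := fun a b h => by
      have h2 := hS _ h
      rw [map_add, map_smul, map_smul, hT] at h2
      have h3 : (a * a - b * b * z) • v ∈ S := by
        have : (a * a - b * b * z) • v = a • (a • v + b • T v) - b • (a • T v + b • z • v) := by module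
        rw [this]; exact S.sub_mem (S.smul_mem _ h) (S.smul_mem _ h2)
      have h4 : a * a - b * b * z = 0 := by
        by_contra hne'; exact hv ((S.smul_mem_iff hne').1 h3)
      rcases eq_or_ne b 0 with rfl | hb0
      · exact ⟨mul_self_eq_zero.1 (by linear_combination h4), rfl⟩
      · exact absurd (by field_simp; linear_combination h4) (hz (a / b))
    have hP : P (k + 1) := by
      refine ⟨Fin.snoc u v, ?_⟩
      rw [linearIndependent_iff'] at hu ⊢
      intro s g hg
      have hsum : ∑ i, (if i ∈ s then g i else 0) • Sum.elim (Fin.snoc u v) (T ∘ Fin.snoc u v) i = 0 := by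
        rw [← hg]; simp [ite_smul]
      rw [Fintype.sum_sum_type, Fin.sum_univ_castSucc, Fin.sum_univ_castSucc] at hsum
      simp only [Sum.elim_inl, Sum.elim_inr, Function.comp_apply, Fin.snoc_castSucc, Fin.snoc_last] at hsum
      set a := if Sum.inl (Fin.last k) ∈ s then g (Sum.inl (Fin.last k)) else 0
      set b := if Sum.inr (Fin.last k) ∈ s then g (Sum.inr (Fin.last k)) else 0
      set X := ∑ i : Fin k, (if Sum.inl i.castSucc ∈ s then g (Sum.inl i.castSucc) else 0) • u i with hX
      set Y := ∑ i : Fin k, (if Sum.inr i.castSucc ∈ s then g (Sum.inr i.castSucc) else 0) • T (u i) with hY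
      have hXS : X ∈ S := S.sum_mem fun i _ => S.smul_mem _ (Submodule.subset_span ⟨.inl i, rfl⟩)
      have hYS : Y ∈ S := S.sum_mem fun i _ => S.smul_mem _ (Submodule.subset_span ⟨.inr i, rfl⟩)
      have hab := key a b (by
        have : a • v + b • T v = -(X + Y) := by linear_combination (norm := module) hsum
        rw [this]; exact S.neg_mem (S.add_mem hXS hYS))
      rw [hab.1, hab.2, zero_smul, zero_smul, add_zero, add_zero] at hsum
      have hz' := hu Finset.univ (Sum.elim (fun i : Fin k => if Sum.inl i.castSucc ∈ s then g (Sum.inl i.castSucc) else 0)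
        (fun i : Fin k => if Sum.inr i.castSucc ∈ s then g (Sum.inr i.castSucc) else 0))
        (by rw [Fintype.sum_sum_type]; simp only [Sum.elim_inl, Sum.elim_inr, Function.comp_apply]; exact hsum)
      intro i hi
      rcases i with i | i <;> induction i using Fin.lastCases with
      | last => first | simpa [a, hi] using hab.1 | simpa [b, hi] using hab.2
      | cast j => first | simpa [hi] using hz' (.inl j) (Finset.mem_univ _) | simpa [hi] using hz' (.inr j) (Finset.mem_univ _)
    have := Nat.le_findGreatest (by have := hb _ hP; omega : k + 1 ≤ finrank F V) hP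
    omega
  refine ⟨Fin k ⊕ Fin k, inferInstance, Basis.mk hu htop.ge, Sum.swap, funext fun x => Sum.swap_swap x, fun i => ?_⟩
  rcases i with i | i
  · exact ⟨1, by simp⟩
  · exact ⟨z, by simp [hT]⟩

lemma monomial_odd (h2 : (2 : F) ≠ 0) {T : Module.End F V} {c : F} (hc : c ≠ 0) (hT : ∀ v, T (T v) = (c * c) • v) :
    Monomial T := by
  let P : Submodule F V := LinearMap.ker (T - c • 1)
  let Q : Submodule F V := LinearMap.ker (T + c • 1)
  have hP : ∀ v, v ∈ P ↔ T v = c • v := fun v => by simp [P, sub_eq_zero]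
  have hQ : ∀ v, v ∈ Q ↔ T v = -(c • v) := fun v => by simp [Q, add_eq_zero_iff_eq_neg]
  have hcompl : IsCompl P Q := by
    refine IsCompl.of_eq ((Submodule.eq_bot_iff _).2 fun v hv => ?_) (eq_top_iff.2 fun v _ => ?_)
    · have h : (2 * c) • v = 0 := by
        rw [mul_smul, two_smul]
        conv_lhs => arg 1; rw [← (hP v).1 hv.1]
        rw [(hQ v).1 hv.2, neg_add_cancel]
      exact (smul_eq_zero.1 h).resolve_left (mul_ne_zero h2 hc)
    · have hc2 : (2 * c) ≠ 0 := mul_ne_zero h2 hc
      have e : v = (2 * c)⁻¹ • (T v + c • v) + (2 * c)⁻¹ • (c • v - T v) := by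
        rw [← smul_add, show T v + c • v + (c • v - T v) = (2 * c) • v by module, inv_smul_smul₀ hc2]
      rw [e]
      refine Submodule.add_mem_sup (P.smul_mem _ ((hP _).2 ?_)) (Q.smul_mem _ ((hQ _).2 ?_))
      · rw [map_add, map_smul, hT]; module
      · rw [map_sub, map_smul, hT]; module
  let b := ((Module.finBasis F P).prod (Module.finBasis F Q)).map (Submodule.prodEquivOfIsCompl P Q hcompl)
  refine ⟨_, inferInstance, b, id, rfl, fun i => ?_⟩
  rcases i with i | i
  · exact ⟨c, by rw [id]; exact (hP _).1 (by simp [b])⟩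
  · exact ⟨-c, by rw [id, neg_smul]; exact (hQ _).1 (by simp [b])⟩

lemma monomial_two (h2 : (2 : F) = 0) {T : Module.End F V} {c : F} (hc : c ≠ 0) (hT : ∀ v, T (T v) = (c * c) • v) :
    Monomial T := by
  let N : Module.End F V := T + c • 1
  have hN : ∀ v, N v = T v + c • v := fun v => rfl
  have hNN : ∀ v, N (N v) = 0 := fun v => by
    rw [hN, hN, map_add, map_smul, hT]
    linear_combination (norm := module) h2 • (c • T v + (c * c) • v)
  obtain ⟨W, hW⟩ := (LinearMap.ker N).exists_isCompl
  let R : Submodule F (LinearMap.ker N) := (LinearMap.range N).comap (LinearMap.ker N).subtype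
  obtain ⟨C, hC⟩ := R.exists_isCompl
  let u := Module.finBasis F W
  let w := Module.finBasis F C
  let vec : (Fin (finrank F W) ⊕ Fin (finrank F W)) ⊕ Fin (finrank F C) → V :=
    Sum.elim (Sum.elim (fun i => (u i : V)) (fun i => T (u i : V))) (fun i => ((w i : LinearMap.ker N) : V))
  set S := Submodule.span F (Set.range vec)
  have hWS : W ≤ S := fun x hx => by
    rw [show x = ((∑ i, u.repr ⟨x, hx⟩ i • u i : W) : V) by rw [u.sum_repr], Submodule.coe_sum]
    exact S.sum_mem fun i _ => S.smul_mem _ (Submodule.subset_span ⟨.inl (.inl i), rfl⟩)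
  have hTW : ∀ x ∈ W, T x ∈ S := fun x hx => by
    rw [show x = ((∑ i, u.repr ⟨x, hx⟩ i • u i : W) : V) by rw [u.sum_repr], Submodule.coe_sum, map_sum]
    exact S.sum_mem fun i _ => by
      rw [Submodule.coe_smul, map_smul]; exact S.smul_mem _ (Submodule.subset_span ⟨.inl (.inr i), rfl⟩)
  have hRS : LinearMap.range N ≤ S := by
    rintro _ ⟨x, rfl⟩
    obtain ⟨p, hp, q, hq, rfl⟩ := Submodule.mem_sup.1 (hW.sup_eq_top.ge (Submodule.mem_top (x := x)))
    rw [map_add, LinearMap.mem_ker.1 hp, zero_add, hN]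
    exact S.add_mem (hTW q hq) (S.smul_mem _ (hWS hq))
  have htop : ⊤ ≤ S := fun x _ => by
    obtain ⟨p, hp, q, hq, rfl⟩ := Submodule.mem_sup.1 (hW.sup_eq_top.ge (Submodule.mem_top (x := x)))
    refine S.add_mem ?_ (hWS hq)
    obtain ⟨r, hr, d, hd, e⟩ := Submodule.mem_sup.1 (hC.sup_eq_top.ge (Submodule.mem_top (x := (⟨p, hp⟩ : LinearMap.ker N))))
    rw [show p = (r : V) + (d : V) from (congrArg Subtype.val e).symm]
    refine S.add_mem (hRS hr) ?_
    rw [show (d : V) = (((∑ i, w.repr ⟨d, hd⟩ i • w i : C) : LinearMap.ker N) : V) by rw [w.sum_repr], Submodule.coe_sum,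
      Submodule.coe_sum]
    exact S.sum_mem fun i _ => S.smul_mem _ (Submodule.subset_span ⟨.inr i, rfl⟩)
  have hcard : Fintype.card ((Fin (finrank F W) ⊕ Fin (finrank F W)) ⊕ Fin (finrank F C)) = finrank F V := by
    rw [Fintype.card_sum, Fintype.card_sum, Fintype.card_fin, Fintype.card_fin]
    have h1 := Submodule.finrank_add_eq_of_isCompl hW
    have h2' := Submodule.finrank_add_eq_of_isCompl hC
    have h3 : finrank F R = finrank F (LinearMap.range N) :=
      (Submodule.comapSubtypeEquivOfLe (show LinearMap.range N ≤ LinearMap.ker N by rintro _ ⟨y, rfl⟩; exact hNN y)).finrank_eq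
    have h4 := N.finrank_range_add_finrank_ker
    omega
  have hli := linearIndependent_of_top_le_span_of_card_eq_finrank htop hcard
  refine ⟨_, inferInstance, Basis.mk hli htop, Sum.map Sum.swap id, funext fun i => by rcases i with (i | i) | i <;> rfl, fun i => ?_⟩
  rcases i with (i | i) | i
  · exact ⟨1, by simp [vec]⟩
  · exact ⟨c * c, by simp [vec, hT]⟩
  · refine ⟨c, ?_⟩
    simp only [Basis.coe_mk, Sum.map_inr, id, vec, Sum.elim_inr]
    have := LinearMap.mem_ker.1 ((w i : LinearMap.ker N)).2
    rw [hN] at this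
    linear_combination (norm := module) this - h2 • (c • ((w i : LinearMap.ker N) : V))

end

/-- Involutions of PSL_n(q) and imprimitive subgroups. Here `T = PSL_n(F)` for a field `F` with `q = p^f` elements (`n ≥ 2`, `(n, q) ≠ (2, 2), (2, 3)`), `n = a·t` with `t ≥ 2`, and Ω is the set of direct-sum decompositions of `F^n` into `t` subspaces of dimension `a` (unordered; their number is the number of ordered ones divided by `t!`), whose stabilizers are the imprimitive subgroups of type GL_a(q) ≀ S_t (maximal except in some small cases; maximality is not assumed); an element of `T` of prime order `r` (a matrix `x` of determinant 1 with `x^r` scalar, `x` not scalar) fixes a point of Ω when it permutes the summands of some such decomposition. If the number of such decompositions is even, then every involution of `T` stabilizes one of them (the action is 2-elusive). -/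
theorem result {F : Type*} [Field F] [Fintype F] {p : ℕ} [Fact p.Prime] [CharP F p] {q : ℕ} (hq : Fintype.card F = q)
    (n a t : ℕ) (hn : 2 ≤ n) (hT : (n, q) ≠ (2, 2) ∧ (n, q) ≠ (2, 3)) (hat : n = a * t) (ha : 1 ≤ a) (ht : 2 ≤ t)
    (hΩ : 2 ∣ Nat.card {D : Fin t → Submodule F (Fin n → F) // Cfsg.Geo.IsMDecomposition a D} / Nat.factorial t)
    (x : Matrix.SpecialLinearGroup (Fin n) F)
    (hx1 : ∃ z : F, ((x ^ 2 : Matrix.SpecialLinearGroup (Fin n) F) : Matrix (Fin n) (Fin n) F) = z • (1 : Matrix (Fin n) (Fin n) F))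
    (hx2 : ∀ z : F, (x : Matrix (Fin n) (Fin n) F) ≠ z • (1 : Matrix (Fin n) (Fin n) F)) :
    ∃ D : Fin t → Submodule F (Fin n → F), Cfsg.Geo.IsMDecomposition a D ∧
        ∃ σ : Equiv.Perm (Fin t), ∀ j, (D j).map (Matrix.toLin' (x : Matrix (Fin n) (Fin n) F)) = D (σ j) := by
  classical
  haveI : Nonempty (Fin n) := ⟨⟨0, by omega⟩⟩
  obtain ⟨z, hz⟩ := hx1
  set T : Module.End F (Fin n → F) := Matrix.toLin' (x : Matrix (Fin n) (Fin n) F)
  have hTT : ∀ v, T (T v) = z • v := fun v => by
    have h := congrArg (fun M => Matrix.toLin' M v) hz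
    simpa [pow_two, T] using h
  have hmon : Monomial T := by
    by_cases hsq : ∃ c : F, c * c = z
    · obtain ⟨c, rfl⟩ := hsq
      have hc : c ≠ 0 := by
        rintro rfl
        have h0 := congrArg Matrix.det hz
        rw [Matrix.SpecialLinearGroup.det_coe, mul_zero, zero_smul, Matrix.det_zero] at h0
        exact one_ne_zero h0
      by_cases h2 : (2 : F) = 0
      · exact monomial_two h2 hc hTT
      · exact monomial_odd h2 hc hTT
    · push Not at hsq
      exact monomial_nonsquare hTT hsq
  obtain ⟨ι, _, b, π, hπ, hb⟩ := hmon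
  have hinv : Function.Involutive π := congrFun hπ
  have hcard : Fintype.card ι = t * a := by
    rw [← Module.finrank_eq_card_basis b, Module.finrank_fin_fun, hat, mul_comm]
  obtain ⟨e, he⟩ := exists_labels hinv.toPerm (Equiv.ext hinv) a t hcard
  let D : Fin t → Submodule F (Fin n → F) := fun j => Submodule.span F (b '' {i | (e i).1 = j})
  let τ : Fin t → Fin t := fun j => (e (π (e.symm (j, ⟨0, ha⟩)))).1
  have hτ : ∀ i, (e (π i)).1 = τ (e i).1 := fun i => he i _ (by simp)
  have hτ2 : Function.Involutive τ := fun j => by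
    have h := hτ (π (e.symm (j, ⟨0, ha⟩)))
    rw [hinv] at h
    simpa using h.symm
  have hmap : ∀ j, (D j).map T ≤ D (τ j) := fun j => by
    rw [Submodule.map_span, Submodule.span_le]
    rintro _ ⟨_, ⟨i, rfl, rfl⟩, rfl⟩
    obtain ⟨c, hc⟩ := hb i
    rw [SetLike.mem_coe, hc]
    exact (D _).smul_mem c (Submodule.subset_span ⟨π i, hτ i, rfl⟩)
  have hrank : ∀ j, Module.finrank F (D j) = a := fun j => by
    have h := finrank_span_eq_card (b := fun k : Fin a => b (e.symm (j, k)))
      (b.linearIndependent.comp _ (e.symm.injective.comp (Prod.mk_right_injective j)))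
    rw [Fintype.card_fin] at h
    have hset : b '' {i | (e i).1 = j} = Set.range fun k : Fin a => b (e.symm (j, k)) := by
      ext v
      constructor
      · rintro ⟨i, rfl, rfl⟩; exact ⟨(e i).2, by simp⟩
      · rintro ⟨k, rfl⟩; exact ⟨_, by simp, rfl⟩
    show Module.finrank F (Submodule.span F _) = a
    rw [hset, h]
  refine ⟨D, ⟨ht, by omega, hrank, ?_, ?_⟩, hτ2.toPerm, fun j => ?_⟩
  · rw [iSupIndep_def]
    intro j
    have hle : ⨆ (k) (_ : k ≠ j), D k ≤ Submodule.span F (b '' {i | (e i).1 ≠ j}) :=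
      iSup₂_le fun k hk => Submodule.span_mono (Set.image_mono fun i hi => by simp only [Set.mem_ofPred_eq] at hi ⊢; rw [hi]; exact hk)
    have hd : Disjoint {i | (e i).1 = j} {i | (e i).1 ≠ j} := Set.disjoint_left.2 fun i h1 h2 => h2 h1
    exact (b.linearIndependent.disjoint_span_image hd).mono_right hle
  · rw [eq_top_iff, ← b.span_eq, Submodule.span_le]
    rintro _ ⟨i, rfl⟩
    exact Submodule.mem_iSup_of_mem (e i).1 (Submodule.subset_span ⟨i, rfl, rfl⟩)
  · refine Submodule.eq_of_le_of_finrank_eq (hmap j) ?_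
    have hinjT : Function.Injective T := by
      rw [← LinearMap.ker_eq_bot]
      refine (Submodule.eq_bot_iff _).2 fun v hv => ?_
      have h0 : z • v = 0 := by rw [← hTT, LinearMap.mem_ker.1 hv, map_zero]
      refine (smul_eq_zero.1 h0).resolve_left fun hz0 => ?_
      have h1 := congrArg Matrix.det hz
      rw [Matrix.SpecialLinearGroup.det_coe, hz0, zero_smul, Matrix.det_zero] at h1
      exact one_ne_zero h1
    rw [← LinearEquiv.finrank_eq (Submodule.equivMapOfInjective T hinjT (D j)), hrank, hrank]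

end Cfsg.Agent.S5957
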