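import Cfsg.Statements.S5958
import Cfsg.Agent.Classical.Elusive.Block
import Cfsg.Agent.Classical.Elusive.Imprimitive

set_option autoImplicit false

open Cfsg.Agent

namespace Cfsg.Agent.S5958

/-- Elements of odd prime order of PSL_n(q) and imprimitive subgroups. Here `T = PSL_n(F)` for a field `F` with `q = p^f` elements (`n ≥ 2`, `(n, q) ≠ (2, 2), (2, 3)`), `n = a·t` with `t ≥ 2`, and Ω is the set of direct-sum decompositions of `F^n` into `t` subspaces of dimension `a` (unordered; their number is the number of ordered ones divided by `t!`), whose stabilizers are the imprimitive subgroups of type GL_a(q) ≀ S_t (maximal except in some small cases; maximality is not assumed); an element of `T` of prime order `r` (a matrix `x` of determinant 1 with `x^r` scalar, `x` not scalar) fixes a point of Ω when it permutes the summands of some such decomposition. Let `r ≠ p` be an odd prime dividing the number of such decompositions, let `c` be the multiplicative order of `q` modulo `r`, and write `k = n mod c`, `ℓ = a mod c`. Then every element of `T` of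 order `r` stabilizes such a decomposition if and only if either `a = 1`, `c = r − 1 > 1` and `n ≤ k·r`, or `c ≤ a` and `k = t·ℓ`. -/
theorem result {F : Type*} [Field F] [Fintype F] {p : ℕ} [Fact p.Prime] [CharP F p] {q : ℕ} (hq : Fintype.card F = q)
    (n a t : ℕ) (hn : 2 ≤ n) (hT : (n, q) ≠ (2, 2) ∧ (n, q) ≠ (2, 3)) (hat : n = a * t) (ha : 1 ≤ a) (ht : 2 ≤ t)
    (r : ℕ) [Fact r.Prime] (hr2 : r ≠ 2) (hrp : r ≠ p) (hΩ : r ∣ Nat.card {D : Fin t → Submodule F (Fin n → F) // Cfsg.Geo.IsMDecomposition a D} / Nat.factorial t)
    (c : ℕ) (hc : c = orderOf (q : ZMod r)) :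
    (∀ x : Matrix.SpecialLinearGroup (Fin n) F,
      (∃ z : F, ((x ^ r : Matrix.SpecialLinearGroup (Fin n) F) : Matrix (Fin n) (Fin n) F) = z • (1 : Matrix (Fin n) (Fin n) F)) →
      (∀ z : F, (x : Matrix (Fin n) (Fin n) F) ≠ z • (1 : Matrix (Fin n) (Fin n) F)) →
      ∃ D : Fin t → Submodule F (Fin n → F), Cfsg.Geo.IsMDecomposition a D ∧
        ∃ σ : Equiv.Perm (Fin t), ∀ j, (D j).map (Matrix.toLin' (x : Matrix (Fin n) (Fin n) F)) = D (σ j)) ↔
    ((a = 1 ∧ 1 < c ∧ c = r - 1 ∧ n ≤ (n % c) * r) ∨ (c ≤ a ∧ n % c = t * (a % c))) := by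
  classical
  subst hq hc
  have hr1 := (Fact.out : r.Prime)
  have hr : (r : F) ≠ 0 := fun h => hrp ((Nat.prime_dvd_prime_iff_eq (Fact.out : p.Prime) hr1).1
    ((CharP.cast_eq_zero_iff F p r).1 h)).symm
  have hrq : ¬ r ∣ Fintype.card F := fun hd => by
    obtain ⟨k, hk, hk'⟩ := FiniteField.card F p
    rw [hk'] at hd
    exact hrp ((Nat.prime_dvd_prime_iff_eq hr1 hk).1 (hr1.dvd_of_dvd_pow hd))
  have hcn := Classical.Elusive.exists_mult_of_dvd_decomps hat ha ht hΩ hrq
  set c := orderOf (Fintype.card F : ZMod r) with hcdef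
  have hc0 : 0 < c := Classical.Elusive.order_pos_of_cast hr
  have hcr : c ≤ r - 1 := by
    refine Nat.le_of_dvd (by have := hr1.two_le; omega) (ZMod.orderOf_dvd_card_sub_one ?_)
    rwa [Ne, ZMod.natCast_eq_zero_iff]
  constructor
  · intro H
    by_contra hne
    rw [not_or] at hne
    obtain ⟨hne1, hne2⟩ := hne
    have hc1 : c ≠ 1 := fun h => hne2 ⟨by omega, by rw [h, Nat.mod_one, Nat.mod_one, mul_zero]⟩
    have hmodt : (t * (a % c)) % c = n % c := by
      rw [hat, mul_comm a t, Nat.mul_mod, Nat.mod_mod, ← Nat.mul_mod]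
    obtain ⟨k, hk1, hkn, hk⟩ : ∃ k, 1 ≤ k ∧ c * k ≤ n ∧
        ((c ≤ a ∨ (a = 1 ∧ c = r - 1)) → n - c * k = n % c) ∧ (¬ (c ≤ a ∨ (a = 1 ∧ c = r - 1)) → k = 1) := by
      by_cases h : c ≤ a ∨ (a = 1 ∧ c = r - 1)
      · refine ⟨n / c, (Nat.one_le_div_iff hc0).2 hcn, Nat.mul_div_le n c, fun _ => ?_, fun h' => absurd h h'⟩
        have := Nat.div_add_mod n c
        omega
      · exact ⟨1, le_rfl, by rwa [mul_one], fun h' => absurd h' h, fun _ => rfl⟩
    obtain ⟨x, hx, heig, hns⟩ := Classical.Elusive.exists_block (n := n) hr hc1 hk1 hkn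
    obtain ⟨D, hD, σ, hσ⟩ := H x ⟨1, hx⟩ hns
    have hpow := Classical.Elusive.toLin'_pow_smul x hx
    have hpow' : (Matrix.toLin' (x : Matrix (Fin n) (Fin n) F)) ^ r =
        (1 : F) ^ r • (1 : Module.End F (Fin n → F)) := by rw [one_pow]; exact hpow
    rw [← hcdef] at heig
    set φ := Matrix.toLin' (x : Matrix (Fin n) (Fin n) F) with hφ
    set E := Module.End.eigenspace φ (1 : F) with hE
    have hbot : ∀ j, D j ≠ ⊥ := fun j hb => by
      have := hD.finrank_eq j
      rw [hb, finrank_bot] at this
      omega
    have hσr := Classical.Elusive.perm_pow_eq_one hD.indep hbot hσ (one_ne_zero (α := F)) hpow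
    have hfixd : ∀ j, σ j = j → a % c ≤ Module.finrank F ↥(D j ⊓ E) ∧
        (a < c → D j ≤ E) := by
      intro j hj
      obtain ⟨b, i, hsum, hb⟩ := Classical.Elusive.exists_finrank_decomp hr (one_ne_zero (α := F)) hpow'
        (D j) (le_of_eq (by rw [hσ j, hj]))
      rw [hD.finrank_eq j, ← hcdef] at hsum
      rw [← hE] at hb
      refine ⟨le_trans ?_ hb, fun hac => ?_⟩
      · rw [hsum, Nat.add_mul_mod_self_left]
        exact Nat.mod_le _ _
      · have hi : i = 0 := by
          by_contra h0
          have := Nat.le_mul_of_pos_right c (Nat.pos_of_ne_zero h0)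
          omega
        subst hi
        have heq : D j ⊓ E = D j := Submodule.eq_of_le_of_finrank_le inf_le_left (by
          rw [hD.finrank_eq j]
          omega)
        exact inf_eq_left.1 heq
    by_cases hca : c ≤ a
    · have hlt : n % c < t * (a % c) := by
        have hne' : n % c ≠ t * (a % c) := fun h => hne2 ⟨hca, h⟩
        have := Nat.mod_le (t * (a % c)) c
        omega
      have he := (hk.1 (Or.inl hca))
      by_cases hfix : ∀ j, σ j = j
      · have h1 : ∑ _j : Fin t, a % c ≤ ∑ j, Module.finrank F ↥(D j ⊓ E) :=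
          Finset.sum_le_sum fun j _ => (hfixd j (hfix j)).1
        have h2 := Classical.Elusive.sum_le_finrank_eigen (φ := φ) (d := (1 : F)) hD.indep hD.iSup_eq_top
        rw [Finset.sum_const, Finset.card_univ, Fintype.card_fin, smul_eq_mul] at h1
        rw [← hE, heig] at h2
        omega
      · simp only [not_forall] at hfix
        obtain ⟨j, hj⟩ := hfix
        have h2 := Classical.Elusive.le_finrank_eigen_of_moved hD.indep hD.iSup_eq_top hσ hr1 hσr
          (one_ne_zero (α := F)) hpow' hj
        rw [hD.finrank_eq j, ← hE, heig, he] at h2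
        have := Nat.mod_lt n hc0
        omega
    · have hac : a < c := Nat.lt_of_not_le hca
      by_cases hA : a = 1 ∧ c = r - 1
      · have h2 := Classical.Elusive.card_le_mul_eigen hD.indep hD.iSup_eq_top hbot hσ hr1 hσr
          (one_ne_zero (α := F)) hr (fun j hj => (hfixd j hj).2 hac) hpow'
        rw [Fintype.card_fin, ← hE, heig, hk.1 (Or.inr hA)] at h2
        refine hne1 ⟨hA.1, by omega, hA.2, ?_⟩
        rw [hA.1, one_mul] at hat
        rw [mul_comm]
        omega
      · obtain rfl : k = 1 := hk.2 (by tauto)
        by_cases hfix : ∀ j, σ j = j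
        · have h1 : (⊤ : Submodule F (Fin n → F)) ≤ E := by
            rw [← hD.iSup_eq_top]
            exact iSup_le fun j => (hfixd j (hfix j)).2 hac
          have h2 := Submodule.finrank_mono h1
          rw [finrank_top, Module.finrank_fin_fun, heig] at h2
          omega
        · simp only [not_forall] at hfix
          obtain ⟨j, hj⟩ := hfix
          have hinj : Function.Injective φ := fun u v huv =>
            Matrix.mulVec_injective_of_isUnit ((Matrix.isUnit_iff_isUnit_det _).2 (by rw [x.2]; exact isUnit_one)) huv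
          have h2 := Classical.Elusive.mul_le_range_of_moved (φ := φ) (d := (1 : F)) hD.indep hD.iSup_eq_top
            hσ hr1 hσr one_ne_zero hinj hj
          have h3 := LinearMap.finrank_range_add_finrank_ker (φ - (1 : F) • 1)
          have h4 : LinearMap.ker (φ - (1 : F) • 1) = E := by
            ext v
            rw [LinearMap.mem_ker, hE, Module.End.mem_eigenspace_iff]
            simp [sub_eq_zero]
          rw [h4, heig, Module.finrank_fin_fun] at h3
          rw [hD.finrank_eq j] at h2
          have h5 : (r - 1) * 1 ≤ (r - 1) * a := Nat.mul_le_mul_left _ ha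
          rcases Nat.lt_or_ge a 2 with h6 | h6
          · exact hA ⟨by omega, by omega⟩
          · have h7 : (r - 1) * 2 ≤ (r - 1) * a := Nat.mul_le_mul_left _ h6
            omega
  · rintro hR x ⟨z, hx⟩ -
    have hz := Classical.Elusive.scalar_ne_zero (by omega) x hx
    obtain ⟨ι, _, s, hs, hirr, hdvd, Φ, hΦ⟩ :=
      Classical.Elusive.exists_split hr hz (Classical.Elusive.toLin'_pow_smul x hx)
    have hsum : ∑ i, (s i).natDegree = n := by
      rw [← Classical.Elusive.finrank_eq_sum Φ hs, Module.finrank_fin_fun]
    have hinj : Function.Injective (Matrix.toLin' (x : Matrix (Fin n) (Fin n) F)) := fun u v huv =>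
      Matrix.mulVec_injective_of_isUnit ((Matrix.isUnit_iff_isUnit_det _).2 (by rw [x.2]; exact isUnit_one)) huv
    -- the case of a partition into invariant summands
    have bypart : ∀ D, (∀ i, (s i).natDegree = 1 ∨ (s i).natDegree = D) →
        t * (a % D) ≤ n % D → ∃ E : Fin t → Submodule F (Fin n → F), Cfsg.Geo.IsMDecomposition a E ∧
          ∃ σ : Equiv.Perm (Fin t), ∀ j, (E j).map (Matrix.toLin' (x : Matrix (Fin n) (Fin n) F)) = E (σ j) := by
      intro D hD hmod
      have hA : n % D ≤ (Finset.univ.filter fun i => (s i).natDegree = 1).card := by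
        have h1 : ∑ i, (s i).natDegree = (Finset.univ.filter fun i => (s i).natDegree = 1).card +
            D * (Finset.univ.filter fun i => ¬ (s i).natDegree = 1).card := by
          rw [← Finset.sum_filter_add_sum_filter_not Finset.univ (fun i => (s i).natDegree = 1)]
          congr 1
          · rw [Finset.sum_congr rfl fun i hi => (Finset.mem_filter.1 hi).2, Finset.sum_const,
              smul_eq_mul, mul_one]
          · rw [Finset.sum_congr rfl fun i hi => (hD i).resolve_left (Finset.mem_filter.1 hi).2,
              Finset.sum_const, smul_eq_mul, mul_comm]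
        rw [hsum] at h1
        rw [h1, Nat.add_mul_mod_self_left]
        exact Nat.mod_le _ _
      obtain ⟨f, hf, hfs⟩ := Classical.Elusive.exists_partition (a := a) hD
        (fun i => (hirr i).natDegree_pos.ne') t Finset.univ (by rw [hsum, hat, mul_comm]) (hmod.trans hA)
      refine Classical.Elusive.exists_decomp_of_pieces hs hinj hΦ ht (by omega)
        (fun i => ⟨f i, hf i (Finset.mem_univ i)⟩) fun k => ?_
      rw [← hfs k k.2]
      exact Finset.sum_congr (Finset.filter_congr fun i _ => by simp [Fin.ext_iff]) fun _ _ => rfl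
    by_cases hp : ∃ d : F, d ^ r = z
    · obtain ⟨d, rfl⟩ := hp
      have hd : d ≠ 0 := fun h0 => hz (by rw [h0, zero_pow hr1.ne_zero])
      have hdeg : ∀ i, s i ≠ Polynomial.X - Polynomial.C d → (s i).natDegree = c := fun i hi =>
        Classical.Elusive.natDegree_factor (hs i) (hirr i) hd (hdvd i) hi
      have hdeg' : ∀ i, (s i).natDegree = 1 ∨ (s i).natDegree = c := by
        intro i
        by_cases hi : s i = Polynomial.X - Polynomial.C d
        · exact Or.inl (by rw [hi, Polynomial.natDegree_X_sub_C])
        · exact Or.inr (hdeg i hi)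
      rcases hR with ⟨rfl, hc1, hcr', hle⟩ | ⟨-, h2⟩
      swap
      · exact bypart c hdeg' h2.ge
      rw [one_mul] at hat
      obtain rfl : n = t := hat
      -- the large factor
      set φ := Matrix.toLin' (x : Matrix (Fin n) (Fin n) F) with hφ
      obtain ⟨g, hg⟩ : (Polynomial.X - Polynomial.C d : Polynomial F) ∣
          Polynomial.X ^ r - Polynomial.C (d ^ r) :=
        Polynomial.dvd_iff_isRoot.2 (by simp [Polynomial.IsRoot])
      have hgm : g.Monic := (Polynomial.monic_X_sub_C d).of_mul_monic_left
        (hg ▸ Polynomial.monic_X_pow_sub_C (d ^ r) hr1.ne_zero)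
      have hgdeg : g.natDegree = c := by
        have := congrArg Polynomial.natDegree hg
        rw [Polynomial.natDegree_X_pow_sub_C, (Polynomial.monic_X_sub_C d).natDegree_mul hgm,
          Polynomial.natDegree_X_sub_C] at this
        omega
      have hsg : ∀ i, s i ≠ Polynomial.X - Polynomial.C d → s i = g := by
        intro i hi
        have h1 : s i ∣ g := by
          rcases (hirr i).prime.dvd_or_dvd (hg ▸ hdvd i) with h | h
          · exact absurd (Polynomial.eq_of_monic_of_associated (hs i) (Polynomial.monic_X_sub_C d)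
              ((hirr i).associated_of_dvd (Polynomial.irreducible_X_sub_C d) h)) hi
          · exact h
        exact (Polynomial.eq_of_monic_of_dvd_of_natDegree_le (hs i) hgm h1 (by rw [hgdeg, hdeg i hi])).symm
      set A := Finset.univ.filter fun i => s i = Polynomial.X - Polynomial.C d with hAdef
      set B := Finset.univ.filter fun i => ¬ s i = Polynomial.X - Polynomial.C d with hBdef
      have htot : A.card + c * B.card = n := by
        rw [← hsum, ← Finset.sum_filter_add_sum_filter_not Finset.univ
          (fun i => s i = Polynomial.X - Polynomial.C d)]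
        congr 1
        · rw [Finset.sum_congr rfl fun i hi => by rw [(Finset.mem_filter.1 hi).2, Polynomial.natDegree_X_sub_C],
            Finset.sum_const, smul_eq_mul, mul_one]
        · rw [Finset.sum_congr rfl fun i hi => hdeg i (Finset.mem_filter.1 hi).2, Finset.sum_const,
            smul_eq_mul, mul_comm]
      have hAB : B.card ≤ A.card := by
        have h1 : n % c ≤ A.card := by
          rw [← htot, Nat.add_mul_mod_self_left]
          exact Nat.mod_le _ _
        have h2 : (n % c) * r ≤ A.card * r := Nat.mul_le_mul_right r h1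
        have h3 : n ≤ A.card * r := hle.trans h2
        have hce : c + 1 = r := by omega
        rw [← hce, Nat.mul_add, mul_one] at h3
        by_contra h4
        have h5 : c * (A.card + 1) ≤ c * B.card := Nat.mul_le_mul_left c (by omega)
        rw [Nat.mul_add, mul_one, mul_comm c A.card] at h5
        omega
      set ι' := ULift.{u_1} (Fin B.card ⊕ Fin (A.card - B.card))
      set N : ι' → ℕ := fun i => Sum.elim (fun _ => r) (fun _ => 1) i.down with hN
      set w : ι' → F := fun i => Sum.elim (fun _ => d ^ r) (fun _ => d) i.down with hw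
      set s' : ι' → Polynomial F := fun i => Polynomial.X ^ N i - Polynomial.C (w i) with hs'def
      have hN0 : ∀ i, 0 < N i := by
        rintro ⟨i | i⟩
        · exact hr1.pos
        · exact Nat.one_pos
      have hs'm : ∀ i, (s' i).Monic := fun i => Polynomial.monic_X_pow_sub_C _ (hN0 i).ne'
      haveI : ∀ i, Module.Finite F (AdjoinRoot (s' i)) := fun i => MatModule.finite_adjoinRoot _ (hs'm i)
      have hd' : Module.finrank F (Fin n → F) = Module.finrank F (∀ i, AdjoinRoot (s' i)) := by
        rw [Module.finrank_fin_fun, Module.finrank_pi_fintype,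
          Finset.sum_congr rfl fun i _ => (Classical.Elusive.finrank_adjoinRoot (hs'm i).ne_zero).trans
            (Polynomial.natDegree_X_pow_sub_C), ← Equiv.ulift.symm.sum_comp, Fintype.sum_sum_type]
        simp only [hN, Equiv.ulift_symm_apply, Sum.elim_inl, Sum.elim_inr, Finset.sum_const,
          Finset.card_univ, Fintype.card_fin, smul_eq_mul, mul_one]
        have hce : c + 1 = r := by omega
        rw [← hce, Nat.mul_add, mul_one, mul_comm B.card c]
        omega
      set Φ' : (Fin n → F) ≃ₗ[F] ∀ i, AdjoinRoot (s' i) := LinearEquiv.ofFinrankEq _ _ hd'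
      set ψ := Φ'.symm.conj (MatModule.rootMul s') with hψ
      have hΨ : ∀ v, Φ' (ψ v) = MatModule.rootMul s' (Φ' v) := fun v => Φ'.apply_symm_apply _
      have hpr : φ.charpoly = ψ.charpoly := by
        rw [Classical.Elusive.charpoly_eq hΦ hs, Classical.Elusive.charpoly_eq hΨ hs'm,
          ← Equiv.ulift.symm.prod_comp, Fintype.prod_sum_type,
          ← Finset.prod_filter_mul_prod_filter_not Finset.univ
            (fun i => s i = Polynomial.X - Polynomial.C d),
          Finset.prod_congr rfl fun i hi => (Finset.mem_filter.1 hi).2,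
          Finset.prod_congr rfl fun i hi => hsg i (Finset.mem_filter.1 hi).2]
        simp only [hs'def, hN, hw, Equiv.ulift_symm_apply, Sum.elim_inl, Sum.elim_inr, Finset.prod_const,
          Finset.card_univ, Fintype.card_fin, pow_one]
        rw [hg, mul_pow, mul_right_comm, ← pow_add, Nat.add_sub_cancel' hAB]
      have hψz : Polynomial.aeval ψ (Polynomial.X ^ r - Polynomial.C (d ^ r)) = 0 := by
        refine Classical.Elusive.aeval_eq_zero hΨ ?_
        rintro ⟨i | i⟩
        · exact dvd_rfl
        · simp only [hs'def, hN, hw, Sum.elim_inr, pow_one]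
          exact Polynomial.dvd_iff_isRoot.2 (by simp [Polynomial.IsRoot])
      obtain ⟨Θ, hΘ⟩ := MatModule.exists_conj_of_charpoly_eq φ ψ
        (Classical.Elusive.squarefree_pow_sub hr hz)
        (Classical.Elusive.aeval_pow_sub (Classical.Elusive.toLin'_pow_smul x hx))
        (Classical.Elusive.squarefree_pow_sub hr hz) hψz hpr
      obtain ⟨b, hb⟩ := Classical.Elusive.exists_root_basis (φ := φ) (Φ := Θ.trans Φ') hN0 (fun i => rfl)
        (fun v => by rw [LinearEquiv.trans_apply, LinearEquiv.trans_apply, hΘ, hΨ])
      have hcard : Fintype.card (Σ i, Fin (N i)) = n := by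
        rw [← Module.finrank_eq_card_basis b, Module.finrank_fin_fun]
      set e := Fintype.equivFinOfCardEq hcard
      set τ : Equiv.Perm (Σ i, Fin (N i)) := Equiv.sigmaCongrRight fun i => finRotate (N i) with hτ
      refine Classical.Elusive.exists_decomp_of_basis b τ (fun ⟨i, l⟩ => ⟨_, ?_, hb i l⟩) ht Nat.one_pos e
        (e.permCongr τ) (fun q => by simp [Equiv.permCongr_apply]) fun k => ?_
      · split_ifs
        · rcases i with ⟨i | i⟩
          · exact pow_ne_zero r hd
          · exact hd
        · exact one_ne_zero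
      · rw [Nat.card_eq_one_iff_unique]
        exact ⟨⟨fun u v => Subtype.ext (e.injective (u.2.trans v.2.symm))⟩, ⟨⟨e.symm k, e.apply_symm_apply k⟩⟩⟩
    · simp only [not_exists] at hp
      have hs_eq : ∀ i, s i = Polynomial.X ^ r - Polynomial.C z := fun i =>
        Classical.Elusive.factor_eq hp (hs i) (hirr i) (hdvd i)
      have hdeg : ∀ i, (s i).natDegree = r := fun i => by rw [hs_eq i, Polynomial.natDegree_X_pow_sub_C]
      have hn' : n = r * Fintype.card ι := by
        rw [← hsum, Finset.sum_congr rfl fun i _ => hdeg i, Finset.sum_const, Finset.card_univ, smul_eq_mul,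
          mul_comm]
      by_cases hra : r ∣ a
      · exact bypart r (fun i => Or.inr (hdeg i))
          (by rw [Nat.mod_eq_zero_of_dvd hra, mul_zero]; exact Nat.zero_le _)
      obtain ⟨h, rfl⟩ : r ∣ t := (hr1.dvd_mul.1 (hat ▸ Dvd.intro _ hn'.symm : r ∣ a * t)).resolve_left hra
      have hcard : Fintype.card ι = h * a := by
        refine Nat.eq_of_mul_eq_mul_left hr1.pos ?_
        rw [← hn', hat]; ring
      obtain ⟨b, hb⟩ := Classical.Elusive.exists_root_basis (φ := Matrix.toLin' (x : Matrix (Fin n) (Fin n) F))
        (N := fun _ => r) (fun _ => hr1.pos) hs_eq hΦ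
      obtain ⟨e⟩ : Nonempty (ι ≃ Fin h × Fin a) := ⟨Fintype.equivOfCardEq (by simp [hcard])⟩
      set e' : Fin h × Fin r ≃ Fin (r * h) := finProdFinEquiv.trans (finCongr (mul_comm h r))
      set τ : Equiv.Perm (Σ _ : ι, Fin r) := Equiv.sigmaCongrRight fun _ => finRotate r with hτ
      refine Classical.Elusive.exists_decomp_of_basis b τ (fun ⟨i, l⟩ => ⟨_, ?_, hb i l⟩) ht (by omega)
        (fun q => e' ((e q.1).1, q.2)) (e'.permCongr (Equiv.prodCongr (Equiv.refl _) (finRotate r)))
        (fun q => by simp [Equiv.permCongr_apply, hτ]) fun k => ?_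
      · split_ifs
        · exact hz
        · exact one_ne_zero
      · rw [Nat.card_congr (β := Fin a) ?_, Nat.card_eq_fintype_card, Fintype.card_fin]
        exact
          { toFun := fun q => (e q.1.1).2
            invFun := fun l => ⟨⟨e.symm ((e'.symm k).1, l), (e'.symm k).2⟩, by simp⟩
            left_inv := fun q => by
              obtain ⟨⟨i, l⟩, rfl⟩ := q
              simp
            right_inv := fun l => by simp }

end Cfsg.Agent.S5958
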