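import Cfsg.Statements.S5959
import Cfsg.Agent.Classical.Elusive.Linear
import Cfsg.Agent.Classical.Elusive.Jordan
import Cfsg.Agent.Classical.Elusive.Cycle

set_option autoImplicit false

open Cfsg.Agent

namespace Cfsg.Agent.S5959

/-- Elements of order `p` of PSL_n(q) and imprimitive subgroups: a necessary condition. Here `T = PSL_n(F)` for a field `F` with `q = p^f` elements (`n ≥ 2`, `(n, q) ≠ (2, 2), (2, 3)`), `n = a·t` with `t ≥ 2`, and Ω is the set of direct-sum decompositions of `F^n` into `t` subspaces of dimension `a` (unordered; their number is the number of ordered ones divided by `t!`), whose stabilizers are the imprimitive subgroups of type GL_a(q) ≀ S_t (maximal except in some small cases; maximality is not assumed); an element of `T` of prime order `r` (a matrix `x` of determinant 1 with `x^r` scalar, `x` not scalar) fixes a point of Ω when it permutes the summands of some such decomposition. Suppose `p > 2` divides the number of such decompositions. If every element of `T` of order `p` stabilizes such a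 decomposition, then every partition of `n` into parts of size at most `p` in which the part `p` occurs fewer than `a` times contains (as a sub-multiset) a partition of `a`. -/
theorem result {F : Type*} [Field F] [Fintype F] {p : ℕ} [Fact p.Prime] [CharP F p] {q : ℕ} (hq : Fintype.card F = q)
    (n a t : ℕ) (hn : 2 ≤ n) (hT : (n, q) ≠ (2, 2) ∧ (n, q) ≠ (2, 3)) (hat : n = a * t) (ha : 1 ≤ a) (ht : 2 ≤ t)
    (hp : 2 < p) (hΩ : p ∣ Nat.card {D : Fin t → Submodule F (Fin n → F) // Cfsg.Geo.IsMDecomposition a D} / Nat.factorial t)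
    (h : ∀ x : Matrix.SpecialLinearGroup (Fin n) F,
      (∃ z : F, ((x ^ p : Matrix.SpecialLinearGroup (Fin n) F) : Matrix (Fin n) (Fin n) F) = z • (1 : Matrix (Fin n) (Fin n) F)) →
      (∀ z : F, (x : Matrix (Fin n) (Fin n) F) ≠ z • (1 : Matrix (Fin n) (Fin n) F)) →
      ∃ D : Fin t → Submodule F (Fin n → F), Cfsg.Geo.IsMDecomposition a D ∧
        ∃ σ : Equiv.Perm (Fin t), ∀ j, (D j).map (Matrix.toLin' (x : Matrix (Fin n) (Fin n) F)) = D (σ j)) :
    (∀ μ : Multiset ℕ, (∀ b ∈ μ, 0 < b ∧ b ≤ p) → μ.sum = n → μ.count p < a → ∃ ν : Multiset ℕ, ν ≤ μ ∧ ν.sum = a) := by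
  classical
  intro μ hμ hμs hcount
  by_contra hne
  have h0 : (0 : ℕ) ∉ μ := fun h => absurd (hμ 0 h).1 (lt_irrefl 0)
  haveI : Nonempty (Fin n) := ⟨⟨0, by omega⟩⟩
  have han : a ≤ n := by rw [hat]; exact Nat.le_mul_of_pos_right a (by omega)
  obtain ⟨g, hg⟩ := MatModule.exists_gl_hasType (F := F) μ hμs
  have hz := (MatModule.sub_one_pow_eq_zero_iff hg p).2 fun a ha => (hμ a ha).2
  have hgp : g ^ p = 1 := by
    have := (MatModule.toLin'_pow_eq_one_iff g 1 (p := p)).2 (by rwa [pow_one])
    rwa [pow_one] at this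
  have hdet : (g : Matrix (Fin n) (Fin n) F).det = 1 := by
    have h1 : ((g : Matrix (Fin n) (Fin n) F).det - 1) ^ p = 0 := by
      rw [sub_pow_char, one_pow, ← Matrix.det_pow, ← Units.val_pow_eq_pow_val, hgp, Units.val_one,
        Matrix.det_one, sub_self]
    exact sub_eq_zero.1 (eq_zero_of_pow_eq_zero h1)
  obtain ⟨x, hxg⟩ : ∃ x : Matrix.SpecialLinearGroup (Fin n) F, (x : Matrix (Fin n) (Fin n) F) = g :=
    ⟨⟨g, hdet⟩, rfl⟩
  have hx : ((x ^ p : Matrix.SpecialLinearGroup (Fin n) F) : Matrix (Fin n) (Fin n) F) = (1 : F) • 1 := by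
    rw [Matrix.SpecialLinearGroup.coe_pow, one_smul, hxg, ← Units.val_pow_eq_pow_val, hgp, Units.val_one]
  obtain ⟨D, hD, σ, hσ⟩ := h x ⟨1, hx⟩ (by
    intro z hz1
    rw [hxg] at hz1
    have hzr : z ^ p = 1 := by
      have := congrArg Units.val hgp
      rw [Units.val_pow_eq_pow_val, hz1, Units.val_one, _root_.smul_pow, one_pow] at this
      exact smul_left_injective F (one_ne_zero (α := Matrix (Fin n) (Fin n) F))
        (this.trans (one_smul F 1).symm)
    have hz2 : (z - 1) ^ p = 0 := by rw [sub_pow_char, hzr, one_pow, sub_self]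
    rw [sub_eq_zero.1 (eq_zero_of_pow_eq_zero hz2), one_smul] at hz1
    have h1 := (MatModule.sub_one_pow_eq_zero_iff hg 1).1 (by
      rw [hz1, Matrix.toLin'_one, pow_one]; exact sub_self _)
    have hrep : μ = Multiset.replicate μ.card 1 :=
      Multiset.eq_replicate_card.2 fun b hb => le_antisymm (h1 b hb) (hμ b hb).1
    have hcard : μ.card = n := by
      rw [hrep, Multiset.sum_replicate, smul_eq_mul, mul_one] at hμs
      exact hμs
    exact hne ⟨Multiset.replicate a 1, by
      rw [hrep, hcard]; exact (Multiset.replicate_le_replicate 1).2 han, by simp⟩)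
  have hpow := Classical.Elusive.toLin'_pow_smul x hx
  rw [hxg] at hpow hσ
  have hbot : ∀ j, D j ≠ ⊥ := fun j hb => by
    have := hD.finrank_eq j
    rw [hb, finrank_bot] at this
    omega
  have hσp := Classical.Elusive.perm_pow_eq_one hD.indep hbot hσ (one_ne_zero (α := F)) hpow
  by_cases hfix : ∀ j, σ j = j
  · let j : Fin t := ⟨0, by omega⟩
    have hW : (⨆ (k : Fin t) (_ : k ≠ j), D k).map (Matrix.toLin' (g : Matrix (Fin n) (Fin n) F)) ≤
        ⨆ (k : Fin t) (_ : k ≠ j), D k := by
      simp only [Submodule.map_iSup, hσ, hfix]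
      exact le_rfl
    obtain ⟨ν, hν, hs⟩ := Classical.Elusive.exists_le_of_decomp hg h0
      (Classical.Elusive.isCompl_rest hD.indep hD.iSup_eq_top j)
      (le_of_eq (by rw [hσ j, hfix j])) hW
    exact hne ⟨ν, hν, hs.trans (hD.finrank_eq j)⟩
  · simp only [not_forall] at hfix
    obtain ⟨j, hj⟩ := hfix
    have hle := Classical.Elusive.le_finrank_range_of_moved hD.indep hD.iSup_eq_top hσ hσp hj
    rw [hD.finrank_eq j, MatModule.finrank_range_sub_one_pow hg] at hle
    have hcp : ∀ m : Multiset ℕ, (∀ b ∈ m, b ≤ p) → (m.map fun e => e - (p - 1)).sum = m.count p := by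
      intro m
      induction m using Multiset.induction with
      | empty => simp
      | cons b m ih =>
        intro hm
        rw [Multiset.map_cons, Multiset.sum_cons, ih (fun c hc => hm c (Multiset.mem_cons_of_mem hc)),
          Multiset.count_cons]
        have := hm b (Multiset.mem_cons_self b m)
        split_ifs with he <;> omega
    rw [hcp μ fun b hb => (hμ b hb).2] at hle
    omega

end Cfsg.Agent.S5959
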