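import Cfsg.Statements.S5960
import Cfsg.Agent.Classical.SympElem.SwapPair
import Cfsg.Agent.Classical.SympElem.Scalar

set_option autoImplicit false
open scoped MatrixGroups
open Cfsg
open Cfsg.Agent

namespace Cfsg.Agent.S5960

/-- Involutions of PSp_n(q) and imprimitive subgroups. Here `T = PSp_n(q)`, `n = 2d ≥ 4`, `(n, q) ≠ (4, 2)`, realised through the symplectic matrices over the field `F` with `q` elements and the standard alternating form; `n = a·t` with `a` even and `t ≥ 2`, and Ω is the (nonempty) set of orthogonal decompositions of `F^n` into `t` nondegenerate subspaces of dimension `a` (unordered; counted as ordered ones divided by `t!`), whose stabilizers are the imprimitive subgroups of type Sp_a(q) ≀ S_t (maximality is not assumed); an element of `T` of prime order `r` (a symplectic matrix `x` with `x^r` scalar, `x` not scalar) fixes a point of Ω when it permutes the summands of some such decomposition. If the number of such decompositions is even, then every involution of `T` stabilizes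 one of them (the action is 2-elusive). -/
theorem result {F : Type*} [Field F] [Fintype F] {p : ℕ} [Fact p.Prime] [CharP F p] {q : ℕ} (hq : Fintype.card F = q)
    (d : ℕ) (hd : 2 ≤ d) (hT : (d, q) ≠ (2, 2))
    (a t : ℕ) (hat : 2 * d = a * t) (ha : 2 ≤ a) (hae : Even a) (ht : 2 ≤ t) (hΩ : 2 ∣ Nat.card {D : Fin t → Submodule F (Fin d ⊕ Fin d → F) // (Cfsg.Geo.IsMDecomposition a D ∧ (∀ j, ∀ u ∈ D j, u ≠ 0 → ∃ v ∈ D j, Cfsg.sympForm d F u v ≠ 0) ∧
          (∀ j j', j ≠ j' → ∀ u ∈ D j, ∀ v ∈ D j', Cfsg.sympForm d F u v = 0))} / Nat.factorial t)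
    (x : ↥(Matrix.symplecticGroup (Fin d) F))
    (hx1 : ∃ z : F, ((x ^ 2 : ↥(Matrix.symplecticGroup (Fin d) F)) : Matrix (Fin d ⊕ Fin d) (Fin d ⊕ Fin d) F) = z • (1 : Matrix (Fin d ⊕ Fin d) (Fin d ⊕ Fin d) F))
    (hx2 : ∀ z : F, (x : Matrix (Fin d ⊕ Fin d) (Fin d ⊕ Fin d) F) ≠ z • (1 : Matrix (Fin d ⊕ Fin d) (Fin d ⊕ Fin d) F)) :
    ∃ D : Fin t → Submodule F (Fin d ⊕ Fin d → F), (Cfsg.Geo.IsMDecomposition a D ∧ (∀ j, ∀ u ∈ D j, u ≠ 0 → ∃ v ∈ D j, Cfsg.sympForm d F u v ≠ 0) ∧
          (∀ j j', j ≠ j' → ∀ u ∈ D j, ∀ v ∈ D j', Cfsg.sympForm d F u v = 0)) ∧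
        ∃ σ : Equiv.Perm (Fin t), ∀ j, (D j).map (Matrix.toLin' (x : Matrix (Fin d ⊕ Fin d) (Fin d ⊕ Fin d) F)) = D (σ j) := by
  classical
  subst hq
  have hd1 : 1 ≤ d := by omega
  obtain ⟨z, hz⟩ := hx1
  obtain ⟨h, rfl⟩ : ∃ h, a = 2 * h := by obtain ⟨k, hk⟩ := hae; exact ⟨k, by omega⟩
  have hG := Classical.SympElem.good_matrix x
  have hfin : Module.finrank F (Fin d ⊕ Fin d → F) = 2 * h * t := by rw [Classical.finrank_symp, hat]
  obtain ⟨D, hD, σ, hσ⟩ : ∃ D : Fin t → Submodule F (Fin d ⊕ Fin d → F),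
      Classical.SympElem.OrthDec (Classical.sympB d F) ⊤ (2 * h) D ∧
        Classical.SympElem.Permuted (Matrix.toLin' x.1) D := by
    refine Classical.SympElem.exists_dec hG (fun s U hU hN hdim => ?_) t ⊤ Classical.SympElem.inv_top
      (Classical.SympElem.ndon_top' hG) (by rw [finrank_top, hfin])
    have hsq := Classical.SympElem.sq_cases hd1 x hz
    by_cases h2 : (2 : F) = 0
    · have hneg : (-1 : F) = 1 := by linear_combination -h2
      refine Classical.SympElem.step_char_two hG h2 (fun v => ?_) s U hU hN hdim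
      rcases hsq with hs | hs
      · rw [← Module.End.mul_apply, ← pow_two, hs, Module.End.one_apply]
      · rw [hs, ← neg_one_smul F v, hneg, one_smul]
    · have hG' := Classical.SympElem.good_restrict hG hU hN
      have hk : h ≤ h * (s + 1) := Nat.le_mul_of_pos_right _ (Nat.succ_pos s)
      obtain ⟨W, hW, hWn, hWd⟩ : ∃ W : Submodule F U, Classical.SympElem.Inv ((Matrix.toLin' x.1).restrict hU) W ∧
          Classical.Alt.NDon ((Classical.sympB d F).restrict U) W ∧ Module.finrank F W = 2 * h := by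
        rcases hsq with hs | hs
        · refine (Classical.SympElem.exists_involution_sub hG' h2 (LinearMap.ext fun v => Subtype.ext ?_)
            (d := h * (s + 1)) (by rw [hdim]; ring) hk).2
          rw [pow_two, Module.End.mul_apply, Module.End.one_apply]
          show Matrix.toLin' x.1 (Matrix.toLin' x.1 (v : Fin d ⊕ Fin d → F)) = (v : Fin d ⊕ Fin d → F)
          rw [← Module.End.mul_apply, ← pow_two, hs, Module.End.one_apply]
        · exact Classical.SympElem.exists_neg_one_nd hG' h2 (fun v => Subtype.ext (hs v))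
            (d := h * (s + 1)) (by rw [hdim]; ring) hk
      exact Classical.SympElem.step_single hG (Classical.SympElem.lift_le W) (Classical.SympElem.inv_lift hW)
        (Classical.SympElem.ndon_lift hWn) ((Classical.SympElem.finrank_lift W).trans hWd)
  refine ⟨D, ⟨hD.isMDecomposition hG (by omega) ht hfin, fun j u hu h0 => ?_, fun j j' hjj u hu v hv => ?_⟩, σ, hσ⟩
  · obtain ⟨v, hv, hne⟩ := hD.nd j u hu h0
    exact ⟨v, hv, by rwa [← Classical.sympB_apply]⟩
  · rw [← Classical.sympB_apply]
    exact hD.orth j j' hjj u hu v hv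

end Cfsg.Agent.S5960
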