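import Cfsg.Statements.S5961
import Cfsg.Agent.Classical.SympElem.Witness
import Cfsg.Agent.Classical.SympElem.DecompCount
import Cfsg.Agent.Classical.SympElem.Scalar

set_option autoImplicit false
open scoped MatrixGroups
open Cfsg
open Cfsg.Agent

namespace Cfsg.Agent.S5961

/-- Elements of odd prime order of PSp_n(q) and imprimitive subgroups. Here `T = PSp_n(q)`, `n = 2d ≥ 4`, `(n, q) ≠ (4, 2)`, realised through the symplectic matrices over the field `F` with `q` elements and the standard alternating form; `n = a·t` with `a` even and `t ≥ 2`, and Ω is the (nonempty) set of orthogonal decompositions of `F^n` into `t` nondegenerate subspaces of dimension `a` (unordered; counted as ordered ones divided by `t!`), whose stabilizers are the imprimitive subgroups of type Sp_a(q) ≀ S_t (maximality is not assumed); an element of `T` of prime order `r` (a symplectic matrix `x` with `x^r` scalar, `x` not scalar) fixes a point of Ω when it permutes the summands of some such decomposition. Let `r ≠ p` be an odd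 prime dividing the number of such decompositions, let `i` be the multiplicative order of `q` modulo `r`, `c = i` if `i` is even and `c = 2i` if `i` is odd, and write `k = n mod c`, `ℓ = a mod c`. Then every element of `T` of order `r` stabilizes such a decomposition if and only if `c ≤ a` and `k = t·ℓ`. -/
theorem result {F : Type*} [Field F] [Fintype F] {p : ℕ} [Fact p.Prime] [CharP F p] {q : ℕ} (hq : Fintype.card F = q)
    (d : ℕ) (hd : 2 ≤ d) (hT : (d, q) ≠ (2, 2))
    (a t : ℕ) (hat : 2 * d = a * t) (ha : 2 ≤ a) (hae : Even a) (ht : 2 ≤ t)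
    (r : ℕ) [Fact r.Prime] (hr2 : r ≠ 2) (hrp : r ≠ p) (hΩ : r ∣ Nat.card {D : Fin t → Submodule F (Fin d ⊕ Fin d → F) // (Cfsg.Geo.IsMDecomposition a D ∧ (∀ j, ∀ u ∈ D j, u ≠ 0 → ∃ v ∈ D j, Cfsg.sympForm d F u v ≠ 0) ∧
          (∀ j j', j ≠ j' → ∀ u ∈ D j, ∀ v ∈ D j', Cfsg.sympForm d F u v = 0))} / Nat.factorial t)
    (i c : ℕ) (hi : i = orderOf (q : ZMod r)) (hc : c = if Even i then i else 2 * i) :
    (∀ x : ↥(Matrix.symplecticGroup (Fin d) F),
      (∃ z : F, ((x ^ r : ↥(Matrix.symplecticGroup (Fin d) F)) : Matrix (Fin d ⊕ Fin d) (Fin d ⊕ Fin d) F) = z • (1 : Matrix (Fin d ⊕ Fin d) (Fin d ⊕ Fin d) F)) →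
      (∀ z : F, (x : Matrix (Fin d ⊕ Fin d) (Fin d ⊕ Fin d) F) ≠ z • (1 : Matrix (Fin d ⊕ Fin d) (Fin d ⊕ Fin d) F)) →
      ∃ D : Fin t → Submodule F (Fin d ⊕ Fin d → F), (Cfsg.Geo.IsMDecomposition a D ∧ (∀ j, ∀ u ∈ D j, u ≠ 0 → ∃ v ∈ D j, Cfsg.sympForm d F u v ≠ 0) ∧
          (∀ j j', j ≠ j' → ∀ u ∈ D j, ∀ v ∈ D j', Cfsg.sympForm d F u v = 0)) ∧
        ∃ σ : Equiv.Perm (Fin t), ∀ j, (D j).map (Matrix.toLin' (x : Matrix (Fin d ⊕ Fin d) (Fin d ⊕ Fin d) F)) = D (σ j)) ↔
    (c ≤ a ∧ (2 * d) % c = t * (a % c)) := by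
  classical
  subst hq
  have hd1 : 1 ≤ d := by omega
  have hr := (Fact.out : r.Prime)
  have hr3 : 2 < r := by have := hr.two_le; omega
  have hrodd : Odd r := hr.odd_of_ne_two hr2
  obtain ⟨n₀, hp', hqn⟩ := FiniteField.card F p
  have hrq : ¬ r ∣ Fintype.card F := fun h => by
    rw [hqn] at h
    exact hrp ((Nat.prime_dvd_prime_iff_eq hr hp').1 (hr.dvd_of_dvd_pow h))
  have hrF : (r : F) ≠ 0 := Classical.Elusive.cast_ne_zero_of_not_dvd hrq
  obtain ⟨-, -, -, hi0, hidvd⟩ := Classical.SympElem.poly_facts (F := F) (r := r) hrF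
  rw [← hi] at hi0 hidvd
  have hfin : Module.finrank F (Fin d ⊕ Fin d → F) = 2 * d := Classical.finrank_symp
  obtain ⟨h, rfl⟩ : ∃ h, a = 2 * h := by obtain ⟨k, hk⟩ := hae; exact ⟨k, by omega⟩
  have hht : h * t = d := by
    have h1 : 2 * (h * t) = 2 * h * t := by ring
    omega
  have hcfacts : Even c ∧ 0 < c ∧ c ≤ r - 1 := by
    rw [hc]
    split_ifs with heven
    · exact ⟨heven, hi0, Nat.le_of_dvd (by omega) hidvd⟩
    · refine ⟨even_two_mul i, by omega, Nat.le_of_dvd (by omega) ?_⟩
      refine Nat.Coprime.mul_dvd_of_dvd_of_dvd (Nat.coprime_two_left.2 (Nat.not_even_iff_odd.1 heven)) ?_ hidvd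
      obtain ⟨s, hs⟩ := hrodd
      exact ⟨s, by omega⟩
  obtain ⟨hce, hc0, hcr⟩ := hcfacts
  have hmod := Nat.mod_lt (2 * d) hc0
  -- translation of decompositions
  set S := fun D : Fin t → Submodule F (Fin d ⊕ Fin d → F) => Cfsg.Geo.IsMDecomposition (2 * h) D ∧
    (∀ j, ∀ u ∈ D j, u ≠ 0 → ∃ v ∈ D j, Cfsg.sympForm d F u v ≠ 0) ∧
      (∀ j j', j ≠ j' → ∀ u ∈ D j, ∀ v ∈ D j', Cfsg.sympForm d F u v = 0) with hS
  have hG1 : Cfsg.Agent.SympConj.Good (Classical.sympB d F) (1 : Module.End F (Fin d ⊕ Fin d → F)) :=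
    ⟨Classical.sympB_isAlt, fun v hv => Classical.sympB_nondeg.1 v hv, fun u v => rfl⟩
  have hfin' : Module.finrank F (Fin d ⊕ Fin d → F) = 2 * h * t := by rw [hfin, hat]
  have htr : ∀ D, S D ↔ Classical.SympElem.OrthDec (Classical.sympB d F) ⊤ (2 * h) D := by
    intro D
    constructor
    · rintro ⟨h1, h2, h3⟩
      refine ⟨fun j => le_top, fun j u hu h0 => ?_, h1.finrank_eq, fun j j' hjj u hu v hv => ?_⟩
      · obtain ⟨v, hv, hne⟩ := h2 j u hu h0
        exact ⟨v, hv, by rwa [Classical.sympB_apply]⟩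
      · rw [Classical.sympB_apply]; exact h3 j j' hjj u hu v hv
    · intro hD
      refine ⟨hD.isMDecomposition hG1 (by omega) ht hfin', fun j u hu h0 => ?_, fun j j' hjj u hu v hv => ?_⟩
      · obtain ⟨v, hv, hne⟩ := hD.nd j u hu h0
        exact ⟨v, hv, by rwa [← Classical.sympB_apply]⟩
      · rw [← Classical.sympB_apply]; exact hD.orth j j' hjj u hu v hv
  have hcd : c ≤ 2 * d := by
    by_contra hcon
    obtain ⟨Den, Num, hNum, hcard⟩ := Classical.SympElem.card_dec_mul (F := F) hG1 (r := r) (d := d) (h := h)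
      (by omega) hr (fun j hj1 hj2 hdvd => by
        rcases hr.dvd_mul.1 hdvd with h1 | h1
        · rw [LargeSylow.dvd_sub_iff Fintype.card_pos, ← hi] at h1
          have hdc : c ∣ 2 * j := by
            rw [hc]
            split_ifs with heven
            · exact h1
            · exact Nat.Coprime.mul_dvd_of_dvd_of_dvd (Nat.coprime_two_left.2 (Nat.not_even_iff_odd.1 heven))
                (dvd_mul_right 2 _) h1
          have := Nat.le_of_dvd (by omega) hdc
          omega
        · exact hrq (hr.dvd_of_dvd_pow h1)) t (le_of_eq hht)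
    have hN := hcard ⊤ (Classical.SympElem.ndon_top' hG1) (by rw [finrank_top, hfin'])
    have hf := Classical.SympElem.factorial_dvd_decomps (t := t) hG1 (show 0 < 2 * h by omega) ⊤
    have he : Nat.card {D : Fin t → Submodule F (Fin d ⊕ Fin d → F) // S D} =
        Nat.card {D : Fin t → Submodule F (Fin d ⊕ Fin d → F) //
          Classical.SympElem.OrthDec (Classical.sympB d F) ⊤ (2 * h) D} :=
      Nat.card_congr (Equiv.subtypeEquivRight htr)
    have h1 : r ∣ Nat.card {D : Fin t → Submodule F (Fin d ⊕ Fin d → F) //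
          Classical.SympElem.OrthDec (Classical.sympB d F) ⊤ (2 * h) D} := by
      rw [← Nat.div_mul_cancel hf, ← he]
      exact hΩ.mul_right _
    exact hNum (hN ▸ h1.mul_right Den)
  have hmod2 : (2 * d) % c = (t * ((2 * h) % c)) % c := by
    rw [hat, mul_comm (2 * h) t, Nat.mul_mod]
    conv_rhs => rw [Nat.mul_mod, Nat.mod_mod]
  constructor
  · intro H
    have htest : ∀ x : ↥(Matrix.symplecticGroup (Fin d) F), x ^ r = 1 →
        Module.finrank F (Classical.SympElem.fx (Matrix.toLin' x.1)) < 2 * d →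
        ∃ D, Classical.SympElem.OrthDec (Classical.sympB d F) ⊤ (2 * h) D ∧
          ∃ σ : Equiv.Perm (Fin t), ∀ j, (D j).map (Matrix.toLin' x.1) = D (σ j) := by
      intro x hx hfx
      obtain ⟨D, hD, σ, hσ⟩ := H x (Classical.SympElem.pow_scalar_of_one x hx)
        (Classical.SympElem.not_scalar hd1 hrodd x hx hfx)
      exact ⟨D, (htr D).1 hD, σ, hσ⟩
    have hfixed : ∀ x : ↥(Matrix.symplecticGroup (Fin d) F), x ^ r = 1 →
        ∀ W : Submodule F (Fin d ⊕ Fin d → F), Classical.SympElem.Inv (Matrix.toLin' x.1) W →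
          Classical.Alt.NDon (Classical.sympB d F) W →
          ∃ A, Module.finrank F (W ⊓ Classical.SympElem.fx (Matrix.toLin' x.1) : Submodule F (Fin d ⊕ Fin d → F)) + c * A =
            Module.finrank F W ∧ (A = 0 → W ≤ Classical.SympElem.fx (Matrix.toLin' x.1)) := by
      intro x hx W hW hN
      have hG := Classical.SympElem.good_matrix x
      have har := Classical.SympElem.toLin'_pow_one x hx
      obtain ⟨heq, hsum⟩ := Classical.SympElem.split_inv hG hrF har hW
      obtain ⟨-, hev⟩ := Classical.SympElem.nd_parts hG hrF har hW hN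
      have hidv := Classical.SympElem.dvd_inf_mv hG hrF har hW
      rw [← hi] at hidv
      obtain ⟨A, hA⟩ : c ∣ Module.finrank F (W ⊓ Classical.SympElem.mv (Matrix.toLin' x.1) : Submodule F (Fin d ⊕ Fin d → F)) := by
        rw [hc]
        split_ifs with heven
        · exact hidv
        · exact Nat.Coprime.mul_dvd_of_dvd_of_dvd (Nat.coprime_two_left.2 (Nat.not_even_iff_odd.1 heven))
            (even_iff_two_dvd.1 hev) hidv
      refine ⟨A, by rw [← hA, hsum], fun hA0 => ?_⟩
      rw [hA0, mul_zero, Submodule.finrank_eq_zero] at hA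
      rw [hA, sup_bot_eq] at heq
      exact le_of_eq_of_le heq.symm inf_le_right
    have hca : c ≤ 2 * h := by
      by_contra hcon
      have hi1 : i ≠ 1 := fun h1 => by
        rw [h1, if_neg Nat.not_even_one, mul_one] at hc; omega
      obtain ⟨x, hx, hfx⟩ := Classical.SympElem.exists_elem (F := F) (r := r) hrF (d := d) (P := 1) hi hc hi1 le_rfl
        (by rw [mul_one]; exact hcd)
      rw [mul_one] at hfx
      obtain ⟨D, hD, σ, hσ⟩ := htest x hx (by omega)
      have hG := Classical.SympElem.good_matrix x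
      by_cases hmv : ∃ j, σ j ≠ j
      · obtain ⟨j, hj⟩ := hmv
        obtain ⟨-, h2⟩ := Classical.SympElem.moved_bounds hG (Classical.SympElem.toLin'_pow_one x hx)
          (by omega) hfin' hD hσ hj
        have h3 := Classical.SympElem.finrank_fx_add (a := Matrix.toLin' x.1) hG
        have h4 : (r - 1) * 2 ≤ (r - 1) * (2 * h) := Nat.mul_le_mul_left _ (by omega)
        omega
      · simp only [not_exists, not_not] at hmv
        have hle : ∀ j, D j ≤ Classical.SympElem.fx (Matrix.toLin' x.1) := by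
          intro j
          obtain ⟨A, hA, hA0⟩ := hfixed x hx (D j) (Classical.SympElem.inv_iff.2 (le_of_eq (by rw [hσ, hmv]))) (hD.nd j)
          refine hA0 ?_
          by_contra hA1
          have : c ≤ c * A := Nat.le_mul_of_pos_right _ (Nat.pos_of_ne_zero hA1)
          rw [hD.dim] at hA
          omega
        have h5 : ∑ j, Module.finrank F (D j) ≤ Module.finrank F (Classical.SympElem.fx (Matrix.toLin' x.1)) :=
          hD.sum_finrank_le (fun j => le_rfl) hle
        rw [Finset.sum_congr rfl fun j _ => hD.dim j, Finset.sum_const, Finset.card_univ, Fintype.card_fin,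
          smul_eq_mul, mul_comm, ← hat] at h5
        omega
    refine ⟨hca, ?_⟩
    by_contra hk
    have hi1 : i ≠ 1 := fun h1 => by
      rw [h1, if_neg Nat.not_even_one, mul_one] at hc
      rw [hc, Nat.mul_mod_right, Nat.mul_mod_right, mul_zero] at hk
      exact hk rfl
    have hdiv := Nat.mod_add_div (2 * d) c
    obtain ⟨x, hx, hfx⟩ := Classical.SympElem.exists_elem (F := F) (r := r) hrF (d := d) (P := 2 * d / c) hi hc hi1
      (Nat.div_pos hcd hc0) (by omega)
    obtain ⟨D, hD, σ, hσ⟩ := htest x hx (by omega)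
    have hG := Classical.SympElem.good_matrix x
    by_cases hmv : ∃ j, σ j ≠ j
    · obtain ⟨j, hj⟩ := hmv
      obtain ⟨h2, -⟩ := Classical.SympElem.moved_bounds hG (Classical.SympElem.toLin'_pow_one x hx)
        (by omega) hfin' hD hσ hj
      omega
    · simp only [not_exists, not_not] at hmv
      have hlow : ∀ j, (2 * h) % c ≤
          Module.finrank F (D j ⊓ Classical.SympElem.fx (Matrix.toLin' x.1) : Submodule F (Fin d ⊕ Fin d → F)) := by
        intro j
        obtain ⟨A, hA, -⟩ := hfixed x hx (D j) (Classical.SympElem.inv_iff.2 (le_of_eq (by rw [hσ, hmv]))) (hD.nd j)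
        rw [hD.dim] at hA
        rw [← hA, Nat.add_mul_mod_self_left]
        exact Nat.mod_le _ _
      have h5 : t * ((2 * h) % c) ≤ Module.finrank F (Classical.SympElem.fx (Matrix.toLin' x.1)) := by
        refine le_trans ?_ (hD.sum_finrank_le (S := fun j => D j ⊓ Classical.SympElem.fx (Matrix.toLin' x.1))
          (fun j => inf_le_left) (fun j => inf_le_right))
        refine le_trans ?_ (Finset.sum_le_sum fun j _ => hlow j)
        rw [Finset.sum_const, Finset.card_univ, Fintype.card_fin, smul_eq_mul]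
      have h6 := Nat.mod_le (t * ((2 * h) % c)) c
      omega
  · rintro ⟨hca, hk⟩ x hx _
    obtain ⟨z, hz⟩ := hx
    have hz2 := Classical.SympElem.scalar_sq hd1 _ hz
    have hz0 : z ≠ 0 := fun h0 => by rw [h0] at hz2; simp at hz2
    have hzr : z ^ r = z := by
      obtain ⟨s, hs⟩ := hrodd
      rw [hs, pow_succ, pow_mul, hz2, one_pow, one_mul]
    have hG₀ := Classical.SympElem.good_matrix x
    set b := z • Matrix.toLin' x.1 with hb
    have hG : Cfsg.Agent.SympConj.Good (Classical.sympB d F) b := ⟨hG₀.alt, hG₀.sep, fun u v => by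
      rw [hb, LinearMap.smul_apply, LinearMap.smul_apply, map_smul, LinearMap.map_smul₂, smul_smul, ← pow_two, hz2,
        one_smul, hG₀.pres]⟩
    have hbr : b ^ r = 1 := by
      rw [hb, _root_.smul_pow, hzr, ← Matrix.toLin'_pow, ← SubmonoidClass.coe_pow, hz, map_smul, smul_smul, ← pow_two,
        hz2, one_smul, Matrix.toLin'_one]
      rfl
    obtain ⟨D, hD, σ, hσ⟩ := Classical.SympElem.exists_dec hG (a := 2 * h) (fun s U hU hN hdim => by
      have hs : s + 1 ≤ t := by
        have h1 := U.finrank_le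
        rw [hdim, hfin'] at h1
        exact Nat.le_of_mul_le_mul_left h1 (by omega)
      have h2 : (s + 1) * ((2 * h) % c) ≤ t * ((2 * h) % c) := Nat.mul_le_mul_right _ hs
      have hkk : (2 * h) % c ≤ (2 * (h * (s + 1))) % c := by
        rw [show 2 * (h * (s + 1)) = (s + 1) * (2 * h) by ring, ← Nat.mul_mod_mod (s + 1) (2 * h) c,
          Nat.mod_eq_of_lt (show (s + 1) * ((2 * h) % c) < c by omega)]
        exact Nat.le_mul_of_pos_left _ (Nat.succ_pos s)
      have hbr' : (b.restrict hU) ^ r = 1 := LinearMap.ext fun v => Subtype.ext (by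
        have hk' : ∀ (k : ℕ) (w : U), (((b.restrict hU) ^ k) w : Fin d ⊕ Fin d → F) = (b ^ k) w := by
          intro k
          induction k with
          | zero => intro w; rfl
          | succ k ih =>
              intro w
              rw [pow_succ', pow_succ', Module.End.mul_apply, Module.End.mul_apply, ← ih]
              rfl
        rw [hk', hbr]; rfl)
      subst hi
      obtain ⟨W, hW, hWn, hWd⟩ := Classical.SympElem.exists_prime_nd (Classical.SympElem.good_restrict hG hU hN)
        hrF hr2 hbr' (d := h * (s + 1)) (m := 2 * h) (by rw [hdim]; ring)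
        (by rw [← mul_assoc]; exact Nat.le_mul_of_pos_right _ (Nat.succ_pos s)) (even_two_mul h) hc hkk
      exact Classical.SympElem.step_single hG (Classical.SympElem.lift_le W) (Classical.SympElem.inv_lift hW)
        (Classical.SympElem.ndon_lift hWn) ((Classical.SympElem.finrank_lift W).trans hWd))
      t ⊤ Classical.SympElem.inv_top (Classical.SympElem.ndon_top' hG) (by rw [finrank_top, hfin'])
    exact ⟨D, (htr D).2 hD, σ, fun j => by rw [← hσ j, hb, Submodule.map_smul _ _ _ hz0]⟩

end Cfsg.Agent.S5961
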