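import Cfsg.Statements.S5962
import Cfsg.Agent.Classical.SympGroup

set_option autoImplicit false
open scoped MatrixGroups
open Cfsg

namespace Cfsg.Agent.S5962

open Module Cfsg.Agent.Classical

section

variable {F V : Type*} [Field F] [AddCommGroup V] [Module F V] [FiniteDimensional F V] {B : LinearMap.BilinForm F V}

/-- totally isotropic -/
def TS (B : LinearMap.BilinForm F V) (U : Submodule F V) : Prop := ∀ u ∈ U, ∀ v ∈ U, B u v = 0

lemma ts_span {s : Set V} (h : ∀ u ∈ s, ∀ v ∈ s, B u v = 0) : TS B (Submodule.span F s) := fun u hu v hv => by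
  induction hu using Submodule.span_induction with
  | mem a ha =>
    induction hv using Submodule.span_induction with
    | mem b hb => exact h a ha b hb
    | zero => simp
    | add y z _ _ hy hz => rw [map_add, hy, hz, add_zero]
    | smul c y _ hy => rw [map_smul, hy, smul_zero]
  | zero => simp
  | add y z _ _ hy hz => rw [map_add, LinearMap.add_apply, hy, hz, add_zero]
  | smul c y _ hy => rw [map_smul, LinearMap.smul_apply, hy, smul_zero]

lemma compl_of_ts (hA : B.IsAlt) (hnd : B.Nondegenerate) {U W : Submodule F V} (hU : TS B U) (hW : TS B W) (h : U ⊔ W = ⊤) :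
    IsCompl U W :=
  IsCompl.of_eq ((Submodule.eq_bot_iff _).2 fun v hv => hnd.1 v fun z => by
    obtain ⟨p, hp, q, hq, rfl⟩ := Submodule.mem_sup.1 (h.ge (Submodule.mem_top (x := z)))
    rw [map_add, hU v hv.1 p hp, hW v hv.2 q hq, add_zero]) h

lemma exists_pair (hA : B.IsAlt) (T : Module.End F V) (hTT : ∀ v, T (T v) = -v) (hB : ∀ u v, B (T u) (T v) = B u v)
    (h2 : (2 : F) ≠ 0) :
    ∀ (N : ℕ) (X : Submodule F V), finrank F X ≤ N → (∀ x ∈ X, T x ∈ X) → (∀ x ∈ X, x ≠ 0 → ∃ y ∈ X, B x y ≠ 0) →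
      ∃ U : Submodule F V, U ≤ X ∧ TS B U ∧ X ≤ U ⊔ U.map T
  | 0, X, hN, _, _ => by
    refine ⟨⊥, bot_le, fun u hu v _ => by simp [(Submodule.mem_bot F).1 hu], ?_⟩
    rw [Submodule.finrank_eq_zero.1 (Nat.le_zero.1 hN)]
    exact bot_le
  | N + 1, X, hN, hX, hnd => by
    rcases eq_or_ne X ⊥ with rfl | hne
    · exact ⟨⊥, bot_le, fun u hu v _ => by simp [(Submodule.mem_bot F).1 hu], bot_le⟩
    obtain ⟨v, hv, hvv⟩ : ∃ v ∈ X, B v (T v) ≠ 0 := by
      by_contra! hc
      obtain ⟨x, hx, hx0⟩ := X.exists_mem_ne_zero_of_ne_bot hne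
      obtain ⟨y, hy, hxy⟩ := hnd x hx hx0
      have hy' : T y ∈ X := hX y hy
      have h := hc (x + T y) (X.add_mem hx hy')
      simp only [map_add, hTT, map_neg, LinearMap.add_apply, hB, hc x hx, Alt.neg' hA y (T y), hc y hy, Alt.neg' hA x y, neg_zero,
        zero_add, add_zero] at h
      exact hxy ((mul_eq_zero.1 (show (2 : F) * B x y = 0 by linear_combination -h)).resolve_left h2)
    set X' := X ⊓ LinearMap.ker (B v) ⊓ LinearMap.ker (B (T v))
    have hself : B (T v) (T (T v)) = B v (T v) := hB v (T v)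
    have hTv : B (T v) v = -B v (T v) := Alt.neg' hA v (T v)
    have hdec : ∀ w ∈ X, ∃ a b : F, w - a • v - b • T v ∈ X' := fun w hw => by
      refine ⟨-(B (T v) w / B v (T v)), B v w / B v (T v), ⟨X.sub_mem (X.sub_mem hw (X.smul_mem _ hv)) (X.smul_mem _ (hX v hv)), ?_⟩, ?_⟩
      · rw [SetLike.mem_coe, LinearMap.mem_ker, map_sub, map_sub, map_smul, map_smul, hA v, smul_eq_mul, smul_eq_mul]
        field_simp; ring
      · rw [SetLike.mem_coe, LinearMap.mem_ker, map_sub, map_sub, map_smul, map_smul, hA (T v), hTv, smul_eq_mul, smul_eq_mul]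
        field_simp; ring
    have hX' : ∀ x ∈ X', T x ∈ X' := fun x hx => by
      have h1 : B v x = 0 := hx.1.2
      have h2' : B (T v) x = 0 := hx.2
      refine ⟨⟨hX x hx.1.1, ?_⟩, ?_⟩
      · rw [SetLike.mem_coe, LinearMap.mem_ker, ← hB, hTT, map_neg, h2', neg_zero]
      · rw [SetLike.mem_coe, LinearMap.mem_ker, hB, h1]
    have hnd' : ∀ x ∈ X', x ≠ 0 → ∃ y ∈ X', B x y ≠ 0 := fun x hx hx0 => by
      obtain ⟨y, hy, hxy⟩ := hnd x hx.1.1 hx0
      obtain ⟨a, b, hab⟩ := hdec y hy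
      refine ⟨_, hab, ?_⟩
      have h1 : B x v = 0 := by rw [Alt.neg' hA v x, show B v x = 0 from hx.1.2, neg_zero]
      have h2' : B x (T v) = 0 := by rw [Alt.neg' hA (T v) x, show B (T v) x = 0 from hx.2, neg_zero]
      rwa [map_sub, map_sub, map_smul, map_smul, h1, h2', smul_zero, smul_zero, sub_zero, sub_zero]
    have hlt : X' < X := lt_of_le_of_ne (fun x hx => hx.1.1) fun h => hvv (h.ge (hX v hv)).1.2
    obtain ⟨U, hUX, hU, hspan⟩ := exists_pair hA T hTT hB h2 N X' (by have := Submodule.finrank_lt_finrank_of_lt hlt; omega) hX' hnd'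
    refine ⟨Submodule.span F {v} ⊔ U, sup_le (by rwa [Submodule.span_singleton_le_iff_mem]) (hUX.trans hlt.le), ?_, ?_⟩
    · rw [show Submodule.span F {v} ⊔ U = Submodule.span F ({v} ∪ (U : Set V)) by rw [Submodule.span_union, Submodule.span_eq]]
      refine ts_span fun a ha b hb => ?_
      rcases ha with ha | ha <;> rcases hb with hb | hb
      · obtain rfl : a = v := ha
        obtain rfl : b = a := hb
        exact hA b
      · obtain rfl : a = v := ha
        exact (hUX hb).1.2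
      · obtain rfl : b = v := hb
        rw [Alt.neg' hA b a, show B b a = 0 from (hUX ha).1.2, neg_zero]
      · exact hU a ha b hb
    · intro w hw
      obtain ⟨a, b, hab⟩ := hdec w hw
      rw [Submodule.map_sup, show w = (w - a • v - b • T v) + a • v + b • T v by abel]
      refine Submodule.add_mem _ (Submodule.add_mem _ ?_ ?_) ?_
      · exact (sup_le (le_sup_right.trans le_sup_left) (le_sup_right.trans le_sup_right) :
          U ⊔ U.map T ≤ (Submodule.span F {v} ⊔ U) ⊔ ((Submodule.span F {v}).map T ⊔ U.map T)) (hspan hab)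
      · exact Submodule.mem_sup_left (Submodule.mem_sup_left (Submodule.smul_mem _ a (Submodule.mem_span_singleton_self v)))
      · refine Submodule.mem_sup_right (Submodule.mem_sup_left ?_)
        exact Submodule.smul_mem _ b ⟨v, Submodule.mem_span_singleton_self v, rfl⟩

theorem exists_polar (hA : B.IsAlt) (hnd : B.Nondegenerate) (T : Module.End F V) (hB : ∀ u v, B (T u) (T v) = B u v)
    (h2 : (2 : F) ≠ 0) {z : F} (hz : z = 1 ∨ z = -1) (hTT : ∀ v, T (T v) = z • v) :
    ∃ U W : Submodule F V, IsCompl U W ∧ TS B U ∧ TS B W ∧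
      ((U.map T = U ∧ W.map T = W) ∨ (U.map T = W ∧ W.map T = U)) := by
  have hz0 : z ≠ 0 := by rcases hz with rfl | rfl <;> simp
  have hfix : ∀ U : Submodule F V, U.map T ≤ U → U.map T = U := fun U hU =>
    le_antisymm hU fun u hu => ⟨z⁻¹ • T u, U.smul_mem _ (hU ⟨u, hu, rfl⟩), by rw [map_smul, hTT, inv_smul_smul₀ hz0]⟩
  rcases hz with rfl | rfl
  · -- an involution
    let P : Submodule F V := LinearMap.ker (T - 1)
    let Q : Submodule F V := LinearMap.ker (T + 1)
    have hP : ∀ v, v ∈ P ↔ T v = v := fun v => by simp [P, sub_eq_zero]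
    have hQ : ∀ v, v ∈ Q ↔ T v = -v := fun v => by simp [Q, add_eq_zero_iff_eq_neg]
    have horth : ∀ p ∈ P, ∀ q ∈ Q, B p q = 0 := fun p hp q hq => by
      have h := hB p q
      rw [(hP p).1 hp, (hQ q).1 hq, map_neg] at h
      exact (mul_eq_zero.1 (show (2 : F) * B p q = 0 by linear_combination -h)).resolve_left h2
    have hsplit : ∀ v, ∃ p ∈ P, ∃ q ∈ Q, v = p + q := fun v => by
      refine ⟨(2 : F)⁻¹ • (v + T v), P.smul_mem _ ((hP _).2 ?_), (2 : F)⁻¹ • (v - T v), Q.smul_mem _ ((hQ _).2 ?_), ?_⟩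
      · rw [map_add, hTT, one_smul, add_comm]
      · rw [map_sub, hTT, one_smul, neg_sub]
      · rw [← smul_add, show v + T v + (v - T v) = (2 : F) • v by module, inv_smul_smul₀ h2]
    obtain ⟨k, e, f, hb, -⟩ := Alt.exists_sympBasis hA P (fun w hw hw0 => by
      obtain ⟨y, hy⟩ : ∃ y, B w y ≠ 0 := by by_contra! hc; exact hw0 (hnd.1 w hc)
      obtain ⟨p, hp, q, hq, rfl⟩ := hsplit y
      exact ⟨p, hp, by rwa [map_add, horth w hw q hq, add_zero] at hy⟩)
    obtain ⟨l, e', f', hb', -⟩ := Alt.exists_sympBasis hA Q (fun w hw hw0 => by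
      obtain ⟨y, hy⟩ : ∃ y, B w y ≠ 0 := by by_contra! hc; exact hw0 (hnd.1 w hc)
      obtain ⟨p, hp, q, hq, rfl⟩ := hsplit y
      refine ⟨q, hq, ?_⟩
      rwa [map_add, Alt.neg' hA p w, horth p hp w hw, neg_zero, zero_add] at hy)
    let U : Submodule F V := Submodule.span F (Set.range e ∪ Set.range e')
    let W : Submodule F V := Submodule.span F (Set.range f ∪ Set.range f')
    have hts : ∀ (a : Fin k → V) (a' : Fin l → V), (∀ i, a i ∈ P) → (∀ i, a' i ∈ Q) → (∀ i j, B (a i) (a j) = 0) →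
        (∀ i j, B (a' i) (a' j) = 0) → TS B (Submodule.span F (Set.range a ∪ Set.range a')) := fun a a' ha ha' h h' =>
      ts_span (by
        rintro _ (⟨i, rfl⟩ | ⟨i, rfl⟩) _ (⟨j, rfl⟩ | ⟨j, rfl⟩)
        · exact h i j
        · exact horth _ (ha i) _ (ha' j)
        · rw [Alt.neg' hA (a j) (a' i), horth _ (ha j) _ (ha' i), neg_zero]
        · exact h' i j)
    have hinv : ∀ (a : Fin k → V) (a' : Fin l → V), (∀ i, a i ∈ P) → (∀ i, a' i ∈ Q) →
        (Submodule.span F (Set.range a ∪ Set.range a')).map T ≤ Submodule.span F (Set.range a ∪ Set.range a') := fun a a' ha ha' => by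
      rw [Submodule.map_span, Submodule.span_le]
      rintro _ ⟨_, ⟨i, rfl⟩ | ⟨i, rfl⟩, rfl⟩
      · rw [SetLike.mem_coe, (hP _).1 (ha i)]; exact Submodule.subset_span (Or.inl ⟨i, rfl⟩)
      · rw [SetLike.mem_coe, (hQ _).1 (ha' i)]; exact Submodule.neg_mem _ (Submodule.subset_span (Or.inr ⟨i, rfl⟩))
    have hU := hts e e' hb.mem_e hb'.mem_e hb.ee hb'.ee
    have hW := hts f f' hb.mem_f hb'.mem_f hb.ff hb'.ff
    refine ⟨U, W, compl_of_ts hA hnd hU hW (eq_top_iff.2 fun v _ => ?_), hU, hW,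
      Or.inl ⟨hfix _ (hinv e e' hb.mem_e hb'.mem_e), hfix _ (hinv f f' hb.mem_f hb'.mem_f)⟩⟩
    obtain ⟨p, hp, q, hq, rfl⟩ := hsplit v
    refine Submodule.add_mem _ ((?_ : P ≤ U ⊔ W) hp) ((?_ : Q ≤ U ⊔ W) hq)
    · refine hb.span.trans (Submodule.span_le.2 ?_)
      rintro _ ⟨i | i, rfl⟩
      · exact Submodule.mem_sup_left (Submodule.subset_span (Or.inl ⟨i, rfl⟩))
      · exact Submodule.mem_sup_right (Submodule.subset_span (Or.inl ⟨i, rfl⟩))
    · refine hb'.span.trans (Submodule.span_le.2 ?_)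
      rintro _ ⟨i | i, rfl⟩
      · exact Submodule.mem_sup_left (Submodule.subset_span (Or.inr ⟨i, rfl⟩))
      · exact Submodule.mem_sup_right (Submodule.subset_span (Or.inr ⟨i, rfl⟩))
  · obtain ⟨U, -, hU, hspan⟩ := exists_pair hA T (fun v => by rw [hTT, neg_one_smul]) hB h2 _ ⊤ le_rfl (fun x _ => trivial)
      (fun x _ hx0 => by
        obtain ⟨y, hy⟩ : ∃ y, B x y ≠ 0 := by by_contra! hc; exact hx0 (hnd.1 x hc)
        exact ⟨y, trivial, hy⟩)
    have hW : TS B (U.map T) := by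
      rintro _ ⟨a, ha, rfl⟩ _ ⟨b, hb, rfl⟩
      rw [hB, hU a ha b hb]
    refine ⟨U, U.map T, compl_of_ts hA hnd hU hW (top_le_iff.1 hspan), hU, hW, Or.inr ⟨rfl, le_antisymm ?_ fun u hu => ?_⟩⟩
    · rintro _ ⟨_, ⟨a, ha, rfl⟩, rfl⟩
      rw [hTT]; exact U.smul_mem _ ha
    · exact ⟨-T u, (U.map T).neg_mem ⟨u, hu, rfl⟩, by rw [map_neg, hTT, neg_one_smul, neg_neg]⟩

end

/-- Involutions of PSp_n(q), q odd, and the subgroups GL_{n/2}(q).2. Here `T = PSp_n(q)`, `n = 2d ≥ 4`, `q` odd, realised through the symplectic matrices over the field `F` with `q` elements; Ω is the set of unordered pairs `{U, W}` of complementary totally isotropic `d`-spaces (`F^n = U ⊕ W`), whose stabilizers are the subgroups of type GL_d(q).2 (maximal except in some small cases; maximality is not assumed); an element of `T` of prime order `r` (a symplectic matrix `x` with `x^r` scalar, `x` not scalar) fixes such a pair when it fixes or interchanges `U` and `W`. If the number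 of such pairs is even, every involution of `T` fixes one of them (the action is 2-elusive). -/
theorem result {F : Type*} [Field F] [Fintype F] {p : ℕ} [Fact p.Prime] [CharP F p] {q : ℕ} (hq : Fintype.card F = q)
    (d : ℕ) (hd : 2 ≤ d) (hT : (d, q) ≠ (2, 2)) (hodd : Odd q)
    (hΩ : 2 ∣ Nat.card {P : Submodule F (Fin d ⊕ Fin d → F) × Submodule F (Fin d ⊕ Fin d → F) // IsCompl P.1 P.2 ∧ (∀ u ∈ P.1, ∀ v ∈ P.1, Cfsg.sympForm d F u v = 0) ∧ (∀ u ∈ P.2, ∀ v ∈ P.2, Cfsg.sympForm d F u v = 0)} / 2)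
    (x : ↥(Matrix.symplecticGroup (Fin d) F))
    (hx1 : ∃ z : F, ((x ^ 2 : ↥(Matrix.symplecticGroup (Fin d) F)) : Matrix (Fin d ⊕ Fin d) (Fin d ⊕ Fin d) F) = z • (1 : Matrix (Fin d ⊕ Fin d) (Fin d ⊕ Fin d) F))
    (hx2 : ∀ z : F, (x : Matrix (Fin d ⊕ Fin d) (Fin d ⊕ Fin d) F) ≠ z • (1 : Matrix (Fin d ⊕ Fin d) (Fin d ⊕ Fin d) F)) :
    ∃ U W : Submodule F (Fin d ⊕ Fin d → F), IsCompl U W ∧ (∀ u ∈ U, ∀ v ∈ U, Cfsg.sympForm d F u v = 0) ∧ (∀ u ∈ W, ∀ v ∈ W, Cfsg.sympForm d F u v = 0) ∧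
        ((U.map (Matrix.toLin' (x : Matrix (Fin d ⊕ Fin d) (Fin d ⊕ Fin d) F)) = U ∧ W.map (Matrix.toLin' (x : Matrix (Fin d ⊕ Fin d) (Fin d ⊕ Fin d) F)) = W) ∨
         (U.map (Matrix.toLin' (x : Matrix (Fin d ⊕ Fin d) (Fin d ⊕ Fin d) F)) = W ∧ W.map (Matrix.toLin' (x : Matrix (Fin d ⊕ Fin d) (Fin d ⊕ Fin d) F)) = U)) := by
  set B := sympB d F
  obtain ⟨z, hz⟩ := hx1
  set T : Module.End F (Fin d ⊕ Fin d → F) := Matrix.toLin' (x : Matrix (Fin d ⊕ Fin d) (Fin d ⊕ Fin d) F)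
  have hB : ∀ u v, B (T u) (T v) = B u v := fun u v => by
    simpa [T, Matrix.toLin'_apply] using (mem_symplectic_iff _).1 x.2 u v
  have hTT : ∀ v, T (T v) = z • v := fun v => by
    have h := congrArg (fun M => Matrix.toLin' M v) hz
    simpa [pow_two, T] using h
  have h2 : (2 : F) ≠ 0 := Ring.two_ne_zero fun h => by
    have := FiniteField.even_card_iff_char_two.1 h
    rw [hq, Nat.odd_iff.1 hodd] at this
    simp at this
  have hzz : z = 1 ∨ z = -1 := by
    have : Nontrivial (Fin d ⊕ Fin d → F) := nontrivial_symp (by omega)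
    obtain ⟨v, hv⟩ := exists_ne (0 : Fin d ⊕ Fin d → F)
    obtain ⟨w, hw⟩ : ∃ w, B v w ≠ 0 := by by_contra! hc; exact hv (sympB_nondeg.1 v hc)
    have h : B (T (T v)) (T (T w)) = B v w := by rw [hB, hB]
    rw [hTT, hTT, map_smul, map_smul, LinearMap.smul_apply, smul_eq_mul, smul_eq_mul] at h
    exact mul_self_eq_one_iff.1 (mul_right_cancel₀ hw (by rw [one_mul, mul_assoc, h]))
  obtain ⟨U, W, hc, hU, hW, hmap⟩ := exists_polar sympB_isAlt sympB_nondeg T hB h2 hzz hTT
  exact ⟨U, W, hc, fun u hu v hv => by rw [← sympB_apply]; exact hU u hu v hv,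
    fun u hu v hv => by rw [← sympB_apply]; exact hW u hu v hv, hmap⟩

end Cfsg.Agent.S5962
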