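import Cfsg.Statements.S5963
import Cfsg.Agent.Classical.IsoStab
import Cfsg.Agent.MatModule.LargeSylow

set_option autoImplicit false
open scoped MatrixGroups
open Cfsg

namespace Cfsg.Agent.S5963

open Cfsg.Agent Cfsg.Agent.Classical Module Matrix

section

variable {F : Type*} [Field F] {d : ℕ}

/-- A complementary pair of totally isotropic subspaces. -/
abbrev IsPair (P : Submodule F (Fin d ⊕ Fin d → F) × Submodule F (Fin d ⊕ Fin d → F)) : Prop :=
  IsCompl P.1 P.2 ∧ (∀ u ∈ P.1, ∀ v ∈ P.1, Cfsg.sympForm d F u v = 0) ∧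
    (∀ u ∈ P.2, ∀ v ∈ P.2, Cfsg.sympForm d F u v = 0)

theorem symp_skew (u v : Fin d ⊕ Fin d → F) : sympB d F v u = -sympB d F u v :=
  (LinearMap.BilinForm.IsAlt.neg_eq (sympB_isAlt (F := F) (m := d)) u v).symm

theorem exists_dual {P : Submodule F (Fin d ⊕ Fin d → F) × Submodule F (Fin d ⊕ Fin d → F)} (hP : IsPair P) :
    finrank F P.1 = d ∧ finrank F P.2 = d ∧
    ∃ u w : Fin d → Fin d ⊕ Fin d → F, (∀ i, u i ∈ P.1) ∧ (∀ i, w i ∈ P.2) ∧
      LinearIndependent F u ∧ LinearIndependent F w ∧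
      (∀ i j, sympB d F (u i) (w j) = if i = j then 1 else 0) := by
  classical
  obtain ⟨hc, h1, h2⟩ := hP
  have half : ∀ U W : Submodule F (Fin d ⊕ Fin d → F), IsCompl U W →
      (∀ u ∈ U, ∀ v ∈ U, Cfsg.sympForm d F u v = 0) → ∀ x ∈ U, (∀ y ∈ W, sympB d F x y = 0) → x = 0 := by
    intro U W hc hU x hx hy
    refine sympB_nondeg.1 x fun z => ?_
    obtain ⟨a, ha, b, hb, rfl⟩ := Submodule.mem_sup.1 (hc.sup_eq_top ▸ Submodule.mem_top (x := z))
    rw [map_add, hy b hb, sympB_apply, hU x hx a ha, add_zero]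
  let T : P.1 →ₗ[F] Module.Dual F P.2 := (LinearMap.lcomp F F P.2.subtype) ∘ₗ (sympB d F) ∘ₗ P.1.subtype
  let T' : P.2 →ₗ[F] Module.Dual F P.1 := (LinearMap.lcomp F F P.1.subtype) ∘ₗ (sympB d F) ∘ₗ P.2.subtype
  have hT : Function.Injective T := by
    rw [injective_iff_map_eq_zero]
    intro x hx
    exact Subtype.ext (half _ _ hc h1 x.1 x.2 fun y hy => LinearMap.congr_fun hx ⟨y, hy⟩)
  have hT' : Function.Injective T' := by
    rw [injective_iff_map_eq_zero]
    intro x hx
    exact Subtype.ext (half _ _ hc.symm h2 x.1 x.2 fun y hy => LinearMap.congr_fun hx ⟨y, hy⟩)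
  have e1 := LinearMap.finrank_le_finrank_of_injective hT
  have e2 := LinearMap.finrank_le_finrank_of_injective hT'
  rw [Subspace.dual_finrank_eq] at e1 e2
  have e3 := Submodule.finrank_add_eq_of_isCompl hc
  rw [finrank_symp] at e3
  have hd1 : finrank F P.1 = d := by omega
  have hd2 : finrank F P.2 = d := by omega
  refine ⟨hd1, hd2, ?_⟩
  let b : Basis (Fin d) F P.2 := Module.finBasisOfFinrankEq F P.2 hd2
  have hTs : Function.Surjective T :=
    (LinearMap.injective_iff_surjective_of_finrank_eq_finrank (by rw [Subspace.dual_finrank_eq, hd1, hd2])).1 hT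
  choose u hu using fun i => hTs (b.coord i)
  have huw : ∀ i j, sympB d F (u i : Fin d ⊕ Fin d → F) (b j : Fin d ⊕ Fin d → F) = if i = j then 1 else 0 := by
    intro i j
    have := LinearMap.congr_fun (hu i) (b j)
    rw [Basis.coord_apply, Basis.repr_self, Finsupp.single_apply] at this
    rw [show (if i = j then (1 : F) else 0) = (if j = i then (1 : F) else 0) by simp [eq_comm]]
    exact this
  refine ⟨fun i => u i, fun j => b j, fun i => (u i).2, fun j => (b j).2, ?_,
    b.linearIndependent.map' P.2.subtype P.2.ker_subtype, huw⟩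
  rw [Fintype.linearIndependent_iff]
  intro g hg j
  have := congrArg (fun z => sympB d F z (b j : Fin d ⊕ Fin d → F)) hg
  simp only [map_sum, map_smul, LinearMap.coe_sum, Finset.sum_apply, LinearMap.smul_apply, huw,
    map_zero, LinearMap.zero_apply] at this
  simpa using this

/-- The action of the symplectic group on pairs of subspaces. -/
def pairAct : MulAction (Matrix.symplecticGroup (Fin d) F)
    (Submodule F (Fin d ⊕ Fin d → F) × Submodule F (Fin d ⊕ Fin d → F)) where
  smul g P := (P.1.map (Matrix.toLin' g.1), P.2.map (Matrix.toLin' g.1))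
  one_smul P := by
    refine Prod.ext ?_ ?_ <;>
    · show Submodule.map _ _ = _
      rw [show ((1 : Matrix.symplecticGroup (Fin d) F) : Matrix (Fin d ⊕ Fin d) (Fin d ⊕ Fin d) F) = 1 from rfl,
        Matrix.toLin'_one, Submodule.map_id]
  mul_smul g h P := by
    refine Prod.ext ?_ ?_ <;>
    · show Submodule.map _ _ = Submodule.map _ (Submodule.map _ _)
      rw [Submonoid.coe_mul, Matrix.toLin'_mul, Submodule.map_comp]

theorem isPair_move (g : Matrix.symplecticGroup (Fin d) F)
    {P : Submodule F (Fin d ⊕ Fin d → F) × Submodule F (Fin d ⊕ Fin d → F)} (hP : IsPair P) :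
    IsPair (P.1.map (Matrix.toLin' g.1), P.2.map (Matrix.toLin' g.1)) := by
  have e : Matrix.toLin' g.1 = (spLin g).toLinearMap := rfl
  refine ⟨?_, ?_, ?_⟩
  · rw [e]
    exact hP.1.map (Submodule.orderIsoMapComap (spLin g))
  · rintro _ ⟨u, hu, rfl⟩ _ ⟨v, hv, rfl⟩
    rw [← sympB_apply, Matrix.toLin'_apply, Matrix.toLin'_apply, IsoStab.form_move, sympB_apply]
    exact hP.2.1 u hu v hv
  · rintro _ ⟨u, hu, rfl⟩ _ ⟨v, hv, rfl⟩
    rw [← sympB_apply, Matrix.toLin'_apply, Matrix.toLin'_apply, IsoStab.form_move, sympB_apply]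
    exact hP.2.2 u hu v hv

theorem exists_move_pair [Finite F]
    {P P' : Submodule F (Fin d ⊕ Fin d → F) × Submodule F (Fin d ⊕ Fin d → F)} (hP : IsPair P) (hP' : IsPair P') :
    ∃ g : Matrix.symplecticGroup (Fin d) F,
      (P.1.map (Matrix.toLin' g.1), P.2.map (Matrix.toLin' g.1)) = P' := by
  classical
  obtain ⟨d1, d2, u, w, hu, hw, hui, hwi, huw⟩ := exists_dual hP
  obtain ⟨d1', d2', u', w', hu', hw', hui', hwi', huw'⟩ := exists_dual hP'
  have hli : ∀ (Q : Submodule F (Fin d ⊕ Fin d → F) × Submodule F (Fin d ⊕ Fin d → F)), IsPair Q →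
      ∀ a c : Fin d → Fin d ⊕ Fin d → F, (∀ i, a i ∈ Q.1) → (∀ i, c i ∈ Q.2) → LinearIndependent F a →
      LinearIndependent F c → LinearIndependent F (Sum.elim a c ∘ finSumFinEquiv.symm) := by
    intro Q hQ a c ha hc hai hci
    refine LinearIndependent.comp ?_ _ finSumFinEquiv.symm.injective
    refine hai.sum_type hci (hQ.1.disjoint.mono ?_ ?_) <;>
      rw [Submodule.span_le] <;> rintro _ ⟨i, rfl⟩ <;> simp [ha, hc]
  obtain ⟨g, hg⟩ := IsoStab.symp_transitive (hli P hP u w hu hw hui hwi)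
    (hli P' hP' u' w' hu' hw' hui' hwi') (fun i j => by
      simp only [Function.comp_apply]
      rcases finSumFinEquiv.symm i with i | i <;> rcases finSumFinEquiv.symm j with j | j <;>
        simp only [Sum.elim_inl, Sum.elim_inr]
      · rw [sympB_apply, sympB_apply, hP.2.1 _ (hu i) _ (hu j), hP'.2.1 _ (hu' i) _ (hu' j)]
      · rw [huw, huw']
      · rw [symp_skew (u j), symp_skew (u' j), huw, huw']
      · rw [sympB_apply, sympB_apply, hP.2.2 _ (hw i) _ (hw j), hP'.2.2 _ (hw' i) _ (hw' j)])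
  refine ⟨g, Prod.ext ?_ ?_⟩
  all_goals refine (Submodule.eq_of_le_of_finrank_le ?_ ?_).symm
  · have hsp : Submodule.span F (Set.range u') = P'.1 :=
      Submodule.eq_of_le_of_finrank_eq (Submodule.span_le.2 (by rintro _ ⟨i, rfl⟩; exact hu' i))
        (by rw [finrank_span_eq_card hui', Fintype.card_fin, d1'])
    rw [← hsp, Submodule.span_le]
    rintro _ ⟨i, rfl⟩
    refine ⟨u i, hu i, ?_⟩
    have := congrFun hg (finSumFinEquiv (Sum.inl i))
    simp only [IsoStab.move, Function.comp_apply, Equiv.symm_apply_apply, Sum.elim_inl] at this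
    rw [Matrix.toLin'_apply]
    exact this
  · show finrank F (P.1.map (spLin g).toLinearMap) ≤ _
    rw [LinearEquiv.finrank_map_eq, d1, d1']
  · have hsp : Submodule.span F (Set.range w') = P'.2 :=
      Submodule.eq_of_le_of_finrank_eq (Submodule.span_le.2 (by rintro _ ⟨i, rfl⟩; exact hw' i))
        (by rw [finrank_span_eq_card hwi', Fintype.card_fin, d2'])
    rw [← hsp, Submodule.span_le]
    rintro _ ⟨i, rfl⟩
    refine ⟨w i, hw i, ?_⟩
    have := congrFun hg (finSumFinEquiv (Sum.inr i))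
    simp only [IsoStab.move, Function.comp_apply, Equiv.symm_apply_apply, Sum.elim_inr] at this
    rw [Matrix.toLin'_apply]
    exact this
  · show finrank F (P.2.map (spLin g).toLinearMap) ≤ _
    rw [LinearEquiv.finrank_map_eq, d2, d2']

/-- Some `q ^ j + 1` is divisible by `r`. -/
theorem exists_dvd [Fintype F] {q r : ℕ} [Fact r.Prime] (hq : Fintype.card F = q) (hd : 1 ≤ d)
    (hr2 : r ≠ 2) (hrq : ¬ r ∣ q)
    (h : r ∣ Nat.card {P : Submodule F (Fin d ⊕ Fin d → F) × Submodule F (Fin d ⊕ Fin d → F) // IsPair P} / 2) :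
    ∃ j, 1 ≤ j ∧ j ≤ d ∧ r ∣ q ^ j + 1 := by
  classical
  letI := pairAct (F := F) (d := d)
  have : Finite (Submodule F (Fin d ⊕ Fin d → F)) := Finite.of_injective _ SetLike.coe_injective
  set N := Nat.card {P : Submodule F (Fin d ⊕ Fin d → F) × Submodule F (Fin d ⊕ Fin d → F) // IsPair P} with hN
  -- the swap shows that there is an even number of pairs
  have heven : 2 ∣ N := by
    have : Fintype {P : Submodule F (Fin d ⊕ Fin d → F) × Submodule F (Fin d ⊕ Fin d → F) // IsPair P} :=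
      Fintype.ofFinite _
    rw [hN, Nat.card_eq_fintype_card, ← ZMod.natCast_eq_zero_iff, ← Finset.card_univ, Finset.card_eq_sum_ones,
      Nat.cast_sum, Nat.cast_one]
    refine Finset.sum_involution (fun P _ => ⟨(P.1.2, P.1.1), P.2.1.symm, P.2.2.2, P.2.2.1⟩)
      (fun _ _ => by decide) (fun P _ _ h => ?_) (fun _ _ => Finset.mem_univ _) (fun P _ => rfl)
    have h' : P.1.2 = P.1.1 := congrArg (fun X => X.1.1) h
    have hb := P.2.1.disjoint
    have hs := P.2.1.sup_eq_top
    rw [h', sup_idem] at hs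
    rw [h', disjoint_self, hs] at hb
    have := congrArg (fun X : Submodule F (Fin d ⊕ Fin d → F) => finrank F X) hb
    simp only [finrank_top, finrank_bot, finrank_symp] at this
    omega
  let U0 : Submodule F (Fin d ⊕ Fin d → F) := LinearMap.ker (LinearMap.funLeft F F (Sum.inr : Fin d → _))
  let W0 : Submodule F (Fin d ⊕ Fin d → F) := LinearMap.ker (LinearMap.funLeft F F (Sum.inl : Fin d → _))
  have hU0 : ∀ v, v ∈ U0 ↔ ∀ i, v (Sum.inr i) = 0 := fun v => by
    simp [U0, LinearMap.mem_ker, funext_iff, LinearMap.funLeft]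
  have hW0 : ∀ v, v ∈ W0 ↔ ∀ i, v (Sum.inl i) = 0 := fun v => by
    simp [W0, LinearMap.mem_ker, funext_iff, LinearMap.funLeft]
  have hP0 : IsPair (U0, W0) := by
    refine ⟨⟨?_, ?_⟩, ?_, ?_⟩
    · rw [Submodule.disjoint_def]
      intro x hx hy
      funext i
      rcases i with i | i
      · exact (hW0 x).1 hy i
      · exact (hU0 x).1 hx i
    · rw [codisjoint_iff, eq_top_iff]
      intro x _
      refine Submodule.mem_sup.2 ⟨Sum.elim (fun i => x (Sum.inl i)) 0, (hU0 _).2 fun i => rfl,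
        Sum.elim 0 (fun i => x (Sum.inr i)), (hW0 _).2 fun i => rfl, ?_⟩
      funext i
      rcases i with i | i <;> simp
    · intro u hu v hv
      exact IsoStab.isotropic_of_inr u v ((hU0 u).1 hu) ((hU0 v).1 hv)
    · intro u hu v hv
      rw [← sympB_apply, sympB_eq_sum]
      refine Finset.sum_eq_zero fun i _ => ?_
      rw [(hW0 u).1 hu i, (hW0 v).1 hv i]
      ring
  set S := MulAction.stabilizer (Matrix.symplecticGroup (Fin d) F) (U0, W0) with hS
  have horb : N = S.index := by
    rw [hS, MulAction.index_stabilizer, ← Nat.card_coe_set_eq]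
    refine Nat.card_congr (Equiv.subtypeEquivRight fun P => ⟨fun hP => exists_move_pair hP0 hP, ?_⟩)
    rintro ⟨g, rfl⟩
    exact isPair_move g hP0
  let φ : GL (Fin d) F →* Matrix.symplecticGroup (Fin d) F :=
    MonoidHom.mk' (fun g => ⟨Matrix.fromBlocks g.1 0 0 (g⁻¹).1.transpose, by
      rw [SymplecticGroup.mem_iff, Matrix.J, Matrix.fromBlocks_transpose, Matrix.fromBlocks_multiply,
        Matrix.fromBlocks_multiply]
      simp [-Matrix.coe_units_inv, ← Matrix.transpose_mul]⟩) (fun g h => by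
      refine Subtype.ext ?_
      rw [Submonoid.coe_mul]
      show Matrix.fromBlocks _ _ _ _ = Matrix.fromBlocks _ _ _ _ * Matrix.fromBlocks _ _ _ _
      rw [Matrix.fromBlocks_multiply]
      simp [-Matrix.coe_units_inv, _root_.mul_inv_rev, Units.val_mul, Matrix.transpose_mul])
  have hφi : Function.Injective φ := fun g h hgh =>
    Units.ext (Matrix.fromBlocks_inj.1 (congrArg Subtype.val hgh)).1
  have hφS : φ.range ≤ S := by
    rintro _ ⟨g, rfl⟩
    obtain ⟨f1, f2, -⟩ := exists_dual (isPair_move (φ g) hP0)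
    obtain ⟨g1, g2, -⟩ := exists_dual hP0
    refine Prod.ext ?_ ?_
    · refine Submodule.eq_of_le_of_finrank_eq ?_ (f1.trans g1.symm)
      rintro _ ⟨v, hv, rfl⟩
      refine (hU0 _).2 fun i => ?_
      rw [Matrix.toLin'_apply]
      show (Matrix.fromBlocks g.1 0 0 (g⁻¹).1.transpose *ᵥ v) (Sum.inr i) = 0
      rw [Matrix.fromBlocks_mulVec]
      simp [Function.comp_def, (hU0 v).1 hv, Matrix.mulVec, dotProduct]
    · refine Submodule.eq_of_le_of_finrank_eq ?_ (f2.trans g2.symm)
      rintro _ ⟨v, hv, rfl⟩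
      refine (hW0 _).2 fun i => ?_
      rw [Matrix.toLin'_apply]
      show (Matrix.fromBlocks g.1 0 0 (g⁻¹).1.transpose *ᵥ v) (Sum.inl i) = 0
      rw [Matrix.fromBlocks_mulVec]
      simp [Function.comp_def, (hW0 v).1 hv, Matrix.mulVec, dotProduct]
  obtain ⟨t, ht⟩ := Subgroup.card_dvd_of_le hφS
  have h1 := S.card_mul_index
  rw [card_symplecticGroup hq, ← horb, ht, ← Nat.card_congr (MonoidHom.ofInjective hφi).toEquiv,
    Matrix.card_GL_field, hq, prod_gl_eq] at h1
  have hpm : ∀ i, q ^ (2 * (i + 1)) - 1 = (q ^ (i + 1) - 1) * (q ^ (i + 1) + 1) := fun i => by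
    rw [mul_comm 2, pow_mul, mul_comm (q ^ (i + 1) - 1), ← Nat.sq_sub_sq, one_pow]
  simp only [hpm, Finset.prod_mul_distrib] at h1
  have hq2 : 2 ≤ q := hq ▸ Fintype.one_lt_card
  have hP : 0 < ∏ i ∈ Finset.range d, (q ^ (i + 1) - 1) := Finset.prod_pos fun i _ =>
    Nat.sub_pos_of_lt (Nat.one_lt_pow (by omega) hq2)
  have h2 : N ∣ q ^ (d ^ 2) * ∏ i ∈ Finset.range d, (q ^ (i + 1) + 1) :=
    ⟨q ^ (d * (d - 1) / 2) * t, Nat.eq_of_mul_eq_mul_left hP (by
      calc (∏ i ∈ Finset.range d, (q ^ (i + 1) - 1)) * (q ^ (d ^ 2) * ∏ i ∈ Finset.range d, (q ^ (i + 1) + 1))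
          = q ^ (d ^ 2) * ((∏ i ∈ Finset.range d, (q ^ (i + 1) - 1)) *
              ∏ i ∈ Finset.range d, (q ^ (i + 1) + 1)) := by ring
        _ = _ := by rw [← h1]; ring)⟩
  have hr := (Fact.out : r.Prime)
  have hrN : r ∣ N := h.trans (Nat.div_dvd_of_dvd heven)
  rcases hr.dvd_mul.1 (hrN.trans h2) with h3 | h3
  · exact absurd (hr.dvd_of_dvd_pow h3) hrq
  · obtain ⟨i, hi, hi'⟩ := hr.prime.exists_mem_finset_dvd h3
    exact ⟨i + 1, by omega, by have := Finset.mem_range.1 hi; omega, hi'⟩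

/-- A non-trivial automorphism of prime order moves a space of dimension at least `k`. -/
theorem le_finrank_range [Fintype F] {V : Type*} [AddCommGroup V] [Module F V] [FiniteDimensional F V] {q r k : ℕ}
    [Fact r.Prime] (hq : Fintype.card F = q) (hrF : (r : F) ≠ 0) (hrq : ¬ r ∣ q)
    (hk : ∀ i, 1 ≤ i → r ∣ q ^ i - 1 → k ≤ i) {φ : Module.End F V} (hφ : φ ^ r = 1) (hne : φ ≠ 1) :
    k ≤ finrank F (LinearMap.range (φ - 1)) := by
  classical
  set R := LinearMap.range (φ - 1) with hR
  have hinv : ∀ x ∈ R, φ x ∈ R := by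
    rintro _ ⟨y, rfl⟩
    exact ⟨φ y, by simp [map_sub]⟩
  set ψ := φ.restrict hinv with hψ
  have hψr : ψ ^ r = 1 := by
    refine LinearMap.ext fun x => Subtype.ext ?_
    have : ∀ (m : ℕ) (x : R), ((ψ ^ m) x : V) = (φ ^ m) x := fun m => by
      induction m with
      | zero => intro x; rfl
      | succ m ih => intro x; rw [pow_succ, pow_succ, Module.End.mul_apply, Module.End.mul_apply, ih]; rfl
    rw [this, hφ]
    rfl
  have hψ1 : ψ ≠ 1 := by
    intro h
    have h2 : (φ - 1) * (φ - 1) = 0 := LinearMap.ext fun x => by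
      have := congrArg Subtype.val (LinearMap.congr_fun h ⟨(φ - 1) x, x, rfl⟩)
      show φ ((φ - 1) x) - (φ - 1) x = 0
      exact sub_eq_zero.2 this
    have hm : ∀ m : ℕ, φ ^ m = 1 + (m : F) • (φ - 1) := fun m => by
      induction m with
      | zero => simp
      | succ m ih =>
        rw [pow_succ, ih]
        conv_lhs => arg 2; rw [show φ = 1 + (φ - 1) by abel]
        rw [add_mul, one_mul, smul_mul_assoc, mul_add, mul_one, h2, add_zero, Nat.cast_succ, add_smul, one_smul]
        abel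
    have := hm r
    rw [hφ, left_eq_add, smul_eq_zero] at this
    exact hne (sub_eq_zero.1 (this.resolve_left hrF))
  set n := finrank F R with hn
  let e := (LinearMap.toMatrixAlgEquiv (Module.finBasisOfFinrankEq F R hn.symm)).toMulEquiv
  let u : GL (Fin n) F := Units.ofPowEqOne (e ψ) r (by rw [← map_pow, hψr, map_one]) (Fact.out : r.Prime).ne_zero
  have hu : orderOf u = r := by
    refine orderOf_eq_prime (Units.ext (by
      show (e ψ) ^ r = 1
      rw [← map_pow, hψr, map_one])) fun h => hψ1 (e.injective ?_)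
    rw [map_one]
    exact congrArg Units.val h
  have h1 : r ∣ Nat.card (GL (Fin n) F) := hu ▸ orderOf_dvd_natCard u
  rw [Matrix.card_GL_field, hq, prod_gl_eq] at h1
  rcases (Fact.out : r.Prime).dvd_mul.1 h1 with h | h
  · exact absurd ((Fact.out : r.Prime).dvd_of_dvd_pow h) hrq
  · obtain ⟨i, hi, hi'⟩ := (Fact.out : r.Prime).prime.exists_mem_finset_dvd h
    have := hk (i + 1) (by omega) hi'
    have := Finset.mem_range.1 hi
    omega

theorem embJ {j : ℕ} (hj : j ≤ d) (A : Matrix.symplecticGroup (Fin j) F) {r : ℕ} (hr : A ^ r = 1) (hA : A ≠ 1) :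
    ∃ x : Matrix.symplecticGroup (Fin d) F, x ^ r = 1 ∧ x ≠ 1 ∧
      finrank F (LinearMap.range (Matrix.toLin' x.1 - 1)) ≤ 2 * j := by
  classical
  let c : Fin j ⊕ Fin j → Fin d ⊕ Fin d := Sum.map (Fin.castLE hj) (Fin.castLE hj)
  have hc : Function.Injective c := Sum.map_injective.2 ⟨Fin.castLE_injective hj, Fin.castLE_injective hj⟩
  let π : (Fin d ⊕ Fin d → F) →ₗ[F] (Fin j ⊕ Fin j → F) := LinearMap.funLeft F F c
  let P : (Fin j ⊕ Fin j → F) →ₗ[F] (Fin d ⊕ Fin d → F) := Function.ExtendByZero.linearMap F c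
  have hπP : ∀ z, π (P z) = z := fun z => funext fun i => hc.extend_apply _ _ i
  have hBP : ∀ (x : Fin d ⊕ Fin d → F) z, sympB d F x (P z) = sympB j F (π x) z := by
    intro x z
    rw [sympB_eq_sum, sympB_eq_sum]
    refine (Finset.sum_of_injOn (Fin.castLE hj) ((Fin.castLE_injective hj).injOn) (fun i _ => Finset.mem_univ _)
      (fun i _ hi => ?_) (fun i _ => ?_)).symm
    · have h1 : ∀ s : Fin d ⊕ Fin d, (s = Sum.inl i ∨ s = Sum.inr i) → P z s = 0 := fun s hs => by
        refine Function.extend_apply' _ _ _ ?_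
        rintro ⟨a, rfl⟩
        rcases a with a | a <;> simp [c] at hs <;> exact hi ⟨a, Finset.mem_univ _, hs⟩
      rw [h1 _ (Or.inl rfl), h1 _ (Or.inr rfl)]
      ring
    · have h1 := congrFun (hπP z) (Sum.inl i)
      have h2 := congrFun (hπP z) (Sum.inr i)
      change P z (Sum.inl (Fin.castLE hj i)) = _ at h1
      change P z (Sum.inr (Fin.castLE hj i)) = _ at h2
      rw [h1, h2]
      rfl
  let f : Matrix.symplecticGroup (Fin j) F → Module.End F (Fin d ⊕ Fin d → F) :=
    fun g => 1 + P ∘ₗ (Matrix.toLin' g.1 - 1) ∘ₗ π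
  have hf : ∀ g x, f g x = x + P (g.1 *ᵥ π x - π x) := fun g x => rfl
  have hmem : ∀ g, LinearMap.toMatrix' (f g) ∈ Matrix.symplecticGroup (Fin d) F := fun g => by
    rw [mem_symplectic_iff]
    intro u v
    rw [← Matrix.toLin'_apply, ← Matrix.toLin'_apply, Matrix.toLin'_toMatrix', hf, hf]
    simp only [map_add, LinearMap.add_apply, hBP]
    have e : ∀ z w, sympB d F (P z) w = sympB j F z (π w) := fun z w => by
      rw [symp_skew w (P z), hBP, symp_skew z (π w)]; ring
    rw [e, hπP]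
    have hg := (mem_symplectic_iff g.1).1 g.2 (π u) (π v)
    simp only [map_sub, LinearMap.sub_apply] at hg ⊢
    linear_combination hg
  let θ : Matrix.symplecticGroup (Fin j) F →* Matrix.symplecticGroup (Fin d) F :=
    MonoidHom.mk' (fun g => ⟨LinearMap.toMatrix' (f g), hmem g⟩) (fun g h => by
      refine Subtype.ext ?_
      show LinearMap.toMatrix' (f (g * h)) = LinearMap.toMatrix' (f g) * LinearMap.toMatrix' (f h)
      rw [← LinearMap.toMatrix'_mul]
      congr 1
      refine LinearMap.ext fun x => ?_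
      rw [Module.End.mul_apply, hf, hf g, hf h, Submonoid.coe_mul, ← Matrix.mulVec_mulVec, map_add, hπP,
        add_sub_cancel, add_assoc, ← map_add, sub_add_sub_cancel'])
  refine ⟨θ A, by rw [← map_pow, hr, map_one], fun h => hA (Subtype.ext ?_), ?_⟩
  · refine Matrix.toLin'.injective (LinearMap.ext fun z => ?_)
    have h' := congrArg (fun g : Matrix.symplecticGroup (Fin d) F => Matrix.toLin' g.1 (P z)) h
    change Matrix.toLin' (LinearMap.toMatrix' (f A)) (P z) = Matrix.toLin' 1 (P z) at h'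
    rw [Matrix.toLin'_toMatrix', hf, Matrix.toLin'_one, hπP, LinearMap.id_apply, add_eq_left] at h'
    show Matrix.toLin' A.1 z = Matrix.toLin' 1 z
    rw [Matrix.toLin'_apply, Matrix.toLin'_one, LinearMap.id_apply, ← sub_eq_zero, ← hπP (A.1 *ᵥ z - z), h',
      map_zero]
  · have e : Matrix.toLin' (θ A).1 - 1 = P ∘ₗ (Matrix.toLin' A.1 - 1) ∘ₗ π := by
      show Matrix.toLin' (LinearMap.toMatrix' (f A)) - 1 = _
      rw [Matrix.toLin'_toMatrix', add_sub_cancel_left]
    rw [e]
    refine (Submodule.finrank_mono (LinearMap.range_comp_le_range _ _)).trans ?_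
    exact (LinearMap.finrank_range_le _).trans (by rw [Module.finrank_fintype_fun_eq_card]; simp [two_mul])

end

/-- Derangements of odd prime order of PSp_n(q), q odd, on pairs of complementary totally isotropic subspaces. Here `T = PSp_n(q)`, `n = 2d ≥ 4`, `q` odd, realised through the symplectic matrices over the field `F` with `q` elements; Ω is the set of unordered pairs `{U, W}` of complementary totally isotropic `d`-spaces (`F^n = U ⊕ W`), whose stabilizers are the subgroups of type GL_d(q).2 (maximal except in some small cases; maximality is not assumed); an element of `T` of prime order `r` (a symplectic matrix `x` with `x^r` scalar, `x` not scalar) fixes such a pair when it fixes or interchanges `U` and `W`. For every odd prime `r ≠ p` dividing the number of such pairs, some element of `T` of order `r` fixes no such pair (the action is never `r`-elusive for odd `r ≠ p`). -/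
theorem result {F : Type*} [Field F] [Fintype F] {p : ℕ} [Fact p.Prime] [CharP F p] {q : ℕ} (hq : Fintype.card F = q)
    (d : ℕ) (hd : 2 ≤ d) (hT : (d, q) ≠ (2, 2)) (hodd : Odd q)
    (r : ℕ) [Fact r.Prime] (hr2 : r ≠ 2) (hrp : r ≠ p) (hΩ : r ∣ Nat.card {P : Submodule F (Fin d ⊕ Fin d → F) × Submodule F (Fin d ⊕ Fin d → F) // IsCompl P.1 P.2 ∧ (∀ u ∈ P.1, ∀ v ∈ P.1, Cfsg.sympForm d F u v = 0) ∧ (∀ u ∈ P.2, ∀ v ∈ P.2, Cfsg.sympForm d F u v = 0)} / 2) :
    ∃ x : ↥(Matrix.symplecticGroup (Fin d) F),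
      (∃ z : F, ((x ^ r : ↥(Matrix.symplecticGroup (Fin d) F)) : Matrix (Fin d ⊕ Fin d) (Fin d ⊕ Fin d) F) = z • (1 : Matrix (Fin d ⊕ Fin d) (Fin d ⊕ Fin d) F)) ∧
      (∀ z : F, (x : Matrix (Fin d ⊕ Fin d) (Fin d ⊕ Fin d) F) ≠ z • (1 : Matrix (Fin d ⊕ Fin d) (Fin d ⊕ Fin d) F)) ∧
      ¬ (∃ U W : Submodule F (Fin d ⊕ Fin d → F), IsCompl U W ∧ (∀ u ∈ U, ∀ v ∈ U, Cfsg.sympForm d F u v = 0) ∧ (∀ u ∈ W, ∀ v ∈ W, Cfsg.sympForm d F u v = 0) ∧
        ((U.map (Matrix.toLin' (x : Matrix (Fin d ⊕ Fin d) (Fin d ⊕ Fin d) F)) = U ∧ W.map (Matrix.toLin' (x : Matrix (Fin d ⊕ Fin d) (Fin d ⊕ Fin d) F)) = W) ∨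
         (U.map (Matrix.toLin' (x : Matrix (Fin d ⊕ Fin d) (Fin d ⊕ Fin d) F)) = W ∧ W.map (Matrix.toLin' (x : Matrix (Fin d ⊕ Fin d) (Fin d ⊕ Fin d) F)) = U))) := by
  classical
  have hr := (Fact.out : r.Prime)
  have hq2 : 2 ≤ q := hq ▸ Fintype.one_lt_card
  have hrF : (r : F) ≠ 0 := fun h =>
    hrp ((Nat.prime_dvd_prime_iff_eq (Fact.out : p.Prime) hr).1 ((CharP.cast_eq_zero_iff F p r).1 h)).symm
  have hrq : ¬ r ∣ q := by
    intro h
    obtain ⟨e, hp, he⟩ := FiniteField.card F p
    rw [← hq, he] at h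
    exact hrp ((Nat.prime_dvd_prime_iff_eq hr hp).1 (hr.dvd_of_dvd_pow h))
  obtain ⟨hex1, hex2, hex3⟩ := Nat.find_spec (exists_dvd hq (by omega : 1 ≤ d) hr2 hrq hΩ)
  set j := Nat.find (exists_dvd hq (by omega : 1 ≤ d) hr2 hrq hΩ) with hj
  have hmin : ∀ f, f < j → 1 ≤ f → ¬ r ∣ q ^ f + 1 := fun f hf h1 h =>
    Nat.find_min (exists_dvd hq (by omega : 1 ≤ d) hr2 hrq hΩ) hf ⟨h1, by omega, h⟩
  have hk : ∀ i, 1 ≤ i → r ∣ q ^ i - 1 → 2 * j ≤ i := by
    intro i hi hdi
    set e := orderOf (q : ZMod r) with he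
    have h1 : (q : ZMod r) ^ j = -1 := by
      rw [eq_neg_iff_add_eq_zero]
      exact_mod_cast (ZMod.natCast_eq_zero_iff _ _).2 hex3
    have h2 : e ∣ 2 * j := orderOf_dvd_iff_pow_eq_one.2 (by rw [mul_comm, pow_mul, h1, neg_one_sq])
    have hne : (-1 : ZMod r) ≠ 1 := fun h => by
      have : ((2 : ℕ) : ZMod r) = 0 := by
        push_cast
        linear_combination -h
      exact hr2 ((Nat.prime_dvd_prime_iff_eq hr Nat.prime_two).1 ((ZMod.natCast_eq_zero_iff _ _).1 this))
    have h3 : ¬ e ∣ j := fun h => hne (by rw [← h1, orderOf_dvd_iff_pow_eq_one.1 h])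
    rcases Nat.even_or_odd e with ⟨f, hf⟩ | ho
    · have he0 : e ≠ 0 := fun h => by rw [h, zero_dvd_iff] at h2; omega
      have hsq : ((q : ZMod r) ^ f) ^ 2 = 1 := by
        rw [← pow_mul, show f * 2 = e by omega]
        exact pow_orderOf_eq_one _
      rcases sq_eq_one_iff.1 hsq with h | h
      · exfalso
        have := Nat.le_of_dvd (by omega) (orderOf_dvd_iff_pow_eq_one.2 h)
        omega
      · have hfj : j ≤ f := by
          by_contra hlt
          refine hmin f (by omega) (by omega) ((ZMod.natCast_eq_zero_iff _ _).1 ?_)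
          push_cast
          rw [h, neg_add_cancel]
        have := Nat.le_of_dvd (by omega) ((LargeSylow.dvd_sub_iff (by omega) i).1 hdi)
        omega
    · exact absurd ((Nat.Coprime.dvd_mul_left (Nat.coprime_two_right.2 ho)).1 h2) h3
  obtain ⟨A, hA⟩ := LargeSylow.exists_sp_orderOf hq (show 0 < j by omega) hex3
  obtain ⟨x, hxr, hx1, hxrk⟩ := embJ hex2 A (hA ▸ pow_orderOf_eq_one A)
    (fun h => by rw [h, orderOf_one] at hA; exact hr.one_lt.ne hA)
  refine ⟨x, ⟨1, by rw [hxr, one_smul]; rfl⟩, fun z hz => ?_, ?_⟩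
  · have hzz : z * z = 1 := by
      have hm := (mem_symplectic_iff x.1).1 x.2 (Pi.single (Sum.inl ⟨0, by omega⟩) 1)
        (Pi.single (Sum.inr ⟨0, by omega⟩) 1)
      rw [hz] at hm
      simp only [Matrix.smul_mulVec, Matrix.one_mulVec, map_smul, LinearMap.smul_apply, smul_eq_mul,
        ← mul_assoc] at hm
      refine mul_right_cancel₀ (b := sympB d F (Pi.single (Sum.inl ⟨0, by omega⟩) (1 : F))
        (Pi.single (Sum.inr ⟨0, by omega⟩) 1)) ?_ (by rw [hm, one_mul])
      rw [sympB_eq_sum, Finset.sum_eq_single ⟨0, by omega⟩] <;> simp +contextual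
    have hzr : z ^ r = 1 := by
      have h := congrArg Subtype.val hxr
      rw [SubmonoidClass.coe_pow, hz, _root_.smul_pow, one_pow, Submonoid.coe_one] at h
      have := congrFun (congrFun h (Sum.inl ⟨0, by omega⟩)) (Sum.inl ⟨0, by omega⟩)
      simpa using this
    have hz1 : z = 1 := by
      obtain ⟨k, hk'⟩ := hr.eq_two_or_odd'.resolve_left hr2
      rwa [hk', pow_succ, pow_mul, pow_two, hzz, one_pow, one_mul] at hzr
    exact hx1 (Subtype.ext (by rw [hz, hz1, one_smul]; rfl))
  · rintro ⟨U, W, hc, hU, hW, h⟩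
    set T := Matrix.toLin' (x : Matrix (Fin d ⊕ Fin d) (Fin d ⊕ Fin d) F) with hT
    have hTr : T ^ r = 1 := by
      rw [hT, ← Matrix.toLin'_pow, ← SubmonoidClass.coe_pow, hxr]
      exact Matrix.toLin'_one
    have hT1 : T ≠ 1 := fun h => hx1 (Subtype.ext (Matrix.toLin'.injective (by
      rw [← hT, h]; exact Matrix.toLin'_one.symm)))
    have hB : ∀ u v, sympB d F (T u) (T v) = sympB d F u v := fun u v => by
      rw [hT, Matrix.toLin'_apply, Matrix.toLin'_apply]
      exact IsoStab.form_move x u v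
    rcases h with ⟨hUx, hWx⟩ | ⟨hUx, hWx⟩
    · have hUi : ∀ u ∈ U, T u ∈ U := fun u hu => hUx ▸ Submodule.mem_map_of_mem hu
      have hWi : ∀ u ∈ W, T u ∈ W := fun u hu => hWx ▸ Submodule.mem_map_of_mem hu
      have part : ∀ (X Y : Submodule F (Fin d ⊕ Fin d → F)), IsCompl X Y →
          (∀ u ∈ X, ∀ v ∈ X, Cfsg.sympForm d F u v = 0) → (∀ u ∈ X, T u ∈ X) →
          (∀ u ∈ Y, T u = u) → ∀ u ∈ X, T u = u := by
        intro X Y hXY hX hXi hYf u hu
        rw [← sub_eq_zero]
        refine sympB_nondeg.1 _ fun z => ?_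
        obtain ⟨a, ha, b, hb, rfl⟩ := Submodule.mem_sup.1 (hXY.sup_eq_top ▸ Submodule.mem_top (x := z))
        rw [map_sub, LinearMap.sub_apply, map_add, map_add, sympB_apply (T u) a, sympB_apply u a,
          hX _ (hXi u hu) a ha, hX u hu a ha, zero_add, zero_add]
        nth_rw 1 [← hYf b hb]
        rw [hB, sub_self]
      have key : ∀ (X : Submodule F (Fin d ⊕ Fin d → F)) (hXi : ∀ u ∈ X, T u ∈ X), (∃ u ∈ X, T u ≠ u) →
          2 * j ≤ finrank F (X.map (T - 1)) := by
        intro X hXi hne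
        have h1 := le_finrank_range (φ := T.restrict hXi) hq hrF hrq hk (by
            refine LinearMap.ext fun u => Subtype.ext ?_
            have : ∀ (m : ℕ) (u : X), (((T.restrict hXi) ^ m) u : Fin d ⊕ Fin d → F) = (T ^ m) u := fun m => by
              induction m with
              | zero => intro u; rfl
              | succ m ih => intro u; rw [pow_succ, pow_succ, Module.End.mul_apply, Module.End.mul_apply, ih]; rfl
            rw [this, hTr]
            rfl)
          (fun h => by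
            obtain ⟨u, hu, hne⟩ := hne
            exact hne (congrArg Subtype.val (LinearMap.congr_fun h ⟨u, hu⟩)))
        refine h1.trans (le_of_eq ?_)
        rw [← Submodule.finrank_map_subtype_eq X]
        suffices e : (LinearMap.range (T.restrict hXi - 1)).map X.subtype = X.map (T - 1) by rw [e]
        ext v
        constructor
        · rintro ⟨_, ⟨u, rfl⟩, rfl⟩
          exact ⟨u, u.2, rfl⟩
        · rintro ⟨u, hu, rfl⟩
          exact ⟨_, ⟨⟨u, hu⟩, rfl⟩, rfl⟩
      have hUne : ∃ u ∈ U, T u ≠ u := by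
        by_contra hne
        push Not at hne
        refine hT1 (LinearMap.ext fun z => ?_)
        obtain ⟨a, ha, b, hb, rfl⟩ := Submodule.mem_sup.1 (hc.sup_eq_top ▸ Submodule.mem_top (x := z))
        rw [map_add, hne a ha, part W U hc.symm hW hWi hne b hb]
        rfl
      have hWne : ∃ u ∈ W, T u ≠ u := by
        by_contra hne
        push Not at hne
        refine hT1 (LinearMap.ext fun z => ?_)
        obtain ⟨a, ha, b, hb, rfl⟩ := Submodule.mem_sup.1 (hc.sup_eq_top ▸ Submodule.mem_top (x := z))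
        rw [map_add, hne b hb, part U W hc hU hUi hne a ha]
        rfl
      have h1 := key U hUi hUne
      have h2 := key W hWi hWne
      have hle : ∀ X : Submodule F (Fin d ⊕ Fin d → F), (∀ u ∈ X, T u ∈ X) → X.map (T - 1) ≤ X := by
        rintro X hXi _ ⟨u, hu, rfl⟩
        exact X.sub_mem (hXi u hu) hu
      have hdis : U.map (T - 1) ⊓ W.map (T - 1) = ⊥ :=
        eq_bot_iff.2 ((inf_le_inf (hle U hUi) (hle W hWi)).trans hc.inf_eq_bot.le)
      have h3 := Submodule.finrank_sup_add_finrank_inf_eq (U.map (T - 1)) (W.map (T - 1))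
      rw [hdis, finrank_bot] at h3
      have h4 : finrank F (U.map (T - 1) ⊔ W.map (T - 1) : Submodule F (Fin d ⊕ Fin d → F)) ≤
          finrank F (LinearMap.range (T - 1)) :=
        Submodule.finrank_mono (sup_le LinearMap.map_le_range LinearMap.map_le_range)
      omega
    · obtain ⟨k, hk'⟩ := hr.eq_two_or_odd'.resolve_left hr2
      have hUU : ∀ m, U.map (T ^ (2 * m)) = U := fun m => by
        induction m with
        | zero => rw [mul_zero, pow_zero]; exact Submodule.map_id U
        | succ m ih =>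
          rw [show 2 * (m + 1) = 2 * m + 1 + 1 by ring, pow_succ', Module.End.mul_eq_comp, Submodule.map_comp,
            pow_succ', Module.End.mul_eq_comp, Submodule.map_comp, ih, hUx, hWx]
      have h1 : U.map (T ^ r) = W := by
        rw [hk', pow_succ', Module.End.mul_eq_comp, Submodule.map_comp, hUU, hUx]
      rw [hTr, Module.End.one_eq_id, Submodule.map_id] at h1
      have hb := hc.inf_eq_bot
      have ht := hc.sup_eq_top
      rw [← h1, inf_idem] at hb
      rw [← h1, sup_idem, hb] at ht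
      have h5 := congrArg (fun X : Submodule F (Fin d ⊕ Fin d → F) => finrank F X) ht
      simp only [finrank_top, finrank_bot, finrank_symp] at h5
      omega

end Cfsg.Agent.S5963
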