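import Cfsg.Statements.S5964
import Cfsg.Agent.Classical.Elusive.Subfield
import Cfsg.Agent.Classical.Elusive.Count

set_option autoImplicit false

open Cfsg.Agent

namespace Cfsg.Agent.S5964

/-- Involutions of PSL_n(q) and subfield subgroups. Here `T = PSL_n(F)` for a field `F` with `q = p^f` elements (`n ≥ 2`, `(n, q) ≠ (2, 2), (2, 3)`), `F₀` is the subfield with `q₀` elements where `q = q₀^k` for a prime `k`, and `H` is the subgroup of matrices of determinant 1 lying in the subfield group of `F₀` (invertible matrices over `F₀` times scalars) — a maximal subgroup of type GL_n(q₀) (the case `n = 2`, `q₀ = 2` is excluded); Ω is the set of `T`-conjugates of `H` (cosets of `H`), so an element of `T` of prime order `r` (a matrix `x` of determinant 1 with `x^r` scalar, `x` not scalar) fixes a point of Ω when some conjugate of `x` by a matrix of determinant 1 lies in `H`. Suppose the index of `H` is even. Then every involution of `T` is conjugate in `T` into `H` if and only if either `q` is even, or `k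 = 2` and `(n)_2 ≤ (q − 1)_2`. (For `q` odd and `k` odd the index of `H` is odd, so that case does not arise.) -/
theorem result {F : Type*} [Field F] [Fintype F] {p : ℕ} [Fact p.Prime] [CharP F p] {q : ℕ} (hq : Fintype.card F = q)
    (n : ℕ) (hn : 2 ≤ n) (hT : (n, q) ≠ (2, 2) ∧ (n, q) ≠ (2, 3))
    (F₀ : Subfield F) (k q₀ : ℕ) (hk : k.Prime) (hF₀ : Nat.card ↥F₀ = q₀) (hqk : q = q₀ ^ k) (hC5 : ¬ (n = 2 ∧ q₀ = 2)) (hΩ : 2 ∣ ((Cfsg.Geo.subfieldSubgroup F₀ 1).comap (Matrix.SpecialLinearGroup.toGL : Matrix.SpecialLinearGroup (Fin n) F →* GL (Fin n) F)).index) :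
    (∀ x : Matrix.SpecialLinearGroup (Fin n) F,
      (∃ z : F, ((x ^ 2 : Matrix.SpecialLinearGroup (Fin n) F) : Matrix (Fin n) (Fin n) F) = z • (1 : Matrix (Fin n) (Fin n) F)) →
      (∀ z : F, (x : Matrix (Fin n) (Fin n) F) ≠ z • (1 : Matrix (Fin n) (Fin n) F)) →
      ∃ P : Matrix.SpecialLinearGroup (Fin n) F, P⁻¹ * x * P ∈ ((Cfsg.Geo.subfieldSubgroup F₀ 1).comap (Matrix.SpecialLinearGroup.toGL : Matrix.SpecialLinearGroup (Fin n) F →* GL (Fin n) F))) ↔
    (Odd q → (k = 2 ∧ padicValNat 2 n ≤ padicValNat 2 (q - 1))) := by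
  classical
  subst hq hF₀
  haveI : Nonempty (Fin n) := ⟨⟨0, by omega⟩⟩
  by_cases hodd : Odd (Fintype.card F)
  swap
  · refine iff_of_true (fun x hx _ => ?_) (fun h => absurd h hodd)
    obtain ⟨z, hx⟩ := hx
    have hp2 : p = 2 := by
      obtain ⟨e, he', he⟩ := FiniteField.card F p
      rw [he] at hodd
      by_contra h
      exact hodd (he'.odd_of_ne_two h).pow
    subst hp2
    haveI : CharP (Module.End F (Fin n → F)) 2 :=
      charP_of_injective_algebraMap (FaithfulSMul.algebraMap_injective F _) 2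
    have hroot : ∀ y : F, ∃ d : F, d ^ 2 = y := fun y =>
      ⟨(frobeniusEquiv F 2).symm y, frobeniusEquiv_symm_pow_p F 2 y⟩
    have hz := Classical.Elusive.scalar_ne_zero (by omega) x hx
    obtain ⟨d, rfl⟩ := hroot z
    have hd : d ≠ 0 := fun h => hz (by rw [h, zero_pow two_ne_zero])
    set ψ : Module.End F (Fin n → F) := d⁻¹ • Matrix.toLin' (x : Matrix (Fin n) (Fin n) F) with hψdef
    have hψ : (ψ - 1) ^ 2 = 0 := by
      rw [sub_pow_char_of_commute _ (Commute.one_right ψ), hψdef, _root_.smul_pow,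
        Classical.Elusive.toLin'_pow_smul x hx, smul_smul, ← mul_pow, inv_mul_cancel₀ hd, one_pow, one_smul,
        one_pow, sub_self]
    obtain ⟨m, h0, hm⟩ := MatModule.exists_hasType ψ hψ
    have hle := (MatModule.sub_one_pow_eq_zero_iff hm 2).1 hψ
    have hsum : m.sum = n := by rw [MatModule.sum_eq_finrank hm, Module.finrank_fin_fun]
    refine Classical.Elusive.exists_conj_of_type (by omega) x hd hm ?_
    have hm0 : m ≠ 0 := fun h => by rw [h, Multiset.sum_zero] at hsum; omega
    obtain ⟨a, ha⟩ := Multiset.exists_mem_of_ne_zero hm0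
    refine ⟨a, ha, fun y hy => ?_⟩
    have h1 := hle a ha
    have h2 : a ≠ 0 := fun h => h0 (h ▸ ha)
    rcases (show a = 1 ∨ a = 2 by omega) with rfl | rfl
    · exact ⟨y⁻¹, inv_ne_zero hy, by rw [pow_one, inv_mul_cancel₀ hy]; exact F₀.one_mem⟩
    · obtain ⟨γ, hγ⟩ := hroot y⁻¹
      exact ⟨γ, fun h => inv_ne_zero hy (by rw [← hγ, h, zero_pow two_ne_zero]),
        by rw [hγ, inv_mul_cancel₀ hy]; exact F₀.one_mem⟩
  have hr : ((2 : ℕ) : F) ≠ 0 := Classical.Elusive.cast_ne_zero_of_not_dvd
    (fun h => Nat.not_even_iff_odd.2 hodd (even_iff_two_dvd.2 h))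
  set q₀ := Nat.card F₀ with hq₀
  have hq₀odd : Odd q₀ := Odd.of_dvd_nat (hqk ▸ hodd) (dvd_pow_self _ hk.ne_zero)
  have hk2 : k = 2 := by
    by_contra hk2
    have hkodd := hk.odd_of_ne_two hk2
    haveI : Fintype F₀ := Fintype.ofFinite F₀
    have hq₀' : Fintype.card F₀ = q₀ := by rw [hq₀, Nat.card_eq_fintype_card]
    set H := (Cfsg.Geo.subfieldSubgroup F₀ 1).comap
      (Matrix.SpecialLinearGroup.toGL : Matrix.SpecialLinearGroup (Fin n) F →* GL (Fin n) F) with hH
    set ι₀ : Matrix.SpecialLinearGroup (Fin n) F₀ →* Matrix.SpecialLinearGroup (Fin n) F :=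
      Matrix.SpecialLinearGroup.map F₀.subtype with hι₀
    have hsub : ι₀.range ≤ H := by
      rintro _ ⟨y, rfl⟩
      rw [hH, Subgroup.mem_comap, Classical.Elusive.mem_subfield_iff]
      refine ⟨1, one_ne_zero, fun i j => ?_⟩
      rw [one_mul]
      exact ((y : Matrix (Fin n) (Fin n) F₀) i j).2
    have hinj : Function.Injective ι₀ := fun a b h => Subtype.ext
      (Matrix.map_injective F₀.subtype.injective (congrArg Subtype.val h))
    have hdvd : 2 * Nat.card (Matrix.SpecialLinearGroup (Fin n) F₀) ∣ Nat.card (Matrix.SpecialLinearGroup (Fin n) F) := by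
      rw [← H.card_mul_index, mul_comm 2]
      refine Nat.mul_dvd_mul ?_ hΩ
      rw [Nat.card_congr (MonoidHom.ofInjective hinj).toEquiv]
      exact Subgroup.card_dvd_of_le hsub
    have hSL : ∀ (K : Type _) [Field K] [Fintype K],
        Nat.card (Matrix.SpecialLinearGroup (Fin n) K) * (Fintype.card K - 1) = Nat.card (GL (Fin n) K) := by
      intro K _ _
      have hker : (Matrix.GeneralLinearGroup.det : GL (Fin n) K →* Kˣ).ker =
          (Matrix.SpecialLinearGroup.toGL : Matrix.SpecialLinearGroup (Fin n) K →* GL (Fin n) K).range := by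
        ext g
        constructor
        · intro hg
          exact ⟨⟨g.1, congrArg Units.val hg⟩, Units.ext rfl⟩
        · rintro ⟨y, rfl⟩
          exact Units.ext y.2
      have hdsurj : Function.Surjective (Matrix.GeneralLinearGroup.det : GL (Fin n) K →* Kˣ) := by
        intro u
        refine ⟨Matrix.GeneralLinearGroup.mkOfDetNeZero
          (Matrix.diagonal (Function.update 1 (⟨0, by omega⟩ : Fin n) (u : K))) ?_, Units.ext ?_⟩
        · rw [Matrix.det_diagonal]
          simp [Finset.prod_update_of_mem (Finset.mem_univ _)]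
        · show (Matrix.diagonal (Function.update 1 (⟨0, by omega⟩ : Fin n) (u : K))).det = u
          rw [Matrix.det_diagonal]
          simp [Finset.prod_update_of_mem (Finset.mem_univ _)]
      have h1 := (Matrix.GeneralLinearGroup.det : GL (Fin n) K →* Kˣ).ker.card_mul_index
      rw [Subgroup.index_ker, MonoidHom.range_eq_top.2 hdsurj, Subgroup.card_top, hker,
        ← Nat.card_congr (MonoidHom.ofInjective Matrix.SpecialLinearGroup.toGL_injective).toEquiv,
        Nat.card_eq_fintype_card (α := Kˣ), Fintype.card_units] at h1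
      exact h1
    obtain ⟨s, hs⟩ := hdvd
    have hqF := hSL F
    have hq0F := hSL F₀
    rw [Matrix.card_GL_field, Classical.Elusive.prod_pow_sub _ le_rfl, hs, hqk] at hqF
    rw [Matrix.card_GL_field, Classical.Elusive.prod_pow_sub _ le_rfl, hq₀'] at hq0F
    have h1q : 1 ≤ q₀ := hq₀odd.pos
    have hS : ∀ j, ∃ S, Odd S ∧ (q₀ ^ k) ^ j - 1 = (q₀ ^ j - 1) * S := by
      intro j
      refine ⟨∑ i ∈ Finset.range k, (q₀ ^ j) ^ i, ?_, ?_⟩
      · rw [Nat.odd_iff, Finset.sum_nat_mod, Finset.sum_congr rfl fun i _ =>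
          show (q₀ ^ j) ^ i % 2 = 1 from Nat.odd_iff.1 hq₀odd.pow.pow]
        simpa using Nat.odd_iff.1 hkodd
      · rw [mul_comm, geom_sum_mul_of_one_le (Nat.one_le_pow _ _ h1q), ← pow_mul, ← pow_mul, mul_comm]
    choose S hSodd hS using hS
    have htop : Classical.Elusive.topProd (q₀ ^ k) n n =
        Classical.Elusive.topProd q₀ n n * ∏ i ∈ Finset.range n, S (n - i) := by
      rw [Classical.Elusive.topProd, Classical.Elusive.topProd, ← Finset.prod_mul_distrib]
      exact Finset.prod_congr rfl fun i _ => hS _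
    obtain ⟨A, hA⟩ : ∃ A, ∏ i ∈ Finset.range n, S (n - i) = 2 * A + 1 :=
      Finset.prod_induction _ Odd (fun a b ha hb => ha.mul hb) odd_one fun i _ => hSodd _
    set U := ∏ i ∈ Finset.range n, q₀ ^ i with hU
    have hUodd : Odd U := Finset.prod_induction _ Odd (fun a b ha hb => ha.mul hb) odd_one fun i _ => hq₀odd.pow
    have hU' : ∏ i ∈ Finset.range n, (q₀ ^ k) ^ i = U ^ k := by
      rw [hU, ← Finset.prod_pow]
      exact Finset.prod_congr rfl fun i _ => by rw [← pow_mul, ← pow_mul, mul_comm]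
    rw [hU', htop] at hqF
    have hq1 : q₀ ^ k - 1 = (q₀ - 1) * S 1 := by simpa using hS 1
    set G₀ := Nat.card (Matrix.SpecialLinearGroup (Fin n) F₀) with hG₀
    have hG0 : 0 < G₀ * (q₀ - 1) := by
      have : 1 < q₀ := by rw [← hq₀']; exact Fintype.one_lt_card
      exact Nat.mul_pos Nat.card_pos (by omega)
    have key : (G₀ * (q₀ - 1)) * (2 * s * S 1 * U) = (G₀ * (q₀ - 1)) * (U ^ k * (2 * A + 1)) := by
      calc (G₀ * (q₀ - 1)) * (2 * s * S 1 * U) = 2 * G₀ * s * (q₀ ^ k - 1) * U := by rw [hq1]; ring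
        _ = U ^ k * (Classical.Elusive.topProd q₀ n n * (∏ i ∈ Finset.range n, S (n - i))) * U := by rw [hqF]
        _ = (U * Classical.Elusive.topProd q₀ n n) * (U ^ k * (2 * A + 1)) := by rw [hA]; ring
        _ = (G₀ * (q₀ - 1)) * (U ^ k * (2 * A + 1)) := by rw [hq0F]
    have key2 := Nat.eq_of_mul_eq_mul_left hG0 key
    have hL : Even (2 * s * S 1 * U) := ((even_two_mul s).mul_right _).mul_right _
    rw [key2] at hL
    exact Nat.not_even_iff_odd.2 (hUodd.pow.mul ⟨A, rfl⟩) hL
  subst hk2
  constructor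
  · intro H _
    refine ⟨rfl, ?_⟩
    by_contra hne
    have hrq : 2 ∣ Fintype.card F - 1 := by
      obtain ⟨w, hw⟩ := hodd; omega
    obtain ⟨c, l, hc, hnp, hl, hdet⟩ := Classical.Elusive.exists_det_one hr (show n ≠ 0 by omega) hrq
      (fun hnb => hne hnb.1)
    set sB : ULift.{u_1} (Fin l) → Polynomial F := fun _ => Polynomial.X ^ 2 - Polynomial.C c with hsB
    obtain ⟨x, Φ, hΦ⟩ := Classical.Elusive.exists_sl_blocks (n := n) sB
      (fun _ => Polynomial.monic_X_pow_sub_C c two_ne_zero)
      (by simp [hsB, Polynomial.natDegree_X_pow_sub_C, hl, mul_comm]) (by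
        rw [hsB, Finset.prod_const, Finset.card_univ, Fintype.card_ulift, Fintype.card_fin,
          Polynomial.coeff_zero_eq_eval_zero, Polynomial.eval_pow, Polynomial.eval_sub, Polynomial.eval_pow,
          Polynomial.eval_X, Polynomial.eval_C, zero_pow two_ne_zero, zero_sub, hdet])
    have hpow : (Matrix.toLin' (x : Matrix (Fin n) (Fin n) F)) ^ 2 = c • (1 : Module.End F (Fin n → F)) := by
      have := Classical.Elusive.aeval_eq_zero hΦ (g := Polynomial.X ^ 2 - Polynomial.C c) fun _ => dvd_rfl
      rwa [map_sub, map_pow, Polynomial.aeval_X, Polynomial.aeval_C, Algebra.algebraMap_eq_smul_one,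
        sub_eq_zero] at this
    have hmat : (x : Matrix (Fin n) (Fin n) F) ^ 2 = c • 1 := by
      refine Matrix.toLin'.injective ?_
      rw [Matrix.toLin'_pow, hpow, map_smul, Matrix.toLin'_one]
      rfl
    obtain ⟨Q, hQ⟩ := H x ⟨c, by rw [Matrix.SpecialLinearGroup.coe_pow]; exact hmat⟩ (fun z hz => by
      rw [hz, _root_.smul_pow, one_pow] at hmat
      exact hnp z (smul_left_injective F (one_ne_zero (α := Matrix (Fin n) (Fin n) F)) hmat))
    rw [Subgroup.mem_comap, Classical.Elusive.mem_subfield_iff] at hQ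
    obtain ⟨e, he0, heF⟩ := hQ
    set Y := ((Q⁻¹ * x * Q : Matrix.SpecialLinearGroup (Fin n) F) : Matrix (Fin n) (Fin n) F) with hY
    have heF' : ∀ i j, e * Y i j ∈ F₀ := heF
    have hY2 : Y ^ 2 = c • 1 := by
      rw [hY, Matrix.SpecialLinearGroup.coe_mul, Matrix.SpecialLinearGroup.coe_mul, pow_two]
      have hQQ : (Q : Matrix (Fin n) (Fin n) F) * ((Q⁻¹ : Matrix.SpecialLinearGroup (Fin n) F) : Matrix (Fin n) (Fin n) F) = 1 := by
        rw [← Matrix.SpecialLinearGroup.coe_mul, mul_inv_cancel, Matrix.SpecialLinearGroup.coe_one]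
      set A := ((Q⁻¹ : Matrix.SpecialLinearGroup (Fin n) F) : Matrix (Fin n) (Fin n) F)
      set B := (Q : Matrix (Fin n) (Fin n) F)
      calc A * (x : Matrix (Fin n) (Fin n) F) * B * (A * (x : Matrix (Fin n) (Fin n) F) * B)
          = A * ((x : Matrix (Fin n) (Fin n) F) * (B * A) * (x : Matrix (Fin n) (Fin n) F)) * B := by noncomm_ring
        _ = c • 1 := by
          rw [hQQ, mul_one, ← pow_two, hmat, mul_smul_comm, mul_one, smul_mul_assoc, mul_eq_one_comm.1 hQQ]
    let a0 : Fin n := ⟨0, by omega⟩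
    have hmem : e ^ 2 * c ∈ F₀ := by
      have h1 : ((e • Y) ^ 2) a0 a0 ∈ F₀ := by
        rw [pow_two, Matrix.mul_apply]
        exact F₀.sum_mem fun i _ => F₀.mul_mem (heF' _ _) (heF' _ _)
      rw [_root_.smul_pow, hY2, smul_smul] at h1
      simpa using h1
    obtain ⟨t, ht⟩ := Classical.Elusive.isSquare_of_subfield hqk hodd hmem rfl
    exact hnp (t / e) (by field_simp; linear_combination -ht)
  · intro hR x hx _
    obtain ⟨-, hcond⟩ := hR hodd
    obtain ⟨z, hx⟩ := hx
    have hz := Classical.Elusive.scalar_ne_zero (by omega) x hx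
    obtain ⟨ι, _, s, hs, hirr, hdvd, Φ, hΦ⟩ :=
      Classical.Elusive.exists_split hr hz (Classical.Elusive.toLin'_pow_smul x hx)
    have hsum : ∑ i, (s i).natDegree = n := by
      rw [← Classical.Elusive.finrank_eq_sum Φ hs, Module.finrank_fin_fun]
    have hsq : ∃ d : F, d ^ 2 = z := by
      by_contra hd
      simp only [not_exists] at hd
      have hnb : Classical.Elusive.NoBlock (Fintype.card F) 2 n := ⟨hcond, fun _ _ => by
        rw [hqk, Nat.pow_mod]
        obtain ⟨w, hw⟩ := hq₀odd
        rcases Nat.mod_two_eq_zero_or_one w with h | h <;>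
          [rw [show q₀ % 4 = 1 by omega]; rw [show q₀ % 4 = 3 by omega]] <;> rfl⟩
      have hl : n = 2 * Fintype.card ι := by
        rw [← hsum, Finset.sum_congr rfl fun i _ => by
          rw [Classical.Elusive.factor_eq hd (hs i) (hirr i) (hdvd i), Polynomial.natDegree_X_pow_sub_C],
          Finset.sum_const, Finset.card_univ, smul_eq_mul, mul_comm]
      have hdet := Classical.Elusive.det_eq x hΦ hs
      rw [Finset.prod_congr rfl fun i _ => Classical.Elusive.factor_eq hd (hs i) (hirr i) (hdvd i),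
        Finset.prod_const, Finset.card_univ, Polynomial.coeff_zero_eq_eval_zero, Polynomial.eval_pow,
        Polynomial.eval_sub, Polynomial.eval_pow, Polynomial.eval_X, Polynomial.eval_C, zero_pow two_ne_zero,
        zero_sub] at hdet
      exact Classical.Elusive.not_det_one hl (by omega) hr hnb hz hd hdet
    obtain ⟨d, rfl⟩ := hsq
    have hd : d ≠ 0 := fun h => hz (by rw [h, zero_pow two_ne_zero])
    set φ := Matrix.toLin' (x : Matrix (Fin n) (Fin n) F) with hφ
    -- eigenvectors
    have hlin : ∀ i, ∃ w : F, s i = Polynomial.X - Polynomial.C w ∧ (w = d ∨ w = -d) := by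
      intro i
      have hi1 : (s i).natDegree = 1 := by
        by_cases h : s i = Polynomial.X - Polynomial.C d
        · rw [h, Polynomial.natDegree_X_sub_C]
        · rw [Classical.Elusive.natDegree_factor (hs i) (hirr i) hd (hdvd i) h, orderOf_eq_one_iff]
          obtain ⟨w, hw⟩ := hodd
          rw [hw]
          push_cast
          rw [show (2 : ZMod 2) = 0 from rfl, zero_mul, zero_add]
      refine ⟨-(s i).coeff 0, by rw [map_neg, sub_neg_eq_add]; exact (hs i).eq_X_add_C hi1, ?_⟩
      have h1 := Polynomial.eval_eq_zero_of_dvd_of_eval_eq_zero (hdvd i) (x := -(s i).coeff 0) (by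
        conv_lhs => arg 2; rw [(hs i).eq_X_add_C hi1]
        simp)
      rw [Polynomial.eval_sub, Polynomial.eval_pow, Polynomial.eval_X, Polynomial.eval_C, sub_eq_zero] at h1
      exact sq_eq_sq_iff_eq_or_eq_neg.1 h1
    choose w hw hwd using hlin
    have hcard : Fintype.card ι = n := by
      rw [← hsum, Finset.sum_congr rfl fun i _ => by rw [hw i, Polynomial.natDegree_X_sub_C], Finset.sum_const,
        Finset.card_univ, smul_eq_mul, mul_one]
    obtain ⟨ε⟩ : Nonempty (Fin n ≃ ι) := ⟨Fintype.equivOfCardEq (by simp [hcard])⟩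
    have hv : ∀ c, ∃ v : Fin n → F, Φ v = Pi.single (ε c) 1 := fun c => ⟨Φ.symm _, Φ.apply_symm_apply _⟩
    choose v hv using hv
    set P : Matrix (Fin n) (Fin n) F := Matrix.of fun a c => v c a with hP
    have hP0 : P.det ≠ 0 := by
      intro h0
      obtain ⟨u, hu, hu0⟩ := Matrix.exists_mulVec_eq_zero_iff.2 h0
      have h1 : ∑ c, u c • v c = 0 := by
        rw [← hu0]
        funext a
        simp [hP, Matrix.mulVec, dotProduct, mul_comm]
      refine hu (funext fun c => ?_)
      have h2 := congrFun (congrArg Φ h1) (ε c)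
      rw [map_sum, Finset.sum_apply, Finset.sum_eq_single c, map_smul, hv, map_zero] at h2
      · haveI : Fact (Irreducible (s (ε c))) := ⟨hirr _⟩
        simpa using h2
      · intro c' _ hc'
        rw [map_smul, hv, Pi.smul_apply, Pi.single_eq_of_ne (fun h => hc' (ε.injective h).symm), smul_zero]
      · exact fun h => absurd (Finset.mem_univ c) h
    have hcol : ∀ c, φ (v c) = w (ε c) • v c := fun c => by
      apply Φ.injective
      rw [hΦ, map_smul, hv]
      funext j
      rw [MatModule.rootMul_apply, Pi.smul_apply]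
      rcases eq_or_ne j (ε c) with rfl | hj
      · rw [Pi.single_eq_same, mul_one, Classical.Elusive.root_eq_of_linear (hw _), Algebra.smul_def, mul_one]
        rfl
      · rw [Pi.single_eq_of_ne hj, mul_zero, smul_zero]
    let a0 : Fin n := ⟨0, by omega⟩
    set g : Fin n → F := Function.update 1 a0 P.det⁻¹ with hg
    have hgdet : (P * Matrix.diagonal g).det = 1 := by
      rw [Matrix.det_mul, Matrix.det_diagonal, Finset.prod_eq_single a0]
      · simp [hg, mul_inv_cancel₀ hP0]
      · intro a _ ha; simp [hg, Function.update_of_ne ha]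
      · exact fun h => absurd (Finset.mem_univ _) h
    refine Classical.Elusive.exists_conj_subfield (by omega) x (P * Matrix.diagonal g)
      (Matrix.diagonal fun c => w (ε c)) (hgdet ▸ F₀.one_mem) (hgdet ▸ one_ne_zero) ?_ (inv_ne_zero hd) ?_
    · rw [← mul_assoc, mul_assoc P, Matrix.diagonal_mul_diagonal,
        show (fun c => g c * w (ε c)) = fun c => w (ε c) * g c from funext fun c => mul_comm _ _,
        ← Matrix.diagonal_mul_diagonal, ← mul_assoc]
      congr 1
      refine Matrix.ext_of_mulVec_single fun c => ?_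
      rw [← Matrix.mulVec_mulVec, ← Matrix.mulVec_mulVec, Matrix.mulVec_single_one,
        show P.col c = v c from rfl, Matrix.diagonal_mulVec_single, mul_one]
      have h1 := hcol c
      rw [hφ, Matrix.toLin'_apply] at h1
      rw [h1]
      funext a
      simp [hP, Matrix.mulVec, dotProduct, Pi.single_apply, mul_comm]
    · intro i j
      rcases eq_or_ne i j with rfl | hij
      · rw [Matrix.diagonal_apply_eq]
        rcases hwd (ε i) with h | h <;> rw [h]
        · rw [inv_mul_cancel₀ hd]; exact F₀.one_mem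
        · rw [mul_neg, inv_mul_cancel₀ hd]; exact F₀.neg_mem F₀.one_mem
      · rw [Matrix.diagonal_apply_ne _ hij, mul_zero]
        exact F₀.zero_mem

end Cfsg.Agent.S5964
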