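import Cfsg.Statements.S5965
import Cfsg.Agent.Classical.Elusive.SubfieldCases

set_option autoImplicit false
open scoped MatrixGroups
open Cfsg

open Cfsg.Agent Cfsg.Agent.Classical.Elusive Cfsg.Agent.MatModule

set_option maxHeartbeats 1600000

namespace Cfsg.Agent.S5965

/-- Elements of odd prime order r ≠ p of PSL_n(q) and subfield subgroups. Here `T = PSL_n(F)` for a field `F` with `q = p^f` elements (`n ≥ 2`, `(n, q) ≠ (2, 2), (2, 3)`), `F₀` is the subfield with `q₀` elements where `q = q₀^k` for a prime `k`, and `H` is the subgroup of matrices of determinant 1 lying in the subfield group of `F₀` (invertible matrices over `F₀` times scalars) — a maximal subgroup of type GL_n(q₀) (the case `n = 2`, `q₀ = 2` is excluded); Ω is the set of `T`-conjugates of `H` (cosets of `H`), so an element of `T` of prime order `r` (a matrix `x` of determinant 1 with `x^r` scalar, `x` not scalar) fixes a point of Ω when some conjugate of `x` by a matrix of determinant 1 lies in `H`. Let `r ≠ p` be an odd prime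 dividing the index of `H`, with `(n, r) ≠ (6, 3)` and, when `r = k` divides `q₀ − 1`, with `(n)_r ≤ (q − 1)_r`. Then every element of `T` of order `r` is conjugate in `T` into `H` if and only if `r = k`, or `k = 2`, `r = n ∈ {3, 5}` and `(q₀ + 1)_r = r`. The two excluded cases, `(n, r) = (6, 3)` and `r = k ∣ q₀ − 1` with `(n)_r > (q − 1)_r`, are ones where this criterion can fail, so they are left out. -/
theorem result {F : Type*} [Field F] [Fintype F] {p : ℕ} [Fact p.Prime] [CharP F p] {q : ℕ} (hq : Fintype.card F = q)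
    (n : ℕ) (hn : 2 ≤ n) (hT : (n, q) ≠ (2, 2) ∧ (n, q) ≠ (2, 3))
    (F₀ : Subfield F) (k q₀ : ℕ) (hk : k.Prime) (hF₀ : Nat.card ↥F₀ = q₀) (hqk : q = q₀ ^ k) (hC5 : ¬ (n = 2 ∧ q₀ = 2)) (r : ℕ) [Fact r.Prime] (hr2 : r ≠ 2) (hrp : r ≠ p) (hgap : ¬ (n = 6 ∧ r = 3)) (hgapk : r = k → r ∣ q₀ - 1 → padicValNat r n ≤ padicValNat r (q - 1)) (hΩ : r ∣ ((Cfsg.Geo.subfieldSubgroup F₀ 1).comap (Matrix.SpecialLinearGroup.toGL : Matrix.SpecialLinearGroup (Fin n) F →* GL (Fin n) F)).index) :
    (∀ x : Matrix.SpecialLinearGroup (Fin n) F,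
      (∃ z : F, ((x ^ r : Matrix.SpecialLinearGroup (Fin n) F) : Matrix (Fin n) (Fin n) F) = z • (1 : Matrix (Fin n) (Fin n) F)) →
      (∀ z : F, (x : Matrix (Fin n) (Fin n) F) ≠ z • (1 : Matrix (Fin n) (Fin n) F)) →
      ∃ P : Matrix.SpecialLinearGroup (Fin n) F, P⁻¹ * x * P ∈ ((Cfsg.Geo.subfieldSubgroup F₀ 1).comap (Matrix.SpecialLinearGroup.toGL : Matrix.SpecialLinearGroup (Fin n) F →* GL (Fin n) F))) ↔
    (r = k ∨ (k = 2 ∧ r = n ∧ (n = 3 ∨ n = 5) ∧ padicValNat r (q₀ + 1) = 1)) := by
  classical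
  subst hq hF₀
  haveI : Fintype F₀ := Fintype.ofFinite F₀
  have hr1 := (Fact.out : r.Prime)
  have hr3 : 3 ≤ r := by have := hr1.two_le; omega
  have hp := (Fact.out : p.Prime)
  have hrF : ¬ r ∣ Fintype.card F := by
    obtain ⟨f, -, hf⟩ := FiniteField.card F p
    rw [hf]
    exact fun h => hrp ((Nat.prime_dvd_prime_iff_eq hr1 hp).1 (hr1.dvd_of_dvd_pow h))
  have hr : (r : F) ≠ 0 := cast_ne_zero_of_not_dvd hrF
  have hq0 : 2 ≤ (Nat.card F₀) := Finite.one_lt_card
  have hrq0 : ¬ r ∣ (Nat.card F₀) := fun h => hrF (hqk ▸ dvd_pow h hk.ne_zero)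
  obtain ⟨σ, hσ, hfix⟩ := exists_subfieldPow (p := p) hk.ne_zero hqk
  have hqZ : (Fintype.card F : ZMod r) = ((Nat.card F₀) : ZMod r) ^ k := by rw [hqk, Nat.cast_pow]
  set i₀ := orderOf ((Nat.card F₀) : ZMod r) with hi₀
  have hi₀pos : 0 < i₀ := LargeSylow.order_pos hrq0
  by_cases hrk : r = k
  · -- field automorphisms of order r
    refine iff_of_true (fun x hx _ => ?_) (Or.inl hrk)
    obtain ⟨c, hc⟩ := hx
    have hord : orderOf ((Nat.card F₀) : ZMod r) = orderOf (Fintype.card F : ZMod r) := by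
      rw [hqZ, ← hrk, ZMod.pow_card]
    obtain ⟨d, hd, hdc⟩ : ∃ d : F, d ≠ 0 ∧ d ^ r = c := by
      by_cases hq1 : r ∣ Fintype.card F - 1
      · refine exists_root hr (by omega) ⟨hgapk hrk ?_, fun h => absurd h hr2⟩ x hc
        have h1 := (LargeSylow.dvd_sub_iff Fintype.card_pos 1).1 (by simpa using hq1)
        rw [← hord] at h1
        have h2 := (LargeSylow.dvd_sub_iff (show 1 ≤ (Nat.card F₀) by omega) 1).2 h1
        rwa [pow_one] at h2
      · have hc0 := scalar_ne_zero (by omega) x hc
        by_contra hcon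
        exact hq1 (dvd_card_sub_one hc0 fun b hb => hcon ⟨b, fun h => hc0 (by
          rw [← hb, h, zero_pow hr1.ne_zero]), hb⟩)
    exact exists_conj_of_order hr (by omega) hord x hd (hdc.symm ▸ hc)
  -- the index forces k to divide the order of (Nat.card F₀) modulo r
  have hki : k ∣ i₀ := by
    by_contra hki
    refine not_dvd_index hqk (by omega) hrF (fun j _ _ hdS => hrk ?_) hΩ
    have h1 : r ∣ (Nat.card F₀) ^ j - 1 := by
      have h2 : r ∣ Fintype.card F ^ j - 1 := by
        rw [hqk, ← pow_mul, mul_comm, pow_mul, ← geom_sum_mul_of_one_le (Nat.one_le_pow _ _ (by omega))]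
        exact dvd_mul_of_dvd_left hdS _
      rw [LargeSylow.dvd_sub_iff Fintype.card_pos, hqZ, orderOf_pow' _ hk.ne_zero,
        Nat.Coprime.gcd_eq_one ((hk.coprime_iff_not_dvd.2 hki).symm), Nat.div_one] at h2
      exact (LargeSylow.dvd_sub_iff (by omega) j).2 h2
    have h3 : (((Nat.card F₀) : ZMod r)) ^ j = 1 := by
      have := (ZMod.natCast_eq_zero_iff ((Nat.card F₀) ^ j - 1) r).2 h1
      rwa [Nat.cast_sub (Nat.one_le_pow _ _ (by omega)), Nat.cast_pow, Nat.cast_one, sub_eq_zero] at this
    have h4 := (ZMod.natCast_eq_zero_iff _ r).2 hdS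
    simp only [Nat.cast_sum, Nat.cast_pow, h3, one_pow, Finset.sum_const, Finset.card_range, nsmul_eq_mul, mul_one] at h4
    exact (Nat.prime_dvd_prime_iff_eq hr1 hk).1 ((ZMod.natCast_eq_zero_iff k r).1 h4)
  obtain ⟨i, hi⟩ := hki
  have hiq : orderOf (Fintype.card F : ZMod r) = i := by
    rw [hqZ, orderOf_pow' _ hk.ne_zero, ← hi₀, hi, Nat.gcd_mul_right_left, Nat.mul_div_cancel_left _ hk.pos]
  have hipos : 0 < i := Nat.pos_of_ne_zero fun h => by rw [h, mul_zero] at hi; omega
  by_cases hq1 : r ∣ Fintype.card F - 1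
  swap
  · -- an irreducible block
    refine iff_of_false (fun H => ?_) ?_
    · by_cases hin : i ≤ n
      · obtain ⟨x, hx, hns, hbad⟩ := exists_bad_block (n := n) hfix hr hq1 (hiq ▸ hin) (by
          rw [hiq, ← hi₀, hi]
          exact lt_mul_of_one_lt_left hipos hk.one_lt)
        obtain ⟨Q, hQ⟩ := H x hx hns
        exact hbad Q hQ
      · refine not_dvd_index hqk (by omega) hrF (fun j hj2 hjn hdS => ?_) hΩ
        have h2 : r ∣ Fintype.card F ^ j - 1 := by
          rw [hqk, ← pow_mul, mul_comm, pow_mul, ← geom_sum_mul_of_one_le (Nat.one_le_pow _ _ (by omega))]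
          exact dvd_mul_of_dvd_left hdS _
        rw [LargeSylow.dvd_sub_iff Fintype.card_pos, hiq] at h2
        exact hin (le_trans (Nat.le_of_dvd (by omega) h2) hjn)
    · rintro (h | ⟨hk2, -, -, hv⟩)
      · exact hrk h
      · refine hq1 ?_
        have h1 : r ∣ (Nat.card F₀) + 1 := dvd_of_one_le_padicValNat hv.ge
        rw [hqk, hk2, show (Nat.card F₀) ^ 2 - 1 = ((Nat.card F₀) + 1) * ((Nat.card F₀) - 1) by rw [← Nat.sq_sub_sq, one_pow]]
        exact dvd_mul_of_dvd_left h1 _
  -- r divides q - 1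
  have hi1 : i = 1 := by
    rw [← hiq]
    exact Nat.dvd_one.1 ((LargeSylow.dvd_sub_iff Fintype.card_pos 1).1 (by rwa [pow_one]))
  rw [hi1, mul_one] at hi
  have hkr : k ∣ r - 1 := by
    rw [← hi]
    refine ZMod.orderOf_dvd_card_sub_one fun h0 => hrq0 ((ZMod.natCast_eq_zero_iff (Nat.card F₀) r).1 h0)
  have hq0r : ¬ r ∣ (Nat.card F₀) - 1 := fun h => by
    have h1 := (LargeSylow.dvd_sub_iff (show 1 ≤ (Nat.card F₀) by omega) 1).1 (by simpa using h)
    change i₀ ∣ 1 at h1
    rw [hi, Nat.dvd_one] at h1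
    exact hk.one_lt.ne' h1
  have hk2q : k = 2 → r ∣ (Nat.card F₀) + 1 := fun hk2 => by
    rw [hqk, hk2, show (Nat.card F₀) ^ 2 - 1 = ((Nat.card F₀) + 1) * ((Nat.card F₀) - 1) by rw [← Nat.sq_sub_sq, one_pow]] at hq1
    exact (hr1.dvd_mul.1 hq1).resolve_right hq0r
  have hv2 : k = 2 → padicValNat r (Fintype.card F - 1) = padicValNat r ((Nat.card F₀) + 1) := fun hk2 => by
    rw [hqk, hk2, show (Nat.card F₀) ^ 2 - 1 = ((Nat.card F₀) + 1) * ((Nat.card F₀) - 1) by rw [← Nat.sq_sub_sq, one_pow],
      padicValNat.mul (by omega) (by omega), padicValNat.eq_zero_of_not_dvd hq0r, add_zero]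
  obtain ⟨w, hw⟩ := exists_prime_orderOf_dvd_card' (G := Fˣ) r (by
    rw [Nat.card_eq_fintype_card, Fintype.card_units]; exact hq1)
  have hζ : IsPrimitiveRoot (w : F) r := by
    rw [← hw, ← orderOf_units]; exact IsPrimitiveRoot.orderOf _
  have hσr : ∀ y : F, y ^ r = 1 → σ y = y → y = 1 := fun y hy hy' => by
    have hy0 : y ≠ 0 := fun h => by rw [h, zero_pow hr1.ne_zero] at hy; exact zero_ne_one hy
    rw [hσ, show (Nat.card F₀) = (Nat.card F₀) - 1 + 1 by omega, pow_succ] at hy'
    have h2 := pow_gcd_eq_one.2 ⟨hy, (mul_eq_right₀ hy0).1 hy'⟩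
    rwa [(hr1.coprime_iff_not_dvd.2 hq0r).gcd_eq_one, pow_one] at h2
  have hFadd : ∀ a b : ZMod r, (w : F) ^ (a + b).val = (w : F) ^ a.val * (w : F) ^ b.val := fun a b => by
    rw [← pow_add, ZMod.val_add, ← pow_mod_orderOf, ← hζ.eq_orderOf, Nat.mod_mod, pow_mod_orderOf (w : F)
      (a.val + b.val) |>.symm, ← hζ.eq_orderOf]
  by_cases hR : k = 2 ∧ r = n ∧ (n = 3 ∨ n = 5) ∧ padicValNat r ((Nat.card F₀) + 1) = 1
  · refine iff_of_true (fun x hx _ => ?_) (Or.inr hR)
    obtain ⟨hk2, rfl, hn35, hv⟩ := hR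
    obtain ⟨c, hc⟩ := hx
    have hv1 : padicValNat r (Fintype.card F - 1) = 1 := (hv2 hk2).trans hv
    obtain ⟨d, hd, hdc⟩ := exists_root hr (by omega) ⟨by rw [padicValNat_self, hv1], fun h => absurd h hr2⟩ x hc
    have hcr : c ^ r = 1 := by
      have h1 := congrArg Matrix.det hc
      rw [Matrix.SpecialLinearGroup.det_coe, Matrix.det_smul, Matrix.det_one, mul_one, Fintype.card_fin] at h1
      exact h1.symm
    have hd1 : d ^ r = 1 := by
      have h1 := pow_gcd_eq_one.2 ⟨(show d ^ (r ^ 2) = 1 by rw [pow_two, pow_mul, hdc, hcr]),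
        FiniteField.pow_card_sub_one_eq_one d hd⟩
      obtain ⟨e, he, hge⟩ := (Nat.dvd_prime_pow hr1).1 (Nat.gcd_dvd_left (r ^ 2) (Fintype.card F - 1))
      rw [hge] at h1
      have he1 : e ≤ 1 := by
        have h2 : r ^ e ∣ Fintype.card F - 1 := hge ▸ Nat.gcd_dvd_right _ _
        have := (padicValNat_dvd_iff_le (Nat.sub_pos_of_lt Fintype.one_lt_card).ne').1 h2
        omega
      interval_cases e
      · rw [pow_zero, pow_one] at h1; rw [h1, one_pow]
      · rwa [pow_one] at h1
    rw [← hdc, hd1, one_smul] at hc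
    obtain ⟨E, a, hE, har, haprod, hxE⟩ := exists_diag_frame hr hq1 x hc
    have hm : ∀ j, ∃ m : ZMod r, (w : F) ^ m.val = a j := fun j => by
      obtain ⟨e, he, hea⟩ := hζ.eq_pow_of_pow_eq_one (har j)
      exact ⟨(e : ZMod r), by rw [ZMod.val_natCast, Nat.mod_eq_of_lt he, hea]⟩
    choose m hm using hm
    have hm0 : ∑ j, m j = 0 := by
      have h1 : ∀ s : Finset (Fin r), (w : F) ^ (∑ j ∈ s, m j).val = ∏ j ∈ s, a j := by
        intro s
        induction s using Finset.induction with
        | empty => simp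
        | insert j s hj ih => rw [Finset.sum_insert hj, Finset.prod_insert hj, hFadd, ih, hm]
      have h2 := h1 Finset.univ
      rw [haprod] at h2
      have h4 : r ∣ (∑ j, m j).val := (hζ.pow_eq_one_iff_dvd _).1 h2
      exact (ZMod.val_eq_zero _).1 (Nat.eq_zero_of_dvd_of_lt h4 (ZMod.val_lt _))
    obtain ⟨u, π, hπ, hπu⟩ := exists_centre hn35 m hm0
    refine exists_conj_of_pairs (p := p) (hk2 ▸ hqk) (by omega) x hE hxE (c := (w : F) ^ u.val)
      (pow_ne_zero _ w.ne_zero) π hπ fun j => ?_
    rw [← hm j, ← hm (π j), ← hFadd, ← hFadd, add_comm u, add_comm u, hπu j, ← pow_mul, ← pow_mod_orderOf,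
      ← hζ.eq_orderOf]
    congr 1
    refine (Nat.mod_eq_of_lt (ZMod.val_lt (-(m j + u)))) ▸ ?_
    refine ((ZMod.natCast_eq_natCast_iff' _ _ r).1 ?_)
    have hneg : ((Nat.card F₀) : ZMod r) = -1 := by
      have h := (ZMod.natCast_eq_zero_iff ((Nat.card F₀) + 1) r).2 (hk2q hk2)
      push_cast at h
      linear_combination h
    rw [Nat.cast_mul, ZMod.natCast_val, ZMod.cast_id, hneg, ZMod.natCast_val, ZMod.cast_id]
    ring
  refine iff_of_false (fun H => ?_) (by rintro (h | h) <;> [exact hrk h; exact hR h])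
  -- diagonal elements with asymmetric spectrum
  have bad : ∀ (z : F) (a : Fin n → F), (∏ j, a j) = 1 → (∀ j, a j ^ r = z) → ∀ j₁ j₂, a j₁ ≠ a j₂ →
      ∀ A B : F, A = a j₁ → B = a j₂ →
      (∀ v : F, (Finset.univ.filter fun j => a j = v).card = (Finset.univ.filter fun j => a j = A).card → v = A) →
      (∀ v : F, (Finset.univ.filter fun j => a j = v).card = (Finset.univ.filter fun j => a j = B).card → v = B) →
      False := by
    intro z a hprod hza j₁ j₂ hne A B hA hB hAu hBu
    obtain ⟨x, hx⟩ : ∃ x : Matrix.SpecialLinearGroup (Fin n) F, (x : Matrix (Fin n) (Fin n) F) = Matrix.diagonal a :=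
      ⟨⟨Matrix.diagonal a, by rw [Matrix.det_diagonal, hprod]⟩, rfl⟩
    obtain ⟨Q, hQ⟩ := H x ⟨z, by
      rw [Matrix.SpecialLinearGroup.coe_pow, hx, Matrix.diagonal_pow, Matrix.smul_one_eq_diagonal]
      congr 1
      funext l
      simp [hza]⟩ (fun c hc => hne (by
        rw [hx] at hc
        have e1 := congrFun (congrFun hc j₁) j₁
        have e2 := congrFun (congrFun hc j₂) j₂
        simp at e1 e2
        exact e1.trans e2.symm))
    obtain ⟨t, ht, hcount⟩ := count_invariant hfix x hx hQ
    have hA' := hAu _ (hcount A)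
    have hB' := hBu _ (hcount B)
    have hA0 : A ≠ 0 := fun h0 => by
      rw [hA] at h0
      rw [Finset.prod_eq_zero (Finset.mem_univ j₁) h0] at hprod
      exact zero_ne_one hprod
    have h1 : (B / A) ^ r = 1 := by
      rw [hA, hB, div_pow, hza, hza, div_self (by rw [← hza j₁, ← hA]; exact pow_ne_zero _ hA0)]
    have h2 : σ (B / A) = B / A := by
      rw [map_div₀, div_eq_div_iff ((map_ne_zero σ).2 hA0) hA0]
      exact mul_left_cancel₀ ht (by linear_combination A * hB' - B * hA')
    exact hne ((div_eq_one_iff_eq hA0).1 (hσr _ h1 h2) |>.symm |> fun e => by rw [← hA, ← hB]; exact e)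
  have hwr : ∀ e : ℕ, ((w : F) ^ e) ^ r = 1 := fun e => by rw [← pow_mul, mul_comm, pow_mul, hζ.pow_eq_one, one_pow]
  rcases eq_or_lt_of_le hn with hn2 | hn3
  · subst hn2
    by_cases hk2 : k = 2
    · refine not_dvd_index hqk (by omega) hrF (fun j hj2 hjn hdS => ?_) hΩ
      obtain rfl : j = 2 := by omega
      have h4 := (ZMod.natCast_eq_zero_iff _ r).2 hdS
      have hneg : ((Nat.card F₀) : ZMod r) = -1 := by
        have h := (ZMod.natCast_eq_zero_iff ((Nat.card F₀) + 1) r).2 (hk2q hk2)
        push_cast at h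
        linear_combination h
      subst hk2
      rw [Finset.sum_range_succ, Finset.sum_range_succ, Finset.sum_range_zero] at h4
      push_cast at h4
      rw [hneg] at h4
      have h5 : ((2 : ℕ) : ZMod r) = 0 := by push_cast; linear_combination h4
      have := Nat.le_of_dvd (by norm_num) ((ZMod.natCast_eq_zero_iff 2 r).1 h5)
      omega
    · have hw0 := w.ne_zero
      obtain ⟨x, hx, hxr, hxs⟩ := exists_diag_elem (r := r) ![(w : F), (w : F)⁻¹]
        (by simp [mul_inv_cancel₀ hw0]) (by
          intro j; fin_cases j <;> simp [hζ.pow_eq_one]) (i := 0) (j := 1) (by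
          intro e
          simp at e
          have h2 : (w : F) ^ 2 = 1 := by rw [pow_two]; nth_rewrite 2 [e]; exact mul_inv_cancel₀ hw0
          have := Nat.le_of_dvd (by norm_num) ((hζ.pow_eq_one_iff_dvd 2).1 h2)
          omega)
      obtain ⟨Q, hQ⟩ := H x ⟨1, hxr⟩ hxs
      obtain ⟨t, ht, hcount⟩ := count_invariant hfix x hx hQ
      have hval : ∀ j : Fin 2, ∃ l : Fin 2, ![(w : F), (w : F)⁻¹] l = t * σ (![(w : F), (w : F)⁻¹] j) := by
        intro j
        have h1 := hcount (![(w : F), (w : F)⁻¹] j)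
        have h2 : 0 < (Finset.univ.filter fun l => ![(w : F), (w : F)⁻¹] l = ![(w : F), (w : F)⁻¹] j).card :=
          Finset.card_pos.2 ⟨j, by simp⟩
        rw [← h1] at h2
        obtain ⟨l, hl⟩ := Finset.card_pos.1 h2
        exact ⟨l, (Finset.mem_filter.1 hl).2⟩
      obtain ⟨l₀, hl₀⟩ := hval 0
      obtain ⟨l₁, hl₁⟩ := hval 1
      have hσw : σ (w : F) ≠ 0 := (map_ne_zero σ).2 hw0
      simp only [Matrix.cons_val_zero, Matrix.cons_val_one, map_inv₀] at hl₀ hl₁
      have hsq : ((w : F) ^ 2) ^ r = 1 := hwr 2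
      have no1 : σ ((w : F) ^ 2) ≠ (w : F) ^ 2 := fun e => by
        have := Nat.le_of_dvd (by norm_num) ((hζ.pow_eq_one_iff_dvd 2).1 (hσr _ hsq e))
        omega
      have no2 : σ ((w : F) ^ 2) * (w : F) ^ 2 ≠ 1 := fun e => by
        rw [hσ, ← pow_mul, ← pow_add] at e
        have h1 : r ∣ (Nat.card F₀) + 1 := by
          have h2 := (hζ.pow_eq_one_iff_dvd _).1 e
          rw [show 2 * Nat.card F₀ + 2 = 2 * ((Nat.card F₀) + 1) by ring] at h2
          exact (hr1.dvd_mul.1 h2).resolve_left fun h => by have := Nat.le_of_dvd (by norm_num) h; omega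
        have h3 : ((Nat.card F₀) : ZMod r) ^ 2 = 1 := by
          have h := (ZMod.natCast_eq_zero_iff ((Nat.card F₀) + 1) r).2 h1
          push_cast at h
          linear_combination (((Nat.card F₀) : ZMod r) - 1) * h
        have h4 := orderOf_dvd_of_pow_eq_one h3
        rw [← hi₀, hi] at h4
        exact hk2 ((Nat.prime_dvd_prime_iff_eq hk Nat.prime_two).1 h4)
      have hne' : (w : F) ^ 2 ≠ 1 := fun e => no1 (by rw [e, map_one])
      have hv : ∀ l : Fin 2, ![(w : F), (w : F)⁻¹] l = (w : F) ∨ ![(w : F), (w : F)⁻¹] l = (w : F)⁻¹ := fun l => by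
        fin_cases l <;> simp
      have same : t * σ (w : F) ≠ t * (σ (w : F))⁻¹ := fun e => hne' (σ.injective (by
        rw [map_pow, map_one, pow_two]
        nth_rewrite 2 [mul_left_cancel₀ ht e]
        exact mul_inv_cancel₀ hσw))
      have tt : t * t = (t * σ (w : F)) * (t * (σ (w : F))⁻¹) := by field_simp
      rcases hv l₀ with e0 | e0 <;> rcases hv l₁ with e1 | e1 <;> rw [e0] at hl₀ <;> rw [e1] at hl₁
      · exact same (hl₀.symm.trans hl₁)
      · rw [← hl₀, ← hl₁, mul_inv_cancel₀ hw0] at tt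
        refine no1 ?_
        rw [map_pow]
        calc σ (w : F) ^ 2 = (t * t) * σ (w : F) ^ 2 := by rw [tt, one_mul]
          _ = (t * σ (w : F)) ^ 2 := by ring
          _ = (w : F) ^ 2 := by rw [← hl₀]
      · rw [← hl₀, ← hl₁, inv_mul_cancel₀ hw0] at tt
        refine no2 ?_
        rw [map_pow]
        calc σ (w : F) ^ 2 * (w : F) ^ 2 = (t * t) * σ (w : F) ^ 2 * (w : F) ^ 2 := by rw [tt, one_mul]
          _ = (t * σ (w : F) * (w : F)) ^ 2 := by ring
          _ = 1 := by rw [← hl₀, inv_mul_cancel₀ hw0, one_pow]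
      · exact same (hl₀.symm.trans hl₁)
  -- at least three eigenvalues
  by_cases hrn : r ∣ n
  swap
  · obtain ⟨e, he⟩ : ∃ e : ℕ, r ∣ n * e + 1 := by
      refine ⟨(-(n : ZMod r)⁻¹).val, (ZMod.natCast_eq_zero_iff _ r).1 ?_⟩
      have hn0 : (n : ZMod r) ≠ 0 := fun h => hrn ((ZMod.natCast_eq_zero_iff n r).1 h)
      push_cast
      rw [ZMod.natCast_val, ZMod.cast_id, mul_neg, mul_inv_cancel₀ hn0, neg_add_cancel]
    set a : Fin n → F := fun j => if (j : ℕ) < n - 1 then (w : F) ^ e else (w : F) ^ (e + 1) with ha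
    have hne : (w : F) ^ e ≠ (w : F) ^ (e + 1) := fun h => hζ.ne_one (by omega) (by
      rw [pow_succ] at h
      exact ((mul_eq_left₀ (pow_ne_zero e w.ne_zero)).1 h.symm))
    have c1 : (Finset.univ.filter fun j => a j = (w : F) ^ e).card = n - 1 := by
      refine Eq.trans ?_ ((card_filter_range (n := n) (lo := 0) (hi := n - 1) (by omega)).trans (Nat.sub_zero _))
      congr 1; ext j; simp only [ha, Finset.mem_filter, Finset.mem_univ, true_and]
      split_ifs with h <;> simp [h, hne.symm]
    have c2 : (Finset.univ.filter fun j => a j = (w : F) ^ (e + 1)).card = 1 := by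
      refine Eq.trans ?_ ((card_filter_range (n := n) (lo := n - 1) (hi := n) le_rfl).trans (by omega))
      congr 1; ext j; simp only [ha, Finset.mem_filter, Finset.mem_univ, true_and]
      have := j.2
      split_ifs with h <;> simp [hne] <;> omega
    have c3 : ∀ v, v ≠ (w : F) ^ e → v ≠ (w : F) ^ (e + 1) → (Finset.univ.filter fun j => a j = v).card = 0 := by
      intro v h1 h2
      rw [Finset.card_eq_zero, Finset.filter_eq_empty_iff]
      intro j _; simp only [ha]; split_ifs <;> [exact h1.symm; exact h2.symm]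
    refine bad 1 a ?_ (fun j => by simp only [ha]; split_ifs <;> exact hwr _) ⟨0, by omega⟩ ⟨n - 1, by omega⟩
      (by simp only [ha]; rw [if_pos (by omega), if_neg (lt_irrefl _)]; exact hne) _ _
      (by simp only [ha]; rw [if_pos (by omega)]) (by simp only [ha]; rw [if_neg (lt_irrefl _)]) ?_ ?_
    · have hp0 : (∏ j, a j) = (w : F) ^ (n * e + 1) := by
        simp only [ha]
        rw [Fin.prod_univ_eq_prod_range (fun j => if j < n - 1 then (w : F) ^ e else (w : F) ^ (e + 1)) n,
          show n = n - 1 + 1 by omega, Finset.prod_range_succ, show n - 1 + 1 - 1 = n - 1 by omega, if_neg (lt_irrefl _),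
          Finset.prod_congr rfl (fun j hj => if_pos (Finset.mem_range.1 hj)), Finset.prod_const, Finset.card_range,
          ← pow_mul, ← pow_add]
        congr 1
        ring
      rw [hp0, hζ.pow_eq_one_iff_dvd]
      exact he
    · intro v hv
      by_contra h1
      by_cases h2 : v = (w : F) ^ (e + 1)
      · rw [h2, c2, c1] at hv; omega
      · rw [c3 v h1 h2, c1] at hv; omega
    · intro v hv
      by_contra h1
      by_cases h2 : v = (w : F) ^ e
      · rw [h2, c2, c1] at hv; omega
      · rw [c3 v h2 h1, c2] at hv; omega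
  -- r divides n
  have three : ∀ (z A B C : F) (l₁ l₂ : ℕ), l₁ ≤ l₂ → l₂ ≤ n → A ≠ B → A ≠ C → B ≠ C →
      0 < l₁ → 0 < l₂ - l₁ → l₁ ≠ l₂ - l₁ → l₁ ≠ n - l₂ → l₂ - l₁ ≠ n - l₂ →
      A ^ r = z → B ^ r = z → C ^ r = z → A ^ l₁ * B ^ (l₂ - l₁) * C ^ (n - l₂) = 1 → False := by
    intro z A B C l₁ l₂ h12 h2n hAB hAC hBC h1 h2 d1 d2 d3 hA hB hC hprod
    set a : Fin n → F := fun j => if (j : ℕ) < l₁ then A else if (j : ℕ) < l₂ then B else C with ha
    have cA : (Finset.univ.filter fun j => a j = A).card = l₁ := by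
      rw [← Nat.sub_zero l₁, ← card_filter_range (n := n) (lo := 0) (hi := l₁) (by omega)]
      congr 1; ext j; simp only [ha, Finset.mem_filter, Finset.mem_univ, true_and]
      split_ifs <;> simp [hAB.symm, hAC.symm] <;> omega
    have cB : (Finset.univ.filter fun j => a j = B).card = l₂ - l₁ := by
      rw [← card_filter_range (n := n) (lo := l₁) (hi := l₂) (by omega)]
      congr 1; ext j; simp only [ha, Finset.mem_filter, Finset.mem_univ, true_and]
      split_ifs <;> simp [hAB, hBC.symm] <;> omega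
    have cC : (Finset.univ.filter fun j => a j = C).card = n - l₂ := by
      rw [← card_filter_range (n := n) (lo := l₂) (hi := n) le_rfl]
      congr 1; ext j; simp only [ha, Finset.mem_filter, Finset.mem_univ, true_and]
      have := j.2
      split_ifs <;> simp [hAC, hBC] <;> omega
    have c0 : ∀ v, v ≠ A → v ≠ B → v ≠ C → (Finset.univ.filter fun j => a j = v).card = 0 := by
      intro v e1 e2 e3
      rw [Finset.card_eq_zero, Finset.filter_eq_empty_iff]
      intro j _; simp only [ha]; split_ifs <;> [exact e1.symm; exact e2.symm; exact e3.symm]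
    refine bad z a ?_ (fun j => by simp only [ha]; split_ifs <;> assumption) ⟨0, by omega⟩ ⟨l₁, by omega⟩
      (by simp only [ha]; rw [if_pos h1, if_neg (lt_irrefl _), if_pos (by omega)]; exact hAB) A B
      (by simp only [ha]; rw [if_pos h1]) (by simp only [ha]; rw [if_neg (lt_irrefl _), if_pos (by omega)]) ?_ ?_
    · simp only [ha]
      rw [Fin.prod_univ_eq_prod_range (fun j => if j < l₁ then A else if j < l₂ then B else C) n,
        ← Finset.prod_range_mul_prod_Ico _ h2n, ← Finset.prod_range_mul_prod_Ico _ h12,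
        Finset.prod_congr (s₁ := Finset.range l₁) rfl (g := fun _ => A) (fun j hj => if_pos (Finset.mem_range.1 hj)),
        Finset.prod_congr (s₁ := Finset.Ico l₁ l₂) rfl (g := fun _ => B) (fun j hj => by
          rw [Finset.mem_Ico] at hj; rw [if_neg (by omega), if_pos (by omega)]),
        Finset.prod_congr (s₁ := Finset.Ico l₂ n) rfl (g := fun _ => C) (fun j hj => by
          rw [Finset.mem_Ico] at hj; rw [if_neg (by omega), if_neg (by omega)]),
        Finset.prod_const, Finset.prod_const, Finset.prod_const, Finset.card_range, Nat.card_Ico, Nat.card_Ico]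
      exact hprod
    · intro v hv
      by_contra e1
      rcases eq_or_ne v B with e2 | e2
      · rw [e2, cA, cB] at hv; omega
      rcases eq_or_ne v C with e3 | e3
      · rw [e3, cA, cC] at hv; omega
      · rw [c0 v e1 e2 e3, cA] at hv; omega
    · intro v hv
      by_contra e2
      rcases eq_or_ne v A with e1 | e1
      · rw [e1, cA, cB] at hv; omega
      rcases eq_or_ne v C with e3 | e3
      · rw [e3, cB, cC] at hv; omega
      · rw [c0 v e1 e2 e3, cB] at hv; omega
  obtain ⟨t, ht⟩ := hrn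
  have hpw : ∀ a b : ℕ, a < r → b < r → (w : F) ^ a = (w : F) ^ b → a = b := fun a b ha hb h => hζ.pow_inj ha hb h
  rcases eq_or_ne t 1 with rfl | ht1
  · rw [mul_one] at ht
    by_cases hsmall : n = 3 ∨ n = 5
    · -- a root of unity of order r²
      have hk2 : k = 2 := by
        have h4 : r - 1 = 2 ∨ r - 1 = 4 := by omega
        have hk_le : k ≤ r - 1 := Nat.le_of_dvd (by omega) hkr
        rcases h4 with h4 | h4 <;> rw [h4] at hkr hk_le
        · have := hk.two_le; omega
        · by_contra hk2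
          have h3 : k ≠ 3 := fun e => by subst e; norm_num at hkr
          have h4 : k ≠ 4 := fun e => by subst e; norm_num at hk
          have := hk.two_le
          omega
      have hv : 2 ≤ padicValNat r (Fintype.card F - 1) := by
        have h1 : 1 ≤ padicValNat r ((Nat.card F₀) + 1) := one_le_padicValNat_of_dvd (by omega) (hk2q hk2)
        rw [hv2 hk2]
        by_contra hcon
        exact hR ⟨hk2, ht.symm, hsmall, by omega⟩
      obtain ⟨η, hη⟩ := LargeSylow.exists_orderOf (H := Fˣ) (k := r ^ 2) (by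
        rw [Nat.card_eq_fintype_card, Fintype.card_units]
        exact (pow_dvd_pow r hv).trans pow_padicValNat_dvd)
      have hη' : IsPrimitiveRoot (η : F) (r ^ 2) := by
        rw [← hη, ← orderOf_units]; exact IsPrimitiveRoot.orderOf _
      have hr2' : r < r ^ 2 := by nlinarith
      set a : Fin n → F := fun j => if (j : ℕ) < n - 1 then (η : F) ^ (r ^ 2 - 1) else (η : F) ^ (r - 1) with ha
      have hne : (η : F) ^ (r ^ 2 - 1) ≠ (η : F) ^ (r - 1) := fun h => by
        have := hη'.pow_inj (by omega) (by omega) h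
        omega
      have hz : ((η : F) ^ (r ^ 2 - 1)) ^ r = ((η : F) ^ (r - 1)) ^ r := by
        refine mul_right_cancel₀ (pow_ne_zero r η.ne_zero) ?_
        rw [← mul_pow, ← pow_succ, ← mul_pow, ← pow_succ, Nat.sub_add_cancel (by omega), Nat.sub_add_cancel (by omega),
          hη'.pow_eq_one, one_pow, ← pow_mul, ← pow_two, hη'.pow_eq_one]
      have c1 : (Finset.univ.filter fun j => a j = (η : F) ^ (r ^ 2 - 1)).card = n - 1 := by
        refine Eq.trans ?_ ((card_filter_range (n := n) (lo := 0) (hi := n - 1) (by omega)).trans (Nat.sub_zero _))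
        congr 1; ext j; simp only [ha, Finset.mem_filter, Finset.mem_univ, true_and]
        split_ifs with h <;> simp [h, hne.symm]
      have c2 : (Finset.univ.filter fun j => a j = (η : F) ^ (r - 1)).card = 1 := by
        refine Eq.trans ?_ ((card_filter_range (n := n) (lo := n - 1) (hi := n) le_rfl).trans (by omega))
        congr 1; ext j; simp only [ha, Finset.mem_filter, Finset.mem_univ, true_and]
        have := j.2
        split_ifs with h <;> simp [hne] <;> omega
      have c3 : ∀ v, v ≠ (η : F) ^ (r ^ 2 - 1) → v ≠ (η : F) ^ (r - 1) →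
          (Finset.univ.filter fun j => a j = v).card = 0 := by
        intro v h1 h2
        rw [Finset.card_eq_zero, Finset.filter_eq_empty_iff]
        intro j _; simp only [ha]; split_ifs <;> [exact h1.symm; exact h2.symm]
      refine bad (((η : F) ^ (r - 1)) ^ r) a ?_ (fun j => by simp only [ha]; split_ifs <;> [exact hz; rfl])
        ⟨0, by omega⟩ ⟨n - 1, by omega⟩
        (by simp only [ha]; rw [if_pos (by omega), if_neg (lt_irrefl _)]; exact hne) _ _
        (by simp only [ha]; rw [if_pos (by omega)]) (by simp only [ha]; rw [if_neg (lt_irrefl _)]) ?_ ?_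
      · simp only [ha]
        rw [Fin.prod_univ_eq_prod_range (fun j => if j < n - 1 then (η : F) ^ (r ^ 2 - 1) else (η : F) ^ (r - 1)) n,
          show n = n - 1 + 1 by omega, Finset.prod_range_succ, show n - 1 + 1 - 1 = n - 1 by omega, if_neg (lt_irrefl _),
          Finset.prod_congr rfl (fun j hj => if_pos (Finset.mem_range.1 hj)), Finset.prod_const, Finset.card_range,
          ← pow_mul, ← pow_add, show n - 1 = r - 1 by omega, show (r ^ 2 - 1) * (r - 1) + (r - 1) = r ^ 2 * (r - 1) by
            conv_rhs => rw [show r ^ 2 = r ^ 2 - 1 + 1 by omega, Nat.add_mul, one_mul],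
          pow_mul, hη'.pow_eq_one, one_pow]
      · intro v hv
        by_contra h1
        by_cases h2 : v = (η : F) ^ (r - 1)
        · rw [h2, c2, c1] at hv; omega
        · rw [c3 v h1 h2, c1] at hv; omega
      · intro v hv
        by_contra h1
        by_cases h2 : v = (η : F) ^ (r ^ 2 - 1)
        · rw [h2, c2, c1] at hv; omega
        · rw [c3 v h2 h1, c2] at hv; omega
    · push Not at hsmall
      have h4 : r ≠ 4 := by rintro rfl; norm_num at hr1
      have h6 : r ≠ 6 := by rintro rfl; norm_num at hr1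
      refine three 1 1 (w : F) ((w : F) ^ (r - 2)) (n - 3) (n - 1) (by omega) (by omega)
        (fun h => by have := hpw 0 1 (by omega) (by omega) (by rw [pow_zero, pow_one]; exact h); omega)
        (fun h => by have := hpw 0 (r - 2) (by omega) (by omega) (by rw [pow_zero]; exact h); omega)
        (fun h => by have := hpw 1 (r - 2) (by omega) (by omega) (by rw [pow_one]; exact h); omega)
        (by omega) (by omega) (by omega) (by omega) (by omega) (one_pow r) hζ.pow_eq_one (hwr _) ?_
      rw [one_pow, one_mul, ← pow_mul, ← pow_add, hζ.pow_eq_one_iff_dvd, show n - 1 - (n - 3) = 2 by omega,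
        show n - (n - 1) = 1 by omega, mul_one, show 2 + (r - 2) = r by omega]
  · have ht2 : 2 ≤ t := by
      rcases Nat.eq_zero_or_pos t with h0 | h0
      · rw [h0, mul_zero] at ht; omega
      · omega
    by_cases hr3' : r = 3
    · subst hr3'
      have ht3 : 3 ≤ t := by
        by_contra h
        exact hgap ⟨by omega, rfl⟩
      refine three 1 (w : F) ((w : F) ^ 2) 1 3 n (by omega) le_rfl
        (fun h => by have := hpw 1 2 (by omega) (by omega) (by rw [pow_one]; exact h); omega)
        (fun h => by have := hpw 1 0 (by omega) (by omega) (by rw [pow_one, pow_zero]; exact h); omega)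
        (fun h => by have := hpw 2 0 (by omega) (by omega) (by rw [pow_zero]; exact h); omega)
        (by omega) (by omega) (by omega) (by omega) (by omega) hζ.pow_eq_one (hwr _) (one_pow _) ?_
      rw [Nat.sub_self, pow_zero, mul_one, ← pow_mul, ← pow_add, hζ.pow_eq_one_iff_dvd]
      omega
    · have hrt : r * 2 ≤ r * t := Nat.mul_le_mul_left r ht2
      have h4 : r ≠ 4 := by rintro rfl; norm_num at hr1
      refine three 1 1 (w : F) ((w : F) ^ (r - 2)) (n - 3) (n - 1) (by omega) (by omega)
        (fun h => by have := hpw 0 1 (by omega) (by omega) (by rw [pow_zero, pow_one]; exact h); omega)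
        (fun h => by have := hpw 0 (r - 2) (by omega) (by omega) (by rw [pow_zero]; exact h); omega)
        (fun h => by have := hpw 1 (r - 2) (by omega) (by omega) (by rw [pow_one]; exact h); omega)
        (by omega) (by omega) (by omega) (by omega) (by omega) (one_pow r) hζ.pow_eq_one (hwr _) ?_
      rw [one_pow, one_mul, ← pow_mul, ← pow_add, hζ.pow_eq_one_iff_dvd, show n - 1 - (n - 3) = 2 by omega,
        show n - (n - 1) = 1 by omega, mul_one, show 2 + (r - 2) = r by omega]

end Cfsg.Agent.S5965
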