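import Cfsg.Statements.S5966
import Cfsg.Agent.Classical.Elusive.Subfield

set_option autoImplicit false

open Cfsg.Agent

namespace Cfsg.Agent.S5966

/-- Elements of order 3 of PSL_n(q) in characteristic 3 and subfield subgroups. Here `T = PSL_n(F)` for a field `F` with `q` elements, `q` a power of 3 (`n ≥ 2`, `(n, q) ≠ (2, 2), (2, 3)`), `F₀` is the subfield with `q₀` elements where `q = q₀^k` for a prime `k`, and `H` is the subgroup of matrices of determinant 1 lying in the subfield group of `F₀` (invertible matrices over `F₀` times scalars) — a maximal subgroup of type GL_n(q₀) (the case `n = 2`, `q₀ = 2` is excluded); Ω is the set of `T`-conjugates of `H` (cosets of `H`), so an element of `T` of prime order `r` (a matrix `x` of determinant 1 with `x^r` scalar, `x` not scalar) fixes a point of Ω when some conjugate of `x` by a matrix of determinant 1 lies in `H`. Suppose 3 divides the index of `H`. Then every element of `T` of order 3 is conjugate in `T` into `H` if and only if `n` is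 odd, or `n` is even and `k > 2`. -/
theorem result {F : Type*} [Field F] [Fintype F] [CharP F 3] {q : ℕ} (hq : Fintype.card F = q)
    (n : ℕ) (hn : 2 ≤ n) (hT : (n, q) ≠ (2, 3))
    (F₀ : Subfield F) (k q₀ : ℕ) (hk : k.Prime) (hF₀ : Nat.card ↥F₀ = q₀) (hqk : q = q₀ ^ k) (hC5 : ¬ (n = 2 ∧ q₀ = 2)) (hΩ : 3 ∣ ((Cfsg.Geo.subfieldSubgroup F₀ 1).comap (Matrix.SpecialLinearGroup.toGL : Matrix.SpecialLinearGroup (Fin n) F →* GL (Fin n) F)).index) :
    (∀ x : Matrix.SpecialLinearGroup (Fin n) F,
      (∃ z : F, ((x ^ 3 : Matrix.SpecialLinearGroup (Fin n) F) : Matrix (Fin n) (Fin n) F) = z • (1 : Matrix (Fin n) (Fin n) F)) →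
      (∀ z : F, (x : Matrix (Fin n) (Fin n) F) ≠ z • (1 : Matrix (Fin n) (Fin n) F)) →
      ∃ P : Matrix.SpecialLinearGroup (Fin n) F, P⁻¹ * x * P ∈ ((Cfsg.Geo.subfieldSubgroup F₀ 1).comap (Matrix.SpecialLinearGroup.toGL : Matrix.SpecialLinearGroup (Fin n) F →* GL (Fin n) F))) ↔
    (Odd n ∨ (Even n ∧ 2 < k)) := by
  classical
  haveI : Fact (Nat.Prime 3) := ⟨Nat.prime_three⟩
  subst hq hF₀
  haveI : Nonempty (Fin n) := ⟨⟨0, by omega⟩⟩
  haveI : CharP (Module.End F (Fin n → F)) 3 :=
    charP_of_injective_algebraMap (FaithfulSMul.algebraMap_injective F _) 3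
  have hodd : Odd (Fintype.card F) := by
    obtain ⟨e, -, he⟩ := FiniteField.card F 3
    rw [he]
    exact (by decide : Odd 3).pow
  have hroot : ∀ y : F, ∃ d : F, d ^ 3 = y := fun y =>
    ⟨(frobeniusEquiv F 3).symm y, frobeniusEquiv_symm_pow_p F 3 y⟩
  constructor
  swap
  · intro hR x ⟨z, hx⟩ _
    have hz := Classical.Elusive.scalar_ne_zero (by omega) x hx
    obtain ⟨d, rfl⟩ := hroot z
    have hd : d ≠ 0 := fun h => hz (by rw [h, zero_pow three_ne_zero])
    set ψ : Module.End F (Fin n → F) := d⁻¹ • Matrix.toLin' (x : Matrix (Fin n) (Fin n) F) with hψdef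
    have hψ : (ψ - 1) ^ 3 = 0 := by
      rw [sub_pow_char_of_commute _ (Commute.one_right ψ), hψdef, _root_.smul_pow,
        Classical.Elusive.toLin'_pow_smul x hx, smul_smul, ← mul_pow, inv_mul_cancel₀ hd, one_pow, one_smul,
        one_pow, sub_self]
    obtain ⟨m, h0, hm⟩ := MatModule.exists_hasType ψ hψ
    have hle := (MatModule.sub_one_pow_eq_zero_iff hm 3).1 hψ
    have hsum : m.sum = n := by rw [MatModule.sum_eq_finrank hm, Module.finrank_fin_fun]
    refine Classical.Elusive.exists_conj_of_type (by omega) x hd hm ?_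
    by_cases hall : ∀ a ∈ m, a = 2
    · have hm0 : m ≠ 0 := fun h => by rw [h, Multiset.sum_zero] at hsum; omega
      obtain ⟨a, ha⟩ := Multiset.exists_mem_of_ne_zero hm0
      refine ⟨a, ha, fun y hy => ?_⟩
      rw [hall a ha]
      have hkodd : Odd k := by
        have heven : Even n := by
          rw [← hsum, Multiset.eq_replicate_card.2 hall, Multiset.sum_replicate, smul_eq_mul]
          exact even_two.mul_left _
        rcases hR with h | ⟨-, h⟩
        · exact absurd heven (Nat.not_even_iff_odd.2 h)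
        · exact hk.odd_of_ne_two (by omega)
      by_cases hsq : IsSquare y
      · obtain ⟨s, rfl⟩ := hsq
        have hs : s ≠ 0 := fun h => hy (by rw [h, mul_zero])
        exact ⟨s⁻¹, inv_ne_zero hs, by
          rw [show s⁻¹ ^ 2 * (s * s) = 1 by field_simp]; exact F₀.one_mem⟩
      · obtain ⟨f, hf, hfn⟩ := Classical.Elusive.exists_nonsquare_subfield hqk hodd hkodd
        have hc : ringChar F ≠ 2 := fun h => by
          have := FiniteField.even_card_of_char_two h
          obtain ⟨w, hw⟩ := hodd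
          omega
        have hf0 : f ≠ 0 := fun h => hfn ⟨0, by rw [h, mul_zero]⟩
        obtain ⟨s, hs⟩ : IsSquare (y * f) := by
          have hy' := (FiniteField.pow_dichotomy hc hy).resolve_left fun h =>
            hsq ((FiniteField.isSquare_iff hc hy).2 h)
          have hf' := (FiniteField.pow_dichotomy hc hf0).resolve_left fun h =>
            hfn ((FiniteField.isSquare_iff hc hf0).2 h)
          refine (FiniteField.isSquare_iff hc (mul_ne_zero hy hf0)).2 ?_
          rw [mul_pow, hy', hf', neg_mul_neg, one_mul]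
        have hs0 : s ≠ 0 := fun h => mul_ne_zero hy hf0 (by rw [hs, h, mul_zero])
        refine ⟨s⁻¹, inv_ne_zero hs0, ?_⟩
        rw [show s⁻¹ ^ 2 * y = f⁻¹ by field_simp; linear_combination hs]
        exact F₀.inv_mem hf
    · simp only [not_forall] at hall
      obtain ⟨a, ha, hne⟩ := hall
      refine ⟨a, ha, fun y hy => ?_⟩
      have h1 := hle a ha
      have h2 : a ≠ 0 := fun h => h0 (h ▸ ha)
      rcases (show a = 1 ∨ a = 3 by omega) with rfl | rfl
      · exact ⟨y⁻¹, inv_ne_zero hy, by rw [pow_one, inv_mul_cancel₀ hy]; exact F₀.one_mem⟩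
      · obtain ⟨γ, hγ⟩ := hroot y⁻¹
        exact ⟨γ, fun h => inv_ne_zero hy (by rw [← hγ, h, zero_pow three_ne_zero]),
          by rw [hγ, inv_mul_cancel₀ hy]; exact F₀.one_mem⟩
  · intro H
    by_contra hne
    rw [not_or, Nat.not_odd_iff_even, not_and, not_lt] at hne
    obtain ⟨hev, hk2⟩ := hne
    have hk2' : k = 2 := le_antisymm (hk2 hev) hk.two_le
    obtain ⟨m, hm⟩ := hev
    have hc : ringChar F ≠ 2 := fun h => by
      have := FiniteField.even_card_of_char_two h
      obtain ⟨w, hw⟩ := hodd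
      omega
    obtain ⟨δ, hδ⟩ := FiniteField.exists_nonsquare hc
    have hδ0 : δ ≠ 0 := fun h => hδ ⟨0, by rw [h, mul_zero]⟩
    obtain ⟨ε⟩ : Nonempty (Fin n ≃ Σ _ : Fin m, Fin 2) := ⟨Fintype.equivOfCardEq (by simp; omega)⟩
    set N : Matrix (Fin n) (Fin n) F :=
      Matrix.of fun a b => if (ε a).1 = (ε b).1 ∧ ((ε a).2 : ℕ) = ((ε b).2 : ℕ) + 1 then 1 else 0 with hN
    have hrow0 : ∀ i b, N (ε.symm ⟨i, 0⟩) b = 0 := fun i b => by simp [hN]
    have hNv : ∀ (v : Fin n → F) (i : Fin m),
        N.mulVec v (ε.symm ⟨i, 0⟩) = 0 ∧ N.mulVec v (ε.symm ⟨i, 1⟩) = v (ε.symm ⟨i, 0⟩) := by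
      intro v i
      refine ⟨by simp [Matrix.mulVec, dotProduct, hrow0], ?_⟩
      rw [Matrix.mulVec, dotProduct, Finset.sum_eq_single (ε.symm ⟨i, 0⟩)]
      · simp [hN]
      · intro b _ hb
        simp only [hN, Matrix.of_apply, Equiv.apply_symm_apply]
        rw [if_neg, zero_mul]
        rintro ⟨h1, h2⟩
        refine hb (ε.injective ?_)
        rw [Equiv.apply_symm_apply]
        refine Sigma.ext h1.symm (heq_of_eq (Fin.ext ?_))
        simp at h2
        simp [h2]
      · exact fun h => absurd (Finset.mem_univ _) h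
    have hext : ∀ v w : Fin n → F, (∀ i, v (ε.symm ⟨i, 0⟩) = w (ε.symm ⟨i, 0⟩) ∧
        v (ε.symm ⟨i, 1⟩) = w (ε.symm ⟨i, 1⟩)) → v = w := by
      intro v w h
      funext a
      obtain ⟨⟨i, l⟩, rfl⟩ := ε.symm.surjective a
      fin_cases l
      · exact (h i).1
      · exact (h i).2
    have hNN : N * N = 0 := by
      refine Matrix.ext_of_mulVec_single fun c => ?_
      rw [← Matrix.mulVec_mulVec, Matrix.zero_mulVec]
      refine hext _ _ fun i => ⟨(hNv _ i).1, ?_⟩
      rw [(hNv _ i).2, (hNv _ i).1]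
      rfl
    set M : Matrix (Fin n) (Fin n) F := 1 + N with hM
    have hN3 : N ^ 3 = 0 := by rw [pow_succ, pow_two, hNN, zero_mul]
    haveI : CharP (Matrix (Fin n) (Fin n) F) 3 :=
      charP_of_injective_algebraMap (FaithfulSMul.algebraMap_injective F _) 3
    have hM3 : M ^ 3 = 1 := by
      rw [hM, add_pow_char_of_commute _ (Commute.one_left N), one_pow, hN3, add_zero]
    have hMdet : M.det = 1 := by
      have h1 : (M.det - 1) ^ 3 = 0 := by
        rw [sub_pow_char, one_pow, ← Matrix.det_pow, hM3, Matrix.det_one, sub_self]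
      exact sub_eq_zero.1 (eq_zero_of_pow_eq_zero h1)
    let a0 : Fin n := ⟨0, by omega⟩
    set g : Fin n → F := Function.update 1 a0 δ with hg
    set G := Matrix.diagonal g with hG
    set G' := Matrix.diagonal fun a => (g a)⁻¹ with hG'
    have hg0 : ∀ a, g a ≠ 0 := fun a => by
      rcases eq_or_ne a a0 with rfl | h
      · simp [hg, hδ0]
      · simp [hg, Function.update_of_ne h]
    have hGG : G * G' = 1 := by
      rw [hG, hG', Matrix.diagonal_mul_diagonal, ← Matrix.diagonal_one]
      exact congrArg Matrix.diagonal (funext fun a => mul_inv_cancel₀ (hg0 a))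
    have hG'G : G' * G = 1 := mul_eq_one_comm.1 hGG
    have hGdet : G.det = δ := by
      rw [hG, Matrix.det_diagonal, Finset.prod_eq_single a0]
      · simp [hg]
      · intro a _ ha; simp [hg, Function.update_of_ne ha]
      · exact fun h => absurd (Finset.mem_univ _) h
    obtain ⟨x, hxM⟩ : ∃ x : Matrix.SpecialLinearGroup (Fin n) F,
        (x : Matrix (Fin n) (Fin n) F) = G * M * G' :=
      ⟨⟨G * M * G', by
        rw [Matrix.det_mul, Matrix.det_mul, hMdet, mul_one, ← Matrix.det_mul, hGG, Matrix.det_one]⟩, rfl⟩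
    have hx3 : (x : Matrix (Fin n) (Fin n) F) ^ 3 = 1 := by
      rw [hxM, pow_succ, pow_two]
      calc G * M * G' * (G * M * G') * (G * M * G') = G * (M * (G' * G) * M * (G' * G) * M) * G' := by
            noncomm_ring
        _ = G * M ^ 3 * G' := by rw [hG'G, mul_one, mul_one, pow_succ, pow_two]
        _ = 1 := by rw [hM3, mul_one, hGG]
    obtain ⟨Q, hQ⟩ := H x ⟨1, by rw [Matrix.SpecialLinearGroup.coe_pow, hx3, one_smul]⟩ (by
      intro z hz
      have h1 : M = z • 1 := by
        calc M = G' * (G * M * G') * G := by simp only [← mul_assoc, hG'G, one_mul]; rw [mul_assoc, hG'G, mul_one]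
          _ = z • 1 := by rw [← hxM, hz, mul_smul_comm, mul_one, smul_mul_assoc, hG'G]
      have i0 : Fin m := ⟨0, by omega⟩
      have h2 := congrFun (congrFun h1 (ε.symm ⟨i0, 1⟩)) (ε.symm ⟨i0, 0⟩)
      simp [hM, hN, Matrix.one_apply] at h2)
    rw [Subgroup.mem_comap, Classical.Elusive.mem_subfield_iff] at hQ
    obtain ⟨c, hc0, hcF⟩ := hQ
    set Y := ((Q⁻¹ * x * Q : Matrix.SpecialLinearGroup (Fin n) F) : Matrix (Fin n) (Fin n) F) with hY
    have hcF' : ∀ i j, c * Y i j ∈ F₀ := hcF
    have hY3 : Y ^ 3 = 1 := by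
      rw [hY, ← Matrix.SpecialLinearGroup.coe_pow]
      have : (Q⁻¹ * x * Q) ^ 3 = 1 := by
        have hx3' : x ^ 3 = 1 := Subtype.ext hx3
        rw [show Q⁻¹ * x * Q = Q⁻¹ * x * Q⁻¹⁻¹ by rw [inv_inv], conj_pow, hx3', mul_one, mul_inv_cancel]
      rw [this, Matrix.SpecialLinearGroup.coe_one]
    haveI : Fintype F₀ := Fintype.ofFinite F₀
    set Z : Matrix (Fin n) (Fin n) F₀ := Matrix.of fun i j => ⟨c * Y i j, hcF' i j⟩
    have hZ : Z.map F₀.subtype = c • Y := Matrix.ext fun _ _ => rfl
    have hcmem : c ∈ F₀ := by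
      have h1 := congrArg (fun A : Matrix (Fin n) (Fin n) F => A a0 a0) (Matrix.map_pow Z F₀.subtype 3)
      rw [hZ, _root_.smul_pow, hY3] at h1
      simp at h1
      have h3 : c ^ 3 ∈ F₀ := h1 ▸ ((Z ^ 3) a0 a0).2
      refine Classical.Elusive.mem_of_pow_card ?_
      have h4 := Classical.Elusive.pow_card_subfield h3
      rw [← pow_mul, mul_comm, pow_mul] at h4
      have h5 : (c ^ Nat.card F₀ - c) ^ 3 = 0 := by rw [sub_pow_char, h4, sub_self]
      exact sub_eq_zero.1 (eq_zero_of_pow_eq_zero h5)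
    have hYF : ∀ i j, Y i j ∈ F₀ := fun i j => by
      have := F₀.mul_mem (F₀.inv_mem hcmem) (hcF' i j)
      rwa [inv_mul_cancel_left₀ hc0] at this
    set A : Matrix (Fin n) (Fin n) F₀ := Matrix.of fun i j => ⟨Y i j, hYF i j⟩
    have hA : A.map F₀.subtype = Y := Matrix.ext fun _ _ => rfl
    -- transport of `N`
    set W₀ := G' * (Q : Matrix (Fin n) (Fin n) F) with hW₀
    have hQQ : ((Q⁻¹ : Matrix.SpecialLinearGroup (Fin n) F) : Matrix (Fin n) (Fin n) F) * Q = 1 := by
      rw [← Matrix.SpecialLinearGroup.coe_mul, inv_mul_cancel, Matrix.SpecialLinearGroup.coe_one]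
    have hQQ' : (Q : Matrix (Fin n) (Fin n) F) * ((Q⁻¹ : Matrix.SpecialLinearGroup (Fin n) F) : Matrix (Fin n) (Fin n) F) = 1 :=
      mul_eq_one_comm.1 hQQ
    set W₁ := ((Q⁻¹ : Matrix.SpecialLinearGroup (Fin n) F) : Matrix (Fin n) (Fin n) F) * G with hW₁
    have hW01 : W₀ * W₁ = 1 := by
      rw [hW₀, hW₁, mul_assoc, ← mul_assoc (Q : Matrix (Fin n) (Fin n) F), hQQ', one_mul, hG'G]
    have hW10 : W₁ * W₀ = 1 := mul_eq_one_comm.1 hW01
    have hY1 : Y - 1 = W₁ * N * W₀ := by
      have h1 : Y = W₁ * M * W₀ := by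
        rw [hY, Matrix.SpecialLinearGroup.coe_mul, Matrix.SpecialLinearGroup.coe_mul, hxM, hW₁, hW₀]
        noncomm_ring
      rw [h1, hM, mul_add, add_mul, mul_one, hW10, add_sub_cancel_left]
    -- chains over the subfield
    haveI : Nonempty (Fin n) := ⟨a0⟩
    have hAsq : (Matrix.toLin' A - 1) ^ 2 = 0 := by
      have h1 : (A - 1) * (A - 1) = 0 := by
        refine Matrix.map_injective F₀.subtype.injective ?_
        show ((A - 1) * (A - 1)).map F₀.subtype = (0 : Matrix (Fin n) (Fin n) F₀).map F₀.subtype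
        rw [Matrix.map_mul, Matrix.map_sub _ (map_sub F₀.subtype), hA, Matrix.map_one _ (map_zero _) (map_one _),
          Matrix.map_zero _ (map_zero _), hY1]
        calc W₁ * N * W₀ * (W₁ * N * W₀) = W₁ * (N * (W₀ * W₁) * N) * W₀ := by noncomm_ring
          _ = 0 := by rw [hW01, mul_one, hNN, mul_zero, zero_mul]
      have h2 : Matrix.toLin' A - 1 = Matrix.toLin' (A - 1) := by
        rw [map_sub, Matrix.toLin'_one]; rfl
      rw [h2, ← Matrix.toLin'_pow, pow_two, h1, map_zero]
    obtain ⟨μ, hμ0, hμ⟩ := MatModule.exists_hasType (Matrix.toLin' A) hAsq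
    have hμle := (MatModule.sub_one_pow_eq_zero_iff hμ 2).1 hAsq
    obtain ⟨ι, _, _, e, heμ, ε', P₀, hP₀, hAP⟩ := Classical.Elusive.exists_chain hμ
    rw [LinearMap.toMatrix'_toLin'] at hAP
    set P : Matrix (Fin n) (Fin n) F := P₀.map F₀.subtype with hP
    have hPdet : P.det = F₀.subtype P₀.det := (RingHom.map_det F₀.subtype P₀).symm
    have hPdet0 : P.det ≠ 0 := by
      rw [hPdet]
      exact fun h => hP₀ (F₀.subtype.injective (h.trans (map_zero _).symm))
    set N' : Matrix (Fin n) (Fin n) F := Matrix.of fun a b =>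
      if (ε' a).1 = (ε' b).1 ∧ ((ε' a).2 : ℕ) = ((ε' b).2 : ℕ) + 1 then 1 else 0 with hN'
    have hYP : (Y - 1) * P = P * N' := by
      have h1 : Y * P = P * ((Classical.Elusive.chainMat e F₀).submatrix ε' ε').map F₀.subtype := by
        rw [hP, ← hA, ← Matrix.map_mul, hAP, Matrix.map_mul]
      have h2 : ((Classical.Elusive.chainMat e F₀).submatrix ε' ε').map F₀.subtype = 1 + N' := by
        ext a b
        simp only [Classical.Elusive.chainMat, Matrix.map_apply, Matrix.submatrix_apply, Matrix.of_apply,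
          Matrix.add_apply, Matrix.one_apply, hN', map_add, ε'.injective.eq_iff]
        congr 1 <;> split_ifs <;> simp
      rw [sub_mul, h1, h2, mul_add, mul_one, one_mul, add_sub_cancel_left]
    have hkey : N * (W₀ * P) = (W₀ * P) * N' := by
      rw [show (W₀ * P) * N' = W₀ * (P * N') from mul_assoc _ _ _, ← hYP, hY1]
      calc N * (W₀ * P) = (W₀ * W₁) * N * W₀ * P := by rw [hW01, one_mul]; simp only [mul_assoc, hW₀]
        _ = W₀ * (W₁ * N * W₀ * P) := by noncomm_ring
    set S := W₀ * P with hS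
    have hSdet : S.det ≠ 0 := by
      rw [hS, Matrix.det_mul]
      refine mul_ne_zero (fun h => ?_) hPdet0
      have := congrArg Matrix.det hW01
      rw [Matrix.det_mul, h, zero_mul, Matrix.det_one] at this
      exact zero_ne_one this
    -- no block of size one
    have hall2 : ∀ i, e i = 2 := by
      intro i
      have hei : e i ∈ μ := heμ ▸ Multiset.mem_map_of_mem _ (Finset.mem_univ_val i)
      have := hμle _ hei
      have : e i ≠ 0 := fun h => hμ0 (h ▸ hei)
      by_contra h2
      have h1 : e i = 1 := by omega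
      set b := ε'.symm ⟨i, ⟨0, by omega⟩⟩ with hb
      have hcol : N'.mulVec (Pi.single b 1) = 0 := by
        rw [Matrix.mulVec_single_one]
        funext a
        simp only [Matrix.col_apply, hN', Matrix.of_apply, hb, Equiv.apply_symm_apply, Pi.zero_apply]
        rw [if_neg]
        rintro ⟨h3, h4⟩
        have := (ε' a).2.2
        have h5 : e (ε' a).1 = 1 := by rw [h3]; exact h1
        omega
      have hker : N.mulVec (S.mulVec (Pi.single b 1)) = 0 := by
        rw [Matrix.mulVec_mulVec, hkey, ← Matrix.mulVec_mulVec, hcol, Matrix.mulVec_zero]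
      set w := S.mulVec (Pi.single b 1) with hw
      set v : Fin n → F := fun a => if (ε a).2 = 0 then w (ε.symm ⟨(ε a).1, 1⟩) else 0 with hv
      have hrange : N.mulVec v = w := by
        refine hext _ _ fun j => ⟨?_, ?_⟩
        · rw [(hNv v j).1]
          have h3 := congrFun hker (ε.symm ⟨j, 1⟩)
          rw [(hNv w j).2] at h3
          exact h3.symm
        · rw [(hNv v j).2, hv]
          simp
      obtain ⟨u, hu⟩ : ∃ u, S.mulVec u = v :=
        Matrix.mulVec_surjective_iff_isUnit.2 ((Matrix.isUnit_iff_isUnit_det _).2 (isUnit_iff_ne_zero.2 hSdet)) v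
      have h5 : N'.mulVec u = Pi.single b 1 := by
        apply Matrix.mulVec_injective_of_isUnit ((Matrix.isUnit_iff_isUnit_det _).2 (isUnit_iff_ne_zero.2 hSdet))
        show S.mulVec (N'.mulVec u) = S.mulVec (Pi.single b 1)
        rw [Matrix.mulVec_mulVec, ← hkey, ← Matrix.mulVec_mulVec, hu, hrange]
      have h6 := congrFun h5 b
      rw [Pi.single_eq_same] at h6
      have h7 : N' b = 0 := by
        funext c
        have h9 : ε' b = ⟨i, ⟨0, by omega⟩⟩ := by rw [hb, Equiv.apply_symm_apply]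
        simp only [hN', Matrix.of_apply, Pi.zero_apply]
        rw [if_neg]
        rintro ⟨-, h8⟩
        rw [h9] at h8
        simp at h8
      rw [Matrix.mulVec, h7, zero_dotProduct] at h6
      exact zero_ne_one h6
    -- reindex to the standard chains
    have hcard : Fintype.card ι = m := by
      have := Fintype.card_congr ε'
      rw [Fintype.card_fin, Fintype.card_sigma, Finset.sum_congr rfl fun i _ => by rw [Fintype.card_fin, hall2 i],
        Finset.sum_const, Finset.card_univ, smul_eq_mul] at this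
      omega
    obtain ⟨τ⟩ : Nonempty (Fin m ≃ ι) := ⟨Fintype.equivOfCardEq (by simp [hcard])⟩
    let π₀ : (Σ _ : Fin m, Fin 2) ≃ Σ i, Fin (e i) :=
      (Equiv.sigmaCongrRight fun j => finCongr (hall2 (τ j)).symm).trans (Equiv.sigmaCongrLeft (β := fun i => Fin (e i)) τ)
    let π : Equiv.Perm (Fin n) := ε.trans (π₀.trans ε'.symm)
    have hπN : N'.submatrix π π = N := by
      ext a b
      have h1 : ∀ a, ε' (π a) = π₀ (ε a) := fun a => by simp [π]
      simp only [Matrix.submatrix_apply, hN', hN, Matrix.of_apply]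
      rw [h1 a, h1 b]
      generalize ε a = p
      generalize ε b = p'
      obtain ⟨i, l⟩ := p
      obtain ⟨i', l'⟩ := p'
      simp only [π₀, Equiv.trans_apply, Equiv.sigmaCongrLeft, Equiv.sigmaCongrRight, Equiv.coe_fn_mk, finCongr_apply, Fin.val_cast, τ.injective.eq_iff]
    set T := S.submatrix id π with hT
    have hcomm : N * T = T * N := by
      have h1 : (N * S).submatrix id π = (S * N').submatrix id π := by rw [hkey]
      rw [Matrix.submatrix_mul N S id id π Function.bijective_id, Matrix.submatrix_id_id,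
        Matrix.submatrix_mul S N' id π π π.bijective, hπN] at h1
      exact h1
    let σ : (Fin m ⊕ Fin m) ≃ Fin n :=
      { toFun := Sum.elim (fun i => ε.symm ⟨i, 0⟩) (fun i => ε.symm ⟨i, 1⟩)
        invFun := fun a => if (ε a).2 = 0 then Sum.inl (ε a).1 else Sum.inr (ε a).1
        left_inv := fun s => by rcases s with i | i <;> simp
        right_inv := fun a => by
          apply ε.injective
          obtain ⟨⟨i, l⟩, rfl⟩ := ε.symm.surjective a
          fin_cases l <;> simp }
    have hTb : T.submatrix σ σ = Matrix.fromBlocks (Matrix.of fun i j => T (ε.symm ⟨i, 0⟩) (ε.symm ⟨j, 0⟩)) 0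
        (Matrix.of fun i j => T (ε.symm ⟨i, 1⟩) (ε.symm ⟨j, 0⟩))
        (Matrix.of fun i j => T (ε.symm ⟨i, 0⟩) (ε.symm ⟨j, 0⟩)) := by
      have hcolN : ∀ j, N.mulVec (Pi.single (ε.symm ⟨j, 0⟩) 1) = Pi.single (ε.symm ⟨j, 1⟩) 1 := by
        intro j
        refine hext _ _ fun i => ?_
        rw [(hNv _ i).1, (hNv _ i).2]
        constructor
        · rw [Pi.single_eq_of_ne]
          intro h; simpa using congrArg ε h
        · rcases eq_or_ne i j with rfl | hij
          · simp
          · rw [Pi.single_eq_of_ne, Pi.single_eq_of_ne] <;> intro h <;> exact hij (by simpa using congrArg ε h)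
      have hent : ∀ i j, T (ε.symm ⟨i, 0⟩) (ε.symm ⟨j, 1⟩) = 0 ∧
          T (ε.symm ⟨i, 1⟩) (ε.symm ⟨j, 1⟩) = T (ε.symm ⟨i, 0⟩) (ε.symm ⟨j, 0⟩) := by
        intro i j
        have h1 := congrArg (fun X : Matrix (Fin n) (Fin n) F => X.mulVec (Pi.single (ε.symm ⟨j, 0⟩) 1)) hcomm
        simp only [← Matrix.mulVec_mulVec, hcolN] at h1
        rw [Matrix.mulVec_single_one, Matrix.mulVec_single_one] at h1
        have e0 := congrFun h1 (ε.symm ⟨i, 0⟩)
        have e1 := congrFun h1 (ε.symm ⟨i, 1⟩)
        rw [(hNv _ i).1] at e0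
        rw [(hNv _ i).2] at e1
        exact ⟨e0.symm, e1.symm⟩
      ext (i | i) (j | j) <;> simp [σ, hent]
    have hTsq : IsSquare T.det := by
      rw [← Matrix.det_submatrix_equiv_self σ T, hTb, Matrix.det_fromBlocks_zero₁₂]
      exact ⟨_, rfl⟩
    have hPsq : IsSquare P.det :=
      Classical.Elusive.isSquare_of_subfield hqk hodd (hPdet ▸ (P₀.det).2) hk2'
    have hTdet : T.det = Equiv.Perm.sign π * (δ⁻¹ * P.det) := by
      rw [hT, Matrix.det_permute', hS, Matrix.det_mul, hW₀, Matrix.det_mul, Q.2, mul_one]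
      congr 2
      refine eq_inv_of_mul_eq_one_left ?_
      rw [← hGdet, ← Matrix.det_mul, hG'G, Matrix.det_one]
    have hsgn : IsSquare ((Equiv.Perm.sign π : ℤ) : F) := by
      refine Classical.Elusive.isSquare_of_subfield hqk hodd ?_ hk2'
      exact intCast_mem F₀ _
    refine hδ ?_
    have hP0' : P.det ≠ 0 := hPdet0
    have hs0 : ((Equiv.Perm.sign π : ℤ) : F) ≠ 0 := by
      rcases Int.units_eq_one_or (Equiv.Perm.sign π) with h | h <;> simp [h]
    have : δ = ((Equiv.Perm.sign π : ℤ) : F) * P.det / T.det := by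
      rw [hTdet]
      field_simp
    rw [this]
    exact (hsgn.mul hPsq).div hTsq

end Cfsg.Agent.S5966
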