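import Cfsg.Statements.S5967
import Cfsg.Agent.MatModule.SympConj
import Cfsg.Agent.Classical.AltBasis

set_option autoImplicit false
open scoped MatrixGroups
open Cfsg

namespace Cfsg.Agent.S5967

open Module Matrix

section

variable {F : Type*} [Field F]

/-- The alternating form pairing the two coordinates of each plane. -/
noncomputable def planeForm {V : Type*} [AddCommGroup V] [Module F V] {m : ℕ} (b : Basis (Fin 2 × Fin m) F V) :
    LinearMap.BilinForm F V :=
  LinearMap.mk₂ F (fun u v => ∑ i, (b.repr u (0, i) * b.repr v (1, i) - b.repr u (1, i) * b.repr v (0, i)))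
    (fun u u' v => by simp only [map_add, Finsupp.add_apply, ← Finset.sum_add_distrib]; congr 1; funext i; ring)
    (fun c u v => by simp only [map_smul, Finsupp.smul_apply, smul_eq_mul, Finset.mul_sum]; congr 1; funext i; ring)
    (fun u v v' => by simp only [map_add, Finsupp.add_apply, ← Finset.sum_add_distrib]; congr 1; funext i; ring)
    (fun c u v => by simp only [map_smul, Finsupp.smul_apply, smul_eq_mul, Finset.mul_sum]; congr 1; funext i; ring)

theorem planeForm_apply {V : Type*} [AddCommGroup V] [Module F V] {m : ℕ} (b : Basis (Fin 2 × Fin m) F V) (u v : V) :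
    planeForm b u v = ∑ i, (b.repr u (0, i) * b.repr v (1, i) - b.repr u (1, i) * b.repr v (0, i)) := rfl

theorem repr_block {V : Type*} [AddCommGroup V] [Module F V] {m : ℕ} (b : Basis (Fin 2 × Fin m) F V)
    (M : Fin m → Matrix (Fin 2) (Fin 2) F) (u : V) (s : Fin 2) (i : Fin m) :
    b.repr (Matrix.toLin b b (Matrix.blockDiagonal M) u) (s, i) =
      M i s 0 * b.repr u (0, i) + M i s 1 * b.repr u (1, i) := by
  rw [Matrix.repr_toLin, Matrix.mulVec, dotProduct, Fintype.sum_prod_type, Fin.sum_univ_two,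
    Finset.sum_eq_single i, Finset.sum_eq_single i] <;>
    simp +contextual [Matrix.blockDiagonal_apply, eq_comm]

theorem planeForm_block {V : Type*} [AddCommGroup V] [Module F V] {m : ℕ} (b : Basis (Fin 2 × Fin m) F V)
    (M : Fin m → Matrix (Fin 2) (Fin 2) F) {c : F} (hc : ∀ i, (M i).det = c) (u v : V) :
    planeForm b (Matrix.toLin b b (Matrix.blockDiagonal M) u) (Matrix.toLin b b (Matrix.blockDiagonal M) v) =
      c * planeForm b u v := by
  rw [planeForm_apply, planeForm_apply, Finset.mul_sum]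
  refine Finset.sum_congr rfl fun i _ => ?_
  rw [repr_block, repr_block, repr_block, repr_block, ← hc i, Matrix.det_fin_two]
  ring

theorem conj_mem_similarity {n m : ℕ} {f : (Fin n → F) → (Fin n → F) → F} (hf : Cfsg.Geo.IsSymplecticForm f)
    (x : Matrix.SpecialLinearGroup (Fin n) F) (b : Basis (Fin 2 × Fin m) F (Fin n → F))
    (M : Fin m → Matrix (Fin 2) (Fin 2) F) (hx : Matrix.toLin' (x : Matrix (Fin n) (Fin n) F) =
      Matrix.toLin b b (Matrix.blockDiagonal M)) {c : F} (hc : ∀ i, (M i).det = c) (hc0 : c ≠ 0) (i₀ : Fin m)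
    (hH : ∀ s : F, s ≠ 0 → ∃ H : Matrix (Fin 2) (Fin 2) F, H.det = s ∧ H * M i₀ = M i₀ * H) :
    ∃ P : Matrix.SpecialLinearGroup (Fin n) F, P⁻¹ * x * P ∈ ((Cfsg.Geo.similarityGroup f).comap
      (Matrix.SpecialLinearGroup.toGL : Matrix.SpecialLinearGroup (Fin n) F →* GL (Fin n) F)) := by
  classical
  let B0 : LinearMap.BilinForm F (Fin n → F) := LinearMap.mk₂ F f hf.bilinear.add_left hf.bilinear.smul_left
    hf.bilinear.add_right hf.bilinear.smul_right
  have hsep : ∀ u, (∀ v, planeForm b u v = 0) → u = 0 := by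
    intro u hu
    refine b.repr.map_eq_zero_iff.1 (Finsupp.ext fun ⟨s, i⟩ => ?_)
    have h0 := hu (b (0, i))
    have h1 := hu (b (1, i))
    rw [planeForm_apply, Finset.sum_eq_single i] at h0 h1
    · simp [Finsupp.single_apply] at h0 h1
      fin_cases s
      · exact h1
      · exact h0
    all_goals simp +contextual [Finsupp.single_apply, eq_comm]
  obtain ⟨y, hy⟩ := Cfsg.Agent.SympConj.exists_isometry (B := B0) (B' := planeForm b)
    (fun u => hf.alternating u) (fun u hu => by
      by_contra h0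
      obtain ⟨-, w, hw⟩ := hf.nondegenerate _ h0
      exact hw (hu w))
    (fun u => by rw [planeForm_apply]; simp [mul_comm]) hsep
  have hyi : Function.Injective y := by
    rw [injective_iff_map_eq_zero]
    intro u hu
    exact hsep u fun v => by rw [← hy, hu, map_zero, LinearMap.zero_apply]
  have hdy : LinearMap.det y ≠ 0 := fun h => by
    obtain ⟨v, hv, hv0⟩ := Submodule.exists_mem_ne_zero_of_ne_bot (LinearMap.bot_lt_ker_of_det_eq_zero h).ne'
    exact hv0 (hyi (by rw [LinearMap.mem_ker.1 hv, map_zero]))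
  obtain ⟨H, hHd, hHc⟩ := hH (LinearMap.det y)⁻¹ (inv_ne_zero hdy)
  set K : Fin m → Matrix (Fin 2) (Fin 2) F := Function.update 1 i₀ H with hK
  set h := Matrix.toLin b b (Matrix.blockDiagonal K) with hh
  have hdh : LinearMap.det h = (LinearMap.det y)⁻¹ := by
    rw [hh, LinearMap.det_toLin, Matrix.det_blockDiagonal, Finset.prod_eq_single i₀]
    · rw [hK, Function.update_self, hHd]
    · intro j _ hj
      rw [hK, Function.update_of_ne hj, Pi.one_apply, Matrix.det_one]
    · simp
  have hcomm : ∀ u, h (Matrix.toLin' (x : Matrix (Fin n) (Fin n) F) u) = Matrix.toLin' (x : Matrix (Fin n) (Fin n) F) (h u) := by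
    intro u
    rw [hx, hh, ← LinearMap.comp_apply, ← LinearMap.comp_apply, ← Matrix.toLin_mul, ← Matrix.toLin_mul,
      ← Matrix.blockDiagonal_mul, ← Matrix.blockDiagonal_mul]
    suffices e : (fun k => K k * M k) = fun k => M k * K k by rw [e]
    funext k
    by_cases hk : k = i₀
    · subst hk; rw [hK, Function.update_self, hHc]
    · rw [hK, Function.update_of_ne hk, Pi.one_apply, one_mul, mul_one]
  let G : Matrix.SpecialLinearGroup (Fin n) F := ⟨LinearMap.toMatrix' (y ∘ₗ h), by
    rw [LinearMap.det_toMatrix', LinearMap.det_comp, hdh, mul_inv_cancel₀ hdy]⟩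
  refine ⟨G⁻¹, Units.mk0 c hc0, fun u v => ?_⟩
  rw [inv_inv]
  obtain ⟨u, rfl⟩ : ∃ u', y (h u') = u := ⟨((G⁻¹ : Matrix.SpecialLinearGroup (Fin n) F) : Matrix (Fin n) (Fin n) F) *ᵥ u, by
    rw [← LinearMap.comp_apply, ← Matrix.toLin'_toMatrix' (y ∘ₗ h), Matrix.toLin'_apply, Matrix.mulVec_mulVec,
      show (LinearMap.toMatrix' (y ∘ₗ h)) = (G : Matrix (Fin n) (Fin n) F) from rfl,
      ← Matrix.SpecialLinearGroup.coe_mul, mul_inv_cancel, Matrix.SpecialLinearGroup.coe_one, Matrix.one_mulVec]⟩
  obtain ⟨v, rfl⟩ : ∃ v', y (h v') = v := ⟨((G⁻¹ : Matrix.SpecialLinearGroup (Fin n) F) : Matrix (Fin n) (Fin n) F) *ᵥ v, by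
    rw [← LinearMap.comp_apply, ← Matrix.toLin'_toMatrix' (y ∘ₗ h), Matrix.toLin'_apply, Matrix.mulVec_mulVec,
      show (LinearMap.toMatrix' (y ∘ₗ h)) = (G : Matrix (Fin n) (Fin n) F) from rfl,
      ← Matrix.SpecialLinearGroup.coe_mul, mul_inv_cancel, Matrix.SpecialLinearGroup.coe_one, Matrix.one_mulVec]⟩
  have e : ∀ w, ((G * x * G⁻¹ : Matrix.SpecialLinearGroup (Fin n) F) : Matrix (Fin n) (Fin n) F) *ᵥ (y (h w)) =
      y (h (Matrix.toLin' (x : Matrix (Fin n) (Fin n) F) w)) := by
    intro w
    have hG : ∀ z, y (h z) = (G : Matrix (Fin n) (Fin n) F) *ᵥ z := fun z => by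
      show (y ∘ₗ h) z = LinearMap.toMatrix' (y ∘ₗ h) *ᵥ z
      rw [← Matrix.toLin'_apply, Matrix.toLin'_toMatrix']
    rw [hG, hG, Matrix.toLin'_apply, Matrix.mulVec_mulVec, Matrix.mulVec_mulVec,
      ← Matrix.SpecialLinearGroup.coe_mul, ← Matrix.SpecialLinearGroup.coe_mul, inv_mul_cancel_right]
  show f (((G * x * G⁻¹ : Matrix.SpecialLinearGroup (Fin n) F) : Matrix (Fin n) (Fin n) F) *ᵥ (y (h u)))
    (((G * x * G⁻¹ : Matrix.SpecialLinearGroup (Fin n) F) : Matrix (Fin n) (Fin n) F) *ᵥ (y (h v))) = c * f (y (h u)) (y (h v))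
  rw [e, e, hcomm, hcomm]
  show B0 (y _) (y _) = c * B0 (y _) (y _)
  rw [hy, hy, hx, planeForm_block b M hc]

/-- Bases of planes. -/
theorem exists_plane_basis {n m : ℕ} (hm : n = 2 * m) (w : Fin 2 × Fin m → Fin n → F)
    (hli : LinearIndependent F w) : ∃ b : Basis (Fin 2 × Fin m) F (Fin n → F), ∀ s, b s = w s := by
  haveI : Nonempty (Fin 2 × Fin m) ∨ True := Or.inr trivial
  refine ⟨Basis.mk hli (Submodule.eq_top_of_finrank_eq ?_).ge, fun s => by simp⟩
  rw [finrank_span_eq_card hli, Module.finrank_fin_fun, Fintype.card_prod, Fintype.card_fin, Fintype.card_fin, hm]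

theorem eq_toLin {n m : ℕ} {b : Basis (Fin 2 × Fin m) F (Fin n → F)} {M : Fin m → Matrix (Fin 2) (Fin 2) F}
    {T : Module.End F (Fin n → F)} (h : ∀ s i, T (b (s, i)) = M i 0 s • b (0, i) + M i 1 s • b (1, i)) :
    T = Matrix.toLin b b (Matrix.blockDiagonal M) := by
  refine b.ext fun ⟨s, i⟩ => ?_
  rw [h, Matrix.toLin_self, Fintype.sum_prod_type, Fin.sum_univ_two, Finset.sum_eq_single i,
    Finset.sum_eq_single i] <;> simp +contextual [Matrix.blockDiagonal_apply]

/-- A map of square a non-square scalar. -/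
theorem exists_nonsquare_basis {n m : ℕ} (hm : n = 2 * m) (T : Module.End F (Fin n → F)) {z : F}
    (hT : ∀ v, T (T v) = z • v) (hz : ¬ IsSquare z) :
    ∃ b : Basis (Fin 2 × Fin m) F (Fin n → F), T = Matrix.toLin b b (Matrix.blockDiagonal fun _ => !![0, z; 1, 0]) := by
  classical
  suffices H : ∀ k ≤ m, ∃ w : Fin k → Fin n → F, LinearIndependent F (Sum.elim w (T ∘ w)) by
    obtain ⟨w, hw⟩ := H m le_rfl
    let σ : Fin 2 × Fin m → Fin m ⊕ Fin m := fun s => if s.1 = 0 then Sum.inl s.2 else Sum.inr s.2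
    have hσ : Function.Injective σ := by
      rintro ⟨a, i⟩ ⟨c, j⟩ h
      fin_cases a <;> fin_cases c <;> simp [σ] at h ⊢ <;> exact h
    obtain ⟨b, hb⟩ := exists_plane_basis hm _ (hw.comp σ hσ)
    refine ⟨b, eq_toLin fun s i => ?_⟩
    simp only [hb, Function.comp_apply, σ]
    fin_cases s <;> simp [hT]
  intro k
  induction k with
  | zero => exact fun _ => ⟨Fin.elim0, linearIndependent_empty_type⟩
  | succ k ih =>
    intro hk
    obtain ⟨w, hw⟩ := ih (by omega)
    set S := Submodule.span F (Set.range (Sum.elim w (T ∘ w))) with hS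
    have hST : ∀ v ∈ S, T v ∈ S := by
      intro v hv
      induction hv using Submodule.span_induction with
      | mem a ha =>
        obtain ⟨i | i, rfl⟩ := ha
        · exact Submodule.subset_span ⟨Sum.inr i, rfl⟩
        · simp only [Sum.elim_inr, Function.comp_apply, hT]
          exact S.smul_mem _ (Submodule.subset_span ⟨Sum.inl i, rfl⟩)
      | zero => rw [map_zero]; exact S.zero_mem
      | add a c _ _ pa pc => rw [map_add]; exact S.add_mem pa pc
      | smul c a _ pa => rw [map_smul]; exact S.smul_mem _ pa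
    obtain ⟨v, hv⟩ : ∃ v, v ∉ S := by
      by_contra hne
      push Not at hne
      have := Submodule.eq_top_iff'.2 hne
      have h1 := finrank_span_eq_card hw
      rw [← hS, this, finrank_top, Module.finrank_fin_fun, Fintype.card_sum, Fintype.card_fin] at h1
      omega
    refine ⟨Fin.snoc w v, ?_⟩
    rw [Fintype.linearIndependent_iff]
    intro g hg
    rw [Fintype.sum_sum_type, Fin.sum_univ_castSucc, Fin.sum_univ_castSucc] at hg
    simp only [Sum.elim_inl, Sum.elim_inr, Function.comp_apply, Fin.snoc_castSucc, Fin.snoc_last] at hg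
    set a := g (Sum.inl (Fin.last k))
    set c := g (Sum.inr (Fin.last k))
    have hmem : a • v + c • T v ∈ S := by
      have e : a • v + c • T v = -(∑ i, g (Sum.inl i.castSucc) • w i + ∑ i, g (Sum.inr i.castSucc) • T (w i)) := by
        rw [eq_neg_iff_add_eq_zero, ← hg]; abel
      rw [e]
      exact S.neg_mem (S.add_mem (Submodule.sum_mem _ fun i _ => S.smul_mem _ (Submodule.subset_span ⟨Sum.inl i, rfl⟩))
        (Submodule.sum_mem _ fun i _ => S.smul_mem _ (Submodule.subset_span ⟨Sum.inr i, rfl⟩)))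
    have h2 := hST _ hmem
    rw [map_add, map_smul, map_smul, hT] at h2
    have h3 : (a * a - c * c * z) • v ∈ S := by
      have := S.sub_mem (S.smul_mem a hmem) (S.smul_mem c h2)
      convert this using 1
      module
    have h4 : a * a - c * c * z = 0 := by
      by_contra hne
      exact hv (by simpa [smul_smul, inv_mul_cancel₀ hne] using S.smul_mem (a * a - c * c * z)⁻¹ h3)
    have hc : c = 0 := by
      by_contra hc
      exact hz ⟨a / c, by field_simp; linear_combination -h4⟩
    have ha : a = 0 := by simpa [hc] using h4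
    have hrest := Fintype.linearIndependent_iff.1 hw (Sum.elim (fun i => g (Sum.inl i.castSucc)) fun i => g (Sum.inr i.castSucc))
      (by rw [Fintype.sum_sum_type]; simpa [ha, hc] using hg)
    rintro (i | i) <;> induction i using Fin.lastCases with
    | last => first | exact ha | exact hc
    | cast i => first | exact hrest (Sum.inl i) | exact hrest (Sum.inr i)

theorem coeff_zero {ι V : Type*} [AddCommGroup V] [Module F V] [Fintype ι] (W : Submodule F V) (b : Basis ι F W)
    (g : ι → F) (h : ∑ i, g i • W.subtype (b i) = 0) : ∀ i, g i = 0 := by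
  have : ∑ i, g i • b i = 0 := W.subtype_injective (by rw [map_sum, map_zero]; simpa using h)
  exact Fintype.linearIndependent_iff.1 b.linearIndependent g this

set_option maxHeartbeats 400000 in
theorem unipotent_case [Fintype F] [CharP F 2] {n m : ℕ} (hm' : n = 2 * m) (hn : 4 ≤ n) {f : (Fin n → F) → (Fin n → F) → F}
    (hf : Cfsg.Geo.IsSymplecticForm f) (x : Matrix.SpecialLinearGroup (Fin n) F) {d : F} (hd0 : d ≠ 0)
    (hT : ∀ v, Matrix.toLin' (x : Matrix (Fin n) (Fin n) F) (Matrix.toLin' (x : Matrix (Fin n) (Fin n) F) v) = (d * d) • v) :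
    ∃ P : Matrix.SpecialLinearGroup (Fin n) F, P⁻¹ * x * P ∈ ((Cfsg.Geo.similarityGroup f).comap
      (Matrix.SpecialLinearGroup.toGL : Matrix.SpecialLinearGroup (Fin n) F →* GL (Fin n) F)) := by
  classical
  have h2 : (2 : F) = 0 := CharTwo.two_eq_zero
  set T := Matrix.toLin' (x : Matrix (Fin n) (Fin n) F) with hTdef
  set N : Module.End F (Fin n → F) := T - d • 1 with hN
  have hNN : ∀ v, N (N v) = 0 := fun v => by
    simp only [hN, LinearMap.sub_apply, LinearMap.smul_apply, Module.End.one_apply, map_sub, map_smul, hT]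
    rw [show (d * d) • v - d • T v - d • (T v - d • v) = (2 : F) • ((d * d) • v - d • T v) by module, h2, zero_smul]
  set R := LinearMap.range N with hR
  have hRK : R ≤ LinearMap.ker N := by rintro _ ⟨v, rfl⟩; exact LinearMap.mem_ker.2 (hNN v)
  set k := finrank F R with hk
  have hsum := N.finrank_range_add_finrank_ker
  rw [Module.finrank_fin_fun, ← hR, ← hk] at hsum
  have hkm := Submodule.finrank_mono hRK
  have hkm' : k ≤ m := by omega
  let br : Basis (Fin k) F R := Module.finBasis F R
  choose pre hpre using fun i => (br i).2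
  obtain ⟨Cc, hCc⟩ := Submodule.exists_isCompl (R.comap (LinearMap.ker N).subtype)
  haveI : Module.Free F Cc := Module.Free.of_divisionRing F Cc
  have hCd : finrank F Cc = 2 * (m - k) := by
    have := Submodule.finrank_add_eq_of_isCompl hCc
    rw [(Submodule.comapSubtypeEquivOfLe hRK).finrank_eq] at this
    omega
  obtain ⟨bc⟩ : Nonempty (Basis (Fin 2 × Fin (m - k)) F Cc) :=
    ⟨(Module.finBasisOfFinrankEq F Cc hCd).reindex finProdFinEquiv.symm⟩
  let r0 : Fin k → Fin n → F := fun i => (br i : Fin n → F)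
  let s0 : Fin 2 × Fin (m - k) → Fin n → F := fun i => ((bc i : LinearMap.ker N) : Fin n → F)
  have hs0N : ∀ i, N (s0 i) = 0 := fun i => LinearMap.mem_ker.1 (bc i : LinearMap.ker N).2
  have hr0N : ∀ i, N (r0 i) = 0 := fun i => LinearMap.mem_ker.1 (hRK (br i).2)
  let σ : Fin m ≃ Fin k ⊕ Fin (m - k) := (finCongr (by omega)).trans finSumFinEquiv.symm
  let w : Fin 2 × Fin m → Fin n → F := fun s => Sum.elim (fun i => if s.1 = 0 then r0 i else pre i)
    (fun i => s0 (s.1, i)) (σ s.2)
  have hli : LinearIndependent F w := by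
    rw [Fintype.linearIndependent_iff]
    intro g hg
    rw [Fintype.sum_prod_type, Fin.sum_univ_two] at hg
    have e : ∀ F' : Fin m → Fin n → F, ∑ i, F' i =
        ∑ i, F' (σ.symm (Sum.inl i)) + ∑ i, F' (σ.symm (Sum.inr i)) := fun F' => by
      rw [← Fintype.sum_sum_type (fun s => F' (σ.symm s))]
      exact (Equiv.sum_comp σ.symm F').symm
    rw [e, e] at hg
    simp only [w, Equiv.apply_symm_apply, Sum.elim_inl, Sum.elim_inr, if_true,
      show ((1 : Fin 2) = 0) = False from eq_false (by decide), if_false] at hg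
    have hg' := congrArg N hg
    simp only [map_add, map_sum, map_smul, hr0N, hs0N, smul_zero, Finset.sum_const_zero, zero_add, add_zero,
      map_zero, hpre] at hg'
    have hb : ∀ i, g (1, σ.symm (Sum.inl i)) = 0 :=
      Fintype.linearIndependent_iff.1 (br.linearIndependent.map' R.subtype R.ker_subtype) _ hg'
    simp only [hb, zero_smul, Finset.sum_const_zero, zero_add] at hg
    let A : LinearMap.ker N := ∑ i, g (0, σ.symm (Sum.inl i)) • ⟨r0 i, hRK (br i).2⟩
    let C : LinearMap.ker N := ∑ i, g (0, σ.symm (Sum.inr i)) • (bc (0, i) : LinearMap.ker N) +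
      ∑ i, g (1, σ.symm (Sum.inr i)) • (bc (1, i) : LinearMap.ker N)
    have hAC : A + C = 0 := by
      refine Subtype.ext ?_
      simp only [A, C, Submodule.coe_add, Submodule.coe_sum, Submodule.coe_smul, Submodule.coe_zero]
      rw [← add_assoc]; exact hg
    have hA : A ∈ R.comap (LinearMap.ker N).subtype :=
      Submodule.sum_mem _ fun i _ => Submodule.smul_mem _ _ (br i).2
    have hC : C ∈ Cc := Submodule.add_mem _ (Submodule.sum_mem _ fun i _ => Submodule.smul_mem _ _ (bc _).2)
      (Submodule.sum_mem _ fun i _ => Submodule.smul_mem _ _ (bc _).2)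
    have hA0 : A = 0 := Submodule.disjoint_def.1 hCc.disjoint A hA (by
      rw [eq_neg_of_add_eq_zero_left hAC]; exact Cc.neg_mem hC)
    have hC0 : C = 0 := by rwa [hA0, zero_add] at hAC
    have ha : ∀ i, g (0, σ.symm (Sum.inl i)) = 0 :=
      Fintype.linearIndependent_iff.1 (br.linearIndependent.map' R.subtype R.ker_subtype) _ (by
        have := congrArg Subtype.val hA0
        simpa [A, r0] using this)
    have hsum0 : ∑ s : Fin 2 × Fin (m - k), g (s.1, σ.symm (Sum.inr s.2)) • (Cc.subtype (bc s)) = 0 := by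
      rw [Fintype.sum_prod_type, Fin.sum_univ_two]
      exact hC0
    have hcc : ∀ s : Fin 2 × Fin (m - k), g (s.1, σ.symm (Sum.inr s.2)) = 0 :=
      coeff_zero Cc bc (fun s => g (s.1, σ.symm (Sum.inr s.2))) hsum0
    rintro ⟨s, i⟩
    obtain ⟨i, rfl⟩ := σ.symm.surjective i
    fin_cases s <;> rcases i with i | i
    · exact ha i
    · exact hcc (0, i)
    · exact hb i
    · exact hcc (1, i)
  obtain ⟨b, hb⟩ := exists_plane_basis hm' w hli
  have hTN : ∀ v, T v = d • v + N v := fun v => by simp [hN]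
  let M : Fin m → Matrix (Fin 2) (Fin 2) F :=
    fun i => Sum.elim (fun _ => !![d, 1; 0, d]) (fun _ => !![d, 0; 0, d]) (σ i)
  refine conj_mem_similarity hf x b M (eq_toLin fun s i => ?_) (c := d * d) (fun i => ?_) (mul_ne_zero hd0 hd0)
    ⟨0, by omega⟩ (fun s hs => ?_)
  · rw [hb, hb, hb]
    show T _ = _
    rw [hTN]
    obtain ⟨i, rfl⟩ := σ.symm.surjective i
    rcases i with i | i <;> fin_cases s <;> simp [w, M, hr0N, hs0N, hpre, r0, add_comm]
  · simp only [M]
    rcases σ i with j | j <;> simp [Matrix.det_fin_two]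
  · obtain ⟨t, ht⟩ := FiniteField.isSquare_of_char_two (F := F) (ringChar.eq F 2) s
    exact ⟨t • 1, by rw [Matrix.det_smul, Matrix.det_one, Fintype.card_fin, mul_one, pow_two, ht],
      by rw [smul_mul_assoc, one_mul, mul_smul_comm, mul_one]⟩

theorem eigen_case [Fintype F] {n m q : ℕ} (hq : Fintype.card F = q) (hm' : n = 2 * m) (hn : 4 ≤ n)
    (hle : padicValNat 2 (q - 1) ≤ padicValNat 2 n) {f : (Fin n → F) → (Fin n → F) → F}
    (hf : Cfsg.Geo.IsSymplecticForm f) (x : Matrix.SpecialLinearGroup (Fin n) F) {d : F} (hd0 : d ≠ 0) (h2 : (2 : F) ≠ 0)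
    (hT : ∀ v, Matrix.toLin' (x : Matrix (Fin n) (Fin n) F) (Matrix.toLin' (x : Matrix (Fin n) (Fin n) F) v) = (d * d) • v) :
    ∃ P : Matrix.SpecialLinearGroup (Fin n) F, P⁻¹ * x * P ∈ ((Cfsg.Geo.similarityGroup f).comap
      (Matrix.SpecialLinearGroup.toGL : Matrix.SpecialLinearGroup (Fin n) F →* GL (Fin n) F)) := by
  classical
  have hq2 : 2 ≤ q := hq ▸ Fintype.one_lt_card
  set T := Matrix.toLin' (x : Matrix (Fin n) (Fin n) F) with hTdef
  set E1 := LinearMap.ker (T - d • 1) with hE1
  set E2 := LinearMap.ker (T + d • 1) with hE2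
  have hm1 : ∀ v, v ∈ E1 ↔ T v = d • v := fun v => by simp [hE1, sub_eq_zero]
  have hm2 : ∀ v, v ∈ E2 ↔ T v = -(d • v) := fun v => by simp [hE2, add_eq_zero_iff_eq_neg]
  have hc : IsCompl E1 E2 := by
    constructor
    · rw [Submodule.disjoint_def]
      intro v h1 h2'
      rw [hm1] at h1
      rw [hm2, h1] at h2'
      have : ((2 : F) * d) • v = 0 := by
        rw [two_mul, add_smul]; nth_rw 1 [h2']; exact neg_add_cancel _
      exact (smul_eq_zero.1 this).resolve_left (mul_ne_zero h2 hd0)
    · rw [codisjoint_iff, eq_top_iff]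
      intro v _
      refine Submodule.mem_sup.2 ⟨(2 * d)⁻¹ • (d • v + T v), (hm1 _).2 ?_, (2 * d)⁻¹ • (d • v - T v),
        (hm2 _).2 ?_, ?_⟩
      · simp only [map_smul, map_add, hT]; module
      · simp only [map_smul, map_sub, hT]; module
      · rw [← smul_add, show d • v + T v + (d • v - T v) = (2 * d) • v by module, smul_smul,
          inv_mul_cancel₀ (mul_ne_zero h2 hd0), one_smul]
  have hrk := Submodule.finrank_add_eq_of_isCompl hc
  rw [Module.finrank_fin_fun] at hrk
  have hdet : d ^ n * (-1) ^ finrank F E2 = 1 := by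
    let bb := ((Module.finBasis F E1).prod (Module.finBasis F E2)).map (Submodule.prodEquivOfIsCompl E1 E2 hc)
    have hdm : LinearMap.det T = d ^ finrank F E1 * (-d) ^ finrank F E2 := by
      have e : LinearMap.toMatrix bb bb T = Matrix.diagonal
          (Sum.elim (fun _ => d) fun _ => -d : Fin (finrank F E1) ⊕ Fin (finrank F E2) → F) := by
        ext a c
        rw [LinearMap.toMatrix_apply]
        have hTb : T (bb c) = Sum.elim (fun _ => d) (fun _ => -d) c • bb c := by
          rcases c with c | c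
          · have : bb (Sum.inl c) = (Module.finBasis F E1 c : Fin n → F) := by simp [bb]
            rw [this, (hm1 _).1 (Module.finBasis F E1 c).2]; rfl
          · have : bb (Sum.inr c) = (Module.finBasis F E2 c : Fin n → F) := by simp [bb]
            rw [this, (hm2 _).1 (Module.finBasis F E2 c).2]; simp
        rw [hTb, map_smul, Basis.repr_self, Matrix.diagonal_apply]
        by_cases hac : a = c
        · subst hac; simp
        · simp [hac]
      rw [← LinearMap.det_toMatrix bb, e, Matrix.det_diagonal, Fintype.prod_sum_type]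
      simp
    rw [hTdef, LinearMap.det_toLin', Matrix.SpecialLinearGroup.det_coe, neg_pow] at hdm
    have hn' : d ^ n = d ^ finrank F E1 * d ^ finrank F E2 := by rw [← pow_add, hrk]
    rw [hn']
    linear_combination -hdm
  have hev : Even (finrank F E2) := by
    rw [← Nat.not_odd_iff_even]
    intro ho
    rw [ho.neg_one_pow, mul_neg_one, neg_eq_iff_eq_neg] at hdet
    set u := Units.mk0 d hd0
    have hu : u ^ n = -1 := Units.ext (by simpa [u] using hdet)
    set v := padicValNat 2 n with hv
    have hq1 : 0 < q - 1 := by omega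
    obtain ⟨t, ht⟩ : 2 ^ v ∣ n := pow_padicValNat_dvd
    obtain ⟨k, hk⟩ : 2 ^ (padicValNat 2 (q - 1)) ∣ q - 1 := pow_padicValNat_dvd
    have hkodd : Odd k := by
      rw [← Nat.not_even_iff_odd, even_iff_two_dvd]
      rintro ⟨s, rfl⟩
      have : 2 ^ (padicValNat 2 (q - 1) + 1) ∣ q - 1 := ⟨s, hk.trans (by ring)⟩
      exact pow_succ_padicValNat_not_dvd (by omega) this
    have h1 : (u ^ n) ^ k = 1 := by
      rw [← pow_mul, ← orderOf_dvd_iff_pow_eq_one]
      refine orderOf_dvd_natCard u |>.trans ?_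
      rw [Nat.card_eq_fintype_card, Fintype.card_units, hq, hk]
      refine Nat.mul_dvd_mul_right ((pow_dvd_pow 2 hle).trans ?_) k
      exact pow_padicValNat_dvd
    rw [hu, hkodd.neg_one_pow] at h1
    exact h2 (by
      have := congrArg Units.val h1
      simp at this
      linear_combination -this)
  obtain ⟨l, hl⟩ := hev
  have h1d : finrank F E1 = 2 * (m - l) := by omega
  have h2d : finrank F E2 = 2 * l := by omega
  let b1 : Basis (Fin 2 × Fin (m - l)) F E1 := (Module.finBasisOfFinrankEq F E1 h1d).reindex finProdFinEquiv.symm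
  let b2 : Basis (Fin 2 × Fin l) F E2 := (Module.finBasisOfFinrankEq F E2 h2d).reindex finProdFinEquiv.symm
  let σ : Fin m ≃ Fin (m - l) ⊕ Fin l := (finCongr (by omega)).trans finSumFinEquiv.symm
  let b : Basis (Fin 2 × Fin m) F (Fin n → F) :=
    ((b1.prod b2).map (Submodule.prodEquivOfIsCompl E1 E2 hc)).reindex
      ((Equiv.prodSumDistrib _ _ _).symm.trans ((Equiv.refl _).prodCongr σ.symm))
  let M : Fin m → Matrix (Fin 2) (Fin 2) F :=
    fun i => Sum.elim (fun _ => !![d, 0; 0, d]) (fun _ => !![-d, 0; 0, -d]) (σ i)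
  refine conj_mem_similarity hf x b M (eq_toLin fun s i => ?_) (c := d * d) (fun i => ?_) (mul_ne_zero hd0 hd0)
    ⟨0, by omega⟩ (fun s hs => ⟨!![s, 0; 0, 1], by simp [Matrix.det_fin_two], ?_⟩)
  · obtain ⟨i, rfl⟩ := σ.symm.surjective i
    rcases i with i | i
    · have hb : ∀ s, b (s, σ.symm (Sum.inl i)) = (b1 (s, i) : Fin n → F) := fun s => by simp [b]
      simp only [hb]
      show T _ = _
      rw [(hm1 _).1 (b1 (s, i)).2]
      fin_cases s <;> simp [M]
    · have hb : ∀ s, b (s, σ.symm (Sum.inr i)) = (b2 (s, i) : Fin n → F) := fun s => by simp [b]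
      simp only [hb]
      show T _ = _
      rw [(hm2 _).1 (b2 (s, i)).2]
      fin_cases s <;> simp [M]
  · simp only [M]
    rcases σ i with j | j <;> simp [Matrix.det_fin_two]
  · simp only [M]
    rcases σ ⟨0, by omega⟩ with j | j <;>
      (ext a c; fin_cases a <;> fin_cases c <;> simp [Matrix.mul_apply, Fin.sum_univ_two, mul_comm])

end

/-- Involutions of PSL_n(q) and the symplectic-type subgroups. Here `T = PSL_n(F)` for a field `F` with `q` elements, `n ≥ 4` even, `f` is a nondegenerate alternating form on `F^n`, and `H` is the subgroup of matrices of determinant 1 preserving `f` up to a scalar — a maximal subgroup of type Sp_n(q); Ω is the set of `T`-conjugates of `H` (cosets of `H`), so an element of `T` of prime order `r` (a matrix `x` of determinant 1 with `x^r` scalar, `x` not scalar) fixes a point of Ω when some conjugate of `x` by a matrix of determinant 1 preserves `f` up to a scalar. Suppose the index of `H` is even. Then every involution of `T` is conjugate in `T` into `H` if and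 only if `(q − 1)_2 ≤ (n)_2`. -/
theorem result {F : Type*} [Field F] [Fintype F] {p : ℕ} [Fact p.Prime] [CharP F p] {q : ℕ} (hq : Fintype.card F = q)
    (n : ℕ) (hn : 4 ≤ n) (he : Even n) (f : (Fin n → F) → (Fin n → F) → F) (hf : Cfsg.Geo.IsSymplecticForm f)
    (hΩ : 2 ∣ ((Cfsg.Geo.similarityGroup f).comap (Matrix.SpecialLinearGroup.toGL : Matrix.SpecialLinearGroup (Fin n) F →* GL (Fin n) F)).index) :
    (∀ x : Matrix.SpecialLinearGroup (Fin n) F,
      (∃ z : F, ((x ^ 2 : Matrix.SpecialLinearGroup (Fin n) F) : Matrix (Fin n) (Fin n) F) = z • (1 : Matrix (Fin n) (Fin n) F)) →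
      (∀ z : F, (x : Matrix (Fin n) (Fin n) F) ≠ z • (1 : Matrix (Fin n) (Fin n) F)) →
      ∃ P : Matrix.SpecialLinearGroup (Fin n) F, P⁻¹ * x * P ∈ ((Cfsg.Geo.similarityGroup f).comap (Matrix.SpecialLinearGroup.toGL : Matrix.SpecialLinearGroup (Fin n) F →* GL (Fin n) F))) ↔
    padicValNat 2 (q - 1) ≤ padicValNat 2 n := by
  classical
  obtain ⟨m, hm⟩ := he
  have hm' : n = 2 * m := by omega
  have hq2 : 2 ≤ q := hq ▸ Fintype.one_lt_card
  constructor
  · intro hall
    by_contra hlt
    rw [not_le] at hlt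
    have hodd : p ≠ 2 := by
      rintro rfl
      obtain ⟨e, -, he'⟩ := FiniteField.card F 2
      have : Odd (q - 1) := Nat.Even.sub_odd (by omega) (hq ▸ he' ▸ (Nat.even_pow.2 ⟨even_two, e.pos.ne'⟩)) odd_one
      rw [padicValNat.eq_zero_of_not_dvd (fun h => (Nat.not_even_iff_odd.2 this) (even_iff_two_dvd.2 h))] at hlt
      omega
    have h2F : (2 : F) ≠ 0 := fun h => hodd (((Nat.prime_dvd_prime_iff_eq (Fact.out : p.Prime) Nat.prime_two).1
      ((CharP.cast_eq_zero_iff F p 2).1 (by exact_mod_cast h))))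
    set v := padicValNat 2 n with hv
    obtain ⟨t, ht⟩ : 2 ^ v ∣ n := pow_padicValNat_dvd
    have htodd : Odd t := by
      rw [← Nat.not_even_iff_odd, even_iff_two_dvd]
      rintro ⟨s, rfl⟩
      have : 2 ^ (v + 1) ∣ n := ⟨s, by rw [ht]; ring⟩
      exact pow_succ_padicValNat_not_dvd (by omega) this
    obtain ⟨g, hg⟩ := IsCyclic.exists_ofOrder_eq_natCard (α := Fˣ)
    have hcard : Nat.card Fˣ = q - 1 := by rw [Nat.card_eq_fintype_card, Fintype.card_units, hq]
    have hdvd : 2 ^ (v + 1) ∣ q - 1 := (pow_dvd_pow 2 hlt).trans pow_padicValNat_dvd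
    obtain ⟨k, hk⟩ := hdvd
    have hd : ((g ^ k : Fˣ) : F) ^ n = -1 := by
      have hsq : ((g ^ (k * 2 ^ v) : Fˣ) : F) = -1 := by
        have h1 : ((g ^ (k * 2 ^ v) : Fˣ) : F) * ((g ^ (k * 2 ^ v) : Fˣ) : F) = 1 := by
          rw [← Units.val_mul, ← pow_add, show k * 2 ^ v + k * 2 ^ v = q - 1 by rw [hk]; ring, ← hcard, ← hg,
            pow_orderOf_eq_one, Units.val_one]
        rcases mul_self_eq_one_iff.1 h1 with h | h
        · exfalso
          rw [Units.val_eq_one, ← orderOf_dvd_iff_pow_eq_one, hg, hcard, hk] at h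
          have hkpos : 0 < k := Nat.pos_of_ne_zero (by rintro rfl; rw [mul_zero] at hk; omega)
          have := Nat.le_of_dvd (Nat.mul_pos hkpos (pow_pos two_pos v)) h
          rw [pow_succ] at this
          nlinarith [Nat.mul_pos hkpos (pow_pos two_pos v)]
        · exact h
      rw [ht, pow_mul, ← Units.val_pow_eq_pow_val, ← pow_mul, hsq, htodd.neg_one_pow]
    set d := ((g ^ k : Fˣ) : F) with hddef
    have hd0 : d ≠ 0 := (g ^ k).ne_zero
    let i₁ : Fin n := ⟨0, by omega⟩
    let w : Fin n → F := fun i => if i = i₁ then -d else d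
    have hdet : (Matrix.diagonal w).det = 1 := by
      rw [Matrix.det_diagonal, ← Finset.mul_prod_erase _ _ (Finset.mem_univ i₁), Finset.prod_congr rfl
        (fun j hj => show w j = d by simp [w, (Finset.mem_erase.1 hj).1]), Finset.prod_const,
        Finset.card_erase_of_mem (Finset.mem_univ _), Finset.card_univ, Fintype.card_fin]
      simp only [w, if_true]
      rw [neg_mul, ← pow_succ', show n - 1 + 1 = n by omega, hd, neg_neg]
    obtain ⟨x, hxw⟩ : ∃ x : Matrix.SpecialLinearGroup (Fin n) F, (x : Matrix (Fin n) (Fin n) F) = Matrix.diagonal w :=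
      ⟨⟨Matrix.diagonal w, hdet⟩, rfl⟩
    obtain ⟨P, c, hc⟩ := hall x ⟨d ^ 2, by
        rw [Matrix.SpecialLinearGroup.coe_pow, hxw]
        show Matrix.diagonal w ^ 2 = _
        rw [Matrix.diagonal_pow, ← Matrix.diagonal_one, ← Matrix.diagonal_smul]
        congr 1
        funext i
        by_cases hi : i = i₁ <;> simp [w, hi, smul_eq_mul]⟩ (fun z hz => by
        rw [hxw] at hz
        have h1 := congrFun (congrFun hz i₁) i₁
        have h2 := congrFun (congrFun hz ⟨1, by omega⟩) ⟨1, by omega⟩
        have hne : (⟨1, by omega⟩ : Fin n) ≠ i₁ := by simp [i₁]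
        simp [w, hne] at h1 h2
        exact h2F (by
          have : (2 : F) * d = 0 := by linear_combination h2 - h1
          exact (mul_eq_zero.1 this).resolve_right hd0))
    let Q : Matrix (Fin n) (Fin n) F := ((P⁻¹ : Matrix.SpecialLinearGroup (Fin n) F) : Matrix (Fin n) (Fin n) F)
    let B : (Fin n → F) → (Fin n → F) → F := fun u v => f (Q *ᵥ u) (Q *ᵥ v)
    have hB : ∀ u v, B (w * u) (w * v) = c * B u v := by
      intro u v
      have e : ∀ u, Q *ᵥ (w * u) = ((P⁻¹ * x * P : Matrix.SpecialLinearGroup (Fin n) F) : Matrix (Fin n) (Fin n) F) *ᵥ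
          (Q *ᵥ u) := fun u => by
        rw [Matrix.mulVec_mulVec, ← Matrix.SpecialLinearGroup.coe_mul, mul_inv_cancel_right,
          Matrix.SpecialLinearGroup.coe_mul, ← Matrix.mulVec_mulVec, hxw]
        congr 1
        funext i
        exact (Matrix.mulVec_diagonal w u i).symm
      show f (Q *ᵥ (w * u)) (Q *ᵥ (w * v)) = _
      rw [e, e]
      exact hc _ _
    have hsm : ∀ a u v, B (a • u) v = a * B u v := fun a u v => by
      show f _ _ = _; rw [Matrix.mulVec_smul]; exact hf.bilinear.smul_left a _ _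
    have hsm' : ∀ a u v, B u (a • v) = a * B u v := fun a u v => by
      show f _ _ = _; rw [Matrix.mulVec_smul]; exact hf.bilinear.smul_right a _ _
    have hws : ∀ i : Fin n, w * Pi.single i 1 = w i • Pi.single i (1 : F) := fun i => by
      funext j
      by_cases hji : j = i
      · subst hji; simp
      · simp [hji]
    have hpair : ∀ i j, w i * w j ≠ c → B (Pi.single i 1) (Pi.single j 1) = 0 := fun i j hij => by
      have := hB (Pi.single i 1) (Pi.single j 1)
      rw [hws, hws, hsm, hsm', ← mul_assoc] at this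
      by_contra hne
      exact hij (mul_right_cancel₀ hne this)
    -- the first vector is not orthogonal to some other
    have hex : ∀ i, ∃ j, B (Pi.single i 1) (Pi.single j 1) ≠ 0 := by
      intro i
      by_contra hne
      push Not at hne
      let B0 : LinearMap.BilinForm F (Fin n → F) := LinearMap.mk₂ F f hf.bilinear.add_left hf.bilinear.smul_left
        hf.bilinear.add_right hf.bilinear.smul_right
      have hu : Q *ᵥ Pi.single i 1 ≠ 0 := fun h => by
        have := congrArg (fun v => (P : Matrix (Fin n) (Fin n) F) *ᵥ v) h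
        simp only [Q, Matrix.mulVec_mulVec, ← Matrix.SpecialLinearGroup.coe_mul, mul_inv_cancel,
          Matrix.SpecialLinearGroup.coe_one, Matrix.one_mulVec, Matrix.mulVec_zero] at this
        simpa using congrFun this i
      obtain ⟨-, y, hy⟩ := hf.nondegenerate _ hu
      refine hy ?_
      have : B0 (Q *ᵥ Pi.single i 1) ∘ₗ Matrix.toLin' Q = 0 := LinearMap.pi_ext' fun j => LinearMap.ext_ring (by
        simpa [B0, B, Matrix.toLin'_apply] using hne j)
      have h2 := LinearMap.congr_fun this ((P : Matrix (Fin n) (Fin n) F) *ᵥ y)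
      simp only [LinearMap.comp_apply, Matrix.toLin'_apply, Q, Matrix.mulVec_mulVec,
        ← Matrix.SpecialLinearGroup.coe_mul, inv_mul_cancel, Matrix.SpecialLinearGroup.coe_one,
        Matrix.one_mulVec] at h2
      exact h2
    obtain ⟨j, hj⟩ := hex i₁
    have hj1 : j ≠ i₁ := fun h => by
      subst h; exact hj (hf.alternating _)
    have hc2 : w i₁ * w j = c := by by_contra h; exact hj (hpair _ _ h)
    have hother : ∀ a l, a ≠ i₁ → l ≠ i₁ → B (Pi.single a 1) (Pi.single l 1) = 0 := by
      intro a l ha hl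
      refine hpair a l fun h => ?_
      simp only [w, if_neg hl, if_neg hj1, if_pos, if_neg ha] at hc2 h
      refine h2F ?_
      have : (2 : F) * (d * d) = 0 := by linear_combination h - hc2
      exact (mul_eq_zero.1 this).resolve_right (mul_ne_zero hd0 hd0)
    have hcol : ∀ a, a ≠ i₁ → B (Pi.single a 1) (Pi.single i₁ 1) ≠ 0 := by
      intro a ha h0
      obtain ⟨l, hl⟩ := hex a
      by_cases hl1 : l = i₁
      · exact hl (hl1 ▸ h0)
      · exact hl (hother a l ha hl1)
    -- two vectors orthogonal to all others but the first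
    let a₁ : Fin n := ⟨1, by omega⟩
    let a₂ : Fin n := ⟨2, by omega⟩
    have ha₁ : a₁ ≠ i₁ := by simp [a₁, i₁]
    have ha₂ : a₂ ≠ i₁ := by simp [a₂, i₁]
    let B1 : LinearMap.BilinForm F (Fin n → F) := LinearMap.mk₂ F f hf.bilinear.add_left hf.bilinear.smul_left
      hf.bilinear.add_right hf.bilinear.smul_right
    let B2 := B1.comp (Matrix.toLin' Q) (Matrix.toLin' Q)
    set u := B (Pi.single a₂ 1) (Pi.single i₁ 1) • (Pi.single a₁ 1 : Fin n → F) -
      B (Pi.single a₁ 1) (Pi.single i₁ 1) • Pi.single a₂ 1 with hu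
    have hu0 : B2 u = 0 := LinearMap.pi_ext' fun l => LinearMap.ext_ring (by
      show B2 u (Pi.single l 1) = 0
      rw [hu, map_sub, LinearMap.sub_apply, map_smul, map_smul, LinearMap.smul_apply, LinearMap.smul_apply,
        smul_eq_mul, smul_eq_mul]
      show _ * B (Pi.single a₁ 1) (Pi.single l 1) - _ * B (Pi.single a₂ 1) (Pi.single l 1) = 0
      by_cases hl : l = i₁
      · subst hl; ring
      · rw [hother _ _ ha₁ hl, hother _ _ ha₂ hl]; ring)
    have hune : u ≠ 0 := fun h => by
      have := congrFun h a₁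
      simp [hu, a₁, a₂] at this
      exact hcol a₂ ha₂ this
    have hQu : Matrix.toLin' Q u ≠ 0 := fun h => hune (by
      have := congrArg (fun v => (P : Matrix (Fin n) (Fin n) F) *ᵥ v) h
      simp only [Q, Matrix.toLin'_apply, Matrix.mulVec_mulVec, ← Matrix.SpecialLinearGroup.coe_mul, mul_inv_cancel,
        Matrix.SpecialLinearGroup.coe_one, Matrix.one_mulVec, Matrix.mulVec_zero] at this
      exact this)
    obtain ⟨-, y, hy⟩ := hf.nondegenerate _ hQu
    have := LinearMap.congr_fun hu0 ((P : Matrix (Fin n) (Fin n) F) *ᵥ y)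
    refine hy ?_
    simp only [B2, LinearMap.BilinForm.comp_apply, Matrix.toLin'_apply, Q, Matrix.mulVec_mulVec,
      ← Matrix.SpecialLinearGroup.coe_mul, inv_mul_cancel, Matrix.SpecialLinearGroup.coe_one,
      Matrix.one_mulVec, LinearMap.zero_apply] at this
    exact this
  · intro hle x ⟨z, hxz⟩ hns
    set T := Matrix.toLin' (x : Matrix (Fin n) (Fin n) F) with hTdef
    have hT : ∀ v, T (T v) = z • v := fun v => by
      rw [hTdef, Matrix.toLin'_apply, Matrix.toLin'_apply, Matrix.mulVec_mulVec, ← pow_two,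
        ← Matrix.SpecialLinearGroup.coe_pow, hxz, Matrix.smul_mulVec, Matrix.one_mulVec]
    have hz0 : z ≠ 0 := by
      intro h
      have hdz := congrArg Matrix.det hxz
      haveI : Nonempty (Fin n) := ⟨⟨0, by omega⟩⟩
      rw [Matrix.SpecialLinearGroup.det_coe, h, Matrix.det_smul, zero_pow (by simp; omega), zero_mul] at hdz
      exact one_ne_zero hdz
    by_cases hzs : IsSquare z
    · obtain ⟨d, hd⟩ := hzs
      have hd0 : d ≠ 0 := fun h => hz0 (by rw [hd, h, zero_mul])
      by_cases h2 : (2 : F) = 0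
      · haveI : CharP F 2 := CharTwo.of_one_ne_zero_of_two_eq_zero one_ne_zero h2
        exact unipotent_case hm' hn hf x hd0 (hd ▸ hT)
      · exact eigen_case hq hm' hn hle hf x hd0 h2 (hd ▸ hT)
    · obtain ⟨b, hb⟩ := exists_nonsquare_basis hm' T hT hzs
      have h2 : (2 : F) ≠ 0 := fun h2 => by
        haveI : CharP F 2 := CharTwo.of_one_ne_zero_of_two_eq_zero one_ne_zero h2
        exact hzs (FiniteField.isSquare_of_char_two (ringChar.eq F 2) z)
      refine conj_mem_similarity hf x b _ hb (c := -z) (fun i => by simp [Matrix.det_fin_two]) (neg_ne_zero.2 hz0)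
        ⟨0, by omega⟩ (fun s hs => ?_)
      have hodd : Fintype.card F % 2 = 1 := FiniteField.odd_card_of_char_ne_two (fun h => h2 (by
        haveI : CharP F 2 := h ▸ ringChar.charP F
        exact CharTwo.two_eq_zero))
      open Polynomial in
      obtain ⟨a, c, hac⟩ := FiniteField.exists_root_sum_quadratic (f := X ^ 2 - C s) (g := C (-z) * X ^ 2)
        (Polynomial.degree_X_pow_sub_C two_pos _) (by rw [Polynomial.degree_C_mul_X_pow]; · rfl
                                                      exact neg_ne_zero.2 hz0) hodd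
      simp at hac
      exact ⟨!![a, c * z; c, a], by rw [Matrix.det_fin_two]; simp; linear_combination hac,
        by ext i j; fin_cases i <;> fin_cases j <;> simp [Matrix.mul_apply, Fin.sum_univ_two, mul_comm, mul_left_comm]⟩

end Cfsg.Agent.S5967
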