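import Cfsg.Statements.S5968
import Cfsg.Agent.MatModule.LargeSylow
import Cfsg.Agent.MatModule.SympPoly
import Cfsg.Agent.MatModule.UnipotentFormCount

set_option autoImplicit false
open scoped MatrixGroups
open Cfsg

namespace Cfsg.Agent.S5968

open Cfsg.Agent Cfsg.Agent.Classical Module Matrix

section

variable {F : Type*} [Field F]

/-- A square matrix admits no non-degenerate alternating form which it multiplies by a scalar. -/
def NoForm {ι : Type*} [Fintype ι] (M : Matrix ι ι F) : Prop :=
  ∀ (B : LinearMap.BilinForm F (ι → F)) (c : F), B.IsAlt → (∀ x, (∀ y, B x y = 0) → x = 0) → c ≠ 0 →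
    ¬ ∀ u v, B (M *ᵥ u) (M *ᵥ v) = c * B u v

theorem transfer {n : ℕ} {f : (Fin n → F) → (Fin n → F) → F} (hf : Cfsg.Geo.IsSymplecticForm f) {ι : Type*}
    [Fintype ι] [DecidableEq ι] (σ : ι ≃ Fin n) (M : Matrix ι ι F) {r : ℕ} (hdet : M.det = 1) (hr : M ^ r = 1)
    (hns : ∀ z : F, M ≠ z • 1) (hM : NoForm M) :
    ∃ x : Matrix.SpecialLinearGroup (Fin n) F,
      (∃ z : F, ((x ^ r : Matrix.SpecialLinearGroup (Fin n) F) : Matrix (Fin n) (Fin n) F) = z • (1 : Matrix (Fin n) (Fin n) F)) ∧
      (∀ z : F, (x : Matrix (Fin n) (Fin n) F) ≠ z • (1 : Matrix (Fin n) (Fin n) F)) ∧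
      ∀ P : Matrix.SpecialLinearGroup (Fin n) F, P⁻¹ * x * P ∉ ((Cfsg.Geo.similarityGroup f).comap
        (Matrix.SpecialLinearGroup.toGL : Matrix.SpecialLinearGroup (Fin n) F →* GL (Fin n) F)) := by
  let e : Matrix ι ι F ≃ₐ[F] Matrix (Fin n) (Fin n) F := Matrix.reindexAlgEquiv F F σ
  let x : Matrix.SpecialLinearGroup (Fin n) F := ⟨e M, by
    show (Matrix.reindexAlgEquiv F F σ M).det = 1
    rw [Matrix.det_reindexAlgEquiv, hdet]⟩
  refine ⟨x, ⟨1, ?_⟩, fun z hz => hns z (e.injective ?_), fun P hP => ?_⟩
  · rw [one_smul, Matrix.SpecialLinearGroup.coe_pow]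
    show (e M) ^ r = 1
    rw [← map_pow, hr, map_one]
  · rw [map_smul, map_one]; exact hz
  obtain ⟨c, hc⟩ := hP
  let Q : Matrix (Fin n) (Fin n) F := ((P⁻¹ : Matrix.SpecialLinearGroup (Fin n) F) : Matrix (Fin n) (Fin n) F)
  have hQP : Q * (P : Matrix (Fin n) (Fin n) F) = 1 := by
    rw [← Matrix.SpecialLinearGroup.coe_mul, inv_mul_cancel, Matrix.SpecialLinearGroup.coe_one]
  have hPQ : (P : Matrix (Fin n) (Fin n) F) * Q = 1 := by
    rw [← Matrix.SpecialLinearGroup.coe_mul, mul_inv_cancel, Matrix.SpecialLinearGroup.coe_one]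
  let B0 : LinearMap.BilinForm F (Fin n → F) := LinearMap.mk₂ F f hf.bilinear.add_left hf.bilinear.smul_left
    hf.bilinear.add_right hf.bilinear.smul_right
  let E : (ι → F) ≃ₗ[F] (Fin n → F) := LinearEquiv.funCongrLeft F F σ.symm
  let L : (ι → F) →ₗ[F] (Fin n → F) := Matrix.toLin' Q ∘ₗ E.toLinearMap
  have hLi : Function.Injective L := fun a b h => E.injective (by
    have := congrArg (fun v => (P : Matrix (Fin n) (Fin n) F) *ᵥ v) h
    simpa [L, Matrix.toLin'_apply, Matrix.mulVec_mulVec, hPQ] using this)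
  have hLs : Function.Surjective L := fun v => ⟨E.symm ((P : Matrix (Fin n) (Fin n) F) *ᵥ v), by
    simp [L, Matrix.toLin'_apply, Matrix.mulVec_mulVec, hQP]⟩
  have hEM : ∀ u, E (M *ᵥ u) = e M *ᵥ E u := fun u => by
    funext i
    simp only [E, e, Matrix.reindexAlgEquiv_apply, Matrix.reindex_apply, Matrix.submatrix_mulVec_equiv,
      LinearEquiv.funCongrLeft_apply, LinearMap.funLeft_apply]
    simp [Function.comp_def, LinearMap.funLeft]
  refine hM (B0.comp L L) c (fun u => hf.alternating _) (fun u hu => hLi ?_) c.ne_zero fun u v => ?_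
  · rw [map_zero]
    by_contra h0
    obtain ⟨-, w, hw⟩ := hf.nondegenerate _ h0
    obtain ⟨w, rfl⟩ := hLs w
    exact hw (hu w)
  · show f (L (M *ᵥ u)) (L (M *ᵥ v)) = (c : F) * f (L u) (L v)
    have hL : ∀ u, L (M *ᵥ u) =
        ((P⁻¹ * x * P : Matrix.SpecialLinearGroup (Fin n) F) : Matrix (Fin n) (Fin n) F) *ᵥ L u := fun u => by
      simp only [L, LinearMap.comp_apply, Matrix.toLin'_apply, LinearEquiv.coe_coe, hEM,
        Matrix.SpecialLinearGroup.coe_mul, Matrix.mulVec_mulVec]
      rw [mul_assoc, hPQ, mul_one]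
    rw [hL, hL]
    exact hc _ _

/-- Two eigenvalues with unique multiplicities exclude an invariant form. -/
theorem noForm_diag [DecidableEq F] {ι : Type*} [Fintype ι] [DecidableEq ι] (w : ι → F) (i j : ι) {r : ℕ} (hr : Odd r)
    (hi : w i ^ r = 1) (hj : w j ^ r = 1) (hne : w i ≠ w j)
    (hui : ∀ z, Fintype.card {k // w k = z} = Fintype.card {k // w k = w i} → z = w i)
    (huj : ∀ z, Fintype.card {k // w k = z} = Fintype.card {k // w k = w j} → z = w j)
    (hw : ∀ k, w k ≠ 0) : NoForm (Matrix.diagonal w) := by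
  classical
  intro B c hA hsep hc hpres
  have hz : ∀ a b, w a * w b ≠ c → B (Pi.single a 1) (Pi.single b 1) = 0 := by
    intro a b hab
    have h := hpres (Pi.single a 1) (Pi.single b 1)
    have hs : ∀ a, Matrix.diagonal w *ᵥ Pi.single a 1 = w a • Pi.single a (1 : F) := fun a => by
      rw [Matrix.diagonal_mulVec_single, mul_one, ← Pi.single_smul', smul_eq_mul, mul_one]
    simp only [hs, map_smul, LinearMap.smul_apply, smul_eq_mul, ← mul_assoc] at h
    by_contra hne'
    rw [mul_comm (w a)] at hab
    exact hab (mul_right_cancel₀ hne' h)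
  have hle : ∀ l : F, l ≠ 0 → Fintype.card {k // w k = l} ≤ Fintype.card {k // w k = c / l} := by
    intro l hl
    let X : ({k // w k = l} → F) →ₗ[F] (ι → F) := Function.ExtendByZero.linearMap F Subtype.val
    let T : ({k // w k = l} → F) →ₗ[F] ({k // w k = c / l} → F) :=
      LinearMap.pi fun b => (B.flip (Pi.single b.1 1)) ∘ₗ X
    have hT : Function.Injective T := by
      rw [injective_iff_map_eq_zero]
      intro a ha
      have hX0 : X a = 0 := hsep _ fun y => by
        have hall : ∀ b, B (X a) (Pi.single b 1) = 0 := by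
          intro b
          by_cases hb : w b = c / l
          · exact congrFun ha ⟨b, hb⟩
          · rw [← Finset.univ_sum_single (X a), map_sum, LinearMap.sum_apply]
            refine Finset.sum_eq_zero fun s _ => ?_
            by_cases hs : w s = l
            · rw [show (Pi.single s (X a s) : ι → F) = X a s • Pi.single s 1 by
                rw [← Pi.single_smul', smul_eq_mul, mul_one], map_smul, LinearMap.smul_apply,
                hz s b (fun h => hb (by rw [← h, hs, mul_div_cancel_left₀ _ hl])), smul_zero]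
            · rw [show X a s = 0 from Function.extend_apply' _ _ _ (by rintro ⟨k, rfl⟩; exact hs k.2),
                Pi.single_zero, map_zero, LinearMap.zero_apply]
        rw [← Finset.univ_sum_single y, map_sum]
        refine Finset.sum_eq_zero fun s _ => ?_
        rw [show (Pi.single s (y s) : ι → F) = y s • Pi.single s 1 by
          rw [← Pi.single_smul', smul_eq_mul, mul_one], map_smul, hall, smul_zero]
      funext k
      have := congrFun hX0 k.1
      exact (Subtype.val_injective.extend_apply a 0 k).symm.trans this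
    have := LinearMap.finrank_le_finrank_of_injective hT
    rwa [Module.finrank_fintype_fun_eq_card, Module.finrank_fintype_fun_eq_card] at this
  have key : ∀ s, (∀ z, Fintype.card {k // w k = z} = Fintype.card {k // w k = w s} → z = w s) →
      c = w s * w s := by
    intro s hu
    have h1 := hle _ (hw s)
    have h2 := hle _ (div_ne_zero hc (hw s))
    simp only [div_div_cancel₀ hc] at h2
    have := hu _ (le_antisymm h2 h1)
    rwa [div_eq_iff (hw s)] at this
  have h1 : (w i / w j) * (w i / w j) = 1 := by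
    rw [div_mul_div_comm, ← key i hui, ← key j huj, div_self hc]
  obtain ⟨k, rfl⟩ := hr
  have h2 : (w i / w j) ^ (2 * k + 1) = 1 := by rw [div_pow, hi, hj, div_one]
  rw [pow_succ, pow_mul, pow_two, h1, one_pow, one_mul] at h2
  exact hne (by rwa [div_eq_one_iff_eq (hw j)] at h2)

theorem card_two [DecidableEq F] (g : ℕ → F) (x y k l : ℕ) (z : F) :
    Fintype.card {i : Fin k ⊕ Fin l // g (Sum.elim (fun _ => x) (fun _ => y) i) = z} =
      (if g x = z then k else 0) + if g y = z then l else 0 := by
  rw [Fintype.card_subtype, Finset.card_filter, Fintype.sum_sum_type]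
  simp only [Sum.elim_inl, Sum.elim_inr]
  by_cases h1 : g x = z <;> by_cases h2 : g y = z <;> simp [h1, h2]

theorem card_three [DecidableEq F] (g : ℕ → F) (x y w k l j : ℕ) (z : F) :
    Fintype.card {i : (Fin k ⊕ Fin l) ⊕ Fin j //
      g (Sum.elim (Sum.elim (fun _ => x) (fun _ => y)) (fun _ => w) i) = z} =
      (if g x = z then k else 0) + (if g y = z then l else 0) + if g w = z then j else 0 := by
  rw [Fintype.card_subtype, Finset.card_filter, Fintype.sum_sum_type, Fintype.sum_sum_type]
  simp only [Sum.elim_inl, Sum.elim_inr]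
  by_cases h1 : g x = z <;> by_cases h2 : g y = z <;> by_cases h3 : g w = z <;> simp [h1, h2, h3]

theorem uniq_two [DecidableEq F] (g : ℕ → F) {x y k l : ℕ} (hxy : g x ≠ g y) (hk : 0 < k) (hl : 0 < l)
    (hkl : k ≠ l) (z : F) {a : F} (ha : a = g x ∨ a = g y)
    (hz : Fintype.card {i : Fin k ⊕ Fin l // g (Sum.elim (fun _ => x) (fun _ => y) i) = z} =
      Fintype.card {i : Fin k ⊕ Fin l // g (Sum.elim (fun _ => x) (fun _ => y) i) = a}) : z = a := by
  rw [card_two, card_two] at hz
  rcases ha with rfl | rfl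
  · rw [if_pos rfl, if_neg hxy.symm] at hz
    by_contra h
    rw [if_neg (Ne.symm h)] at hz
    split_ifs at hz <;> omega
  · rw [if_pos rfl, if_neg hxy] at hz
    by_contra h
    rw [if_neg (fun e : g y = z => h e.symm)] at hz
    split_ifs at hz <;> omega

theorem uniq_three [DecidableEq F] (g : ℕ → F) {x y w k l j : ℕ} (hxy : g x ≠ g y) (hxw : g x ≠ g w)
    (hyw : g y ≠ g w) (hk : 0 < k) (hj : 0 < j) (hkl : k ≠ l) (hkj : k ≠ j) (hlj : l ≠ j) (z : F)
    {a : F} (ha : a = g x ∨ a = g w)
    (hz : Fintype.card {i : (Fin k ⊕ Fin l) ⊕ Fin j //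
        g (Sum.elim (Sum.elim (fun _ => x) (fun _ => y)) (fun _ => w) i) = z} =
      Fintype.card {i : (Fin k ⊕ Fin l) ⊕ Fin j //
        g (Sum.elim (Sum.elim (fun _ => x) (fun _ => y)) (fun _ => w) i) = a}) : z = a := by
  rw [card_three, card_three] at hz
  rcases ha with rfl | rfl
  · rw [if_pos rfl, if_neg hxy.symm, if_neg hxw.symm] at hz
    by_contra h
    rw [if_neg (fun e : g x = z => h e.symm)] at hz
    split_ifs at hz with h1 h2
    · exact hyw (h1.trans h2.symm)
    all_goals omega
  · rw [if_pos rfl, if_neg hxw, if_neg hyw] at hz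
    by_contra h
    rw [if_neg (fun e : g w = z => h e.symm)] at hz
    split_ifs at hz with h1 h2
    · exact hxy (h1.trans h2.symm)
    all_goals omega

theorem det_eq_one_of_pow {ι : Type*} [Fintype ι] [DecidableEq ι] {M : Matrix ι ι F} {r : ℕ} (h : M ^ r = 1)
    (hroot : ∀ z : F, z ^ r = 1 → z = 1) : M.det = 1 :=
  hroot _ (by rw [← Matrix.det_pow, h, Matrix.det_one])

/-- A block without eigenvalues of odd size plus an identity block excludes an invariant form. -/
theorem noForm_block [Fintype F] {e l r : ℕ} [Fact r.Prime] {q : ℕ} (hq : Fintype.card F = q) (hl : 1 ≤ l)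
    (he : Odd e) (hrF : (r : F) ≠ 0) (hrq : ¬ r ∣ q) (hroot : ∀ z : F, z ^ r = 1 → z = 1)
    (hk : ∀ i, 1 ≤ i → r ∣ q ^ i - 1 → e ≤ i) (A : Matrix (Fin e) (Fin e) F) (hAr : A ^ r = 1) (hA1 : A ≠ 1) :
    NoForm (Matrix.fromBlocks A 0 0 (1 : Matrix (Fin l) (Fin l) F)) := by
  intro B c hB hsep hc hpres
  set φ := Matrix.toLin' A with hφ
  have hφr : φ ^ r = 1 := by rw [hφ, ← Matrix.toLin'_pow, hAr]; exact Matrix.toLin'_one
  have hφ1 : φ ≠ 1 := fun h => hA1 (Matrix.toLin'.injective (h.trans Matrix.toLin'_one.symm))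
  have hinj : ∀ v, φ v = v → v = 0 := by
    intro v hv
    have hge : e ≤ finrank F (LinearMap.range (φ - 1)) := by
      classical
      set R := LinearMap.range (φ - 1) with hR
      have hinv : ∀ x ∈ R, φ x ∈ R := by
        rintro _ ⟨y, rfl⟩
        exact ⟨φ y, by simp [map_sub]⟩
      set ψ := φ.restrict hinv with hψ
      have hψr : ψ ^ r = 1 := by
        refine LinearMap.ext fun x => Subtype.ext ?_
        have : ∀ (m : ℕ) (x : R), ((ψ ^ m) x : Fin e → F) = (φ ^ m) x := fun m => by
          induction m with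
          | zero => intro x; rfl
          | succ m ih => intro x; rw [pow_succ, pow_succ, Module.End.mul_apply, Module.End.mul_apply, ih]; rfl
        rw [this, hφr]
        rfl
      have hψ1 : ψ ≠ 1 := by
        intro h
        have h2 : (φ - 1) * (φ - 1) = 0 := LinearMap.ext fun x => by
          have := congrArg Subtype.val (LinearMap.congr_fun h ⟨(φ - 1) x, x, rfl⟩)
          show φ ((φ - 1) x) - (φ - 1) x = 0
          exact sub_eq_zero.2 this
        have hm : ∀ m : ℕ, φ ^ m = 1 + (m : F) • (φ - 1) := fun m => by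
          induction m with
          | zero => simp
          | succ m ih =>
            rw [pow_succ, ih]
            conv_lhs => arg 2; rw [show φ = 1 + (φ - 1) by abel]
            rw [add_mul, one_mul, smul_mul_assoc, mul_add, mul_one, h2, add_zero, Nat.cast_succ, add_smul, one_smul]
            abel
        have := hm r
        rw [hφr, left_eq_add, smul_eq_zero] at this
        exact hφ1 (sub_eq_zero.1 (this.resolve_left hrF))
      set n := finrank F R with hn
      let τ := (LinearMap.toMatrixAlgEquiv (Module.finBasisOfFinrankEq F R hn.symm)).toMulEquiv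
      let u : GL (Fin n) F := Units.ofPowEqOne (τ ψ) r (by rw [← map_pow, hψr, map_one]) (Fact.out : r.Prime).ne_zero
      have hu : orderOf u = r := by
        refine orderOf_eq_prime (Units.ext (by
          show (τ ψ) ^ r = 1
          rw [← map_pow, hψr, map_one])) fun h => hψ1 (τ.injective ?_)
        rw [map_one]
        exact congrArg Units.val h
      have h1 : r ∣ Nat.card (GL (Fin n) F) := hu ▸ orderOf_dvd_natCard u
      rw [Matrix.card_GL_field, hq, prod_gl_eq] at h1
      rcases (Fact.out : r.Prime).dvd_mul.1 h1 with h | h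
      · exact absurd ((Fact.out : r.Prime).dvd_of_dvd_pow h) hrq
      · obtain ⟨i, hi, hi'⟩ := (Fact.out : r.Prime).prime.exists_mem_finset_dvd h
        have := hk (i + 1) (by omega) hi'
        have := Finset.mem_range.1 hi
        omega
    have h1 := (φ - 1).finrank_range_add_finrank_ker
    rw [Module.finrank_fin_fun] at h1
    have hker : LinearMap.ker (φ - 1) = ⊥ := Submodule.finrank_eq_zero.1 (by omega)
    have hv' : v ∈ LinearMap.ker (φ - 1) := by
      rw [LinearMap.mem_ker, LinearMap.sub_apply, hv]; exact sub_self v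
    rwa [hker, Submodule.mem_bot] at hv'
  have hpow : ∀ (v : Fin e → F) (z : F), φ v = z • v → v ≠ 0 → z = 1 := by
    intro v z hv hv0
    refine hroot z ?_
    have : ∀ m : ℕ, (φ ^ m) v = z ^ m • v := fun m => by
      induction m with
      | zero => simp
      | succ m ih => rw [pow_succ', Module.End.mul_apply, ih, map_smul, hv, smul_smul, pow_succ]
    have h := this r
    rw [hφr, Module.End.one_apply] at h
    exact (smul_left_injective F hv0 (h.symm.trans (one_smul F v).symm))
  let L1 : (Fin e → F) →ₗ[F] (Fin e ⊕ Fin l → F) :=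
    (LinearEquiv.sumArrowLequivProdArrow (Fin e) (Fin l) F F).symm.toLinearMap ∘ₗ LinearMap.inl F _ _
  let L2 : (Fin l → F) →ₗ[F] (Fin e ⊕ Fin l → F) :=
    (LinearEquiv.sumArrowLequivProdArrow (Fin e) (Fin l) F F).symm.toLinearMap ∘ₗ LinearMap.inr F _ _
  set M := Matrix.fromBlocks A 0 0 (1 : Matrix (Fin l) (Fin l) F) with hM
  have hsplit : ∀ y : Fin e ⊕ Fin l → F, y = L1 (fun i => y (Sum.inl i)) + L2 (fun i => y (Sum.inr i)) := by
    intro y
    funext i
    rcases i with i | i <;> simp [L1, L2]
  have hM1 : ∀ a, M *ᵥ L1 a = L1 (φ a) := fun a => by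
    funext i
    rcases i with i | i <;> simp [hM, L1, Matrix.fromBlocks_mulVec, Function.comp_def, hφ, Matrix.toLin'_apply,
      Matrix.mulVec, dotProduct]
  have hM2 : ∀ b, M *ᵥ L2 b = L2 b := fun b => by
    funext i
    rcases i with i | i <;> simp [hM, L2, Matrix.fromBlocks_mulVec, Function.comp_def, Matrix.mulVec, dotProduct,
      Matrix.one_apply]
  have horth : ∀ b a, B (L2 b) (L1 a) = 0 := by
    intro b
    set ψ : (Fin e → F) →ₗ[F] F := (B (L2 b)) ∘ₗ L1 with hψ
    have hψA : ∀ a, ψ (φ a) = c * ψ a := fun a => by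
      have := hpres (L2 b) (L1 a)
      rw [hM1, hM2] at this
      exact this
    intro a
    by_contra ha
    have hns : ¬ Function.Surjective (φ - c • 1 : Module.End F (Fin e → F)) := by
      intro hs
      obtain ⟨t, ht⟩ := hs a
      refine ha ?_
      show ψ a = 0
      rw [← ht, LinearMap.sub_apply, map_sub, hψA, LinearMap.smul_apply, map_smul, smul_eq_mul,
        Module.End.one_apply, sub_self]
    rw [← LinearMap.injective_iff_surjective] at hns
    rw [injective_iff_map_eq_zero] at hns
    push Not at hns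
    obtain ⟨v, hv, hv0⟩ := hns
    rw [LinearMap.sub_apply, LinearMap.smul_apply, Module.End.one_apply, sub_eq_zero] at hv
    have := hpow v c hv hv0
    rw [this, one_smul] at hv
    exact hv0 (hinj v hv)
  have hrev : ∀ b a, B (L1 a) (L2 b) = 0 := fun b a => by
    rw [← LinearMap.BilinForm.IsAlt.neg_eq hB, horth, neg_zero]
  have hc1 : c = 1 := by
    by_contra hc1
    have hb : L2 (fun _ => (1 : F)) = 0 := hsep _ fun y => by
      rw [hsplit y, map_add, horth, zero_add]
      have h2 := hpres (L2 fun _ => (1 : F)) (L2 fun i => y (Sum.inr i))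
      rw [hM2, hM2] at h2
      have h3 : (1 - c) * B (L2 fun _ => (1 : F)) (L2 fun i => y (Sum.inr i)) = 0 := by linear_combination h2
      exact (mul_eq_zero.1 h3).resolve_left (sub_ne_zero.2 (Ne.symm hc1))
    have := congrFun hb (Sum.inr ⟨0, by omega⟩)
    simp [L2] at this
  let β : LinearMap.BilinForm F (Fin e → F) := B.comp L1 L1
  have hev := UniForm.even_rank β (fun a => hB (L1 a))
  have hker : LinearMap.ker β = ⊥ := by
    rw [Submodule.eq_bot_iff]
    intro a ha
    have hLa : L1 a = 0 := hsep _ fun y => by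
      rw [hsplit y, map_add, hrev, add_zero]
      exact LinearMap.congr_fun (LinearMap.mem_ker.1 ha) _
    funext i
    have := congrFun hLa (Sum.inl i)
    simpa [L1] using this
  have h1 := β.finrank_range_add_finrank_ker
  rw [hker, finrank_bot, add_zero, Module.finrank_fin_fun] at h1
  rw [h1] at hev
  exact (Nat.not_even_iff_odd.2 he) hev

/-- The index of the similitudes. -/
theorem dvd_index [Fintype F] {n m q r : ℕ} [Fact r.Prime] (hq : Fintype.card F = q) (hm : n = 2 * m) (hm1 : 1 ≤ m)
    {f : (Fin n → F) → (Fin n → F) → F} (hf : Cfsg.Geo.IsSymplecticForm f)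
    (h : r ∣ ((Cfsg.Geo.similarityGroup f).comap
      (Matrix.SpecialLinearGroup.toGL : Matrix.SpecialLinearGroup (Fin n) F →* GL (Fin n) F)).index) :
    r ∣ q ∨ ∃ i, 1 ≤ i ∧ 2 * i + 1 < n ∧ r ∣ q ^ (2 * i + 1) - 1 := by
  classical
  have hq2 : 2 ≤ q := hq ▸ Fintype.one_lt_card
  let σ : Fin m ⊕ Fin m ≃ Fin n := finSumFinEquiv.trans (finCongr (by omega))
  let E : (Fin m ⊕ Fin m → F) ≃ₗ[F] (Fin n → F) := LinearEquiv.funCongrLeft F F σ.symm
  let B0 : LinearMap.BilinForm F (Fin n → F) := LinearMap.mk₂ F f hf.bilinear.add_left hf.bilinear.smul_left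
    hf.bilinear.add_right hf.bilinear.smul_right
  obtain ⟨y, hy⟩ := SympConj.exists_isometry (B := B0.comp E.toLinearMap E.toLinearMap) (B' := sympB m F)
    (fun u => hf.alternating _) (fun u hu => E.map_eq_zero_iff.1 (by
      by_contra h0
      obtain ⟨-, w, hw⟩ := hf.nondegenerate _ h0
      obtain ⟨w, rfl⟩ := E.surjective w
      exact hw (hu w)))
    sympB_isAlt sympB_nondeg.1
  have hyi : Function.Injective y := by
    rw [injective_iff_map_eq_zero]
    intro u hu
    exact sympB_nondeg.1 u fun v => by rw [← hy, hu, map_zero, LinearMap.zero_apply]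
  let Y : (Fin m ⊕ Fin m → F) ≃ₗ[F] (Fin n → F) :=
    (LinearEquiv.ofBijective y ⟨hyi, LinearMap.injective_iff_surjective.1 hyi⟩).trans E
  have hY : ∀ u v, f (Y u) (Y v) = sympB m F u v := fun u v => hy u v
  let ψ : Matrix.symplecticGroup (Fin m) F →* Matrix.SpecialLinearGroup (Fin n) F :=
    MonoidHom.mk' (fun A => ⟨LinearMap.toMatrix' (Y.conj (Matrix.toLin' A.1)), by
      rw [LinearMap.det_toMatrix', LinearEquiv.conj_apply, LinearMap.comp_assoc, LinearMap.det_conj,
        LinearMap.det_toLin', Cfsg.Agent.SympConj.det_eq_one]⟩) (fun A A' => Subtype.ext (by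
      show LinearMap.toMatrix' _ = LinearMap.toMatrix' _ * LinearMap.toMatrix' _
      rw [← LinearMap.toMatrix'_mul, Submonoid.coe_mul, Matrix.toLin'_mul, LinearEquiv.conj_comp]
      rfl))
  have hψ : Function.Injective ψ := fun A A' h => Subtype.ext (Matrix.toLin'.injective
    (Y.conj.injective (LinearMap.toMatrix'.injective (congrArg Subtype.val h))))
  set H := (Cfsg.Geo.similarityGroup f).comap
    (Matrix.SpecialLinearGroup.toGL : Matrix.SpecialLinearGroup (Fin n) F →* GL (Fin n) F) with hH
  have hle : ψ.range ≤ H := by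
    rintro _ ⟨A, rfl⟩
    refine ⟨1, fun u v => ?_⟩
    obtain ⟨u, rfl⟩ := Y.surjective u
    obtain ⟨v, rfl⟩ := Y.surjective v
    have hap : ∀ u, ((ψ A : Matrix.SpecialLinearGroup (Fin n) F) : Matrix (Fin n) (Fin n) F) *ᵥ Y u =
        Y (A.1 *ᵥ u) := fun u => by
      show LinearMap.toMatrix' (Y.conj (Matrix.toLin' A.1)) *ᵥ Y u = _
      rw [← Matrix.toLin'_apply, Matrix.toLin'_toMatrix']
      simp [LinearEquiv.conj_apply, Matrix.toLin'_apply]
    show f (((ψ A : Matrix.SpecialLinearGroup (Fin n) F) : Matrix (Fin n) (Fin n) F) *ᵥ Y u)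
      (((ψ A : Matrix.SpecialLinearGroup (Fin n) F) : Matrix (Fin n) (Fin n) F) *ᵥ Y v) = _
    rw [hap, hap, hY, hY, Units.val_one, one_mul]
    exact (mem_symplectic_iff A.1).1 A.2 u v
  obtain ⟨s, hs⟩ := Subgroup.card_dvd_of_le hle
  rw [← Nat.card_congr (MonoidHom.ofInjective hψ).toEquiv, card_symplecticGroup hq] at hs
  have hSL := H.card_mul_index
  rw [hs] at hSL
  have hGL : Nat.card (Matrix.SpecialLinearGroup (Fin n) F) * (q - 1) = Nat.card (GL (Fin n) F) := by
    have hker : (Matrix.GeneralLinearGroup.det : GL (Fin n) F →* Fˣ).ker =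
        (Matrix.SpecialLinearGroup.toGL : Matrix.SpecialLinearGroup (Fin n) F →* GL (Fin n) F).range := by
      ext g
      constructor
      · intro hg
        exact ⟨⟨g.1, congrArg Units.val hg⟩, Units.ext rfl⟩
      · rintro ⟨y, rfl⟩
        exact Units.ext y.2
    have hdsurj : Function.Surjective (Matrix.GeneralLinearGroup.det : GL (Fin n) F →* Fˣ) := by
      intro u
      refine ⟨Matrix.GeneralLinearGroup.mkOfDetNeZero
        (Matrix.diagonal (Function.update 1 (⟨0, by omega⟩ : Fin n) (u : F))) ?_, Units.ext ?_⟩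
      · rw [Matrix.det_diagonal]
        simp [Finset.prod_update_of_mem (Finset.mem_univ _)]
      · show (Matrix.diagonal (Function.update 1 (⟨0, by omega⟩ : Fin n) (u : F))).det = u
        rw [Matrix.det_diagonal]
        simp [Finset.prod_update_of_mem (Finset.mem_univ _)]
    have h1 := (Matrix.GeneralLinearGroup.det : GL (Fin n) F →* Fˣ).ker.card_mul_index
    rw [Subgroup.index_ker, MonoidHom.range_eq_top.2 hdsurj, Subgroup.card_top, hker,
      ← Nat.card_congr (MonoidHom.ofInjective Matrix.SpecialLinearGroup.toGL_injective).toEquiv,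
      Nat.card_eq_fintype_card (α := Fˣ), Fintype.card_units, hq] at h1
    exact h1
  rw [← hSL, Matrix.card_GL_field, hq, prod_gl_eq] at hGL
  subst hm
  -- split the product by parity
  have hsp : ∀ m, ∏ i ∈ Finset.range (2 * m), (q ^ (i + 1) - 1) =
      (∏ i ∈ Finset.range m, (q ^ (2 * (i + 1)) - 1)) * ∏ i ∈ Finset.range m, (q ^ (2 * i + 1) - 1) := by
    intro m
    induction m with
    | zero => simp
    | succ m ih =>
      rw [show 2 * (m + 1) = 2 * m + 1 + 1 by ring, Finset.prod_range_succ, Finset.prod_range_succ, ih,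
        Finset.prod_range_succ, Finset.prod_range_succ, show 2 * (m + 1) = 2 * m + 1 + 1 by ring]
      ring
  rw [hsp] at hGL
  set P2 := ∏ i ∈ Finset.range m, (q ^ (2 * (i + 1)) - 1) with hP2
  have hP2pos : 0 < P2 := Finset.prod_pos fun i _ => Nat.sub_pos_of_lt (Nat.one_lt_pow (by omega) hq2)
  obtain ⟨k, hk⟩ : ∃ k, m = k + 1 := ⟨m - 1, by omega⟩
  rw [show ∏ i ∈ Finset.range m, (q ^ (2 * i + 1) - 1) =
      (∏ i ∈ Finset.range k, (q ^ (2 * (i + 1) + 1) - 1)) * (q - 1) by
    rw [hk, Finset.prod_range_succ' (fun i => q ^ (2 * i + 1) - 1)]; simp] at hGL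
  have key : H.index ∣ q ^ (2 * m * (2 * m - 1) / 2) * ∏ i ∈ Finset.range k, (q ^ (2 * (i + 1) + 1) - 1) :=
    ⟨q ^ (m ^ 2) * s, Nat.eq_of_mul_eq_mul_left (Nat.mul_pos hP2pos (show 0 < q - 1 by omega))
      (by linear_combination hGL.symm)⟩
  have hr := (Fact.out : r.Prime)
  rcases hr.dvd_mul.1 (h.trans key) with h1 | h1
  · exact Or.inl (hr.dvd_of_dvd_pow h1)
  · obtain ⟨i, hi, hi'⟩ := hr.prime.exists_mem_finset_dvd h1
    have := Finset.mem_range.1 hi
    exact Or.inr ⟨i + 1, by omega, by omega, hi'⟩

end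

/-- Derangements of odd prime order of PSL_n(q) on the cosets of a symplectic-type subgroup. Here `T = PSL_n(F)` for a field `F` with `q` elements, `n ≥ 4` even, `f` is a nondegenerate alternating form on `F^n`, and `H` is the subgroup of matrices of determinant 1 preserving `f` up to a scalar — a maximal subgroup of type Sp_n(q); Ω is the set of `T`-conjugates of `H` (cosets of `H`), so an element of `T` of prime order `r` (a matrix `x` of determinant 1 with `x^r` scalar, `x` not scalar) fixes a point of Ω when some conjugate of `x` by a matrix of determinant 1 preserves `f` up to a scalar. For every odd prime `r` dividing the index of `H`, with `(n, r) ≠ (6, 3)`, there is an element of `T` of order `r` with no conjugate in `H`. (For `n = 6`, `r = 3` this can fail: when `(q − 1)_3 = 3` every element of order 3 is conjugate into `H`.) -/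
theorem result {F : Type*} [Field F] [Fintype F] {p : ℕ} [Fact p.Prime] [CharP F p] {q : ℕ} (hq : Fintype.card F = q)
    (n : ℕ) (hn : 4 ≤ n) (he : Even n) (f : (Fin n → F) → (Fin n → F) → F) (hf : Cfsg.Geo.IsSymplecticForm f)
    (r : ℕ) [Fact r.Prime] (hr2 : r ≠ 2) (hgap : ¬ (n = 6 ∧ r = 3)) (hΩ : r ∣ ((Cfsg.Geo.similarityGroup f).comap (Matrix.SpecialLinearGroup.toGL : Matrix.SpecialLinearGroup (Fin n) F →* GL (Fin n) F)).index) :
    ∃ x : Matrix.SpecialLinearGroup (Fin n) F,
      (∃ z : F, ((x ^ r : Matrix.SpecialLinearGroup (Fin n) F) : Matrix (Fin n) (Fin n) F) = z • (1 : Matrix (Fin n) (Fin n) F)) ∧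
      (∀ z : F, (x : Matrix (Fin n) (Fin n) F) ≠ z • (1 : Matrix (Fin n) (Fin n) F)) ∧
      ∀ P : Matrix.SpecialLinearGroup (Fin n) F, P⁻¹ * x * P ∉ ((Cfsg.Geo.similarityGroup f).comap (Matrix.SpecialLinearGroup.toGL : Matrix.SpecialLinearGroup (Fin n) F →* GL (Fin n) F)) := by
  classical
  have hr := (Fact.out : r.Prime)
  have hp := (Fact.out : p.Prime)
  have hr3 : 3 ≤ r := by have := hr.two_le; omega
  have hro : Odd r := hr.eq_two_or_odd'.resolve_left hr2
  obtain ⟨m, hm⟩ := he
  by_cases hrp : r = p
  · subst hrp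
    obtain ⟨g, hg⟩ := MatModule.exists_gl_hasType (F := F) (n := n) (3 ::ₘ Multiset.replicate (n - 3) 1)
      (by rw [Multiset.sum_cons, Multiset.sum_replicate, smul_eq_mul]; omega)
    have hz := (MatModule.sub_one_pow_eq_zero_iff hg r).2 fun a ha => by
      rcases Multiset.mem_cons.1 ha with rfl | ha
      · exact hr3
      · rw [Multiset.eq_of_mem_replicate ha]; omega
    have hgp : g ^ r = 1 := by
      have := (MatModule.toLin'_pow_eq_one_iff g 1 (p := r)).2 (by rwa [pow_one])
      rwa [pow_one] at this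
    have hgM : (g : Matrix (Fin n) (Fin n) F) ^ r = 1 := by rw [← Units.val_pow_eq_pow_val, hgp, Units.val_one]
    have hroot : ∀ z : F, z ^ r = 1 → z = 1 := fun z h => by
      have h1 : (z - 1) ^ r = 0 := by rw [sub_pow_char, h, one_pow, sub_self]
      exact sub_eq_zero.1 (eq_zero_of_pow_eq_zero h1)
    refine transfer hf (Equiv.refl _) (g : Matrix (Fin n) (Fin n) F) (det_eq_one_of_pow hgM hroot) hgM
      (fun z hz1 => ?_) (fun B c hB hsep hc hpres => ?_)
    · have hzr : z ^ r = 1 := by
        have := hgM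
        rw [hz1, _root_.smul_pow, one_pow] at this
        have h0 := congrFun (congrFun this ⟨0, by omega⟩) ⟨0, by omega⟩
        simpa using h0
      rw [hroot z hzr, one_smul] at hz1
      have h1 := (MatModule.sub_one_pow_eq_zero_iff hg 1).1 (by
        rw [hz1, Matrix.toLin'_one, pow_one]; exact sub_self _) 3 (Multiset.mem_cons_self _ _)
      omega
    · have hc1 : c = 1 := by
        refine hroot c ?_
        obtain ⟨u, v, huv⟩ : ∃ u v, B u v ≠ 0 := by
          by_contra hne
          push Not at hne
          exact one_ne_zero (congrFun (hsep (fun _ => (1 : F)) (hne _)) ⟨0, by omega⟩)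
        have : ∀ k : ℕ, B (((g : Matrix (Fin n) (Fin n) F) ^ k) *ᵥ u) (((g : Matrix (Fin n) (Fin n) F) ^ k) *ᵥ v) =
            c ^ k * B u v := fun k => by
          induction k with
          | zero => simp
          | succ k ih => rw [pow_succ', ← Matrix.mulVec_mulVec, ← Matrix.mulVec_mulVec, hpres, ih, pow_succ']; ring
        have h := this r
        rw [hgM, Matrix.one_mulVec, Matrix.one_mulVec] at h
        exact mul_right_cancel₀ huv (by rw [← h, one_mul])
      subst hc1
      have hev := UniForm.even_count_odd_of_alt (B := B) (φ := Matrix.toLin' (g : Matrix (Fin n) (Fin n) F))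
        ⟨hB.isRefl, hsep, fun u v => by rw [Matrix.toLin'_apply, Matrix.toLin'_apply, hpres, one_mul]⟩ hz hB hg
        (j := 3) (by decide)
      rw [Multiset.count_cons_self, Multiset.count_replicate, if_neg (by omega)] at hev
      exact absurd hev (by decide)
  · have hrF : (r : F) ≠ 0 := fun h => hrp ((Nat.prime_dvd_prime_iff_eq hp hr).1 ((CharP.cast_eq_zero_iff F p r).1 h)).symm
    have hrq : ¬ r ∣ q := by
      intro h
      obtain ⟨e, hp', he'⟩ := FiniteField.card F p
      rw [← hq, he'] at h
      exact hrp ((Nat.prime_dvd_prime_iff_eq hr hp').1 (hr.dvd_of_dvd_pow h))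
    have hq2 : 2 ≤ q := hq ▸ Fintype.one_lt_card
    obtain ⟨i, hi1, hi2, hi3⟩ := (dvd_index hq (m := m) (by omega) (by omega) hf hΩ).resolve_left hrq
    set e := orderOf (q : ZMod r) with hedef
    have hei : e ∣ 2 * i + 1 := (LargeSylow.dvd_sub_iff (by omega) _).1 hi3
    have heodd : Odd e := (Nat.odd_iff.2 (by omega) : Odd (2 * i + 1)).of_dvd_nat hei
    have hen : e < n := lt_of_le_of_lt (Nat.le_of_dvd (by omega) hei) hi2
    by_cases he1 : e = 1
    · -- diagonal elements
      have hq1 : r ∣ q - 1 := by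
        have := (LargeSylow.dvd_sub_iff (r := r) (by omega : 1 ≤ q) 1).2 (by rw [← hedef, he1])
        rwa [pow_one] at this
      obtain ⟨u, hu⟩ := exists_prime_orderOf_dvd_card (G := Fˣ) r (by rwa [Fintype.card_units, hq])
      have hwr : ∀ k : ℕ, ((u : F) ^ k) ^ r = 1 := fun k => by
        rw [← pow_mul, mul_comm, pow_mul, ← Units.val_pow_eq_pow_val, ← hu, pow_orderOf_eq_one, Units.val_one, one_pow]
      have hweq : ∀ k : ℕ, (u : F) ^ k = 1 ↔ r ∣ k := fun k => by
        rw [← Units.val_pow_eq_pow_val, Units.val_eq_one, ← orderOf_dvd_iff_pow_eq_one, hu]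
      have hfin : ∀ (ι : Type) [Fintype ι] [DecidableEq ι] (σ : ι ≃ Fin n) (ex : ι → ℕ) (a b : ι),
          r ∣ ∑ k, ex k → (u : F) ^ ex a ≠ (u : F) ^ ex b →
          (∀ z, Fintype.card {k // (u : F) ^ ex k = z} = Fintype.card {k // (u : F) ^ ex k = (u : F) ^ ex a} →
            z = (u : F) ^ ex a) →
          (∀ z, Fintype.card {k // (u : F) ^ ex k = z} = Fintype.card {k // (u : F) ^ ex k = (u : F) ^ ex b} →
            z = (u : F) ^ ex b) → _ := fun ι _ _ σ ex a b hsum hab hua hub =>
        transfer hf σ (Matrix.diagonal fun k => (u : F) ^ ex k) (r := r)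
          (by rw [Matrix.det_diagonal, Finset.prod_pow_eq_pow_sum]; exact (hweq _).2 hsum)
          (by
            rw [Matrix.diagonal_pow, ← Matrix.diagonal_one]
            congr 1
            funext k
            exact hwr (ex k))
          (fun z hz => hab (by
            have e1 := congrFun (congrFun hz a) a
            have e2 := congrFun (congrFun hz b) b
            simp at e1 e2
            rw [e1, e2]))
          (noForm_diag (fun k => (u : F) ^ ex k) a b hro (hwr (ex a)) (hwr (ex b)) hab hua hub
            (fun k => pow_ne_zero _ u.ne_zero))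
      have hlt : ∀ k, 0 < k → k < r → (u : F) ^ k ≠ 1 := fun k h1 h2 h3 => by
        have := Nat.le_of_dvd h1 ((hweq k).1 h3)
        omega
      by_cases hrn : r ∣ n
      · have h2r : 2 * r ≤ n := by
          obtain ⟨t, ht⟩ := hrn
          rcases Nat.lt_or_ge t 2 with h | h
          · interval_cases t
            · omega
            · obtain ⟨k, hk⟩ := hro
              omega
          · rw [ht, mul_comm 2 r]; exact Nat.mul_le_mul_left r h
        by_cases hn2 : n = 2 * r
        · have hr5 : 5 ≤ r := by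
            by_contra h
            obtain ⟨k, hk⟩ := hro
            exact hgap ⟨by omega, by omega⟩
          have h13 : (u : F) ^ 1 ≠ (u : F) ^ (r - 2) := fun h => by
            refine hlt (r - 3) (by omega) (by omega) (mul_right_cancel₀ u.ne_zero ?_)
            rw [one_mul, ← pow_succ, show r - 3 + 1 = r - 2 by omega, ← h, pow_one]
          have hA : (u : F) ^ 1 ≠ (u : F) ^ 0 := by simpa using hlt 1 (by omega) (by omega)
          have hC : (u : F) ^ (r - 2) ≠ (u : F) ^ 0 := by simpa using hlt _ (by omega) (by omega)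
          refine hfin ((Fin 2 ⊕ Fin 1) ⊕ Fin (n - 3))
            ((finSumFinEquiv.sumCongr (Equiv.refl _)).trans (finSumFinEquiv.trans (finCongr (by omega))))
            (Sum.elim (Sum.elim (fun _ => 1) (fun _ => r - 2)) fun _ => 0) (Sum.inl (Sum.inl 0)) (Sum.inr ⟨0, by omega⟩)
            ?_ ?_ ?_ ?_
          · simp only [Fintype.sum_sum_type, Sum.elim_inl, Sum.elim_inr, Finset.sum_const, Finset.card_univ,
              Fintype.card_fin, smul_eq_mul]
            exact ⟨1, by omega⟩
          · exact hA
          · intro z hz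
            exact uniq_three (fun t => (u : F) ^ t) h13 hA hC (by omega) (by omega) (by omega) (by omega) (by omega) z
              (Or.inl rfl) hz
          · intro z hz
            exact uniq_three (fun t => (u : F) ^ t) h13 hA hC (by omega) (by omega) (by omega) (by omega) (by omega) z
              (Or.inr rfl) hz
        · refine hfin (Fin r ⊕ Fin (n - r)) (finSumFinEquiv.trans (finCongr (by omega)))
            (Sum.elim (fun _ => 1) fun _ => 0) (Sum.inl ⟨0, by omega⟩) (Sum.inr ⟨0, by omega⟩) ?_ ?_ ?_ ?_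
          · simp only [Fintype.sum_sum_type, Sum.elim_inl, Sum.elim_inr, Finset.sum_const, Finset.card_univ,
              Fintype.card_fin, smul_eq_mul]
            exact ⟨1, by omega⟩
          · simpa using hlt 1 (by omega) (by omega)
          · intro z hz
            exact uniq_two (fun t => (u : F) ^ t) (by simpa using hlt 1 (by omega) (by omega)) (by omega) (by omega)
              (by omega) z (Or.inl rfl) hz
          · intro z hz
            exact uniq_two (fun t => (u : F) ^ t) (by simpa using hlt 1 (by omega) (by omega)) (by omega) (by omega)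
              (by omega) z (Or.inr rfl) hz
      · set b := (n - 1) * (r - 1) with hb
        have hb1 : (u : F) ^ b ≠ u := fun h => by
          refine hrn ?_
          have h1 : (u : F) ^ (b + (n - 1)) = (u : F) ^ n := by
            rw [pow_add, h, ← pow_succ', show n - 1 + 1 = n by omega]
          have h2 : b + (n - 1) = (n - 1) * r := by
            obtain ⟨t, rfl⟩ : ∃ t, r = t + 1 := ⟨r - 1, by omega⟩
            rw [hb, Nat.add_sub_cancel]; ring
          rw [h2, (hweq _).2 (dvd_mul_left r _)] at h1
          exact (hweq n).1 h1.symm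
        refine hfin (Fin (n - 1) ⊕ Fin 1) (finSumFinEquiv.trans (finCongr (by omega)))
          (Sum.elim (fun _ => 1) fun _ => b) (Sum.inl ⟨0, by omega⟩) (Sum.inr 0) ?_ ?_ ?_ ?_
        · simp only [Fintype.sum_sum_type, Sum.elim_inl, Sum.elim_inr, Finset.sum_const, Finset.card_univ,
            Fintype.card_fin, smul_eq_mul, one_mul, mul_one]
          obtain ⟨t, rfl⟩ : ∃ t, r = t + 1 := ⟨r - 1, by omega⟩
          exact ⟨n - 1, by rw [hb, Nat.add_sub_cancel]; ring⟩
        · simpa using Ne.symm hb1
        · intro z hz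
          exact uniq_two (fun t => (u : F) ^ t) (by simpa using Ne.symm hb1) (by omega) (by omega)
            (by omega) z (Or.inl rfl) hz
        · intro z hz
          exact uniq_two (fun t => (u : F) ^ t) (by simpa using Ne.symm hb1) (by omega) (by omega)
            (by omega) z (Or.inr rfl) hz
    · -- a block without eigenvalues
      have he3 : 1 < e := by obtain ⟨k, hk⟩ := heodd; omega
      have hroot : ∀ z : F, z ^ r = 1 → z = 1 := by
        intro z hz
        by_contra hne
        have hz0 : z ≠ 0 := fun h => by rw [h, zero_pow hr.ne_zero] at hz; exact zero_ne_one hz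
        have ho : orderOf (Units.mk0 z hz0) = r := orderOf_eq_prime (Units.ext hz) (fun h => hne (congrArg Units.val h))
        have h1 : r ∣ q - 1 := by
          rw [← ho, ← hq, ← Fintype.card_units]
          exact orderOf_dvd_card
        have h2 := (LargeSylow.dvd_sub_iff (r := r) (by omega : 1 ≤ q) 1).1 (by rwa [pow_one])
        rw [← hedef, Nat.dvd_one] at h2
        omega
      obtain ⟨g, hg⟩ := LargeSylow.exists_gl_orderOf hq (show 0 < e by omega)
        ((LargeSylow.dvd_sub_iff (r := r) (by omega : 1 ≤ q) e).2 dvd_rfl)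
      have hgM : (g : Matrix (Fin e) (Fin e) F) ^ r = 1 := by
        rw [← Units.val_pow_eq_pow_val, ← hg, pow_orderOf_eq_one, Units.val_one]
      have hg1 : (g : Matrix (Fin e) (Fin e) F) ≠ 1 := fun h => by
        rw [show g = 1 from Units.ext h, orderOf_one] at hg
        omega
      have hAM : (Matrix.fromBlocks (g : Matrix (Fin e) (Fin e) F) 0 0 (1 : Matrix (Fin (n - e)) (Fin (n - e)) F)) ^ r
          = 1 := by
        rw [Matrix.fromBlocks_diagonal_pow, hgM, one_pow, Matrix.fromBlocks_one]
      refine transfer hf (finSumFinEquiv.trans (finCongr (show e + (n - e) = n by omega)))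
        (Matrix.fromBlocks (g : Matrix (Fin e) (Fin e) F) 0 0 1) (det_eq_one_of_pow hAM hroot) hAM
        (fun z hz => hg1 ?_)
        (noForm_block hq (by omega) heodd hrF hrq hroot
          (fun i hi hd => Nat.le_of_dvd (by omega) ((LargeSylow.dvd_sub_iff (by omega) i).1 hd)) _ hgM hg1)
      rw [← Matrix.fromBlocks_one, Matrix.fromBlocks_smul, Matrix.fromBlocks_inj] at hz
      have hz1 : z = 1 := by
        have := congrFun (congrFun hz.2.2.2 ⟨0, by omega⟩) ⟨0, by omega⟩
        simpa using this.symm
      rw [hz.1, hz1, one_smul]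

end Cfsg.Agent.S5968
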