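-- Involutions of PSL_n and the normaliser of a quadratic extension field.
import Cfsg.Statements.S5969
import Cfsg.Agent.Classical.SquareZero

set_option autoImplicit false
set_option linter.unusedSectionVars false
set_option linter.style.haveILetI false
open scoped MatrixGroups
open Cfsg

namespace Cfsg.Agent.S5969

open Module

section gen

variable {F : Type*} [Field F]

theorem exists_det {V : Type*} [AddCommGroup V] [Module F V] [FiniteDimensional F V] (hV : 0 < finrank F V)
    {c : F} (hc : c ≠ 0) : ∃ G : V ≃ₗ[F] V, LinearMap.det (G : V →ₗ[F] V) = c := by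
  classical
  let b := Module.finBasis F V
  have h : LinearMap.det (Matrix.toLin b b
      (Matrix.diagonal fun i : Fin (finrank F V) => if i = ⟨0, hV⟩ then c else 1)) = c := by
    rw [LinearMap.det_toLin, Matrix.det_diagonal, Finset.prod_ite_eq']
    simp
  have h0 : LinearMap.det (Matrix.toLin b b
      (Matrix.diagonal fun i : Fin (finrank F V) => if i = ⟨0, hV⟩ then c else 1)) ≠ 0 := by rw [h]; exact hc
  exact ⟨LinearMap.equivOfDetNeZero _ h0, h⟩

variable {V W : Type*} [AddCommGroup V] [Module F V] [AddCommGroup W] [Module F W]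

/-- Conjugation by determinant one onto a model. -/
theorem adjust {x : Module.End F V} {D : W →ₗ[F] W} (Φ Ψ : V ≃ₗ[F] W) (hΨ : ∀ v, Ψ (x v) = D (Ψ v))
    (hG : ∀ c : F, c ≠ 0 → ∃ G : W ≃ₗ[F] W, (∀ w, G (D w) = D (G w)) ∧ LinearMap.det (G : W →ₗ[F] W) = c) :
    ∃ e : V ≃ₗ[F] V, LinearMap.det (e : V →ₗ[F] V) = 1 ∧ ∀ v, e (x v) = Φ.symm (D (Φ (e v))) := by
  set d := LinearMap.det ((Ψ.trans Φ.symm : V ≃ₗ[F] V) : V →ₗ[F] V) with hd
  have hd0 : d ≠ 0 := (LinearEquiv.isUnit_det' _).ne_zero
  obtain ⟨G, hGD, hGd⟩ := hG d⁻¹ (inv_ne_zero hd0)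
  refine ⟨(Ψ.trans G).trans Φ.symm, ?_, fun v => by simp [hΨ, hGD]⟩
  have e : (((Ψ.trans G).trans Φ.symm : V ≃ₗ[F] V) : V →ₗ[F] V) =
      ((Φ.symm : W →ₗ[F] V) ∘ₗ (G : W →ₗ[F] W) ∘ₗ (Φ : V →ₗ[F] W)) * ((Ψ.trans Φ.symm : V ≃ₗ[F] V) : V →ₗ[F] V) := by
    refine LinearMap.ext fun v => ?_
    simp [Module.End.mul_apply]
  have hc := LinearMap.det_conj (G : W →ₗ[F] W) Φ.symm
  rw [LinearEquiv.symm_symm] at hc
  rw [e, map_mul, ← hd, hc, hGd, inv_mul_cancel₀ hd0]

/-- The model of two eigenspaces. -/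
def diag (s : F) (A B : Type*) [AddCommGroup A] [Module F A] [AddCommGroup B] [Module F B] : A × B →ₗ[F] A × B :=
  (s • LinearMap.id).prodMap (-s • LinearMap.id)

theorem diag_apply (s : F) {A B : Type*} [AddCommGroup A] [Module F A] [AddCommGroup B] [Module F B] (w : A × B) :
    diag s A B w = (s • w.1, -s • w.2) := rfl

theorem diag_det (s : F) {A B : Type*} [AddCommGroup A] [Module F A] [AddCommGroup B] [Module F B]
    [FiniteDimensional F A] [FiniteDimensional F B] :
    LinearMap.det (diag s A B) = s ^ (finrank F A + finrank F B) * (-1) ^ finrank F B := by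
  rw [diag, LinearMap.det_prodMap, LinearMap.det_smul, LinearMap.det_smul, LinearMap.det_id, LinearMap.det_id, mul_one,
    mul_one, neg_pow, pow_add]
  ring

theorem diag_central (s : F) {A B : Type*} [AddCommGroup A] [Module F A] [AddCommGroup B] [Module F B]
    [FiniteDimensional F A] [FiniteDimensional F B] (hA : 0 < finrank F A) {c : F} (hc : c ≠ 0) :
    ∃ G : (A × B) ≃ₗ[F] A × B, (∀ w, G (diag s A B w) = diag s A B (G w)) ∧
      LinearMap.det (G : A × B →ₗ[F] A × B) = c := by
  obtain ⟨G, hG⟩ := exists_det hA hc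
  refine ⟨G.prodCongr (LinearEquiv.refl F B), fun w => by simp [diag_apply], ?_⟩
  show LinearMap.det ((G : A →ₗ[F] A).prodMap (LinearMap.id : B →ₗ[F] B)) = c
  rw [LinearMap.det_prodMap, hG, LinearMap.det_id, mul_one]

/-- Eigenspace decomposition of a square root of a square. -/
theorem exists_eigen {x : Module.End F V} {s : F} (hs : (2 : F) ≠ 0) (hs0 : s ≠ 0) (hx : ∀ v, x (x v) = (s * s) • v) :
    ∃ Ψ : V ≃ₗ[F] LinearMap.ker (x - s • LinearMap.id) × LinearMap.ker (x + s • LinearMap.id),
      ∀ v, Ψ (x v) = diag s _ _ (Ψ v) := by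
  set A := LinearMap.ker (x - s • LinearMap.id) with hA
  set B := LinearMap.ker (x + s • LinearMap.id) with hB
  have hmA : ∀ v, v ∈ A ↔ x v = s • v := fun v => by simp [hA, sub_eq_zero]
  have hmB : ∀ v, v ∈ B ↔ x v = -(s • v) := fun v => by simp [hB, add_eq_zero_iff_eq_neg]
  have hc : IsCompl A B := by
    refine ⟨Submodule.disjoint_def.2 fun v ha hb => ?_, codisjoint_iff.2 (eq_top_iff.2 fun v _ => ?_)⟩
    · have h : (2 * s) • v = 0 := by
        rw [mul_smul, two_smul]
        nth_rw 1 [← (hmA v).1 ha]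
        rw [(hmB v).1 hb, neg_add_cancel]
      exact (smul_eq_zero.1 h).resolve_left (mul_ne_zero hs hs0)
    · refine Submodule.mem_sup.2 ⟨(2 * s)⁻¹ • (s • v + x v), (hmA _).2 ?_, (2 * s)⁻¹ • (s • v - x v), (hmB _).2 ?_, ?_⟩
      · rw [map_smul, map_add, map_smul, hx]
        module
      · rw [map_smul, map_sub, map_smul, hx]
        module
      · rw [← smul_add, show s • v + x v + (s • v - x v) = (2 * s) • v by rw [mul_smul, two_smul]; abel, smul_smul,
          inv_mul_cancel₀ (mul_ne_zero hs hs0), one_smul]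
  refine ⟨(Submodule.prodEquivOfIsCompl A B hc).symm, fun v => ?_⟩
  obtain ⟨w, rfl⟩ := (Submodule.prodEquivOfIsCompl A B hc).surjective v
  rw [LinearEquiv.symm_apply_apply]
  apply (Submodule.prodEquivOfIsCompl A B hc).injective
  rw [LinearEquiv.apply_symm_apply, Submodule.coe_prodEquivOfIsCompl', Submodule.coe_prodEquivOfIsCompl', diag_apply,
    map_add, (hmA _).1 w.1.2, (hmB _).1 w.2.2]
  simp

end gen

section quad

variable {F : Type*} [Field F] [Fintype F] {L : Type*} [Field L] [Algebra F L]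

theorem exists_sqrt (h : finrank F L = 2) (hodd : Odd (Fintype.card F)) (t : F) :
    ∃ δ : L, δ * δ = algebraMap F L t := by
  haveI : FiniteDimensional F L := Module.finite_of_finrank_pos (by omega)
  haveI : Finite L := Module.finite_of_finite F
  haveI := Fintype.ofFinite L
  rcases eq_or_ne t 0 with rfl | ht
  · exact ⟨0, by simp⟩
  have hcard : Fintype.card L = Fintype.card F ^ 2 := by rw [Module.card_eq_pow_finrank (K := F), h]
  have hL : ringChar L ≠ 2 := fun e => by
    have h1 := FiniteField.even_card_iff_char_two.1 e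
    rw [hcard] at h1
    exact (Nat.not_even_iff_odd.2 hodd.pow) (Nat.even_iff.2 h1)
  obtain ⟨k, hk⟩ := hodd
  have hexp : Fintype.card L / 2 = (Fintype.card F - 1) * (k + 1) := by
    rw [hcard, hk, show (2 * k + 1) ^ 2 = 2 * ((2 * k + 1 - 1) * (k + 1)) + 1 by
      rw [Nat.add_sub_cancel]; ring]
    omega
  obtain ⟨δ, hδ⟩ := (FiniteField.isSquare_iff hL ((_root_.map_ne_zero _).2 ht)).2 (by
    rw [hexp, pow_mul, ← map_pow (algebraMap F L), FiniteField.pow_card_sub_one_eq_one t ht, map_one, one_pow])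
  exact ⟨δ, hδ.symm⟩

/-- The coordinates with respect to `1` and `δ`. -/
theorem exists_coord (h : finrank F L = 2) {δ : L} (hδ : ∀ a : F, δ ≠ algebraMap F L a) :
    ∃ c : L ≃ₗ[F] F × F, ∀ a b : F, c.symm (a, b) = algebraMap F L a + b • δ := by
  haveI : FiniteDimensional F L := Module.finite_of_finrank_pos (by omega)
  let f : F × F →ₗ[F] L := (Algebra.linearMap F L).coprod (LinearMap.toSpanSingleton F L δ)
  have hf : Function.Injective f := (injective_iff_map_eq_zero f).2 fun w hw => by
    have hw' : algebraMap F L w.1 + w.2 • δ = 0 := by simpa [f] using hw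
    by_cases h2 : w.2 = 0
    · rw [h2, zero_smul, add_zero] at hw'
      replace hw' := (algebraMap F L).injective (hw'.trans (map_zero _).symm)
      exact Prod.ext hw' h2
    · refine absurd ?_ (hδ (-(w.2⁻¹ * w.1)))
      have e : algebraMap F L w.2⁻¹ * algebraMap F L w.2 = 1 := by rw [← map_mul, inv_mul_cancel₀ h2, map_one]
      rw [Algebra.smul_def] at hw'
      rw [map_neg, map_mul]
      linear_combination algebraMap F L w.2⁻¹ * hw' - δ * e
  exact ⟨(LinearMap.linearEquivOfInjective f hf (by rw [Module.finrank_prod, finrank_self, h])).symm,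
    fun a b => by simp [f]⟩

theorem not_mem_of_nonsquare {δ : L} {t : F} (ht : ¬ IsSquare t) (hδ : δ * δ = algebraMap F L t) (a : F) :
    δ ≠ algebraMap F L a := by
  rintro rfl
  rw [← map_mul] at hδ
  exact ht ⟨a, ((algebraMap F L).injective hδ).symm⟩

/-- The model for a non-square. -/
theorem exists_model {V : Type*} [AddCommGroup V] [Module F V] [FiniteDimensional F V] (h : finrank F L = 2)
    {m : ℕ} (hV : finrank F V = 2 * m) {δ : L} {z : F} (hz : ¬ IsSquare z) (hδ : δ * δ = algebraMap F L z)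
    {x : Module.End F V} (hx : ∀ v, x (x v) = z • v) :
    ∃ Ψ : V ≃ₗ[F] (Fin m → L), ∀ v, Ψ (x v) = δ • Ψ v := by
  haveI : FiniteDimensional F L := Module.finite_of_finrank_pos (by omega)
  obtain ⟨c, hc⟩ := exists_coord h (not_mem_of_nonsquare hz hδ)
  let f : L →ₗ[F] Module.End F V :=
    ((LinearMap.toSpanSingleton F (Module.End F V) 1).coprod (LinearMap.toSpanSingleton F (Module.End F V) x)).comp
      c.toLinearMap
  have hf : ∀ (a b : F) (v : V), f (algebraMap F L a + b • δ) v = a • v + b • x v := fun a b v => by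
    rw [← hc]
    simp [f]
  have hf1 : f 1 = 1 := LinearMap.ext fun v => by simpa using hf 1 0 v
  have hfm : ∀ k l, f (k * l) = f k * f l := by
    intro k l
    obtain ⟨⟨a, b⟩, rfl⟩ := c.symm.surjective k
    obtain ⟨⟨u, w⟩, rfl⟩ := c.symm.surjective l
    rw [hc, hc]
    refine LinearMap.ext fun v => ?_
    have e : (algebraMap F L a + b • δ) * (algebraMap F L u + w • δ) =
        algebraMap F L (a * u + b * w * z) + (a * w + b * u) • δ := by
      simp only [Algebra.smul_def, map_add, map_mul]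
      linear_combination (algebraMap F L b * algebraMap F L w) * hδ
    rw [e, Module.End.mul_apply, hf, hf, hf, map_add, map_smul, map_smul, hx]
    module
  let ρ : L →ₐ[F] Module.End F V := AlgHom.ofLinearMap f hf1 hfm
  letI : Module L V := Module.compHom V ρ.toRingHom
  haveI : IsScalarTower F L V := ⟨fun a l v => by
    show ρ (a • l) v = a • ρ l v
    rw [map_smul, LinearMap.smul_apply]⟩
  haveI : Module.Finite L V := Module.Finite.right F L V
  have hm : finrank L V = m := by
    have := Module.finrank_mul_finrank F L V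
    rw [h, hV] at this
    omega
  refine ⟨((Module.finBasisOfFinrankEq L V hm).equivFun).restrictScalars F, fun v => ?_⟩
  show (Module.finBasisOfFinrankEq L V hm).equivFun (x v) = δ • (Module.finBasisOfFinrankEq L V hm).equivFun v
  rw [← map_smul]
  congr 1
  show x v = f δ v
  have := hf 0 1 v
  simp at this
  exact this.symm

theorem model_central (h : finrank F L = 2) {m : ℕ} (hm : 0 < m) (δ : L) {c : F} (hc : c ≠ 0) :
    ∃ G : (Fin m → L) ≃ₗ[F] (Fin m → L), (∀ w, G (δ • w) = δ • G w) ∧
      LinearMap.det (G : (Fin m → L) →ₗ[F] (Fin m → L)) = c := by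
  haveI : FiniteDimensional F L := Module.finite_of_finrank_pos (by omega)
  haveI : Finite L := Module.finite_of_finite F
  obtain ⟨l, hl⟩ := FiniteField.norm_surjective F L c
  have hl0 : l ≠ 0 := by rintro rfl; exact hc (by rw [← hl, Algebra.norm_zero])
  obtain ⟨G, hG⟩ := exists_det (F := L) (V := Fin m → L) (by rwa [Module.finrank_fin_fun]) hl0
  refine ⟨G.restrictScalars F, fun w => map_smul G δ w, ?_⟩
  show LinearMap.det ((G : (Fin m → L) →ₗ[L] (Fin m → L)).restrictScalars F) = c
  rw [LinearMap.det_restrictScalars, hG, hl]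

variable {V : Type*} [AddCommGroup V] [Module F V] [FiniteDimensional F V] [Module L V] [IsScalarTower F L V]

/-- Semilinearity. -/
def IsSemi (L : Type*) [Field L] [Module L V] (T : Module.End F V) : Prop :=
  ∀ l : L, ∃ l' : L, ∀ v, T (l • v) = l' • T v

theorem IsSemi.smul {T : Module.End F V} (hT : IsSemi L T) (a : F) : IsSemi L (a • T) := fun l => by
  obtain ⟨l', hl⟩ := hT l
  exact ⟨l', fun v => by rw [LinearMap.smul_apply, LinearMap.smul_apply, hl, smul_comm]⟩

theorem finrank_L (h : finrank F L = 2) {m : ℕ} (hV : finrank F V = 2 * m) : finrank L V = m := by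
  haveI : FiniteDimensional F L := Module.finite_of_finrank_pos (by omega)
  haveI : Module.Finite L V := Module.Finite.right F L V
  have := Module.finrank_mul_finrank F L V
  rw [h, hV] at this
  omega

theorem conj_nonsquare (h : finrank F L = 2) (hodd : Odd (Fintype.card F)) {m : ℕ} (hV : finrank F V = 2 * m)
    (hm : 0 < m) {x : Module.End F V} {z : F} (hz : ¬ IsSquare z) (hx : ∀ v, x (x v) = z • v) :
    ∃ (e : V ≃ₗ[F] V) (T : Module.End F V),
      LinearMap.det (e : V →ₗ[F] V) = 1 ∧ IsSemi L T ∧ ∀ v, e (x v) = T (e v) := by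
  haveI : FiniteDimensional F L := Module.finite_of_finrank_pos (by omega)
  haveI : Module.Finite L V := Module.Finite.right F L V
  obtain ⟨δ, hδ⟩ := exists_sqrt h hodd z
  obtain ⟨Ψ, hΨ⟩ := exists_model h hV hz hδ hx
  let B := (Module.finBasisOfFinrankEq L V (finrank_L h hV)).equivFun
  let D : (Fin m → L) →ₗ[F] (Fin m → L) := (δ • LinearMap.id : (Fin m → L) →ₗ[L] _).restrictScalars F
  obtain ⟨e, he, hc⟩ := adjust (D := D) (B.restrictScalars F) Ψ hΨ fun c hc => model_central h hm δ hc
  refine ⟨e, (δ • LinearMap.id : V →ₗ[L] V).restrictScalars F, he, fun l => ⟨l, fun v => by show δ • l • v = l • δ • v; exact smul_comm δ l v⟩, fun v => ?_⟩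
  rw [hc]
  show B.symm (δ • B (e v)) = δ • e v
  rw [map_smul, LinearEquiv.symm_apply_apply]

theorem conj_even (h : finrank F L = 2) {m : ℕ} (hV : finrank F V = 2 * m) {A B : Type*} [AddCommGroup A]
    [Module F A] [AddCommGroup B] [Module F B] [FiniteDimensional F A] [FiniteDimensional F B] {x : Module.End F V}
    {s : F} (Ψ : V ≃ₗ[F] A × B) (hΨ : ∀ v, Ψ (x v) = diag s A B (Ψ v)) {a b : ℕ} (ha : finrank F A = 2 * a)
    (hb : finrank F B = 2 * b) (ha0 : 0 < a) :
    ∃ (e : V ≃ₗ[F] V) (T : Module.End F V),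
      LinearMap.det (e : V →ₗ[F] V) = 1 ∧ IsSemi L T ∧ ∀ v, e (x v) = T (e v) := by
  haveI : FiniteDimensional F L := Module.finite_of_finrank_pos (by omega)
  haveI : Module.Finite L V := Module.Finite.right F L V
  have hab : a + b = m := by
    have := Ψ.finrank_eq
    rw [hV, Module.finrank_prod, ha, hb] at this
    omega
  let Φ : V ≃ₗ[L] (Fin a → L) × (Fin b → L) := LinearEquiv.ofFinrankEq V _ (by
    rw [finrank_L h hV, Module.finrank_prod, Module.finrank_fin_fun, Module.finrank_fin_fun, hab])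
  have hd : ∀ j, finrank F (Fin j → L) = 2 * j := fun j => by
    rw [← Module.finrank_mul_finrank F L (Fin j → L), h, Module.finrank_fin_fun]
  let ia : A ≃ₗ[F] (Fin a → L) := LinearEquiv.ofFinrankEq A _ (by rw [ha, hd])
  let ib : B ≃ₗ[F] (Fin b → L) := LinearEquiv.ofFinrankEq B _ (by rw [hb, hd])
  obtain ⟨e, he, hc⟩ := adjust (x := x) (D := diag s (Fin a → L) (Fin b → L)) (Φ.restrictScalars F)
    (Ψ.trans (ia.prodCongr ib)) (fun v => by simp [hΨ, diag_apply])
    fun c hc => diag_central s (by rw [hd]; omega) hc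
  refine ⟨e, (Φ.restrictScalars F).symm.toLinearMap ∘ₗ diag s _ _ ∘ₗ (Φ.restrictScalars F).toLinearMap, he,
    fun l => ⟨l, fun v => ?_⟩, hc⟩
  show Φ.symm (diag s _ _ (Φ (l • v))) = l • Φ.symm (diag s _ _ (Φ v))
  rw [← map_smul, map_smul, diag_apply, diag_apply, Prod.smul_fst, Prod.smul_snd, Prod.smul_mk, smul_comm s l,
    smul_comm (-s) l]

theorem conj_half (h : finrank F L = 2) (hodd : Odd (Fintype.card F)) {m : ℕ} (hV : finrank F V = 2 * m)
    (hm : 0 < m) {A B : Type*} [AddCommGroup A] [Module F A] [AddCommGroup B] [Module F B] [FiniteDimensional F A]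
    [FiniteDimensional F B] {x : Module.End F V}
    {s : F} (Ψ : V ≃ₗ[F] A × B) (hΨ : ∀ v, Ψ (x v) = diag s A B (Ψ v)) (ha : finrank F A = m)
    (hb : finrank F B = m) :
    ∃ (e : V ≃ₗ[F] V) (T : Module.End F V),
      LinearMap.det (e : V →ₗ[F] V) = 1 ∧ IsSemi L T ∧ ∀ v, e (x v) = T (e v) := by
  haveI : FiniteDimensional F L := Module.finite_of_finrank_pos (by omega)
  haveI : Module.Finite L V := Module.Finite.right F L V
  have h2 : ringChar F ≠ 2 := fun e => by
    have := (FiniteField.even_card_iff_char_two).1 e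
    exact (Nat.not_even_iff_odd.2 hodd) (Nat.even_iff.2 this)
  obtain ⟨t, ht⟩ := FiniteField.exists_nonsquare (F := F) h2
  obtain ⟨δ, hδ⟩ := exists_sqrt h hodd t
  obtain ⟨c, hc⟩ := exists_coord h (not_mem_of_nonsquare ht hδ)
  let Bs := (Module.finBasisOfFinrankEq L V (finrank_L h hV)).equivFun
  let sp : (Fin m → L) ≃ₗ[F] (Fin m → F) × (Fin m → F) :=
    { toFun := fun w => (fun i => (c (w i)).1, fun i => (c (w i)).2)
      invFun := fun w i => c.symm (w.1 i, w.2 i)
      map_add' := fun u w => by ext <;> simp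
      map_smul' := fun u w => by ext <;> simp
      left_inv := fun w => by simp
      right_inv := fun w => by ext <;> simp }
  let Φ : V ≃ₗ[F] (Fin m → F) × (Fin m → F) := (Bs.restrictScalars F).trans sp
  let ia : A ≃ₗ[F] (Fin m → F) := LinearEquiv.ofFinrankEq A _ (by rw [ha, Module.finrank_fin_fun])
  let ib : B ≃ₗ[F] (Fin m → F) := LinearEquiv.ofFinrankEq B _ (by rw [hb, Module.finrank_fin_fun])
  obtain ⟨e, he, hce⟩ := adjust (x := x) (D := diag s (Fin m → F) (Fin m → F)) Φ (Ψ.trans (ia.prodCongr ib))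
    (fun v => by simp [hΨ, diag_apply]) fun c hc => diag_central s (by rwa [Module.finrank_fin_fun]) hc
  refine ⟨e, Φ.symm.toLinearMap ∘ₗ diag s _ _ ∘ₗ Φ.toLinearMap, he, fun l => ⟨c.symm ((c l).1, -(c l).2), fun v => ?_⟩,
    hce⟩
  apply Bs.injective
  rw [map_smul Bs]
  have hT : ∀ (v : V) (i : Fin m), Bs ((Φ.symm.toLinearMap ∘ₗ diag s _ _ ∘ₗ Φ.toLinearMap) v) i =
      c.symm (s • (c (Bs v i)).1, -s • (c (Bs v i)).2) := fun v i => by
    show Bs (Bs.symm (sp.symm (diag s _ _ (sp (Bs v))))) i = _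
    rw [LinearEquiv.apply_symm_apply]
    rfl
  refine funext fun i => ?_
  rw [Pi.smul_apply, hT, hT, map_smul, Pi.smul_apply]
  generalize Bs v i = k
  obtain ⟨⟨a, b⟩, rfl⟩ := c.symm.surjective l
  obtain ⟨⟨u, w⟩, rfl⟩ := c.symm.surjective k
  have e : c.symm (a, b) • c.symm (u, w) = c.symm (a * u + b * w * t, a * w + b * u) := by
    rw [hc, hc, hc, smul_eq_mul]
    simp only [Algebra.smul_def, map_add, map_mul]
    linear_combination (algebraMap F L b * algebraMap F L w) * hδ
  rw [e]
  simp only [LinearEquiv.apply_symm_apply]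
  simp only [smul_eq_mul, hc]
  simp only [Algebra.smul_def, map_add, map_mul, map_neg]
  linear_combination -((algebraMap F L b * algebraMap F L w) * algebraMap F L s) * hδ

/-- Square roots of one in characteristic two. -/
theorem conj_char_two [CharP F 2] (h : finrank F L = 2) {m : ℕ} (hV : finrank F V = 2 * m) {N : Module.End F V}
    (hN : ∀ v, N (N v) = 0) (hN0 : N ≠ 0) (hr : Even (finrank F (LinearMap.range N)) ∨ m = 1) :
    ∃ (e : V ≃ₗ[F] V) (T : Module.End F V),
      LinearMap.det (e : V →ₗ[F] V) = 1 ∧ IsSemi L T ∧ ∀ v, e (N v + v) = T (e v) := by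
  haveI : FiniteDimensional F L := Module.finite_of_finrank_pos (by omega)
  haveI : Module.Finite L V := Module.Finite.right F L V
  set r := finrank F (LinearMap.range N) with hrdef
  have hr0 : r ≠ 0 := fun e => hN0 (LinearMap.range_eq_bot.1 (Submodule.finrank_eq_zero.1 e))
  have hle : ∀ {M : Module.End F V}, (∀ v, M (M v) = 0) → 2 * finrank F (LinearMap.range M) ≤ 2 * m := fun {M} hM => by
    have h1 : finrank F (LinearMap.range M) ≤ finrank F (LinearMap.ker M) :=
      Submodule.finrank_mono (by rintro _ ⟨x, rfl⟩; exact LinearMap.mem_ker.2 (hM x))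
    have h2 := LinearMap.finrank_range_add_finrank_ker M
    omega
  obtain ⟨N', hN', hS, hrk⟩ : ∃ N' : Module.End F V, (∀ v, N' (N' v) = 0) ∧ IsSemi L (N' + LinearMap.id) ∧
      r = finrank F (LinearMap.range N') := by
    rcases hr with ⟨j, hj⟩ | rfl
    · have hjm : j + j + (m - (j + j)) = m := by have := hle hN; omega
      let Φ : V ≃ₗ[L] ((Fin j → L) × (Fin j → L)) × (Fin (m - (j + j)) → L) := LinearEquiv.ofFinrankEq V _ (by
        rw [finrank_L h hV, Module.finrank_prod, Module.finrank_prod, Module.finrank_fin_fun, Module.finrank_fin_fun,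
          hjm])
      let inr' : (Fin j → L) →ₗ[L] ((Fin j → L) × (Fin j → L)) × (Fin (m - (j + j)) → L) :=
        (LinearMap.inl L _ _).comp (LinearMap.inr L _ _)
      let M : V →ₗ[L] V := Φ.symm.toLinearMap ∘ₗ inr' ∘ₗ
        ((LinearMap.fst L _ _).comp (LinearMap.fst L _ _)) ∘ₗ Φ.toLinearMap
      refine ⟨M.restrictScalars F, fun v => by simp [M, inr'],
        fun l => ⟨l, fun v => by simp [map_smul, smul_add]⟩, ?_⟩
      have hR : LinearMap.range M = LinearMap.range (Φ.symm.toLinearMap ∘ₗ inr') := by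
        refine le_antisymm ?_ ?_
        · rintro _ ⟨v, rfl⟩
          exact ⟨_, rfl⟩
        · rintro _ ⟨w, rfl⟩
          exact ⟨Φ.symm ((w, 0), 0), by simp [M, inr']⟩
      have hfr : finrank L (LinearMap.range M) = j := by
        rw [hR, LinearMap.finrank_range_of_inj (fun a b hab => by simpa [inr'] using hab), Module.finrank_fin_fun]
      show r = finrank F ((LinearMap.range M).restrictScalars F)
      have := Module.finrank_mul_finrank F L (LinearMap.range M)
      rw [h, hfr] at this
      have e2 : finrank F ((LinearMap.range M).restrictScalars F) = 2 * j := this.symm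
      omega
    · haveI : Finite L := Module.finite_of_finite F
      let σ := FiniteField.frobeniusAlgEquivOfAlgebraic F L
      have ho : orderOf σ = 2 := by rw [FiniteField.orderOf_frobeniusAlgEquivOfAlgebraic, h]
      have hσ2 : ∀ l, σ (σ l) = l := fun l => by
        have h2 := pow_orderOf_eq_one σ
        rw [ho, pow_two] at h2
        exact AlgEquiv.congr_fun h2 l
      obtain ⟨l₀, hl₀⟩ : ∃ l, σ l ≠ l := by
        by_contra hall
        push Not at hall
        rw [show σ = 1 from AlgEquiv.ext hall, orderOf_one] at ho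
        omega
      let B : V ≃ₗ[L] L := LinearEquiv.ofFinrankEq V L (by rw [finrank_L h hV, finrank_self])
      let M : Module.End F V :=
        (B.restrictScalars F).symm.toLinearMap ∘ₗ (σ.toLinearEquiv.toLinearMap - LinearMap.id) ∘ₗ
          (B.restrictScalars F).toLinearMap
      haveI : CharP L 2 := charP_of_injective_algebraMap (algebraMap F L).injective 2
      have hM : ∀ v, M (M v) = 0 := fun v => by
        show B.symm (σ (B (B.symm (σ (B v) - B v))) - B (B.symm (σ (B v) - B v))) = 0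
        rw [LinearEquiv.apply_symm_apply, show σ (σ (B v) - B v) = σ (B v) - B v by
          rw [map_sub σ, hσ2, ← neg_sub (σ (B v)) (B v), CharTwo.neg_eq], sub_self, map_zero]
      refine ⟨M, hM, fun l => ⟨σ l, fun v => ?_⟩, ?_⟩
      · apply B.injective
        show B (B.symm (σ (B (l • v)) - B (l • v)) + l • v) = B (σ l • (B.symm (σ (B v) - B v) + v))
        simp [map_mul, mul_sub, mul_add]
      · have h1 : finrank F (LinearMap.range M) ≠ 0 := fun e => hl₀ (by
          have hz := LinearMap.congr_fun (LinearMap.range_eq_bot.1 (Submodule.finrank_eq_zero.1 e)) (B.symm l₀)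
          simpa [M, sub_eq_zero] using hz)
        have := hle hM
        have := hle hN
        omega
  obtain ⟨d, hd, H⟩ := Classical.exists_conj_sq_zero hN hN' hrk
  obtain ⟨c, hc⟩ : ∃ c : F, d⁻¹ = c * c := FiniteField.isSquare_of_char_two (ringChar.eq F 2) d⁻¹
  have hc0 : c ≠ 0 := by rintro rfl; exact inv_ne_zero hd (by simpa using hc)
  obtain ⟨e, he, hdet⟩ := H c hc0
  refine ⟨e, N' + LinearMap.id, ?_, hS, fun v => by simp [he]⟩
  rcases hdet with ⟨h0, -⟩ | hdet
  · exact absurd h0 hr0
  · rw [hdet, ← hc, mul_inv_cancel₀ hd]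

/-- No semilinear map is a homology or a transvection. -/
theorem no_hyperplane (h : finrank F L = 2) (h4 : 4 ≤ finrank F V) {T : Module.End F V} (hT : IsSemi L T)
    {H : Submodule F V} (hH : finrank F V ≤ finrank F H + 1) {s : F} (hs : s ≠ 0) (hH' : ∀ v ∈ H, T v = s • v) :
    ∀ v, T v = s • v := by
  haveI : FiniteDimensional F L := Module.finite_of_finrank_pos (by omega)
  haveI : Module.Finite L V := Module.Finite.right F L V
  have hlin : ∀ (l : L) (v : V), T (l • v) = l • T v := by
    intro l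
    obtain ⟨l', hl⟩ := hT l
    rcases eq_or_ne l 0 with rfl | hl0
    · intro v; simp
    let S : V ≃ₗ[F] V := (LinearEquiv.smulOfUnit (Units.mk0 l hl0) : V ≃ₗ[L] V).restrictScalars F
    have hS : ∀ v, S v = l • v := fun v => rfl
    obtain ⟨v, hv, hv0⟩ := Submodule.exists_mem_ne_zero_of_ne_bot (p := H ⊓ H.comap S.toLinearMap) (by
      intro e
      have h1 := Submodule.finrank_sup_add_finrank_inf_eq H (H.comap S.toLinearMap)
      have h2 := Submodule.finrank_le (H ⊔ H.comap S.toLinearMap)
      rw [e, finrank_bot, Submodule.comap_equiv_eq_map_symm, LinearEquiv.finrank_map_eq] at h1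
      rw [Submodule.comap_equiv_eq_map_symm] at h2
      omega)
    have hlv : T (l • v) = s • (l • v) := hH' _ (by simpa [hS] using hv.2)
    rw [hl, hH' v hv.1, smul_comm s l v] at hlv
    have hll : l' = l := smul_left_injective L (by simp [hs, hv0] : s • v ≠ 0) hlv
    exact fun v => by rw [hl, hll]
  let E : Submodule L V :=
    { carrier := {v | T v = s • v}
      add_mem' := fun {a b} (ha : T a = s • a) (hb : T b = s • b) => by
        show T (a + b) = s • (a + b)
        rw [map_add, ha, hb, smul_add]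
      zero_mem' := by show T 0 = s • (0 : V); simp
      smul_mem' := fun l v (hv : T v = s • v) => by
        show T (l • v) = s • (l • v)
        rw [hlin, hv, smul_comm] }
  have h1 : finrank F H ≤ finrank F (E.restrictScalars F) := Submodule.finrank_mono hH'
  have h2 := Submodule.finrank_le (E.restrictScalars F)
  have h3 : finrank F (E.restrictScalars F) = 2 * finrank L E := by
    have := Module.finrank_mul_finrank F L E
    rw [h] at this
    exact this.symm
  have h4 : finrank F V = 2 * finrank L V := by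
    have := Module.finrank_mul_finrank F L V
    rw [h] at this
    exact this.symm
  have h5 : E = ⊤ := Submodule.eq_top_of_finrank_eq (by omega)
  intro v
  exact (h5 ▸ Submodule.mem_top : v ∈ E)

end quad

section arith

variable {F : Type*} [Field F] [Fintype F]

theorem exists_root_neg_one (n : ℕ) (hn : n ≠ 0) (h : padicValNat 2 n < padicValNat 2 (Fintype.card F - 1)) :
    ∃ s : F, s ^ n = -1 := by
  obtain ⟨g, hg⟩ := IsCyclic.exists_generator (α := Fˣ)
  have ho : orderOf g = Fintype.card F - 1 := by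
    rw [orderOf_eq_card_of_forall_mem_zpowers hg, Nat.card_units, Nat.card_eq_fintype_card]
  set b := padicValNat 2 n with hb
  obtain ⟨w, hw⟩ : 2 ^ b ∣ n := pow_padicValNat_dvd
  have hwo : Odd w := by
    rw [← Nat.not_even_iff_odd, even_iff_two_dvd]
    intro h2
    refine pow_succ_padicValNat_not_dvd (p := 2) hn ?_
    rw [pow_succ, ← hb]
    exact (mul_dvd_mul_left _ h2).trans hw.symm.dvd
  obtain ⟨u, hu⟩ : 2 ^ (b + 1) ∣ Fintype.card F - 1 :=
    (pow_dvd_pow 2 h).trans pow_padicValNat_dvd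
  have hord : orderOf (g ^ u) = 2 ^ (b + 1) := by
    have hu0 : u ≠ 0 := by
      rintro rfl
      have := Fintype.one_lt_card (α := F)
      omega
    rw [orderOf_pow' _ hu0, ho, Nat.gcd_eq_right ⟨2 ^ (b + 1), by rw [hu, mul_comm]⟩, hu,
      Nat.mul_div_cancel _ (Nat.pos_of_ne_zero hu0)]
  refine ⟨((g ^ u : Fˣ) : F), ?_⟩
  have h1 : ((g ^ u) ^ 2 ^ b : Fˣ) ≠ 1 := fun e => by
    have := Nat.le_of_dvd (by positivity) (orderOf_dvd_of_pow_eq_one e)
    rw [hord, pow_succ] at this
    have : 0 < 2 ^ b := by positivity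
    omega
  have h2 : (((g ^ u) ^ 2 ^ b : Fˣ) : F) * (((g ^ u) ^ 2 ^ b : Fˣ) : F) = 1 := by
    rw [← Units.val_mul, ← pow_add, ← mul_two, ← pow_succ, ← hord, pow_orderOf_eq_one, Units.val_one]
  have h3 : (((g ^ u) ^ 2 ^ b : Fˣ) : F) = -1 := (mul_self_eq_one_iff.1 h2).resolve_left fun e => h1 (Units.ext e)
  rw [hw, pow_mul, ← Units.val_pow_eq_pow_val, h3, Odd.neg_one_pow hwo]

theorem no_root_neg_one (h2 : (2 : F) ≠ 0) (n : ℕ) (h : padicValNat 2 (Fintype.card F - 1) ≤ padicValNat 2 n)
    (s : F) : s ^ n ≠ -1 := by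
  intro hs
  obtain ⟨u, hu⟩ : 2 ^ padicValNat 2 (Fintype.card F - 1) ∣ Fintype.card F - 1 := pow_padicValNat_dvd
  have hN : Fintype.card F - 1 ≠ 0 := by have := Fintype.one_lt_card (α := F); omega
  have huo : Odd u := by
    rw [← Nat.not_even_iff_odd, even_iff_two_dvd]
    intro hd
    refine pow_succ_padicValNat_not_dvd (p := 2) hN ?_
    rw [pow_succ]
    nth_rw 2 [hu]
    exact mul_dvd_mul_left _ hd
  obtain ⟨w, hw⟩ : 2 ^ padicValNat 2 (Fintype.card F - 1) ∣ n := (pow_dvd_pow 2 h).trans pow_padicValNat_dvd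
  have hs0 : s ≠ 0 := by
    rintro rfl
    rcases n with _ | k
    · rw [pow_zero] at hs
      exact h2 (by linear_combination hs)
    · rw [zero_pow k.succ_ne_zero] at hs
      exact one_ne_zero (neg_eq_zero.1 hs.symm)
  have e1 : s ^ (n * u) = -1 := by rw [pow_mul, hs, Odd.neg_one_pow huo]
  have e2 : s ^ (n * u) = 1 := by
    rw [show n * u = (Fintype.card F - 1) * w by rw [hw, mul_right_comm, ← hu], pow_mul,
      FiniteField.pow_card_sub_one_eq_one s hs0, one_pow]
  exact h2 (by linear_combination e2.symm.trans e1)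

end arith

section mat

variable {F : Type*} [Field F] [Fintype F] {n : ℕ}

theorem toLin'_det (M : Matrix.SpecialLinearGroup (Fin n) F) :
    LinearMap.det (Matrix.toLin' (M : Matrix (Fin n) (Fin n) F)) = 1 := by
  rw [LinearMap.det_toLin', M.2]

variable {L : Type*} [Field L] [Algebra F L] [Module L (Fin n → F)] [IsScalarTower F L (Fin n → F)]
  {K : Subalgebra F (Matrix (Fin n) (Fin n) F)} {j : L → Matrix (Fin n) (Fin n) F}

theorem mem_normalizer (hj : ∀ (l : L) v, l • v = (j l).mulVec v) (hjK : ∀ k, k ∈ K ↔ ∃ l, j l = k)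
    [Finite L] (g : GL (Fin n) F) (hg : IsSemi L (Matrix.toLin' (g : Matrix (Fin n) (Fin n) F))) :
    g ∈ Cfsg.Geo.subalgebraNormalizer K := by
  choose f hf using hg
  have hconj : ∀ l, (g : Matrix (Fin n) (Fin n) F) * j l * ((g⁻¹ : GL (Fin n) F) : Matrix (Fin n) (Fin n) F) = j (f l) := by
    intro l
    have h1 : (g : Matrix (Fin n) (Fin n) F) * j l = j (f l) * g := by
      refine Matrix.toLin'.injective (LinearMap.ext fun v => ?_)
      rw [Matrix.toLin'_apply, Matrix.toLin'_apply, ← Matrix.mulVec_mulVec, ← Matrix.mulVec_mulVec, ← hj, ← hj]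
      exact hf l v
    rw [h1, mul_assoc, ← Units.val_mul, mul_inv_cancel, Units.val_one, mul_one]
  intro k
  refine ⟨fun hk => ?_, fun hk => ?_⟩
  · obtain ⟨l, rfl⟩ := (hjK k).1 hk
    rw [hconj]
    exact (hjK _).2 ⟨f l, rfl⟩
  · obtain ⟨l, hl⟩ := (hjK _).1 hk
    let S : Set (Matrix (Fin n) (Fin n) F) := {y | y ∈ K}
    let c : K → K := fun y => ⟨(g : Matrix (Fin n) (Fin n) F) * y * ((g⁻¹ : GL (Fin n) F) : Matrix (Fin n) (Fin n) F), by
      obtain ⟨i, hi⟩ := (hjK y.1).1 y.2
      rw [← hi, hconj]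
      exact (hjK _).2 ⟨f i, rfl⟩⟩
    have hci : Function.Injective c := fun a b hab =>
      Subtype.ext ((Units.mul_right_inj g).1 ((Units.mul_left_inj g⁻¹).1 (congrArg Subtype.val hab)))
    obtain ⟨y, hy⟩ := Finite.injective_iff_surjective.1 hci ⟨_, hk⟩
    exact ((Units.mul_right_inj g).1 ((Units.mul_left_inj g⁻¹).1 (congrArg Subtype.val hy))) ▸ y.2

theorem isSemi_of_normalizer (hj : ∀ (l : L) v, l • v = (j l).mulVec v) (hjK : ∀ k, k ∈ K ↔ ∃ l, j l = k)
    (g : GL (Fin n) F) (hg : g ∈ Cfsg.Geo.subalgebraNormalizer K) :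
    IsSemi L (Matrix.toLin' (g : Matrix (Fin n) (Fin n) F)) := by
  intro l
  obtain ⟨l', hl'⟩ := (hjK _).1 ((hg _).1 ((hjK _).2 ⟨l, rfl⟩))
  refine ⟨l', fun v => ?_⟩
  rw [hj, hj, hl', Matrix.toLin'_apply, Matrix.toLin'_apply, Matrix.mulVec_mulVec, Matrix.mulVec_mulVec, mul_assoc _ _
    (g : Matrix (Fin n) (Fin n) F), ← Units.val_mul, inv_mul_cancel, Units.val_one, mul_one]

/-- Conjugation of matrices from conjugation of maps. -/
theorem mem_of_conj [Finite L] (hj : ∀ (l : L) v, l • v = (j l).mulVec v) (hjK : ∀ k, k ∈ K ↔ ∃ l, j l = k)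
    (x : Matrix.SpecialLinearGroup (Fin n) F) (e : (Fin n → F) ≃ₗ[F] (Fin n → F)) (T : Module.End F (Fin n → F))
    (he : LinearMap.det (e : (Fin n → F) →ₗ[F] (Fin n → F)) = 1) (hT : IsSemi L T)
    (hc : ∀ v, e (Matrix.toLin' (x : Matrix (Fin n) (Fin n) F) v) = T (e v)) :
    ∃ P : Matrix.SpecialLinearGroup (Fin n) F, P⁻¹ * x * P ∈ ((Cfsg.Geo.subalgebraNormalizer K).comap (Matrix.SpecialLinearGroup.toGL : Matrix.SpecialLinearGroup (Fin n) F →* GL (Fin n) F)) := by
  let Q : Matrix.SpecialLinearGroup (Fin n) F :=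
    ⟨LinearMap.toMatrix' (e : (Fin n → F) →ₗ[F] (Fin n → F)), by rw [LinearMap.det_toMatrix', he]⟩
  refine ⟨Q⁻¹, Subgroup.mem_comap.2 (mem_normalizer hj hjK _ ?_)⟩
  convert hT
  refine LinearMap.ext fun v => ?_
  obtain ⟨w, rfl⟩ := e.surjective v
  have hQ : ∀ u, (Q : Matrix (Fin n) (Fin n) F).mulVec u = e u := fun u => LinearMap.toMatrix'_mulVec _ _
  rw [← hc, Matrix.toLin'_apply, Matrix.toLin'_apply, ← hQ w, ← hQ]
  show (((Q⁻¹)⁻¹ * x * Q⁻¹ : Matrix.SpecialLinearGroup (Fin n) F) : Matrix (Fin n) (Fin n) F).mulVec _ = _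
  rw [Matrix.mulVec_mulVec, ← Matrix.SpecialLinearGroup.coe_mul, inv_inv, inv_mul_cancel_right,
    Matrix.SpecialLinearGroup.coe_mul, Matrix.mulVec_mulVec]

/-- A derangement. -/
theorem not_conj (hL : finrank F L = 2) (hn : 4 ≤ n) (hj : ∀ (l : L) v, l • v = (j l).mulVec v)
    (hjK : ∀ k, k ∈ K ↔ ∃ l, j l = k) (x : Matrix.SpecialLinearGroup (Fin n) F) {H : Submodule F (Fin n → F)}
    (hH : n ≤ finrank F H + 1) {s : F} (hs : s ≠ 0) (hxH : ∀ v ∈ H, (x : Matrix (Fin n) (Fin n) F).mulVec v = s • v)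
    (hns : ¬ ∀ v, (x : Matrix (Fin n) (Fin n) F).mulVec v = s • v) (P : Matrix.SpecialLinearGroup (Fin n) F) :
    P⁻¹ * x * P ∉ ((Cfsg.Geo.subalgebraNormalizer K).comap (Matrix.SpecialLinearGroup.toGL : Matrix.SpecialLinearGroup (Fin n) F →* GL (Fin n) F)) := by
  intro hP
  have hsemi := isSemi_of_normalizer hj hjK _ (Subgroup.mem_comap.1 hP)
  let Pe : (Fin n → F) ≃ₗ[F] (Fin n → F) := Matrix.SpecialLinearGroup.toLin' P⁻¹
  have hPe : ∀ v, Pe v = ((P⁻¹ : Matrix.SpecialLinearGroup (Fin n) F) : Matrix (Fin n) (Fin n) F).mulVec v :=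
    fun v => rfl
  have key : ∀ v, Matrix.toLin' ((P⁻¹ * x * P : Matrix.SpecialLinearGroup (Fin n) F) : Matrix (Fin n) (Fin n) F) (Pe v) =
      Pe ((x : Matrix (Fin n) (Fin n) F).mulVec v) := fun v => by
    rw [Matrix.toLin'_apply, hPe, hPe, Matrix.mulVec_mulVec, Matrix.mulVec_mulVec,
      ← Matrix.SpecialLinearGroup.coe_mul, ← Matrix.SpecialLinearGroup.coe_mul, mul_inv_cancel_right]
  have h := no_hyperplane hL (by rw [Module.finrank_fin_fun]; omega) (T := Matrix.toLin'
    ((P⁻¹ * x * P : Matrix.SpecialLinearGroup (Fin n) F) : Matrix (Fin n) (Fin n) F)) hsemi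
    (H := H.map Pe.toLinearMap) (by rw [LinearEquiv.finrank_map_eq, Module.finrank_fin_fun]; exact hH) hs (by
      rintro _ ⟨v, hv, rfl⟩
      show _ = s • Pe v
      rw [LinearEquiv.coe_coe, key, hxH v hv, map_smul])
  refine hns fun v => Pe.injective ?_
  rw [← key, h, map_smul]

/-- Hyperplane elements of determinant one with scalar square. -/
theorem exists_bad (m : ℕ) (hn : n = m + 2) (hc : (2 : F) = 0 ∨ ∃ s : F, s ^ n = -1) :
    ∃ (x : Matrix.SpecialLinearGroup (Fin n) F) (s z : F) (H : Submodule F (Fin n → F)), s ≠ 0 ∧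
      n ≤ finrank F H + 1 ∧ (∀ v ∈ H, (x : Matrix (Fin n) (Fin n) F).mulVec v = s • v) ∧
      (¬ ∀ v, (x : Matrix (Fin n) (Fin n) F).mulVec v = s • v) ∧
      ((x ^ 2 : Matrix.SpecialLinearGroup (Fin n) F) : Matrix (Fin n) (Fin n) F) = z • (1 : Matrix (Fin n) (Fin n) F) ∧
      ∀ c : F, (x : Matrix (Fin n) (Fin n) F) ≠ c • (1 : Matrix (Fin n) (Fin n) F) := by
  classical
  subst hn
  let H : Submodule F (Fin (m + 2) → F) := LinearMap.ker (LinearMap.proj 0)
  have hH : m + 2 ≤ finrank F H + 1 := by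
    have h1 := LinearMap.finrank_range_add_finrank_ker (LinearMap.proj (R := F) (φ := fun _ : Fin (m + 2) => F) 0)
    have h2 : finrank F (LinearMap.range (LinearMap.proj (R := F) (φ := fun _ : Fin (m + 2) => F) 0)) ≤ 1 :=
      (Submodule.finrank_le _).trans (finrank_self F).le
    rw [Module.finrank_fin_fun] at h1
    show m + 2 ≤ finrank F (LinearMap.ker (LinearMap.proj (R := F) (φ := fun _ : Fin (m + 2) => F) 0)) + 1
    omega
  by_cases h2 : (2 : F) = 0
  · let x : Matrix.SpecialLinearGroup (Fin (m + 2)) F :=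
      ⟨Matrix.transvection 1 0 1, Matrix.det_transvection_of_ne 1 0 (by simp) 1⟩
    have hv : ∀ v, (x : Matrix (Fin (m + 2)) (Fin (m + 2)) F).mulVec v = v + Pi.single 1 (v 0) := fun v => by
      show (Matrix.transvection 1 0 (1 : F)).mulVec v = _
      rw [Matrix.transvection, Matrix.add_mulVec, Matrix.one_mulVec, Matrix.single_mulVec, one_mul]
      rfl
    refine ⟨x, 1, 1, H, one_ne_zero, hH, fun v hv0 => ?_, fun hall => ?_, ?_, fun c hc => ?_⟩
    · rw [hv, show v 0 = 0 from hv0, Pi.single_zero, add_zero, one_smul]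
    · have := congrFun (hall (Pi.single 0 1)) 1
      rw [hv] at this
      simp at this
    · show ((x ^ 2 : Matrix.SpecialLinearGroup (Fin (m + 2)) F) : Matrix (Fin (m + 2)) (Fin (m + 2)) F) = _
      rw [Matrix.SpecialLinearGroup.coe_pow, pow_two, one_smul]
      show Matrix.transvection 1 0 (1 : F) * Matrix.transvection 1 0 1 = 1
      rw [Matrix.transvection_mul_transvection_same (h := by simp), one_add_one_eq_two, h2, Matrix.transvection_zero]
    · have := congrFun (congrFun hc 1) 0
      simp [x, Matrix.transvection] at this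
  · obtain ⟨s, hs⟩ := hc.resolve_left h2
    have hs0 : s ≠ 0 := by rintro rfl; rw [zero_pow (by omega)] at hs; exact one_ne_zero (neg_eq_zero.1 hs.symm)
    let w : Fin (m + 2) → F := fun i => if i = 0 then -s else s
    let x : Matrix.SpecialLinearGroup (Fin (m + 2)) F := ⟨Matrix.diagonal w, by
      rw [Matrix.det_diagonal, Fin.prod_univ_succ]
      simp only [w, if_true, Fin.succ_ne_zero, if_false, Finset.prod_const, Finset.card_univ, Fintype.card_fin]
      rw [neg_mul, ← pow_succ', hs, neg_neg]⟩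
    have hv : ∀ v i, (x : Matrix (Fin (m + 2)) (Fin (m + 2)) F).mulVec v i = w i * v i := fun v i =>
      Matrix.mulVec_diagonal _ _ _
    refine ⟨x, s, s * s, H, hs0, hH, fun v hv0 => funext fun i => ?_, fun hall => ?_, ?_, fun c hc => ?_⟩
    · rw [hv, Pi.smul_apply, smul_eq_mul]
      by_cases hi : i = 0
      · subst hi; rw [show v 0 = 0 from hv0, mul_zero, mul_zero]
      · simp [w, hi]
    · have := congrFun (hall (Pi.single 0 1)) 0
      rw [hv] at this
      simp [w] at this
      exact mul_ne_zero h2 hs0 (by linear_combination -this)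
    · rw [Matrix.SpecialLinearGroup.coe_pow, pow_two]
      show Matrix.diagonal w * Matrix.diagonal w = _
      rw [Matrix.diagonal_mul_diagonal, Matrix.smul_one_eq_diagonal]
      congr 1
      funext i
      simp only [w]
      split_ifs <;> ring
    · have e0 := congrFun (congrFun hc 0) 0
      have e1 := congrFun (congrFun hc 1) 1
      simp [x, w] at e0 e1
      exact mul_ne_zero h2 hs0 (by linear_combination e1 - e0)

end mat

section main

variable {F : Type*} [Field F] [Fintype F]

theorem main {L : Type*} [Field L] [Algebra F L] (hL : finrank F L = 2) {m : ℕ} (hm : 1 ≤ m)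
    (K : Subalgebra F (Matrix (Fin (2 * m)) (Fin (2 * m)) F)) (j : L →ₐ[F] Matrix (Fin (2 * m)) (Fin (2 * m)) F)
    (hjK : ∀ y, y ∈ K ↔ ∃ l, j l = y) :
    (∀ x : Matrix.SpecialLinearGroup (Fin (2 * m)) F,
      (∃ z : F, ((x ^ 2 : Matrix.SpecialLinearGroup (Fin (2 * m)) F) : Matrix (Fin (2 * m)) (Fin (2 * m)) F) = z • (1 : Matrix (Fin (2 * m)) (Fin (2 * m)) F)) →
      (∀ z : F, (x : Matrix (Fin (2 * m)) (Fin (2 * m)) F) ≠ z • (1 : Matrix (Fin (2 * m)) (Fin (2 * m)) F)) →
      ∃ P : Matrix.SpecialLinearGroup (Fin (2 * m)) F, P⁻¹ * x * P ∈ ((Cfsg.Geo.subalgebraNormalizer K).comap (Matrix.SpecialLinearGroup.toGL : Matrix.SpecialLinearGroup (Fin (2 * m)) F →* GL (Fin (2 * m)) F))) ↔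
    (2 * m = 2 ∨ (Odd (Fintype.card F) ∧ padicValNat 2 (Fintype.card F - 1) ≤ padicValNat 2 (2 * m))) := by
  classical
  haveI : FiniteDimensional F L := Module.finite_of_finrank_pos (by omega)
  haveI : Finite L := Module.finite_of_finite F
  letI : Module L (Fin (2 * m) → F) := Module.compHom _ (Matrix.toLinAlgEquiv'.toAlgHom.comp j).toRingHom
  haveI : IsScalarTower F L (Fin (2 * m) → F) := ⟨fun a l v => by
    show (Matrix.toLinAlgEquiv'.toAlgHom.comp j) (a • l) v = a • (Matrix.toLinAlgEquiv'.toAlgHom.comp j) l v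
    rw [map_smul, LinearMap.smul_apply]⟩
  have hj : ∀ (l : L) (v : Fin (2 * m) → F), l • v = (j l).mulVec v := fun l v => Matrix.toLinAlgEquiv'_apply _ _
  have hV : finrank F (Fin (2 * m) → F) = 2 * m := Module.finrank_fin_fun F
  have hodd2 : Odd (Fintype.card F) ↔ (2 : F) ≠ 0 := by
    rw [← Nat.not_even_iff_odd, Nat.even_iff, ← FiniteField.even_card_iff_char_two]
    exact ⟨Ring.two_ne_zero, fun h e => h (by
      haveI := ringChar.of_eq (R := F) e
      exact CharTwo.two_eq_zero)⟩
  constructor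
  · intro hall
    by_contra hc
    rw [not_or, not_and_or] at hc
    obtain ⟨hn2, hc⟩ := hc
    obtain ⟨x, s, z, H, hs, hH, hxH, hns, hx2, hxs⟩ := exists_bad (F := F) (n := 2 * m) (2 * m - 2) (by omega) (by
      rcases hc with hc | hc
      · exact Or.inl (not_not.1 (mt hodd2.2 hc))
      · exact Or.inr (exists_root_neg_one _ (by omega) (not_le.1 hc)))
    obtain ⟨P, hP⟩ := hall x ⟨z, hx2⟩ hxs
    exact not_conj hL (by omega) hj hjK x hH hs hxH hns P hP
  · rintro hc x ⟨z, hz⟩ hns
    set A := Matrix.toLin' (x : Matrix (Fin (2 * m)) (Fin (2 * m)) F) with hA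
    have hAA : ∀ v, A (A v) = z • v := fun v => by
      rw [hA, Matrix.toLin'_apply, Matrix.toLin'_apply, Matrix.mulVec_mulVec, ← Matrix.SpecialLinearGroup.coe_mul,
        ← pow_two, hz, Matrix.smul_mulVec, Matrix.one_mulVec]
    have hA1 : ∀ c : F, A ≠ c • LinearMap.id := fun c e => hns c (Matrix.toLin'.injective (by
      rw [map_smul, Matrix.toLin'_one, ← hA, e]))
    suffices ∃ (e : (Fin (2 * m) → F) ≃ₗ[F] (Fin (2 * m) → F)) (T : Module.End F (Fin (2 * m) → F)),
        LinearMap.det (e : (Fin (2 * m) → F) →ₗ[F] (Fin (2 * m) → F)) = 1 ∧ IsSemi L T ∧ ∀ v, e (A v) = T (e v) by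
      obtain ⟨e, T, he, hT', hce⟩ := this
      exact mem_of_conj hj hjK x e T he hT' hce
    have hz0 : z ≠ 0 := by
      rintro rfl
      have h1 := (x ^ 2).2
      haveI : Nonempty (Fin (2 * m)) := ⟨⟨0, by omega⟩⟩
      rw [hz, zero_smul, Matrix.det_zero] at h1
      exact zero_ne_one h1
    by_cases h2 : (2 : F) = 0
    · have hchar : ringChar F = 2 := by
        by_contra e
        exact Ring.two_ne_zero e h2
      haveI : CharP F 2 := ringChar.of_eq hchar
      have hm : m = 1 := by
        rcases hc with hc | ⟨hc, -⟩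
        · omega
        · exact absurd h2 (hodd2.1 hc)
      obtain ⟨s, rfl⟩ := FiniteField.isSquare_of_char_two hchar z
      have hs : s ≠ 0 := fun e => hz0 (by rw [e, mul_zero])
      let N : Module.End F (Fin (2 * m) → F) := s⁻¹ • A - LinearMap.id
      have hN : ∀ v, N (N v) = 0 := fun v => by
        have e : N (N v) = v + v - (s⁻¹ • A v + s⁻¹ • A v) := by
          simp only [N, LinearMap.sub_apply, LinearMap.smul_apply, LinearMap.id_apply, map_sub, map_smul, hAA,
            smul_smul, smul_sub]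
          rw [show s⁻¹ * (s⁻¹ * (s * s)) = (1 : F) by field_simp, one_smul]
          abel
        rw [e, ← two_smul F v, ← two_smul F (s⁻¹ • A v), h2, zero_smul, zero_smul, sub_zero]
      have hN0 : N ≠ 0 := fun e => hA1 s (by
        rw [← sub_eq_zero.1 e, smul_smul, mul_inv_cancel₀ hs, one_smul])
      obtain ⟨e, T, he, hT', hce⟩ := conj_char_two (L := L) hL hV hN hN0 (Or.inr hm)
      refine ⟨e, s • T, he, hT'.smul s, fun v => ?_⟩
      rw [LinearMap.smul_apply, ← hce, ← map_smul]
      congr 1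
      simp [N, smul_smul, hs]
    · have hodd := hodd2.2 h2
      by_cases hsq : IsSquare z
      · obtain ⟨s, rfl⟩ := hsq
        have hs : s ≠ 0 := fun e => hz0 (by rw [e, mul_zero])
        have hdet : LinearMap.det A = 1 := toLin'_det x
        have hEE := exists_eigen h2 hs hAA
        set Ea := LinearMap.ker (A - s • LinearMap.id) with hEa
        set Eb := LinearMap.ker (A + s • LinearMap.id) with hEb
        obtain ⟨Ψ, hΨ⟩ := hEE
        have hsum : finrank F Ea + finrank F Eb = 2 * m := by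
          rw [← Module.finrank_prod, ← Ψ.finrank_eq, hV]
        have ha0 : finrank F Ea ≠ 0 := fun e => hA1 (-s) (LinearMap.ext fun v => by
          have : Eb = ⊤ := Submodule.eq_top_of_finrank_eq (by rw [hV]; omega)
          have hv : v ∈ Eb := this ▸ Submodule.mem_top
          simpa [hEb, add_eq_zero_iff_eq_neg] using hv)
        have hb0 : finrank F Eb ≠ 0 := fun e => hA1 s (LinearMap.ext fun v => by
          have : Ea = ⊤ := Submodule.eq_top_of_finrank_eq (by rw [hV]; omega)
          have hv : v ∈ Ea := this ▸ Submodule.mem_top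
          simpa [hEa, sub_eq_zero] using hv)
        by_cases hab : finrank F Ea = finrank F Eb
        · exact conj_half hL hodd hV (by omega) Ψ hΨ (by omega) (by omega)
        · have hev : Even (finrank F Eb) := by
            rw [← Nat.not_odd_iff_even]
            intro ho
            have hc' := (hc.resolve_left fun e => hab (by omega)).2
            refine no_root_neg_one h2 (2 * m) hc' s ?_
            have h1 : LinearMap.det A = LinearMap.det (diag s Ea Eb) := by
              rw [← LinearMap.det_conj A Ψ]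
              congr 1
              refine LinearMap.ext fun w => ?_
              simp [hΨ]
            rw [hdet, diag_det, hsum, Odd.neg_one_pow ho, mul_neg_one] at h1
            rw [h1, neg_neg]
          obtain ⟨b, hb⟩ := hev
          exact conj_even hL hV Ψ hΨ (a := m - b) (b := b) (by omega) (by omega) (by omega)
      · exact conj_nonsquare hL hodd hV (by omega) hsq hAA

end main


/-- Involutions of PSL_n(q) and extension-field subgroups of degree 2. Here `T = PSL_n(F)` for a field `F` with `q = p^f` elements (`n ≥ 2`, `(n, q) ≠ (2, 2), (2, 3)`), `k` is a prime dividing `n`, `K` is a subalgebra of the `n × n` matrices that is a field of degree `k` over `F` (an extension-field structure F_{q^k} on `F^n`), and `H` is the subgroup of matrices of determinant 1 normalizing `K` — a subgroup of type GL_{n/k}(q^k) (maximal except in some small cases; maximality is not assumed); Ω is the set of cosets of `H` in `T`, so an element of `T` of prime order `r` (a matrix `x` of determinant 1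 with `x^r` scalar, `x` not scalar) fixes a point of Ω when some conjugate of `x` by a matrix of determinant 1 normalizes `K`. Take `k = 2` and suppose the index of `H` is even. Then every involution of `T` is conjugate in `T` into `H` if and only if `n = 2`, or `q` is odd and `(q − 1)_2 ≤ (n)_2`. -/
theorem result {F : Type*} [Field F] [Fintype F] {p : ℕ} [Fact p.Prime] [CharP F p] {q : ℕ} (hq : Fintype.card F = q)
    (n : ℕ) (hn : 2 ≤ n) (hT : (n, q) ≠ (2, 2) ∧ (n, q) ≠ (2, 3))
    (k : ℕ) (hk : k.Prime) (hkn : k ∣ n) (K : Subalgebra F (Matrix (Fin n) (Fin n) F)) (hK : Cfsg.Geo.IsFieldSubalgebra k K) (hk2 : k = 2) (hΩ : 2 ∣ ((Cfsg.Geo.subalgebraNormalizer K).comap (Matrix.SpecialLinearGroup.toGL : Matrix.SpecialLinearGroup (Fin n) F →* GL (Fin n) F)).index) :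
    (∀ x : Matrix.SpecialLinearGroup (Fin n) F,
      (∃ z : F, ((x ^ 2 : Matrix.SpecialLinearGroup (Fin n) F) : Matrix (Fin n) (Fin n) F) = z • (1 : Matrix (Fin n) (Fin n) F)) →
      (∀ z : F, (x : Matrix (Fin n) (Fin n) F) ≠ z • (1 : Matrix (Fin n) (Fin n) F)) →
      ∃ P : Matrix.SpecialLinearGroup (Fin n) F, P⁻¹ * x * P ∈ ((Cfsg.Geo.subalgebraNormalizer K).comap (Matrix.SpecialLinearGroup.toGL : Matrix.SpecialLinearGroup (Fin n) F →* GL (Fin n) F))) ↔
    (n = 2 ∨ (Odd q ∧ padicValNat 2 (q - 1) ≤ padicValNat 2 n)) := by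
  classical
  subst hk2 hq
  obtain ⟨m, rfl⟩ := hkn
  haveI : Nontrivial K := Module.nontrivial_of_finrank_pos (R := F) (hK.finrank_eq.symm ▸ two_pos)
  letI : Field K := IsField.toField
    { exists_pair_ne := exists_pair_ne K
      mul_comm := fun a b => Subtype.ext (hK.comm _ a.2 _ b.2)
      mul_inv_cancel := fun {a} ha => by
        obtain ⟨y, hy, h⟩ := hK.inv a.1 a.2 fun h => ha (Subtype.ext h)
        exact ⟨⟨y, hy⟩, Subtype.ext h⟩ }
  exact main hK.finrank_eq (by omega) K K.val fun y => ⟨fun h => ⟨⟨y, h⟩, rfl⟩, fun ⟨l, hl⟩ => hl ▸ l.2⟩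

end Cfsg.Agent.S5969
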