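import Cfsg.Statements.S5970
import Cfsg.Agent.Classical.Elusive.Singer

set_option autoImplicit false

open Cfsg.Agent

namespace Cfsg.Agent.S5970

/-- Elements of order `n` of PSL_n(q), `n` prime, and the normalizer of a Singer cycle. Here `T = PSL_n(F)` for a field `F` with `q = p^f` elements (`n ≥ 2`, `(n, q) ≠ (2, 2), (2, 3)`), `k` is a prime dividing `n`, `K` is a subalgebra of the `n × n` matrices that is a field of degree `k` over `F` (an extension-field structure F_{q^k} on `F^n`), and `H` is the subgroup of matrices of determinant 1 normalizing `K` — a subgroup of type GL_{n/k}(q^k) (maximal except in some small cases; maximality is not assumed); Ω is the set of cosets of `H` in `T`, so an element of `T` of prime order `r` (a matrix `x` of determinant 1 with `x^r` scalar, `x` not scalar) fixes a point of Ω when some conjugate of `x` by a matrix of determinant 1 normalizes `K`. Take `k = n > 3` prime with `n ≠ p` (so `H` is the normalizer of a Singer cycle), and suppose `n` divides the index of `H`. Then every element of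 `T` of order `n` is conjugate in `T` into `H` if and only if the multiplicative order of `q` modulo `n` is `n − 1`. -/
theorem result {F : Type*} [Field F] [Fintype F] {p : ℕ} [Fact p.Prime] [CharP F p] {q : ℕ} (hq : Fintype.card F = q)
    (n : ℕ) (hn : 2 ≤ n) (hT : (n, q) ≠ (2, 2) ∧ (n, q) ≠ (2, 3))
    (k : ℕ) (hk : k.Prime) (hkn : k ∣ n) (K : Subalgebra F (Matrix (Fin n) (Fin n) F)) (hK : Cfsg.Geo.IsFieldSubalgebra k K) (hkn' : k = n) (hn3 : 3 < n) (hnp : n ≠ p) (hΩ : n ∣ ((Cfsg.Geo.subalgebraNormalizer K).comap (Matrix.SpecialLinearGroup.toGL : Matrix.SpecialLinearGroup (Fin n) F →* GL (Fin n) F)).index) :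
    (∀ x : Matrix.SpecialLinearGroup (Fin n) F,
      (∃ z : F, ((x ^ n : Matrix.SpecialLinearGroup (Fin n) F) : Matrix (Fin n) (Fin n) F) = z • (1 : Matrix (Fin n) (Fin n) F)) →
      (∀ z : F, (x : Matrix (Fin n) (Fin n) F) ≠ z • (1 : Matrix (Fin n) (Fin n) F)) →
      ∃ P : Matrix.SpecialLinearGroup (Fin n) F, P⁻¹ * x * P ∈ ((Cfsg.Geo.subalgebraNormalizer K).comap (Matrix.SpecialLinearGroup.toGL : Matrix.SpecialLinearGroup (Fin n) F →* GL (Fin n) F))) ↔
    orderOf (q : ZMod n) = n - 1 := by
  classical
  haveI : Fact n.Prime := ⟨hkn' ▸ hk⟩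
  have hK' : Cfsg.Geo.IsFieldSubalgebra n K := hkn' ▸ hK
  subst hq
  have hnp' := (Fact.out : n.Prime)
  have hr : (n : F) ≠ 0 := fun h => hnp ((Nat.prime_dvd_prime_iff_eq (Fact.out : p.Prime) hnp').1
    ((CharP.cast_eq_zero_iff F p n).1 h)).symm
  set i := orderOf (Fintype.card F : ZMod n) with hidef
  have hi0 : 0 < i := Classical.Elusive.order_pos_of_cast hr
  have hidvd : i ∣ n - 1 := by
    refine ZMod.orderOf_dvd_card_sub_one fun h0 => ?_
    rw [hidef, h0, orderOf_zero] at hi0
    exact lt_irrefl 0 hi0
  constructor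
  · intro H
    by_contra hne
    have hbad : ∃ (x : Matrix.SpecialLinearGroup (Fin n) F) (c z : F),
        ((x ^ n : Matrix.SpecialLinearGroup (Fin n) F) : Matrix (Fin n) (Fin n) F) = z • 1 ∧
        (∀ b : F, (x : Matrix (Fin n) (Fin n) F) ≠ b • 1) ∧
        2 ≤ Module.finrank F (Module.End.eigenspace (Matrix.toLin' (x : Matrix (Fin n) (Fin n) F)) c) ∧
        ¬ ∀ v, (x : Matrix (Fin n) (Fin n) F).mulVec v = c • v := by
      by_cases h1 : i = 1
      · have hdvd : n ∣ Nat.card Fˣ := by
          rw [Nat.card_eq_fintype_card, Fintype.card_units]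
          have h2 := (LargeSylow.dvd_sub_iff (r := n) (q := Fintype.card F) Fintype.card_pos 1).2
            (by rw [← hidef, h1])
          rwa [pow_one] at h2
        obtain ⟨u, hu⟩ := LargeSylow.exists_orderOf (H := Fˣ) hdvd
        have hu1 : (u : F) ≠ 1 := fun h => by
          rw [Units.val_eq_one] at h
          rw [h, orderOf_one] at hu
          omega
        have hun : (u : F) ^ n = 1 := by
          rw [← Units.val_pow_eq_pow_val, ← hu, pow_orderOf_eq_one, Units.val_one]
        let i0 : Fin n := ⟨0, by omega⟩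
        let i1 : Fin n := ⟨1, by omega⟩
        set w : Fin n → F := fun l => if l = i0 then (u : F) else if l = i1 then (u : F)⁻¹ else 1 with hw
        have h01 : i1 ≠ i0 := by simp [i0, i1]
        have hprod : ∏ l, w l = 1 := by
          rw [← Finset.mul_prod_erase _ _ (Finset.mem_univ i0),
            ← Finset.mul_prod_erase _ _ (Finset.mem_erase.2 ⟨h01, Finset.mem_univ i1⟩),
            Finset.prod_eq_one fun l hl => ?_]
          · simp [hw, h01, u.ne_zero]
          · obtain ⟨hl1, hl'⟩ := Finset.mem_erase.1 hl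
            simp [hw, hl1, (Finset.mem_erase.1 hl').1]
        have hwn : ∀ l, w l ^ n = 1 := fun l => by
          simp only [hw]
          split_ifs <;> simp [hun]
        obtain ⟨x, hx, hns, he, hnot⟩ := Classical.Elusive.exists_diag w (r := n) (c := 1) (z := 1) hprod hwn
          (i := ⟨2, by omega⟩) (j := ⟨3, by omega⟩) (by simp) (by simp [hw, i0, i1]) (by simp [hw, i0, i1])
          (k := i0) (by simp [hw, hu1])
        exact ⟨x, 1, 1, hx, hns, he, hnot⟩
      · have hin : i ≤ n - 1 := Nat.le_of_dvd (by omega) hidvd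
        obtain ⟨x, hx, heig, hns⟩ := Classical.Elusive.exists_block (n := n) hr h1 le_rfl
          (by rw [← hidef, mul_one]; omega)
        rw [← hidef, mul_one] at heig
        refine ⟨x, 1, 1, hx, hns, ?_, fun hall => hns 1 ?_⟩
        · rw [heig]
          omega
        · refine Matrix.toLin'.injective (LinearMap.ext fun v => ?_)
          rw [Matrix.toLin'_apply, hall v, one_smul, one_smul, Matrix.toLin'_one, LinearMap.id_apply]
    obtain ⟨x, c, z, hx, hns, he, hnot⟩ := hbad
    obtain ⟨P, hP⟩ := H x ⟨z, hx⟩ hns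
    rcases Classical.Elusive.not_conj_of_eigen hK' x P hP c with h | h
    · omega
    · exact hnot h
  · rintro hi x ⟨z, hx⟩ hns
    have hz := Classical.Elusive.scalar_ne_zero (by omega) x hx
    have hpow := Classical.Elusive.toLin'_pow_smul x hx
    have hi1 : i ≠ 1 := by omega
    have hco : Nat.gcd n (Fintype.card F - 1) = 1 := by
      rw [← Nat.coprime_iff_gcd_eq_one, hnp'.coprime_iff_not_dvd]
      intro hd
      rw [← pow_one (Fintype.card F), LargeSylow.dvd_sub_iff Fintype.card_pos, ← hidef, Nat.dvd_one] at hd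
      exact hi1 hd
    have hz1 : z = 1 := by
      have h1 : ((x ^ n : Matrix.SpecialLinearGroup (Fin n) F) : Matrix (Fin n) (Fin n) F).det = 1 := (x ^ n).2
      rw [hx, Matrix.det_smul, Matrix.det_one, mul_one, Fintype.card_fin] at h1
      have h2 := pow_gcd_eq_one.2 ⟨h1, FiniteField.pow_card_sub_one_eq_one z hz⟩
      rwa [hco, pow_one] at h2
    subst hz1
    rw [one_smul] at hpow
    refine Classical.Elusive.conj_into_normalizer (by omega) hr (Or.inl hi) hK' x ?_ hpow
    refine Classical.Elusive.charpoly_of_no_repeat hr hpow fun ι _ s hs hirr hdvd Φ hΦ a b hab => ?_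
    by_contra hne
    have hsum : ∑ l, (s l).natDegree = n := by
      rw [← Classical.Elusive.finrank_eq_sum Φ hs, Module.finrank_fin_fun]
    have hdeg : ∀ l, s l ≠ Polynomial.X - Polynomial.C 1 → (s l).natDegree = n - 1 := fun l hl => by
      rw [← hi]
      exact Classical.Elusive.natDegree_factor (hs l) (hirr l) one_ne_zero (by rw [one_pow]; exact hdvd l) hl
    obtain ⟨l, hl⟩ : ∃ l, s l ≠ Polynomial.X - Polynomial.C 1 := by
      by_contra hall
      simp only [not_exists, not_not] at hall
      refine hns 1 (Matrix.toLin'.injective (LinearMap.ext fun v => ?_))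
      have hv : v ∈ Classical.Elusive.piece Φ Finset.univ := fun j hj => absurd (Finset.mem_univ j) hj
      have h1 := Module.End.mem_eigenspace_iff.1
        (Classical.Elusive.piece_le_eigenspace hΦ (c := (1 : F)) (fun j _ => hall j) hv)
      rw [h1, one_smul, one_smul, Matrix.toLin'_one, LinearMap.id_apply]
    have h1 : ∀ T : Finset ι, ∑ j ∈ T, (s j).natDegree ≤ n := fun T =>
      le_of_le_of_eq (Finset.sum_le_sum_of_subset (Finset.subset_univ T)) hsum
    by_cases hsa : s a = Polynomial.X - Polynomial.C 1
    · have hla : l ≠ a := fun h => hl (h ▸ hsa)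
      have hlb : l ≠ b := fun h => hl (h ▸ hab ▸ hsa)
      have h2 := h1 {l, a, b}
      rw [Finset.sum_insert (by simp [hla, hlb]), Finset.sum_pair hne, hdeg l hl, ← hab, hsa,
        Polynomial.natDegree_X_sub_C] at h2
      omega
    · have h2 := h1 {a, b}
      rw [Finset.sum_pair hne, ← hab, hdeg a hsa] at h2
      omega

end Cfsg.Agent.S5970
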