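import Cfsg.Statements.S5971
import Cfsg.Agent.Classical.Elusive.Singer

set_option autoImplicit false

open Cfsg.Agent

namespace Cfsg.Agent.S5971

/-- Elements of order 3 of PSL_3(q) and the normalizer of a Singer cycle. Here `T = PSL_n(F)` for a field `F` with `q = p^f` elements (`n ≥ 2`, `(n, q) ≠ (2, 2), (2, 3)`), `k` is a prime dividing `n`, `K` is a subalgebra of the `n × n` matrices that is a field of degree `k` over `F` (an extension-field structure F_{q^k} on `F^n`), and `H` is the subgroup of matrices of determinant 1 normalizing `K` — a subgroup of type GL_{n/k}(q^k) (maximal except in some small cases; maximality is not assumed); Ω is the set of cosets of `H` in `T`, so an element of `T` of prime order `r` (a matrix `x` of determinant 1 with `x^r` scalar, `x` not scalar) fixes a point of Ω when some conjugate of `x` by a matrix of determinant 1 normalizes `K`. Take `n = k = 3` and suppose 3 divides the index of `H`. Then every element of `T` of order 3 is conjugate in `T` into `H` if and only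 if `q ≡ 4, 7` or `8 (mod 9)`. -/
theorem result {F : Type*} [Field F] [Fintype F] {p : ℕ} [Fact p.Prime] [CharP F p] {q : ℕ} (hq : Fintype.card F = q)
    (n : ℕ) (hn : n = 3) (k : ℕ) (hk : k.Prime) (hkn : k ∣ n) (K : Subalgebra F (Matrix (Fin n) (Fin n) F)) (hK : Cfsg.Geo.IsFieldSubalgebra k K) (hk3 : k = 3) (hΩ : 3 ∣ ((Cfsg.Geo.subalgebraNormalizer K).comap (Matrix.SpecialLinearGroup.toGL : Matrix.SpecialLinearGroup (Fin n) F →* GL (Fin n) F)).index) :
    (∀ x : Matrix.SpecialLinearGroup (Fin n) F,
      (∃ z : F, ((x ^ 3 : Matrix.SpecialLinearGroup (Fin n) F) : Matrix (Fin n) (Fin n) F) = z • (1 : Matrix (Fin n) (Fin n) F)) →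
      (∀ z : F, (x : Matrix (Fin n) (Fin n) F) ≠ z • (1 : Matrix (Fin n) (Fin n) F)) →
      ∃ P : Matrix.SpecialLinearGroup (Fin n) F, P⁻¹ * x * P ∈ ((Cfsg.Geo.subalgebraNormalizer K).comap (Matrix.SpecialLinearGroup.toGL : Matrix.SpecialLinearGroup (Fin n) F →* GL (Fin n) F))) ↔
    (q % 9 = 4 ∨ q % 9 = 7 ∨ q % 9 = 8) := by
  classical
  subst hn
  have hK' : Cfsg.Geo.IsFieldSubalgebra 3 K := hk3 ▸ hK
  haveI : Fact (Nat.Prime 3) := ⟨Nat.prime_three⟩
  subst hq
  set q := Fintype.card F with hqdef
  by_cases hp3 : p = 3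
  · subst hp3
    obtain ⟨e, -, he⟩ := FiniteField.card F 3
    have hq3 : q % 3 = 0 := by rw [hqdef, he, Nat.pow_mod, Nat.mod_self, zero_pow e.ne_zero, Nat.zero_mod]
    refine iff_of_false ?_ (by omega)
    intro H
    let M : Matrix (Fin 3) (Fin 3) F := Matrix.transvection 0 1 1
    have hdet : M.det = 1 := Matrix.det_transvection_of_ne 0 1 (by decide) 1
    obtain ⟨x, hxM⟩ : ∃ x : Matrix.SpecialLinearGroup (Fin 3) F, (x : Matrix (Fin 3) (Fin 3) F) = M :=
      ⟨⟨M, hdet⟩, rfl⟩
    have hM : ∀ v i, M.mulVec v i = v i + if i = 0 then v 1 else 0 := fun v i => by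
      fin_cases i <;>
        simp [M, Matrix.transvection, Matrix.add_mulVec, Matrix.mulVec, dotProduct, Fin.sum_univ_three, Matrix.single_apply, Matrix.one_apply]
    obtain ⟨P, hP⟩ := H x ⟨1, by
        rw [Matrix.SpecialLinearGroup.coe_pow, hxM, one_smul]
        show Matrix.transvection (0 : Fin 3) 1 (1 : F) ^ 3 = 1
        have h30 : (1 : F) + 1 + 1 = 0 := by
          have := CharP.cast_eq_zero F 3
          push_cast at this
          rw [← this]
          norm_num
        rw [pow_succ, pow_succ, pow_one, Matrix.transvection_mul_transvection_same _ _ (by decide),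
          Matrix.transvection_mul_transvection_same _ _ (by decide), h30, Matrix.transvection_zero]⟩ (by
        intro z hz
        have h1 := congrFun (congrFun hz 0) 1
        rw [hxM] at h1
        simp [M, Matrix.transvection] at h1)
    rcases Classical.Elusive.not_conj_of_eigen hK' x P hP 1 with h | h
    · have hle : Submodule.span F (Set.range ![(Pi.single 0 1 : Fin 3 → F), Pi.single 2 1]) ≤
          Module.End.eigenspace (Matrix.toLin' (x : Matrix (Fin 3) (Fin 3) F)) 1 := by
        refine Submodule.span_le.2 ?_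
        rintro _ ⟨l, rfl⟩
        rw [SetLike.mem_coe, Module.End.mem_eigenspace_iff, Matrix.toLin'_apply, one_smul, hxM]
        funext i
        rw [hM]
        fin_cases l <;> fin_cases i <;> simp
      have hli : LinearIndependent F ![(Pi.single 0 1 : Fin 3 → F), Pi.single 2 1] := by
        rw [LinearIndependent.pair_iff]
        intro s t hst
        have h1 := congrFun hst 0
        have h2 := congrFun hst 2
        simp at h1 h2
        exact ⟨h1, h2⟩
      have := (Submodule.finrank_mono hle).trans h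
      rw [finrank_span_eq_card hli, Fintype.card_fin] at this
      omega
    · have h1 := congrFun (h (Pi.single 1 1)) 0
      rw [hxM, hM] at h1
      simp at h1
  have hr : ((3 : ℕ) : F) ≠ 0 := fun h => hp3 ((Nat.prime_dvd_prime_iff_eq (Fact.out : p.Prime) Nat.prime_three).1
    ((CharP.cast_eq_zero_iff F p 3).1 h))
  have hq3 : q % 3 ≠ 0 := fun h => by
    obtain ⟨e, he', he⟩ := FiniteField.card F p
    have h3 : 3 ∣ p ^ (e : ℕ) := by rw [← he]; exact Nat.dvd_of_mod_eq_zero h
    exact hp3 ((Nat.prime_dvd_prime_iff_eq Nat.prime_three he').1 (Nat.prime_three.dvd_of_dvd_pow h3)).symm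
  set i := orderOf (q : ZMod 3) with hidef
  have hi0 : 0 < i := Classical.Elusive.order_pos_of_cast hr
  have hi2 : i ∣ 2 := by
    have := ZMod.orderOf_dvd_card_sub_one (p := 3) (a := (q : ZMod 3)) fun h0 =>
      hq3 (Nat.mod_eq_zero_of_dvd ((ZMod.natCast_eq_zero_iff _ _).1 h0))
    simpa using this
  have hile : i ≤ 2 := Nat.le_of_dvd two_pos hi2
  have hi1 : i = 1 ↔ q % 3 = 1 := by
    rw [hidef, orderOf_eq_one_iff, show (1 : ZMod 3) = ((1 : ℕ) : ZMod 3) from Nat.cast_one.symm,
      ZMod.natCast_eq_natCast_iff']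
  by_cases h9 : q % 9 = 1
  · refine iff_of_false ?_ (by omega)
    intro H
    have hN : 9 ∣ Nat.card Fˣ := by
      rw [Nat.card_eq_fintype_card, Fintype.card_units, ← hqdef]
      omega
    obtain ⟨u, hu⟩ := LargeSylow.exists_orderOf (H := Fˣ) hN
    have hu9 : u ^ 9 = 1 := hu ▸ pow_orderOf_eq_one u
    set a : F := (u : F) ^ 2 with hadef
    set ζ : F := (u : F) ^ 3 with hζdef
    have hζ : ζ ≠ 1 := by
      intro h
      have h3 : u ^ 3 = 1 := Units.ext (by rw [Units.val_pow_eq_pow_val]; exact h)
      have := orderOf_dvd_of_pow_eq_one h3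
      rw [hu] at this
      omega
    have hu9' : (u : F) ^ 9 = 1 := by rw [← Units.val_pow_eq_pow_val, hu9, Units.val_one]
    have ha0 : a ≠ 0 := pow_ne_zero 2 u.ne_zero
    obtain ⟨x, hx, hns, he, hnot⟩ := Classical.Elusive.exists_diag ![a * ζ, a, a] (r := 3) (c := a)
      (z := a ^ 3) (by
        rw [Fin.prod_univ_three]
        simp [hadef, hζdef]
        rw [← hu9']
        ring) (by
        intro l
        fin_cases l
        · show (a * ζ) ^ 3 = a ^ 3
          rw [mul_pow, hζdef, ← pow_mul (u : F) 3 3]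
          norm_num [hu9']
        · rfl
        · rfl) (i := 1) (j := 2) (by decide) rfl rfl (k := 0) (fun h => hζ (mul_eq_left₀ ha0 |>.1 h))
    obtain ⟨P, hP⟩ := H x ⟨_, hx⟩ hns
    rcases Classical.Elusive.not_conj_of_eigen hK' x P hP a with h | h
    · exact absurd (he.trans h) (by norm_num)
    · exact hnot h
  have hRHS : q % 3 = 2 → q % 9 = 8 := by
    intro h2
    obtain ⟨γ, hγ, hγn, hγ1⟩ := Classical.Elusive.exists_normalizer_elem Nat.prime_three hK'
    set H := (Cfsg.Geo.subalgebraNormalizer K).comap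
      (Matrix.SpecialLinearGroup.toGL : Matrix.SpecialLinearGroup (Fin 3) F →* GL (Fin 3) F) with hH
    have hgdet : (γ : Matrix (Fin 3) (Fin 3) F).det = 1 := by
      have h3 : (γ : Matrix (Fin 3) (Fin 3) F).det ^ 3 = 1 := by
        rw [← Matrix.det_pow, ← Units.val_pow_eq_pow_val, hγn, Units.val_one, Matrix.det_one]
      have h0 : (γ : Matrix (Fin 3) (Fin 3) F).det ≠ 0 := ((Matrix.isUnit_iff_isUnit_det _).1 γ.isUnit).ne_zero
      have hco : Nat.gcd 3 (q - 1) = 1 := by
        rw [← Nat.coprime_iff_gcd_eq_one, Nat.prime_three.coprime_iff_not_dvd]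
        omega
      have h4 := pow_gcd_eq_one.2 ⟨h3, FiniteField.pow_card_sub_one_eq_one _ h0⟩
      rwa [hco, pow_one] at h4
    set g : Matrix.SpecialLinearGroup (Fin 3) F := ⟨γ, hgdet⟩ with hg
    have hgH : g ∈ H := by
      have : Matrix.SpecialLinearGroup.toGL g = γ := Units.ext rfl
      rw [hH, Subgroup.mem_comap, this]
      exact hγ
    have hgo : orderOf (⟨g, hgH⟩ : H) = 3 := by
      refine orderOf_eq_prime (Subtype.ext (Subtype.ext ?_)) fun h1 => ?_
      · show ((g ^ 3 : Matrix.SpecialLinearGroup (Fin 3) F) : Matrix (Fin 3) (Fin 3) F) = _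
        rw [Matrix.SpecialLinearGroup.coe_pow]
        show (γ : Matrix (Fin 3) (Fin 3) F) ^ 3 = 1
        rw [← Units.val_pow_eq_pow_val, hγn, Units.val_one]
      · have hγ1' : (γ : Matrix (Fin 3) (Fin 3) F) = 1 :=
          congrArg (fun w : H => ((w : Matrix.SpecialLinearGroup (Fin 3) F) : Matrix (Fin 3) (Fin 3) F)) h1
        rw [hγ1', Matrix.toLin'_one] at hγ1
        have htop : Module.End.eigenspace (LinearMap.id : Module.End F (Fin 3 → F)) 1 = ⊤ :=
          eq_top_iff.2 fun v _ => Module.End.mem_eigenspace_iff.2 (by simp)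
        rw [htop, finrank_top, Module.finrank_fin_fun] at hγ1
        omega
    have h3H : 3 ∣ Nat.card H := by
      have := orderOf_dvd_natCard (⟨g, hgH⟩ : H)
      rwa [hgo] at this
    have h9G : 3 * 3 ∣ Nat.card (Matrix.SpecialLinearGroup (Fin 3) F) := by
      rw [← H.card_mul_index]
      exact Nat.mul_dvd_mul h3H hΩ
    have h9GL : 3 * 3 ∣ Nat.card (GL (Fin 3) F) :=
      h9G.trans (Subgroup.card_dvd_of_injective Matrix.SpecialLinearGroup.toGL
        Matrix.SpecialLinearGroup.toGL_injective)
    rw [Matrix.card_GL_field, ← hqdef, Fin.prod_univ_three] at h9GL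
    simp only [Fin.val_zero, Fin.val_one, Fin.val_two, pow_zero, pow_one] at h9GL
    have hmod : q % 9 = 2 ∨ q % 9 = 5 ∨ q % 9 = 8 := by omega
    have h1q : 1 ≤ q ^ 3 := Nat.one_le_pow _ _ Fintype.card_pos
    have h2q : q ≤ q ^ 3 := Nat.le_self_pow (by norm_num) q
    have h3q : q ^ 2 ≤ q ^ 3 := Nat.pow_le_pow_right Fintype.card_pos (by norm_num)
    have hz : ((((q ^ 3 - 1) * (q ^ 3 - q) * (q ^ 3 - q ^ 2) : ℕ)) : ZMod 9) = 0 :=
      (ZMod.natCast_eq_zero_iff _ _).2 h9GL
    push_cast [Nat.cast_sub h1q, Nat.cast_sub h2q, Nat.cast_sub h3q] at hz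
    rw [← ZMod.natCast_mod q 9] at hz
    rcases hmod with h | h | h
    · exfalso; rw [h] at hz; revert hz; decide
    · exfalso; rw [h] at hz; revert hz; decide
    · exact h
  refine iff_of_true (fun x hx hns => ?_) (by omega)
  obtain ⟨z, hx⟩ := hx
  have hz := Classical.Elusive.scalar_ne_zero (by norm_num) x hx
  have hpow := Classical.Elusive.toLin'_pow_smul x hx
  have hz3 : z ^ 3 = 1 := by
    have h1 : ((x ^ 3 : Matrix.SpecialLinearGroup (Fin 3) F) : Matrix (Fin 3) (Fin 3) F).det = 1 := (x ^ 3).2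
    rwa [hx, Matrix.det_smul, Matrix.det_one, mul_one, Fintype.card_fin] at h1
  have hz1 : z = 1 := by
    by_cases hd : ∃ d : F, d ^ 3 = z
    · obtain ⟨d, rfl⟩ := hd
      have hd0 : d ≠ 0 := fun h0 => hz (by rw [h0]; simp)
      have hd9 : d ^ 9 = 1 := by rw [← hz3]; ring
      have hg : Nat.gcd 9 (q - 1) ∣ 3 := by
        obtain ⟨j, hj, hje⟩ := (Nat.dvd_prime_pow Nat.prime_three).1
          (show Nat.gcd 9 (q - 1) ∣ 3 ^ 2 from Nat.gcd_dvd_left 9 (q - 1))
        interval_cases j
        · rw [hje]; norm_num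
        · rw [hje]; norm_num
        · exfalso
          have := Nat.gcd_dvd_right 9 (q - 1)
          rw [hje] at this
          omega
      have h4 := pow_gcd_eq_one.2 ⟨hd9, FiniteField.pow_card_sub_one_eq_one d hd0⟩
      obtain ⟨w, hw⟩ := hg
      rw [hw, pow_mul, h4, one_pow]
    · simp only [not_exists] at hd
      obtain ⟨ι, _, s, hs, hirr, hdvd, Φ, hΦ⟩ := Classical.Elusive.exists_split hr hz hpow
      have hs_eq : ∀ l, s l = Polynomial.X ^ 3 - Polynomial.C z := fun l =>
        Classical.Elusive.factor_eq hd (hs l) (hirr l) (hdvd l)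
      have hcard : Fintype.card ι = 1 := by
        have h1 := Classical.Elusive.finrank_eq_sum Φ hs
        rw [Module.finrank_fin_fun, Finset.sum_congr rfl fun l _ => by
          rw [hs_eq l, Polynomial.natDegree_X_pow_sub_C], Finset.sum_const, Finset.card_univ, smul_eq_mul] at h1
        omega
      have hdet := Classical.Elusive.det_eq x hΦ hs
      rw [Finset.prod_congr rfl fun l _ => hs_eq l, Finset.prod_const, Finset.card_univ, hcard, pow_one,
        Polynomial.coeff_sub, Polynomial.coeff_X_pow, Polynomial.coeff_C_zero, if_neg (by norm_num)] at hdet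
      rw [← hdet]
      ring
  subst hz1
  rw [one_smul] at hpow
  have hi' : i = 3 - 1 ∨ i = 1 := by
    interval_cases i
    · exact Or.inr rfl
    · exact Or.inl rfl
  refine Classical.Elusive.conj_into_normalizer le_rfl hr hi' hK' x ?_ hpow
  refine Classical.Elusive.charpoly_of_no_repeat hr hpow fun ι _ s hs hirr hdvd Φ hΦ a b hab => ?_
  by_contra hne
  have hsum : ∑ l, (s l).natDegree = 3 := by
    rw [← Classical.Elusive.finrank_eq_sum Φ hs, Module.finrank_fin_fun]
  have hscal : ∀ d : F, (∀ j, s j = Polynomial.X - Polynomial.C d) → False := fun d hall =>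
    hns d (Matrix.toLin'.injective (LinearMap.ext fun v => by
      have hv : v ∈ Classical.Elusive.piece Φ Finset.univ := fun j hj => absurd (Finset.mem_univ j) hj
      rw [Module.End.mem_eigenspace_iff.1 (Classical.Elusive.piece_le_eigenspace hΦ (fun j _ => hall j) hv),
        map_smul, Matrix.toLin'_one, LinearMap.smul_apply, LinearMap.id_apply]))
  have hdeg : ∀ l, (s l).natDegree = 1 ∨ ((s l).natDegree = i ∧ i = 2) := by
    intro l
    by_cases hl : s l = Polynomial.X - Polynomial.C 1
    · exact Or.inl (by rw [hl, Polynomial.natDegree_X_sub_C])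
    · have h1 : (s l).natDegree = i :=
        Classical.Elusive.natDegree_factor (hs l) (hirr l) one_ne_zero (by rw [one_pow]; exact hdvd l) hl
      rcases hi' with h2 | h2
      · exact Or.inr ⟨h1, h2⟩
      · exact Or.inl (h1.trans h2)
  rcases hdeg a with ha1 | ⟨ha2, hi22⟩
  swap
  · have h2 : ∑ j ∈ ({a, b} : Finset ι), (s j).natDegree ≤ 3 :=
      le_of_le_of_eq (Finset.sum_le_sum_of_subset (Finset.subset_univ _)) hsum
    rw [Finset.sum_pair hne, ← hab, ha2, hi22] at h2
    omega
  obtain ⟨c, hc⟩ : ∃ c : F, s a = Polynomial.X - Polynomial.C c :=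
    ⟨-(s a).coeff 0, by rw [map_neg, sub_neg_eq_add]; exact (hs a).eq_X_add_C ha1⟩
  -- the remaining block
  have hrest : ∑ j ∈ ({a, b} : Finset ι)ᶜ, (s j).natDegree = 1 := by
    have := Finset.sum_compl_add_sum ({a, b} : Finset ι) fun j => (s j).natDegree
    rw [hsum, Finset.sum_pair hne, ← hab, ha1] at this
    omega
  have hcard : (({a, b} : Finset ι)ᶜ).card = 1 := by
    have h1 : ∀ j ∈ ({a, b} : Finset ι)ᶜ, (s j).natDegree = 1 := fun j hj => by
      have h2 := Finset.single_le_sum (f := fun j => (s j).natDegree) (fun j _ => Nat.zero_le _) hj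
      have h3 := (hirr j).natDegree_pos
      omega
    rw [Finset.sum_congr rfl h1, Finset.sum_const, smul_eq_mul, mul_one] at hrest
    exact hrest
  obtain ⟨e, he⟩ := Finset.card_eq_one.1 hcard
  have hee : e ∈ ({a, b} : Finset ι)ᶜ := he ▸ Finset.mem_singleton_self e
  obtain ⟨c', hc'⟩ : ∃ c' : F, s e = Polynomial.X - Polynomial.C c' := by
    have h1 : (s e).natDegree = 1 := by
      rw [he, Finset.sum_singleton] at hrest
      exact hrest
    exact ⟨-(s e).coeff 0, by rw [map_neg, sub_neg_eq_add]; exact (hs e).eq_X_add_C h1⟩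
  have hroot : ∀ (j : ι) (w : F), s j = Polynomial.X - Polynomial.C w → w ^ 3 = 1 := fun j w hw => by
    have h1 := Polynomial.dvd_iff_isRoot.1 (hw ▸ hdvd j)
    rw [Polynomial.IsRoot, Polynomial.eval_sub, Polynomial.eval_pow, Polynomial.eval_X, Polynomial.eval_C,
      sub_eq_zero] at h1
    exact h1
  have hdet := Classical.Elusive.det_eq x hΦ hs
  rw [← Finset.prod_compl_mul_prod ({a, b} : Finset ι), he, Finset.prod_singleton, Finset.prod_pair hne, ← hab,
    hc, hc', Polynomial.coeff_zero_eq_eval_zero] at hdet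
  simp only [Polynomial.eval_mul, Polynomial.eval_sub, Polynomial.eval_X, Polynomial.eval_C] at hdet
  have hccc : c' * c * c = 1 := by rw [← hdet]; ring
  have hc3 := hroot a c hc
  have hcc : c' = c := by
    calc c' = c' * c ^ 3 := by rw [hc3, mul_one]
      _ = c' * c * c * c := by ring
      _ = c := by rw [hccc, one_mul]
  refine hscal c fun j => ?_
  by_cases hj : j ∈ ({a, b} : Finset ι)
  · rcases Finset.mem_insert.1 hj with rfl | hj
    · exact hc
    · rw [Finset.mem_singleton.1 hj, ← hab, hc]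
  · have : j = e := Finset.mem_singleton.1 (he ▸ Finset.mem_compl.2 hj)
    rw [this, hc', hcc]

end Cfsg.Agent.S5971
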