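import Cfsg.Statements.S5972
import Cfsg.Agent.Classical.OrthElem.TSGlue

set_option autoImplicit false
open scoped MatrixGroups
open Cfsg
open Cfsg.Agent

namespace Cfsg.Agent.S5972

/-- Elements of prime order of Ω_n(q), n = 2d+1 ≥ 7, q odd, with no fixed totally singular `m`-space. Here `T = Ω_n(q)` is realised as the commutator subgroup of the isometry group of the quadratic form `x₀² + Σ xᵢyᵢ` over the field `F` with `q` elements (it has trivial centre, so its elements of prime order `r` are used directly); let `1 ≤ m ≤ d` and let `r` be a prime dividing the number of totally singular `m`-spaces. For `r ≠ p` let `i` be the multiplicative order of `q` modulo `r`, `c = i` for `i` even and `c = 2i` for `i` odd, and write `k = n mod c`, `ℓ = m mod i`, `n' = ⌊n/i⌋`, `m' = ⌊m/i⌋`, `t = (r−1)/i`. Then every element of `T` of order `r` fixes some totally singular `m`-space if and only if either (i) `r = 2` and (`m < (n−1)/2` or `q ≡ 1 (mod 4)`); or (ii)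 `r ≠ p` is odd, `i ≤ m`, `k > 2ℓ`, and (`i` is odd or `n' − 2m' ≥ t`). -/
theorem result {F : Type*} [Field F] [Fintype F] {p : ℕ} [Fact p.Prime] [CharP F p] {q : ℕ} (hq : Fintype.card F = q) (hqodd : Odd q)
    (d m : ℕ) (hd : 3 ≤ d) (hm : 1 ≤ m) (hmd : m ≤ d)
    (r : ℕ) [Fact r.Prime]
    (hrΩ : r ∣ Nat.card {W : Submodule F (Unit ⊕ (Fin d ⊕ Fin d) → F) // Module.finrank F ↥W = m ∧ (∀ w ∈ W, Cfsg.quadFormOdd d F w = 0)})
    (i c : ℕ) (hi : i = orderOf (q : ZMod r)) (hc : c = if Even i then i else 2 * i) :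
    (∀ x : GL (Unit ⊕ (Fin d ⊕ Fin d)) F, x ∈ Cfsg.Geo.omegaGL (Cfsg.quadFormOdd d F) → orderOf x = r →
      ∃ W : Submodule F (Unit ⊕ (Fin d ⊕ Fin d) → F), Module.finrank F ↥W = m ∧ (∀ w ∈ W, Cfsg.quadFormOdd d F w = 0) ∧
        W.map (Matrix.toLin' (x : Matrix (Unit ⊕ (Fin d ⊕ Fin d)) (Unit ⊕ (Fin d ⊕ Fin d)) F)) ≤ W) ↔
    ((r = 2 ∧ (m < d ∨ q % 4 = 1)) ∨
     (r ≠ p ∧ 2 < r ∧ i ≤ m ∧ 2 * (m % i) < (2 * d + 1) % c ∧ (Odd i ∨ (r - 1) / i + 2 * (m / i) ≤ (2 * d + 1) / i))) := by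
  classical
  subst hq
  have hr := (Fact.out : r.Prime)
  obtain ⟨n₀, hp', hqn⟩ := FiniteField.card F p
  have hp2 : p ≠ 2 := fun h => by
    rw [hqn, h, Nat.odd_iff, Nat.pow_mod, Nat.mod_self, zero_pow n₀.pos.ne'] at hqodd
    omega
  have h2 : (2 : F) ≠ 0 := fun h => hp2 ((Nat.prime_dvd_prime_iff_eq hp' Nat.prime_two).1
    ((CharP.cast_eq_zero_iff F p 2).1 (by exact_mod_cast h)))
  obtain ⟨hrq, hex⟩ := Classical.OrthElem.exists_of_dvd_ts_odd (r := r) h2 hmd hrΩ
  rw [← hi] at hex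
  have hrF : (r : F) ≠ 0 := Classical.Elusive.cast_ne_zero_of_not_dvd hrq
  have hrp : r ≠ p := fun h => hrF (by rw [h]; exact CharP.cast_eq_zero F p)
  obtain ⟨hQ, hfin⟩ := Classical.OrthElem.oddQ_facts (F := F) h2 d
  have hpow : ∀ x : GL (Unit ⊕ (Fin d ⊕ Fin d)) F, orderOf x = r → x ^ r = 1 := fun x hx =>
    hx ▸ pow_orderOf_eq_one x
  simp only [← Classical.OrthElem.coe_oddQ]
  have hq2 : Fintype.card F % 2 = 1 := Nat.odd_iff.1 hqodd
  by_cases hr2 : r = 2
  · subst hr2
    constructor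
    · intro H
      refine Or.inl ⟨rfl, ?_⟩
      by_contra hne
      simp only [not_or, not_lt] at hne
      have hns : ¬ IsSquare (-1 : F) := fun h => hne.2 ((Classical.OrthElem.isSquare_neg_one_iff' hq2).1 h)
      obtain ⟨x, hx, hx2, hfx, hnp⟩ := Classical.OrthElem.exists_elliptic_elt hQ h2 hns (by omega)
      obtain ⟨W, hWd, hWts, hWx⟩ := H x hx (Classical.OrthElem.orderOf_eq hx2 (by omega))
      obtain ⟨b₁, b₂, hb, hb₁, hb₂⟩ := Classical.OrthElem.two_parts (Classical.OrthElem.good_of_mem hQ hx).1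
        hrF (Classical.OrthElem.pow_toLin' hx2) (Classical.SympElem.inv_iff.2 hWx) hWts
      have hb₁' := hb₁.resolve_right fun h => hnp h.2
      have hsum := Classical.OrthElem.finrank_fx_add (a := Matrix.toLin' x.1)
      rcases hb₂ with h | ⟨h, -⟩ <;> omega
    · intro hR x hx hxo
      have hcond : m < d ∨ IsSquare (-1 : F) := by
        rcases hR with ⟨-, h⟩ | ⟨-, h, -⟩
        · exact h.imp id (Classical.OrthElem.isSquare_neg_one_iff' hq2).2
        · omega
      obtain ⟨hG, g, hg, hga⟩ := Classical.OrthElem.good_of_mem hQ hx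
      have har := Classical.OrthElem.pow_toLin' (hpow x hxo)
      obtain ⟨⟨j, hj⟩, hsqp⟩ := Classical.OrthElem.involution_mv hG h2 har hg hga
      obtain ⟨-, -, hNE, hNR⟩ := Classical.OrthElem.fixed_decomp hG hrF har
      have hsum := Classical.OrthElem.finrank_fx_add (a := Matrix.toLin' x.1)
      obtain ⟨Y, y1, y2, y3⟩ := Classical.OrthElem.exists_ts_le hQ (d - j) _ hNE (by omega)
      obtain ⟨⟨X, x1, x2, x3⟩, xp⟩ := Classical.OrthElem.exists_ts_half hQ hNR (j := j) (by omega)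
      refine Classical.OrthElem.hasTS_map ?_
      rcases hcond with h | h
      · exact Classical.OrthElem.involution_ts hG h2 har x1 x2 y1 y2 (by omega)
      · obtain ⟨X', a1, a2, a3⟩ := xp (hsqp h)
        exact Classical.OrthElem.involution_ts hG h2 har a1 a2 y1 y2 (by omega)
  have hr3 : 2 < r := by have := hr.two_le; omega
  have hrodd : Odd r := hr.odd_of_ne_two hr2
  constructor
  · intro H
    refine Or.inr ⟨hrp, hr3, Classical.OrthElem.nec_oddn hrF hr2 hQ hfin hm hmd hi hc hex ?_⟩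
    intro a hG har hfx
    obtain ⟨x, hx, hxr, hxa⟩ := Classical.OrthElem.exists_omega_of_good (by omega) hG hrodd har
    subst hxa
    obtain ⟨W, h1, h3, h4⟩ := H x hx (Classical.OrthElem.orderOf_eq hxr hfx)
    exact ⟨W, Classical.SympElem.inv_iff.2 h4, h3, h1⟩
  · intro hR x hx hxo
    obtain ⟨-, -, -, hk, ht⟩ := hR.resolve_left fun h => hr2 h.1
    exact Classical.OrthElem.hasTS_map (Classical.OrthElem.suff_oddn (Classical.OrthElem.good_of_mem hQ hx).1 hrF
      hr2 (Classical.OrthElem.pow_toLin' (hpow x hxo)) hfin hmd hi hc hk ht)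

end Cfsg.Agent.S5972
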