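import Cfsg.Statements.S5973
import Cfsg.Agent.Classical.OrthElem.TSGlue

set_option autoImplicit false
open scoped MatrixGroups
open Cfsg
open Cfsg.Agent

namespace Cfsg.Agent.S5973

/-- Elements of prime order of PΩ⁺_n(q), n = 2d ≥ 8, with no fixed totally singular `m`-space, `m < n/2`. Here `T = PΩ⁺_n(q)` is realised through `Ω⁺_n(q)`, the commutator subgroup of the isometry group of the quadratic form `Σ xᵢyᵢ` over the field `F` with `q` elements; an element of `T` of prime order `r` is an element `x` of `Ω⁺_n(q)` with `x^r` scalar and `x` not scalar. Let `1 ≤ m < d` and let `r` be a prime dividing the number of totally singular `m`-spaces. For `r ≠ p` let `i` be the multiplicative order of `q` modulo `r`, `c = i` for `i` even and `c = 2i` for `i` odd, and write `k = n mod c`, `ℓ = m mod i`, `n' = ⌊n/i⌋`, `m' = ⌊m/i⌋`, `t = (r−1)/i`. Then every element of `T` of order `r` fixes some totally singular `m`-space if and only if one of: (i) `r = 2 ≠ p` and either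 `q ≡ 1 (mod 4)`, or `q ≡ 3 (mod 4)`, `m ≤ n/2 − 2` and (`m` even or `n ≡ 2 (mod 4)`); (ii) `r ≠ p` odd, `i` odd, `i ≤ m` and `k ≥ 2ℓ`; (iii) `r ≠ p` odd, `i` even, `i ≤ m`, `n' − 2m' ≥ t`, and one of: `i ≥ 2ℓ`, `k = 0`, `n/i` odd and `n' − 2m' > t`; or `k ≥ 2ℓ` and `n'` even; or `k > 2ℓ` and `n'` odd. -/
theorem result {F : Type*} [Field F] [Fintype F] {p : ℕ} [Fact p.Prime] [CharP F p] {q : ℕ} (hq : Fintype.card F = q)
    (d m : ℕ) (hd : 4 ≤ d) (hm : 1 ≤ m) (hmd : m < d)
    (r : ℕ) [Fact r.Prime]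
    (hrΩ : r ∣ Nat.card {W : Submodule F (Fin d ⊕ Fin d → F) // Module.finrank F ↥W = m ∧ (∀ w ∈ W, Cfsg.quadFormPlus d F w = 0)})
    (i c : ℕ) (hi : i = orderOf (q : ZMod r)) (hc : c = if Even i then i else 2 * i) :
    (∀ x : GL (Fin d ⊕ Fin d) F, x ∈ Cfsg.Geo.omegaGL (Cfsg.quadFormPlus d F) →
      (∃ z : F, ((x ^ r : GL (Fin d ⊕ Fin d) F) : Matrix (Fin d ⊕ Fin d) (Fin d ⊕ Fin d) F) = z • (1 : Matrix (Fin d ⊕ Fin d) (Fin d ⊕ Fin d) F)) →
      (∀ z : F, (x : Matrix (Fin d ⊕ Fin d) (Fin d ⊕ Fin d) F) ≠ z • (1 : Matrix (Fin d ⊕ Fin d) (Fin d ⊕ Fin d) F)) →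
      ∃ W : Submodule F (Fin d ⊕ Fin d → F), Module.finrank F ↥W = m ∧ (∀ w ∈ W, Cfsg.quadFormPlus d F w = 0) ∧
        W.map (Matrix.toLin' (x : Matrix (Fin d ⊕ Fin d) (Fin d ⊕ Fin d) F)) ≤ W) ↔
    ((r = 2 ∧ p ≠ 2 ∧ (q % 4 = 1 ∨ (q % 4 = 3 ∧ m + 2 ≤ d ∧ (Even m ∨ (2 * d) % 4 = 2)))) ∨
     (r ≠ p ∧ 2 < r ∧ Odd i ∧ i ≤ m ∧ 2 * (m % i) ≤ (2 * d) % c) ∨
     (r ≠ p ∧ 2 < r ∧ Even i ∧ i ≤ m ∧ (r - 1) / i + 2 * (m / i) ≤ (2 * d) / i ∧
       ((2 * (m % i) ≤ i ∧ (2 * d) % c = 0 ∧ Odd ((2 * d) / i) ∧ (r - 1) / i + 2 * (m / i) < (2 * d) / i) ∨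
        (2 * (m % i) ≤ (2 * d) % c ∧ Even ((2 * d) / i)) ∨
        (2 * (m % i) < (2 * d) % c ∧ Odd ((2 * d) / i))))) := by
  classical
  subst hq
  have hr := (Fact.out : r.Prime)
  obtain ⟨n₀, hp', hqn⟩ := FiniteField.card F p
  obtain ⟨hrq, hex⟩ := Classical.OrthElem.exists_of_dvd_ts_plus (r := r) hmd hrΩ
  rw [← hi] at hex
  have hrF : (r : F) ≠ 0 := Classical.Elusive.cast_ne_zero_of_not_dvd hrq
  have hrp : r ≠ p := fun h => hrF (by rw [h]; exact CharP.cast_eq_zero F p)
  obtain ⟨hQ, hfin, hplus⟩ := Classical.OrthElem.plusQ_facts (F := F) d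
  simp only [← Classical.OrthElem.coe_plusQ]
  by_cases hr2 : r = 2
  · subst hr2
    have hp2 : p ≠ 2 := fun h => hrp h.symm
    have h2 : (2 : F) ≠ 0 := by exact_mod_cast hrF
    have hq2 : Fintype.card F % 2 = 1 := by
      rw [hqn, ← Nat.odd_iff]; exact (hp'.odd_of_ne_two hp2).pow
    have hsq1 := Classical.OrthElem.isSquare_neg_one_iff' (F := F) hq2
    constructor
    · intro H
      refine Or.inl ⟨rfl, hp2, ?_⟩
      by_contra hne
      simp only [not_or, not_and] at hne
      obtain ⟨hq1, hne⟩ := hne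
      have hq3 : Fintype.card F % 4 = 3 := by omega
      have hns : ¬ IsSquare (-1 : F) := fun h => hq1 (hsq1.1 h)
      by_cases hmd2 : m + 2 ≤ d
      · obtain ⟨hmo, hdo⟩ := hne hq3 hmd2
        have hde : Even d := by rw [Nat.even_iff]; omega
        obtain ⟨x, hx, hxx⟩ := Classical.OrthElem.exists_J_elt hQ h2 hns hfin (iff_of_true hplus hde) (by
          obtain ⟨e, rfl⟩ := hde; rw [pow_add, Int.units_mul_self])
        obtain ⟨W, hWd, -, hWx⟩ := H x hx (Classical.OrthElem.J_pow hxx)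
          (Classical.OrthElem.J_not_scalar (by omega) hns hxx)
        have := (Classical.OrthElem.sq_neg_one_ts (Classical.OrthElem.good_of_mem hQ hx).1 h2 hns hxx).1 W
          (Classical.SympElem.inv_iff.2 hWx)
        exact hmo (hWd ▸ this)
      · obtain ⟨x, hx, hx2, hfx, hnp⟩ := Classical.OrthElem.exists_elliptic_elt hQ h2 hns (by omega)
        have hG := (Classical.OrthElem.good_of_mem hQ hx).1
        have har := Classical.OrthElem.pow_toLin' hx2
        obtain ⟨W, hWd, hWts, hWx⟩ := H x hx (Classical.OrthElem.pow_scalar_of_one hx2) (fun z hz => by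
          have hxz : Matrix.toLin' x.1 = z • (1 : Module.End F (Fin d ⊕ Fin d → F)) := by
            rw [hz, map_smul, Matrix.toLin'_one]; rfl
          have hz2 := Classical.OrthElem.scalar_sq hQ (by omega) hG.pres hxz
          rcases sq_eq_one_iff.1 hz2 with rfl | rfl
          · rw [hxz, one_smul, Classical.SympElem.fx, sub_self, LinearMap.ker_zero, finrank_top] at hfx
            omega
          · have htop : Classical.SympElem.fx (-1 : Module.End F (Fin d ⊕ Fin d → F)) = ⊥ := by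
              rw [Submodule.eq_bot_iff]
              intro v hv
              have hv' := Classical.SympElem.fx_apply hv
              simp only [LinearMap.neg_apply, Module.End.one_apply] at hv'
              exact (smul_eq_zero.1 (show (2 : F) • v = 0 by
                rw [two_smul]; nth_rw 1 [← hv']; exact neg_add_cancel v)).resolve_left h2
            have he : ((-1 : F) • (1 : Module.End F (Fin d ⊕ Fin d → F))) = -1 := LinearMap.ext fun v => by simp
            rw [hxz, he, htop, _root_.finrank_bot] at hfx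
            omega)
        obtain ⟨b₁, b₂, hb, hb₁, hb₂⟩ := Classical.OrthElem.two_parts hG hrF har
          (Classical.SympElem.inv_iff.2 hWx) hWts
        have hb₁' := hb₁.resolve_right fun h => hnp h.2
        have hsum := Classical.OrthElem.finrank_fx_add (a := Matrix.toLin' x.1)
        have hev := Classical.OrthElem.fx_type hG hrF har ⟨d, by omega⟩ ⟨1, by omega⟩
        have hb₂' := hb₂.resolve_right fun h => hnp ((hev.2.1 hplus).1 h.2)
        omega
    · intro hR x hx hxz _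
      obtain ⟨z, hz⟩ := hxz
      have hcond : Fintype.card F % 4 = 1 ∨
          (Fintype.card F % 4 = 3 ∧ m + 2 ≤ d ∧ (Even m ∨ (2 * d) % 4 = 2)) := by
        rcases hR with ⟨-, -, h⟩ | ⟨-, h, -⟩ | ⟨-, h, -⟩
        · exact h
        · omega
        · omega
      obtain ⟨hG, g, hg, hga⟩ := Classical.OrthElem.good_of_mem hQ hx
      refine Classical.OrthElem.hasTS_map ?_
      rcases Classical.OrthElem.sq_cases hQ (by omega) hG hz with h1 | h1
      · obtain ⟨⟨j, hj⟩, hsqp⟩ := Classical.OrthElem.involution_mv hG h2 h1 hg hga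
        refine Classical.OrthElem.involution_cap hG h2 h1 hfin (j := j) (by omega) (by omega) ?_
        rcases hcond with h | ⟨-, h, -⟩
        · have hp1 := hsqp (hsq1.2 h)
          obtain ⟨-, hev⟩ := Classical.OrthElem.fx_type hG hrF h1 ⟨d, by omega⟩ ⟨j, hj⟩
          exact Or.inl ⟨hp1, (hev.1 hplus).2 hp1⟩
        · exact Or.inr (Or.inr h)
      · rcases hcond with h | ⟨h, hmd2, hpar⟩
        · obtain ⟨w, hw⟩ := hsq1.2 h
          exact (Classical.OrthElem.sq_neg_one_split hG h2 h1 hw.symm hfin).2 m (by omega)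
        · have hns : ¬ IsSquare (-1 : F) := fun hh => by have := hsq1.1 hh; omega
          have hde := (Classical.OrthElem.sq_neg_one_type h2 hns d _ _ _ hG h1 hfin).1 hplus
          obtain ⟨k, rfl⟩ : Even m := hpar.resolve_right (by rw [Nat.even_iff] at hde; omega)
          obtain ⟨W, a1, a2, a3⟩ := (Classical.OrthElem.sq_neg_one_ts hG h2 hns h1).2 k (by omega)
          exact ⟨W, a1, a2, by omega⟩
  have hr3 : 2 < r := by have := hr.two_le; omega
  have hrodd : Odd r := hr.odd_of_ne_two hr2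
  set P := Classical.OrthElem.Plus (Classical.OrthElem.plusQ F d) ⊤
  have hex' : (i ∣ 2 * d ∧ (i ∣ d ↔ P)) ∨ (∃ e, d - m < e ∧ e < d ∧ i ∣ 2 * e) ∨
      (i ∣ 2 * (d - m) ∧ (i ∣ d - m ↔ ¬ P)) :=
    (hex hr2).imp (fun h => ⟨h.mul_left 2, iff_of_true h hplus⟩)
      (Or.imp id fun h => ⟨h.1, iff_of_false h.2 (fun hn => hn hplus)⟩)
  constructor
  · intro H
    have test : ∀ a, Classical.OrthElem.QGood (Classical.OrthElem.plusQ F d) a → a ^ r = 1 →
        Module.finrank F (Classical.SympElem.fx a) < Module.finrank F (Fin d ⊕ Fin d → F) →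
        Classical.OrthElem.HasTS (Classical.OrthElem.plusQ F d) a m := by
      intro a hG har hfx
      obtain ⟨x, hx, hxr, hxa⟩ := Classical.OrthElem.exists_omega_of_good (by omega) hG hrodd har
      subst hxa
      obtain ⟨W, h1, h3, h4⟩ := H x hx (Classical.OrthElem.pow_scalar_of_one hxr)
        (Classical.OrthElem.not_scalar (by omega) hrodd hG hxr hfx)
      exact ⟨W, Classical.SympElem.inv_iff.2 h4, h3, h1⟩
    by_cases hev : Even i
    · obtain ⟨him, ht, hcase⟩ := Classical.OrthElem.nec_even hrF hQ hfin hm hmd hi hev hex' test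
      rw [if_pos hev] at hc; subst hc
      refine Or.inr (Or.inr ⟨hrp, hr3, hev, him, ht, ?_⟩)
      simpa [P, hplus, Nat.not_even_iff_odd, and_assoc] using hcase
    · have hodd := Nat.not_even_iff_odd.1 hev
      obtain ⟨him, hcase⟩ := Classical.OrthElem.nec_odd hrF hr2 hQ hfin hm hmd hi hodd hex' test
      rw [if_neg hev] at hc; subst hc
      exact Or.inr (Or.inl ⟨hrp, hr3, hodd, him, (hcase.resolve_right fun h => h.1 hplus).2⟩)
  · intro hR x hx hxz _
    obtain ⟨z, hz⟩ := hxz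
    obtain ⟨a, hG, har, htr⟩ := Classical.OrthElem.exists_normalise hQ (by omega) hrodd hx hz
    obtain ⟨W, h1, h3, h4⟩ : Classical.OrthElem.HasTS (Classical.OrthElem.plusQ F d) a m := by
      rcases hR with ⟨h, -⟩ | ⟨-, -, hodd, -, hk⟩ | ⟨-, -, hev, -, ht, hk⟩
      · exact absurd h hr2
      · rw [if_neg (Nat.not_even_iff_odd.2 hodd)] at hc; subst hc
        exact Classical.OrthElem.suff_odd hG hrF hr2 har hfin (by omega) (fun h => absurd hplus h) (hi ▸ hodd) hi
          (Or.inl ⟨hplus, hk⟩)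
      · rw [if_pos hev] at hc; subst hc
        refine Classical.OrthElem.suff_even hG hrF hr2 har hfin (hi ▸ hev) hi ht ?_
        rcases hk with ⟨h1, h3, h4, h5⟩ | ⟨h1, h3⟩ | ⟨h1, -⟩
        · exact Or.inl ⟨h1, h3, fun h => Nat.not_even_iff_odd.2 h4 (h.1 hplus), h5⟩
        · exact Or.inr (Or.inl ⟨h1, iff_of_true hplus h3⟩)
        · exact Or.inr (Or.inr h1)
    exact ⟨W, h4, h3, htr W h1⟩

end Cfsg.Agent.S5973
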