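import Cfsg.Statements.S5974
import Cfsg.Agent.Classical.OrthElem.NdForms

set_option autoImplicit false
open scoped MatrixGroups
open Cfsg
open Cfsg.Agent Cfsg.Agent.Classical Cfsg.Agent.Classical.OrthElem

namespace Cfsg.Agent.S5974

/-- Elements of prime order of PΩ⁺_n(q), n = 2d ≥ 8, with no fixed nondegenerate hyperbolic `m`-space. Here `T = PΩ⁺_n(q)` is realised through `Ω⁺_n(q)`, the commutator subgroup of the isometry group of `Q = Σ xᵢyᵢ` over the field `F` with `q` elements; an element of `T` of prime order `r` is an element `x` of `Ω⁺_n(q)` with `x^r` scalar and `x` not scalar. A hyperbolic `m`-space is a subspace `W` of even dimension `m` on which the polar form of `Q` is nondegenerate and which contains a totally singular subspace of dimension `m/2`. Let `m` be even with `2 ≤ m < n/2`, and let `r` be a prime dividing the number of hyperbolic `m`-spaces, with `r = 2` or `r ≠ p`. For `r ≠ p` let `i` be the multiplicative order of `q`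 modulo `r`, `c = i` for `i` even and `c = 2i` for `i` odd, and write `k = n mod c`, `ℓ' = m mod c`. Then every element of `T` of order `r` fixes some hyperbolic `m`-space if and only if one of: (i) `r = 2` and (`n ≡ 2 (mod 4)`, or `m ≡ 0 (mod 4)`, or `q ≡ 1 (mod 4)`); (ii) `r ≠ p` odd, `i` odd, `c ≤ m` and `k ≥ ℓ'`; (iii) `r ≠ p` odd, `i` even, and either `k = 0` and (`n/i` odd, or `ℓ' = 0` and `m/i` even), or `i ≤ m` and (`k > ℓ' > 0`, or `k = ℓ' > 0` and `(n + m − 2k)/i` even, or `k > ℓ' = 0` and `m/i` even). -/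
theorem result {F : Type*} [Field F] [Fintype F] {p : ℕ} [Fact p.Prime] [CharP F p] {q : ℕ} (hq : Fintype.card F = q)
    (d m : ℕ) (hd : 4 ≤ d) (hm : 2 ≤ m) (hme : Even m) (hmd : m < d)
    (r : ℕ) [Fact r.Prime] (hr : r = 2 ∨ r ≠ p)
    (hrΩ : r ∣ Nat.card {W : Submodule F (Fin d ⊕ Fin d → F) // (Module.finrank F ↥W = m ∧ (∀ u ∈ W, u ≠ 0 → ∃ v ∈ W, QuadraticMap.polar (Cfsg.quadFormPlus d F) u v ≠ 0) ∧
          ∃ U : Submodule F (Fin d ⊕ Fin d → F), U ≤ W ∧ 2 * Module.finrank F ↥U = m ∧ ∀ u ∈ U, Cfsg.quadFormPlus d F u = 0)})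
    (i c : ℕ) (hi : i = orderOf (q : ZMod r)) (hc : c = if Even i then i else 2 * i) :
    (∀ x : GL (Fin d ⊕ Fin d) F, x ∈ Cfsg.Geo.omegaGL (Cfsg.quadFormPlus d F) →
      (∃ z : F, ((x ^ r : GL (Fin d ⊕ Fin d) F) : Matrix (Fin d ⊕ Fin d) (Fin d ⊕ Fin d) F) = z • (1 : Matrix (Fin d ⊕ Fin d) (Fin d ⊕ Fin d) F)) →
      (∀ z : F, (x : Matrix (Fin d ⊕ Fin d) (Fin d ⊕ Fin d) F) ≠ z • (1 : Matrix (Fin d ⊕ Fin d) (Fin d ⊕ Fin d) F)) →
      ∃ W : Submodule F (Fin d ⊕ Fin d → F), (Module.finrank F ↥W = m ∧ (∀ u ∈ W, u ≠ 0 → ∃ v ∈ W, QuadraticMap.polar (Cfsg.quadFormPlus d F) u v ≠ 0) ∧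
          ∃ U : Submodule F (Fin d ⊕ Fin d → F), U ≤ W ∧ 2 * Module.finrank F ↥U = m ∧ ∀ u ∈ U, Cfsg.quadFormPlus d F u = 0) ∧
        W.map (Matrix.toLin' (x : Matrix (Fin d ⊕ Fin d) (Fin d ⊕ Fin d) F)) ≤ W) ↔
    ((r = 2 ∧ ((2 * d) % 4 = 2 ∨ m % 4 = 0 ∨ q % 4 = 1)) ∨
     (r ≠ p ∧ 2 < r ∧ Odd i ∧ c ≤ m ∧ m % c ≤ (2 * d) % c) ∨
     (r ≠ p ∧ 2 < r ∧ Even i ∧
       (((2 * d) % c = 0 ∧ (Odd ((2 * d) / i) ∨ (m % c = 0 ∧ Even (m / i)))) ∨
        (i ≤ m ∧ ((m % c < (2 * d) % c ∧ 0 < m % c) ∨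
                  ((2 * d) % c = m % c ∧ 0 < m % c ∧ Even ((2 * d + m - 2 * ((2 * d) % c)) / i)) ∨
                  (0 < (2 * d) % c ∧ m % c = 0 ∧ Even (m / i))))))) := by
  classical
  subst hq
  have hpr := (Fact.out : r.Prime)
  obtain ⟨μ, rfl⟩ : ∃ μ, m = 2 * μ := even_iff_two_dvd.1 hme
  obtain ⟨hQ, hfin, hplus⟩ := plusQ_facts (F := F) d
  simp only [← coe_plusQ] at hrΩ ⊢
  set Q := plusQ F d with hQdef
  have hG : ∀ W : Submodule F (Fin d ⊕ Fin d → F),
      (Module.finrank F W = 2 * μ ∧ (∀ u ∈ W, u ≠ 0 → ∃ v ∈ W, QuadraticMap.polar (⇑Q) u v ≠ 0) ∧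
        ∃ U : Submodule F (Fin d ⊕ Fin d → F), U ≤ W ∧ 2 * Module.finrank F U = 2 * μ ∧ ∀ u ∈ U, Q u = 0) ↔
      (Module.finrank F W = 2 * μ ∧ NdOn Q W ∧ (Plus Q W ↔ True)) := fun W => by
    constructor
    · rintro ⟨h1, h3, U, a1, a2, a3⟩
      exact ⟨h1, h3, iff_true_intro ⟨U, a1, a3, a2.trans h1.symm⟩⟩
    · rintro ⟨h1, h3, h4⟩
      obtain ⟨U, a1, a2, a3⟩ := h4.2 trivial
      exact ⟨h1, h3, U, a1, a3.trans h1, a2⟩
  simp only [hG] at hrΩ ⊢
  by_cases hr2 : r = 2
  · subst hr2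
    by_cases hp2 : p = 2
    · obtain ⟨hqe, h20⟩ := card_even (F := F) hp2
      subst hp2
      constructor
      · intro H
        refine Or.inl ⟨rfl, ?_⟩
        by_contra hne
        simp only [not_or] at hne
        obtain ⟨hd4, hm4, -⟩ := hne
        obtain ⟨X, -, hX, hXd⟩ := exists_ts_of_plus (k := d) hplus (by rw [finrank_top, hfin])
        obtain ⟨a, hGa, har, hmv, hfx⟩ := exists_unip_ts (p := 2) hQ hX (t := d / 2) (by omega)
        have hfxd : Module.finrank F (SympElem.fx a) = d := by rw [hfx, finrank_orth hQ, hXd, hfin]; omega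
        obtain ⟨x, hx, -, hxz, hxn, hxa⟩ := exists_omega_unip (by omega) hGa har
          ⟨3 * d / 2, by omega⟩ (by omega)
        obtain ⟨W, ⟨hWd, hWn, -⟩, hWx⟩ := H x hx hxz hxn
        rw [hxa] at hWx
        obtain ⟨r₁, r₂, e1, e2, hle, h1, h3⟩ := image_bound hGa (hmv ▸ hX) (SympElem.inv_iff.2 hWx) hWn
        have hd2 := finrank_orth hQ W
        have h1' : 2 * r₁ ≤ Module.finrank F W := h1.elim le_of_lt fun h => h.1.le
        have h3' : 2 * r₂ ≤ Module.finrank F (orth Q W) := h3.elim le_of_lt fun h => h.1.le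
        rw [Nat.even_iff] at e1 e2
        rw [hmv, hXd] at hle
        omega
      · intro hR x hx hxz _
        obtain ⟨z, hz⟩ := hxz
        have hcond : (2 * d) % 4 = 2 ∨ (2 * μ) % 4 = 0 := by
          rcases hR with ⟨-, h⟩ | ⟨h, -⟩ | ⟨h, -⟩
          · rcases h with h | h | h
            · exact Or.inl h
            · exact Or.inr h
            · omega
          · exact absurd rfl h
          · exact absurd rfl h
        obtain ⟨hGa, -⟩ := good_of_mem hQ hx
        have har : ∀ v, Matrix.toLin' x.1 (Matrix.toLin' x.1 v) = v := by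
          rcases sq_cases hQ (by omega) hGa hz with h | h
          · intro v; rw [← Module.End.mul_apply, ← pow_two, h]; rfl
          · intro v; rw [h v, neg_eq_iff_add_eq_zero, ← two_smul F v, h20, zero_smul]
        obtain ⟨W, a1, a2, a3, a4⟩ : ∃ W, SympElem.Inv (Matrix.toLin' x.1) W ∧ NdOn Q W ∧
            Module.finrank F W = 2 * μ ∧ Plus Q W := by
          rcases Nat.even_or_odd μ with ⟨k, hk⟩ | ⟨k, hk⟩
          · obtain ⟨B, -, i, n, e, hpl⟩ := plus_four_mul hGa h20 har SympElem.inv_top (ndon_top hQ) k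
              (by rw [finrank_top, hfin]; omega)
            exact ⟨B, i, n, by omega, hpl⟩
          · obtain ⟨B, -, i, n, e, hpl⟩ := plus_four_mul hGa h20 har SympElem.inv_top (ndon_top hQ) ((d - μ) / 2)
              (by rw [finrank_top, hfin]; omega)
            refine ⟨orth Q B, inv_orth hGa i, ndon_orth hQ n, by rw [finrank_orth hQ, e, hfin]; omega, ?_⟩
            have h3 := plus_sup_iff hQ n (ndon_orth hQ n) (orth_le le_rfl) ⟨2 * ((d - μ) / 2), by omega⟩
              ⟨μ, by rw [finrank_orth hQ, e, hfin]; omega⟩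
            rw [(isCompl_orth hQ n).sup_eq_top] at h3
            exact (h3.1 hplus).1 hpl
        exact ⟨W, ⟨a3, a2, iff_true_intro a4⟩, SympElem.inv_iff.1 a1⟩
    · obtain ⟨h2, hq2⟩ := two_facts (F := F) hp2
      have hsq1 := isSquare_neg_one_iff' (F := F) hq2
      constructor
      · intro H
        refine Or.inl ⟨rfl, ?_⟩
        by_contra hne
        simp only [not_or] at hne
        obtain ⟨hd4, hm4, hq4⟩ := hne
        have hns : ¬ IsSquare (-1 : F) := fun h => hq4 (hsq1.1 h)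
        have hde : Even d := by rw [Nat.even_iff]; omega
        obtain ⟨x, hx, hxz, hxn, hGx, hxx⟩ := exists_J_any hQ h2 hfin (by omega)
          (Or.inr ⟨hns, iff_of_true hplus hde⟩) (by
            obtain ⟨e, rfl⟩ := hde
            rw [pow_add, Int.units_mul_self])
        obtain ⟨W, ⟨hWd, hWn, hWp⟩, hWx⟩ := H x hx hxz hxn
        obtain ⟨k, hk, hkp⟩ := sq_shape hGx h2 hxx (SympElem.inv_iff.2 hWx) hWn
        have := (hkp.1 (hWp.2 trivial)).resolve_left hns
        rw [Nat.even_iff] at this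
        omega
      · intro hR x hx hxz _
        have hcond : (2 * d) % 4 = 2 ∨ (2 * μ) % 4 = 0 ∨ Fintype.card F % 4 = 1 := by
          rcases hR with ⟨-, h⟩ | ⟨-, h, -⟩ | ⟨-, h, -⟩
          · exact h
          · omega
          · omega
        refine proj_two hQ h2 (by omega) (fun a hGa har hM => ?_) (fun a hGa hsq d' hd' hs => ?_) hfin x hx hxz
        · obtain ⟨W, a1, a2, a3, a4⟩ := involution_type hGa h2 har hM (m := 2 * μ) (by omega) (by omega) ⟨μ, by omega⟩
            (by omega) True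
          exact ⟨W, a1, a3, a2, a4⟩
        · obtain ⟨W, a1, a2, a3⟩ := sq_planes hGa h2 hsq μ (by omega)
          obtain ⟨k, hk, hkp⟩ := sq_shape hGa h2 hsq a1 a2
          obtain ⟨k', hk', hkp'⟩ := sq_shape hGa h2 hsq SympElem.inv_top (ndon_top hQ)
          rw [finrank_top, hfin] at hk'
          refine ⟨W, a1, a3, a2, iff_true_intro (hkp.2 ?_)⟩
          rcases hcond with h | h | h
          · refine Or.inl ((hkp'.1 hplus).resolve_right ?_)
            rw [Nat.even_iff]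
            omega
          · exact Or.inr (by rw [Nat.even_iff]; omega)
          · exact Or.inl (hsq1.2 h)
  have hrp : r ≠ p := hr.resolve_left hr2
  obtain ⟨hrF, hrq⟩ := cast_ne_zero_of_ne (F := F) hrp
  have hr3 : 2 < r := by have := hpr.two_le; omega
  have hrodd : Odd r := hpr.odd_of_ne_two hr2
  have hex := hex_even hQ hr2 hrq hfin (by omega) (by omega) hrΩ
  have hle := le_of_hex (by omega : μ < d) hex
  have hcb := bl_eq hi hc
  constructor
  · intro H
    have hC := nec_nd hrF hr2 hQ (m := 2 * μ) (τ := True) hfin ⟨μ, by omega⟩ hle (fun a hGa har hfx => by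
      obtain ⟨W, a1, a3, a2, a4⟩ := good_of_proj (by omega) hrodd H a hGa har hfx
      exact ⟨W, a1, a2, a3, a4⟩)
    have hk := fun hk => bl_le_m hrF (by omega : 0 < μ) (by omega : μ < d) hex hC hk
    rcases Nat.even_or_odd i with hev | hodd
    · rw [if_pos hev] at hc; subst hc
      obtain ⟨-, hbp⟩ := bl_even (F := F) (hi ▸ hev)
      simp only [NdCond, hbp, ← hcb, hplus, true_iff] at hC
      refine Or.inr (Or.inr ⟨hrp, hr3, hev, ?_⟩)
      rw [← hcb] at hk
      rcases hC with ⟨h0, h⟩ | ⟨h0, h | h⟩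
      · refine Or.inr ⟨hk h0, ?_⟩
        rcases h with h | h | ⟨h, h'⟩
        · exact Or.inl ⟨h.2, h.1⟩
        · exact Or.inr (Or.inr ⟨h0, h⟩)
        · refine Or.inr (Or.inl ⟨h.symm, by omega, ?_⟩)
          rw [quot_add h (hcb ▸ (bl_pos hrF).1), Nat.even_add]
          exact h'
      · exact Or.inl ⟨h0, Or.inl (Nat.not_even_iff_odd.1 h)⟩
      · exact Or.inl ⟨h0, Or.inr h⟩
    · rw [if_neg (Nat.not_even_iff_odd.2 hodd)] at hc; subst hc
      obtain ⟨-, hbp⟩ := bl_odd (F := F) (hi ▸ hodd)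
      simp only [NdCond, hbp, ← hcb, hplus, not_true, false_or, and_true] at hC
      rw [← hcb] at hk
      refine Or.inr (Or.inl ⟨hrp, hr3, hodd, ?_, by omega⟩)
      rcases Nat.eq_zero_or_pos ((2 * d) % (2 * i)) with h0 | h0
      · exact le_of_mod_zero (by omega) (by omega)
      · exact hk h0
  · intro hR x hx hxz _
    have hC : NdCond F r (Plus Q ⊤) True (2 * d) (2 * μ) := by
      rcases hR with ⟨h, -⟩ | ⟨-, -, hodd, -, hk⟩ | ⟨-, -, hev, hk⟩
      · exact absurd h hr2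
      · rw [if_neg (Nat.not_even_iff_odd.2 hodd)] at hc; subst hc
        obtain ⟨-, hbp⟩ := bl_odd (F := F) (hi ▸ hodd)
        simp only [NdCond, hbp, ← hcb, hplus, not_true, false_or, and_true]
        omega
      · rw [if_pos hev] at hc; subst hc
        obtain ⟨-, hbp⟩ := bl_even (F := F) (hi ▸ hev)
        simp only [NdCond, hbp, ← hcb, hplus, true_iff]
        rcases hk with ⟨h0, h | h⟩ | ⟨-, h | ⟨h, h0, h'⟩ | ⟨h0, h⟩⟩
        · exact Or.inr ⟨h0, Or.inl (Nat.not_even_iff_odd.2 h)⟩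
        · exact Or.inr ⟨h0, Or.inr h⟩
        · exact Or.inl ⟨by omega, Or.inl ⟨h.2, h.1⟩⟩
        · refine Or.inl ⟨by omega, Or.inr (Or.inr ⟨h.symm, ?_⟩)⟩
          rw [quot_add h.symm (hcb ▸ (bl_pos hrF).1), Nat.even_add] at h'
          exact h'
        · exact Or.inl ⟨h0, Or.inr (Or.inl h)⟩
    refine proj_of_good hQ (by omega) hrodd (fun a hGa har => ?_) x hx hxz
    obtain ⟨W, a1, a2, a3, a4⟩ := suff_nd hGa hrF hr2 har hfin (by omega) ⟨μ, by omega⟩ (by omega) hC
    exact ⟨W, a1, a3, a2, a4⟩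

end Cfsg.Agent.S5974
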