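import Cfsg.Statements.S5976
import Cfsg.Agent.SkewStruct.SpPrime

set_option autoImplicit false
set_option linter.unusedSectionVars false
open scoped MatrixGroups
open Cfsg

namespace Cfsg.Agent.S5976

open Module Matrix Cfsg.Agent.Classical Cfsg.Agent.SkewStruct

section aux

universe u

variable {F : Type u} [Field F] {d : ℕ}

/-- The matrix of a linear equivalence. -/
noncomputable def toGL : ((Fin d ⊕ Fin d → F) ≃ₗ[F] (Fin d ⊕ Fin d → F)) →* GL (Fin d ⊕ Fin d) F where
  toFun e := ⟨LinearMap.toMatrix' e.toLinearMap, LinearMap.toMatrix' e.symm.toLinearMap,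
    by rw [← LinearMap.toMatrix'_comp]; simp, by rw [← LinearMap.toMatrix'_comp]; simp⟩
  map_one' := Units.ext LinearMap.toMatrix'_id
  map_mul' a b := Units.ext (LinearMap.toMatrix'_comp a.toLinearMap b.toLinearMap)

theorem toGL_mulVec (e : (Fin d ⊕ Fin d → F) ≃ₗ[F] (Fin d ⊕ Fin d → F)) (v : Fin d ⊕ Fin d → F) :
    (toGL e).1 *ᵥ v = e v := LinearMap.toMatrix'_mulVec _ _

theorem toGL_injective : Function.Injective (toGL (F := F) (d := d)) := fun a b h =>
  LinearEquiv.ext fun v => by rw [← toGL_mulVec, h, toGL_mulVec]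

theorem exists_equiv (g : GL (Fin d ⊕ Fin d) F) : ∃ e, toGL e = g := by
  let e : (Fin d ⊕ Fin d → F) ≃ₗ[F] (Fin d ⊕ Fin d → F) :=
    LinearEquiv.ofLinear (Matrix.toLin' g.1) (Matrix.toLin' (g⁻¹).1)
      (by rw [← Matrix.toLin'_mul, ← Units.val_mul, mul_inv_cancel, Units.val_one, Matrix.toLin'_one])
      (by rw [← Matrix.toLin'_mul, ← Units.val_mul, inv_mul_cancel, Units.val_one, Matrix.toLin'_one])
  exact ⟨e, Units.ext (LinearMap.toMatrix'_toLin' g.1)⟩

theorem mem_sp (e : (Fin d ⊕ Fin d → F) ≃ₗ[F] (Fin d ⊕ Fin d → F)) :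
    toGL e ∈ Cfsg.spGL d F ↔ e ∈ Alt.isoGroup (sympB d F) := by
  constructor
  · intro h u v
    have h' : Cfsg.sympForm d F ((toGL e).1 *ᵥ u) ((toGL e).1 *ᵥ v) = Cfsg.sympForm d F u v := h u v
    rw [sympB_apply, sympB_apply, ← toGL_mulVec, ← toGL_mulVec]
    exact h'
  · intro h u v
    show Cfsg.sympForm d F ((toGL e).1 *ᵥ u) ((toGL e).1 *ᵥ v) = Cfsg.sympForm d F u v
    rw [toGL_mulVec, toGL_mulVec, ← sympB_apply, ← sympB_apply]
    exact h u v

theorem spGL_eq : Cfsg.spGL d F = (Alt.isoGroup (sympB d F)).map toGL := by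
  ext g
  obtain ⟨e, rfl⟩ := exists_equiv g
  rw [mem_sp]
  exact (Subgroup.mem_map_iff_mem toGL_injective).symm

variable [Fintype F] {K : Subalgebra F (Matrix (Fin d ⊕ Fin d) (Fin d ⊕ Fin d) F)}

/-- The skew generator. -/
theorem exists_gen (h2 : (2 : F) ≠ 0) (hd : 1 ≤ d) (hK : Cfsg.Geo.IsFieldSubalgebra 2 K)
    (hKf : Cfsg.Geo.IsAdjointClosedFor (Cfsg.sympForm d F) K) (hKns : ¬ Cfsg.Geo.IsSelfAdjointFor (Cfsg.sympForm d F) K) :
    ∃ (J : Matrix (Fin d ⊕ Fin d) (Fin d ⊕ Fin d) F) (t : F), J ∈ K ∧ IsSkew (sympB d F) (Matrix.toLin' J) t ∧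
      ¬ IsSquare t ∧ J * J = t • 1 ∧ (∀ k, k ∈ K ↔ ∃ a b : F, k = a • 1 + b • J) ∧
      ∃ (L : Type u) (_ : Field L) (_ : Algebra F L) (δ : L), finrank F L = 2 ∧ δ * δ = algebraMap F L t := by
  classical
  have hf : ∀ u v, Cfsg.sympForm d F u v = sympB d F u v := fun u v => (sympB_apply u v).symm
  simp only [Cfsg.Geo.IsAdjointClosedFor, Cfsg.Geo.IsSelfAdjointFor, hf] at hKf hKns
  push Not at hKns
  obtain ⟨k, hk, u₀, v₀, hne⟩ := hKns
  obtain ⟨k', hk', hadj⟩ := hKf k hk
  set J := k - k' with hJdef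
  have hJK : J ∈ K := sub_mem hk hk'
  have hskew : ∀ u v, sympB d F (J *ᵥ u) v = -sympB d F u (J *ᵥ v) := fun u v => by
    have e : sympB d F (k' *ᵥ u) v = sympB d F u (k *ᵥ v) := by
      rw [Alt.neg' sympB_isAlt v, ← hadj, Alt.neg' sympB_isAlt u, neg_neg]
    rw [hJdef, Matrix.sub_mulVec, Matrix.sub_mulVec, map_sub, LinearMap.sub_apply, map_sub, e, ← hadj]
    ring
  have hJ0 : J ≠ 0 := fun e => by
    rw [sub_eq_zero] at e
    exact hne (by rw [hadj, ← e])
  haveI : Nonempty (Fin d ⊕ Fin d) := ⟨Sum.inl ⟨0, hd⟩⟩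
  have hne' := nontrivial_symp (F := F) hd
  obtain ⟨u, hu⟩ := exists_ne (0 : Fin d ⊕ Fin d → F)
  obtain ⟨w, hw⟩ : ∃ w, sympB d F u w ≠ 0 := by
    by_contra h
    push Not at h
    exact hu (sympB_nondeg.1 u h)
  have hnot : ∀ c : F, J ≠ c • 1 := fun c e => by
    have h := hskew u w
    rw [e, Matrix.smul_mulVec, Matrix.one_mulVec, Matrix.smul_mulVec, Matrix.one_mulVec, map_smul,
      LinearMap.smul_apply, map_smul, smul_eq_mul] at h
    have h3 : 2 * (c * sympB d F u w) = 0 := by linear_combination h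
    have hc := (mul_eq_zero.1 ((mul_eq_zero.1 h3).resolve_left h2)).resolve_right hw
    exact hJ0 (by rw [e, hc, zero_smul])
  haveI : Nontrivial K := Module.nontrivial_of_finrank_pos (R := F) (hK.finrank_eq.symm ▸ two_pos)
  letI : Field K := IsField.toField
    { exists_pair_ne := exists_pair_ne K
      mul_comm := fun a b => Subtype.ext (hK.comm _ a.2 _ b.2)
      mul_inv_cancel := fun {a} ha => by
        obtain ⟨y, hy, h⟩ := hK.inv a.1 a.2 fun h => ha (Subtype.ext h)
        exact ⟨⟨y, hy⟩, Subtype.ext h⟩ }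
  haveI : FiniteDimensional F K := Module.finite_of_finrank_pos (hK.finrank_eq.symm ▸ two_pos)
  have hspan : ∀ y, y ∈ K ↔ ∃ a b : F, y = a • 1 + b • J := by
    intro y
    refine ⟨fun hy => ?_, fun ⟨a, b, e⟩ => e ▸ add_mem (K.smul_mem K.one_mem a) (K.smul_mem hJK b)⟩
    let f : F × F →ₗ[F] K := (LinearMap.toSpanSingleton F K 1).coprod (LinearMap.toSpanSingleton F K ⟨J, hJK⟩)
    have hfv : ∀ w, (f w : Matrix (Fin d ⊕ Fin d) (Fin d ⊕ Fin d) F) = w.1 • 1 + w.2 • J := fun w => by simp [f]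
    have hfi : Function.Injective f := (injective_iff_map_eq_zero f).2 fun w hw => by
      have h := hfv w
      rw [hw, ZeroMemClass.coe_zero] at h
      by_cases h0 : w.2 = 0
      · rw [h0, zero_smul, add_zero, eq_comm, smul_eq_zero] at h
        exact Prod.ext (h.resolve_right one_ne_zero) h0
      · refine absurd ?_ (hnot (-(w.2⁻¹ * w.1)))
        have h' := congrArg (w.2⁻¹ • ·) h
        simp only [smul_zero, smul_add, smul_smul, inv_mul_cancel₀ h0, one_smul] at h'
        rw [neg_smul]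
        exact (eq_neg_of_add_eq_zero_right h'.symm)
    obtain ⟨w, hw⟩ := (LinearMap.injective_iff_surjective_of_finrank_eq_finrank
      (by rw [Module.finrank_prod, finrank_self, hK.finrank_eq])).1 hfi ⟨y, hy⟩
    exact ⟨w.1, w.2, by rw [← hfv, hw]⟩
  obtain ⟨t, b, htb⟩ := (hspan (J * J)).1 (mul_mem hJK hJK)
  have hb : b = 0 := by
    by_contra hb
    refine hJ0 ?_
    refine Matrix.ext_of_mulVec_single fun i => ?_
    rw [Matrix.zero_mulVec]
    refine sympB_nondeg.1 _ fun v => ?_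
    have h1 : ∀ x y : Fin d ⊕ Fin d → F, sympB d F ((J * J) *ᵥ x) y = sympB d F x ((J * J) *ᵥ y) := fun x y => by
      rw [← Matrix.mulVec_mulVec, ← Matrix.mulVec_mulVec, hskew, hskew, neg_neg]
    have h := h1 (Pi.single i 1) v
    rw [htb, Matrix.add_mulVec, Matrix.add_mulVec, Matrix.smul_mulVec, Matrix.smul_mulVec, Matrix.smul_mulVec,
      Matrix.smul_mulVec, Matrix.one_mulVec, Matrix.one_mulVec, map_add, LinearMap.add_apply, map_add, map_smul,
      map_smul, map_smul, map_smul, LinearMap.smul_apply, LinearMap.smul_apply] at h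
    simp only [smul_eq_mul] at h
    have h3 := hskew (Pi.single i 1) v
    have h4 : 2 * (b * sympB d F (J *ᵥ Pi.single i 1) v) = 0 := by linear_combination h + b * h3
    exact (mul_eq_zero.1 ((mul_eq_zero.1 h4).resolve_left h2)).resolve_left hb
  rw [hb, zero_smul, add_zero] at htb
  let j : K := ⟨J, hJK⟩
  have hj : j * j = algebraMap F K t := Subtype.ext (by
    show J * J = algebraMap F (Matrix (Fin d ⊕ Fin d) (Fin d ⊕ Fin d) F) t
    rw [htb, Algebra.algebraMap_eq_smul_one])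
  have hts : ¬ IsSquare t := by
    rintro ⟨s, rfl⟩
    rw [map_mul] at hj
    rcases mul_self_eq_mul_self_iff.1 hj with h | h
    · refine hnot s ?_
      have := congrArg Subtype.val h
      rw [← Algebra.algebraMap_eq_smul_one]
      exact this
    · refine hnot (-s) ?_
      have := congrArg Subtype.val h
      rw [← Algebra.algebraMap_eq_smul_one, map_neg]
      exact this
  refine ⟨J, t, hJK, ⟨fun u v => ?_, fun v => ?_⟩, hts, htb, hspan, K, inferInstance, inferInstance, j,
    hK.finrank_eq, hj⟩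
  · rw [Matrix.toLin'_apply, Matrix.toLin'_apply, hskew]
  · rw [Matrix.toLin'_apply, Matrix.toLin'_apply, Matrix.mulVec_mulVec, htb, Matrix.smul_mulVec, Matrix.one_mulVec]

variable {J : Matrix (Fin d ⊕ Fin d) (Fin d ⊕ Fin d) F} {t : F}

theorem mem_norm (hspan : ∀ k, k ∈ K ↔ ∃ a b : F, k = a • 1 + b • J) {e : (Fin d ⊕ Fin d → F) ≃ₗ[F] (Fin d ⊕ Fin d → F)}
    {ε : F} (hε : ε = 1 ∨ ε = -1) (he : ∀ v, e (Matrix.toLin' J v) = ε • Matrix.toLin' J (e v)) :
    toGL e ∈ Cfsg.Geo.subalgebraNormalizer K := by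
  have hmain : (toGL e).1 * J = (ε • J) * (toGL e).1 := Matrix.ext_of_mulVec_single fun i => by
    rw [← Matrix.mulVec_mulVec, ← Matrix.mulVec_mulVec, toGL_mulVec, toGL_mulVec, Matrix.smul_mulVec]
    exact he _
  have hc : ∀ a b : F, (toGL e).1 * (a • 1 + b • J) * ((toGL e)⁻¹).1 = a • 1 + (b * ε) • J := fun a b => by
    rw [mul_add, Matrix.mul_smul, Matrix.mul_smul, mul_one, hmain, add_mul, Matrix.smul_mul, Matrix.smul_mul,
      mul_assoc, ← Units.val_mul, mul_inv_cancel, Units.val_one, mul_one, smul_smul]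
  have hee : ε * ε = 1 := mul_self_eq_one_iff.2 hε
  intro k
  refine ⟨fun hk => ?_, fun hk => ?_⟩
  · obtain ⟨a, b, rfl⟩ := (hspan k).1 hk
    exact (hspan _).2 ⟨a, b * ε, hc a b⟩
  · obtain ⟨a, b, hab⟩ := (hspan _).1 hk
    refine (hspan k).2 ⟨a, b * ε, ?_⟩
    have h' := hc a (b * ε)
    rw [mul_assoc b ε ε, hee, mul_one, ← hab] at h'
    exact ((Units.mul_right_inj (toGL e)).1 ((Units.mul_left_inj (toGL e)⁻¹).1 h')).symm

theorem of_norm (hd : 1 ≤ d) (h2 : (2 : F) ≠ 0) (hJ : IsSkew (sympB d F) (Matrix.toLin' J) t) (ht : t ≠ 0)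
    (hspan : ∀ k, k ∈ K ↔ ∃ a b : F, k = a • 1 + b • J) {e : (Fin d ⊕ Fin d → F) ≃ₗ[F] (Fin d ⊕ Fin d → F)}
    (hB : e ∈ Alt.isoGroup (sympB d F)) (he : toGL e ∈ Cfsg.Geo.subalgebraNormalizer K) :
    ∃ ε : F, (ε = 1 ∨ ε = -1) ∧ ∀ v, e (Matrix.toLin' J v) = ε • Matrix.toLin' J (e v) := by
  obtain ⟨a, b, hab⟩ := (hspan _).1 ((he J).1 ((hspan J).2 ⟨0, 1, by rw [zero_smul, one_smul, zero_add]⟩))
  have h1 : ∀ v, e (Matrix.toLin' J v) = a • e v + b • Matrix.toLin' J (e v) := fun v => by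
    have := congrArg (fun M : Matrix (Fin d ⊕ Fin d) (Fin d ⊕ Fin d) F => M *ᵥ e v) hab
    rw [← toGL_mulVec e v, ← Matrix.mulVec_mulVec, Matrix.mulVec_mulVec v ((toGL e)⁻¹).1 (toGL e).1, ← Units.val_mul, inv_mul_cancel,
      Units.val_one, Matrix.one_mulVec] at this
    rw [Matrix.add_mulVec, Matrix.smul_mulVec, Matrix.smul_mulVec, Matrix.one_mulVec, ← Matrix.mulVec_mulVec,
      toGL_mulVec, toGL_mulVec] at this
    rw [Matrix.toLin'_apply, Matrix.toLin'_apply]
    exact this
  have hne' := nontrivial_symp (F := F) hd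
  obtain ⟨u, hu⟩ := exists_ne (0 : Fin d ⊕ Fin d → F)
  obtain ⟨w, hw⟩ : ∃ w, sympB d F u w ≠ 0 := by
    by_contra h
    push Not at h
    exact hu (sympB_nondeg.1 u h)
  have ha : a = 0 := by
    have e1 := hB (Matrix.toLin' J u) w
    have e2 := hB u (Matrix.toLin' J w)
    have e3 := hJ.skew u w
    have e4 := hJ.skew (e u) (e w)
    have e5 := hB u w
    rw [h1] at e1 e2
    simp only [map_add, map_smul, LinearMap.add_apply, LinearMap.smul_apply, smul_eq_mul] at e1 e2
    have h3 : 2 * (a * sympB d F u w) = 0 := by linear_combination e1 + e2 + e3 - b * e4 - 2 * a * e5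
    exact (mul_eq_zero.1 ((mul_eq_zero.1 h3).resolve_left h2)).resolve_right hw
  have h1' : ∀ v, e (Matrix.toLin' J v) = b • Matrix.toLin' J (e v) := fun v => by
    rw [h1, ha, zero_smul, zero_add]
  refine ⟨b, mul_self_eq_one_iff.1 ?_, h1'⟩
  have h := h1' (Matrix.toLin' J u)
  rw [hJ.sq, map_smul, h1', map_smul, hJ.sq, smul_smul, smul_smul] at h
  have heu : e u ≠ 0 := fun h0 => hu (e.injective (h0.trans (map_zero e).symm))
  have h' := smul_left_injective F heu h
  exact mul_right_cancel₀ ht (by linear_combination -h')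

theorem prod_split (q d : ℕ) :
    (∏ j ∈ Finset.range d, nrm q (d - j)) * ∏ m ∈ Finset.range d, (if Even (m + 1) then q ^ (m + 1) + 1 else q ^ (m + 1) - 1) =
      q ^ (∑ m ∈ Finset.range d, m) * ∏ m ∈ Finset.range d, (q ^ (2 * (m + 1)) - 1) := by
  rw [← Finset.prod_range_reflect, ← Finset.prod_pow_eq_pow_sum, ← Finset.prod_mul_distrib, ← Finset.prod_mul_distrib]
  refine Finset.prod_congr rfl fun m hm => ?_
  have hm' := Finset.mem_range.1 hm
  rw [show d - (d - 1 - m) = m + 1 by omega, nrm, Nat.add_sub_cancel]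
  have e : q ^ (2 * (m + 1)) - 1 = (q ^ (m + 1) + 1) * (q ^ (m + 1) - 1) := by
    rw [mul_comm 2, pow_mul, ← Nat.sq_sub_sq, one_pow]
  rw [e]
  split_ifs <;> ring

/-- Fixed point free derangements. -/
theorem no_conj {r : ℕ} (hr : Odd r) (hd : 1 ≤ d) (h2 : (2 : F) ≠ 0) (hJ : IsSkew (sympB d F) (Matrix.toLin' J) t)
    (ht : t ≠ 0) (hspan : ∀ k, k ∈ K ↔ ∃ a b : F, k = a • 1 + b • J)
    {x : (Fin d ⊕ Fin d → F) ≃ₗ[F] (Fin d ⊕ Fin d → F)} (hx : x ∈ Alt.isoGroup (sympB d F)) (hxr : x ^ r = 1)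
    (hno : ∀ J', IsSkew (sympB d F) J' t → ¬ ∀ v, x (J' v) = J' (x v))
    {e : (Fin d ⊕ Fin d → F) ≃ₗ[F] (Fin d ⊕ Fin d → F)} (he : e ∈ Alt.isoGroup (sympB d F)) :
    (toGL e)⁻¹ * toGL x * toGL e ∉ Cfsg.Geo.subalgebraNormalizer K := by
  intro hN
  rw [← map_inv, ← map_mul, ← map_mul] at hN
  obtain ⟨ε, hε, hc⟩ := of_norm hd h2 hJ ht hspan (mul_mem (mul_mem (inv_mem he) hx) he) hN
  obtain ⟨y, hy⟩ : ∃ y, e⁻¹ * x * e = y := ⟨_, rfl⟩
  rw [hy] at hc
  have hyr : y ^ r = 1 := by
    rw [← hy]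
    have hc' := conj_pow (a := e⁻¹) (b := x) (i := r)
    rw [inv_inv, hxr, mul_one, inv_mul_cancel] at hc'
    exact hc'
  have hε1 : ε = 1 := by
    rcases hε with h | h
    · exact h
    exfalso
    have hn : ∀ (n : ℕ) v, (y ^ n) (Matrix.toLin' J v) = ε ^ n • Matrix.toLin' J ((y ^ n) v) := by
      intro n
      induction n with
      | zero => intro v; simp
      | succ n ih =>
        intro v
        rw [pow_succ', LinearEquiv.mul_apply, ih, map_smul, hc, smul_smul, pow_succ, LinearEquiv.mul_apply]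
    have hne' := nontrivial_symp (F := F) hd
    obtain ⟨u, hu⟩ := exists_ne (0 : Fin d ⊕ Fin d → F)
    have hJu : Matrix.toLin' J u ≠ 0 := fun h0 => hu (by
      have := hJ.sq u
      rw [h0, map_zero, eq_comm, smul_eq_zero] at this
      exact this.resolve_left ht)
    have h5 := hn r u
    rw [hyr, h, hr.neg_one_pow] at h5
    have h6 : (2 : F) • Matrix.toLin' J u = 0 := by
      rw [two_smul]
      nth_rw 1 [show Matrix.toLin' J u = (1 : (Fin d ⊕ Fin d → F) ≃ₗ[F] (Fin d ⊕ Fin d → F)) (Matrix.toLin' J u) from rfl]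
      rw [h5, neg_one_smul]
      exact neg_add_cancel _
    exact hJu ((smul_eq_zero.1 h6).resolve_left h2)
  refine hno (e.toLinearMap ∘ₗ Matrix.toLin' J ∘ₗ e.symm.toLinearMap) ⟨fun u v => ?_, fun v => ?_⟩ fun v => ?_
  · obtain ⟨u, rfl⟩ := e.surjective u
    obtain ⟨v, rfl⟩ := e.surjective v
    simp only [LinearMap.comp_apply, LinearEquiv.coe_coe, LinearEquiv.symm_apply_apply]
    rw [he, he, hJ.skew]
  · simp only [LinearMap.comp_apply, LinearEquiv.coe_coe, LinearEquiv.symm_apply_apply, hJ.sq, map_smul,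
      LinearEquiv.apply_symm_apply]
  · obtain ⟨v, rfl⟩ := e.surjective v
    have h := hc v
    rw [hε1, one_smul] at h
    have h' := congrArg e h
    simp only [← hy, LinearEquiv.mul_apply] at h'
    simp only [LinearMap.comp_apply, LinearEquiv.coe_coe, LinearEquiv.symm_apply_apply]
    have ei : ∀ w, e⁻¹ w = e.symm w := fun w => rfl
    rw [ei, ei, LinearEquiv.apply_symm_apply] at h'
    exact h'

end aux

/-- Elements of prime order of PSp_n(q), q odd, and the subgroups of type GU_{n/2}(q). Here `T = PSp_{2d}(F)` for a field `F` with `q` elements, `q` odd, `d ≥ 2`, realised through the matrices preserving the standard alternating form `f`; `K` is a subalgebra of the `2d × 2d` matrices that is a field of degree 2 over `F`, closed under taking adjoints for `f` but not consisting of self-adjoint elements (so `F^{2d}` becomes a `d`-dimensional space over `K ≅ F_{q²}` on which `f` is the trace of a multiple of a non-degenerate hermitian form); `H` is the subgroup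 of `T` normalizing `K` — the symplectic maps that are `K`-linear or `K`-semilinear, a subgroup of type GU_d(q) (maximality is not assumed). Ω is the set of cosets of `H` in `T`, so an element of `T` of prime order `r` (`x ∈ T` with `x^r` scalar, `x` not scalar) fixes a point of Ω exactly when some `T`-conjugate of `x` normalizes `K`. Let `r` be a prime dividing the index of `H`. Then every element of `T` of order `r` fixes a point of Ω if and only if `r = 2`. -/
theorem result {F : Type*} [Field F] [Fintype F] {p : ℕ} [Fact p.Prime] [CharP F p] {q : ℕ} (hq : Fintype.card F = q)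
    (hodd : Odd q) (d : ℕ) (hd : 2 ≤ d)
    (K : Subalgebra F (Matrix (Fin d ⊕ Fin d) (Fin d ⊕ Fin d) F)) (hK : Cfsg.Geo.IsFieldSubalgebra 2 K)
    (hKf : Cfsg.Geo.IsAdjointClosedFor (Cfsg.sympForm d F) K) (hKns : ¬ Cfsg.Geo.IsSelfAdjointFor (Cfsg.sympForm d F) K)
    (r : ℕ) [Fact r.Prime]
    (hΩ : r ∣ (Cfsg.Geo.subalgebraNormalizer K).relIndex (Cfsg.spGL d F)) :
    (∀ x ∈ Cfsg.spGL d F, (∃ z : F, ((x ^ r : GL (Fin d ⊕ Fin d) F) : Matrix (Fin d ⊕ Fin d) (Fin d ⊕ Fin d) F) = z • (1 : Matrix (Fin d ⊕ Fin d) (Fin d ⊕ Fin d) F)) →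
      (∀ z : F, (x : Matrix (Fin d ⊕ Fin d) (Fin d ⊕ Fin d) F) ≠ z • (1 : Matrix (Fin d ⊕ Fin d) (Fin d ⊕ Fin d) F)) →
      ∃ g ∈ Cfsg.spGL d F, g⁻¹ * x * g ∈ Cfsg.Geo.subalgebraNormalizer K) ↔ r = 2 := by
  classical
  subst hq
  have hd1 : 1 ≤ d := by omega
  have h2 : (2 : F) ≠ 0 := by
    have hc : ringChar F ≠ 2 := fun e => by
      have := (FiniteField.even_card_iff_char_two).1 e
      exact (Nat.not_even_iff_odd.2 hodd) (Nat.even_iff.2 this)
    exact Ring.two_ne_zero hc
  obtain ⟨J, t, hJK, hJ, ht, -, hspan, L, _, _, δ, hL, hδ⟩ := exists_gen h2 hd1 hK hKf hKns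
  have ht0 : t ≠ 0 := fun e => ht (e ▸ IsSquare.zero)
  have hr : r.Prime := Fact.out
  have hA := sympB_isAlt (F := F) (m := d)
  constructor
  · intro hall
    by_contra hr2
    have hro : Odd r := hr.odd_of_ne_two hr2
    -- it suffices to give an element of order `r` commuting with no conjugate of `J`
    suffices ∃ x : (Fin d ⊕ Fin d → F) ≃ₗ[F] (Fin d ⊕ Fin d → F), x ∈ Alt.isoGroup (sympB d F) ∧ x ^ r = 1 ∧ x ≠ 1 ∧
        ∀ J', IsSkew (sympB d F) J' t → ¬ ∀ v, x (J' v) = J' (x v) by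
      obtain ⟨x, hx, hxr, hx1, hno⟩ := this
      obtain ⟨g, hg, hgN⟩ := hall (toGL x) ((mem_sp x).2 hx) ⟨1, by rw [← map_pow, hxr, map_one, one_smul]; rfl⟩
        (fun z hz => hx1 (by
          have hzv : ∀ v, x v = z • v := fun v => by
            rw [← toGL_mulVec, hz, Matrix.smul_mulVec, Matrix.one_mulVec]
          have hne' := nontrivial_symp (F := F) hd1
          obtain ⟨u, hu⟩ := exists_ne (0 : Fin d ⊕ Fin d → F)
          obtain ⟨w, hw⟩ : ∃ w, sympB d F u w ≠ 0 := by
            by_contra h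
            push Not at h
            exact hu (sympB_nondeg.1 u h)
          have hz2 : z * z = 1 := by
            have h := hx u w
            rw [hzv, hzv, map_smul, map_smul, LinearMap.smul_apply, smul_eq_mul, smul_eq_mul, ← mul_assoc] at h
            exact (mul_eq_right₀ hw).1 h
          have hn : ∀ (n : ℕ) v, (x ^ n) v = z ^ n • v := by
            intro n
            induction n with
            | zero => intro v; simp
            | succ n ih => intro v; rw [pow_succ', LinearEquiv.mul_apply, ih, map_smul, hzv, smul_smul, pow_succ]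
          have hz3 : z = 1 := by
            rcases mul_self_eq_one_iff.1 hz2 with h | h
            · exact h
            · have := hn r u
              rw [hxr, h, hro.neg_one_pow] at this
              have h7 : (2 : F) • u = 0 := by
                rw [two_smul]
                nth_rw 1 [show u = (1 : (Fin d ⊕ Fin d → F) ≃ₗ[F] (Fin d ⊕ Fin d → F)) u from rfl]
                rw [this, neg_one_smul]
                exact neg_add_cancel _
              exact absurd ((smul_eq_zero.1 h7).resolve_left h2) hu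
          exact LinearEquiv.ext fun v => by rw [hzv, hz3, one_smul]; rfl))
      obtain ⟨e, rfl⟩ := exists_equiv g
      exact no_conj hro hd1 h2 hJ ht0 hspan hx hxr hno ((mem_sp e).1 hg) hgN
    by_cases hrp : r = p
    · subst hrp
      exact exists_transvection hd1 ht
    -- the index
    let C : Subgroup ((Fin d ⊕ Fin d → F) ≃ₗ[F] (Fin d ⊕ Fin d → F)) :=
      { carrier := {y | (∀ u v, sympB d F (y u) (y v) = sympB d F u v) ∧ ∀ v, y (Matrix.toLin' J v) = Matrix.toLin' J (y v)}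
        mul_mem' := fun {a b} ha hb => ⟨fun u v => by rw [LinearEquiv.mul_apply, LinearEquiv.mul_apply, ha.1, hb.1],
          fun v => by rw [LinearEquiv.mul_apply, LinearEquiv.mul_apply, hb.2, ha.2]⟩
        one_mem' := ⟨fun _ _ => rfl, fun _ => rfl⟩
        inv_mem' := fun {a} ha => ⟨fun u v => by
            conv_rhs => rw [← a.apply_symm_apply u, ← a.apply_symm_apply v, ha.1]
            rfl,
          fun v => a.injective (by
            show a (a.symm (Matrix.toLin' J v)) = a (Matrix.toLin' J (a.symm v))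
            rw [ha.2, LinearEquiv.apply_symm_apply, LinearEquiv.apply_symm_apply])⟩ }
    have hC : Nat.card C = ∏ j ∈ Finset.range d, nrm (Fintype.card F) (d - j) :=
      card_centJ hL h2 hA sympB_nondeg hJ ht hδ finrank_symp
    have hle : C.map toGL ≤ Cfsg.Geo.subalgebraNormalizer K ⊓ Cfsg.spGL d F := by
      rintro _ ⟨y, hy, rfl⟩
      exact ⟨mem_norm hspan (Or.inl rfl) fun v => by rw [one_smul]; exact hy.2 v, (mem_sp y).2 hy.1⟩
    have hdvd1 : Nat.card C ∣ Nat.card ((Cfsg.Geo.subalgebraNormalizer K).subgroupOf (Cfsg.spGL d F)) := by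
      rw [← Subgroup.inf_subgroupOf_right, Nat.card_congr (Subgroup.subgroupOfEquivOfLe inf_le_right).toEquiv,
        ← Subgroup.card_map_of_injective (K := C) toGL_injective]
      exact Subgroup.card_dvd_of_le hle
    have hS : Nat.card (Cfsg.spGL d F) =
        Fintype.card F ^ (d ^ 2) * ∏ i ∈ Finset.range d, (Fintype.card F ^ (2 * (i + 1)) - 1) := by
      rw [spGL_eq, Subgroup.card_map_of_injective toGL_injective, ← Nat.card_congr (spEquiv d F).toEquiv,
        card_symplecticGroup rfl]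
    set q := Fintype.card F with hq
    have hdvd2 : r * Nat.card C ∣ Nat.card (Cfsg.spGL d F) := by
      rw [← Subgroup.card_mul_index ((Cfsg.Geo.subalgebraNormalizer K).subgroupOf (Cfsg.spGL d F)), mul_comm r]
      exact mul_dvd_mul hdvd1 hΩ
    haveI : Finite ((Fin d ⊕ Fin d → F) ≃ₗ[F] (Fin d ⊕ Fin d → F)) := Finite.of_injective _ toGL_injective
    have hCpos : 0 < Nat.card C := Nat.card_pos
    have hdvd3 : r ∣ q ^ (d ^ 2) * ∏ m ∈ Finset.range d, (if Even (m + 1) then q ^ (m + 1) + 1 else q ^ (m + 1) - 1) := by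
      refine Nat.dvd_of_mul_dvd_mul_right hCpos (dvd_trans hdvd2 ?_)
      rw [hS, mul_assoc _ _ (Nat.card C), mul_comm _ (Nat.card C), hC, prod_split]
      exact mul_dvd_mul_left _ (dvd_mul_left _ _)
    have hrq : ¬ r ∣ q := fun h => hrp (by
      obtain ⟨n, hp', hn⟩ := FiniteField.card F p
      rw [hq, hn] at h
      exact (Nat.prime_dvd_prime_iff_eq hr hp').1 (hr.dvd_of_dvd_pow h))
    obtain ⟨m, hm, hrm⟩ := (Prime.dvd_finsetProd_iff hr.prime _).1
      ((hr.dvd_mul.1 hdvd3).resolve_left fun h => hrq (hr.dvd_of_dvd_pow h))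
    have hm' := Finset.mem_range.1 hm
    have hq1 : 1 ≤ q := Fintype.card_pos
    -- residues
    have hz : (q : ZMod r) ≠ 0 := by rwa [Ne, ZMod.natCast_eq_zero_iff]
    have hqm : (q : ZMod r) ^ (m + 1) = -(-1) ^ (m + 1) := by
      have h0 := (ZMod.natCast_eq_zero_iff _ r).2 hrm
      split_ifs at h0 with he
      · push_cast at h0
        rw [he.neg_one_pow, eq_neg_of_add_eq_zero_left h0]
      · rw [Nat.cast_sub (Nat.one_le_pow _ _ hq1)] at h0
        push_cast at h0
        rw [(Nat.not_even_iff_odd.1 he).neg_one_pow, neg_neg, sub_eq_zero.1 h0]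
    have hex : ∃ j, 1 ≤ j ∧ j ≤ m + 1 ∧ (q : ZMod r) ^ (2 * j) = 1 :=
      ⟨m + 1, by omega, le_rfl, by rw [mul_comm, pow_mul, hqm, neg_sq, ← pow_mul, mul_comm, pow_mul, neg_one_sq, one_pow]⟩
    let j := Nat.find hex
    obtain ⟨hj1, hjm, hjq⟩ := Nat.find_spec hex
    have hjmin : ∀ i, 1 ≤ i → i < j → (q : ZMod r) ^ (2 * i) ≠ 1 := fun i h1 hi h =>
      Nat.find_min hex hi ⟨h1, by omega, h⟩
    obtain ⟨k, hk⟩ : ∃ k, d = j + k := ⟨d - j, by omega⟩
    have hdvdj : r ∣ (q ^ j) ^ 2 - 1 := by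
      rw [← ZMod.natCast_eq_zero_iff, Nat.cast_sub (Nat.one_le_pow _ _ (Nat.one_le_pow _ _ hq1))]
      push_cast
      rw [← pow_mul, mul_comm, hjq, sub_self]
    have hnd : ¬ r ∣ ∏ i ∈ Finset.range j, nrm q (j - i) := by
      intro h
      obtain ⟨i, hi, hri⟩ := (Prime.dvd_finsetProd_iff hr.prime _).1 h
      have hi' := Finset.mem_range.1 hi
      have h0 := (ZMod.natCast_eq_zero_iff _ r).2 hri
      have hji : (q : ZMod r) ^ (j - i) = (-1) ^ (j - i) := by
        rw [nrm] at h0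
        split_ifs at h0 with he
        · push_cast [Nat.cast_sub (Nat.one_le_pow (j - i) q hq1)] at h0
          rw [he.neg_one_pow, sub_eq_zero.1 ((mul_eq_zero.1 h0).resolve_left (pow_ne_zero _ hz))]
        · push_cast at h0
          rw [(Nat.not_even_iff_odd.1 he).neg_one_pow,
            eq_neg_of_add_eq_zero_left ((mul_eq_zero.1 h0).resolve_left (pow_ne_zero _ hz))]
      have hi0 : j - i = j := by
        by_contra hne
        exact hjmin (j - i) (by omega) (by omega) (by rw [mul_comm, pow_mul, hji, ← pow_mul, mul_comm, pow_mul, neg_one_sq, one_pow])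
      rw [hi0] at hji
      have hjd : j ∣ m + 1 := by
        rw [Nat.dvd_iff_mod_eq_zero]
        by_contra hne
        refine hjmin ((m + 1) % j) (Nat.pos_of_ne_zero hne) (Nat.mod_lt _ hj1) ?_
        have h1 : (q : ZMod r) ^ (2 * (m + 1)) = 1 := by
          rw [mul_comm, pow_mul, hqm, neg_sq, ← pow_mul, mul_comm, pow_mul, neg_one_sq, one_pow]
        rw [show 2 * (m + 1) = 2 * ((m + 1) % j) + (2 * j) * ((m + 1) / j) by
          rw [mul_assoc, ← mul_add, Nat.mod_add_div], pow_add, pow_mul _ (2 * j), hjq, one_pow, mul_one] at h1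
        exact h1
      obtain ⟨c, hc⟩ := hjd
      rw [hc, pow_mul, hji, ← pow_mul] at hqm
      haveI : Fact (2 < r) := ⟨by have := hr.two_le; omega⟩
      exact ZMod.neg_one_ne_one (n := r) (by
        have h2' : ((-1 : ZMod r) ^ (j * c)) * (-1) = (-1) ^ (j * c) := by rw [mul_neg_one]; exact hqm.symm
        exact (mul_eq_left₀ (pow_ne_zero _ (neg_ne_zero.2 one_ne_zero))).1 h2')
    rw [hk]
    rw [hk] at hdvd3
    exact exists_no_skew (p := p) hrp hr2 hj1 hdvdj hL ht hδ h2 hnd
  · rintro rfl x hx ⟨z, hz⟩ hns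
    obtain ⟨e, rfl⟩ := exists_equiv x
    have he := (mem_sp e).1 hx
    have hxx : ∀ v, e (e v) = z • v := fun v => by
      rw [← toGL_mulVec e (e v), ← toGL_mulVec e v, Matrix.mulVec_mulVec, ← Units.val_mul, ← pow_two, hz,
        Matrix.smul_mulVec, Matrix.one_mulVec]
    have hz2 : z * z = 1 := by
      have hne' := nontrivial_symp (F := F) hd1
      obtain ⟨u, hu⟩ := exists_ne (0 : Fin d ⊕ Fin d → F)
      obtain ⟨w, hw⟩ : ∃ w, sympB d F u w ≠ 0 := by
        by_contra h
        push Not at h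
        exact hu (sympB_nondeg.1 u h)
      have h := (he (e u) (e w)).trans (he u w)
      rw [hxx, hxx, map_smul, map_smul, LinearMap.smul_apply, smul_eq_mul, smul_eq_mul, ← mul_assoc] at h
      exact (mul_eq_right₀ hw).1 h
    obtain ⟨J', ε, hJ', hε, hxJ⟩ := exists_skew h2 hA sympB_nondeg (x := e.toLinearMap) hz2 he hxx ht finrank_symp
    obtain ⟨g, hg, hgJ⟩ := hJ.exists_conj h2 hA sympB_nondeg hJ' ht finrank_symp
    refine ⟨toGL g, (mem_sp g).2 hg, ?_⟩
    rw [← map_inv, ← map_mul, ← map_mul]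
    refine mem_norm hspan hε fun v => g.injective ?_
    have hi : ∀ w, g ((g⁻¹ * e * g) w) = e (g w) := fun w => g.apply_symm_apply _
    rw [hi, hgJ, map_smul, hgJ, hi]
    exact hxJ (g v)

end Cfsg.Agent.S5976
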