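import Cfsg.Statements.S5975
import Cfsg.Agent.SkewStruct.SelfAdjExt
import Cfsg.Agent.S5976

set_option autoImplicit false
set_option linter.unusedSectionVars false
set_option linter.style.haveILetI false
open scoped MatrixGroups
open scoped Matrix
open Cfsg

namespace Cfsg.Agent.S5975

open Module Matrix Cfsg.Agent.Classical Cfsg.Agent.SkewStruct
open Cfsg.Agent.S5976 (toGL toGL_mulVec toGL_injective exists_equiv mem_sp spGL_eq mem_norm)

section aux

variable {F : Type*} [Field F]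

/-- Self-adjoint with square `t`, the form vanishing on `(J v, v)`. -/
structure IsSA {V : Type*} [AddCommGroup V] [Module F V] (B : LinearMap.BilinForm F V) (J : Module.End F V) (t : F) : Prop where
  alt : ∀ v, B (J v) v = 0
  sq : ∀ v, J (J v) = t • v

theorem IsSA.exists_frame {V : Type*} [AddCommGroup V] [Module F V] [Nontrivial V] {B : LinearMap.BilinForm F V}
    (hA : B.IsAlt) (hB : B.Nondegenerate) {J : Module.End F V} {t : F} (hJ : IsSA B J t) (ht : ¬ IsSquare t) :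
    ∃ e f : V, Frame B ![e, J e] ![f, t⁻¹ • J f] := by
  have ht0 : t ≠ 0 := fun e => ht (e ▸ IsSquare.zero)
  have hswap : ∀ u v, B (J u) v = B u (J v) := fun u v => by
    have h := hJ.alt (u + v)
    simp only [map_add, LinearMap.add_apply, hJ.alt] at h
    rw [Alt.neg' hA (J v) u]
    linear_combination h
  obtain ⟨e, he⟩ := exists_ne (0 : V)
  have hJe : J e ≠ 0 := fun h => he (by
    have := hJ.sq e
    rw [h, map_zero, eq_comm, smul_eq_zero] at this
    exact this.resolve_left ht0)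
  obtain ⟨v, hv, hev⟩ : ∃ v, B (J e) v = 0 ∧ B e v ≠ 0 := by
    by_contra hc
    push Not at hc
    obtain ⟨w, hw⟩ : ∃ w, B (J e) w ≠ 0 := by
      by_contra h
      push Not at h
      exact hJe (hB.1 _ h)
    have hdep : e - (B e w / B (J e) w) • J e = 0 := hB.1 _ fun z => by
      have hz := hc (z - (B (J e) z / B (J e) w) • w) (by rw [map_sub, map_smul, smul_eq_mul, div_mul_cancel₀ _ hw, sub_self])
      rw [map_sub, map_smul, smul_eq_mul] at hz
      rw [map_sub, map_smul, LinearMap.sub_apply, LinearMap.smul_apply, smul_eq_mul]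
      field_simp at hz ⊢
      linear_combination hz
    rw [sub_eq_zero] at hdep
    generalize B e w / B (J e) w = c at hdep
    have h1 := congrArg J hdep
    rw [map_smul, hJ.sq, smul_smul] at h1
    have h2 : (1 : F) • e = (c * c * t) • e := by rw [one_smul]; conv_lhs => rw [hdep, h1, smul_smul, ← mul_assoc]
    have h3 : 1 = c * c * t := smul_left_injective F he h2
    have hc0 : c ≠ 0 := fun h => by rw [h] at h3; simp at h3
    exact ht ⟨c⁻¹, by field_simp; linear_combination -h3⟩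
  refine ⟨e, (B e v)⁻¹ • v, ?_, ?_, ?_⟩
  · intro i j
    fin_cases i <;> fin_cases j <;> simp [hA.self_eq_zero, hJ.alt]
    rw [← hswap]; exact hJ.alt e
  · intro i j
    fin_cases i <;> fin_cases j <;> simp [hA.self_eq_zero, hJ.alt]
    rw [← hswap]; simp [hJ.alt]
  · have e1 : B e ((B e v)⁻¹ • v) = 1 := by rw [map_smul, smul_eq_mul, inv_mul_cancel₀ hev]
    have e2 : B (J e) ((B e v)⁻¹ • v) = 0 := by rw [map_smul, hv, smul_zero]
    intro i j
    fin_cases i <;> fin_cases j <;> simp only [Fin.isValue, Fin.zero_eta, Fin.mk_one, Matrix.cons_val_zero,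
      Matrix.cons_val_one, Matrix.cons_val_fin_one, if_true]
    · exact e1
    · rw [map_smul _ t⁻¹, smul_eq_mul, ← hswap, e2, mul_zero]; simp
    · rw [e2]; simp
    · rw [map_smul _ t⁻¹, smul_eq_mul, hswap, hJ.sq, map_smul _ t, smul_eq_mul, e1, mul_one, inv_mul_cancel₀ ht0]

theorem IsSA.exists_conj {V : Type*} [AddCommGroup V] [Module F V] [FiniteDimensional F V] [Nontrivial V]
    {B : LinearMap.BilinForm F V} (hA : B.IsAlt) (hB : B.Nondegenerate) {J J' : Module.End F V} {t : F}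
    (hJ : IsSA B J t) (hJ' : IsSA B J' t) (ht : ¬ IsSquare t) (hd : finrank F V = 2 * 2) :
    ∃ g : V ≃ₗ[F] V, (∀ u v, B (g u) (g v) = B u v) ∧ ∀ v, g (J v) = J' (g v) := by
  have ht0 : t ≠ 0 := fun e => ht (e ▸ IsSquare.zero)
  obtain ⟨e, f, hb⟩ := hJ.exists_frame hA hB ht
  obtain ⟨e', f', hb'⟩ := hJ'.exists_frame hA hB ht
  obtain ⟨g, hge, hgf, hg⟩ := hb.exists_map hA hb' hd
  have g0 : g e = e' := hge 0
  have g1 : g (J e) = J' e' := hge 1
  have g2 : g f = f' := hgf 0
  have g3 : g (J f) = J' f' := by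
    have h := hgf 1
    simp only [Matrix.cons_val_one, Matrix.cons_val_fin_one, map_smul] at h
    exact smul_right_injective V (inv_ne_zero ht0) h
  refine ⟨g, hg, fun v => ?_⟩
  obtain ⟨a, b, rfl⟩ := hb.exists_coord hA hd v
  simp [Fin.sum_univ_two, hJ.sq, hJ'.sq, g0, g1, g2, g3, smul_smul]

/-- Defining `J` on a frame of two planes. -/
theorem exists_J {V : Type*} [AddCommGroup V] [Module F V] [FiniteDimensional F V] {B : LinearMap.BilinForm F V}
    (hA : B.IsAlt) {e f : Fin 2 → V} (hb : Frame B e f) (hd : finrank F V = 2 * 2) {t α β γ δ : F} (h1 : α * β = t)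
    (h3 : γ = β) (h4 : δ = α) :
    ∃ J : Module.End F V, IsSA B J t ∧ J (e 0) = α • e 1 ∧ J (e 1) = β • e 0 ∧ J (f 0) = γ • f 1 ∧ J (f 1) = δ • f 0 := by
  subst γ δ
  let J : Module.End F V := (hb.basis hA hd).constr F (Sum.elim ![α • e 1, β • e 0] ![β • f 1, α • f 0])
  have hJ : ∀ i, J (Sum.elim e f i) = Sum.elim ![α • e 1, β • e 0] ![β • f 1, α • f 0] i := fun i => by
    rw [← hb.basis_apply hA hd i]
    exact (hb.basis hA hd).constr_basis F _ i
  have j0 : J (e 0) = α • e 1 := hJ (Sum.inl 0)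
  have j1 : J (e 1) = β • e 0 := hJ (Sum.inl 1)
  have j2 : J (f 0) = β • f 1 := hJ (Sum.inr 0)
  have j3 : J (f 1) = α • f 0 := hJ (Sum.inr 1)
  have hJc : ∀ a b : Fin 2 → F, J (∑ i, a i • e i + ∑ i, b i • f i) =
      ∑ i, (![β * a 1, α * a 0] i) • e i + ∑ i, (![α * b 1, β * b 0] i) • f i := fun a b => by
    simp [Fin.sum_univ_two, j0, j1, j2, j3, smul_smul, mul_comm α, mul_comm β]
    abel
  refine ⟨J, ⟨fun v => ?_, fun v => ?_⟩, j0, j1, j2, j3⟩
  · obtain ⟨a, b, rfl⟩ := hb.exists_coord hA hd v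
    rw [hJc, hb.pair hA]
    simp [Fin.sum_univ_two]
    ring
  · obtain ⟨a, b, rfl⟩ := hb.exists_coord hA hd v
    rw [hJc, hJc]
    subst h1
    simp [Fin.sum_univ_two, smul_smul, ← mul_assoc, mul_comm β α]

/-- A structure compatible with an involution. -/
theorem exists_SA [Fintype F] {V : Type*} [AddCommGroup V] [Module F V] [FiniteDimensional F V]
    {B : LinearMap.BilinForm F V} (h2 : (2 : F) ≠ 0) (hA : B.IsAlt) (hB : B.Nondegenerate) {x : Module.End F V} {z : F}
    (hz : z * z = 1) (hx : ∀ u v, B (x u) (x v) = B u v) (hxx : ∀ v, x (x v) = z • v) {t : F} (ht : ¬ IsSquare t)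
    (hd : finrank F V = 2 * 2) :
    ∃ (J : Module.End F V) (ε : F), IsSA B J t ∧ (ε = 1 ∨ ε = -1) ∧ ∀ v, x (J v) = ε • J (x v) := by
  by_cases hsq : IsSquare z
  · obtain ⟨s, rfl⟩ := hsq
    have hs : s ≠ 0 := fun e => by simp [e] at hz
    obtain ⟨e, f, hb, hP⟩ := SkewStruct.exists_frame hA hB (fun u v => (hx u v).trans (one_mul _).symm) hxx
      (mul_ne_zero hs hs) (splits_eigen h2 hs hx hxx) hd
    obtain ⟨c, hc, hce, hcf⟩ := hP 0
    obtain ⟨c', hc', hce', hcf'⟩ := hP 1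
    obtain ⟨J, hJ, j0, j1, j2, j3⟩ := exists_J hA hb hd (α := 1) (β := t) (one_mul t) rfl rfl
    have hc0 : c ≠ 0 := fun e => by rw [e, mul_zero] at hc; exact mul_ne_zero hs hs hc.symm
    have hc0' : c' ≠ 0 := fun e => by rw [e, mul_zero] at hc'; exact mul_ne_zero hs hs hc'.symm
    have hε : c' * c⁻¹ = 1 ∨ c' * c⁻¹ = -1 := mul_self_eq_one_iff.1 (by
      rw [mul_mul_mul_comm, hc', ← hc, ← mul_inv, mul_inv_cancel₀ (mul_ne_zero hc0 hc0)])
    have hcc : c * c = c' * c' := hc.trans hc'.symm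
    refine ⟨J, c' * c⁻¹, hJ, hε, fun v => ?_⟩
    obtain ⟨a, b, rfl⟩ := hb.exists_coord hA hd v
    simp only [Fin.sum_univ_two, map_add, map_smul, hce, hce', hcf, hcf', j0, j1, j2, j3, one_smul, smul_add, smul_smul]
    congr 1 <;> congr 1 <;> congr 1 <;> field_simp
    · linear_combination a 1 * t * hcc
    · linear_combination b 0 * t * hcc
  · have hz1 : z = -1 := (mul_self_eq_one_iff.1 hz).resolve_left fun e => hsq (e ▸ IsSquare.one)
    subst hz1
    have ht0 : t ≠ 0 := fun e => ht (e ▸ IsSquare.zero)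
    obtain ⟨s, hs⟩ : IsSquare (-t) := by
      have hodd : ringChar F ≠ 2 := fun e => h2 (by
        haveI := ringChar.of_eq (R := F) e
        exact CharTwo.two_eq_zero)
      classical
      have h1 : quadraticChar F t = -1 := quadraticChar_neg_one_iff_not_isSquare.2 ht
      have h3 : quadraticChar F (-1) = -1 := quadraticChar_neg_one_iff_not_isSquare.2 hsq
      have h4 : quadraticChar F (-t) = 1 := by rw [show -t = -1 * t by ring, map_mul, h1, h3]; norm_num
      exact (quadraticChar_one_iff_isSquare (neg_ne_zero.2 ht0)).1 h4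
    have hxs : IsSkew B x (-1) := ⟨fun u v => by
      have h5 := hx u (x v)
      rw [hxx, map_smul, smul_eq_mul, neg_one_mul] at h5
      linear_combination -h5, hxx⟩
    obtain ⟨e, hb⟩ := hxs.exists_frame h2 hA hB hsq hd
    obtain ⟨J, hJ, j0, j1, j2, j3⟩ := exists_J hA hb hd (t := t) (α := s) (β := -s) (by linear_combination hs) rfl rfl
    refine ⟨J, -1, hJ, Or.inr rfl, fun v => ?_⟩
    obtain ⟨a, b, rfl⟩ := hb.exists_coord hA hd v
    simp only [Fin.sum_univ_two, map_add, map_smul, j0, j1, j2, j3, hxx, smul_add, smul_smul]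
    module

variable {d : ℕ}

theorem scalar_ne {x : (Fin d ⊕ Fin d → F) ≃ₗ[F] (Fin d ⊕ Fin d → F)}
    (h : finrank F (LinearMap.range (x.toLinearMap - LinearMap.id)) ≠ 2 * d)
    (hx1 : x ≠ 1) (z : F) : (toGL x).1 ≠ z • (1 : Matrix (Fin d ⊕ Fin d) (Fin d ⊕ Fin d) F) := by
  intro e
  have hxv : ∀ v, x v = z • v := fun v => by rw [← toGL_mulVec, e, Matrix.smul_mulVec, Matrix.one_mulVec]
  by_cases hz : z = 1
  · exact hx1 (LinearEquiv.ext fun v => by rw [hxv, hz, one_smul]; rfl)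
  refine h ?_
  have htop : LinearMap.range (x.toLinearMap - LinearMap.id) = ⊤ := eq_top_iff.2 fun v _ =>
    ⟨(z - 1)⁻¹ • v, by
      rw [LinearMap.sub_apply, LinearEquiv.coe_coe, hxv, LinearMap.id_apply, smul_smul, ← sub_smul,
        show z * (z - 1)⁻¹ - (z - 1)⁻¹ = 1 by rw [← sub_one_mul, mul_inv_cancel₀ (sub_ne_zero.2 hz)], one_smul]⟩
  rw [htop, finrank_top, finrank_symp]

variable [Fintype F] {p : ℕ} [Fact p.Prime] [CharP F p]

/-- A block of order `r`. -/
theorem exists_block {r : ℕ} [Fact r.Prime] (hrp : r ≠ p) {j : ℕ} (hj : 1 ≤ j) (hjd : j ≤ d)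
    (hg : ∃ g : (Fin j ⊕ Fin j → F) ≃ₗ[F] (Fin j ⊕ Fin j → F), g ∈ Alt.isoGroup (sympB j F) ∧ g ^ r = 1 ∧
      ∀ v, g v = v → v = 0) :
    ∃ x : (Fin d ⊕ Fin d → F) ≃ₗ[F] (Fin d ⊕ Fin d → F), x ∈ Alt.isoGroup (sympB d F) ∧ x ^ r = 1 ∧ x ≠ 1 ∧
      finrank F (LinearMap.range (x.toLinearMap - LinearMap.id)) = 2 * j ∧
      ∀ u ∈ LinearMap.range (x.toLinearMap - LinearMap.id),
        (∀ v ∈ LinearMap.range (x.toLinearMap - LinearMap.id), sympB d F u v = 0) → u = 0 := by
  obtain ⟨k, rfl⟩ : ∃ k, d = j + k := ⟨d - j, by omega⟩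
  obtain ⟨g, hg, hgr, hfix⟩ := hg
  let ψ := splitE j k F
  let x := (ψ.trans (g.prodCongr (LinearEquiv.refl F (Fin k ⊕ Fin k → F)))).trans ψ.symm
  have hx : ∀ v, ψ (x v) = (g (ψ v).1, (ψ v).2) := fun v => by simp [x]
  have hxn : ∀ (n : ℕ) v, ψ ((x ^ n) v) = ((g ^ n) (ψ v).1, (ψ v).2) := by
    intro n
    induction n with
    | zero => intro v; rfl
    | succ n ih => intro v; rw [pow_succ', LinearEquiv.mul_apply, hx, ih, pow_succ', LinearEquiv.mul_apply]
  have hsurj : Function.Surjective (g.toLinearMap - LinearMap.id : Module.End F (Fin j ⊕ Fin j → F)) :=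
    LinearMap.injective_iff_surjective.1 ((injective_iff_map_eq_zero _).2 fun w hw => hfix w (sub_eq_zero.1 hw))
  have hR : LinearMap.range (x.toLinearMap - LinearMap.id) =
      LinearMap.range (ψ.symm.toLinearMap.comp (LinearMap.inl F _ _)) := by
    refine le_antisymm ?_ ?_
    · rintro _ ⟨v, rfl⟩
      exact ⟨g (ψ v).1 - (ψ v).1, ψ.injective (by
        refine Prod.ext ?_ ?_ <;> simp [hx])⟩
    · rintro _ ⟨w, rfl⟩
      obtain ⟨w', rfl⟩ := hsurj w
      exact ⟨ψ.symm (w', 0), ψ.injective (by simp [hx])⟩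
  refine ⟨x, fun u v => by rw [splitE_sympB, splitE_sympB u v, hx, hx]; congr 1; exact hg _ _,
    LinearEquiv.ext fun v => ψ.injective (by rw [hxn, hgr]; rfl), fun e => ?_, ?_, ?_⟩
  · have hne := nontrivial_symp (F := F) hj
    obtain ⟨w, hw⟩ := exists_ne (0 : Fin j ⊕ Fin j → F)
    have h1 := hx (ψ.symm (w, 0))
    rw [e] at h1
    simp at h1
    exact hw (hfix w h1.symm)
  · rw [hR, LinearMap.finrank_range_of_inj (fun a b hab => by simpa using congrArg (fun w => (ψ w).1) hab), finrank_symp]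
  · rw [hR]
    rintro _ ⟨w, rfl⟩ h
    have hw : w = 0 := sympB_nondeg.1 w fun w' => by
      have := h _ ⟨w', rfl⟩
      rw [splitE_sympB] at this
      simpa [ψ] using this
    rw [hw, map_zero]

/-- A transvection. -/
theorem exists_tv (hd : 1 ≤ d) : ∃ x : (Fin d ⊕ Fin d → F) ≃ₗ[F] (Fin d ⊕ Fin d → F),
    x ∈ Alt.isoGroup (sympB d F) ∧ x ^ p = 1 ∧ x ≠ 1 ∧
      finrank F (LinearMap.range (x.toLinearMap - LinearMap.id)) = 1 := by
  have hne := nontrivial_symp (F := F) hd
  obtain ⟨u, hu⟩ := exists_ne (0 : Fin d ⊕ Fin d → F)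
  obtain ⟨w, hw⟩ : ∃ w, sympB d F u w ≠ 0 := by
    by_contra h
    push Not at h
    exact hu (sympB_nondeg.1 u h)
  have huu : sympB d F u u = 0 := sympB_isAlt u
  let N : Module.End F (Fin d ⊕ Fin d → F) := (sympB d F u).smulRight u
  let x : (Fin d ⊕ Fin d → F) ≃ₗ[F] (Fin d ⊕ Fin d → F) := LinearEquiv.ofLinear (LinearMap.id + N) (LinearMap.id - N)
    (LinearMap.ext fun v => by simp [N, huu]) (LinearMap.ext fun v => by simp [N, huu])
  have hx : ∀ v, x v = v + sympB d F u v • u := fun v => rfl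
  have hxn : ∀ (n : ℕ) v, (x ^ n) v = v + ((n : F) * sympB d F u v) • u := by
    intro n
    induction n with
    | zero => intro v; simp
    | succ n ih =>
      intro v
      rw [pow_succ', LinearEquiv.mul_apply, ih, hx, map_add, map_smul, huu, smul_zero, add_zero, add_assoc, ← add_smul,
        Nat.cast_succ, add_mul, one_mul]
  refine ⟨x, fun a b => ?_, LinearEquiv.ext fun v => ?_, fun e => ?_, ?_⟩
  · rw [hx, hx]
    simp only [map_add, map_smul, LinearMap.add_apply, LinearMap.smul_apply, smul_eq_mul, huu, mul_zero, add_zero]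
    rw [Alt.neg' sympB_isAlt u a]
    ring
  · rw [hxn, CharP.cast_eq_zero F p, zero_mul, zero_smul, add_zero]
    rfl
  · have := LinearEquiv.congr_fun e w
    rw [hx] at this
    simp [hw, hu] at this
  · have e : x.toLinearMap - LinearMap.id = N := LinearMap.ext fun v => by simp [hx, N]
    rw [e]
    refine le_antisymm ((Submodule.finrank_mono ?_).trans (finrank_span_singleton hu).le) (Nat.pos_of_ne_zero fun h0 => ?_)
    · rintro _ ⟨v, rfl⟩
      exact Submodule.mem_span_singleton.2 ⟨_, rfl⟩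
    · have := LinearMap.congr_fun (LinearMap.range_eq_bot.1 (Submodule.finrank_eq_zero.1 h0)) w
      simp [N, hw, hu] at this

/-- No conjugate of `x` normalises the field. -/
theorem no_conj {K : Subalgebra F (Matrix (Fin d ⊕ Fin d) (Fin d ⊕ Fin d) F)} {L : Type*} [Field L] [Algebra F L]
    [FiniteDimensional F L] [Module L (Fin d ⊕ Fin d → F)] [IsScalarTower F L (Fin d ⊕ Fin d → F)]
    (hE : Ext.IsExt (sympB d F) L) (j : L → Matrix (Fin d ⊕ Fin d) (Fin d ⊕ Fin d) F)
    (hj : ∀ (l : L) v, l • v = j l *ᵥ v) (hjK : ∀ k, k ∈ K ↔ ∃ l, j l = k) {r : ℕ} (hr : r.Prime)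
    (hk : (finrank F L).Prime) {x : (Fin d ⊕ Fin d → F) ≃ₗ[F] (Fin d ⊕ Fin d → F)} (hxr : x ^ r = 1) (hx1 : x ≠ 1)
    (hcrit : r ≠ finrank F L ∨ finrank F (LinearMap.range (x.toLinearMap - LinearMap.id)) < d)
    (hbad : ¬ finrank F L ∣ finrank F (LinearMap.range (x.toLinearMap - LinearMap.id)) ∨
      ((∀ u ∈ LinearMap.range (x.toLinearMap - LinearMap.id),
          (∀ v ∈ LinearMap.range (x.toLinearMap - LinearMap.id), sympB d F u v = 0) → u = 0) ∧
        ¬ 2 * finrank F L ∣ finrank F (LinearMap.range (x.toLinearMap - LinearMap.id))))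
    {e : (Fin d ⊕ Fin d → F) ≃ₗ[F] (Fin d ⊕ Fin d → F)} (he : e ∈ Alt.isoGroup (sympB d F)) :
    (toGL e)⁻¹ * toGL x * toGL e ∉ Cfsg.Geo.subalgebraNormalizer K := by
  haveI : Finite L := Module.finite_of_finite F
  intro hN
  rw [← map_inv, ← map_mul, ← map_mul] at hN
  obtain ⟨y, hy⟩ : ∃ y, e⁻¹ * x * e = y := ⟨_, rfl⟩
  rw [hy] at hN
  have hf : ∀ c : L, ∃ c' : L, ∀ v, y (c • v) = c' • y v := fun c => by
    obtain ⟨c', hc'⟩ := (hjK _).1 ((hN (j c)).1 ((hjK _).2 ⟨c, rfl⟩))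
    refine ⟨c', fun v => ?_⟩
    rw [hj, hj, hc', ← toGL_mulVec y v, ← toGL_mulVec y, Matrix.mulVec_mulVec v, Matrix.mulVec_mulVec v, mul_assoc _ _ (toGL y).1, ← Units.val_mul,
      inv_mul_cancel, Units.val_one, mul_one]
  choose f hf using hf
  have hyr : y ^ r = 1 := by
    rw [← hy]
    have hc' := conj_pow (a := e⁻¹) (b := x) (i := r)
    rw [inv_inv, hxr, mul_one, inv_mul_cancel] at hc'
    exact hc'
  have hyv : ∀ v, y v = e.symm (x (e v)) := fun v => by rw [← hy]; rfl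
  have hy1 : y ≠ 1 := fun h => hx1 (LinearEquiv.ext fun v => by
    obtain ⟨v, rfl⟩ := e.surjective v
    have := hyv v
    rw [h] at this
    exact (e.eq_symm_apply.1 this).symm)
  have hR : LinearMap.range (y.toLinearMap - LinearMap.id) =
      (LinearMap.range (x.toLinearMap - LinearMap.id)).map e.symm.toLinearMap := by
    refine le_antisymm ?_ ?_
    · rintro _ ⟨v, rfl⟩
      exact ⟨x (e v) - e v, ⟨e v, rfl⟩, by simp [hyv]⟩
    · rintro _ ⟨_, ⟨v, rfl⟩, rfl⟩
      exact ⟨e.symm v, by simp [hyv]⟩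
  have hdim : finrank F (LinearMap.range (y.toLinearMap - LinearMap.id)) =
      finrank F (LinearMap.range (x.toLinearMap - LinearMap.id)) := by rw [hR, LinearEquiv.finrank_map_eq]
  obtain ⟨-, h1, h2⟩ := Ext.obstruction hE hf hr hk hyr hy1 (by
    rw [hdim, finrank_symp]
    exact hcrit.imp_right fun h => by omega)
  rw [hdim] at h1 h2
  rcases hbad with h | ⟨hnd, h⟩
  · exact h h1
  · refine h (h2 fun u hu hall => ?_)
    rw [hR] at hu hall
    obtain ⟨u', hu', rfl⟩ := hu
    have key : ∀ a b, sympB d F (e.symm a) (e.symm b) = sympB d F a b := fun a b => by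
      have := he (e.symm a) (e.symm b)
      rw [LinearEquiv.apply_symm_apply, LinearEquiv.apply_symm_apply] at this
      exact this.symm
    have h0 : u' = 0 := hnd u' hu' fun v hv => by
      rw [← key]
      exact hall _ ⟨v, hv, rfl⟩
    rw [h0, map_zero]

theorem main {L : Type*} [Field L] [Algebra F L] [FiniteDimensional F L] {k : ℕ} (hk : k.Prime) (hkn : finrank F L = k)
    (hd : 2 ≤ d) (K : Subalgebra F (Matrix (Fin d ⊕ Fin d) (Fin d ⊕ Fin d) F))
    (φ : L →ₐ[F] Matrix (Fin d ⊕ Fin d) (Fin d ⊕ Fin d) F) (hjK : ∀ y, y ∈ K ↔ ∃ l, φ l = y)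
    (hKf : Cfsg.Geo.IsSelfAdjointFor (Cfsg.sympForm d F) K) (hKalt : ∀ a ∈ K, ∀ v : Fin d ⊕ Fin d → F, Cfsg.sympForm d F (a *ᵥ v) v = 0)
    (_hp : p.Prime) {r : ℕ} [Fact r.Prime] (hΩ : r ∣ (Cfsg.Geo.subalgebraNormalizer K).relIndex (Cfsg.spGL d F)) :
    (∀ x ∈ Cfsg.spGL d F, (∃ z : F, ((x ^ r : GL (Fin d ⊕ Fin d) F) : Matrix (Fin d ⊕ Fin d) (Fin d ⊕ Fin d) F) = z • (1 : Matrix (Fin d ⊕ Fin d) (Fin d ⊕ Fin d) F)) →
      (∀ z : F, (x : Matrix (Fin d ⊕ Fin d) (Fin d ⊕ Fin d) F) ≠ z • (1 : Matrix (Fin d ⊕ Fin d) (Fin d ⊕ Fin d) F)) →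
      ∃ g ∈ Cfsg.spGL d F, g⁻¹ * x * g ∈ Cfsg.Geo.subalgebraNormalizer K) ↔
    (r = 2 ∧ d = 2 ∧ k = 2 ∧ Odd (Fintype.card F)) := by
  classical
  have hd1 : 1 ≤ d := by omega
  letI : Module L (Fin d ⊕ Fin d → F) := Module.compHom _ (Matrix.toLinAlgEquiv'.toAlgHom.comp φ).toRingHom
  haveI : IsScalarTower F L (Fin d ⊕ Fin d → F) := ⟨fun a l v => by
    show (Matrix.toLinAlgEquiv'.toAlgHom.comp φ) (a • l) v = a • (Matrix.toLinAlgEquiv'.toAlgHom.comp φ) l v
    rw [map_smul, LinearMap.smul_apply]⟩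
  have hj : ∀ (l : L) (v : Fin d ⊕ Fin d → F), l • v = φ l *ᵥ v := fun l v => Matrix.toLinAlgEquiv'_apply _ _
  have hf : ∀ u v, Cfsg.sympForm d F u v = sympB d F u v := fun u v => (sympB_apply u v).symm
  have hE : Ext.IsExt (sympB d F) L :=
    ⟨fun c x z => by rw [hj, hj, ← hf, ← hf]; exact hKf _ ((hjK _).2 ⟨c, rfl⟩) x z,
      fun c x => by rw [hj, ← hf]; exact hKalt _ ((hjK _).2 ⟨c, rfl⟩) x⟩
  obtain ⟨m, hm⟩ : k ∣ d := by
    have h := Ext.two_mul_dvd hE sympB_nondeg
    rw [hkn, finrank_symp] at h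
    exact Nat.dvd_of_mul_dvd_mul_left two_pos h
  have hr : r.Prime := Fact.out
  set q := Fintype.card F with hq
  constructor
  · intro hall
    by_contra hcon
    suffices ∃ x : (Fin d ⊕ Fin d → F) ≃ₗ[F] (Fin d ⊕ Fin d → F), x ∈ Alt.isoGroup (sympB d F) ∧ x ^ r = 1 ∧ x ≠ 1 ∧
        (∀ z : F, (toGL x).1 ≠ z • (1 : Matrix (Fin d ⊕ Fin d) (Fin d ⊕ Fin d) F)) ∧
        (r ≠ k ∨ finrank F (LinearMap.range (x.toLinearMap - LinearMap.id)) < d) ∧
        (¬ k ∣ finrank F (LinearMap.range (x.toLinearMap - LinearMap.id)) ∨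
          ((∀ u ∈ LinearMap.range (x.toLinearMap - LinearMap.id),
              (∀ v ∈ LinearMap.range (x.toLinearMap - LinearMap.id), sympB d F u v = 0) → u = 0) ∧
            ¬ 2 * k ∣ finrank F (LinearMap.range (x.toLinearMap - LinearMap.id)))) by
      obtain ⟨x, hx, hxr, hx1, hns, hcrit, hbad⟩ := this
      obtain ⟨g, hg, hgN⟩ := hall (toGL x) ((mem_sp x).2 hx) ⟨1, by rw [← map_pow, hxr, map_one, one_smul]; rfl⟩ hns
      obtain ⟨e, rfl⟩ := exists_equiv g
      exact no_conj hE (fun l : L => φ l) hj hjK hr (hkn.symm ▸ hk) hxr hx1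
        (by rw [hkn]; exact hcrit) (by rw [hkn]; exact hbad) ((mem_sp e).1 hg) hgN
    by_cases hrp : r = p
    · subst hrp
      obtain ⟨x, hx, hxr, hx1, hrk⟩ := exists_tv (F := F) (p := r) hd1
      exact ⟨x, hx, hxr, hx1, scalar_ne (by omega) hx1, Or.inr (by omega),
        Or.inl (by rw [hrk]; exact fun h => hk.ne_one (Nat.dvd_one.1 h))⟩
    by_cases hr2 : r = 2
    · subst hr2
      have hodd : Odd q := by
        obtain ⟨n, hp', hn⟩ := FiniteField.card F p
        rw [hq, hn]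
        exact (hp'.odd_of_ne_two fun h => hrp h.symm).pow
      have hd3 : 3 ≤ d := by
        by_contra hlt
        have hd2 : d = 2 := by omega
        have hk2 : k = 2 := (Nat.prime_dvd_prime_iff_eq hk Nat.prime_two).1 ⟨m, hd2.symm.trans hm⟩
        exact hcon ⟨rfl, hd2, hk2, hodd⟩
      have h2 : (2 : F) ≠ 0 := by
        have hc : ringChar F ≠ 2 := fun e => by
          have := (FiniteField.even_card_iff_char_two).1 e
          exact (Nat.not_even_iff_odd.2 hodd) (Nat.even_iff.2 this)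
        exact Ring.two_ne_zero hc
      obtain ⟨x, hx, hxr, hx1, hrk, hnd⟩ := exists_block (d := d) (p := p) (r := 2) hrp le_rfl hd1
        ⟨LinearEquiv.neg F, fun u v => by simp, LinearEquiv.ext fun v => by simp [pow_two],
          fun v hv => by
            have : (2 : F) • v = 0 := by rw [two_smul]; nth_rw 1 [← hv]; simp
            exact (smul_eq_zero.1 this).resolve_left h2⟩
      refine ⟨x, hx, hxr, hx1, scalar_ne (by omega) hx1, Or.inr (by omega), Or.inr ⟨hnd, ?_⟩⟩
      rw [hrk, mul_one]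
      intro h
      have := Nat.le_of_dvd two_pos h
      have := hk.two_le
      omega
    -- odd `r ≠ p`
    set S := (Cfsg.Geo.subalgebraNormalizer K).subgroupOf (Cfsg.spGL d F)
    have hle : (Ext.linIso (sympB d F) L).map toGL ≤ Cfsg.Geo.subalgebraNormalizer K ⊓ Cfsg.spGL d F := by
      rintro _ ⟨y, hy, rfl⟩
      refine ⟨?_, (mem_sp y).2 hy.1⟩
      have hfix : ∀ l ∈ K, (toGL y).1 * l * ((toGL y)⁻¹).1 = l := fun l hl => by
        obtain ⟨l', hc'⟩ := (hjK l).1 hl
        have hc : (toGL y).1 * l = l * (toGL y).1 := Matrix.ext_of_mulVec_single fun i => by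
          rw [← Matrix.mulVec_mulVec, ← Matrix.mulVec_mulVec, toGL_mulVec, toGL_mulVec,
            ← hc', ← hj, ← hj]
          exact hy.2 _ _
        rw [hc, mul_assoc, ← Units.val_mul, mul_inv_cancel, Units.val_one, mul_one]
      intro l
      refine ⟨fun hl => by rw [hfix l hl]; exact hl, fun hl => ?_⟩
      have h := hfix _ hl
      exact ((Units.mul_right_inj (toGL y)).1 ((Units.mul_left_inj (toGL y)⁻¹).1 h)) ▸ hl
    have hdvd1 : Nat.card (Ext.linIso (sympB d F) L) ∣ Nat.card S := by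
      rw [← Subgroup.card_map_of_injective (K := Ext.linIso (sympB d F) L) toGL_injective]
      refine (Subgroup.card_dvd_of_le hle).trans ?_
      rw [← Nat.card_congr (Subgroup.subgroupOfEquivOfLe (inf_le_right (a := Cfsg.Geo.subalgebraNormalizer K))).toEquiv,
        Subgroup.inf_subgroupOf_right]
    haveI : Finite ((Fin d ⊕ Fin d → F) ≃ₗ[F] (Fin d ⊕ Fin d → F)) := Finite.of_injective _ toGL_injective
    have hS : Nat.card (Cfsg.spGL d F) = q ^ (d ^ 2) * ∏ i ∈ Finset.range d, (q ^ (2 * (i + 1)) - 1) := by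
      rw [spGL_eq, Subgroup.card_map_of_injective toGL_injective, ← Nat.card_congr (spEquiv d F).toEquiv,
        card_symplecticGroup rfl]
    have hdvd2 : r * Nat.card (Ext.linIso (sympB d F) L) ∣ Nat.card (Cfsg.spGL d F) := by
      rw [← Subgroup.card_mul_index S, mul_comm r]
      exact mul_dvd_mul hdvd1 hΩ
    rw [hS, Ext.card_linIso hE sympB_nondeg (m := m) (by rw [hkn, finrank_symp, hm]), hkn, ← hq] at hdvd2
    have hrq : ¬ r ∣ q := fun h => hrp (by
      obtain ⟨n, hp', hn⟩ := FiniteField.card F p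
      rw [hq, hn] at h
      exact (Nat.prime_dvd_prime_iff_eq hr hp').1 (hr.dvd_of_dvd_pow h))
    have hq2 : 2 ≤ q := Fintype.one_lt_card
    have hex : ∃ j, 1 ≤ j ∧ j ≤ d ∧ (q : ZMod r) ^ (2 * j) = 1 ∧ ¬ k ∣ j := by
      have hsplit : (∏ i ∈ Finset.range d, (q ^ (2 * (i + 1)) - 1)) =
          (∏ i ∈ (Finset.range d).filter (fun i => ¬ k ∣ i + 1), (q ^ (2 * (i + 1)) - 1)) *
            ∏ i ∈ Finset.range m, ((q ^ k) ^ (2 * (i + 1)) - 1) := by
        rw [mul_comm, ← Finset.prod_filter_mul_prod_filter_not (Finset.range d) (fun i => k ∣ i + 1)]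
        congr 1
        have hk1 := hk.one_le
        refine (Finset.prod_nbij (fun i => k * (i + 1) - 1) (fun i hi => ?_) ?_ ?_ (fun i _ => ?_)).symm
        · have hi' : i + 1 ≤ m := Finset.mem_range.1 hi
          have h1 : 1 ≤ k * (i + 1) := Nat.one_le_iff_ne_zero.2 (by positivity)
          have h2 : k * (i + 1) ≤ k * m := Nat.mul_le_mul_left k hi'
          refine Finset.mem_filter.2 ⟨Finset.mem_range.2 (by omega), ?_⟩
          rw [Nat.sub_add_cancel h1]
          exact dvd_mul_right k _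
        · intro a _ b _ (hab : k * (a + 1) - 1 = k * (b + 1) - 1)
          have h1 : 1 ≤ k * (a + 1) := Nat.one_le_iff_ne_zero.2 (by positivity)
          have h2 : 1 ≤ k * (b + 1) := Nat.one_le_iff_ne_zero.2 (by positivity)
          have := Nat.eq_of_mul_eq_mul_left hk.pos (show k * (a + 1) = k * (b + 1) by omega)
          omega
        · intro b hb
          obtain ⟨hb1, c, hc⟩ := Finset.mem_filter.1 hb
          have hb1' := Finset.mem_range.1 hb1
          have hc0 : c ≠ 0 := fun e => by rw [e, mul_zero] at hc; omega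
          have hcm : c ≤ m := Nat.le_of_mul_le_mul_left (show k * c ≤ k * m by omega) hk.pos
          refine ⟨c - 1, Finset.mem_range.2 (by omega), ?_⟩
          show k * (c - 1 + 1) - 1 = b
          rw [Nat.sub_add_cancel (Nat.one_le_iff_ne_zero.2 hc0)]
          omega
        · have h1 : 1 ≤ k * (i + 1) := Nat.one_le_iff_ne_zero.2 (by positivity)
          rw [Nat.sub_add_cancel h1, ← pow_mul, mul_left_comm]
      rw [hsplit, ← mul_assoc, ← mul_assoc] at hdvd2
      have hpos : 0 < ∏ i ∈ Finset.range m, ((q ^ k) ^ (2 * (i + 1)) - 1) := Finset.prod_pos fun i _ =>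
        Nat.sub_pos_of_lt (Nat.one_lt_pow (by omega) (Nat.one_lt_pow hk.ne_zero hq2))
      have h1 : r ∣ q ^ d ^ 2 * ∏ i ∈ (Finset.range d).filter (fun i => ¬ k ∣ i + 1), (q ^ (2 * (i + 1)) - 1) :=
        (Dvd.intro _ rfl).trans (Nat.dvd_of_mul_dvd_mul_right hpos hdvd2)
      obtain ⟨i, hi, hri⟩ := (Prime.dvd_finsetProd_iff hr.prime _).1
        ((hr.dvd_mul.1 h1).resolve_left fun h => hrq (hr.dvd_of_dvd_pow h))
      obtain ⟨hi1, hi2⟩ := Finset.mem_filter.1 hi
      refine ⟨i + 1, by omega, Finset.mem_range.1 hi1, ?_, hi2⟩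
      have h0 := (ZMod.natCast_eq_zero_iff _ r).2 hri
      rw [Nat.cast_sub (Nat.one_le_pow _ _ (by omega))] at h0
      push_cast at h0
      exact sub_eq_zero.1 h0
    obtain ⟨i₀, hi₀1, hi₀d, hi₀, hi₀k⟩ := hex
    have hex' : ∃ j, 1 ≤ j ∧ (q : ZMod r) ^ (2 * j) = 1 := ⟨i₀, hi₀1, hi₀⟩
    let j := Nat.find hex'
    obtain ⟨hj1, hjq⟩ := Nat.find_spec hex'
    have hjdvd : ∀ i, (q : ZMod r) ^ (2 * i) = 1 → j ∣ i := fun i h1 => by
      rw [Nat.dvd_iff_mod_eq_zero]
      by_contra hne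
      refine Nat.find_min hex' (Nat.mod_lt i hj1) ⟨Nat.pos_of_ne_zero hne, ?_⟩
      rw [show 2 * i = 2 * (i % j) + (2 * j) * (i / j) by rw [mul_assoc, ← mul_add, Nat.mod_add_div], pow_add,
        pow_mul _ (2 * j), hjq, one_pow, mul_one] at h1
      exact h1
    have hjd : j ≤ d := (Nat.le_of_dvd hi₀1 (hjdvd i₀ hi₀)).trans hi₀d
    have hjk : ¬ k ∣ j := fun h => hi₀k (h.trans (hjdvd i₀ hi₀))
    have hdvdj : r ∣ (q ^ j) ^ 2 - 1 := by
      rw [← ZMod.natCast_eq_zero_iff, Nat.cast_sub (Nat.one_le_pow _ _ (Nat.one_le_pow _ _ (by omega)))]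
      push_cast
      rw [← pow_mul, mul_comm, hjq, sub_self]
    obtain ⟨x, hx, hxr, hx1, hrk, hnd⟩ := exists_block (d := d) (p := p) (r := r) hrp hj1 hjd
      (exists_fpf (p := p) hrp hr2 hj1 hdvdj)
    have hlt : r = k → 2 * j < d := fun e => by
      have hz : (q : ZMod r) ≠ 0 := by rwa [Ne, ZMod.natCast_eq_zero_iff]
      have h1 : (q : ZMod r) ^ (2 * ((r - 1) / 2)) = 1 := by
        obtain ⟨c, hc⟩ := hr.odd_of_ne_two hr2
        rw [show 2 * ((r - 1) / 2) = r - 1 by omega]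
        exact ZMod.pow_card_sub_one_eq_one hz
      have := hr.two_le
      have h3 := Nat.le_of_dvd (by omega) (hjdvd _ h1)
      have h4 : k ≤ d := Nat.le_of_dvd (by omega) ⟨m, hm⟩
      omega
    refine ⟨x, hx, hxr, hx1, fun z hz => ?_, (Classical.em (r = k)).symm.imp_right fun e => by rw [hrk]; exact hlt e,
      Or.inr ⟨hnd, by rw [hrk]; exact fun h => hjk (Nat.dvd_of_mul_dvd_mul_left two_pos h)⟩⟩
    -- a scalar isometry of odd order is trivial
    have hxv : ∀ v, x v = z • v := fun v => by rw [← toGL_mulVec, hz, Matrix.smul_mulVec, Matrix.one_mulVec]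
    have hne := nontrivial_symp (F := F) hd1
    obtain ⟨u, hu⟩ := exists_ne (0 : Fin d ⊕ Fin d → F)
    obtain ⟨w, hw⟩ : ∃ w, sympB d F u w ≠ 0 := by
      by_contra h
      push Not at h
      exact hu (sympB_nondeg.1 u h)
    have hz2 : z * z = 1 := by
      have h := hx u w
      rw [hxv, hxv, map_smul, map_smul, LinearMap.smul_apply, smul_eq_mul, smul_eq_mul, ← mul_assoc] at h
      exact (mul_eq_right₀ hw).1 h
    obtain ⟨c, hc⟩ := hr.odd_of_ne_two hr2
    have h2 : x ^ 2 = 1 := LinearEquiv.ext fun v => by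
      rw [pow_two, LinearEquiv.mul_apply, hxv, hxv, smul_smul, hz2, one_smul]; rfl
    apply hx1
    rw [hc, pow_succ, pow_mul, h2, one_pow, one_mul] at hxr
    exact hxr
  · rintro ⟨rfl, rfl, rfl, hodd⟩ x hx ⟨z, hz⟩ hns
    obtain ⟨e, rfl⟩ := exists_equiv x
    have he := (mem_sp e).1 hx
    have h2 : (2 : F) ≠ 0 := by
      have hc : ringChar F ≠ 2 := fun e => by
        have := (FiniteField.even_card_iff_char_two).1 e
        exact (Nat.not_even_iff_odd.2 hodd) (Nat.even_iff.2 this)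
      exact Ring.two_ne_zero hc
    have hne' := nontrivial_symp (F := F) hd1
    have hxx : ∀ v, e (e v) = z • v := fun v => by
      rw [← toGL_mulVec e (e v), ← toGL_mulVec e v, Matrix.mulVec_mulVec, ← Units.val_mul, ← pow_two, hz,
        Matrix.smul_mulVec, Matrix.one_mulVec]
    obtain ⟨u, hu⟩ := exists_ne (0 : Fin 2 ⊕ Fin 2 → F)
    obtain ⟨w, hw⟩ : ∃ w, sympB 2 F u w ≠ 0 := by
      by_contra h
      push Not at h
      exact hu (sympB_nondeg.1 u h)
    have hz2 : z * z = 1 := by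
      have h := (he (e u) (e w)).trans (he u w)
      rw [hxx, hxx, map_smul, map_smul, LinearMap.smul_apply, smul_eq_mul, smul_eq_mul, ← mul_assoc] at h
      exact (mul_eq_right₀ hw).1 h
    -- a generator with square a non-square
    obtain ⟨c₀, hc₀⟩ : ∃ c : L, ∀ a : F, c ≠ algebraMap F L a := by
      by_contra hc
      push Not at hc
      have hle : finrank F L ≤ finrank F F :=
        LinearMap.finrank_le_finrank_of_surjective (f := Algebra.linearMap F L) fun c => by
          obtain ⟨a, ha⟩ := hc c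
          exact ⟨a, ha.symm⟩
      rw [hkn, finrank_self] at hle
      omega
    let f : F × F →ₗ[F] L := (Algebra.linearMap F L).coprod (LinearMap.toSpanSingleton F L c₀)
    have hfi : Function.Injective f := (injective_iff_map_eq_zero f).2 fun w hw => by
      have hw' : algebraMap F L w.1 + w.2 • c₀ = 0 := by simpa [f] using hw
      by_cases h0 : w.2 = 0
      · rw [h0, zero_smul, add_zero] at hw'
        exact Prod.ext ((algebraMap F L).injective (hw'.trans (map_zero _).symm)) h0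
      · refine absurd ?_ (hc₀ (-(w.2⁻¹ * w.1)))
        have e1 : algebraMap F L w.2⁻¹ * algebraMap F L w.2 = 1 := by rw [← map_mul, inv_mul_cancel₀ h0, map_one]
        rw [Algebra.smul_def] at hw'
        rw [map_neg, map_mul]
        linear_combination algebraMap F L w.2⁻¹ * hw' - c₀ * e1
    have hfs := (LinearMap.injective_iff_surjective_of_finrank_eq_finrank
      (by rw [Module.finrank_prod, finrank_self, hkn])).1 hfi
    obtain ⟨⟨a, b⟩, hab⟩ := hfs (c₀ * c₀)
    have hab' : algebraMap F L a + algebraMap F L b * c₀ = c₀ * c₀ := by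
      simpa [f, Algebra.smul_def] using hab
    have e2 : algebraMap F L 2⁻¹ * 2 = 1 := by
      rw [show (2 : L) = algebraMap F L 2 by rw [map_ofNat], ← map_mul, inv_mul_cancel₀ h2, map_one]
    set j : L := c₀ - algebraMap F L (b * 2⁻¹)
    set t : F := a + b * 2⁻¹ * (b * 2⁻¹)
    have hjj : j * j = algebraMap F L t := by
      simp only [j, t, map_add, map_mul]
      linear_combination -hab' - algebraMap F L b * c₀ * e2
    have hts : ¬ IsSquare t := by
      rintro ⟨s, hs⟩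
      rw [hs, map_mul] at hjj
      rcases mul_self_eq_mul_self_iff.1 hjj with h | h
      · exact hc₀ (s + b * 2⁻¹) (by rw [map_add, ← h]; simp [j])
      · exact hc₀ (-s + b * 2⁻¹) (by rw [map_add, map_neg, ← h]; simp [j])
    have hspan : ∀ y, y ∈ K ↔ ∃ a' b' : F, y = a' • 1 + b' • (φ j) := by
      intro y
      refine ⟨fun hy => ?_, fun ⟨a', b', e'⟩ => e' ▸ add_mem (K.smul_mem K.one_mem a') (K.smul_mem ((hjK _).2 ⟨j, rfl⟩) b')⟩
      obtain ⟨l', rfl⟩ := (hjK y).1 hy
      obtain ⟨⟨a', b'⟩, hab2⟩ := hfs l'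
      refine ⟨a' + b' * (b * 2⁻¹), b', ?_⟩
      have e3 : f (a', b') = algebraMap F L (a' + b' * (b * 2⁻¹)) + b' • j := by
        simp [f, j, Algebra.smul_def]
        ring
      rw [← hab2, e3, map_add, map_smul, AlgHom.commutes, Algebra.algebraMap_eq_smul_one]
    have hJ : IsSA (sympB 2 F) (Matrix.toLin' (φ j)) t :=
      ⟨fun v => by rw [Matrix.toLin'_apply, ← hj]; exact hE.ha j v,
        fun v => by rw [Matrix.toLin'_apply, Matrix.toLin'_apply, ← hj, ← hj, smul_smul, hjj]; exact algebraMap_smul L _ _⟩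
    obtain ⟨J', ε, hJ', hε, hxJ⟩ := exists_SA h2 sympB_isAlt sympB_nondeg (x := e.toLinearMap) hz2 he hxx hts finrank_symp
    obtain ⟨g, hg, hgJ⟩ := hJ.exists_conj sympB_isAlt sympB_nondeg hJ' hts finrank_symp
    refine ⟨toGL g, (mem_sp g).2 hg, ?_⟩
    rw [← map_inv, ← map_mul, ← map_mul]
    refine mem_norm hspan hε fun v => g.injective ?_
    have hi : ∀ w, g ((g⁻¹ * e * g) w) = e (g w) := fun w => g.apply_symm_apply _
    rw [hi, hgJ, map_smul, hgJ, hi]
    exact hxJ (g v)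

end aux

/-- Elements of prime order of PSp_n(q) and the field-extension subgroups of type Sp_{n/k}(q^k). Here `T = PSp_{2d}(F)` for a field `F` with `q` elements (`d ≥ 2`, `(d, q) ≠ (2, 2)`), realised through the matrices preserving the standard alternating form `f`; `k` is a prime and `K` is a subalgebra of the `2d × 2d` matrices that is a field of degree `k` over `F` whose elements are self-adjoint for `f` and satisfy `f(a v, v) = 0` (so `F^{2d}` becomes a vector space over `K ≅ F_{q^k}` on which `f` is the trace of a `K`-bilinear alternating form); `H` is the subgroup of `T` normalizing `K` — the symplectic maps that are `K`-linear or `K`-semilinear, a subgroup of type Sp_{2d/k}(q^k) (maximality is not assumed). Ω is the set of cosets of `H` in `T`, so an element of `T` of prime order `r` (`x ∈ T` with `x^r` scalar, `x` not scalar) fixes a point of Ω exactly when some `T`-conjugate of `x` normalizes `K`. Let `r` be a prime dividing the index of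 `H`. Then every element of `T` of order `r` fixes a point of Ω if and only if `r = 2`, `d = 2`, `k = 2` and `q` is odd. -/
theorem result {F : Type*} [Field F] [Fintype F] {p : ℕ} [Fact p.Prime] [CharP F p] {q : ℕ} (hq : Fintype.card F = q)
    (d : ℕ) (hd : 2 ≤ d) (hT : (d, q) ≠ (2, 2)) (k : ℕ) (hk : k.Prime)
    (K : Subalgebra F (Matrix (Fin d ⊕ Fin d) (Fin d ⊕ Fin d) F)) (hK : Cfsg.Geo.IsFieldSubalgebra k K)
    (hKf : Cfsg.Geo.IsSelfAdjointFor (Cfsg.sympForm d F) K) (hKalt : ∀ a ∈ K, ∀ v : Fin d ⊕ Fin d → F, Cfsg.sympForm d F (a *ᵥ v) v = 0)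
    (r : ℕ) [Fact r.Prime]
    (hΩ : r ∣ (Cfsg.Geo.subalgebraNormalizer K).relIndex (Cfsg.spGL d F)) :
    (∀ x ∈ Cfsg.spGL d F, (∃ z : F, ((x ^ r : GL (Fin d ⊕ Fin d) F) : Matrix (Fin d ⊕ Fin d) (Fin d ⊕ Fin d) F) = z • (1 : Matrix (Fin d ⊕ Fin d) (Fin d ⊕ Fin d) F)) →
      (∀ z : F, (x : Matrix (Fin d ⊕ Fin d) (Fin d ⊕ Fin d) F) ≠ z • (1 : Matrix (Fin d ⊕ Fin d) (Fin d ⊕ Fin d) F)) →
      ∃ g ∈ Cfsg.spGL d F, g⁻¹ * x * g ∈ Cfsg.Geo.subalgebraNormalizer K) ↔
    (r = 2 ∧ d = 2 ∧ k = 2 ∧ Odd q) := by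
  classical
  subst hq
  have hd1 : 1 ≤ d := by omega
  haveI : Nontrivial K := Module.nontrivial_of_finrank_pos (R := F) (hK.finrank_eq.symm ▸ hk.pos)
  letI : Field K := IsField.toField
    { exists_pair_ne := exists_pair_ne K
      mul_comm := fun a b => Subtype.ext (hK.comm _ a.2 _ b.2)
      mul_inv_cancel := fun {a} ha => by
        obtain ⟨y, hy, h⟩ := hK.inv a.1 a.2 fun h => ha (Subtype.ext h)
        exact ⟨⟨y, hy⟩, Subtype.ext h⟩ }
  haveI : FiniteDimensional F K := Module.finite_of_finrank_pos (hK.finrank_eq.symm ▸ hk.pos)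
  exact main hk hK.finrank_eq hd K K.val (fun y => ⟨fun h => ⟨⟨y, h⟩, rfl⟩, fun ⟨l, hl⟩ => hl ▸ l.2⟩) hKf hKalt (Fact.out : p.Prime) hΩ

end Cfsg.Agent.S5975
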