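import Cfsg.Statements.S5979
import Cfsg.Agent.KronRank.Basic

set_option autoImplicit false
set_option linter.style.haveILetI false
open scoped MatrixGroups
open Cfsg

namespace Cfsg.Agent.S5979

open Matrix Module Cfsg.Agent.KronRank Kronecker

theorem result {F : Type*} [Field F] [Fintype F] {p : ℕ} [Fact p.Prime] [CharP F p] {q : ℕ} (hq : Fintype.card F = q)
    (n a b : ℕ) (hab : n = a * b) (ha : 2 ≤ a) (hlt : a < b) (e : Fin n ≃ Fin a × Fin b) (P : GL (Fin n) F)
    (r : ℕ) [Fact r.Prime]
    (hΩ : r ∣ (Cfsg.Geo.tensorProductSubgroup a b e P).relIndex (Cfsg.Geo.specialLinear (Fin n) F)) :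
    (∀ x ∈ Cfsg.Geo.specialLinear (Fin n) F, (∃ z : F, ((x ^ r : GL (Fin n) F) : Matrix (Fin n) (Fin n) F) = z • (1 : Matrix (Fin n) (Fin n) F)) →
      (∀ z : F, (x : Matrix (Fin n) (Fin n) F) ≠ z • (1 : Matrix (Fin n) (Fin n) F)) →
      ∃ g ∈ Cfsg.Geo.specialLinear (Fin n) F, g⁻¹ * x * g ∈ Cfsg.Geo.tensorProductSubgroup a b e P) ↔
    (r = 2 ∧ a = 2 ∧ Odd q ∧ padicValNat 2 (q - 1) ≤ padicValNat 2 n) := by
  classical
  have hr : r.Prime := Fact.out
  have hp : p.Prime := Fact.out
  obtain ⟨f₀, -, hqp⟩ := FiniteField.card F p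
  rw [hq] at hqp
  have hq2 : 2 ≤ q := hq ▸ Fintype.one_lt_card
  have hn6 : 6 ≤ n := by rw [hab]; calc 6 = 2 * 3 := rfl
                                    _ ≤ a * b := Nat.mul_le_mul ha (by omega)
  have hbn : b < n := by rw [hab]; exact lt_mul_of_one_lt_left (by omega) (by omega)
  have hcu : Nat.card Fˣ = q - 1 := by rw [Nat.card_units, Nat.card_eq_fintype_card, hq]
  have hSL : ∀ g : GL (Fin n) F, g ∈ Cfsg.Geo.specialLinear (Fin n) F ↔ (g : Matrix (Fin n) (Fin n) F).det = 1 :=
    fun g => Units.ext_iff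
  -- membership
  have hmem : ∀ y : GL (Fin n) F, y ∈ Cfsg.Geo.tensorProductSubgroup a b e P ↔
      ∃ (A : GL (Fin a) F) (B : GL (Fin b) F),
        ((P⁻¹ * y * P : GL (Fin n) F) : Matrix (Fin n) (Fin n) F) = (A.1 ⊗ₖ B.1).submatrix e e := by
    intro y
    constructor
    · rintro ⟨k, ⟨g, ⟨A, B, hg⟩, rfl⟩, rfl⟩
      refine ⟨A, B, ?_⟩
      rw [MulEquiv.coe_toMonoidHom, MulEquiv.coe_toMonoidHom, MulAut.conj_apply, mul_assoc, inv_mul_cancel_right,
        inv_mul_cancel_left]
      show Matrix.reindexAlgEquiv F F e.symm (g : Matrix (Fin a × Fin b) (Fin a × Fin b) F) = _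
      rw [hg, Matrix.reindexAlgEquiv_apply, Matrix.reindex_apply, Equiv.symm_symm]
    · rintro ⟨A, B, hAB⟩
      have hu : IsUnit (A.1 ⊗ₖ B.1) := by
        rw [Matrix.isUnit_iff_isUnit_det, Matrix.det_kronecker]
        exact ((Matrix.isUnit_iff_isUnit_det _).1 A.isUnit).pow _ |>.mul (((Matrix.isUnit_iff_isUnit_det _).1 B.isUnit).pow _)
      refine ⟨Cfsg.Geo.glReindex e.symm hu.unit, ⟨hu.unit, ⟨A, B, hu.unit_spec⟩, rfl⟩, ?_⟩
      have e1 : Cfsg.Geo.glReindex e.symm hu.unit = P⁻¹ * y * P := Units.ext (by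
        rw [hAB]
        show Matrix.reindexAlgEquiv F F e.symm (hu.unit : Matrix (Fin a × Fin b) (Fin a × Fin b) F) = _
        rw [hu.unit_spec, Matrix.reindexAlgEquiv_apply, Matrix.reindex_apply, Equiv.symm_symm])
      rw [e1, MulEquiv.coe_toMonoidHom, MulAut.conj_apply]
      group
  have hsub : ∀ M N : Matrix (Fin a × Fin b) (Fin a × Fin b) F,
      M.submatrix e e * N.submatrix e e = (M * N).submatrix e e := fun M N => Matrix.submatrix_mul_equiv M N e e e
  have hsub1 : (1 : Matrix (Fin a × Fin b) (Fin a × Fin b) F).submatrix e e = 1 := Matrix.submatrix_one_equiv e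
  have hsubc : ∀ c : F, (c • (1 : Matrix (Fin a × Fin b) (Fin a × Fin b) F)).submatrix e e = c • 1 := fun c => by
    rw [Matrix.submatrix_smul, Pi.smul_apply, Pi.smul_apply, hsub1]
  -- what a conjugate in the subgroup gives
  have conjdata : ∀ (x g : GL (Fin n) F), g⁻¹ * x * g ∈ Cfsg.Geo.tensorProductSubgroup a b e P →
      ∃ (A : GL (Fin a) F) (B : GL (Fin b) F), (∀ c : F, ((x : Matrix (Fin n) (Fin n) F) - c • 1).rank = (A.1 ⊗ₖ B.1 - c • 1).rank) ∧
        ∀ (k : ℕ) (z : F), ((x ^ k : GL (Fin n) F) : Matrix (Fin n) (Fin n) F) = z • 1 → (A.1 ⊗ₖ B.1) ^ k = z • 1 := by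
    intro x g hH
    obtain ⟨A, B, hAB⟩ := (hmem _).1 hH
    set h := g * P with hh
    have e1 : P⁻¹ * (g⁻¹ * x * g) * P = h⁻¹ * x * h := by rw [hh]; group
    rw [e1] at hAB
    have hc : ∀ c : F, ((h⁻¹ * x * h : GL (Fin n) F) : Matrix (Fin n) (Fin n) F) - c • 1 =
        (h⁻¹).1 * ((x : Matrix (Fin n) (Fin n) F) - c • 1) * h.1 := fun c => by
      rw [Matrix.mul_sub, Matrix.sub_mul, Matrix.mul_smul, Matrix.smul_mul, Matrix.mul_one, ← Units.val_mul,
        ← Units.val_mul, ← Units.val_mul, inv_mul_cancel, Units.val_one]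
    have hdu : ∀ u : GL (Fin n) F, IsUnit u.1.det := fun u => (Matrix.isUnit_iff_isUnit_det _).1 u.isUnit
    refine ⟨A, B, fun c => ?_, fun k z hk => ?_⟩
    · have := hc c
      rw [hAB, ← hsubc c] at this
      have h3 := congrArg Matrix.rank this
      rw [Matrix.rank_mul_eq_left_of_isUnit_det _ _ (hdu h), Matrix.rank_mul_eq_right_of_isUnit_det _ _ (hdu h⁻¹),
        ← Pi.sub_apply, ← Pi.sub_apply, ← Matrix.submatrix_sub, Matrix.rank_submatrix] at h3
      rw [hsubc c] at h3
      exact h3.symm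
    · have h3 : ((h⁻¹ * x * h : GL (Fin n) F) ^ k).1 = z • 1 := by
        rw [show h⁻¹ * x * h = h⁻¹ * x * (h⁻¹)⁻¹ by rw [inv_inv], conj_pow, inv_inv, Units.val_mul, Units.val_mul, hk,
          Matrix.mul_smul, Matrix.smul_mul, Matrix.mul_one, ← Units.val_mul, inv_mul_cancel, Units.val_one]
      rw [Units.val_pow_eq_pow_val, hAB] at h3
      have hp' : ∀ (i : ℕ), ((A.1 ⊗ₖ B.1).submatrix e e) ^ i = ((A.1 ⊗ₖ B.1) ^ i).submatrix e e := by
        intro i
        induction i with
        | zero => rw [pow_zero, pow_zero, hsub1]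
        | succ i ih => rw [pow_succ, ih, hsub, ← pow_succ]
      rw [hp', ← hsubc z] at h3
      ext i j
      have := congrFun (congrFun h3 (e.symm i)) (e.symm j)
      simpa using this
  -- derangement criterion
  have no_kron : ∀ (x : GL (Fin n) F) (c c' : F), c ≠ 0 → ((x : Matrix (Fin n) (Fin n) F) - c • 1).rank < b →
      ¬ a ∣ ((x : Matrix (Fin n) (Fin n) F) - c' • 1).rank →
      ∀ g : GL (Fin n) F, g⁻¹ * x * g ∉ Cfsg.Geo.tensorProductSubgroup a b e P := by
    intro x c c' hc hR hR' g hH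
    obtain ⟨A, B, hrk, -⟩ := conjdata x g hH
    by_cases hA : ∃ t : F, A.1 = t • 1
    · obtain ⟨t, ht⟩ := hA
      refine hR' ?_
      rw [hrk, ht, Matrix.smul_kronecker, ← Matrix.kronecker_smul,
        show (c' • (1 : Matrix (Fin a × Fin b) (Fin a × Fin b) F)) = (1 : Matrix (Fin a) (Fin a) F) ⊗ₖ (c' • (1 : Matrix (Fin b) (Fin b) F)) by
          rw [Matrix.kronecker_smul, Matrix.one_kronecker_one]]
      rw [show (1 : Matrix (Fin a) (Fin a) F) ⊗ₖ (t • B.1) - (1 : Matrix (Fin a) (Fin a) F) ⊗ₖ (c' • (1 : Matrix (Fin b) (Fin b) F)) =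
        (1 : Matrix (Fin a) (Fin a) F) ⊗ₖ (t • B.1 - c' • 1) by
          rw [sub_eq_iff_eq_add, ← Matrix.kronecker_add, sub_add_cancel], rank_one_kron]
      exact dvd_mul_right a _
    · push Not at hA
      have := le_rank_of_nonscalar A.1 B.1 hc hA
      rw [← hrk] at this
      omega
  -- diagonal elements
  have diagE : ∀ w : Fin n → F, (∀ i, w i ≠ 0) → ∃ x : GL (Fin n) F, x.1.det = ∏ i, w i ∧
      (∀ c : F, (x.1 - c • 1).rank = Fintype.card {i // w i - c ≠ 0}) ∧
      (∀ k : ℕ, (x ^ k).1 = Matrix.diagonal fun i => w i ^ k) ∧ x.1 = Matrix.diagonal w := by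
    intro w hw
    have hu : IsUnit (Matrix.diagonal w) := by
      rw [Matrix.isUnit_iff_isUnit_det, Matrix.det_diagonal, isUnit_iff_ne_zero, Finset.prod_ne_zero_iff]
      exact fun i _ => hw i
    refine ⟨hu.unit, by rw [hu.unit_spec, Matrix.det_diagonal], fun c => ?_, fun k => ?_, hu.unit_spec⟩
    · rw [hu.unit_spec, Matrix.smul_one_eq_diagonal, Matrix.diagonal_sub, Matrix.rank_diagonal]
    · rw [Units.val_pow_eq_pow_val, hu.unit_spec, Matrix.diagonal_pow]
      rfl
  let i₀ : Fin n := ⟨0, by omega⟩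
  let i₁ : Fin n := ⟨1, by omega⟩
  have hi01 : i₀ ≠ i₁ := by simp [i₀, i₁]
  have nscal : ∀ (x : GL (Fin n) F) (c : F), (x.1 - c • 1).rank ≠ 0 → (x.1 - c • 1).rank < n → ∀ z : F, x.1 ≠ z • 1 := by
    intro x c h0 h1 z hz
    rw [hz, ← sub_smul] at h0 h1
    rcases eq_or_ne (z - c) 0 with h | h
    · rw [h, zero_smul, Matrix.rank_zero] at h0
      exact h0 rfl
    · rw [Matrix.smul_one_eq_diagonal, Matrix.rank_diagonal, Fintype.card_congr (Equiv.subtypeUnivEquiv fun _ => h),
        Fintype.card_fin] at h1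
      omega
  constructor
  · intro hall
    -- reduce to exhibiting a derangement
    have finish : ∀ (x : GL (Fin n) F) (z : F), x.1.det = 1 → (x ^ r).1 = z • 1 → (∀ z : F, x.1 ≠ z • 1) →
        (∀ g : GL (Fin n) F, g⁻¹ * x * g ∉ Cfsg.Geo.tensorProductSubgroup a b e P) → False := fun x z hd hz hns hno => by
      obtain ⟨g, -, hg⟩ := hall x ((hSL x).2 hd) ⟨z, hz⟩ hns
      exact hno g hg
    by_cases hrp : r = p
    · subst hrp
      exfalso
      have hu : IsUnit (Matrix.transvection i₀ i₁ (1 : F)) := by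
        rw [Matrix.isUnit_iff_isUnit_det, Matrix.det_transvection_of_ne _ _ hi01]
        exact isUnit_one
      have hpow : ∀ k : ℕ, (Matrix.transvection i₀ i₁ (1 : F)) ^ k = Matrix.transvection i₀ i₁ (k : F) := by
        intro k
        induction k with
        | zero => simp [Matrix.transvection]
        | succ k ih => rw [pow_succ, ih, Matrix.transvection_mul_transvection_same _ _ hi01, Nat.cast_succ]
      have hrk : (hu.unit.1 - (1 : F) • 1).rank = 1 := by
        rw [hu.unit_spec, one_smul, Matrix.transvection, add_sub_cancel_left]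
        refine le_antisymm ?_ (Nat.pos_of_ne_zero fun h => ?_)
        · rw [show Matrix.single i₀ i₁ (1 : F) = Matrix.vecMulVec (Pi.single i₀ 1) (Pi.single i₁ 1) by
            rw [Matrix.single_eq_single_vecMulVec_single]]
          exact Matrix.rank_vecMulVec_le _ _
        · have := LinearMap.range_eq_bot.1 (Submodule.finrank_eq_zero.1 h)
          have h2 := congrFun (LinearMap.congr_fun this (Pi.single i₁ 1)) i₀
          simp at h2
      refine finish hu.unit 1 (by rw [hu.unit_spec, Matrix.det_transvection_of_ne _ _ hi01]) ?_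
        (nscal _ 1 (by rw [hrk]; omega) (by rw [hrk]; omega)) (no_kron _ 1 1 one_ne_zero (by rw [hrk]; omega)
          (by rw [hrk, Nat.dvd_one]; omega))
      rw [Units.val_pow_eq_pow_val, hu.unit_spec, hpow, CharP.cast_eq_zero, Matrix.transvection_zero, one_smul]
    have hrF : (r : F) ≠ 0 := fun h =>
      hrp ((Nat.prime_dvd_prime_iff_eq hp hr).1 ((CharP.cast_eq_zero_iff F p r).1 h)).symm
    by_cases hr2 : r = 2
    · subst hr2
      have hqo : Odd q := by
        rw [hqp]
        exact (hp.odd_of_ne_two (Ne.symm hrp)).pow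
      have h2 : (2 : F) ≠ 0 := by exact_mod_cast hrF
      have hneg : (-1 : F) ≠ 1 := fun h => h2 (by linear_combination -h)
      by_cases ha2 : a = 2
      swap
      · exfalso
        let w : Fin n → F := fun i => if i = i₀ ∨ i = i₁ then -1 else 1
        obtain ⟨x, hxd, hxr, hxp, -⟩ := diagE w (fun i => by simp only [w]; split_ifs <;> simp)
        have hrk : (x.1 - (1 : F) • 1).rank = 2 := by
          rw [hxr, Fintype.card_subtype, show Finset.univ.filter (fun i => w i - 1 ≠ 0) = {i₀, i₁} from ?_,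
            Finset.card_pair hi01]
          ext i
          simp only [w, Finset.mem_filter, Finset.mem_univ, true_and, Finset.mem_insert, Finset.mem_singleton]
          split_ifs with h <;> simp [h, sub_ne_zero.2 hneg]
        refine finish x 1 ?_ ?_ (nscal x 1 (by rw [hrk]; omega) (by rw [hrk]; omega)) (no_kron x 1 1 one_ne_zero
          (by rw [hrk]; omega) (by rw [hrk]; exact fun h => ha2 (le_antisymm (Nat.le_of_dvd two_pos h) ha)))
        · rw [hxd, show (∏ i, w i) = ∏ i ∈ ({i₀, i₁} : Finset (Fin n)), w i from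
            (Finset.prod_subset (Finset.subset_univ _) fun i _ hi => by
              simp only [Finset.mem_insert, Finset.mem_singleton] at hi
              simp [w, hi]).symm, Finset.prod_pair hi01]
          simp [w]
        · rw [hxp, one_smul, ← Matrix.diagonal_one]
          congr 1
          funext i
          simp only [w]
          split_ifs <;> norm_num
      refine ⟨rfl, ha2, hqo, not_lt.1 fun hlt' => ?_⟩
      obtain ⟨c, hc⟩ : 2 ^ padicValNat 2 n ∣ n := pow_padicValNat_dvd
      set v := padicValNat 2 n with hv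
      have hco : Odd c := Nat.not_even_iff_odd.1 fun h => by
        obtain ⟨c', rfl⟩ := h
        exact pow_succ_padicValNat_not_dvd (p := 2) (n := n) (by omega) ⟨c', by rw [← hv, hc, pow_succ]; ring⟩
      obtain ⟨d, hd⟩ : 2 ^ (v + 1) ∣ q - 1 := (pow_dvd_pow 2 hlt').trans pow_padicValNat_dvd
      obtain ⟨γ, hγ⟩ := IsCyclic.exists_ofOrder_eq_natCard (α := Fˣ)
      rw [hcu, hd] at hγ
      have hd0 : d ≠ 0 := fun h => by rw [h, mul_zero] at hd; omega
      set s : F := ((γ ^ d : Fˣ) : F) with hsdef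
      have hu : orderOf (γ ^ d) = 2 ^ (v + 1) := by
        rw [orderOf_pow' _ hd0, hγ, Nat.gcd_eq_right (dvd_mul_left _ _), Nat.mul_div_cancel _ (Nat.pos_of_ne_zero hd0)]
      have hs2 : s ^ (2 ^ v) = -1 := by
        refine (mul_self_eq_one_iff.1 ?_).resolve_left fun h => ?_
        · rw [hsdef, ← pow_add, ← two_mul, ← pow_succ', ← Units.val_pow_eq_pow_val, ← hu, pow_orderOf_eq_one, Units.val_one]
        · have h' : (γ ^ d) ^ (2 ^ v) = 1 := Units.ext (by rw [Units.val_pow_eq_pow_val]; exact h)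
          have := Nat.le_of_dvd (by positivity) (orderOf_dvd_of_pow_eq_one h')
          rw [hu] at this
          exact absurd this (not_le.2 (Nat.pow_lt_pow_right (by norm_num) (by omega)))
      have hsn : s ^ n = -1 := by rw [hc, pow_mul, hs2, hco.neg_one_pow]
      have hs0 : s ≠ 0 := Units.ne_zero _
      let w : Fin n → F := fun i => if i = i₀ then -s else s
      obtain ⟨x, hxd, hxr, hxp, -⟩ := diagE w (fun i => by simp only [w]; split_ifs <;> simp [hs0])
      have hrk : (x.1 - s • 1).rank = 1 := by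
        rw [hxr, Fintype.card_eq_one_iff]
        refine ⟨⟨i₀, ?_⟩, fun j => Subtype.ext ?_⟩
        · simp only [w, if_true]
          exact fun h => h2 ((mul_eq_zero.1 (show (2 : F) * s = 0 by linear_combination -h)).resolve_right hs0)
        · by_contra hj
          exact j.2 (by simp [w, hj])
      refine finish x (s * s) ?_ ?_ (nscal x s (by rw [hrk]; omega) (by rw [hrk]; omega))
        (no_kron x s s hs0 (by rw [hrk]; omega) (by rw [hrk, Nat.dvd_one]; omega))
      · have hprod : ∀ j, w j = (if j = i₀ then (-1 : F) else 1) * s := fun j => by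
          simp only [w]; split_ifs <;> ring
        rw [hxd, Finset.prod_congr rfl fun j _ => hprod j, Finset.prod_mul_distrib, Finset.prod_ite_eq']
        simp [hsn]
      · rw [hxp, Matrix.smul_one_eq_diagonal]
        congr 1
        funext i
        simp only [w]
        split_ifs <;> ring
    · exfalso
      have hro : Odd r := hr.odd_of_ne_two hr2
      by_cases hr1 : r ∣ q - 1
      · obtain ⟨ζ, hζ⟩ := exists_prime_orderOf_dvd_card' r (hcu ▸ hr1 : r ∣ Nat.card Fˣ)
        have hζr : (ζ : F) ^ r = 1 := by rw [← Units.val_pow_eq_pow_val, ← hζ, pow_orderOf_eq_one, Units.val_one]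
        have hζ1 : (ζ : F) ≠ 1 := fun h => hr.ne_one (by rw [← hζ, orderOf_eq_one_iff]; exact Units.ext h)
        have hζ2 : (ζ : F)⁻¹ ≠ (ζ : F) := fun h => hr2 (by
          have h' : ζ ^ 2 = 1 := Units.ext (by
            rw [Units.val_pow_eq_pow_val, sq, Units.val_one]
            nth_rw 1 [← h]
            rw [inv_mul_cancel₀ ζ.ne_zero])
          have := orderOf_dvd_of_pow_eq_one h'
          rw [hζ] at this
          exact (Nat.prime_dvd_prime_iff_eq hr Nat.prime_two).1 this)
        let w : Fin n → F := fun i => if i = i₀ then (ζ : F) else if i = i₁ then (ζ : F)⁻¹ else 1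
        obtain ⟨x, hxd, hxr, hxp, -⟩ := diagE w (fun i => by simp only [w]; split_ifs <;> simp)
        have hrk : (x.1 - (1 : F) • 1).rank = 2 := by
          rw [hxr, Fintype.card_subtype, show Finset.univ.filter (fun i => w i - 1 ≠ 0) = {i₀, i₁} from ?_,
            Finset.card_pair hi01]
          ext i
          simp only [w, Finset.mem_filter, Finset.mem_univ, true_and, Finset.mem_insert, Finset.mem_singleton]
          split_ifs with h h' <;> simp [h, sub_ne_zero.2 hζ1, inv_ne_one.2 hζ1, *, sub_eq_zero]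
        have hrk' : (x.1 - (ζ : F) • 1).rank = n - 1 := by
          rw [hxr, Fintype.card_subtype, show Finset.univ.filter (fun i => w i - (ζ : F) ≠ 0) = {i₀}ᶜ from ?_,
            Finset.card_compl, Finset.card_singleton, Fintype.card_fin]
          ext i
          simp only [w, Finset.mem_filter, Finset.mem_univ, true_and, Finset.mem_compl, Finset.mem_singleton]
          split_ifs with h h' <;> simp [h, sub_ne_zero.2 hζ2, sub_ne_zero.2 (Ne.symm hζ1), hi01.symm, *]
        refine finish x 1 ?_ ?_ (nscal x 1 (by rw [hrk]; omega) (by rw [hrk]; omega)) (no_kron x 1 (ζ : F) one_ne_zero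
          (by rw [hrk]; omega) (by
            rw [hrk']
            intro h
            have h1 : a ∣ n - (n - 1) := Nat.dvd_sub (hab ▸ dvd_mul_right a b) h
            rw [show n - (n - 1) = 1 by omega, Nat.dvd_one] at h1
            omega))
        · rw [hxd, show (∏ i, w i) = ∏ i ∈ ({i₀, i₁} : Finset (Fin n)), w i from
            (Finset.prod_subset (Finset.subset_univ _) fun i _ hi => by
              simp only [Finset.mem_insert, Finset.mem_singleton, not_or] at hi
              simp [w, hi.1, hi.2]).symm, Finset.prod_pair hi01]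
          simp [w, hi01.symm]
        · rw [hxp, one_smul, ← Matrix.diagonal_one]
          congr 1
          funext i
          simp only [w]
          split_ifs <;> simp [hζr]
      -- r not dividing q - 1
      have hrq : ¬ r ∣ q := fun h => hrp ((Nat.prime_dvd_prime_iff_eq hr hp).1 (hr.dvd_of_dvd_pow (hqp ▸ h)))
      set ε := orderOf (q : ZMod r) with hε
      have hrn : r ∣ Nat.card (GL (Fin n) F) := hΩ.trans ((Subgroup.index_dvd_card _).trans (Subgroup.card_subgroup_dvd_card _))
      rw [Matrix.card_GL_field, hq] at hrn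
      obtain ⟨i, -, hi⟩ := (Prime.dvd_finsetProd_iff hr.prime _).1 hrn
      have hsplit : ∀ m j, j ≤ m → q ^ m - q ^ j = q ^ j * (q ^ (m - j) - 1) := fun m j hjm => by
        rw [Nat.mul_sub, mul_one, ← pow_add, Nat.add_sub_cancel' hjm]
      rw [hsplit n i i.2.le] at hi
      have hi' := (hr.dvd_mul.1 hi).resolve_left fun hd => hrq (hr.dvd_of_dvd_pow hd)
      have hcast : ∀ m, r ∣ q ^ m - 1 ↔ (q : ZMod r) ^ m = 1 := fun m => by
        rw [← ZMod.natCast_eq_zero_iff, Nat.cast_sub (Nat.one_le_pow _ _ (by omega)), Nat.cast_pow, Nat.cast_one, sub_eq_zero]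
      have hεn : ε ≤ n := (Nat.le_of_dvd (by omega) (orderOf_dvd_of_pow_eq_one ((hcast _).1 hi'))).trans (Nat.sub_le _ _)
      have hε0 : 0 < ε := by
        refine Nat.pos_of_dvd_of_pos (orderOf_dvd_of_pow_eq_one ((hcast _).1 hi')) ?_
        have := i.2
        omega
      obtain ⟨k, hk⟩ : ∃ k, ε + k = n := ⟨n - ε, by omega⟩
      have hre : r ∣ Nat.card (GL (Fin ε) F) := by
        rw [Matrix.card_GL_field, hq]
        refine dvd_trans ?_ (Finset.dvd_prod_of_mem _ (Finset.mem_univ ⟨0, hε0⟩))
        rw [pow_zero, hcast, hε]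
        exact pow_orderOf_eq_one _
      obtain ⟨g₁, hg₁⟩ := exists_prime_orderOf_dvd_card' r hre
      have hcop : (Nat.card Fˣ).Coprime r := by
        rw [hcu]; exact ((Nat.Prime.coprime_iff_not_dvd hr).2 hr1).symm
      have hg₁d : g₁.1.det = 1 := by
        have h1 : Matrix.GeneralLinearGroup.det g₁ ^ r = 1 ^ r := by
          rw [← map_pow, ← hg₁, pow_orderOf_eq_one, map_one, one_pow]
        exact congrArg Units.val ((powCoprime hcop).injective h1)
      let σ : Fin ε ⊕ Fin k ≃ Fin n := finSumFinEquiv.trans (finCongr hk)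
      set X : Matrix (Fin n) (Fin n) F :=
        Matrix.reindexAlgEquiv F F σ (Matrix.fromBlocks g₁.1 0 0 1) with hXdef
      have hXd : X.det = 1 := by
        rw [hXdef, Matrix.det_reindexAlgEquiv, Matrix.det_fromBlocks_zero₂₁, hg₁d, Matrix.det_one, one_mul]
      have hXu : IsUnit X := by rw [Matrix.isUnit_iff_isUnit_det, hXd]; exact isUnit_one
      have hXr : X ^ r = 1 := by
        have hblk : ∀ j : ℕ, (Matrix.fromBlocks g₁.1 0 0 (1 : Matrix (Fin k) (Fin k) F)) ^ j = Matrix.fromBlocks (g₁.1 ^ j) 0 0 1 := by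
          intro j
          induction j with
          | zero => simp
          | succ j ih => rw [pow_succ, ih, Matrix.fromBlocks_multiply]; simp [pow_succ]
        rw [hXdef, ← map_pow, hblk, ← Units.val_pow_eq_pow_val, ← hg₁, pow_orderOf_eq_one, Units.val_one,
          Matrix.fromBlocks_one, map_one]
      have hX1 : X ≠ 1 := by
        rw [hXdef, ← map_one (Matrix.reindexAlgEquiv F F σ), (Matrix.reindexAlgEquiv F F σ).injective.ne_iff,
          ← Matrix.fromBlocks_one, Ne, Matrix.fromBlocks_inj]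
        rintro ⟨h, -⟩
        refine hr.ne_one ?_
        rw [← hg₁, orderOf_eq_one_iff]
        exact Units.ext h
      have hXrk : (X - 1).rank ≤ ε := by
        have e1 : Matrix.fromBlocks g₁.1 0 0 (1 : Matrix (Fin k) (Fin k) F) - 1 =
            Matrix.fromRows (1 : Matrix (Fin ε) (Fin ε) F) 0 * Matrix.fromCols (g₁.1 - 1) (0 : Matrix (Fin ε) (Fin k) F) := by
          rw [Matrix.fromRows_mul_fromCols, ← Matrix.fromBlocks_one, sub_eq_add_neg, Matrix.fromBlocks_neg, Matrix.fromBlocks_add]
          simp [sub_eq_add_neg]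
        rw [hXdef, ← map_one (Matrix.reindexAlgEquiv F F σ), ← map_sub, Matrix.reindexAlgEquiv_apply, Matrix.rank_reindex, e1]
        exact (Matrix.rank_mul_le_left _ _).trans ((Matrix.rank_le_card_width _).trans (Fintype.card_fin ε).le)
      have hxr : (hXu.unit ^ r : GL (Fin n) F).1 = (1 : F) • 1 := by
        rw [Units.val_pow_eq_pow_val, hXu.unit_spec, hXr, one_smul]
      refine finish hXu.unit 1 (by rw [hXu.unit_spec]; exact hXd) hxr (fun z hz => ?_) (fun g hg => ?_)
      · rw [hXu.unit_spec] at hz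
        have hd := hXd
        have h1 := hXr
        rw [hz, smul_pow, one_pow] at h1
        have hz1 : z ^ r = 1 := by
          have := congrFun (congrFun h1 i₀) i₀
          simpa using this
        have hz0 : z ≠ 0 := fun h => by rw [h, zero_pow hr.ne_zero] at hz1; exact zero_ne_one hz1
        have := (powCoprime hcop).injective (show (Units.mk0 z hz0) ^ r = (1 : Fˣ) ^ r from Units.ext (by simp [hz1]))
        exact hX1 (by rw [hz, show z = 1 from congrArg Units.val this, one_smul])
      obtain ⟨A, B, hrk, hpw⟩ := conjdata _ g hg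
      have hM := hpw r 1 hxr
      rw [one_smul, pow_kron] at hM
      have hR := hrk 1
      rw [one_smul, one_smul, hXu.unit_spec] at hR
      -- the left factor is scalar
      obtain ⟨t, ht⟩ : ∃ t : F, A.1 = t • 1 := by
        by_contra hA
        push Not at hA
        have hbR := le_rank_of_nonscalar A.1 B.1 one_ne_zero hA
        rw [one_smul, ← hR] at hbR
        let j₀ : Fin b := ⟨0, by omega⟩
        have hE : ∀ i i', (A.1 ^ r) i i' * (B.1 ^ r) j₀ j₀ = if i = i' then 1 else 0 := fun i i' => by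
          have := congrFun (congrFun hM (i, j₀)) (i', j₀)
          simpa [Matrix.one_apply] using this
        have hBne : (B.1 ^ r) j₀ j₀ ≠ 0 := fun h => by
          have := hE ⟨0, by omega⟩ ⟨0, by omega⟩
          simp [h] at this
        obtain ⟨γ, hγ⟩ := (powCoprime hcop).surjective (Units.mk0 _ hBne)
        have hγ' : (γ : F) ^ r = (B.1 ^ r) j₀ j₀ := by rw [← Units.val_pow_eq_pow_val]; exact congrArg Units.val hγ
        have hA' : ((γ : F) • A.1) ^ r = 1 := by
          ext i i'
          rw [smul_pow, Matrix.smul_apply, smul_eq_mul, hγ', mul_comm, hE, Matrix.one_apply]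
        rcases eq_or_ne ((γ : F) • A.1) 1 with h | h
        · exact hA (γ : F)⁻¹ ((eq_inv_smul_iff₀ γ.ne_zero).2 h)
        · have h1 := order_le_rank hr hrF hA' h
          rw [hq, ← hε] at h1
          have h2 := ((γ : F) • A.1 - 1).rank_le_width
          omega
      rw [ht, Matrix.smul_kronecker, ← Matrix.kronecker_smul,
        show (1 : Matrix (Fin a × Fin b) (Fin a × Fin b) F) = (1 : Matrix (Fin a) (Fin a) F) ⊗ₖ (1 : Matrix (Fin b) (Fin b) F) from
          Matrix.one_kronecker_one.symm,
        show (1 : Matrix (Fin a) (Fin a) F) ⊗ₖ (t • B.1) - (1 : Matrix (Fin a) (Fin a) F) ⊗ₖ (1 : Matrix (Fin b) (Fin b) F) =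
          (1 : Matrix (Fin a) (Fin a) F) ⊗ₖ (t • B.1 - 1) by rw [sub_eq_iff_eq_add, ← Matrix.kronecker_add, sub_add_cancel],
        rank_one_kron] at hR
      have hB1 : (t • B.1) ^ r = 1 := by
        ext j j'
        have := congrFun (congrFun hM (⟨0, by omega⟩, j)) (⟨0, by omega⟩, j')
        rw [ht, smul_pow, one_pow] at this
        rw [smul_pow]
        simpa [Matrix.one_apply] using this
      rcases eq_or_ne (t • B.1) 1 with h | h
      · rw [h, sub_self, Matrix.rank_zero, mul_zero] at hR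
        have h0 := LinearMap.range_eq_bot.1 (Submodule.finrank_eq_zero.1 hR)
        refine hX1 (sub_eq_zero.1 (Matrix.ext_of_mulVec_single fun i => ?_))
        rw [Matrix.zero_mulVec]
        exact LinearMap.congr_fun h0 (Pi.single i 1)
      · have h1 := order_le_rank hr hrF hB1 h
        rw [hq, ← hε] at h1
        have h3 : 2 * (t • B.1 - 1).rank ≤ (X - 1).rank := hR ▸ Nat.mul_le_mul_right _ ha
        omega
  · rintro ⟨rfl, rfl, hqo, hle⟩ x hx ⟨z, hz⟩ -
    have hxd := (hSL x).1 hx
    have hchar : ringChar F ≠ 2 := by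
      rw [ringChar.eq F p]
      intro h
      exact Nat.not_even_iff_odd.2 hqo (by rw [hqp, h, Nat.even_pow]; exact ⟨even_two, f₀.ne_zero⟩)
    have h2 : (2 : F) ≠ 0 := Ring.two_ne_zero hchar
    set X : Matrix (Fin 2 × Fin b) (Fin 2 × Fin b) F := x.1.submatrix e.symm e.symm with hXdef
    have hXd : X.det = 1 := by rw [hXdef, Matrix.det_submatrix_equiv_self, hxd]
    have hXX : X * X = z • 1 := by
      rw [hXdef, Matrix.submatrix_mul_equiv, ← Units.val_mul, ← pow_two, hz, Matrix.submatrix_smul, Pi.smul_apply,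
        Pi.smul_apply, Matrix.submatrix_one_equiv]
    have hz0 : z ≠ 0 := by
      rintro rfl
      haveI : Nonempty (Fin 2 × Fin b) := ⟨(0, ⟨0, by omega⟩)⟩
      have := congrArg Matrix.det hXX
      rw [Matrix.det_mul, hXd, zero_smul, Matrix.det_zero, one_mul] at this
      exact one_ne_zero this
    have hs : ∀ s, s * s = z → s ^ (2 * b) ≠ -1 := by
      intro s hs h
      have hs0 : s ≠ 0 := fun h0 => hz0 (by rw [← hs, h0, zero_mul])
      obtain ⟨d, hd⟩ : 2 ^ padicValNat 2 (q - 1) ∣ q - 1 := pow_padicValNat_dvd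
      have hdo : Odd d := Nat.not_even_iff_odd.1 fun h => by
        obtain ⟨d', rfl⟩ := h
        exact pow_succ_padicValNat_not_dvd (p := 2) (n := q - 1) (by omega)
          ⟨d', by rw [pow_succ]; conv_lhs => rw [hd]
                  ring⟩
      obtain ⟨c, hc⟩ : 2 ^ padicValNat 2 (q - 1) ∣ n := (pow_dvd_pow 2 hle).trans pow_padicValNat_dvd
      have e1 : (s ^ n) ^ d = 1 := by
        rw [← pow_mul, hc, show 2 ^ padicValNat 2 (q - 1) * c * d = (2 ^ padicValNat 2 (q - 1) * d) * c by ring, ← hd,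
          pow_mul, ← hq, FiniteField.pow_card_sub_one_eq_one s hs0, one_pow]
      rw [show n = 2 * b from hab, h, hdo.neg_one_pow] at e1
      exact h2 (by linear_combination -e1)
    obtain ⟨A, B, hG⟩ := exists_normal_form h2 (by omega) hz0 hXX hXd hs
    obtain ⟨G, hGd, hXG⟩ := hG P.1.det ((Matrix.isUnit_iff_isUnit_det _).1 P.isUnit).ne_zero
    have hGu : IsUnit (G.submatrix e e) := by
      rw [Matrix.isUnit_iff_isUnit_det, Matrix.det_submatrix_equiv_self, hGd]
      exact (Matrix.isUnit_iff_isUnit_det _).1 P.isUnit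
    have hxG : x.1 * G.submatrix e e = G.submatrix e e * (A.1 ⊗ₖ B.1).submatrix e e := by
      rw [hsub, ← hXG, ← hsub, hXdef, Matrix.submatrix_submatrix, Equiv.symm_comp_self, Matrix.submatrix_id_id]
    refine ⟨hGu.unit * P⁻¹, (hSL _).2 ?_, (hmem _).2 ⟨A, B, ?_⟩⟩
    · have h1 : P.1.det * (P⁻¹).1.det = 1 := by rw [← Matrix.det_mul, ← Units.val_mul, mul_inv_cancel, Units.val_one, Matrix.det_one]
      rw [Units.val_mul, Matrix.det_mul, hGu.unit_spec, Matrix.det_submatrix_equiv_self, hGd, h1]
    · rw [show P⁻¹ * ((hGu.unit * P⁻¹)⁻¹ * x * (hGu.unit * P⁻¹)) * P = hGu.unit⁻¹ * (x * hGu.unit) by group,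
        Units.val_mul, Units.val_mul, show x.1 * hGu.unit.1 = hGu.unit.1 * (A.1 ⊗ₖ B.1).submatrix e e from hxG,
        ← mul_assoc, ← Units.val_mul, inv_mul_cancel, Units.val_one, one_mul]

end Cfsg.Agent.S5979
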