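import Cfsg.Statements.S5980
import Cfsg.Agent.TensorSymp.Elem

set_option autoImplicit false
set_option linter.style.haveILetI false
open scoped MatrixGroups
open Cfsg

namespace Cfsg.Agent.S5980

open Matrix Module Kronecker Cfsg.Agent.KronRank Cfsg.Agent.Classical Cfsg.Agent.SkewStruct Cfsg.Agent.TensorSymp

variable {F : Type*} [Field F] [Fintype F]

/-- The model Gram form on `F² ⊗ F^b`. -/
def gram {b : ℕ} (κ : Fin b → F) (u v : Fin 2 × Fin b → F) : F :=
  ∑ j, κ j * (u (0, j) * v (1, j) - u (1, j) * v (0, j))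

/-- Tensor coordinates for an isometry with scalar square. -/
theorem exists_frame_coords {d : ℕ} (h2 : (2 : F) ≠ 0) (κ : Fin d → F) (hκ : ∀ j, κ j ≠ 0)
    {x : Module.End F (Fin d ⊕ Fin d → F)} {z : F} (hz : z * z = 1) (hx : ∀ u v, sympB d F (x u) (x v) = sympB d F u v)
    (hxx : ∀ v, x (x v) = z • v) :
    ∃ (A : GL (Fin 2) F) (w : Fin d → F) (L : (Fin 2 × Fin d → F) ≃ₗ[F] (Fin d ⊕ Fin d → F)),
      (∀ j, w j ≠ 0) ∧ (∀ u v, sympB d F (L u) (L v) = gram κ u v) ∧
        ∀ u, x (L u) = L ((A.1 ⊗ₖ Matrix.diagonal w) *ᵥ u) := by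
  classical
  have hA := sympB_isAlt (F := F) (m := d)
  have hN := sympB_nondeg (F := F) (m := d)
  have hmv : ∀ (A : Matrix (Fin 2) (Fin 2) F) (w : Fin d → F) u i j,
      ((A ⊗ₖ Matrix.diagonal w) *ᵥ u) (i, j) = w j * (A i 0 * u (0, j) + A i 1 * u (1, j)) := by
    intro A w u i j
    simp [Matrix.mulVec, dotProduct, Fintype.sum_prod_type, Fin.sum_univ_two, Matrix.diagonal_apply, mul_ite, ite_mul]
    ring
  -- from a frame to coordinates
  have mk : ∀ (e f : Fin d → (Fin d ⊕ Fin d → F)), Frame (sympB d F) e f → ∀ (M : Fin d → Matrix (Fin 2) (Fin 2) F),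
      (∀ j, (M j) 0 0 * (M j) 1 1 - (M j) 0 1 * (M j) 1 0 = κ j) →
      ∃ L : (Fin 2 × Fin d → F) ≃ₗ[F] (Fin d ⊕ Fin d → F), (∀ u v, sympB d F (L u) (L v) = gram κ u v) ∧
        ∀ u, L u = ∑ j, (M j 0 0 * u (0, j) + M j 0 1 * u (1, j)) • e j +
          ∑ j, (M j 1 0 * u (0, j) + M j 1 1 * u (1, j)) • f j := by
    intro e f hb M hM
    let L₀ : (Fin 2 × Fin d → F) →ₗ[F] (Fin d ⊕ Fin d → F) :=
      { toFun := fun u => ∑ j, (M j 0 0 * u (0, j) + M j 0 1 * u (1, j)) • e j +
          ∑ j, (M j 1 0 * u (0, j) + M j 1 1 * u (1, j)) • f j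
        map_add' := fun u v => by
          simp only [Pi.add_apply, mul_add, add_smul, Finset.sum_add_distrib]
          abel
        map_smul' := fun c u => by
          simp only [Pi.smul_apply, smul_eq_mul, RingHom.id_apply, smul_add, Finset.smul_sum, smul_smul, mul_left_comm _ c,
            ← mul_add] }
    have hgr : ∀ u v, sympB d F (L₀ u) (L₀ v) = gram κ u v := fun u v => by
      show sympB d F (∑ j, _ • e j + ∑ j, _ • f j) (∑ j, _ • e j + ∑ j, _ • f j) = _
      rw [hb.pair hA]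
      refine Finset.sum_congr rfl fun j _ => ?_
      linear_combination (u (0, j) * v (1, j) - u (1, j) * v (0, j)) * hM j
    have hinj : Function.Injective L₀ := (injective_iff_map_eq_zero L₀).2 fun u hu => by
      funext ⟨i, j⟩
      have h1 := hgr u (Pi.single (0, j) 1)
      have h2' := hgr u (Pi.single (1, j) 1)
      rw [hu, map_zero, LinearMap.zero_apply] at h1 h2'
      simp [gram, Pi.single_apply, hκ j] at h1 h2'
      fin_cases i
      · exact h2'
      · exact h1
    exact ⟨LinearEquiv.ofBijective L₀ ⟨hinj, (LinearMap.injective_iff_surjective_of_finrank_eq_finrank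
      (by simp [two_mul])).1 hinj⟩, hgr, fun u => rfl⟩
  by_cases hsq : IsSquare z
  · obtain ⟨s, rfl⟩ := hsq
    have hs : s ≠ 0 := fun e => by simp [e] at hz
    obtain ⟨e, f, hb, hP⟩ := SkewStruct.exists_frame hA hN (fun u v => (hx u v).trans (one_mul _).symm) hxx
      (mul_ne_zero hs hs) (splits_eigen h2 hs hx hxx) finrank_symp
    choose c hc hce hcf using hP
    have hu : IsUnit (Matrix.diagonal ![1, s * s]) := by
      rw [Matrix.isUnit_iff_isUnit_det, Matrix.det_diagonal, isUnit_iff_ne_zero, Fin.prod_univ_two]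
      simp [hs]
    obtain ⟨L, hL, hLu⟩ := mk e f hb (fun j => Matrix.diagonal ![κ j, 1]) (fun j => by simp)
    have hc0 : ∀ j, c j ≠ 0 := fun j h => by have := hc j; rw [h, zero_mul] at this; exact mul_ne_zero hs hs this.symm
    refine ⟨hu.unit, c, L, hc0, hL, fun u => ?_⟩
    rw [hu.unit_spec, hLu, hLu]
    simp only [map_add, map_sum, map_smul, hce, hcf, smul_smul, hmv]
    congr 1 <;> refine Finset.sum_congr rfl fun j _ => ?_ <;> congr 1
    · simp
      ring
    · have k1 : (c j)⁻¹ = s * s * c j := by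
        refine inv_eq_of_mul_eq_one_right ?_
        rw [← hc j] at hz ⊢
        linear_combination hz
      rw [k1]
      simp
      ring
  · have hz1 : z = -1 := (mul_self_eq_one_iff.1 hz).resolve_left fun e => hsq (e ▸ IsSquare.one)
    subst hz1
    have hJ : IsSkew (sympB d F) x (-1) := ⟨fun u v => by
      have h5 := hx u (x v)
      rw [hxx, map_smul, smul_eq_mul, neg_one_mul] at h5
      linear_combination -h5, hxx⟩
    obtain ⟨e, hb⟩ := hJ.exists_frame h2 hA hN hsq finrank_symp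
    have hsol : ∀ j, ∃ α β : F, α ^ 2 + β ^ 2 = κ j := fun j => by
      have hne : ringChar F ≠ 2 := fun h => h2 (by
        haveI := ringChar.of_eq h
        exact CharTwo.two_eq_zero)
      obtain ⟨α, β, h⟩ := FiniteField.exists_root_sum_quadratic (f := (Polynomial.X : Polynomial F) ^ 2)
        (g := Polynomial.X ^ 2 - Polynomial.C (κ j)) (Polynomial.degree_X_pow 2)
        (Polynomial.degree_X_pow_sub_C (by norm_num) _) (FiniteField.odd_card_of_char_ne_two hne)
      exact ⟨α, β, by simp at h; linear_combination h⟩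
    choose α β hαβ using hsol
    have hu : IsUnit !![(0 : F), -1; 1, 0] := by
      rw [Matrix.isUnit_iff_isUnit_det, Matrix.det_fin_two_of]
      simp
    obtain ⟨L, hL, hLu⟩ := mk e (fun i => x (e i)) hb (fun j => !![α j, -β j; β j, α j]) (fun j => by
      simp
      linear_combination hαβ j)
    refine ⟨hu.unit, fun _ => 1, L, fun _ => one_ne_zero, hL, fun u => ?_⟩
    rw [hu.unit_spec, hLu, hLu]
    simp only [map_add, map_sum, map_smul, hxx, smul_smul, hmv]
    rw [add_comm]
    congr 1 <;> refine Finset.sum_congr rfl fun j _ => ?_ <;> congr 1 <;> simp <;> ring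

theorem result {F : Type*} [Field F] [Fintype F] {p : ℕ} [Fact p.Prime] [CharP F p] {q : ℕ} (hq : Fintype.card F = q)
    (hodd : Odd q) (d : ℕ) (hd : 2 ≤ d) (a b : ℕ) (hab : 2 * d = a * b) (ha : Even a) (ha2 : 2 ≤ a) (hb : 3 ≤ b)
    (e : (Fin d ⊕ Fin d) ≃ Fin a × Fin b) (P : GL (Fin d ⊕ Fin d) F)
    (f₁ : (Fin a → F) → (Fin a → F) → F) (f₂ : (Fin b → F) → (Fin b → F) → F)
    (hf₁ : Cfsg.Geo.IsSymplecticForm f₁) (hf₂ : Cfsg.Geo.IsSymmetricForm f₂)
    (hS : Cfsg.Geo.IsTensorFormStructure id (Cfsg.sympForm d F) f₁ f₂ e P)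
    (r : ℕ) [Fact r.Prime]
    (hΩ : r ∣ (Cfsg.Geo.tensorProductSubgroup a b e P).relIndex (Cfsg.spGL d F)) :
    (∀ x ∈ Cfsg.spGL d F, (∃ z : F, ((x ^ r : GL (Fin d ⊕ Fin d) F) : Matrix (Fin d ⊕ Fin d) (Fin d ⊕ Fin d) F) = z • (1 : Matrix (Fin d ⊕ Fin d) (Fin d ⊕ Fin d) F)) →
      (∀ z : F, (x : Matrix (Fin d ⊕ Fin d) (Fin d ⊕ Fin d) F) ≠ z • (1 : Matrix (Fin d ⊕ Fin d) (Fin d ⊕ Fin d) F)) →
      ∃ g ∈ Cfsg.spGL d F, g⁻¹ * x * g ∈ Cfsg.Geo.tensorProductSubgroup a b e P) ↔ (r = 2 ∧ a = 2) := by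
  classical
  subst hq
  have hr : r.Prime := Fact.out
  have hp : p.Prime := Fact.out
  have hne : ringChar F ≠ 2 := fun h => by
    have := (FiniteField.even_card_iff_char_two).1 h
    exact (Nat.not_even_iff_odd.2 hodd) (Nat.even_iff.2 this)
  have h2 : (2 : F) ≠ 0 := Ring.two_ne_zero hne
  let i₀ : Fin d := ⟨0, by omega⟩
  haveI : Nonempty (Fin d ⊕ Fin d) := ⟨Sum.inl i₀⟩
  have haev1 : ∀ {κ : Type} [Fintype κ] [DecidableEq κ] (M : Matrix κ κ F) (c : F),
      Polynomial.aeval M (Polynomial.X - Polynomial.C c) = M - c • 1 := fun M c => by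
    rw [map_sub, Polynomial.aeval_X, Polynomial.aeval_C, Algebra.algebraMap_eq_smul_one]
  have hscalar : ∀ M : Matrix (Fin d ⊕ Fin d) (Fin d ⊕ Fin d) F, (M - 1).rank ≠ 0 → (M - 1).rank < 2 * d → ∀ z : F, M ≠ z • 1 := by
    intro M h0 h1 z hz
    rw [hz, show z • (1 : Matrix (Fin d ⊕ Fin d) (Fin d ⊕ Fin d) F) - 1 = (z - 1) • 1 by rw [sub_smul, one_smul],
      Matrix.smul_one_eq_diagonal, Matrix.rank_diagonal] at h0 h1
    rcases eq_or_ne (z - 1) 0 with h | h
    · simp [h] at h0
    · simp [h, two_mul] at h1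
  constructor
  · intro hall
    by_contra hcon
    rw [not_and] at hcon
    -- the data of a conjugate
    have key : ∀ x : GL (Fin d ⊕ Fin d) F, x ∈ Cfsg.spGL d F → x.1 ^ r = 1 → (∀ z : F, x.1 ≠ z • 1) →
        ∃ (A : GL (Fin a) F) (B : GL (Fin b) F), ∀ f : Polynomial F, (Polynomial.aeval x.1 f).rank = (Polynomial.aeval (A.1 ⊗ₖ B.1) f).rank := by
      intro x hx hxr hns
      obtain ⟨g, -, hg⟩ := hall x hx ⟨1, by rw [Units.val_pow_eq_pow_val, hxr, one_smul]⟩ hns
      exact conj_data e P x g hg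
    -- small rank forces both factors to be scalar
    have small : ∀ x : GL (Fin d ⊕ Fin d) F, x ∈ Cfsg.spGL d F → x.1 ^ r = 1 →
        0 < (x.1 - 1).rank → (x.1 - 1).rank < a → (x.1 - 1).rank < b → False := by
      intro x hx hxr h0 hA hB
      have hlt : (x.1 - 1).rank < 2 * d := by
        rw [hab]; exact hA.trans_le (Nat.le_mul_of_pos_right _ (by omega))
      obtain ⟨A, B, hAB⟩ := key x hx hxr (hscalar _ h0.ne' hlt)
      have hR := hAB (Polynomial.X - Polynomial.C 1)
      rw [haev1, haev1, one_smul] at hR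
      obtain ⟨s, hs⟩ : ∃ s : F, A.1 = s • 1 := by
        by_contra h
        push Not at h
        have := le_rank_of_nonscalar A.1 B.1 (one_ne_zero : (1 : F) ≠ 0) h
        omega
      obtain ⟨t, ht⟩ : ∃ t : F, B.1 = t • 1 := by
        by_contra h
        push Not at h
        have := le_rank_of_nonscalar B.1 A.1 (one_ne_zero : (1 : F) ≠ 0) h
        rw [← rank_swap] at this
        omega
      have h1 := dvd_rank_of_scalar B.1 hs (Polynomial.X - Polynomial.C 1)
      rw [← hAB, haev1, one_smul] at h1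
      have := Nat.le_of_dvd h0 h1
      omega
    by_cases hrp : r = p
    · subst hrp
      obtain ⟨g, hg, hgv⟩ : ∃ g : GL (Fin d ⊕ Fin d) F, g ∈ Cfsg.spGL d F ∧
          g.1 = 1 + Matrix.single (Sum.inl i₀) (Sum.inr i₀) (1 : F) := by
        have hM : (1 + Matrix.single (Sum.inl i₀) (Sum.inr i₀) (1 : F)) ∈ Matrix.symplecticGroup (Fin d) F := by
          rw [mem_symplectic_iff]
          intro u v
          rw [sympB_eq_sum, sympB_eq_sum]
          refine Finset.sum_congr rfl fun i _ => ?_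
          rw [Matrix.add_mulVec, Matrix.add_mulVec, Matrix.one_mulVec, Matrix.one_mulVec, Matrix.single_mulVec, Matrix.single_mulVec]
          rcases eq_or_ne i i₀ with rfl | hi
          · simp
            ring
          · simp [hi, hi.symm]
        refine ⟨((Matrix.isUnit_iff_isUnit_det _).2 (SymplecticGroup.symplectic_det hM)).unit, ?_, IsUnit.unit_spec _⟩
        rw [mem_spGL_iff, IsUnit.unit_spec]
        exact (mem_symplectic_iff _).1 hM
      have hrk : (g.1 - 1).rank = 1 := by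
        rw [hgv, add_sub_cancel_left]
        refine le_antisymm ?_ (Nat.pos_of_ne_zero fun h => ?_)
        · rw [Matrix.single_eq_single_vecMulVec_single]
          exact Matrix.rank_vecMulVec_le _ _
        · have := LinearMap.range_eq_bot.1 (Submodule.finrank_eq_zero.1 h)
          have h3 := congrFun (LinearMap.congr_fun this (Pi.single (Sum.inr i₀) 1)) (Sum.inl i₀)
          simp at h3
      have hgr : g.1 ^ r = 1 := by
        have h3 : Matrix.single (Sum.inl i₀) (Sum.inr i₀) (1 : F) ^ 2 = (0 : Matrix (Fin d ⊕ Fin d) (Fin d ⊕ Fin d) F) := by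
          rw [pow_two, Matrix.single_mul_single_of_ne]
          simp
        haveI : CharP (Matrix (Fin d ⊕ Fin d) (Fin d ⊕ Fin d) F) r := Matrix.charP r
        rw [hgv, add_pow_char_of_commute r (h := Commute.one_left _), one_pow, pow_eq_zero_of_le hp.two_le h3, add_zero]
      exact small g hg hgr (by rw [hrk]; exact one_pos) (by omega) (by omega)
    by_cases hr2 : r = 2
    · subst hr2
      have ha4 : 3 ≤ a := by
        have := hcon rfl
        omega
      let w : Fin d → F := fun i => if i = i₀ then -1 else 1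
      have hw : (Matrix.diagonal w)ᵀ * Matrix.diagonal w = 1 := by
        rw [Matrix.diagonal_transpose, Matrix.diagonal_mul_diagonal, ← Matrix.diagonal_one]
        congr 1
        funext i
        simp only [w]
        split_ifs <;> simp
      obtain ⟨g, hg, hgv⟩ := block_mem _ _ hw
      have hneg : (-1 : F) - 1 ≠ 0 := fun h => h2 (by linear_combination -h)
      have hrk : (g.1 - 1).rank = 2 := by
        rw [hgv, ← Matrix.diagonal_one, Matrix.fromBlocks_diagonal, Matrix.diagonal_sub, Matrix.rank_diagonal,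
          Fintype.card_subtype, show Finset.univ.filter (fun i => Sum.elim w w i - 1 ≠ 0) = {Sum.inl i₀, Sum.inr i₀} from ?_,
          Finset.card_pair (by simp)]
        ext i
        rcases i with i | i <;> simp only [w, Finset.mem_filter, Finset.mem_univ, true_and, Finset.mem_insert,
          Finset.mem_singleton, Sum.elim_inl, Sum.elim_inr] <;> split_ifs with h <;> simp [h, hneg]
      refine small g hg ?_ (by rw [hrk]; exact two_pos) (by omega) (by omega)
      rw [sq, hgv, Matrix.fromBlocks_multiply]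
      have hw2 : Matrix.diagonal w * Matrix.diagonal w = 1 := by rwa [Matrix.diagonal_transpose] at hw
      simp only [Matrix.zero_mul, Matrix.mul_zero, add_zero, zero_add, hw2, Matrix.fromBlocks_one]
    -- r odd and prime to p
    have hrF : (r : F) ≠ 0 := fun h =>
      hrp ((Nat.prime_dvd_prime_iff_eq hp hr).1 ((CharP.cast_eq_zero_iff F p r).1 h)).symm
    set q := Fintype.card F with hqdef
    have hq1 : 1 ≤ q := Fintype.card_pos
    have hrq : ¬ r ∣ q := fun h => hrp (by
      obtain ⟨n, hp', hn⟩ := FiniteField.card F p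
      rw [hqdef, hn] at h
      exact (Nat.prime_dvd_prime_iff_eq hr hp').1 (hr.dvd_of_dvd_pow h))
    have hcard : Nat.card (Cfsg.spGL d F) = q ^ (d ^ 2) * ∏ i ∈ Finset.range d, (q ^ (2 * (i + 1)) - 1) := by
      rw [← card_symplecticGroup (F := F) rfl d]
      refine Nat.card_congr ⟨fun g => ⟨g.1.1, (mem_symplectic_iff _).2 ((mem_spGL_iff g.1).1 g.2)⟩,
        fun A => ⟨((Matrix.isUnit_iff_isUnit_det _).2 (SymplecticGroup.symplectic_det A.2)).unit,
          (mem_spGL_iff _).2 (by rw [IsUnit.unit_spec]; exact (mem_symplectic_iff _).1 A.2)⟩,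
        fun g => Subtype.ext (Units.ext (IsUnit.unit_spec ((Matrix.isUnit_iff_isUnit_det _).2 (SymplecticGroup.symplectic_det ((mem_symplectic_iff _).2 ((mem_spGL_iff g.1).1 g.2)))))),
        fun A => Subtype.ext (IsUnit.unit_spec ((Matrix.isUnit_iff_isUnit_det _).2 (SymplecticGroup.symplectic_det A.2)))⟩
    have hdiv := hΩ.trans (Subgroup.index_dvd_card _)
    rw [hcard] at hdiv
    obtain ⟨i, hi, hri⟩ := (Prime.dvd_finsetProd_iff hr.prime _).1
      ((hr.dvd_mul.1 hdiv).resolve_left fun h => hrq (hr.dvd_of_dvd_pow h))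
    rw [Finset.mem_range] at hi
    have hcast : ∀ m, r ∣ q ^ m - 1 ↔ (q : ZMod r) ^ m = 1 := fun m => by
      rw [← ZMod.natCast_eq_zero_iff, Nat.cast_sub (Nat.one_le_pow _ _ hq1), Nat.cast_pow, Nat.cast_one, sub_eq_zero]
    set ε := orderOf (q : ZMod r) with hε
    have hεd : ε ∣ 2 * (i + 1) := orderOf_dvd_of_pow_eq_one ((hcast _).1 hri)
    have hε0 : 0 < ε := Nat.pos_of_dvd_of_pos hεd (by omega)
    -- the element
    obtain ⟨x, R, hx, hxr, hx1, hxR, hR1, hR2, hpar⟩ : ∃ (x : GL (Fin d ⊕ Fin d) F) (R : ℕ), x ∈ Cfsg.spGL d F ∧ x.1 ^ r = 1 ∧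
        x.1 ≠ 1 ∧ (x.1 - 1).rank ≤ R ∧ R ≤ 2 * d ∧ (if Even ε then R = ε else R = 2 * ε) ∧
          (Odd ε → ∃ f : Polynomial F, Odd (Polynomial.aeval x.1 f).rank) := by
      by_cases hev : Even ε
      · obtain ⟨j, hj⟩ := hev
        have hjd : j ≤ d := by
          have h1 : j ∣ i + 1 := by
            rw [hj, ← two_mul] at hεd
            exact Nat.dvd_of_mul_dvd_mul_left two_pos hεd
          exact (Nat.le_of_dvd (by omega) h1).trans hi
        obtain ⟨x, hx, hxr, hx1, hxR⟩ := exists_elem_even (F := F) (p := p) (r := r) hrp hr2 (j := j) (by omega) hjd (by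
          rw [← hqdef, ← pow_mul, hcast, show j * 2 = ε by omega, hε, pow_orderOf_eq_one])
        refine ⟨x, ε, hx, hxr, hx1, by omega, by omega, by rw [if_pos ⟨j, hj⟩], fun h => ?_⟩
        exact absurd h (Nat.not_odd_iff_even.2 ⟨j, hj⟩)
      · have ho := Nat.not_even_iff_odd.1 hev
        have h1 : ε ∣ i + 1 := (Nat.coprime_two_right.2 ho).dvd_of_dvd_mul_left hεd
        have hεle : ε ≤ d := (Nat.le_of_dvd (by omega) h1).trans hi
        obtain ⟨x, hx, hxr, hx1, hxR, f, hf⟩ := exists_elem_odd (F := F) (p := p) (r := r) hrp hr2 hε ho hεle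
        exact ⟨x, 2 * ε, hx, hxr, hx1, hxR, by omega, by rw [if_neg hev], fun _ => ⟨f, hf⟩⟩
    have hns : ∀ z : F, x.1 ≠ z • 1 := by
      intro z hz
      -- a scalar of odd order preserving the form is trivial
      have hu := (mem_spGL_iff x).1 hx (Pi.single (Sum.inl i₀) 1) (Pi.single (Sum.inr i₀) 1)
      rw [hz, Matrix.smul_mulVec, Matrix.smul_mulVec, Matrix.one_mulVec, Matrix.one_mulVec, map_smul, map_smul,
        LinearMap.smul_apply, sympB_eq_sum, smul_eq_mul, smul_eq_mul, ← mul_assoc] at hu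
      rw [Finset.sum_eq_single i₀ (fun j _ hj => by simp [hj]) (by simp)] at hu
      simp at hu
      have h3 := hxr
      rw [hz, smul_pow, one_pow] at h3
      have hzr : z ^ r = 1 := by
        have := congrFun (congrFun h3 (Sum.inl i₀)) (Sum.inl i₀)
        simpa using this
      rcases mul_self_eq_one_iff.1 hu with h | h
      · exact hx1 (by rw [hz, h, one_smul])
      · rw [h, (hr.odd_of_ne_two hr2).neg_one_pow] at hzr
        exact h2 (by linear_combination -hzr)
    obtain ⟨A, B, hAB⟩ := key x hx hxr hns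
    have hpow : (A.1 ^ r) ⊗ₖ (B.1 ^ r) = 1 := by
      have h1 := hAB (Polynomial.X ^ r - 1)
      rw [map_sub, map_pow, Polynomial.aeval_X, map_one, hxr, sub_self, Matrix.rank_zero, map_sub, map_pow,
        Polynomial.aeval_X, map_one, pow_kron] at h1
      have h0 := LinearMap.range_eq_bot.1 (Submodule.finrank_eq_zero.1 h1.symm)
      refine sub_eq_zero.1 (Matrix.ext_of_mulVec_single fun i => ?_)
      rw [Matrix.zero_mulVec]
      exact LinearMap.congr_fun h0 (Pi.single i 1)
    have hentry : ∀ i i' j j', (A.1 ^ r) i i' * (B.1 ^ r) j j' = if i = i' ∧ j = j' then 1 else 0 := fun i i' j j' => by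
      have := congrFun (congrFun hpow (i, j)) (i', j')
      simpa [Matrix.one_apply] using this
    have hR := hAB (Polynomial.X - Polynomial.C 1)
    rw [haev1, haev1, one_smul, one_smul] at hR
    let a₀ : Fin a := ⟨0, by omega⟩
    let b₀ : Fin b := ⟨0, by omega⟩
    rw [hqdef] at hε
    by_cases hAs : ∃ s : F, A.1 = s • 1
    · obtain ⟨s, hs⟩ := hAs
      by_cases hev : Even ε
      · rw [if_pos hev] at hR2
        have hB1 : (s • B.1) ^ r = 1 := by
          ext j j'
          have := hentry a₀ a₀ j j'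
          rw [hs, smul_pow, one_pow] at this
          rw [smul_pow]
          simpa [Matrix.one_apply] using this
        rw [hs, Matrix.smul_kronecker, ← Matrix.kronecker_smul,
          show (1 : Matrix (Fin a × Fin b) (Fin a × Fin b) F) = (1 : Matrix (Fin a) (Fin a) F) ⊗ₖ (1 : Matrix (Fin b) (Fin b) F) from
            Matrix.one_kronecker_one.symm,
          show (1 : Matrix (Fin a) (Fin a) F) ⊗ₖ (s • B.1) - (1 : Matrix (Fin a) (Fin a) F) ⊗ₖ (1 : Matrix (Fin b) (Fin b) F) =
            (1 : Matrix (Fin a) (Fin a) F) ⊗ₖ (s • B.1 - 1) by rw [sub_eq_iff_eq_add, ← Matrix.kronecker_add, sub_add_cancel],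
          rank_one_kron] at hR
        rcases eq_or_ne (s • B.1) 1 with h | h
        · rw [h, sub_self, Matrix.rank_zero, mul_zero] at hR
          have h0 := LinearMap.range_eq_bot.1 (Submodule.finrank_eq_zero.1 hR)
          refine hx1 (sub_eq_zero.1 (Matrix.ext_of_mulVec_single fun i => ?_))
          rw [Matrix.zero_mulVec]
          exact LinearMap.congr_fun h0 (Pi.single i 1)
        · have h1 := order_le_rank hr hrF hB1 h
          rw [← hε] at h1
          have h3 : 2 * (s • B.1 - 1).rank ≤ (x.1 - 1).rank := hR ▸ Nat.mul_le_mul_right _ ha2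
          omega
      · obtain ⟨f, hf⟩ := hpar (Nat.not_even_iff_odd.1 hev)
        have h1 := dvd_rank_of_scalar B.1 hs f
        rw [← hAB] at h1
        exact Nat.not_even_iff_odd.2 hf (even_iff_two_dvd.2 ((even_iff_two_dvd.1 ha).trans h1))
    push Not at hAs
    have hbR := le_rank_of_nonscalar A.1 B.1 (one_ne_zero : (1 : F) ≠ 0) hAs
    rw [one_smul] at hbR
    have hRε : R ≤ 2 * ε := by split_ifs at hR2 <;> omega
    by_cases hBs : ∃ t : F, B.1 = t • 1
    · obtain ⟨t, ht⟩ := hBs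
      have hA1 : (t • A.1) ^ r = 1 := by
        ext j j'
        have := hentry j j' b₀ b₀
        rw [ht, smul_pow, one_pow] at this
        rw [smul_pow]
        simpa [Matrix.one_apply, mul_comm] using this
      have h4 : (A.1 ⊗ₖ B.1 - (1 : F) • 1).rank = b * (t • A.1 - 1).rank := by
        rw [rank_swap, ht, one_smul, Matrix.smul_kronecker, ← Matrix.kronecker_smul,
          show (1 : Matrix (Fin b × Fin a) (Fin b × Fin a) F) = (1 : Matrix (Fin b) (Fin b) F) ⊗ₖ (1 : Matrix (Fin a) (Fin a) F) from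
            Matrix.one_kronecker_one.symm,
          show (1 : Matrix (Fin b) (Fin b) F) ⊗ₖ (t • A.1) - (1 : Matrix (Fin b) (Fin b) F) ⊗ₖ (1 : Matrix (Fin a) (Fin a) F) =
            (1 : Matrix (Fin b) (Fin b) F) ⊗ₖ (t • A.1 - 1) by rw [sub_eq_iff_eq_add, ← Matrix.kronecker_add, sub_add_cancel],
          rank_one_kron]
      have hne1 : t • A.1 ≠ 1 := fun h => by
        rcases eq_or_ne t 0 with h0 | h0
        · rw [h0, zero_smul] at h
          exact zero_ne_one (show (0 : F) = 1 by simpa using congrFun (congrFun h a₀) a₀)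
        · exact hAs t⁻¹ ((eq_inv_smul_iff₀ h0).2 h)
      have h1 := order_le_rank hr hrF hA1 hne1
      rw [← hε] at h1
      rw [one_smul] at h4
      have h5 : 3 * (t • A.1 - 1).rank ≤ b * (t • A.1 - 1).rank := Nat.mul_le_mul_right _ hb
      omega
    push Not at hBs
    have haR := le_rank_of_nonscalar B.1 A.1 (one_ne_zero : (1 : F) ≠ 0) hBs
    rw [← rank_swap, one_smul] at haR
    have hε2 : ε ≠ 1 := fun h => by
      rw [h, if_neg (by decide)] at hR2
      omega
    have hrq1 : ¬ r ∣ q - 1 := fun h => hε2 (orderOf_eq_one_iff.2 (by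
      have := (hcast 1).1 (by rwa [pow_one])
      rwa [pow_one] at this))
    have hcop : (Nat.card Fˣ).Coprime r := by
      rw [Nat.card_units, Nat.card_eq_fintype_card, ← hqdef]
      exact ((Nat.Prime.coprime_iff_not_dvd hr).2 hrq1).symm
    have hBne : (B.1 ^ r) b₀ b₀ ≠ 0 := fun h => by
      have := hentry a₀ a₀ b₀ b₀
      simp [h] at this
    obtain ⟨γ, hγ⟩ := (powCoprime hcop).surjective (Units.mk0 _ hBne)
    have hγ' : (γ : F) ^ r = (B.1 ^ r) b₀ b₀ := by rw [← Units.val_pow_eq_pow_val]; exact congrArg Units.val hγ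
    have hA' : ((γ : F) • A.1) ^ r = 1 := by
      ext i i'
      rw [smul_pow, Matrix.smul_apply, smul_eq_mul, hγ', mul_comm, hentry, Matrix.one_apply]
      simp
    have hB' : ((γ : F)⁻¹ • B.1) ^ r = 1 := by
      ext j j'
      have h1 : (γ : F) ^ r * (A.1 ^ r) a₀ a₀ = 1 := by
        have := congrFun (congrFun hA' a₀) a₀
        simpa [smul_pow] using this
      have h3 := hentry a₀ a₀ j j'
      have hg0 : (γ : F) ^ r ≠ 0 := pow_ne_zero _ γ.ne_zero
      rw [smul_pow, Matrix.smul_apply, smul_eq_mul, Matrix.one_apply, inv_pow]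
      simp only [true_and] at h3
      rw [inv_mul_eq_iff_eq_mul₀ hg0, ← h3]
      linear_combination -(B.1 ^ r) j j' * h1
    have hA1 := order_le_rank hr hrF hA' fun h => hAs (γ : F)⁻¹ ((eq_inv_smul_iff₀ γ.ne_zero).2 h)
    rw [← hε] at hA1
    have haε : ε ≤ a := hA1.trans (Matrix.rank_le_width _)
    obtain ⟨φ, hφ⟩ := exists_orbit hr hrF hB' fun h => hBs (γ : F) (by
      rw [← h, smul_smul, mul_inv_cancel₀ γ.ne_zero, one_smul])
    rw [← hε] at hφ
    obtain ⟨k, hk⟩ : ∃ k, ε = k + 1 := ⟨ε - 1, by omega⟩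
    rw [hk] at hφ
    have horb := le_rank_of_orbit ((γ : F)⁻¹ • B.1) ((γ : F) • A.1) (one_ne_zero : (1 : F) ≠ 0) hφ
    rw [Matrix.smul_kronecker, Matrix.kronecker_smul, smul_smul, inv_mul_cancel₀ γ.ne_zero, one_smul, ← rank_swap,
      one_smul, ← hR] at horb
    by_cases hev : Even ε
    · rw [if_pos hev] at hR2
      obtain ⟨j, hj⟩ := hev
      by_cases hj1 : j = 1
      · omega
      · have : 3 * a ≤ k * a := Nat.mul_le_mul_right _ (by omega)
        omega
    · obtain ⟨j, hj⟩ := Nat.not_even_iff_odd.1 hev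
      obtain ⟨m, hm⟩ := ha
      rw [if_neg hev] at hR2
      have h6 : 2 * a ≤ k * a := Nat.mul_le_mul_right _ (by omega)
      omega
  · rintro ⟨rfl, rfl⟩ x hx ⟨z, hz⟩ -
    have hdb : d = b := by omega
    subst hdb
    have hx' := (mem_spGL_iff x).1 hx
    have hxx : ∀ v, x.1 *ᵥ (x.1 *ᵥ v) = z • v := fun v => by
      rw [Matrix.mulVec_mulVec, ← Units.val_mul, ← pow_two, hz, Matrix.smul_mulVec, Matrix.one_mulVec]
    have hz2 : z * z = 1 := by
      have h := (hx' (x.1 *ᵥ Pi.single (Sum.inl i₀) 1) (x.1 *ᵥ Pi.single (Sum.inr i₀) 1)).trans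
        (hx' (Pi.single (Sum.inl i₀) 1) (Pi.single (Sum.inr i₀) 1))
      rw [hxx, hxx, map_smul, map_smul, LinearMap.smul_apply, sympB_eq_sum, smul_eq_mul, smul_eq_mul, ← mul_assoc] at h
      rw [Finset.sum_eq_single i₀ (fun j _ hj => by simp [hj]) (by simp)] at h
      simpa using h
    -- the forms
    obtain ⟨c, hc0, hform⟩ := hS
    let G₁ := Cfsg.Geo.gramMatrix f₁
    let G₂ := Cfsg.Geo.gramMatrix f₂
    have hG00 : ∀ i, G₁ i i = 0 := fun i => hf₁.alternating _
    have hG10 : G₁ 1 0 = -G₁ 0 1 := hf₁.skew _ _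
    set B₂ := Matrix.toBilin' G₂ with hB₂
    have hB₂s : LinearMap.IsSymm B₂ := ⟨fun u v => by
      rw [RingHom.id_apply, hB₂, Matrix.toBilin'_apply, Matrix.toBilin'_apply, Finset.sum_comm]
      refine Finset.sum_congr rfl fun i _ => Finset.sum_congr rfl fun j _ => ?_
      rw [show G₂ j i = G₂ i j from hf₂.symm _ _]
      ring⟩
    haveI : Invertible (2 : F) := invertibleOfNonzero h2
    obtain ⟨v₀, hv₀⟩ := LinearMap.BilinForm.exists_orthogonal_basis hB₂s
    let v := v₀.reindex (finCongr (Module.finrank_fin_fun F))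
    have hv : ∀ i j, i ≠ j → B₂ (v i) (v j) = 0 := fun i j hij => by
      simp only [v, Basis.reindex_apply]
      exact hv₀ fun h => hij ((finCongr _).symm.injective h)
    set M : Matrix (Fin d) (Fin d) F := Matrix.of fun i j => v j i with hMdef
    have hMu : IsUnit M := by
      rw [← Matrix.linearIndependent_cols_iff_isUnit]
      exact v.linearIndependent
    let ψ : (Fin 2 × Fin d → F) →ₗ[F] (Fin d ⊕ Fin d → F) :=
      { toFun := fun u => P.1 *ᵥ ((((1 : Matrix (Fin 2) (Fin 2) F) ⊗ₖ M) *ᵥ u) ∘ e)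
        map_add' := fun u w => by
          simp only [Matrix.mulVec_add, Pi.add_comp]
        map_smul' := fun k u => by
          simp only [Matrix.mulVec_smul, Pi.smul_comp, RingHom.id_apply] }
    let κ : Fin d → F := fun j => c * G₁ 0 1 * B₂ (v j) (v j)
    have hψ : ∀ u w, sympB d F (ψ u) (ψ w) = gram κ u w := by
      intro u w
      show sympB d F (P.1 *ᵥ _) (P.1 *ᵥ _) = _
      rw [sympB_apply, hform]
      have e1 : ∀ (y : Fin 2 × Fin d → F) i, (fun j => (((1 : Matrix (Fin 2) (Fin 2) F) ⊗ₖ M) *ᵥ y) (i, j)) = ∑ k, y (i, k) • v k :=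
        fun y i => funext fun j => by
          simp [Matrix.mulVec, dotProduct, Fintype.sum_prod_type, Matrix.one_apply, M, Finset.sum_apply, mul_comm]
      have e2 : ∀ y z : Fin 2 × Fin d → F, Cfsg.Geo.formOfGram id (G₁ ⊗ₖ G₂) y z =
          ∑ i, ∑ i', G₁ i i' * B₂ (fun j => y (i, j)) (fun j => z (i', j)) := by
        intro y z
        simp only [Cfsg.Geo.formOfGram, id, hB₂, Matrix.toBilin'_apply, Matrix.kroneckerMap_apply, Fintype.sum_prod_type,
          Finset.mul_sum]
        refine Finset.sum_congr rfl fun i _ => ?_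
        rw [Finset.sum_comm]
        exact Finset.sum_congr rfl fun i' _ => Finset.sum_congr rfl fun j _ => Finset.sum_congr rfl fun j' _ => by ring
      have e3 : ∀ s t : Fin d → F, B₂ (∑ k, s k • v k) (∑ k, t k • v k) = ∑ k, s k * t k * B₂ (v k) (v k) := by
        intro s t
        simp only [map_sum, LinearMap.sum_apply, map_smul, LinearMap.smul_apply, smul_eq_mul]
        refine Finset.sum_congr rfl fun k _ => ?_
        rw [Finset.sum_eq_single k (fun l _ hl => by rw [hv l k hl]; ring) (by simp)]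
        · ring
      rw [e2, Fin.sum_univ_two, Fin.sum_univ_two, Fin.sum_univ_two]
      simp only [e1, e3, hG00, hG10, zero_mul, zero_add, add_zero, gram, κ, Finset.mul_sum, ← Finset.sum_add_distrib]
      exact Finset.sum_congr rfl fun j _ => by ring
    have hψinj : Function.Injective ψ := fun u w h => by
      have h1 : (((1 : Matrix (Fin 2) (Fin 2) F) ⊗ₖ M) *ᵥ u) ∘ e = (((1 : Matrix (Fin 2) (Fin 2) F) ⊗ₖ M) *ᵥ w) ∘ e :=
        Matrix.mulVec_injective_iff_isUnit.2 P.isUnit h
      refine Matrix.mulVec_injective_iff_isUnit.2 ?_ (e.surjective.injective_comp_right h1)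
      rw [Matrix.isUnit_iff_isUnit_det, Matrix.det_kronecker, Matrix.det_one, one_pow, one_mul]
      exact ((Matrix.isUnit_iff_isUnit_det _).1 hMu).pow _
    let L₀ : (Fin 2 × Fin d → F) ≃ₗ[F] (Fin d ⊕ Fin d → F) := LinearEquiv.ofBijective ψ
      ⟨hψinj, (LinearMap.injective_iff_surjective_of_finrank_eq_finrank (by simp [two_mul])).1 hψinj⟩
    have hκ : ∀ j, κ j ≠ 0 := fun j h => by
      have h1 : ψ (Pi.single (0, j) 1) = 0 := sympB_nondeg.1 _ fun w => by
        obtain ⟨w, rfl⟩ := L₀.surjective w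
        show sympB d F (ψ _) (ψ w) = 0
        rw [hψ]
        simp only [gram]
        refine Finset.sum_eq_zero fun k _ => ?_
        rcases eq_or_ne k j with rfl | hk
        · rw [h, zero_mul]
        · simp [hk]
      have := hψinj (h1.trans (map_zero ψ).symm)
      simpa using congrFun this (0, j)
    obtain ⟨A, w, L, hw, hL, hxL⟩ := exists_frame_coords h2 κ hκ (x := x.1.mulVecLin) hz2
      (fun u v => hx' u v) hxx
    let g₀ := L₀.symm.trans L
    have hg₀ : ∀ u v, sympB d F (g₀ u) (g₀ v) = sympB d F u v := fun u v => by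
      obtain ⟨u, rfl⟩ := L₀.surjective u
      obtain ⟨v, rfl⟩ := L₀.surjective v
      simp only [g₀, LinearEquiv.trans_apply, LinearEquiv.symm_apply_apply, hL]
      exact (hψ u v).symm
    let g : GL (Fin d ⊕ Fin d) F := ⟨LinearMap.toMatrix' g₀.toLinearMap, LinearMap.toMatrix' g₀.symm.toLinearMap,
      by rw [← LinearMap.toMatrix'_comp]; simp, by rw [← LinearMap.toMatrix'_comp]; simp⟩
    have hgv : ∀ u, g.1 *ᵥ u = g₀ u := fun u => LinearMap.toMatrix'_mulVec _ _
    refine ⟨g, (mem_spGL_iff g).2 fun u v => by rw [hgv, hgv, hg₀], (mem_tensor_iff e P _).2 ?_⟩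
    have hwu : IsUnit (Matrix.diagonal w) := by
      rw [Matrix.isUnit_iff_isUnit_det, Matrix.det_diagonal, isUnit_iff_ne_zero, Finset.prod_ne_zero_iff]
      exact fun i _ => hw i
    refine ⟨A, hMu.unit * hwu.unit * hMu.unit⁻¹, ?_⟩
    set B₀ := (hMu.unit * hwu.unit * hMu.unit⁻¹ : GL (Fin d) F).1 with hB₀
    have hBM : B₀ * M = M * Matrix.diagonal w := by
      rw [hB₀, Units.val_mul, mul_assoc]
      rw [show ((hMu.unit⁻¹ : GL (Fin d) F).1 * M) = 1 from hMu.val_inv_mul]
      rw [mul_one, Units.val_mul, hMu.unit_spec, hwu.unit_spec]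
    refine Matrix.ext_of_mulVec_single fun i => ?_
    obtain ⟨u, hu⟩ : ∃ u, (((1 : Matrix (Fin 2) (Fin 2) F) ⊗ₖ M) *ᵥ u) ∘ e = Pi.single i 1 := by
      obtain ⟨u, hu⟩ := L₀.surjective (P.1 *ᵥ Pi.single i 1)
      exact ⟨u, Matrix.mulVec_injective_iff_isUnit.2 P.isUnit hu⟩
    rw [← hu]
    have hrhs : (A.1 ⊗ₖ B₀).submatrix e e *ᵥ ((((1 : Matrix (Fin 2) (Fin 2) F) ⊗ₖ M) *ᵥ u) ∘ e) =
        (((1 : Matrix (Fin 2) (Fin 2) F) ⊗ₖ M) *ᵥ ((A.1 ⊗ₖ Matrix.diagonal w) *ᵥ u)) ∘ e := by
      rw [Matrix.submatrix_mulVec_equiv]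
      simp only [Function.comp_assoc, Equiv.self_comp_symm, Function.comp_id]
      rw [Matrix.mulVec_mulVec, Matrix.mulVec_mulVec, ← Matrix.mul_kronecker_mul, ← Matrix.mul_kronecker_mul, hBM,
        mul_one, one_mul]
    rw [hrhs]
    apply Matrix.mulVec_injective_iff_isUnit.2 P.isUnit
    show P.1 *ᵥ _ = L₀ ((A.1 ⊗ₖ Matrix.diagonal w) *ᵥ u)
    rw [Units.val_mul, Units.val_mul, Units.val_mul, Units.val_mul, ← Matrix.mulVec_mulVec, ← Matrix.mulVec_mulVec,
      ← Matrix.mulVec_mulVec, ← Matrix.mulVec_mulVec, Matrix.mulVec_mulVec _ P.1 (P⁻¹).1, ← Units.val_mul,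
      mul_inv_cancel, Units.val_one, Matrix.one_mulVec]
    apply Matrix.mulVec_injective_iff_isUnit.2 g.isUnit
    rw [Matrix.mulVec_mulVec _ g.1 (g⁻¹).1, ← Units.val_mul, mul_inv_cancel, Units.val_one, Matrix.one_mulVec, hgv, hgv,
      show P.1 *ᵥ ((((1 : Matrix (Fin 2) (Fin 2) F) ⊗ₖ M) *ᵥ u) ∘ e) = L₀ u from rfl]
    simp only [g₀, LinearEquiv.trans_apply, LinearEquiv.symm_apply_apply]
    exact hxL u

end Cfsg.Agent.S5980
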