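import Cfsg.Statements.S5981
import Cfsg.Agent.Classical.SimConj.Basic
import Cfsg.Agent.Classical.SimConj.Weights
import Cfsg.Agent.Classical.SimConj.Index
import Cfsg.Agent.Classical.Elusive.Block
import Cfsg.Agent.Classical.QuadClass
import Cfsg.Agent.Classical.QuadTypes
import Cfsg.Agent.S0286
import Cfsg.Agent.S0287
import Cfsg.Agent.S0288
import Cfsg.Agent.NotMax.Basic
-- import your own Cfsg.Agent.* helpers here

set_option autoImplicit false
open scoped MatrixGroups
open Cfsg

set_option linter.unusedSectionVars false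

namespace Cfsg.Agent.S5981

open Polynomial Module Matrix QuadraticMap Cfsg.Agent.Classical Cfsg.Agent.Classical.SimConj

variable {F : Type*} [Field F] {n : ℕ}

/-- The Gram matrix of the polar form. -/
noncomputable def gram (Q : QuadraticForm F (Fin n → F)) : Matrix (Fin n) (Fin n) F :=
  LinearMap.toMatrix₂' F (polarBilin Q)

theorem gram_apply (Q : QuadraticForm F (Fin n → F)) (u v : Fin n → F) : u ⬝ᵥ gram Q *ᵥ v = polar Q u v := by
  rw [← Matrix.toLinearMap₂'_apply', gram, Matrix.toLinearMap₂'_toMatrix']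
  rfl

theorem mat_ext {M N : Matrix (Fin n) (Fin n) F} (h : ∀ u v, u ⬝ᵥ M *ᵥ v = u ⬝ᵥ N *ᵥ v) : M = N := by
  ext i j
  simpa [single_dotProduct, Matrix.mulVec_single] using h (Pi.single i 1) (Pi.single j 1)

theorem gram_symm (Q : QuadraticForm F (Fin n → F)) : (gram Q)ᵀ = gram Q := by
  refine mat_ext fun u v => ?_
  rw [Matrix.dotProduct_transpose_mulVec, gram_apply, gram_apply, polar_comm]

theorem gram_det {Q : QuadraticForm F (Fin n → F)} (hQ : (polarBilin Q).Nondegenerate) : (gram Q).det ≠ 0 := by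
  intro h
  obtain ⟨v, hv, hv0⟩ := Matrix.exists_mulVec_eq_zero_iff.2 h
  refine hv (Quad.eq_zero_of_polar hQ fun u => ?_)
  rw [polar_comm, ← gram_apply, hv0, dotProduct_zero]

theorem congr_apply (A : Matrix (Fin n) (Fin n) F) (Q : QuadraticForm F (Fin n → F)) (u v : Fin n → F) :
    u ⬝ᵥ (Aᵀ * gram Q * A) *ᵥ v = polar Q (A *ᵥ u) (A *ᵥ v) := by
  rw [← gram_apply, ← Matrix.mulVec_mulVec, ← Matrix.mulVec_mulVec, Matrix.dotProduct_mulVec,
    Matrix.vecMul_transpose]

theorem sim_iff (h2 : (2 : F) ≠ 0) (Q : QuadraticForm F (Fin n → F)) (g : Matrix (Fin n) (Fin n) F) (c : F) :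
    IsSim (RingHom.id F) (gram Q) g c ↔ ∀ v, Q (g *ᵥ v) = c * Q v := by
  rw [IsSim, show g.map (RingHom.id F) = g from Matrix.map_id g]
  constructor
  · intro h v
    have h1 := congr_apply g Q v v
    rw [h, Matrix.smul_mulVec, dotProduct_smul, gram_apply, smul_eq_mul, Quad.polar_self',
      Quad.polar_self'] at h1
    exact mul_left_cancel₀ h2 (by linear_combination -h1)
  · intro h
    refine mat_ext fun u v => ?_
    rw [congr_apply, Matrix.smul_mulVec, dotProduct_smul, gram_apply, smul_eq_mul]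
    simp only [polar, ← Matrix.mulVec_add, h]
    ring

theorem mem_iff (h2 : (2 : F) ≠ 0) (Q : QuadraticForm F (Fin n → F)) (g : GL (Fin n) F) :
    g ∈ Cfsg.Geo.quadSimilarityGroup ⇑Q ↔ ∃ c : F, c ≠ 0 ∧ IsSim (RingHom.id F) (gram Q) g.1 c :=
  ⟨fun ⟨c, hc⟩ => ⟨c, c.ne_zero, (sim_iff h2 Q _ _).2 hc⟩,
    fun ⟨c, hc, h⟩ => ⟨Units.mk0 c hc, fun v => by rw [Units.val_mk0]; exact (sim_iff h2 Q _ _).1 h v⟩⟩

/-- Transvections are not similitudes. -/
theorem not_sim_transvection {p : ℕ} [Fact p.Prime] [CharP F p] (h2 : (2 : F) ≠ 0) {i j : Fin n} (hij : i ≠ j)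
    {J : Matrix (Fin n) (Fin n) F} (hs : Jᵀ = J) (hJ : J.det ≠ 0) (c : F) :
    ¬ IsSim (RingHom.id F) J (transvection i j (1 : F)) c := by
  intro h
  haveI : Nonempty (Fin n) := ⟨i⟩
  have hpow : ∀ k : ℕ, transvection i j (1 : F) ^ k = transvection i j (k : F) := by
    intro k
    induction k with
    | zero => rw [pow_zero, Nat.cast_zero, transvection_zero]
    | succ k ih => rw [pow_succ, ih, transvection_mul_transvection_same i j hij, Nat.cast_succ]
  have hc : c = 1 := by
    have h1 := mult_eq_of_scalar hJ h (k := p) (z := 1)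
      (by rw [hpow, CharP.cast_eq_zero, transvection_zero, one_smul])
    rw [map_one, mul_one] at h1
    exact sub_eq_zero.1 (pow_eq_zero_iff (Fact.out : p.Prime).ne_zero |>.1
      (by rw [sub_pow_char, h1, one_pow, sub_self]))
  rw [IsSim, hc, one_smul, show (transvection i j (1 : F)).map (RingHom.id F) = transvection i j 1 from
    Matrix.map_id _, show (transvection i j (1 : F))ᵀ = transvection j i 1 by
      simp [transvection, Matrix.transpose_single]] at h
  have hrow : ∀ b, b ≠ j → J i b = 0 := fun b hb => by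
    have e := congrFun (congrFun h j) b
    rw [mul_transvection_apply_of_ne _ _ _ _ hb, transvection_mul_apply_same] at e
    linear_combination e
  have e := congrFun (congrFun h j) j
  rw [mul_transvection_apply_same, transvection_mul_apply_same, transvection_mul_apply_same, hrow i hij,
    one_mul, one_mul, one_mul, add_zero] at e
  have hji : J j i = J i j := by
    conv_lhs => rw [← hs]
    rfl
  have hij0 : J i j = 0 := by
    refine (mul_eq_zero.1 (?_ : (2 : F) * J i j = 0)).resolve_left h2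
    linear_combination e - hji
  refine hJ (Matrix.det_eq_zero_of_row_eq_zero i fun b => ?_)
  rcases eq_or_ne b j with rfl | hb
  · exact hij0
  · exact hrow b hb

theorem mem_sl_iff (g : GL (Fin n) F) : g ∈ Cfsg.Geo.specialLinear (Fin n) F ↔ g.1.det = 1 := by
  rw [Cfsg.Geo.specialLinear, MonoidHom.mem_ker, Units.ext_iff]
  rfl

theorem conj_inv (P : GL (Fin n) F) {x : GL (Fin n) F} {r : ℕ} (h : x ^ r = 1) : (P⁻¹ * x * P) ^ r = 1 := by
  have e : (P⁻¹ * x * P) ^ r = P⁻¹ * x ^ r * P := by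
    have := map_pow (MulAut.conj P⁻¹) x r
    simp only [MulAut.conj_apply, inv_inv] at this
    exact this.symm
  rw [e, h, mul_one, inv_mul_cancel]

section finite

variable [Fintype F] {r : ℕ} [Fact r.Prime]

theorem one_of_pow {c : F} (hc : c ≠ 0) (h1 : orderOf (Fintype.card F : ZMod r) ≠ 1) (h : c ^ r = 1) : c = 1 := by
  have hco : Nat.gcd r (Fintype.card F - 1) = 1 := by
    rw [← Nat.coprime_iff_gcd_eq_one, (Fact.out : r.Prime).coprime_iff_not_dvd]
    intro hd
    rw [← pow_one (Fintype.card F), LargeSylow.dvd_sub_iff Fintype.card_pos, Nat.dvd_one] at hd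
    exact h1 hd
  have := pow_gcd_eq_one.2 ⟨h, FiniteField.pow_card_sub_one_eq_one c hc⟩
  rwa [hco, pow_one] at this

/-- Involutions modulo scalars are conjugate to similitudes. -/
theorem exists_conj_two (h2 : (2 : F) ≠ 0) (hn : 0 < n) (hodd : Odd (Fintype.card F))
    {Q : QuadraticForm F (Fin n → F)} (hQ : (polarBilin Q).Nondegenerate) {x : GL (Fin n) F} {z : F}
    (hz : z ≠ 0) (hx : ((x ^ 2 : GL (Fin n) F) : Matrix (Fin n) (Fin n) F) = z • 1) :
    ∃ P : GL (Fin n) F, P⁻¹ * x * P ∈ Cfsg.Geo.quadSimilarityGroup ⇑Q := by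
  classical
  haveI : Fact (Nat.Prime 2) := ⟨Nat.prime_two⟩
  have h2' : ((2 : ℕ) : F) ≠ 0 := by exact_mod_cast h2
  have hF : ringChar F ≠ 2 := fun h => h2 (by
    rw [← Nat.cast_two, ← h]; exact ringChar.Nat.cast_ringChar)
  obtain ⟨α, hα⟩ := FiniteField.exists_nonsquare hF
  obtain ⟨m, rfl⟩ : ∃ m, n = m + 1 := ⟨n - 1, by omega⟩
  obtain ⟨b, ho, hb1, hbl⟩ := Quad.exists_diag_basis h2 (polarBilin Q : LinearMap.BilinForm F (Fin (m + 1) → F))
    ⟨fun u v => polar_comm Q u v⟩ hQ (finrank_fin_fun F) α hα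
  set e : Fin (m + 1) → F := fun i => polar Q (b i) (b i) with he
  have hP0 : ((Pi.basisFun F (Fin (m + 1))).toMatrix b).det ≠ 0 := by
    haveI := (Pi.basisFun F (Fin (m + 1))).invertibleToMatrix b
    exact (Matrix.isUnit_det_of_invertible _).ne_zero
  let P0 : GL (Fin (m + 1)) F := Matrix.GeneralLinearGroup.mkOfDetNeZero _ hP0
  have hcongr : (P0.1)ᵀ * gram Q * P0.1.map (RingHom.id F) = Matrix.diagonal e := by
    rw [show P0.1.map (RingHom.id F) = P0.1 from Matrix.map_id _]
    ext i j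
    have h := congr_apply P0.1 Q (Pi.single i 1) (Pi.single j 1)
    rw [Matrix.mulVec_single_one, Matrix.mulVec_single_one, single_dotProduct, one_mul,
      Matrix.mulVec_single_one] at h
    have hc : ∀ k, P0.1ᵀ k = b k := fun k => funext fun l => by
      show (Pi.basisFun F (Fin (m + 1))).toMatrix b l k = _
      rw [Basis.toMatrix_apply]
      simp
    rcases eq_or_ne i j with rfl | hij
    · rw [Matrix.diagonal_apply_eq]
      exact h.trans (by show polar Q (P0.1ᵀ i) (P0.1ᵀ i) = _; rw [hc, he])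
    · rw [Matrix.diagonal_apply_ne _ hij]
      exact h.trans (by show polar Q (P0.1ᵀ i) (P0.1ᵀ j) = _; rw [hc, hc]; exact ho i j hij)
  have he0 : ∀ i, e i ≠ 0 := fun i h => by
    have h1 := congrArg Matrix.det hcongr
    rw [Matrix.det_mul, Matrix.det_mul, Matrix.det_diagonal, Finset.prod_eq_zero (Finset.mem_univ i) h,
      Matrix.det_transpose, SimConj.det_map', mul_eq_zero, mul_eq_zero] at h1
    rcases h1 with (h1 | h1) | h1
    · exact hP0 h1
    · exact gram_det hQ h1
    · exact hP0 h1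
  have key : ∀ (D P : GL (Fin (m + 1)) F), IsSim (RingHom.id F) (Matrix.diagonal e) D.1 z → P⁻¹ * x * P = D →
      ∃ P : GL (Fin (m + 1)) F, P⁻¹ * x * P ∈ Cfsg.Geo.quadSimilarityGroup ⇑Q := by
    intro D P hD hP
    refine ⟨P * P0⁻¹, (mem_iff h2 Q _).2 ⟨z, hz, ?_⟩⟩
    have h1 := congr_sim P0 (J := gram Q) (g := D.1) (c := z) (by rw [hcongr]; exact hD)
    rw [show (P * P0⁻¹)⁻¹ * x * (P * P0⁻¹) = P0 * D * P0⁻¹ by rw [← hP]; group]
    exact h1
  by_cases hsq : ∀ s : F, s ^ 2 ≠ z
  · obtain ⟨k, hk⟩ : 2 ∣ m + 1 := by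
      have := Elusive.dvd_finrank_of_nonpower h2' hz hsq (toLin_pow hx) ⊤ le_top
      rwa [finrank_top, finrank_fin_fun] at this
    let E : Fin (m + 1) ≃ Fin 2 × Fin k := (finCongr hk).trans finProdFinEquiv.symm
    let d : Fin k → Fin 2 → F := fun j a => e (E.symm (a, j))
    have hex : ∀ j : Fin k, ∃ M : Matrix (Fin 2) (Fin 2) F, M * M = z • 1 ∧
        Mᵀ * Matrix.diagonal (d j) * M = z • Matrix.diagonal (d j) := by
      intro j
      have ha : d j 0 ≠ 0 := he0 _
      have hb : d j 1 ≠ 0 := he0 _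
      obtain ⟨u, w, huw⟩ := Quad.exists_binary_one h2 (c := 1 / z) (d := d j 1 / (d j 0 * z))
        (one_div_ne_zero hz) (div_ne_zero hb (mul_ne_zero ha hz))
      field_simp at huw
      refine ⟨!![u, d j 1 / d j 0 * w; w, -u], ?_, ?_⟩
      · ext a c
        fin_cases a <;> fin_cases c <;> simp [Matrix.mul_apply, Fin.sum_univ_two] <;> field_simp <;>
          first | ring1 | linear_combination huw
      · ext a c
        fin_cases a <;> fin_cases c <;> simp [Matrix.mul_apply, Fin.sum_univ_two, Matrix.diagonal] <;>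
          field_simp <;> first | ring1 | linear_combination huw | linear_combination d j 1 * huw
    choose M hM1 hM2 using hex
    set Y : Matrix (Fin (m + 1)) (Fin (m + 1)) F := (Matrix.blockDiagonal M).submatrix E E with hY
    have hdiag : Matrix.diagonal e = (Matrix.blockDiagonal fun j => Matrix.diagonal (d j)).submatrix E E := by
      rw [Matrix.blockDiagonal_diagonal, Matrix.submatrix_diagonal_equiv]
      congr 1
      funext i
      simp [d]
    have hY2 : Y * Y = z • 1 := by
      rw [hY, Matrix.submatrix_mul_equiv, ← Matrix.blockDiagonal_mul, funext hM1,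
        show (fun _ : Fin k => z • (1 : Matrix (Fin 2) (Fin 2) F)) = z • 1 from rfl, Matrix.blockDiagonal_smul,
        Matrix.blockDiagonal_one]
      show (z • (1 : Matrix (Fin 2 × Fin k) (Fin 2 × Fin k) F).submatrix E E) = _
      rw [Matrix.submatrix_one_equiv]
    have hYd : Y.det ≠ 0 := fun h => by
      have h1 := congrArg Matrix.det hY2
      rw [Matrix.det_mul, h, zero_mul, Matrix.det_smul, Matrix.det_one, mul_one] at h1
      exact pow_ne_zero _ hz h1.symm
    let D : GL (Fin (m + 1)) F := Matrix.GeneralLinearGroup.mkOfDetNeZero Y hYd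
    have hDz : ((D ^ 2 : GL (Fin (m + 1)) F) : Matrix (Fin (m + 1)) (Fin (m + 1)) F) = z • 1 := by
      rw [Units.val_pow_eq_pow_val, pow_two]; exact hY2
    obtain ⟨P, hP⟩ := exists_conj_nonpower h2' hz hsq hx hDz
    refine key D P ?_ hP
    show Yᵀ * Matrix.diagonal e * Y.map (RingHom.id F) = z • Matrix.diagonal e
    rw [show Y.map (RingHom.id F) = Y from Matrix.map_id _, hdiag, hY, Matrix.transpose_submatrix,
      Matrix.submatrix_mul_equiv, Matrix.submatrix_mul_equiv, Matrix.blockDiagonal_transpose,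
      ← Matrix.blockDiagonal_mul, ← Matrix.blockDiagonal_mul, funext hM2,
      show (fun j => z • Matrix.diagonal (d j)) = z • fun j => Matrix.diagonal (d j) from rfl,
      Matrix.blockDiagonal_smul]
    rfl
  · push Not at hsq
    obtain ⟨s, hs⟩ := hsq
    have hq2 : orderOf (Fintype.card F : ZMod 2) = 1 := by
      rw [orderOf_eq_one_iff, ← Nat.cast_one, ZMod.natCast_eq_natCast_iff']
      (obtain ⟨a, ha⟩ := hodd; omega)
    have hs0 : s ≠ 0 := fun h => hz (by rw [← hs, h, zero_pow two_ne_zero])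
    obtain ⟨G, w, hw, hG⟩ := exists_diag h2' hq2 hs0 (by rw [hs]; exact hx)
    refine key (G⁻¹ * x * G) G ?_ rfl
    have hD : (G⁻¹ * x * G).1 = Matrix.diagonal w := by
      rw [Units.val_mul, Units.val_mul, Matrix.mul_assoc, hG, ← Matrix.mul_assoc, ← Units.val_mul, inv_mul_cancel,
        Units.val_one, Matrix.one_mul]
    rw [IsSim, hD, show (Matrix.diagonal w).map (RingHom.id F) = Matrix.diagonal w from Matrix.map_id _,
      Matrix.diagonal_transpose, Matrix.diagonal_mul_diagonal, Matrix.diagonal_mul_diagonal, ← Matrix.diagonal_smul]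
    congr 1
    funext i
    rw [Pi.smul_apply, smul_eq_mul, ← hs, ← hw i]
    ring

end finite

end Cfsg.Agent.S5981
namespace Cfsg.Agent.S5981

open Polynomial Module Matrix QuadraticMap Cfsg.Agent.Classical Cfsg.Agent.Classical.SimConj

variable {F : Type*} [Field F] [Fintype F] {n r : ℕ} [Fact r.Prime]

/-- A fixed point free isometry of order `r` makes the number of singular vectors one modulo `r`. -/
theorem zcard_mod {Q : QuadraticForm F (Fin n → F)} (φ : Quad.oG Q) (hφ : φ ^ r = 1)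
    (hfix : ∀ v, φ.1 v = v → v = 0) : Quad.zcard Q ≡ 1 [MOD r] := by
  classical
  let H := Subgroup.zpowers φ
  letI : MulAction H {v : Fin n → F // Q v = 0} :=
    { smul := fun g v => ⟨(g : Quad.oG Q).1 v.1, ((g : Quad.oG Q).2 v.1).trans v.2⟩
      one_smul := fun v => Subtype.ext rfl
      mul_smul := fun g h v => Subtype.ext rfl }
  have hP : IsPGroup r H := by
    rcases (Nat.dvd_prime (Fact.out : r.Prime)).1 (orderOf_dvd_of_pow_eq_one hφ) with h | h
    · exact IsPGroup.of_card (n := 0) (by rw [Nat.card_zpowers, h, pow_zero])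
    · exact IsPGroup.of_card (n := 1) (by rw [Nat.card_zpowers, h, pow_one])
  have h := hP.card_modEq_card_fixedPoints {v : Fin n → F // Q v = 0}
  have h1 : Nat.card (MulAction.fixedPoints H {v : Fin n → F // Q v = 0}) = 1 := by
    refine Nat.card_eq_one_iff_unique.2 ⟨⟨fun a b => ?_⟩, ⟨⟨0, map_zero Q⟩, fun g => Subtype.ext (map_zero _)⟩⟩
    refine Subtype.ext (Subtype.ext ?_)
    have ha := hfix _ (congrArg Subtype.val (a.2 ⟨φ, Subgroup.mem_zpowers φ⟩))
    have hb := hfix _ (congrArg Subtype.val (b.2 ⟨φ, Subgroup.mem_zpowers φ⟩))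
    rw [ha, hb]
  rwa [h1] at h

theorem exists_odd_part {q : ℕ} (hq : 2 ≤ q) (hi : Even (orderOf (q : ZMod r))) : ∀ k,
    ∃ c, ¬ r ∣ c ∧ ∏ i ∈ Finset.range k, (q ^ (i + 1) - 1) =
      c * ∏ i ∈ Finset.range (k / 2), (q ^ (2 * (i + 1)) - 1)
  | 0 => ⟨1, (Fact.out : r.Prime).not_dvd_one, by simp⟩
  | k + 1 => by
    obtain ⟨c, hc, e⟩ := exists_odd_part hq hi k
    rcases Nat.even_or_odd k with hk | hk
    · refine ⟨c * (q ^ (k + 1) - 1), fun h => ?_, ?_⟩
      · rcases (Fact.out : r.Prime).dvd_mul.1 h with h | h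
        · exact hc h
        · rw [LargeSylow.dvd_sub_iff (by omega)] at h
          exact Nat.not_even_iff_odd.2 hk.add_one (even_iff_two_dvd.2 ((even_iff_two_dvd.1 hi).trans h))
      · obtain ⟨a, rfl⟩ := hk
        rw [Finset.prod_range_succ, e, show (a + a + 1) / 2 = (a + a) / 2 by omega]
        ring
    · refine ⟨c, hc, ?_⟩
      obtain ⟨a, rfl⟩ := hk
      rw [Finset.prod_range_succ, e, show (2 * a + 1 + 1) / 2 = a + 1 by omega, show (2 * a + 1) / 2 = a by omega,
        Finset.prod_range_succ, show 2 * a + 1 + 1 = 2 * (a + 1) by ring]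
      ring

/-- What divisibility of the index means for even order. -/
theorem index_even (h2 : (2 : F) ≠ 0) {Q : QuadraticForm F (Fin n → F)} (hQ : (polarBilin Q).Nondegenerate)
    (hn : 1 ≤ n) (hodd : Odd (Fintype.card F)) (hrq : ¬ r ∣ Fintype.card F)
    (h1 : orderOf (Fintype.card F : ZMod r) ≠ 1) (hi : Even (orderOf (Fintype.card F : ZMod r)))
    (h : r ∣ (Cfsg.Geo.quadSimilarityGroup ⇑Q).relIndex (Cfsg.Geo.specialLinear (Fin n) F)) :
    ∃ m, n = 2 * m ∧ orderOf (Fintype.card F : ZMod r) ∣ n ∧ ¬ Quad.zcard Q ≡ 1 [MOD r] := by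
  classical
  set q := Fintype.card F with hq
  have hq2 : 2 ≤ q := Fintype.one_lt_card
  have hr := (Fact.out : r.Prime)
  set K := Cfsg.isometryGroup F ⇑Q ⊓ Cfsg.Geo.specialLinear (Fin n) F with hK
  have hKH : K ≤ Cfsg.Geo.quadSimilarityGroup ⇑Q := fun g hg =>
    ⟨1, fun v => by rw [Units.val_one, one_mul]; exact Quad.mem_isometryGroup_iff.1 hg.1 v⟩
  have hKd : r * Nat.card K ∣ Nat.card (Cfsg.Geo.specialLinear (Fin n) F) := mul_card_dvd hKH inf_le_right h
  have hiso : Nat.card (Cfsg.isometryGroup F ⇑Q) ∣ 2 * Nat.card K := by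
    set δ : Cfsg.isometryGroup F ⇑Q →* Fˣ := Matrix.GeneralLinearGroup.det.comp (Cfsg.isometryGroup F ⇑Q).subtype
      with hδ
    have hker : Nat.card δ.ker = Nat.card K := Nat.card_congr
      ⟨fun g => ⟨g.1.1, g.1.2, g.2⟩, fun g => ⟨⟨g.1, g.2.1⟩, g.2.2⟩, fun _ => rfl, fun _ => rfl⟩
    have hle : δ.range ≤ rootsOfUnity 2 F := by
      rintro _ ⟨g, rfl⟩
      rw [mem_rootsOfUnity, Units.ext_iff, Units.val_pow_eq_pow_val, Units.val_one]
      rcases Quad.det_eq_one_or_neg_one hQ (Quad.mem_isometryGroup_iff.1 g.2) with e | e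
      · show g.1.1.det ^ 2 = 1
        rw [e, one_pow]
      · show g.1.1.det ^ 2 = 1
        rw [e, neg_one_sq]
    have h2le : Nat.card δ.range ∣ 2 := by
      have ha : Nat.card δ.range ≤ 2 := by
        refine le_trans (Nat.le_of_dvd Nat.card_pos (Subgroup.card_dvd_of_le hle)) ?_
        exact card_rootsOfUnity F 2
      have hb : 0 < Nat.card δ.range := Nat.card_pos
      interval_cases (Nat.card δ.range) <;> norm_num
    rw [← δ.ker.index_mul_card, Subgroup.index_ker, hker]
    exact mul_dvd_mul_right h2le _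
  have hdvd : r * Nat.card (Quad.oG Q) ∣
      2 * (q ^ (n * (n - 1) / 2) * ∏ i ∈ Finset.range n, (q ^ (i + 1) - 1)) := by
    rw [← card_sl hn, ← Nat.card_congr (Quad.oEquiv Q).toEquiv]
    calc r * Nat.card (Cfsg.isometryGroup F ⇑Q) ∣ r * (2 * Nat.card K) := mul_dvd_mul_left r hiso
      _ = 2 * (r * Nat.card K) := by ring
      _ ∣ 2 * Nat.card (Cfsg.Geo.specialLinear (Fin n) F) := mul_dvd_mul_left 2 hKd
      _ ∣ _ := mul_dvd_mul_left 2 (dvd_mul_left _ _)
  obtain ⟨c, hc, hprod⟩ := exists_odd_part (r := r) hq2 hi n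
  rw [hprod] at hdvd
  set P := fun k => ∏ i ∈ Finset.range k, (q ^ (2 * (i + 1)) - 1) with hP
  have hP0 : ∀ k, 0 < P k := fun k => Finset.prod_pos fun i _ =>
    Nat.sub_pos_of_lt (Nat.one_lt_pow (by omega) (by omega))
  have hfin : ∀ {a b X Y : ℕ}, 0 < X → r * (2 * q ^ b * X) ∣ 2 * (q ^ a * (c * (X * Y))) → r ∣ Y := by
    intro a b X Y hX hd
    have h2' : r * q ^ b ∣ q ^ a * (c * Y) := by
      refine Nat.dvd_of_mul_dvd_mul_left (show 0 < 2 * X by omega) ?_
      calc 2 * X * (r * q ^ b) = r * (2 * q ^ b * X) := by ring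
        _ ∣ 2 * (q ^ a * (c * (X * Y))) := hd
        _ = 2 * X * (q ^ a * (c * Y)) := by ring
    rcases hr.dvd_mul.1 ((dvd_mul_right r _).trans h2') with h3 | h3
    · exact absurd (hr.dvd_of_dvd_pow h3) hrq
    · exact (hr.dvd_mul.1 h3).resolve_left hc
  have hrank : finrank F (Fin n → F) = n := finrank_fin_fun F
  rcases Nat.even_or_odd' n with ⟨m, rfl | rfl⟩
  · refine ⟨m, rfl, ?_⟩
    obtain ⟨k, rfl⟩ : ∃ k, m = k + 1 := ⟨m - 1, by omega⟩
    rw [show 2 * (k + 1) / 2 = k + 1 by omega, Finset.prod_range_succ] at hdvd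
    have hsq : q ^ (2 * (k + 1)) - 1 = (q ^ (k + 1) - 1) * (q ^ (k + 1) + 1) := by
      rw [mul_comm, mul_comm (q ^ (k + 1) - 1), ← Nat.sq_sub_sq, one_pow, ← pow_mul]
    rw [hsq] at hdvd
    have hqk : 0 < q ^ (k + 1) - 1 := Nat.sub_pos_of_lt (Nat.one_lt_pow (by omega) (by omega))
    have hi_dvd : r ∣ q ^ (2 * (k + 1)) - 1 → orderOf (q : ZMod r) ∣ 2 * (k + 1) :=
      (LargeSylow.dvd_sub_iff (by omega) _).1
    have hne1 : (q : ZMod r) ≠ 1 := fun e => h1 (orderOf_eq_one_iff.2 e)
    have h20 : (2 : ZMod r) ≠ 0 := by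
      intro e
      have := Nat.le_of_dvd (by norm_num) ((ZMod.natCast_eq_zero_iff 2 r).1 (by exact_mod_cast e))
      have h2r : r = 2 := le_antisymm this hr.two_le
      subst h2r
      refine h1 (orderOf_eq_one_iff.2 ?_)
      rw [← Nat.cast_one, ZMod.natCast_eq_natCast_iff']
      have := Nat.odd_iff.1 hodd
      omega
    rcases Quad.even_cases hQ hrank with hI | ⟨-, hI⟩
    · obtain ⟨e, he⟩ := hI
      rw [← Nat.card_congr (Quad.oCongr e he).toEquiv, Quad.card_oG_plus (q := q) rfl] at hdvd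
      have hY : r ∣ q ^ (k + 1) + 1 := hfin (X := (q ^ (k + 1) - 1) * P k) (a := 2 * (k + 1) * (2 * (k + 1) - 1) / 2)
        (b := (k + 1) * k) (Nat.mul_pos hqk (hP0 k)) (by convert hdvd using 2 <;> simp only [hP] <;> ring)
      refine ⟨hi_dvd (hsq ▸ hY.mul_left _), fun hz => ?_⟩
      rw [← Quad.zcard_congr e he] at hz
      have h3 := congrArg (Nat.cast : ℕ → ZMod r) (Quad.zcard_plus (F := F) (q := q) rfl k)
      rw [← ZMod.natCast_eq_natCast_iff] at hz
      have hY' := (ZMod.natCast_eq_zero_iff _ r).2 hY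
      push_cast at h3 hY' hz
      rw [hz] at h3
      refine hne1 (sub_eq_zero.1 ((mul_eq_zero.1 (?_ : (2 : ZMod r) * ((q : ZMod r) - 1) = 0)).resolve_left h20))
      linear_combination (q : ZMod r) * h3 + (q - 2 + (q : ZMod r) ^ (k + 1)) * hY'
    · obtain ⟨ζ, hζ⟩ := Quad.exists_rootfree (F := F)
      obtain ⟨e, he⟩ := hI 1 ζ (Quad.rootfree_aniso hζ)
      rw [← Nat.card_congr (Quad.oCongr e he).toEquiv, Nat.add_sub_cancel,
        Quad.card_oG_minus (Quad.rootfree_aniso hζ) (q := q) rfl] at hdvd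
      have hY : r ∣ q ^ (k + 1) - 1 := hfin (X := (q ^ (k + 1) + 1) * P k) (a := 2 * (k + 1) * (2 * (k + 1) - 1) / 2)
        (b := (k + 1) * k) (Nat.mul_pos (by omega) (hP0 k)) (by convert hdvd using 2 <;> simp only [hP] <;> ring)
      refine ⟨hi_dvd (hsq ▸ hY.mul_right _), fun hz => ?_⟩
      rw [← Quad.zcard_congr e he, Nat.add_sub_cancel] at hz
      have h3 := congrArg (Nat.cast : ℕ → ZMod r) (Quad.zcard_minus (Quad.rootfree_aniso hζ) (q := q) rfl k)
      rw [← ZMod.natCast_eq_natCast_iff] at hz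
      have hY' := (ZMod.natCast_eq_zero_iff _ r).2 hY
      rw [Nat.cast_sub (Nat.one_le_pow _ _ (by omega)), Nat.cast_pow, Nat.cast_one] at hY'
      push_cast at h3 hz
      rw [hz] at h3
      refine hne1 (sub_eq_zero.1 ((mul_eq_zero.1 (?_ : (2 : ZMod r) * ((q : ZMod r) - 1) = 0)).resolve_left h20))
      linear_combination (q : ZMod r) * h3 + ((q : ZMod r) ^ (k + 1) + 2 - q) * hY'
  · exfalso
    obtain ⟨d, hd0, -, e, he⟩ := Quad.odd_case hQ hrank
    rw [show (2 * m + 1) / 2 = m by omega] at hdvd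
    have hcard : Nat.card (Quad.oG Q) = 2 * q ^ (m ^ 2) * P m := by
      rw [← Nat.card_congr (Quad.oCongr e he).toEquiv]
      set H := Quad.hyp (Quad.sqForm F) m
      let T : (((Fin m → F) × (Fin m → F)) × F) ≃ₗ[F] (((Fin m → F) × (Fin m → F)) × F) :=
        ((LinearEquiv.refl F (Fin m → F)).prodCongr (LinearEquiv.smulOfUnit (Units.mk0 d hd0))).prodCongr
          (LinearEquiv.refl F F)
      have hT : ∀ x, Quad.hyp (d • Quad.sqForm F) m (T x) = (d • H) x := fun x => by
        simp only [H, T, Quad.hyp_apply, _root_.smul_eq_mul, QuadraticMap.smul_apply, mul_add, Finset.mul_sum]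
        congr 1
        exact Finset.sum_congr rfl fun i _ => by
          show x.1.1 i * (d * x.1.2 i) = _
          ring
      rw [← Nat.card_congr (Quad.oCongr T hT).toEquiv, ← Quad.card_oG_odd (q := q) rfl h2]
      refine Nat.card_congr (Equiv.subtypeEquivRight fun g => ⟨fun hg x => ?_, fun hg x => ?_⟩)
      · exact mul_left_cancel₀ hd0 (by simpa using hg x)
      · show d * H (g x) = d * H x
        exact congrArg (d * ·) (hg x)
    rw [hcard] at hdvd
    exact hr.not_dvd_one (hfin (X := P m) (Y := 1) (hP0 m) (by rwa [mul_one]))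

theorem exists_primitive {k : ℕ} (h : r ^ k ∣ Fintype.card F - 1) : ∃ d : F, IsPrimitiveRoot d (r ^ k) := by
  classical
  obtain ⟨g, hg⟩ := IsCyclic.exists_ofOrder_eq_natCard (α := Fˣ)
  rw [Nat.card_eq_fintype_card, Fintype.card_units] at hg
  obtain ⟨t, ht⟩ := h
  refine ⟨((g ^ t : Fˣ) : F), IsPrimitiveRoot.coe_units_iff.2 ?_⟩
  rw [IsPrimitiveRoot.iff_orderOf, orderOf_pow' g (fun h0 => by
    rw [h0, mul_zero] at ht
    have := Fintype.one_lt_card (α := F)
    omega), hg, ht, Nat.gcd_eq_right (dvd_mul_left t _), Nat.mul_div_cancel _ (Nat.pos_of_ne_zero fun h0 => by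
    rw [h0, mul_zero] at ht
    have := Fintype.one_lt_card (α := F)
    omega)]

end Cfsg.Agent.S5981


namespace Cfsg.Agent.S5981
open Matrix

/-- Elements of prime order of PSL_n(q), q odd, and the subgroups of orthogonal type. Here `T = PSL_n(F)` for a field `F` with `q` elements, `q` odd, `n ≥ 3`; `Q` is a non-degenerate quadratic form on `F^n` (of either type when `n` is even) and `H` is the subgroup of matrices of determinant 1 that preserve `Q` up to a scalar — a subgroup of type O^ε_n(q) (maximality is not assumed); Ω is the set of cosets of `H` in `T`, so an element of `T` of prime order `r` (a matrix `x` of determinant 1 with `x^r` scalar, `x` not scalar) fixes a point of Ω exactly when some conjugate of `x` by a matrix of determinant 1 preserves `Q` up to a scalar. Let `r` be a prime dividing the index of `H`, with `(n, r) ≠ (6, 3)`. Then every element of `T` of order `r` fixes a point of Ω if and only if `r = 2`, or `r ∈ {3, 5}`, `n = r` and `(q − 1)_r = r` (the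 `r`-part of `q − 1` is exactly `r`). The case `(n, r) = (6, 3)` is not covered by this statement. -/
theorem result {F : Type*} [Field F] [Fintype F] {p : ℕ} [Fact p.Prime] [CharP F p] {q : ℕ} (hq : Fintype.card F = q)
    (hodd : Odd q) (n : ℕ) (hn : 3 ≤ n) (Q : (Fin n → F) → F) (hQ : Cfsg.Geo.IsNondegenerateQuadraticForm Q)
    (r : ℕ) [Fact r.Prime] (hgap : ¬ (n = 6 ∧ r = 3))
    (hΩ : r ∣ (Cfsg.Geo.quadSimilarityGroup Q).relIndex (Cfsg.Geo.specialLinear (Fin n) F)) :
    (∀ x ∈ Cfsg.Geo.specialLinear (Fin n) F, (∃ z : F, ((x ^ r : GL (Fin n) F) : Matrix (Fin n) (Fin n) F) = z • (1 : Matrix (Fin n) (Fin n) F)) →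
      (∀ z : F, (x : Matrix (Fin n) (Fin n) F) ≠ z • (1 : Matrix (Fin n) (Fin n) F)) →
      ∃ g ∈ Cfsg.Geo.specialLinear (Fin n) F, g⁻¹ * x * g ∈ Cfsg.Geo.quadSimilarityGroup Q) ↔
    (r = 2 ∨ ((r = 3 ∨ r = 5) ∧ n = r ∧ padicValNat r (q - 1) = 1)) := by
  classical
  subst hq
  have hn0 : 0 < n := by omega
  haveI : Nonempty (Fin n) := ⟨⟨0, hn0⟩⟩
  have h2 : (2 : F) ≠ 0 := fun h => by
    haveI : CharP F 2 := CharTwo.of_one_ne_zero_of_two_eq_zero one_ne_zero h
    have h0 := FiniteField.even_card_iff_char_two.1 (ringChar.eq F 2)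
    obtain ⟨t, ht⟩ := hodd
    omega
  set Q' := Cfsg.Agent.NotMax.toQF hQ with hQ'
  have hQn : (QuadraticMap.polarBilin Q').Nondegenerate := Cfsg.Agent.NotMax.toQF_nondeg hQ
  rw [show Q = ⇑Q' from (Cfsg.Agent.NotMax.toQF_coe hQ).symm] at hΩ ⊢
  clear hQ'
  clear_value Q'
  have hJ := gram_det hQn
  have hp2 : p ≠ 2 := fun h => h2 (by rw [← Nat.cast_two, ← h]; exact CharP.cast_eq_zero F p)
  by_cases hr2 : r = 2
  · subst hr2
    refine ⟨fun _ => Or.inl rfl, fun _ x _ ⟨z, hz⟩ _ => ?_⟩
    have hz0 := Cfsg.Agent.Classical.SimConj.scalar_ne hn0 hz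
    obtain ⟨P, hP⟩ := exists_conj_two h2 hn0 hodd hQn hz0 hz
    exact Cfsg.Agent.Classical.SimConj.exists_sl_conj hn0 _
      (Cfsg.Agent.Classical.Elusive.squarefree_pow_sub (F := F) (r := 2) (by exact_mod_cast h2) hz0)
      (Cfsg.Agent.Classical.SimConj.aeval_pow_scalar hz) P hP
  simp only [hr2, false_or]
  have hr3 : 3 ≤ r := by
    have := (Fact.out : r.Prime).two_le
    omega
  by_cases hrp : r = p
  · subst hrp
    have hrF : r ∣ Fintype.card F := by
      obtain ⟨e, -, he⟩ := FiniteField.card F r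
      rw [he]
      exact dvd_pow_self r e.pos.ne'
    refine iff_of_false (fun hall => ?_) fun ⟨_, _, hv⟩ => ?_
    · set i : Fin n := ⟨0, hn0⟩ with hidef
      set j : Fin n := ⟨1, by omega⟩ with hjdef
      have hij : i ≠ j := fun h => by simpa [hidef, hjdef] using congrArg Fin.val h
      have hdet : (Matrix.transvection i j (1 : F)).det = 1 := Matrix.det_transvection_of_ne i j hij 1
      let x : GL (Fin n) F := Matrix.GeneralLinearGroup.mkOfDetNeZero (Matrix.transvection i j 1)
        (by rw [hdet]; exact one_ne_zero)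
      have hpow : ∀ k : ℕ, Matrix.transvection i j (1 : F) ^ k = Matrix.transvection i j (k : F) := by
        intro k
        induction k with
        | zero => rw [pow_zero, Nat.cast_zero, Matrix.transvection_zero]
        | succ k ih => rw [pow_succ, ih, Matrix.transvection_mul_transvection_same i j hij, Nat.cast_succ]
      obtain ⟨g, -, hmem⟩ := hall x ((mem_sl_iff x).2 hdet)
        ⟨1, by rw [Units.val_pow_eq_pow_val, show x.1 = Matrix.transvection i j 1 from rfl, hpow,
          CharP.cast_eq_zero, Matrix.transvection_zero, one_smul]⟩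
        (fun z hz => by
          have h := congrFun (congrFun hz i) j
          simp [x, Matrix.transvection, hij, Matrix.GeneralLinearGroup.mkOfDetNeZero] at h)
      obtain ⟨c, -, hc⟩ := (mem_iff h2 Q' _).1 hmem
      set J' := ((g⁻¹).1)ᵀ * gram Q' * (g⁻¹).1 with hJ'
      have hg0 : (g⁻¹).1.det ≠ 0 := (Matrix.GeneralLinearGroup.det g⁻¹).ne_zero
      refine not_sim_transvection (p := r) h2 hij (J := J') ?_ ?_ c ?_
      · rw [hJ', Matrix.transpose_mul, Matrix.transpose_mul, Matrix.transpose_transpose, gram_symm, Matrix.mul_assoc]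
      · rw [hJ', Matrix.det_mul, Matrix.det_mul, Matrix.det_transpose]
        exact mul_ne_zero (mul_ne_zero hg0 hJ) hg0
      · have e : (g.1)ᵀ * J' * g.1.map (RingHom.id F) = gram Q' := by
          have e1 : (g.1)ᵀ * ((g⁻¹).1)ᵀ = 1 := by
            rw [← Matrix.transpose_mul, ← Units.val_mul, inv_mul_cancel, Units.val_one, Matrix.transpose_one]
          rw [show g.1.map (RingHom.id F) = g.1 from Matrix.map_id _, hJ', ← Matrix.mul_assoc, ← Matrix.mul_assoc,
            e1, Matrix.one_mul, Matrix.mul_assoc, ← Units.val_mul, inv_mul_cancel, Units.val_one, Matrix.mul_one]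
        have h3 := Cfsg.Agent.Classical.SimConj.congr_sim g (J := J') (g := (g⁻¹ * x * g).1) (c := c)
          (by rw [e]; exact hc)
        rw [← Units.val_mul, ← Units.val_mul, show g * (g⁻¹ * x * g) * g⁻¹ = x by group] at h3
        exact h3
    · have hd : r ∣ Fintype.card F - 1 := dvd_of_one_le_padicValNat hv.ge
      have h1 := Nat.dvd_sub hrF hd
      have := Fintype.card_pos (α := F)
      rw [show Fintype.card F - (Fintype.card F - 1) = 1 by omega] at h1
      exact (Fact.out : r.Prime).not_dvd_one h1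
  have hrF : (r : F) ≠ 0 := fun h => hrp
    (((Nat.prime_dvd_prime_iff_eq Fact.out Fact.out).1 ((CharP.cast_eq_zero_iff F p r).1 h))).symm
  have hrq : ¬ r ∣ Fintype.card F := fun h => hrp (by
    obtain ⟨e, -, he⟩ := FiniteField.card F p
    rw [he] at h
    exact (Nat.prime_dvd_prime_iff_eq Fact.out Fact.out).1 ((Fact.out : r.Prime).dvd_of_dvd_pow h))
  by_cases h1 : orderOf (Fintype.card F : ZMod r) = 1
  swap
  · -- the order of `q` modulo `r` exceeds one
    refine iff_of_false (fun hall => ?_) fun ⟨_, _, hv⟩ => ?_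
    swap
    · refine h1 (Nat.dvd_one.1 ?_)
      rw [← Cfsg.Agent.LargeSylow.dvd_sub_iff Fintype.card_pos, pow_one]
      exact dvd_of_one_le_padicValNat hv.ge
    have hle : orderOf (Fintype.card F : ZMod r) ≤ n :=
      Cfsg.Agent.Classical.SimConj.order_le (by omega) hrq (Cfsg.Agent.Classical.SimConj.relIndex_dvd_card hΩ)
    have hmult : ∀ {x g : GL (Fin n) F} {c : F}, x ^ r = 1 → c ≠ 0 →
        Cfsg.Agent.Classical.SimConj.IsSim (RingHom.id F) (gram Q') (g⁻¹ * x * g).1 c → c = 1 := by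
      intro x g c hx hc0 hc
      have h := Cfsg.Agent.Classical.SimConj.mult_eq_of_scalar hJ hc (k := r) (z := 1)
        (by rw [← Units.val_pow_eq_pow_val, conj_inv g hx, Units.val_one, one_smul])
      rw [map_one, mul_one] at h
      exact one_of_pow hc0 h1 h
    rcases Nat.even_or_odd (orderOf (Fintype.card F : ZMod r)) with hev | hodd'
    · obtain ⟨m, hm, hdvd, hz⟩ := index_even h2 hQn (by omega) hodd hrq h1 hev hΩ
      obtain ⟨k, hk⟩ := hdvd
      have hk1 : 1 ≤ k := Nat.pos_of_ne_zero fun h => by rw [h, mul_zero] at hk; omega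
      obtain ⟨x, hx, heig, hns⟩ := Cfsg.Agent.Classical.Elusive.exists_block hrF h1 hk1 hk.ge
      set y : GL (Fin n) F := Matrix.SpecialLinearGroup.toGL x with hy
      have hyr : y ^ r = 1 := by
        rw [hy, ← map_pow]
        refine Units.ext ?_
        show ((x ^ r : Matrix.SpecialLinearGroup (Fin n) F) : Matrix (Fin n) (Fin n) F) = 1
        rw [hx, one_smul]
      obtain ⟨g, -, hmem⟩ := hall y ((mem_sl_iff y).2 x.2)
        ⟨1, by rw [hyr, Units.val_one, one_smul]⟩ hns
      obtain ⟨c, hc0, hc⟩ := (mem_iff h2 Q' _).1 hmem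
      obtain rfl := hmult hyr hc0 hc
      have hiso : g⁻¹ * y * g ∈ Cfsg.isometryGroup F ⇑Q' := Cfsg.Agent.Classical.Quad.mem_isometryGroup_iff.2
        fun v => ((sim_iff h2 Q' _ _).1 hc v).trans (one_mul _)
      refine hz (zcard_mod (Cfsg.Agent.Classical.Quad.oHom Q' ⟨_, hiso⟩) ?_ fun v hv => ?_)
      · rw [← map_pow, show (⟨g⁻¹ * y * g, hiso⟩ : Cfsg.isometryGroup F ⇑Q') ^ r = 1 from
          Subtype.ext (conj_inv g hyr), map_one]
      · have h0 : Module.End.eigenspace (Matrix.toLin' (x : Matrix (Fin n) (Fin n) F)) 1 = ⊥ :=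
          Submodule.finrank_eq_zero.1 (by rw [heig, hk, Nat.sub_self])
        have hv' : (g⁻¹ * y * g).1 *ᵥ v = v := hv
        have hgv : g.1 *ᵥ v ∈ Module.End.eigenspace (Matrix.toLin' (x : Matrix (Fin n) (Fin n) F)) 1 := by
          rw [Module.End.mem_eigenspace_iff, one_smul, Matrix.toLin'_apply, Matrix.mulVec_mulVec]
          conv_rhs => rw [← hv', Matrix.mulVec_mulVec, ← Units.val_mul]
          rw [show g * (g⁻¹ * y * g) = y * g by group, Units.val_mul]
          rfl
        rw [h0, Submodule.mem_bot] at hgv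
        have := congrArg ((g⁻¹).1 *ᵥ ·) hgv
        simpa [Matrix.mulVec_mulVec, ← Units.val_mul] using this
    · obtain ⟨f, x, hfm, hfirr, hfdeg, hfcyc, hxS, hx, hns, hann, hchar⟩ :=
        Cfsg.Agent.Classical.SimConj.exists_block_witness (n := n) hrF h1 hle
      obtain ⟨g, -, hmem⟩ := hall x hxS ⟨1, by rw [hx, Units.val_one, one_smul]⟩ hns
      obtain ⟨c, hc0, hc⟩ := (mem_iff h2 Q' _).1 hmem
      obtain rfl := hmult hx hc0 hc
      obtain ⟨l, hl⟩ := Cfsg.Agent.Classical.SimConj.pow_eq_neg (p := p) 0 (σ := RingHom.id F)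
        (fun a => by rw [pow_zero, pow_one, RingHom.id_apply]) hrF hJ hfm hfirr hfcyc hann hchar g hc
      rw [pow_zero] at hl
      have h3 := congrArg (· ^ orderOf (Fintype.card F : ZMod r)) hl
      simp only [← pow_mul] at h3
      rw [mul_comm, pow_mul, pow_orderOf_eq_one, one_pow, hodd'.neg_one_pow] at h3
      have h4 : ((2 : ℕ) : ZMod r) = 0 := by
        push_cast
        linear_combination h3
      have := Nat.le_of_dvd (by norm_num) ((ZMod.natCast_eq_zero_iff 2 r).1 h4)
      omega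
  · -- the case `r ∣ q - 1`
    have hrq1 : r ∣ Fintype.card F - 1 := by
      have h := (Cfsg.Agent.LargeSylow.dvd_sub_iff (r := r) (Fintype.card_pos (α := F)) 1).2
        (by rw [h1])
      rwa [pow_one] at h
    have hv1 : 1 ≤ padicValNat r (Fintype.card F - 1) := one_le_padicValNat_of_dvd (by
      have := Fintype.one_lt_card (α := F)
      omega) hrq1
    obtain ⟨ζ, hζ⟩ := exists_primitive (F := F) (r := r) (k := 1) (by rwa [pow_one])
    rw [pow_one] at hζ
    have hwit : ∀ (w : Fin n → F) (z : F), (∀ i, w i ^ r = z) → (∏ i, w i) = 1 → (∃ i j, w i ≠ w j) →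
        (∀ (μ : F) (π : Equiv.Perm (Fin n)), ¬ ∀ i, w i * w (π i) = μ) →
        ¬ (∀ x ∈ Cfsg.Geo.specialLinear (Fin n) F, (∃ z : F, ((x ^ r : GL (Fin n) F) : Matrix (Fin n) (Fin n) F) = z • (1 : Matrix (Fin n) (Fin n) F)) →
          (∀ z : F, (x : Matrix (Fin n) (Fin n) F) ≠ z • (1 : Matrix (Fin n) (Fin n) F)) →
          ∃ g ∈ Cfsg.Geo.specialLinear (Fin n) F, g⁻¹ * x * g ∈ Cfsg.Geo.quadSimilarityGroup ⇑Q') := by
      intro w z hw hprod ⟨a, b, hab⟩ hno hall
      have hd : (Matrix.diagonal w).det = 1 := by rw [Matrix.det_diagonal]; exact hprod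
      let x : GL (Fin n) F := Matrix.GeneralLinearGroup.mkOfDetNeZero (Matrix.diagonal w)
        (by rw [hd]; exact one_ne_zero)
      obtain ⟨g, -, hmem⟩ := hall x ((mem_sl_iff x).2 hd)
        ⟨z, by
          rw [Units.val_pow_eq_pow_val, show x.1 = Matrix.diagonal w from rfl, Matrix.diagonal_pow,
            Matrix.smul_one_eq_diagonal]
          exact congrArg Matrix.diagonal (funext hw)⟩
        (fun c hc => hab (by
          have ha := congrFun (congrFun hc a) a
          have hb := congrFun (congrFun hc b) b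
          simp [x, Matrix.GeneralLinearGroup.mkOfDetNeZero] at ha hb
          rw [ha, hb]))
      obtain ⟨c, -, hc⟩ := (mem_iff h2 Q' _).1 hmem
      obtain ⟨π, hπ⟩ := Cfsg.Agent.Classical.SimConj.exists_perm hJ hc g⁻¹ w (by
        rw [← Units.val_mul, show g⁻¹ * x * g * g⁻¹ = g⁻¹ * x by group, Units.val_mul]
        rfl)
      exact hno c π hπ
    by_cases hsp : (r = 3 ∨ r = 5) ∧ n = r
    swap
    · refine iff_of_false ?_ fun h => hsp ⟨h.1, h.2.1⟩
      obtain ⟨w, he, hprod, hne, hno⟩ := Cfsg.Agent.Classical.SimConj.exists_weights hζ hr3 hn hgap hsp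
      exact hwit w 1 (fun i => by
        obtain ⟨e, he⟩ := he i
        rw [he, ← pow_mul, mul_comm, pow_mul, hζ.pow_eq_one, one_pow]) hprod hne hno
    obtain ⟨h35, hnr⟩ := hsp
    subst hnr
    simp only [h35, true_and]
    by_cases hv : padicValNat n (Fintype.card F - 1) = 1
    swap
    · refine iff_of_false ?_ hv
      obtain ⟨d, hd⟩ := exists_primitive (F := F) (r := n) (k := 2)
        ((pow_dvd_pow n (show 2 ≤ padicValNat n (Fintype.card F - 1) by omega)).trans pow_padicValNat_dvd)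
      have hω : IsPrimitiveRoot (d ^ n) n := hd.pow (pow_pos hn0 2) (pow_two n)
      obtain ⟨w, -, hw, hprod, hne, hno⟩ := Cfsg.Agent.Classical.SimConj.exists_weights_high hω hr3 rfl
      exact hwit w _ hw hprod hne hno
    simp only [hv, iff_true]
    intro x hxS ⟨z, hz⟩ _
    have hz0 := Cfsg.Agent.Classical.SimConj.scalar_ne hn0 hz
    have hxdet : x.1.det = 1 := (mem_sl_iff x).1 hxS
    have hoddn : Odd n := by rcases h35 with h | h <;> rw [h] <;> decide
    have hzr : z ^ n = 1 := by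
      have := congrArg Matrix.det hz
      rw [Units.val_pow_eq_pow_val, Matrix.det_pow, hxdet, one_pow, Matrix.det_smul, Matrix.det_one, mul_one,
        Fintype.card_fin] at this
      exact this.symm
    obtain ⟨d, hd⟩ : ∃ d : F, d ^ n = z := by
      by_contra hnp
      push Not at hnp
      obtain ⟨κ, _, s, hs, hirr, hdvd, Φ, hΦ⟩ := Cfsg.Agent.Classical.Elusive.exists_split hrF hz0
        (Cfsg.Agent.Classical.SimConj.toLin_pow hz)
      have hseq : ∀ i, s i = Polynomial.X ^ n - Polynomial.C z := fun i =>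
        Cfsg.Agent.Classical.Elusive.factor_eq hnp (hs i) (hirr i) (hdvd i)
      have hcard : Fintype.card κ = 1 := by
        have := Cfsg.Agent.Classical.Elusive.finrank_eq_sum Φ hs
        rw [Module.finrank_fin_fun, Finset.sum_congr rfl (fun i _ => by rw [hseq, Polynomial.natDegree_X_pow_sub_C]),
          Finset.sum_const, smul_eq_mul, Finset.card_univ] at this
        exact Nat.eq_of_mul_eq_mul_right hn0 (by rw [one_mul]; exact this.symm)
      have hdet := Cfsg.Agent.Classical.Elusive.det_eq ⟨x.1, hxdet⟩ hΦ hs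
      rw [Finset.prod_congr rfl (fun i _ => hseq i), Finset.prod_const, Finset.card_univ, hcard, pow_one,
        Polynomial.coeff_sub, Polynomial.coeff_X_pow, if_neg (by omega), Polynomial.coeff_C_zero, zero_sub,
        hoddn.neg_one_pow, neg_one_mul, neg_neg] at hdet
      exact hnp 1 (by rw [one_pow, hdet])
    have hd0 : d ≠ 0 := fun h => hz0 (by rw [← hd, h, zero_pow hn0.ne'])
    have hgcd : Nat.gcd (n * n) (Fintype.card F - 1) ∣ n := by
      obtain ⟨t, ht⟩ := hrq1
      have htn : ¬ n ∣ t := fun hdv => by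
        have h2v : 2 ≤ padicValNat n (Fintype.card F - 1) := (padicValNat_dvd_iff_le (by
          have := Fintype.one_lt_card (α := F)
          omega)).1 (by rw [ht, pow_two]; exact mul_dvd_mul_left n hdv)
        omega
      rw [ht, Nat.gcd_mul_left, Nat.Coprime.gcd_eq_one ((Fact.out : n.Prime).coprime_iff_not_dvd.2 htn), mul_one]
    have hd1 : d ^ n = 1 := by
      have h3 : d ^ (n * n) = 1 := by rw [pow_mul, hd, hzr]
      have h4 := pow_gcd_eq_one.2 ⟨h3, FiniteField.pow_card_sub_one_eq_one d hd0⟩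
      obtain ⟨t, ht⟩ := hgcd
      rw [show d ^ n = d ^ (Nat.gcd (n * n) (Fintype.card F - 1) * t) by rw [← ht], pow_mul, h4, one_pow]
    obtain ⟨G, w, hw, hG⟩ := Cfsg.Agent.Classical.SimConj.exists_diag hrF h1 hd0 (by rw [hd]; exact hz)
    have hwp : ∀ i, ∃ a : Fin n, w i = ζ ^ (a : ℕ) := fun i => by
      obtain ⟨a, ha, he⟩ := hζ.eq_pow_of_pow_eq_one (show w i ^ n = 1 by rw [hw, hd1])
      exact ⟨⟨a, ha⟩, he.symm⟩
    choose a ha using hwp
    have hprodw : ∏ i, w i = 1 := by
      have h := congrArg Matrix.det hG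
      rw [Matrix.det_mul, Matrix.det_mul, hxdet, one_mul, Matrix.det_diagonal] at h
      exact (mul_eq_left₀ (show G.1.det ≠ 0 from (Matrix.GeneralLinearGroup.det G).ne_zero)).1 h.symm
    obtain ⟨s, π, hπ, hs⟩ := Cfsg.Agent.Classical.SimConj.exists_symm h35 a (by
      rw [← hζ.pow_eq_one_iff_dvd, ← Finset.prod_pow_eq_pow_sum, ← hprodw]
      exact Finset.prod_congr rfl fun i _ => (ha i).symm)
    set μ := ζ ^ (s : ℕ) with hμ
    have hwμ : ∀ i, w i * w (π i) = μ := fun i => by
      rw [ha, ha, ← pow_add, hμ, hs]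
      have e : ((a i + (s - a i) : Fin n) : ℕ) = (s : ℕ) := by rw [add_sub_cancel]
      rw [← e, Fin.val_add]
      exact (pow_mod_orderOf ζ _).symm.trans (by rw [← hζ.eq_orderOf])
    set J' : Matrix (Fin n) (Fin n) F := Matrix.of fun i j => if π i = j then 1 else 0 with hJ'def
    have hJ'2 : J' * J' = 1 := by
      ext i j
      rw [Matrix.mul_apply, Finset.sum_eq_single (π i)]
      · simp [hJ'def, hπ, Matrix.one_apply]
      · intro b _ hb
        simp [hJ'def, Ne.symm hb]
      · simp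
    have hJ'0 : J'.det ≠ 0 := fun h => by
      have h' := congrArg Matrix.det hJ'2
      rw [Matrix.det_mul, h, zero_mul, Matrix.det_one] at h'
      exact zero_ne_one h'
    have hJ's : J'ᵀ = J' := by
      ext i j
      have hiff : π j = i ↔ π i = j := ⟨fun h => by rw [← h, hπ], fun h => by rw [← h, hπ]⟩
      simp [hJ'def, hiff]
    set Q2 : QuadraticForm F (Fin n → F) := LinearMap.BilinMap.toQuadraticMap (Matrix.toLinearMap₂' F J') with hQ2
    have hpol : ∀ u v, QuadraticMap.polar Q2 u v = 2 * (u ⬝ᵥ J' *ᵥ v) := fun u v => by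
      rw [hQ2, LinearMap.BilinMap.polar_toQuadraticMap, Matrix.toLinearMap₂'_apply', Matrix.toLinearMap₂'_apply']
      conv_lhs => arg 2; rw [← hJ's, Matrix.dotProduct_transpose_mulVec]
      ring
    have hQ2n : (QuadraticMap.polarBilin Q2).Nondegenerate := Cfsg.Agent.Classical.Quad.nondeg_of fun u hu => by
      have h0 : J' *ᵥ u = 0 := funext fun i => by
        have h := hu (Pi.single i 1)
        rw [QuadraticMap.polar_comm, hpol, single_dotProduct, one_mul] at h
        exact (mul_eq_zero.1 h).resolve_left h2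
      have h3 := congrArg (J' *ᵥ ·) h0
      simpa [Matrix.mulVec_mulVec, hJ'2] using h3
    obtain ⟨e, c, hc0, hec⟩ := Cfsg.Agent.Classical.Quad.exists_similar h2 hoddn (Module.finrank_fin_fun F)
      Q2 Q' hQ2n hQn
    let T : GL (Fin n) F := Matrix.GeneralLinearGroup.mkOfDetNeZero (LinearMap.toMatrix' e.toLinearMap)
      (by rw [LinearMap.det_toMatrix']; exact (LinearEquiv.isUnit_det' e).ne_zero)
    have hT : ∀ u, T.1 *ᵥ u = e u := fun u => LinearMap.toMatrix'_mulVec e.toLinearMap u
    have hTJ : (T.1)ᵀ * gram Q' * T.1.map (RingHom.id F) = (c * 2) • J' := by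
      rw [show T.1.map (RingHom.id F) = T.1 from Matrix.map_id _]
      refine mat_ext fun u v => ?_
      rw [congr_apply, Matrix.smul_mulVec, dotProduct_smul, smul_eq_mul, mul_assoc, ← hpol, hT, hT]
      simp only [QuadraticMap.polar, ← map_add, hec]
      ring
    have hsim : Cfsg.Agent.Classical.SimConj.IsSim (RingHom.id F) ((T.1)ᵀ * gram Q' * T.1.map (RingHom.id F))
        (G⁻¹ * x * G).1 μ := by
      rw [hTJ, Cfsg.Agent.Classical.SimConj.isSim_smul (mul_ne_zero hc0 h2)]
      have hD : (G⁻¹ * x * G).1 = Matrix.diagonal w := by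
        rw [Units.val_mul, Units.val_mul, Matrix.mul_assoc, hG, ← Matrix.mul_assoc, ← Units.val_mul, inv_mul_cancel,
          Units.val_one, Matrix.one_mul]
      rw [Cfsg.Agent.Classical.SimConj.IsSim, hD,
        show (Matrix.diagonal w).map (RingHom.id F) = Matrix.diagonal w from Matrix.map_id _,
        Matrix.diagonal_transpose]
      ext i j
      rw [Matrix.mul_diagonal, Matrix.diagonal_mul, Matrix.smul_apply, hJ'def, Matrix.of_apply, smul_eq_mul]
      split_ifs with h
      · subst h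
        rw [mul_one, mul_one]
        exact hwμ i
      · simp
    have hmem : (G * T⁻¹)⁻¹ * x * (G * T⁻¹) ∈ Cfsg.Geo.quadSimilarityGroup ⇑Q' := by
      refine (mem_iff h2 Q' _).2 ⟨μ, pow_ne_zero _ (hζ.ne_zero hn0.ne'), ?_⟩
      have h := Cfsg.Agent.Classical.SimConj.congr_sim T hsim
      rw [show (G * T⁻¹)⁻¹ * x * (G * T⁻¹) = T * (G⁻¹ * x * G) * T⁻¹ by group]
      exact h
    exact Cfsg.Agent.Classical.SimConj.exists_sl_conj hn0 _
      (Cfsg.Agent.Classical.Elusive.squarefree_pow_sub (F := F) (r := n) hrF hz0)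
      (Cfsg.Agent.Classical.SimConj.aeval_pow_scalar hz) _ hmem

end Cfsg.Agent.S5981
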