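import Cfsg.Statements.S5982
import Cfsg.Agent.Classical.SimConj.Basic
import Cfsg.Agent.Classical.SimConj.Weights
import Cfsg.Agent.Classical.SimConj.Index
import Cfsg.Agent.Classical.HermGroup
import Cfsg.Agent.Classical.Elusive.Pieces
import Cfsg.Agent.MatModule.UnitaryUnipotent
import Cfsg.Prelude.Def_LieClassical
-- import your own Cfsg.Agent.* helpers here

set_option autoImplicit false
open scoped MatrixGroups
open Cfsg

set_option linter.unusedSectionVars false
namespace Cfsg.Agent.S5982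

open Polynomial Module Matrix Cfsg.Agent.Classical Cfsg.Agent.Classical.SimConj Cfsg.Agent.Classical.Herm

variable {F : Type*} [Field F] {n : ℕ} {q₀ : ℕ} {σ : F →+* F}

/-- The Gram matrix of a form. -/
def gram (f : (Fin n → F) → (Fin n → F) → F) : Matrix (Fin n) (Fin n) F :=
  Matrix.of fun i j => f (Pi.single i 1) (Pi.single j 1)

section

variable {f : (Fin n → F) → (Fin n → F) → F} (hσq : ∀ x, σ x = x ^ q₀) (hf : Cfsg.Geo.IsUnitaryFormPow q₀ f)
include hσq hf

theorem form_eq (u v : Fin n → F) : f u v = u ⬝ᵥ gram f *ᵥ (σ ∘ v) := by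
  have hl : ∀ v, IsLinearMap F fun u => f u v := fun v => ⟨fun x y => hf.add_left x y v, fun c x => hf.smul_left c x v⟩
  have h1 : ∀ u v, f u v = ∑ i, u i * f (Pi.single i 1) v := fun u v => by
    have h := congrArg (IsLinearMap.mk' _ (hl v)) (pi_eq_sum_univ' u)
    rw [map_sum] at h
    refine h.trans (Finset.sum_congr rfl fun i _ => ?_)
    rw [map_smul]
    rfl
  have h2 : ∀ i, f (Pi.single i 1) v = ∑ j, gram f i j * σ (v j) := fun i => by
    rw [hf.herm, ← hσq, h1, map_sum]
    refine Finset.sum_congr rfl fun j _ => ?_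
    rw [map_mul, hσq (f _ _), ← hf.herm, mul_comm]
    rfl
  rw [h1]
  exact Finset.sum_congr rfl fun i _ => by rw [h2]; rfl

theorem gram_herm : ((gram f).map σ)ᵀ = gram f := by
  ext i j
  exact (hσq _).trans (hf.herm (Pi.single i 1) (Pi.single j 1)).symm

theorem gram_det : (gram f).det ≠ 0 := by
  intro h
  rw [← Matrix.det_transpose] at h
  obtain ⟨v, hv, hv0⟩ := Matrix.exists_mulVec_eq_zero_iff.2 h
  obtain ⟨-, ⟨w, hw⟩⟩ := hf.nondegenerate v hv
  refine hw ?_
  rw [form_eq hσq hf, Matrix.dotProduct_mulVec, ← Matrix.mulVec_transpose, hv0, zero_dotProduct]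

theorem congr_apply (A : Matrix (Fin n) (Fin n) F) (u v : Fin n → F) :
    u ⬝ᵥ (Aᵀ * gram f * A.map σ) *ᵥ (σ ∘ v) = f (A *ᵥ u) (A *ᵥ v) := by
  rw [form_eq hσq hf, ← Matrix.mulVec_mulVec, ← Matrix.mulVec_mulVec, Matrix.dotProduct_mulVec,
    Matrix.vecMul_transpose]
  congr 2
  funext i
  exact (RingHom.map_mulVec σ A v i).symm

theorem sim_iff (g : Matrix (Fin n) (Fin n) F) (c : F) :
    IsSim σ (gram f) g c ↔ ∀ u v, f (g *ᵥ u) (g *ᵥ v) = c * f u v := by
  constructor
  · intro h u v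
    rw [← congr_apply hσq hf, show gᵀ * gram f * g.map σ = c • gram f from h, Matrix.smul_mulVec, dotProduct_smul,
      ← form_eq hσq hf, smul_eq_mul]
  · intro h
    have hs : ∀ j : Fin n, σ ∘ (Pi.single j (1 : F) : Fin n → F) = Pi.single j 1 := fun j => by
      funext i
      rcases eq_or_ne i j with rfl | hij
      · simp
      · simp [hij]
    show gᵀ * gram f * g.map σ = c • gram f
    ext i j
    have h1 := congr_apply hσq hf g (Pi.single i 1) (Pi.single j 1)
    rw [hs, h, single_dotProduct, one_mul, Matrix.mulVec_single_one] at h1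
    exact h1

theorem mem_iff (g : GL (Fin n) F) :
    g ∈ Cfsg.Geo.similarityGroup f ↔ ∃ c : F, c ≠ 0 ∧ IsSim σ (gram f) g.1 c :=
  ⟨fun ⟨c, hc⟩ => ⟨c, c.ne_zero, (sim_iff hσq hf _ _).2 hc⟩,
    fun ⟨c, hc, h⟩ => ⟨Units.mk0 c hc, fun u v => by rw [Units.val_mk0]; exact (sim_iff hσq hf _ _).1 h u v⟩⟩

end

theorem mem_sl_iff (g : GL (Fin n) F) : g ∈ Cfsg.Geo.specialLinear (Fin n) F ↔ g.1.det = 1 := by
  rw [Cfsg.Geo.specialLinear, MonoidHom.mem_ker, Units.ext_iff]
  rfl

theorem conj_inv (P : GL (Fin n) F) {x : GL (Fin n) F} {r : ℕ} (h : x ^ r = 1) : (P⁻¹ * x * P) ^ r = 1 := by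
  have e : (P⁻¹ * x * P) ^ r = P⁻¹ * x ^ r * P := by
    have := map_pow (MulAut.conj P⁻¹) x r
    simp only [MulAut.conj_apply, inv_inv] at this
    exact this.symm
  rw [e, h, mul_one, inv_mul_cancel]

theorem conj_val (G x : GL (Fin n) F) {w : Fin n → F} (hG : x.1 * G.1 = G.1 * Matrix.diagonal w) :
    (G⁻¹ * x * G).1 = Matrix.diagonal w := by
  rw [Units.val_mul, Units.val_mul, Matrix.mul_assoc, hG, ← Matrix.mul_assoc, ← Units.val_mul, inv_mul_cancel,
    Units.val_one, Matrix.one_mul]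

/-- The multiplier of a similitude lies in the fixed field. -/
theorem mult_fixed (hinv : ∀ a, σ (σ a) = a) {J g : Matrix (Fin n) (Fin n) F} {c : F} (hJ : (J.map σ)ᵀ = J)
    (hJ0 : J ≠ 0) (h : IsSim σ J g c) : σ c = c := by
  have h1 := congrArg (fun M : Matrix (Fin n) (Fin n) F => (M.map σ)ᵀ) (show gᵀ * J * g.map σ = c • J from h)
  simp only [Matrix.map_mul, Matrix.transpose_mul, hJ] at h1
  have e1 : (gᵀ.map σ)ᵀ = g.map σ := by rw [Matrix.transpose_map, Matrix.transpose_transpose]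
  have e2 : ((g.map σ).map σ)ᵀ = gᵀ := by
    congr 1
    ext i j
    exact hinv _
  have e3 : ((c • J).map σ)ᵀ = σ c • J := by
    ext i j
    have := congrFun (congrFun hJ i) j
    simp only [Matrix.transpose_apply, Matrix.map_apply] at this
    simp [this]
  rw [e1, e2, ← Matrix.mul_assoc, show gᵀ * J * g.map σ = c • J from h, e3] at h1
  exact (smul_left_injective F hJ0 h1).symm

variable [Fintype F]

/-- Hermitian matrices are congruent to the identity. -/
theorem exists_congr_one (hσ : IsInvol σ) {J : Matrix (Fin n) (Fin n) F} (hJ : (J.map σ)ᵀ = J) (hd : J.det ≠ 0) :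
    ∃ P : GL (Fin n) F, (P.1)ᵀ * J * P.1.map σ = 1 := by
  classical
  let B : (Fin n → F) →ₛₗ[σ] (Fin n → F) →ₗ[F] F :=
    LinearMap.mk₂'ₛₗ σ (RingHom.id F) (fun u v => v ⬝ᵥ J *ᵥ (σ ∘ u))
      (fun u u' v => by
        rw [show σ ∘ (u + u') = σ ∘ u + σ ∘ u' by funext i; simp, Matrix.mulVec_add, dotProduct_add])
      (fun c u v => by
        rw [show σ ∘ (c • u) = σ c • (σ ∘ u) by funext i; simp, Matrix.mulVec_smul, dotProduct_smul])
      (fun u v v' => add_dotProduct v v' _)
      (fun c u v => by rw [smul_dotProduct, RingHom.id_apply])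
  have hB : ∀ u v, B u v = v ⬝ᵥ J *ᵥ (σ ∘ u) := fun u v => rfl
  have hherm : IsHerm B :=
    { toIsInvol := hσ
      symm := fun u v => by
        have e1 : σ (v ⬝ᵥ J *ᵥ (σ ∘ u)) = (σ ∘ v) ⬝ᵥ (J.map σ) *ᵥ u := by
          rw [RingHom.map_dotProduct]
          congr 1
          funext i
          rw [Function.comp_apply, RingHom.map_mulVec]
          congr 2
          funext j
          exact hσ.invol _
        rw [hB, hB, e1]
        conv_rhs => rw [← hJ, Matrix.dotProduct_transpose_mulVec]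
      nondeg := fun u hu => by
        have h0 : J *ᵥ (σ ∘ u) = 0 := funext fun i => by
          have h := hu (Pi.single i 1)
          rwa [hB, single_dotProduct, one_mul] at h
        funext i
        have h2 : σ ∘ u = 0 := by
          by_contra hne
          exact hd (Matrix.exists_mulVec_eq_zero_iff.1 ⟨_, hne, h0⟩)
        exact (_root_.map_eq_zero σ).1 (congrFun h2 i) }
  obtain ⟨b, hb⟩ := exists_orthonormal hherm
  have hn : finrank F (Fin n → F) = n := finrank_fin_fun F
  let c : Fin n → (Fin n → F) := fun i => b (Fin.cast hn.symm i)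
  set M : Matrix (Fin n) (Fin n) F := Matrix.of fun i j => c j i with hM
  have hMJ : Mᵀ * J * M.map σ = 1 := by
    ext i j
    have h := hb (Fin.cast hn.symm j) (Fin.cast hn.symm i)
    rw [hB] at h
    rw [Matrix.mul_assoc, Matrix.mul_apply]
    refine Eq.trans ?_ (h.trans ?_)
    · exact Finset.sum_congr rfl fun k _ => rfl
    · rcases eq_or_ne i j with rfl | hij
      · simp
      · rw [if_neg (fun e => hij (Fin.cast_injective _ e).symm), Matrix.one_apply_ne hij]
  have hMd : M.det ≠ 0 := fun h => by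
    have h1 := congrArg Matrix.det hMJ
    rw [Matrix.det_mul, Matrix.det_mul, Matrix.det_transpose, h, zero_mul, zero_mul, Matrix.det_one] at h1
    exact zero_ne_one h1
  exact ⟨Matrix.GeneralLinearGroup.mkOfDetNeZero M hMd, hMJ⟩

variable {r : ℕ} [Fact r.Prime]

theorem one_of_pow {c : F} (hc : c ≠ 0) (h1 : orderOf (Fintype.card F : ZMod r) ≠ 1) (h : c ^ r = 1) : c = 1 := by
  have hco : Nat.gcd r (Fintype.card F - 1) = 1 := by
    rw [← Nat.coprime_iff_gcd_eq_one, (Fact.out : r.Prime).coprime_iff_not_dvd]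
    intro hd
    rw [← pow_one (Fintype.card F), LargeSylow.dvd_sub_iff Fintype.card_pos, Nat.dvd_one] at hd
    exact h1 hd
  have := pow_gcd_eq_one.2 ⟨h, FiniteField.pow_card_sub_one_eq_one c hc⟩
  rwa [hco, pow_one] at this

theorem exists_primitive {k : ℕ} (h : r ^ k ∣ Fintype.card F - 1) : ∃ d : F, IsPrimitiveRoot d (r ^ k) := by
  classical
  obtain ⟨g, hg⟩ := IsCyclic.exists_ofOrder_eq_natCard (α := Fˣ)
  rw [Nat.card_eq_fintype_card, Fintype.card_units] at hg
  obtain ⟨t, ht⟩ := h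
  refine ⟨((g ^ t : Fˣ) : F), IsPrimitiveRoot.coe_units_iff.2 ?_⟩
  rw [IsPrimitiveRoot.iff_orderOf, orderOf_pow' g (fun h0 => by
    rw [h0, mul_zero] at ht
    have := Fintype.one_lt_card (α := F)
    omega), hg, ht, Nat.gcd_eq_right (dvd_mul_left t _), Nat.mul_div_cancel _ (Nat.pos_of_ne_zero fun h0 => by
    rw [h0, mul_zero] at ht
    have := Fintype.one_lt_card (α := F)
    omega)]

/-- The centraliser of a map with an invariant complement contains every determinant. -/
theorem exists_commute_unip {φ : Module.End F (Fin n → F)} {m : Multiset ℕ} (h : MatModule.HasType φ m)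
    (hm : ∀ e ∈ m, e = 1 ∨ e = 2) (hn : 0 < n) (hsq : ∀ a : F, IsSquare a) {ν : F} (hν : ν ≠ 0) :
    ∃ C : Module.End F (Fin n → F), C * φ = φ * C ∧ LinearMap.det C = ν := by
  classical
  have hsum := MatModule.sum_eq_finrank h
  rw [finrank_fin_fun] at hsum
  obtain ⟨κ, _, e, he, Φ, hΦ⟩ := h
  obtain ⟨i₀⟩ : Nonempty κ := by
    by_contra hne
    rw [not_nonempty_iff] at hne
    rw [← he, Finset.univ_eq_empty] at hsum
    simp at hsum
    omega
  have hs : ∀ i, (((X - C (1 : F)) : F[X]) ^ e i).Monic := fun i => (monic_X_sub_C _).pow _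
  set A := Elusive.piece Φ {i₀} with hA
  set B := Elusive.piece Φ (Finset.univ \ {i₀}) with hB
  have hAB : IsCompl A B := Elusive.isCompl_piece {i₀}
  have hdimA : finrank F A = e i₀ := by
    rw [hA, Elusive.finrank_piece hs, Finset.sum_singleton, (monic_X_sub_C (1 : F)).natDegree_pow,
      natDegree_X_sub_C, mul_one]
  obtain ⟨v, hv⟩ : ∃ v : F, v ^ e i₀ = ν := by
    have hmem : e i₀ ∈ m := he ▸ Multiset.mem_map_of_mem _ (Finset.mem_univ i₀)
    rcases hm _ hmem with h | h
    · exact ⟨ν, by rw [h, pow_one]⟩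
    · obtain ⟨v, hv⟩ := hsq ν
      exact ⟨v, by rw [h, pow_two, hv]⟩
  set E := Submodule.prodEquivOfIsCompl A B hAB with hE
  set D : Module.End F (A × B) := (v • LinearMap.id).prodMap LinearMap.id with hD
  refine ⟨E.conj D, LinearMap.ext fun w => ?_, ?_⟩
  · obtain ⟨w, rfl⟩ := E.surjective w
    have hA' : ∀ a ∈ A, φ a ∈ A := fun a ha => Elusive.piece_map_le hΦ {i₀} (Submodule.mem_map_of_mem ha)
    have hB' : ∀ a ∈ B, φ a ∈ B := fun a ha =>
      Elusive.piece_map_le hΦ (Finset.univ \ {i₀}) (Submodule.mem_map_of_mem ha)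
    have hC : ∀ z : A × B, E.conj D (E z) = v • (z.1 : Fin n → F) + z.2 := fun z => by
      rw [LinearEquiv.conj_apply_apply, E.symm_apply_apply]
      exact Submodule.coe_prodEquivOfIsCompl' A B hAB _
    have hEw : E w = (w.1 : Fin n → F) + w.2 := Submodule.coe_prodEquivOfIsCompl' A B hAB w
    set z : A × B := (⟨φ w.1, hA' _ w.1.2⟩, ⟨φ w.2, hB' _ w.2.2⟩) with hz
    have hφw : φ (E w) = E z := by
      rw [hEw, map_add]
      exact (Submodule.coe_prodEquivOfIsCompl' A B hAB z).symm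
    rw [Module.End.mul_apply, Module.End.mul_apply, hφw, hC, hC, map_add, map_smul]
  · have : LinearMap.det (E.conj D) = LinearMap.det D := LinearMap.det_conj D E
    rw [this, hD, LinearMap.det_prodMap, LinearMap.det_smul, LinearMap.det_id, LinearMap.det_id, mul_one, mul_one,
      hdimA, hv]

/-- If `r` divides the index then `-q₀` has even order modulo `r`. -/
theorem even_order (hσ : IsInvol σ) (hσq : ∀ x, σ x = x ^ q₀) (hfix : Nat.card (fixField σ) = q₀) (hn : 1 ≤ n)
    (hF : Fintype.card F = q₀ ^ 2) (hrq : ¬ r ∣ q₀) (hr2 : r ≠ 2)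
    {f : (Fin n → F) → (Fin n → F) → F} (hf : Cfsg.Geo.IsUnitaryFormPow q₀ f)
    (h : r ∣ (Cfsg.Geo.similarityGroup f).relIndex (Cfsg.Geo.specialLinear (Fin n) F)) :
    Even (orderOf (-(q₀ : ZMod r))) := by
  classical
  have hr := (Fact.out : r.Prime)
  have hq2 : 2 ≤ q₀ := by
    by_contra hlt
    have := Fintype.one_lt_card (α := F)
    rw [hF] at this
    interval_cases q₀ <;> simp at this
  by_contra hodd
  rw [Nat.not_even_iff_odd] at hodd
  obtain ⟨P, hP⟩ := exists_congr_one hσ (gram_herm hσq hf) (gram_det hσq hf)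
  let ψ : Matrix.SpecialLinearGroup (Fin n) F →* GL (Fin n) F :=
    (MulAut.conj P).toMonoidHom.comp Matrix.SpecialLinearGroup.toGL
  have hψ : Function.Injective ψ := fun a b e =>
    Subtype.ext (congrArg Units.val ((MulAut.conj P).injective e))
  set K := (Cfsg.SU n F q₀).map ψ with hK
  have hcardK : Nat.card K = Nat.card (Cfsg.SU n F q₀) :=
    (Nat.card_congr (Subgroup.equivMapOfInjective _ ψ hψ).toEquiv).symm
  have hKS : K ≤ Cfsg.Geo.specialLinear (Fin n) F := by
    rintro _ ⟨a, -, rfl⟩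
    rw [mem_sl_iff]
    show (P.1 * a.1 * (P⁻¹).1).det = 1
    rw [Matrix.det_mul, Matrix.det_mul, a.2, mul_one, ← Matrix.det_mul, ← Units.val_mul, mul_inv_cancel,
      Units.val_one, Matrix.det_one]
  have hKH : K ≤ Cfsg.Geo.similarityGroup f := by
    rintro _ ⟨a, ha, rfl⟩
    refine (mem_iff hσq hf _).2 ⟨1, one_ne_zero, congr_sim P ?_⟩
    rw [hP, IsSim, Matrix.mul_one, one_smul]
    ext i j
    have h1 := ha (Pi.single i 1) (Pi.single j 1)
    rw [Matrix.mul_apply]
    refine Eq.trans ?_ (h1.trans ?_)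
    · exact Finset.sum_congr rfl fun k _ => by
        rw [Matrix.transpose_apply, Matrix.map_apply, hσq]
        show _ = (a.1 *ᵥ Pi.single i 1) k * (a.1 *ᵥ Pi.single j 1) k ^ q₀
        rw [Matrix.mulVec_single_one, Matrix.mulVec_single_one]
        rfl
    · simp only [Cfsg.hermForm]
      rw [Finset.sum_eq_single i]
      · rcases eq_or_ne i j with rfl | hij
        · simp
        · simp [hij, zero_pow (show q₀ ≠ 0 by omega)]
      · intro k _ hk
        simp [hk]
      · simp
  have hdvd := mul_card_dvd hKH hKS h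
  rw [hcardK] at hdvd
  have hdvd' : (q₀ ^ 2 - 1) * (r * Nat.card (Cfsg.GU n F q₀)) ∣
      (q₀ + 1) * ((q₀ ^ 2) ^ (n * (n - 1) / 2) * ∏ i ∈ Finset.range n, ((q₀ ^ 2) ^ (i + 1) - 1)) := by
    rw [← hF, ← card_sl hn, ← card_SU_mul_eq_GU hσ hσq hfix hn]
    calc (Fintype.card F - 1) * (r * ((q₀ + 1) * Nat.card (Cfsg.SU n F q₀)))
        = (q₀ + 1) * ((Fintype.card F - 1) * (r * Nat.card (Cfsg.SU n F q₀))) := by ring
      _ ∣ _ := mul_dvd_mul_left _ (mul_dvd_mul_left _ hdvd)
  rw [card_GU_formula hσ hσq hfix] at hdvd'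
  set U := fun i : ℕ => if Even i then q₀ ^ (i + 1) + 1 else q₀ ^ (i + 1) - 1 with hU
  set V := fun i : ℕ => if Even i then q₀ ^ (i + 1) - 1 else q₀ ^ (i + 1) + 1 with hV
  have hUV : ∀ i, (q₀ ^ 2) ^ (i + 1) - 1 = U i * V i := fun i => by
    have e : (q₀ ^ 2) ^ (i + 1) - 1 = (q₀ ^ (i + 1) + 1) * (q₀ ^ (i + 1) - 1) := by
      rw [← Nat.sq_sub_sq, one_pow, ← pow_mul, ← pow_mul, mul_comm]
    rw [e, hU, hV]
    dsimp only
    split_ifs
    · rfl
    · ring
  rw [Finset.prod_congr rfl fun i _ => hUV i, Finset.prod_mul_distrib] at hdvd'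
  have hU0 : 0 < ∏ i ∈ Finset.range n, U i := Finset.prod_pos fun i _ => by
    rw [hU]
    dsimp only
    have : 1 < q₀ ^ (i + 1) := Nat.one_lt_pow (by omega) (by omega)
    split_ifs <;> omega
  have hsq1 : q₀ ^ 2 - 1 = (q₀ + 1) * (q₀ - 1) := by rw [← Nat.sq_sub_sq, one_pow]
  have h3 : r ∣ (q₀ ^ 2) ^ (n * (n - 1) / 2) * ∏ i ∈ Finset.range n, V i := by
    refine (dvd_mul_right r ((q₀ - 1) * q₀ ^ (n * (n - 1) / 2))).trans ?_
    refine Nat.dvd_of_mul_dvd_mul_left (show 0 < (q₀ + 1) * ∏ i ∈ Finset.range n, U i from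
      Nat.mul_pos (by omega) hU0) ?_
    rw [hsq1] at hdvd'
    calc (q₀ + 1) * (∏ i ∈ Finset.range n, U i) * (r * ((q₀ - 1) * q₀ ^ (n * (n - 1) / 2)))
        = (q₀ + 1) * (q₀ - 1) * (r * (q₀ ^ (n * (n - 1) / 2) * ∏ i ∈ Finset.range n, U i)) := by ring
      _ ∣ _ := hdvd'
      _ = _ := by ring
  rcases hr.dvd_mul.1 h3 with h4 | h4
  · exact hrq (hr.dvd_of_dvd_pow (hr.dvd_of_dvd_pow h4))
  obtain ⟨i, -, h5⟩ := hr.prime.exists_mem_finset_dvd h4
  have h6 : (-(q₀ : ZMod r)) ^ (i + 1) = -1 := by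
    rw [hV] at h5
    dsimp only at h5
    have h5' := (ZMod.natCast_eq_zero_iff _ r).2 h5
    split_ifs at h5' with hi
    · rw [Nat.cast_sub (Nat.one_le_pow _ _ (by omega)), Nat.cast_pow, Nat.cast_one, sub_eq_zero] at h5'
      rw [hi.add_one.neg_pow, h5']
    · push_cast at h5'
      rw [(Nat.not_even_iff_odd.1 hi).add_one.neg_pow]
      exact eq_neg_of_add_eq_zero_left h5'
  have h7 := congrArg (· ^ orderOf (-(q₀ : ZMod r))) h6
  simp only [← pow_mul] at h7
  rw [mul_comm, pow_mul, pow_orderOf_eq_one, one_pow, hodd.neg_one_pow] at h7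
  have h8 : ((2 : ℕ) : ZMod r) = 0 := by
    push_cast
    linear_combination h7
  exact hr2 ((Nat.prime_dvd_prime_iff_eq hr Nat.prime_two).1 ((ZMod.natCast_eq_zero_iff 2 r).1 h8))

end Cfsg.Agent.S5982


namespace Cfsg.Agent.S5982
open Matrix

/-- Elements of prime order of PSL_n(q), q = q₀², and the subgroups of unitary type. Here `T = PSL_n(F)` for a field `F` with `q = q₀²` elements (`n ≥ 3`), `f` is a non-degenerate unitary form on `F^n` for the involutory automorphism `x ↦ x^{q₀}`, and `H` is the subgroup of matrices of determinant 1 that preserve `f` up to a scalar — a subgroup of type GU_n(q₀) (maximality is not assumed); Ω is the set of cosets of `H` in `T`, so an element of `T` of prime order `r` (a matrix `x` of determinant 1 with `x^r` scalar, `x` not scalar) fixes a point of Ω exactly when some conjugate of `x` by a matrix of determinant 1 preserves `f` up to a scalar. Let `r` be a prime dividing the index of `H`, with `r = 2` or `r` different from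 the characteristic `p`, and with `(n, r) ≠ (6, 3)`. Then every element of `T` of order `r` fixes a point of Ω if and only if either `r = 2` and (`p = 2` or `(n)_2 ≤ (q − 1)_2`), or `r ∈ {3, 5}`, `n = r` and `(q₀ − 1)_r = r`. (Odd `r = p` and the case `(n, r) = (6, 3)` are not covered by this statement.) -/
theorem result {F : Type*} [Field F] [Fintype F] {p : ℕ} [Fact p.Prime] [CharP F p] {q : ℕ} (hq : Fintype.card F = q)
    (q₀ : ℕ) (hq₀ : q = q₀ ^ 2) (n : ℕ) (hn : 3 ≤ n) (f : (Fin n → F) → (Fin n → F) → F) (hf : Cfsg.Geo.IsUnitaryFormPow q₀ f)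
    (r : ℕ) [Fact r.Prime] (hr : r = 2 ∨ r ≠ p) (hgap : ¬ (n = 6 ∧ r = 3))
    (hΩ : r ∣ (Cfsg.Geo.similarityGroup f).relIndex (Cfsg.Geo.specialLinear (Fin n) F)) :
    (∀ x ∈ Cfsg.Geo.specialLinear (Fin n) F, (∃ z : F, ((x ^ r : GL (Fin n) F) : Matrix (Fin n) (Fin n) F) = z • (1 : Matrix (Fin n) (Fin n) F)) →
      (∀ z : F, (x : Matrix (Fin n) (Fin n) F) ≠ z • (1 : Matrix (Fin n) (Fin n) F)) →
      ∃ g ∈ Cfsg.Geo.specialLinear (Fin n) F, g⁻¹ * x * g ∈ Cfsg.Geo.similarityGroup f) ↔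
    ((r = 2 ∧ (p = 2 ∨ padicValNat 2 n ≤ padicValNat 2 (q - 1))) ∨ ((r = 3 ∨ r = 5) ∧ n = r ∧ padicValNat r (q₀ - 1) = 1)) := by
  classical
  subst hq
  have hF := hq₀
  have hn0 : 0 < n := by omega
  haveI : Nonempty (Fin n) := ⟨⟨0, hn0⟩⟩
  obtain ⟨σ, hσq, hσ, hfix, hq1⟩ := Cfsg.Agent.Classical.exists_powHom hF
  have hJ := gram_det hσq hf
  have hJH := gram_herm hσq hf
  have hJ0 : gram f ≠ 0 := fun h => hJ (by rw [h, Matrix.det_zero])
  obtain ⟨P₀, hP₀⟩ := exists_congr_one hσ hJH hJ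
  obtain ⟨e₀, hpp, he₀⟩ := FiniteField.card F p
  obtain ⟨k₀, -, hk₀⟩ := (Nat.dvd_prime_pow hpp).1
    (show q₀ ∣ p ^ (e₀ : ℕ) from he₀ ▸ hF ▸ dvd_pow_self q₀ two_ne_zero)
  have hfixed : ∀ {a : F}, σ a = a → a ≠ 0 → a ^ (q₀ - 1) = 1 := fun {a} ha ha0 => by
    rw [hσq] at ha
    exact mul_right_cancel₀ ha0 (by rw [one_mul, ← pow_succ, Nat.sub_add_cancel hq1.le, ha])
  have hself : ∀ (x G : GL (Fin n) F) (w : Fin n → F) (c : F), c ≠ 0 →
      x.1 * G.1 = G.1 * Matrix.diagonal w → (∀ i, w i * σ (w i) = c) →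
      ∃ P : GL (Fin n) F, P⁻¹ * x * P ∈ Cfsg.Geo.similarityGroup f := by
    intro x G w c hc hG hw
    refine ⟨G * P₀⁻¹, (mem_iff hσq hf _).2 ⟨c, hc, ?_⟩⟩
    rw [show (G * P₀⁻¹)⁻¹ * x * (G * P₀⁻¹) = P₀ * (G⁻¹ * x * G) * P₀⁻¹ by group]
    refine Cfsg.Agent.Classical.SimConj.congr_sim P₀ ?_
    rw [hP₀, Cfsg.Agent.Classical.SimConj.IsSim, conj_val G x hG, Matrix.mul_one, Matrix.diagonal_transpose,
      Matrix.diagonal_map (map_zero σ), Matrix.diagonal_mul_diagonal, Matrix.smul_one_eq_diagonal]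
    exact congrArg Matrix.diagonal (funext hw)
  by_cases hr2 : r = 2
  · subst hr2
    have hiff : ((2 = 2 ∧ (p = 2 ∨ padicValNat 2 n ≤ padicValNat 2 (Fintype.card F - 1))) ∨
        ((2 = 3 ∨ 2 = 5) ∧ n = 2 ∧ padicValNat 2 (q₀ - 1) = 1)) ↔
        (p = 2 ∨ padicValNat 2 n ≤ padicValNat 2 (Fintype.card F - 1)) := by omega
    rw [hiff]
    by_cases hp2 : p = 2
    · subst hp2
      refine iff_of_true ?_ (Or.inl rfl)
      intro x hxS ⟨z, hz⟩ _
      have hz0 := Cfsg.Agent.Classical.SimConj.scalar_ne hn0 hz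
      have hsq : ∀ a : F, IsSquare a := fun a => FiniteField.isSquare_of_char_two (ringChar.eq F 2) a
      obtain ⟨s, hs⟩ := hsq z
      have hs0 : s ≠ 0 := fun h => hz0 (by rw [hs, h, mul_zero])
      set u : Matrix (Fin n) (Fin n) F := s⁻¹ • x.1 with hu
      have hu2 : u * u = 1 := by
        rw [hu, Matrix.smul_mul, Matrix.mul_smul, smul_smul, ← pow_two x.1, ← Units.val_pow_eq_pow_val, hz,
          smul_smul, hs, show s⁻¹ * s⁻¹ * (s * s) = 1 by field_simp, one_smul]
      set φ := Matrix.toLin' u with hφ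
      have hφ2 : φ ^ 2 = 1 := by
        rw [hφ, ← Matrix.toLin'_pow, pow_two, hu2, Matrix.toLin'_one]
        rfl
      have hnil : (φ - 1) ^ 2 = 0 := by
        have h20 : ∀ ψ : Module.End F (Fin n → F), ψ + ψ = 0 := fun ψ => by
          rw [← two_smul F ψ, CharTwo.two_eq_zero, zero_smul]
        rw [pow_two, sub_mul, mul_sub, one_mul, mul_one, ← pow_two, hφ2]
        calc (1 : Module.End F (Fin n → F)) - φ - (φ - 1) = (1 + 1) - (φ + φ) := by abel
          _ = 0 := by rw [h20, h20, sub_zero]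
      obtain ⟨m, hm0, hm⟩ := Cfsg.Agent.MatModule.exists_hasType φ hnil
      have hm12 : ∀ e ∈ m, e = 1 ∨ e = 2 := fun e he => by
        have h1 := (Cfsg.Agent.MatModule.sub_one_pow_eq_zero_iff hm 2).1 hnil e he
        have h2 : e ≠ 0 := fun h => hm0 (h ▸ he)
        omega
      obtain ⟨y, hy, hyt⟩ := Cfsg.Agent.UnitaryConj.exists_GU_hasType hσ hσq m hm0
        ((Cfsg.Agent.MatModule.sum_eq_finrank hm).trans (Module.finrank_fin_fun F))
      have hud : u.det ≠ 0 := fun h => by
        have h1 := congrArg Matrix.det hu2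
        rw [Matrix.det_mul, h, zero_mul, Matrix.det_one] at h1
        exact zero_ne_one h1
      let U : GL (Fin n) F := Matrix.GeneralLinearGroup.mkOfDetNeZero u hud
      obtain ⟨g, hg⟩ := Cfsg.Agent.MatModule.exists_conj_gl_of_hasType U y hm hyt
      have hysim : Cfsg.Agent.Classical.SimConj.IsSim σ (1 : Matrix (Fin n) (Fin n) F) y.1 1 := by
        rw [Cfsg.Agent.Classical.SimConj.IsSim, Matrix.mul_one, one_smul]
        ext i j
        rw [Matrix.mul_apply]
        refine Eq.trans ?_ ((hy (Pi.single i 1) (Pi.single j 1)).trans ?_)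
        · refine Finset.sum_congr rfl fun k _ => ?_
          rw [Matrix.transpose_apply, Matrix.map_apply, hσq]
          show _ = (y.1 *ᵥ Pi.single i 1) k * (y.1 *ᵥ Pi.single j 1) k ^ q₀
          rw [Matrix.mulVec_single_one, Matrix.mulVec_single_one]
          rfl
        · simp only [Cfsg.hermForm]
          rw [Finset.sum_eq_single i]
          · rcases eq_or_ne i j with rfl | hij
            · simp
            · simp [hij, zero_pow (show q₀ ≠ 0 by omega)]
          · intro k _ hk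
            simp [hk]
          · simp
      have hgu : g.1 * u * (g⁻¹).1 = y.1 := by
        rw [← hg]
        rfl
      have hsim2 : Cfsg.Agent.Classical.SimConj.IsSim σ (1 : Matrix (Fin n) (Fin n) F) (g * x * g⁻¹).1 (s * σ s) := by
        have e : (g * x * g⁻¹).1 = s • y.1 := by
          rw [← hgu, hu, Matrix.mul_smul, Matrix.smul_mul, smul_smul, mul_inv_cancel₀ hs0, one_smul]
          rfl
        have e2 : (s • y.1).map σ = σ s • y.1.map σ := by
          ext i j
          simp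
        rw [Cfsg.Agent.Classical.SimConj.IsSim, e, e2, Matrix.transpose_smul, Matrix.smul_mul, Matrix.smul_mul,
          Matrix.mul_smul, smul_smul]
        have := hysim
        rw [Cfsg.Agent.Classical.SimConj.IsSim, one_smul] at this
        rw [this]
      obtain ⟨C, hC, hCd⟩ := exists_commute_unip hm hm12 hn0 hsq
        (inv_ne_zero (Matrix.GeneralLinearGroup.det (g⁻¹ * P₀⁻¹)).ne_zero)
      set Cm := LinearMap.toMatrix' C with hCm
      have hCdet : Cm.det = ((g⁻¹ * P₀⁻¹).1.det)⁻¹ := by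
        rw [hCm, LinearMap.det_toMatrix', hCd]
        rfl
      have hP0 : (g⁻¹ * P₀⁻¹).1.det ≠ 0 := (Matrix.GeneralLinearGroup.det (g⁻¹ * P₀⁻¹)).ne_zero
      let C' : GL (Fin n) F := Matrix.GeneralLinearGroup.mkOfDetNeZero Cm (by rw [hCdet]; exact inv_ne_zero hP0)
      have hcomm : C' * x = x * C' := by
        refine Units.ext ?_
        show Cm * x.1 = x.1 * Cm
        have h1 : Cm * u = u * Cm := Matrix.toLin'.injective (by
          rw [Matrix.toLin'_mul, Matrix.toLin'_mul, hCm, Matrix.toLin'_toMatrix']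
          exact hC)
        rw [hu, Matrix.mul_smul, Matrix.smul_mul] at h1
        exact smul_right_injective _ (inv_ne_zero hs0) h1
      refine ⟨C' * (g⁻¹ * P₀⁻¹), ?_, ?_⟩
      · rw [mem_sl_iff]
        show (Cm * (g⁻¹ * P₀⁻¹).1).det = 1
        rw [Matrix.det_mul, hCdet, inv_mul_cancel₀ hP0]
      · have e : (C' * (g⁻¹ * P₀⁻¹))⁻¹ * x * (C' * (g⁻¹ * P₀⁻¹)) = P₀ * (g * (C'⁻¹ * x * C') * g⁻¹) * P₀⁻¹ := by
          group
        rw [e, show C'⁻¹ * x * C' = x by rw [mul_assoc, ← hcomm, inv_mul_cancel_left]]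
        exact (mem_iff hσq hf _).2 ⟨s * σ s, mul_ne_zero hs0 ((_root_.map_ne_zero σ).2 hs0),
          Cfsg.Agent.Classical.SimConj.congr_sim P₀ (by rw [hP₀]; exact hsim2)⟩
    · have h2 : ((2 : ℕ) : F) ≠ 0 := fun h => hp2
        ((Nat.prime_dvd_prime_iff_eq Fact.out Nat.prime_two).1 ((CharP.cast_eq_zero_iff F p 2).1 h))
      have hpodd : Odd p := (Fact.out : p.Prime).odd_of_ne_two hp2
      have hq0odd : Odd q₀ := by rw [hk₀]; exact hpodd.pow
      have hodd : Odd (Fintype.card F) := by rw [hF]; exact hq0odd.pow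
      have hq4 : Fintype.card F % 4 = 1 := by
        obtain ⟨a, ha⟩ := hq0odd
        rw [hF, ha, show (2 * a + 1) ^ 2 = 4 * (a * a + a) + 1 by ring]
        omega
      have hord : orderOf (Fintype.card F : ZMod 2) = 1 := by
        rw [orderOf_eq_one_iff, ← Nat.cast_one, ZMod.natCast_eq_natCast_iff']
        omega
      have hnb : padicValNat 2 n ≤ padicValNat 2 (Fintype.card F - 1) ↔
          Cfsg.Agent.Classical.Elusive.NoBlock (Fintype.card F) 2 n :=
        ⟨fun h => ⟨h, fun _ _ => hq4⟩, fun h => h.1⟩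
      simp only [hp2, false_or, hnb]
      constructor
      · intro hall
        by_contra hcond
        have hrq : 2 ∣ Fintype.card F - 1 := ⟨(Fintype.card F - 1) / 2, by omega⟩
        obtain ⟨c, k, hc0, hnp, hk, hdet⟩ :=
          Cfsg.Agent.Classical.Elusive.exists_det_one (r := 2) (n := n) h2 hn0.ne' hrq hcond
        have hsm : ∀ a : ULift (Fin k), ((Polynomial.X ^ 2 - Polynomial.C c : Polynomial F)).Monic :=
          fun _ => Polynomial.monic_X_pow_sub_C c two_ne_zero
        obtain ⟨x, Φ, hΦ⟩ := Cfsg.Agent.Classical.Elusive.exists_sl_blocks (n := n)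
          (fun _ : ULift (Fin k) => (Polynomial.X ^ 2 - Polynomial.C c : Polynomial F)) hsm
          (by rw [Finset.sum_const, Polynomial.natDegree_X_pow_sub_C, Finset.card_univ, Fintype.card_ulift,
            Fintype.card_fin, smul_eq_mul, hk, mul_comm])
          (by rw [Finset.prod_const, Finset.card_univ, Fintype.card_ulift, Fintype.card_fin,
            Polynomial.coeff_zero_eq_eval_zero, Polynomial.eval_pow, Polynomial.eval_sub, Polynomial.eval_pow,
            Polynomial.eval_X, Polynomial.eval_C, zero_pow two_ne_zero, zero_sub, hdet])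
        have hpow : (x : Matrix (Fin n) (Fin n) F) ^ 2 = c • 1 := by
          have h := Cfsg.Agent.Classical.Elusive.aeval_eq_zero hΦ
            (g := Polynomial.X ^ 2 - Polynomial.C c) (fun _ => dvd_rfl)
          rw [map_sub, map_pow, Polynomial.aeval_X, Polynomial.aeval_C, sub_eq_zero,
            Algebra.algebraMap_eq_smul_one, ← Matrix.toLin'_pow] at h
          refine Matrix.toLin'.injective ?_
          rw [h, map_smul, Matrix.toLin'_one]
          rfl
        set X' : GL (Fin n) F := Matrix.SpecialLinearGroup.toGL x with hX'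
        obtain ⟨g, -, hmem⟩ := hall X' ((mem_sl_iff X').2 x.2) ⟨c, by rw [Units.val_pow_eq_pow_val]; exact hpow⟩
          (fun a ha => hnp a (by
            have h := hpow
            rw [show (x : Matrix (Fin n) (Fin n) F) = a • 1 from ha, smul_pow, one_pow] at h
            exact smul_left_injective F one_ne_zero h))
        obtain ⟨μ, hμ0, hμ⟩ := (mem_iff hσq hf _).1 hmem
        have hμσ := mult_fixed hσ.invol hJH hJ0 hμ
        have h3 := Cfsg.Agent.Classical.SimConj.mult_eq_of_scalar hJ hμ (k := 2) (z := c) (by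
          rw [← Units.val_pow_eq_pow_val,
            show (g⁻¹ * X' * g) ^ 2 = g⁻¹ * X' ^ 2 * g by rw [pow_two, pow_two]; group, Units.val_mul, Units.val_mul,
            Units.val_pow_eq_pow_val, show X'.1 = (x : Matrix (Fin n) (Fin n) F) from rfl, hpow, Matrix.mul_smul,
            Matrix.smul_mul, Matrix.mul_one, ← Units.val_mul, inv_mul_cancel, Units.val_one])
        have hhalf : Fintype.card F / 2 = (q₀ + 1) * ((q₀ - 1) / 2) := by
          obtain ⟨a, ha⟩ := hq0odd
          rw [hF, ha, show (2 * a + 1) ^ 2 = 2 * ((2 * a + 2) * a) + 1 by ring,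
            show (2 * a + 1 - 1) / 2 = a by omega, show 2 * a + 1 + 1 = 2 * a + 2 by omega]
          omega
        have hsq : IsSquare c := by
          refine (FiniteField.isSquare_iff (fun h => h2 ?_) hc0).2 ?_
          · rw [show (2 : ℕ) = ringChar F from h.symm]
            exact ringChar.Nat.cast_ringChar
          · rw [hhalf, pow_mul, pow_succ', ← hσq, ← h3, ← pow_mul,
              show 2 * ((q₀ - 1) / 2) = q₀ - 1 by obtain ⟨a, ha⟩ := hq0odd; omega]
            exact hfixed hμσ hμ0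
        obtain ⟨b, hb⟩ := hsq
        exact hnp b (by rw [pow_two, ← hb])
      · intro hcond x hxS ⟨z, hz⟩ _
        have hz0 := Cfsg.Agent.Classical.SimConj.scalar_ne hn0 hz
        have hxdet : x.1.det = 1 := (mem_sl_iff x).1 hxS
        obtain ⟨s, hs⟩ : ∃ s : F, s ^ 2 = z := by
          by_contra hnp
          push Not at hnp
          obtain ⟨κ, _, ss, hss, hirr, hdvd, Φ, hΦ⟩ := Cfsg.Agent.Classical.Elusive.exists_split (r := 2) h2 hz0
            (Cfsg.Agent.Classical.SimConj.toLin_pow hz)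
          have hseq : ∀ i, ss i = Polynomial.X ^ 2 - Polynomial.C z := fun i =>
            Cfsg.Agent.Classical.Elusive.factor_eq hnp (hss i) (hirr i) (hdvd i)
          have hcard : n = 2 * Fintype.card κ := by
            have h := Cfsg.Agent.Classical.Elusive.finrank_eq_sum Φ hss
            rw [Module.finrank_fin_fun, Finset.sum_congr rfl (fun i _ => by rw [hseq, Polynomial.natDegree_X_pow_sub_C]),
              Finset.sum_const, smul_eq_mul, Finset.card_univ] at h
            rw [mul_comm]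
            exact h
          have hdet := Cfsg.Agent.Classical.Elusive.det_eq ⟨x.1, hxdet⟩ hΦ hss
          rw [Finset.prod_congr rfl (fun i _ => hseq i), Finset.prod_const, Finset.card_univ,
            Polynomial.coeff_zero_eq_eval_zero, Polynomial.eval_pow, Polynomial.eval_sub, Polynomial.eval_pow,
            Polynomial.eval_X, Polynomial.eval_C, zero_pow two_ne_zero, zero_sub] at hdet
          exact Cfsg.Agent.Classical.Elusive.not_det_one hcard hn0.ne' h2 hcond hz0 hnp hdet
        have hs0 : s ≠ 0 := fun h => hz0 (by rw [← hs, h, zero_pow two_ne_zero])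
        obtain ⟨G, w, hw, hG⟩ := Cfsg.Agent.Classical.SimConj.exists_diag (r := 2) h2 hord hs0
          (by rw [hs]; exact hz)
        obtain ⟨P, hP⟩ := hself x G w (s * σ s) (mul_ne_zero hs0 ((_root_.map_ne_zero σ).2 hs0)) hG (fun i => by
          rcases sq_eq_sq_iff_eq_or_eq_neg.1 (hw i) with e | e <;> rw [e] <;> simp)
        exact Cfsg.Agent.Classical.SimConj.exists_sl_conj hn0 _
          (Cfsg.Agent.Classical.Elusive.squarefree_pow_sub (F := F) (r := 2) h2 hz0)
          (Cfsg.Agent.Classical.SimConj.aeval_pow_scalar hz) P hP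
  simp only [hr2, false_and, false_or]
  have hr3 : 3 ≤ r := by
    have := (Fact.out : r.Prime).two_le
    omega
  have hrp : r ≠ p := hr.resolve_left hr2
  have hrF : (r : F) ≠ 0 := fun h => hrp
    (((Nat.prime_dvd_prime_iff_eq Fact.out Fact.out).1 ((CharP.cast_eq_zero_iff F p r).1 h))).symm
  have hrq0 : ¬ r ∣ q₀ := fun h => hrp (by
    rw [hk₀] at h
    exact (Nat.prime_dvd_prime_iff_eq Fact.out Fact.out).1 ((Fact.out : r.Prime).dvd_of_dvd_pow h))
  have hrq : ¬ r ∣ Fintype.card F := fun h => hrq0 ((Fact.out : r.Prime).dvd_of_dvd_pow (hF ▸ h))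
  have hev := even_order hσ hσq hfix (by omega) hF hrq0 hr2 hf hΩ
  have hqsq : (Fintype.card F : ZMod r) = (-(q₀ : ZMod r)) ^ 2 := by rw [hF, neg_sq, Nat.cast_pow]
  by_cases h1 : orderOf (Fintype.card F : ZMod r) = 1
  swap
  · refine iff_of_false (fun hall => ?_) fun ⟨_, _, hv⟩ => ?_
    swap
    · refine h1 (orderOf_eq_one_iff.2 ?_)
      have hd := dvd_of_one_le_padicValNat hv.ge
      have h' := (ZMod.natCast_eq_zero_iff _ r).2 hd
      rw [Nat.cast_sub hq1.le, Nat.cast_one, sub_eq_zero] at h'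
      rw [hqsq, h', neg_one_sq]
    have hle : orderOf (Fintype.card F : ZMod r) ≤ n :=
      Cfsg.Agent.Classical.SimConj.order_le (by omega) hrq (Cfsg.Agent.Classical.SimConj.relIndex_dvd_card hΩ)
    obtain ⟨g', x, hfm, hfirr, hfdeg, hfcyc, hxS, hx, hns, hann, hchar⟩ :=
      Cfsg.Agent.Classical.SimConj.exists_block_witness (n := n) hrF h1 hle
    obtain ⟨g, -, hmem⟩ := hall x hxS ⟨1, by rw [hx, Units.val_one, one_smul]⟩ hns
    obtain ⟨c, hc0, hc⟩ := (mem_iff hσq hf _).1 hmem
    obtain rfl : c = 1 := by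
      have h := Cfsg.Agent.Classical.SimConj.mult_eq_of_scalar hJ hc (k := r) (z := 1)
        (by rw [← Units.val_pow_eq_pow_val, conj_inv g hx, Units.val_one, one_smul])
      rw [map_one, mul_one] at h
      exact one_of_pow hc0 h1 h
    obtain ⟨l, hl⟩ := Cfsg.Agent.Classical.SimConj.pow_eq_neg (p := p) k₀ (σ := σ)
      (fun a => by rw [hσq, hk₀]) hrF hJ hfm hfirr hfcyc hann hchar g hc
    rw [hqsq, ← pow_mul, ← Nat.cast_pow, ← hk₀] at hl
    have hmod : 2 * l ≡ 1 [MOD orderOf (-(q₀ : ZMod r))] := by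
      have hfin : IsOfFinOrder (-(q₀ : ZMod r)) := isOfFinOrder_iff_pow_eq_one.2 ⟨r - 1, by omega,
        ZMod.pow_card_sub_one_eq_one (neg_ne_zero.2 fun h => hrq0 ((ZMod.natCast_eq_zero_iff _ r).1 h))⟩
      exact hfin.pow_eq_pow_iff_modEq.1 (by rw [hl, pow_one])
    have h2l := hmod.of_dvd (even_iff_two_dvd.1 hev)
    unfold Nat.ModEq at h2l
    omega
  · have hneg : -(q₀ : ZMod r) = -1 := by
      have h2 : (-(q₀ : ZMod r)) ^ 2 = 1 := by rw [← hqsq]; exact orderOf_eq_one_iff.1 h1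
      refine (sq_eq_one_iff.1 h2).resolve_left fun h => ?_
      rw [h, orderOf_one] at hev
      exact Nat.not_even_one hev
    have hq0r : r ∣ q₀ - 1 := by
      rw [← ZMod.natCast_eq_zero_iff, Nat.cast_sub hq1.le, Nat.cast_one, sub_eq_zero]
      exact neg_inj.1 hneg
    have hrq1 : r ∣ q₀ + 1 → False := fun h => by
      have h2 := Nat.dvd_sub h hq0r
      rw [show q₀ + 1 - (q₀ - 1) = 2 by omega] at h2
      exact hr2 ((Nat.prime_dvd_prime_iff_eq Fact.out Nat.prime_two).1 h2)
    have hsub : q₀ - 1 ∣ Fintype.card F - 1 := by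
      rw [hF, ← one_pow 2, Nat.sq_sub_sq]
      exact dvd_mul_left _ _
    have hfix' : ∀ {a : F} {k : ℕ}, a ^ r ^ k = 1 → r ^ k ∣ q₀ - 1 → σ a = a := fun {a k} ha hd => by
      obtain ⟨t, ht⟩ := hd
      rw [hσq, show q₀ = (q₀ - 1) + 1 by omega, pow_succ, ht, pow_mul, ha, one_pow, one_mul]
    obtain ⟨ζ, hζ⟩ := exists_primitive (F := F) (r := r) (k := 1) (by rw [pow_one]; exact hq0r.trans hsub)
    rw [pow_one] at hζ
    have hwit : ∀ (w : Fin n → F) (z : F), (∀ i, σ (w i) = w i) → (∀ i, w i ^ r = z) → (∏ i, w i) = 1 →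
        (∃ i j, w i ≠ w j) → (∀ (μ : F) (π : Equiv.Perm (Fin n)), ¬ ∀ i, w i * w (π i) = μ) →
        ¬ (∀ x ∈ Cfsg.Geo.specialLinear (Fin n) F, (∃ z : F, ((x ^ r : GL (Fin n) F) : Matrix (Fin n) (Fin n) F) = z • (1 : Matrix (Fin n) (Fin n) F)) →
          (∀ z : F, (x : Matrix (Fin n) (Fin n) F) ≠ z • (1 : Matrix (Fin n) (Fin n) F)) →
          ∃ g ∈ Cfsg.Geo.specialLinear (Fin n) F, g⁻¹ * x * g ∈ Cfsg.Geo.similarityGroup f) := by
      intro w z hwσ hw hprod ⟨a, b, hab⟩ hno hall
      have hd : (Matrix.diagonal w).det = 1 := by rw [Matrix.det_diagonal]; exact hprod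
      let x : GL (Fin n) F := Matrix.GeneralLinearGroup.mkOfDetNeZero (Matrix.diagonal w)
        (by rw [hd]; exact one_ne_zero)
      obtain ⟨g, -, hmem⟩ := hall x ((mem_sl_iff x).2 hd)
        ⟨z, by
          rw [Units.val_pow_eq_pow_val, show x.1 = Matrix.diagonal w from rfl, Matrix.diagonal_pow,
            Matrix.smul_one_eq_diagonal]
          exact congrArg Matrix.diagonal (funext hw)⟩
        (fun c hc => hab (by
          have ha := congrFun (congrFun hc a) a
          have hb := congrFun (congrFun hc b) b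
          simp [x, Matrix.GeneralLinearGroup.mkOfDetNeZero] at ha hb
          rw [ha, hb]))
      obtain ⟨c, -, hc⟩ := (mem_iff hσq hf _).1 hmem
      obtain ⟨π, hπ⟩ := Cfsg.Agent.Classical.SimConj.exists_perm hJ hc g⁻¹ w (by
        rw [← Units.val_mul, show g⁻¹ * x * g * g⁻¹ = g⁻¹ * x by group, Units.val_mul]
        rfl)
      exact hno c π fun i => by rw [← hwσ (π i)]; exact hπ i
    have hσζ : σ ζ = ζ := hfix' (k := 1) (by rw [pow_one]; exact hζ.pow_eq_one) (by rwa [pow_one])
    by_cases hsp : (r = 3 ∨ r = 5) ∧ n = r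
    swap
    · refine iff_of_false ?_ fun h => hsp ⟨h.1, h.2.1⟩
      obtain ⟨w, he, hprod, hne, hno⟩ := Cfsg.Agent.Classical.SimConj.exists_weights hζ hr3 hn hgap hsp
      refine hwit w 1 (fun i => ?_) (fun i => ?_) hprod hne hno
      · obtain ⟨e, he⟩ := he i
        rw [he, map_pow, hσζ]
      · obtain ⟨e, he⟩ := he i
        rw [he, ← pow_mul, mul_comm, pow_mul, hζ.pow_eq_one, one_pow]
    obtain ⟨h35, hnr⟩ := hsp
    subst hnr
    simp only [h35, true_and]
    by_cases hv : padicValNat n (q₀ - 1) = 1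
    swap
    · refine iff_of_false ?_ hv
      have hv1 : 1 ≤ padicValNat n (q₀ - 1) := one_le_padicValNat_of_dvd (by omega) hq0r
      have hd2 : n ^ 2 ∣ q₀ - 1 :=
        (pow_dvd_pow n (show 2 ≤ padicValNat n (q₀ - 1) by omega)).trans pow_padicValNat_dvd
      obtain ⟨d, hd⟩ := exists_primitive (F := F) (r := n) (k := 2) (hd2.trans hsub)
      have hω : IsPrimitiveRoot (d ^ n) n := hd.pow (pow_pos hn0 2) (pow_two n)
      obtain ⟨w, he, hw, hprod, hne, hno⟩ := Cfsg.Agent.Classical.SimConj.exists_weights_high hω hr3 rfl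
      refine hwit w _ (fun i => ?_) hw hprod hne hno
      obtain ⟨e, he⟩ := he i
      rw [he, map_pow, hfix' hd.pow_eq_one hd2]
    simp only [hv, iff_true]
    intro x hxS ⟨z, hz⟩ _
    have hz0 := Cfsg.Agent.Classical.SimConj.scalar_ne hn0 hz
    have hxdet : x.1.det = 1 := (mem_sl_iff x).1 hxS
    have hoddn : Odd n := by rcases h35 with h | h <;> rw [h] <;> decide
    have hzr : z ^ n = 1 := by
      have := congrArg Matrix.det hz
      rw [Units.val_pow_eq_pow_val, Matrix.det_pow, hxdet, one_pow, Matrix.det_smul, Matrix.det_one, mul_one,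
        Fintype.card_fin] at this
      exact this.symm
    obtain ⟨d, hd⟩ : ∃ d : F, d ^ n = z := by
      by_contra hnp
      push Not at hnp
      obtain ⟨κ, _, s, hs, hirr, hdvd, Φ, hΦ⟩ := Cfsg.Agent.Classical.Elusive.exists_split hrF hz0
        (Cfsg.Agent.Classical.SimConj.toLin_pow hz)
      have hseq : ∀ i, s i = Polynomial.X ^ n - Polynomial.C z := fun i =>
        Cfsg.Agent.Classical.Elusive.factor_eq hnp (hs i) (hirr i) (hdvd i)
      have hcard : Fintype.card κ = 1 := by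
        have := Cfsg.Agent.Classical.Elusive.finrank_eq_sum Φ hs
        rw [Module.finrank_fin_fun, Finset.sum_congr rfl (fun i _ => by rw [hseq, Polynomial.natDegree_X_pow_sub_C]),
          Finset.sum_const, smul_eq_mul, Finset.card_univ] at this
        exact Nat.eq_of_mul_eq_mul_right hn0 (by rw [one_mul]; exact this.symm)
      have hdet := Cfsg.Agent.Classical.Elusive.det_eq ⟨x.1, hxdet⟩ hΦ hs
      rw [Finset.prod_congr rfl (fun i _ => hseq i), Finset.prod_const, Finset.card_univ, hcard, pow_one,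
        Polynomial.coeff_sub, Polynomial.coeff_X_pow, if_neg (by omega), Polynomial.coeff_C_zero, zero_sub,
        hoddn.neg_one_pow, neg_one_mul, neg_neg] at hdet
      exact hnp 1 (by rw [one_pow, hdet])
    have hd0 : d ≠ 0 := fun h => hz0 (by rw [← hd, h, zero_pow hn0.ne'])
    have hgcd : Nat.gcd (n * n) (Fintype.card F - 1) ∣ n := by
      obtain ⟨t, ht⟩ := hq0r
      have htn : ¬ n ∣ t := fun hdv => by
        have h2v : 2 ≤ padicValNat n (q₀ - 1) := (padicValNat_dvd_iff_le (by omega)).1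
          (by rw [ht, pow_two]; exact mul_dvd_mul_left n hdv)
        omega
      have hcop : ¬ n ∣ t * (q₀ + 1) := fun hdv => ((Fact.out : n.Prime).dvd_mul.1 hdv).elim htn hrq1
      rw [show Fintype.card F - 1 = n * (t * (q₀ + 1)) by
        rw [← mul_assoc, ← ht, hF, ← one_pow 2, Nat.sq_sub_sq, mul_comm, one_pow], Nat.gcd_mul_left,
        Nat.Coprime.gcd_eq_one ((Fact.out : n.Prime).coprime_iff_not_dvd.2 hcop), mul_one]
    have hd1 : d ^ n = 1 := by
      have h3 : d ^ (n * n) = 1 := by rw [pow_mul, hd, hzr]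
      have h4 := pow_gcd_eq_one.2 ⟨h3, FiniteField.pow_card_sub_one_eq_one d hd0⟩
      obtain ⟨t, ht⟩ := hgcd
      rw [show d ^ n = d ^ (Nat.gcd (n * n) (Fintype.card F - 1) * t) by rw [← ht], pow_mul, h4, one_pow]
    obtain ⟨G, w, hw, hG⟩ := Cfsg.Agent.Classical.SimConj.exists_diag hrF h1 hd0 (by rw [hd]; exact hz)
    have hwp : ∀ i, ∃ a : Fin n, w i = ζ ^ (a : ℕ) := fun i => by
      obtain ⟨a, ha, he⟩ := hζ.eq_pow_of_pow_eq_one (show w i ^ n = 1 by rw [hw, hd1])
      exact ⟨⟨a, ha⟩, he.symm⟩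
    choose a ha using hwp
    have hprodw : ∏ i, w i = 1 := by
      have h := congrArg Matrix.det hG
      rw [Matrix.det_mul, Matrix.det_mul, hxdet, one_mul, Matrix.det_diagonal] at h
      exact (mul_eq_left₀ (show G.1.det ≠ 0 from (Matrix.GeneralLinearGroup.det G).ne_zero)).1 h.symm
    obtain ⟨s, π, hπ, hs⟩ := Cfsg.Agent.Classical.SimConj.exists_symm h35 a (by
      rw [← hζ.pow_eq_one_iff_dvd, ← Finset.prod_pow_eq_pow_sum, ← hprodw]
      exact Finset.prod_congr rfl fun i _ => (ha i).symm)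
    set μ := ζ ^ (s : ℕ) with hμ
    have hwμ : ∀ i, w i * σ (w (π i)) = μ := fun i => by
      rw [show σ (w (π i)) = w (π i) by rw [ha, map_pow, hσζ], ha, ha, ← pow_add, hμ, hs]
      have e : ((a i + (s - a i) : Fin n) : ℕ) = (s : ℕ) := by rw [add_sub_cancel]
      rw [← e, Fin.val_add]
      exact (pow_mod_orderOf ζ _).symm.trans (by rw [← hζ.eq_orderOf])
    set J' : Matrix (Fin n) (Fin n) F := Matrix.of fun i j => if π i = j then 1 else 0 with hJ'def
    have hJ'2 : J' * J' = 1 := by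
      ext i j
      rw [Matrix.mul_apply, Finset.sum_eq_single (π i)]
      · simp [hJ'def, hπ, Matrix.one_apply]
      · intro b _ hb
        simp [hJ'def, Ne.symm hb]
      · simp
    have hJ'0 : J'.det ≠ 0 := fun h => by
      have h' := congrArg Matrix.det hJ'2
      rw [Matrix.det_mul, h, zero_mul, Matrix.det_one] at h'
      exact zero_ne_one h'
    have hJ's : (J'.map σ)ᵀ = J' := by
      ext i j
      have hiff : π j = i ↔ π i = j := ⟨fun h => by rw [← h, hπ], fun h => by rw [← h, hπ]⟩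
      rw [Matrix.transpose_apply, Matrix.map_apply, hJ'def, Matrix.of_apply, Matrix.of_apply]
      simp only [hiff]
      split_ifs <;> simp
    obtain ⟨P₁, hP₁⟩ := exists_congr_one hσ hJ's hJ'0
    have hsim : Cfsg.Agent.Classical.SimConj.IsSim σ J' (G⁻¹ * x * G).1 μ := by
      rw [Cfsg.Agent.Classical.SimConj.IsSim, conj_val G x hG, Matrix.diagonal_transpose,
        Matrix.diagonal_map (map_zero σ)]
      ext i j
      rw [Matrix.mul_diagonal, Matrix.diagonal_mul, Matrix.smul_apply, hJ'def, Matrix.of_apply, smul_eq_mul]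
      split_ifs with h
      · subst h
        rw [mul_one, mul_one]
        exact hwμ i
      · simp
    have hT : ((P₀ * P₁⁻¹).1)ᵀ * gram f * (P₀ * P₁⁻¹).1.map σ = J' := by
      have e1 : ((P₁⁻¹).1)ᵀ * (P₁.1)ᵀ = 1 := by
        rw [← Matrix.transpose_mul, ← Units.val_mul, mul_inv_cancel, Units.val_one, Matrix.transpose_one]
      have e2 : P₁.1.map σ * (P₁⁻¹).1.map σ = 1 := by
        rw [← Matrix.map_mul, ← Units.val_mul, mul_inv_cancel, Units.val_one]
        exact Matrix.map_one σ (map_zero σ) (map_one σ)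
      calc ((P₀ * P₁⁻¹).1)ᵀ * gram f * (P₀ * P₁⁻¹).1.map σ
          = ((P₁⁻¹).1)ᵀ * ((P₀.1)ᵀ * gram f * P₀.1.map σ) * (P₁⁻¹).1.map σ := by
            simp only [Units.val_mul, Matrix.transpose_mul, Matrix.map_mul, Matrix.mul_assoc]
        _ = ((P₁⁻¹).1)ᵀ * ((P₁.1)ᵀ * J' * P₁.1.map σ) * (P₁⁻¹).1.map σ := by rw [hP₀, hP₁]
        _ = (((P₁⁻¹).1)ᵀ * (P₁.1)ᵀ) * J' * (P₁.1.map σ * (P₁⁻¹).1.map σ) := by
            simp only [Matrix.mul_assoc]
        _ = J' := by rw [e1, e2, Matrix.one_mul, Matrix.mul_one]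
    have hmem : (G * (P₀ * P₁⁻¹)⁻¹)⁻¹ * x * (G * (P₀ * P₁⁻¹)⁻¹) ∈ Cfsg.Geo.similarityGroup f := by
      refine (mem_iff hσq hf _).2 ⟨μ, pow_ne_zero _ (hζ.ne_zero hn0.ne'), ?_⟩
      rw [show (G * (P₀ * P₁⁻¹)⁻¹)⁻¹ * x * (G * (P₀ * P₁⁻¹)⁻¹) =
        (P₀ * P₁⁻¹) * (G⁻¹ * x * G) * (P₀ * P₁⁻¹)⁻¹ by group]
      refine Cfsg.Agent.Classical.SimConj.congr_sim (P₀ * P₁⁻¹) ?_
      rw [hT]
      exact hsim
    exact Cfsg.Agent.Classical.SimConj.exists_sl_conj hn0 _
      (Cfsg.Agent.Classical.Elusive.squarefree_pow_sub (F := F) (r := n) hrF hz0)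
      (Cfsg.Agent.Classical.SimConj.aeval_pow_scalar hz) _ hmem

end Cfsg.Agent.S5982
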