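import Cfsg.Statements.S5983
import Cfsg.Agent.CharTwoInvol.OrthInSp
import Cfsg.Agent.CharTwoInvol.OrthPlus
import Cfsg.Agent.NotMax.Basic
import Cfsg.Agent.DualCount.Orth

set_option autoImplicit false
set_option linter.unusedSectionVars false
open scoped MatrixGroups
open Cfsg

namespace Cfsg.Agent.S5983

open Module QuadraticMap Cfsg.Agent.Classical Cfsg.Agent.CharTwoInvol

section aux

variable {F : Type*} [Field F] [Fintype F] [CharP F 2] {d : ℕ}

/-- An element of `spGL` as an isometry of the standard alternating space. -/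
noncomputable def toIso (d : ℕ) (F : Type*) [Field F] : ↥(Cfsg.spGL d F) →* Alt.isoGroup (sympB d F) :=
  (spEquiv d F).toMonoidHom.comp (MonoidHom.mk'
    (fun g => (⟨g.1.1, (mem_symplectic_iff _).2 fun u v => by rw [sympB_apply, sympB_apply]; exact g.2 u v⟩ :
      Matrix.symplecticGroup (Fin d) F))
    fun _ _ => Subtype.ext rfl)

theorem toIso_apply (g : ↥(Cfsg.spGL d F)) (v : Fin d ⊕ Fin d → F) :
    (toIso d F g).1 v = (g.1 : Matrix (Fin d ⊕ Fin d) (Fin d ⊕ Fin d) F).mulVec v := rfl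

theorem toIso_bijective : Function.Bijective (toIso d F) := by
  refine ⟨fun g g' h => Subtype.ext (Units.ext (Matrix.ext_of_mulVec_single fun i => ?_)), fun x => ?_⟩
  · rw [← toIso_apply, ← toIso_apply, h]
  · obtain ⟨A, rfl⟩ := (spEquiv d F).surjective x
    refine ⟨⟨Matrix.GeneralLinearGroup.mk'' A.1 (SymplecticGroup.symplectic_det A.2), fun u v => ?_⟩, rfl⟩
    rw [← sympB_apply, ← sympB_apply]
    exact (mem_symplectic_iff A.1).1 A.2 u v

variable {Q : QuadraticForm F (Fin d ⊕ Fin d → F)}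

theorem mem_sim_iff (hd : 1 ≤ d) (hQf : polarBilin Q = sympB d F) (g : ↥(Cfsg.spGL d F)) :
    g.1 ∈ Cfsg.Geo.quadSimilarityGroup ⇑Q ↔
      ∀ v, Q ((toIso d F g).1 v) = Q v := by
  refine ⟨fun ⟨c, hc⟩ v => ?_, fun h => ⟨1, fun v => ?_⟩⟩
  · have hc' : ∀ v, Q ((toIso d F g).1 v) = (c : F) * Q v := hc
    have hpol : ∀ u v, sympB d F u v = (c : F) * sympB d F u v := fun u v => by
      have e : ∀ a b, sympB d F a b = Q (a + b) - Q a - Q b := fun a b => by
        rw [← polar, ← polarBilin_apply_apply, hQf]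
      have h1 := (toIso d F g).2 u v
      rw [e, e, ← map_add, hc', hc', hc'] at h1
      rw [e u v]
      linear_combination -h1
    have hne : Nontrivial (Fin d ⊕ Fin d → F) := nontrivial_symp hd
    obtain ⟨u, hu⟩ := exists_ne (0 : Fin d ⊕ Fin d → F)
    obtain ⟨w, hw⟩ : ∃ w, sympB d F u w ≠ 0 := by
      by_contra h
      push Not at h
      exact hu (sympB_nondeg.1 u h)
    have := hpol u w
    have hc1 : (c : F) = 1 := (mul_eq_right₀ hw).1 this.symm
    rw [hc', hc1, one_mul]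
  · rw [Units.val_one, one_mul]
    exact h v

theorem index_mul (hd : 1 ≤ d) (hQf : polarBilin Q = sympB d F) {q : ℕ} (hq : Fintype.card F = q) :
    (Cfsg.Geo.quadSimilarityGroup ⇑Q).relIndex (Cfsg.spGL d F) * Nat.card (Quad.oG Q) =
      q ^ (d ^ 2) * ∏ i ∈ Finset.range d, (q ^ (2 * (i + 1)) - 1) := by
  have e1 : Nat.card ((Cfsg.Geo.quadSimilarityGroup ⇑Q).subgroupOf (Cfsg.spGL d F)) = Nat.card (Quad.oG Q) := by
    refine Nat.card_eq_of_bijective (fun g => (⟨(toIso d F g.1).1, (mem_sim_iff hd hQf g.1).1 g.2⟩ : Quad.oG Q))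
      ⟨fun g g' h => ?_, fun x => ?_⟩
    · exact Subtype.ext (toIso_bijective.1 (Subtype.ext (congrArg Subtype.val h :)))
    · obtain ⟨g, hg⟩ := toIso_bijective.2 (⟨x.1, fun u v => by rw [← hQf]; exact Quad.polar_oG x u v⟩ :
        Alt.isoGroup (sympB d F))
      exact ⟨⟨g, (mem_sim_iff hd hQf g).2 fun v => by rw [hg]; exact x.2 v⟩, Subtype.ext (congrArg Subtype.val hg :)⟩
  rw [← card_symplecticGroup hq d, Nat.card_congr (spEquiv d F).toEquiv, ← Nat.card_congr (Equiv.ofBijective _ (toIso_bijective (F := F) (d := d))),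
    Subgroup.relIndex, ← Subgroup.card_mul_index ((Cfsg.Geo.quadSimilarityGroup ⇑Q).subgroupOf (Cfsg.spGL d F)),
    mul_comm, e1]

theorem exists_phi : ∃ φ : ↥(Cfsg.spGL d F) ≃* Alt.isoGroup (sympB d F), ∀ g, φ g = toIso d F g :=
  ⟨MulEquiv.ofBijective (toIso d F) toIso_bijective, fun _ => rfl⟩

theorem scalar_eq_one (hd : 1 ≤ d) (g : Alt.isoGroup (sympB d F)) {z : F} (hz : ∀ v, g.1 v = z • v) : g = 1 := by
  have hne : Nontrivial (Fin d ⊕ Fin d → F) := nontrivial_symp hd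
  obtain ⟨u, hu⟩ := exists_ne (0 : Fin d ⊕ Fin d → F)
  obtain ⟨w, hw⟩ : ∃ w, sympB d F u w ≠ 0 := by
    by_contra h
    push Not at h
    exact hu (sympB_nondeg.1 u h)
  have h2 := g.2 u w
  rw [hz, hz, map_smul, map_smul, LinearMap.smul_apply, smul_eq_mul, smul_eq_mul, ← mul_assoc] at h2
  have hz1 : z = 1 := by
    rcases mul_self_eq_one_iff.1 ((mul_eq_right₀ hw).1 h2) with h | h
    · exact h
    · rw [h, CharTwo.neg_eq]
  exact Subtype.ext (LinearEquiv.ext fun v => by rw [hz, hz1, one_smul]; rfl)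

theorem eq_one_of_scalar (hd : 1 ≤ d) (g : ↥(Cfsg.spGL d F)) {z : F}
    (hz : (g.1 : Matrix (Fin d ⊕ Fin d) (Fin d ⊕ Fin d) F) = z • (1 : Matrix (Fin d ⊕ Fin d) (Fin d ⊕ Fin d) F)) :
    g = 1 := by
  have h : toIso d F g = 1 := scalar_eq_one hd _ (z := z) fun v => by
    rw [toIso_apply, hz, Matrix.smul_mulVec, Matrix.one_mulVec]
  exact toIso_bijective.1 (h.trans (map_one (toIso d F)).symm)

/-- The hypothesis on fixed points, for isometries. -/
theorem translate (hd : 1 ≤ d) (hQf : polarBilin Q = sympB d F) {r : ℕ}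
    (h : ∀ x ∈ Cfsg.spGL d F, (∃ z : F, ((x ^ r : GL (Fin d ⊕ Fin d) F) : Matrix (Fin d ⊕ Fin d) (Fin d ⊕ Fin d) F) = z • (1 : Matrix (Fin d ⊕ Fin d) (Fin d ⊕ Fin d) F)) →
      (∀ z : F, (x : Matrix (Fin d ⊕ Fin d) (Fin d ⊕ Fin d) F) ≠ z • (1 : Matrix (Fin d ⊕ Fin d) (Fin d ⊕ Fin d) F)) →
      ∃ g ∈ Cfsg.spGL d F, g⁻¹ * x * g ∈ Cfsg.Geo.quadSimilarityGroup ⇑Q)
    (x : Alt.isoGroup (sympB d F)) (hxr : x ^ r = 1) (hx1 : x ≠ 1) :
    ∃ g : Alt.isoGroup (sympB d F), ∀ v, Q ((g * x * g⁻¹).1 v) = Q v := by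
  obtain ⟨φ, hφ⟩ := exists_phi (F := F) (d := d)
  obtain ⟨y, rfl⟩ := φ.surjective x
  have hy : y ^ r = 1 := φ.injective (by rw [map_pow, hxr, map_one])
  have hy' : y.1 ^ r = 1 := by rw [← Subgroup.coe_pow, hy]; rfl
  obtain ⟨g, hg, hg'⟩ := h y.1 y.2 ⟨1, by rw [hy', one_smul]; rfl⟩
    (fun z hz => hx1 (by rw [eq_one_of_scalar hd y hz, map_one]))
  have hg'' := (mem_sim_iff hd hQf ((⟨g, hg⟩ : ↥(Cfsg.spGL d F))⁻¹ * y * ⟨g, hg⟩)).1 hg'
  refine ⟨(φ ⟨g, hg⟩)⁻¹, fun v => ?_⟩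
  rw [inv_inv, ← map_inv, ← map_mul, ← map_mul, hφ]
  exact hg'' v

/-- An involution of `spGL` which is conjugate into `O(Q)`. -/
theorem backward (hd : 1 ≤ d) (hQf : polarBilin Q = sympB d F) {U : Submodule F (Fin d ⊕ Fin d → F)}
    (hU : ∀ u ∈ U, Q u = 0) (hU1 : d - 1 ≤ finrank F U) (hU2 : Even d → finrank F U = d)
    (y : ↥(Cfsg.spGL d F)) {z : F}
    (hz : ((y ^ 2 : ↥(Cfsg.spGL d F)).1 : Matrix (Fin d ⊕ Fin d) (Fin d ⊕ Fin d) F) = z • (1 : Matrix (Fin d ⊕ Fin d) (Fin d ⊕ Fin d) F))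
    (hns : y ≠ 1) : ∃ g ∈ Cfsg.spGL d F, g⁻¹ * y.1 * g ∈ Cfsg.Geo.quadSimilarityGroup ⇑Q := by
  obtain ⟨φ, hφ⟩ := exists_phi (F := F) (d := d)
  have hy2 : φ y ^ 2 = 1 := by rw [← map_pow, eq_one_of_scalar hd (y ^ 2) hz, map_one]
  have hy1 : φ y ≠ 1 := fun e => hns (φ.injective (e.trans (map_one φ).symm))
  obtain ⟨g, hg⟩ := OrthInSp.exists_conj_mem hQf hU hU1 hU2 (φ y) hy2 hy1
  obtain ⟨g', rfl⟩ := φ.surjective g
  refine ⟨(g'⁻¹).1, (g'⁻¹).2, ?_⟩
  have h := (mem_sim_iff hd hQf (g' * y * g'⁻¹)).2 fun v => by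
    have := hg v
    rwa [← map_inv, ← map_mul, ← map_mul, hφ] at this
  simpa using h

end aux


/-- Elements of prime order of PSp_n(q), q even, and the subgroups of orthogonal type. Here `T = Sp_{2d}(F)` for a field `F` of characteristic 2 with `q` elements (`d ≥ 2`, `(d, q) ≠ (2, 2)`), realised as the invertible matrices preserving the standard alternating form; `Q` is a non-degenerate quadratic form on `F^{2d}` whose polar form is that alternating form, and `H` is the subgroup of `T` preserving `Q` up to a scalar (equivalently preserving `Q`) — a subgroup of type O^±_{2d}(q) (maximality is not assumed); `Q` is of plus type when `F^{2d}` contains a `d`-dimensional subspace on which `Q` vanishes, of minus type otherwise. Ω is the set of cosets of `H` in `T`, so an element of `T` of prime order `r` (`x ∈ T` with `x^r` scalar, `x` not scalar) fixes a point of Ω exactly when some `T`-conjugate of `x` preserves `Q`. Let `r` be a prime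 dividing the index of `H`. Then every element of `T` of order `r` fixes a point of Ω if and only if `r = 2` and either `Q` is of plus type or `d` is odd. -/
theorem result {F : Type*} [Field F] [Fintype F] {p : ℕ} [Fact p.Prime] [CharP F p] {q : ℕ} (hq : Fintype.card F = q)
    (hp : p = 2) (d : ℕ) (hd : 2 ≤ d) (hT : (d, q) ≠ (2, 2)) (Q : (Fin d ⊕ Fin d → F) → F) (hQ : Cfsg.Geo.IsNondegenerateQuadraticForm Q)
    (hQf : ∀ u v, QuadraticMap.polar Q u v = Cfsg.sympForm d F u v)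
    (r : ℕ) [Fact r.Prime]
    (hΩ : r ∣ (Cfsg.Geo.quadSimilarityGroup Q).relIndex (Cfsg.spGL d F)) :
    (∀ x ∈ Cfsg.spGL d F, (∃ z : F, ((x ^ r : GL (Fin d ⊕ Fin d) F) : Matrix (Fin d ⊕ Fin d) (Fin d ⊕ Fin d) F) = z • (1 : Matrix (Fin d ⊕ Fin d) (Fin d ⊕ Fin d) F)) →
      (∀ z : F, (x : Matrix (Fin d ⊕ Fin d) (Fin d ⊕ Fin d) F) ≠ z • (1 : Matrix (Fin d ⊕ Fin d) (Fin d ⊕ Fin d) F)) →
      ∃ g ∈ Cfsg.spGL d F, g⁻¹ * x * g ∈ Cfsg.Geo.quadSimilarityGroup Q) ↔
    (r = 2 ∧ (Cfsg.Geo.IsPlusTypeOn Q ⊤ ∨ Odd d)) := by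
  subst hp
  classical
  have hd1 : 1 ≤ d := by omega
  obtain ⟨Q₀, rfl⟩ : ∃ Q₀ : QuadraticForm F (Fin d ⊕ Fin d → F), ⇑Q₀ = Q :=
    ⟨NotMax.toQF hQ, NotMax.toQF_coe hQ⟩
  have hQp : polarBilin Q₀ = sympB d F :=
    LinearMap.ext₂ fun u v => by rw [polarBilin_apply_apply, sympB_apply]; exact hQf u v
  have hnd : (polarBilin Q₀).Nondegenerate := OrthInSp.nondeg hQp
  have hV : finrank F (Fin d ⊕ Fin d → F) = 2 * d := finrank_symp
  have hplus : Cfsg.Geo.IsPlusTypeOn ⇑Q₀ ⊤ ↔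
      ∃ U : Submodule F (Fin d ⊕ Fin d → F), (∀ u ∈ U, Q₀ u = 0) ∧ finrank F U = d := by
    constructor
    · rintro ⟨U, -, hU, hd'⟩
      rw [finrank_top, hV] at hd'
      exact ⟨U, hU, by omega⟩
    · rintro ⟨U, hU, hd'⟩
      exact ⟨U, le_top, hU, by rw [finrank_top, hV, hd']⟩
  constructor
  · intro h
    have hr : r.Prime := Fact.out
    have h' := translate hd1 hQp h
    by_cases hr2 : r = 2
    · refine ⟨hr2, ?_⟩
      subst hr2
      by_contra hc
      rw [not_or, Nat.not_odd_iff_even, hplus] at hc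
      obtain ⟨hno, he⟩ := hc
      obtain ⟨t, ht, ht1, hder⟩ := OrthInSp.exists_derangement hQp hd1 he
        (fun U hU hUd => hno ⟨U, hU, hUd⟩)
      obtain ⟨g, hg⟩ := h' t ht ht1
      exact hder g hg
    · exfalso
      -- the index
      set q' := q ^ d with hq'
      have hq2 : 2 ≤ q := hq ▸ Fintype.one_lt_card
      obtain ⟨n, hqn⟩ : ∃ n, q = 2 ^ n := by
        obtain ⟨n, -, hn⟩ := FiniteField.card F 2
        exact ⟨n, by rw [← hq, hn]⟩
      have hrq : ¬ r ∣ q := fun hdvd => hr2 ((Nat.prime_dvd_prime_iff_eq hr Nat.prime_two).1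
        (hr.dvd_of_dvd_pow (hqn ▸ hdvd)))
      have hidx := index_mul hd1 hQp hq
      obtain ⟨l, rfl⟩ : ∃ l, d = l + 1 := ⟨d - 1, by omega⟩
      have hq'1 : 1 ≤ q ^ (l + 1) := Nat.one_le_pow _ _ (by omega)
      have hP : 0 < ∏ i ∈ Finset.range l, (q ^ (2 * (i + 1)) - 1) := Finset.prod_pos fun i _ =>
        Nat.sub_pos_of_lt (Nat.one_lt_pow (by omega) hq2)
      rw [Finset.prod_range_succ, show (l + 1) ^ 2 = (l + 1) * l + (l + 1) by ring, pow_add,
        Quad.sq_pow_sub_one (q := q) (l + 1)] at hidx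
      -- a fixed point free element of order r in the group of the opposite sign
      have hdiv : r ∣ (Fintype.card F ^ (l + 1)) ^ 2 - 1 → ∃ a : Module.End F (Fin (l + 1) ⊕ Fin (l + 1) → F),
          (∀ x, Q₀ (a x) = Q₀ x) ∧ a ^ r = 1 ∧ ∀ x, a x = x → x = 0 := by
        intro hdvd
        obtain ⟨x, hxr, hfix⟩ := OrthInSp.exists_fpf (F := F) hr2 (show 1 ≤ l + 1 by omega) hdvd
        have hne := nontrivial_symp (F := F) (show 1 ≤ l + 1 by omega)
        obtain ⟨u, hu⟩ := exists_ne (0 : Fin (l + 1) ⊕ Fin (l + 1) → F)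
        obtain ⟨g, hg⟩ := h' x hxr fun e => hu (hfix u (by rw [e]; rfl))
        refine ⟨(g * x * g⁻¹).1.toLinearMap, hg, ?_, fun v hv => ?_⟩
        · have hp : (g * x * g⁻¹) ^ r = 1 := by rw [conj_pow, hxr, mul_one, mul_inv_cancel]
          have hp' : ((g * x * g⁻¹).1 ^ r) = 1 := by rw [← Subgroup.coe_pow, hp]; rfl
          refine LinearMap.ext fun v => ?_
          have key : ∀ (n : ℕ) (w : Fin (l + 1) ⊕ Fin (l + 1) → F),
              ((g * x * g⁻¹).1.toLinearMap ^ n) w = ((g * x * g⁻¹).1 ^ n) w := by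
            intro n
            induction n with
            | zero => intro w; rfl
            | succ n ih => intro w; rw [pow_succ', pow_succ', Module.End.mul_apply, ih]; rfl
          rw [key, hp']
          rfl
        · have e : x.1 ((g⁻¹).1 v) = (g⁻¹).1 v := g.1.injective ((show g.1 (x.1 ((g⁻¹).1 v)) = v from hv).trans
            (g.1.apply_symm_apply v).symm)
          have := congrArg g.1 (hfix _ e)
          rw [map_zero] at this
          exact (g.1.apply_symm_apply v).symm.trans this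
      have hzr : (Fintype.card F : ZMod r) ≠ 0 := by
        rw [hq, Ne, ZMod.natCast_eq_zero_iff]; exact hrq
      have hsq : ∀ e : ℕ, r ∣ e → e ∣ (q ^ (l + 1)) ^ 2 - 1 → r ∣ (Fintype.card F ^ (l + 1)) ^ 2 - 1 :=
        fun e h1 h2 => hq.symm ▸ h1.trans h2
      have h2ne : (2 : ZMod r) ≠ 0 := by
        rw [show (2 : ZMod r) = ((2 : ℕ) : ZMod r) by norm_num, Ne, ZMod.natCast_eq_zero_iff]
        exact fun hdvd => hr2 ((Nat.prime_dvd_prime_iff_eq hr Nat.prime_two).1 hdvd)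
      rcases Quad.even_cases hnd hV with hiso | ⟨-, hiso⟩
      · obtain ⟨e, he⟩ := hiso
        have hco : Nat.card (Quad.oG Q₀) =
            2 * q ^ ((l + 1) * l) * (q ^ (l + 1) - 1) * ∏ i ∈ Finset.range l, (q ^ (2 * (i + 1)) - 1) := by
          rw [← Nat.card_congr (Quad.oCongr e he).toEquiv, Quad.card_oG_plus hq l]
        rw [hco] at hidx
        have hI : (Cfsg.Geo.quadSimilarityGroup ⇑Q₀).relIndex (Cfsg.spGL (l + 1) F) * 2 =
            q ^ (l + 1) * (q ^ (l + 1) + 1) := by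
          have hpos : 0 < q ^ ((l + 1) * l) * (q ^ (l + 1) - 1) * ∏ i ∈ Finset.range l, (q ^ (2 * (i + 1)) - 1) := by
            have : 0 < q ^ (l + 1) - 1 := Nat.sub_pos_of_lt (Nat.one_lt_pow (by omega) hq2)
            positivity
          refine Nat.eq_of_mul_eq_mul_right hpos (Eq.trans ?_ (hidx.trans ?_)) <;> ring
        have hr' : r ∣ q ^ (l + 1) + 1 := (hr.dvd_mul.1 (hI ▸ hΩ.mul_right 2)).resolve_left
          fun hdvd => hrq (hr.dvd_of_dvd_pow hdvd)
        obtain ⟨a, ha, har, hfix⟩ := hdiv (hsq _ hr' (by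
          have := Nat.sq_sub_sq (q ^ (l + 1)) 1
          rw [one_pow] at this
          rw [this]; exact dvd_mul_right _ _))
        have h1 := (DualCount.pow_half_dim_eq hnd hr hzr hV a ha har hfix).1 ⟨e, he⟩
        rw [hq] at h1
        have h2 : ((q ^ (l + 1) + 1 : ℕ) : ZMod r) = 0 := (ZMod.natCast_eq_zero_iff _ _).2 hr'
        push_cast at h2
        rw [h1, one_add_one_eq_two] at h2
        exact h2ne h2
      · obtain ⟨ζ, hζ⟩ := Quad.exists_rootfree (F := F)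
        obtain ⟨e, he⟩ := hiso _ _ (Quad.rootfree_aniso hζ)
        have hco : Nat.card (Quad.oG Q₀) =
            2 * q ^ ((l + 1) * l) * (q ^ (l + 1) + 1) * ∏ i ∈ Finset.range l, (q ^ (2 * (i + 1)) - 1) := by
          rw [← Nat.card_congr (Quad.oCongr e he).toEquiv]
          exact Quad.card_oG_minus (Quad.rootfree_aniso hζ) hq l
        rw [hco] at hidx
        have hI : (Cfsg.Geo.quadSimilarityGroup ⇑Q₀).relIndex (Cfsg.spGL (l + 1) F) * 2 =
            q ^ (l + 1) * (q ^ (l + 1) - 1) := by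
          have hpos : 0 < q ^ ((l + 1) * l) * (q ^ (l + 1) + 1) * ∏ i ∈ Finset.range l, (q ^ (2 * (i + 1)) - 1) := by
            positivity
          refine Nat.eq_of_mul_eq_mul_right hpos (Eq.trans ?_ (hidx.trans ?_)) <;> ring
        have hr' : r ∣ q ^ (l + 1) - 1 := (hr.dvd_mul.1 (hI ▸ hΩ.mul_right 2)).resolve_left
          fun hdvd => hrq (hr.dvd_of_dvd_pow hdvd)
        obtain ⟨a, ha, har, hfix⟩ := hdiv (hsq _ hr' (by
          have := Nat.sq_sub_sq (q ^ (l + 1)) 1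
          rw [one_pow] at this
          rw [this]; exact dvd_mul_left _ _))
        have h1 := (DualCount.pow_half_dim_eq hnd hr hzr hV a ha har hfix).2 _ _ (Quad.rootfree_aniso hζ) ⟨e, he⟩
        rw [hq] at h1
        have h2 : ((q ^ (l + 1) - 1 : ℕ) : ZMod r) = 0 := (ZMod.natCast_eq_zero_iff _ _).2 hr'
        rw [Nat.cast_sub hq'1] at h2
        push_cast at h2
        rw [h1] at h2
        exact h2ne (by linear_combination -h2)
  · rintro ⟨rfl, hc⟩ x hx ⟨z, hz⟩ hns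
    obtain ⟨U, hU, hU1, hU2⟩ : ∃ U : Submodule F (Fin d ⊕ Fin d → F), (∀ u ∈ U, Q₀ u = 0) ∧
        d - 1 ≤ finrank F U ∧ (Even d → finrank F U = d) := by
      rcases hc with hp | ho
      · obtain ⟨U, hU, hUd⟩ := hplus.1 hp
        exact ⟨U, hU, by omega, fun _ => hUd⟩
      · obtain ⟨U, hU, hUd⟩ := OrthInSp.exists_singular_pred hnd hV
        exact ⟨U, hU, hUd, fun he => absurd he (Nat.not_even_iff_odd.2 ho)⟩
    exact backward hd1 hQp hU hU1 hU2 ⟨x, hx⟩ hz fun e => hns 1 (by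
      rw [one_smul, show x = 1 from congrArg Subtype.val e]
      rfl)

end Cfsg.Agent.S5983
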