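import Cfsg.Statements.S5984
import Cfsg.Agent.HermPair.Inv

set_option autoImplicit false
set_option linter.style.haveILetI false
open scoped MatrixGroups
open Cfsg

namespace Cfsg.Agent.S5984

open Module Cfsg.Agent.Classical Cfsg.Agent.Classical.Herm Cfsg.Agent.HermPair

section
variable {F : Type*} [Field F] [Fintype F] {σ : F →+* F}

theorem exists_small_elem {q m r : ℕ} [Fact r.Prime] (hσ : IsInvol σ) (hσq : ∀ x, σ x = x ^ q)
    (hqf : Nat.card (fixField σ) = q) (hq1 : 1 < q) (hm : 2 ≤ m) (hr2 : r ≠ 2) (hrF : (r : F) ≠ 0) (hrq : ¬ r ∣ q)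
    {i : ℕ} (hi : i < m) (hri : r ∣ q ^ (2 * i + 1) + 1) :
    ∃ e g, e ≤ m + m ∧ Odd e ∧ g ∈ isoG (hermB e σ) ∧ g ^ r = 1 ∧
      LinearMap.det (g : (Fin e → F) →ₗ[F] (Fin e → F)) = 1 ∧
      finrank F (LinearMap.range (g.toLinearMap - LinearMap.id)) = e := by
  classical
  have hr : r.Prime := Fact.out
  by_cases h1 : r ∣ q + 1
  · have hc : r ∣ Nat.card (normHom σ).ker := by rw [card_ker_normHom hσ, hqf]; exact h1
    obtain ⟨ζ, hζ⟩ := exists_prime_orderOf_dvd_card' r hc
    rw [← Subgroup.orderOf_coe] at hζ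
    set a : F := ((ζ.1 : Fˣ) : F) with ha
    have haN : a * σ a = 1 := congrArg Units.val ζ.2
    have har : a ^ r = 1 := by
      rw [ha, ← Units.val_pow_eq_pow_val, ← hζ, pow_orderOf_eq_one, Units.val_one]
    have ha1 : a ≠ 1 := fun h => hr.ne_one (by rw [← hζ, orderOf_eq_one_iff]; exact Units.ext h)
    have ha2 : a ^ 2 ≠ 1 := fun h => hr2 (by
      have : ζ.1 ^ 2 = 1 := Units.ext (by rw [Units.val_pow_eq_pow_val]; exact h)
      have := orderOf_dvd_of_pow_eq_one this
      rw [hζ] at this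
      exact ((Nat.prime_dvd_prime_iff_eq hr Nat.prime_two).1 this))
    let w : Fin 3 → F := ![a, a, (a ^ 2)⁻¹]
    have hw : ∀ j, w j * σ (w j) = 1 := by
      intro j
      fin_cases j
      · exact haN
      · exact haN
      · show (a ^ 2)⁻¹ * σ (a ^ 2)⁻¹ = 1
        rw [map_inv₀, map_pow, ← mul_inv, ← mul_pow, haN, one_pow, inv_one]
    have hwr : ∀ j, w j ^ r = 1 := by
      intro j
      fin_cases j
      · exact har
      · exact har
      · show ((a ^ 2)⁻¹) ^ r = 1
        rw [inv_pow, ← pow_mul, mul_comm, pow_mul, har, one_pow, inv_one]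
    have hw1 : ∀ j, w j ≠ 1 := by
      intro j
      fin_cases j
      · exact ha1
      · exact ha1
      · show (a ^ 2)⁻¹ ≠ 1
        exact fun h => ha2 (inv_eq_one.1 h)
    obtain ⟨g, hg, hgv, hgd⟩ := exists_diag w hw
    have hgi : ∀ (k : ℕ) v j, (g ^ k) v j = w j ^ k * v j := by
      intro k
      induction k with
      | zero => intro v j; simp
      | succ k ih => intro v j; rw [pow_succ', LinearEquiv.mul_apply, hgv, ih, pow_succ]; ring
    refine ⟨3, g, by omega, by decide, hg, LinearEquiv.ext fun v => funext fun j => ?_, ?_, ?_⟩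
    · rw [hgi, hwr, one_mul]; rfl
    · rw [hgd, Fin.prod_univ_three]
      show a * a * (a ^ 2)⁻¹ = 1
      rw [← sq, mul_inv_cancel₀]
      intro h
      have := haN
      rw [(sq_eq_zero_iff.1 h), zero_mul] at this
      exact zero_ne_one this
    · have := rank_diag hgv 1
      rw [one_smul] at this
      rw [this, Fintype.card_congr (Equiv.subtypeUnivEquiv fun j => sub_ne_zero.2 (hw1 j)), Fintype.card_fin]
  · have hl : ∀ l, r ∣ (if Even l then q ^ (l - 1) * (q ^ l - 1) else q ^ (l - 1) * (q ^ l + 1)) ↔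
        orderOf (-(q : ZMod r)) ∣ l := fun l => (dvd_factor_iff hq1 hrq).trans orderOf_dvd_iff_pow_eq_one.symm
    set e := orderOf (-(q : ZMod r)) with he
    have hed : e ∣ 2 * i + 1 := by
      rw [← hl, if_neg (Nat.not_even_iff_odd.2 ⟨i, rfl⟩)]
      exact hri.mul_left _
    have heo : Odd e := Odd.of_dvd_nat ⟨i, rfl⟩ hed
    have hele : e ≤ 2 * i + 1 := Nat.le_of_dvd (by omega) hed
    have hre : r ∣ guOrder q e := by
      refine ((hl e).2 dvd_rfl).trans ?_
      have := Finset.dvd_prod_of_mem (fun j => if Even (e - j) then q ^ (e - j - 1) * (q ^ (e - j) - 1)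
        else q ^ (e - j - 1) * (q ^ (e - j) + 1)) (Finset.mem_range.2 heo.pos)
      simpa [guOrder] using this
    haveI : Finite ((Fin e → F) ≃ₗ[F] (Fin e → F)) := Finite.of_injective _ DFunLike.coe_injective
    rw [← card_isoG hσ hσq hqf] at hre
    obtain ⟨g, hg⟩ := exists_prime_orderOf_dvd_card' r hre
    rw [← Subgroup.orderOf_coe] at hg
    have hgr : g.1 ^ r = 1 := by rw [← hg]; exact pow_orderOf_eq_one _
    refine ⟨e, g.1, by omega, heo, g.2, hgr, ?_, le_antisymm
      ((Submodule.finrank_le _).trans (Module.finrank_fin_fun F).le) ?_⟩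
    · have hd := norm_det hσq g.2
      set d := LinearMap.det ((g.1 : (Fin e → F) ≃ₗ[F] (Fin e → F)) : (Fin e → F) →ₗ[F] (Fin e → F)) with hdd
      rw [hσq, ← pow_succ'] at hd
      have hdr : d ^ r = 1 := by
        rw [hdd, ← det_toGL, ← Matrix.det_pow, ← Units.val_pow_eq_pow_val, ← map_pow, hgr, map_one, Units.val_one,
          Matrix.det_one]
      have := pow_gcd_eq_one.2 ⟨hdr, hd⟩
      rwa [Nat.Coprime.gcd_eq_one ((Nat.Prime.coprime_iff_not_dvd hr).2 h1), pow_one] at this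
    · have hg1 : g.1 ≠ 1 := fun h => hr.ne_one (by rw [← hg, h, orderOf_one])
      have hR := order_dvd_rank hσ hσq hqf hrF hr g.2 hgr hg1
      unfold guOrder at hR
      obtain ⟨j, hj, hj2⟩ := (Prime.dvd_finset_prod_iff hr.prime _).1 hR
      rw [hl] at hj2
      rw [Finset.mem_range] at hj
      exact (Nat.le_of_dvd (by omega) hj2).trans (Nat.sub_le _ _)

theorem exists_extend {n e r : ℕ} (h : e ≤ n) {g : (Fin e → F) ≃ₗ[F] (Fin e → F)} (hg : g ∈ isoG (hermB e σ))
    (hgr : g ^ r = 1) :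
    ∃ x : (Fin n → F) ≃ₗ[F] (Fin n → F), x ∈ isoG (hermB n σ) ∧ x ^ r = 1 ∧
      LinearMap.det (x : (Fin n → F) →ₗ[F] (Fin n → F)) = LinearMap.det (g : (Fin e → F) →ₗ[F] (Fin e → F)) ∧
      finrank F (LinearMap.range (x.toLinearMap - LinearMap.id)) = finrank F (LinearMap.range (g.toLinearMap - LinearMap.id)) := by
  obtain ⟨k, rfl⟩ := Nat.exists_eq_add_of_le h
  exact exists_extendIso hg hgr

theorem card_split {n : ℕ} (K : Subgroup (GL (Fin n) F)) :
    Nat.card K = Nat.card ↥(K ⊓ Cfsg.Geo.specialLinear (Fin n) F) *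
      Nat.card (K.map (Matrix.GeneralLinearGroup.det : GL (Fin n) F →* Fˣ)) := by
  let f : K →* Fˣ := (Matrix.GeneralLinearGroup.det : GL (Fin n) F →* Fˣ).comp K.subtype
  have h := f.ker.index_mul_card
  rw [Subgroup.index_ker, MonoidHom.range_comp, Subgroup.range_subtype] at h
  rw [← h, mul_comm]
  congr 1
  exact Nat.card_congr ⟨fun x => ⟨x.1.1, x.1.2, x.2⟩, fun x => ⟨⟨x.1, x.2.1⟩, x.2.2⟩, fun _ => rfl, fun _ => rfl⟩

end

theorem result {F : Type*} [Field F] [Fintype F] {p : ℕ} [Fact p.Prime] [CharP F p] {q : ℕ} (hq : Fintype.card F = q ^ 2)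
    (n : ℕ) (hn : 4 ≤ n) (he : Even n) (D : Fin 2 → Submodule F (Fin n → F)) (hD : Cfsg.Geo.IsMDecomposition (n / 2) D)
    (hDs : ∀ i, Cfsg.Geo.IsTotallySingularFor (Cfsg.hermForm n F q) (D i))
    (r : ℕ) [Fact r.Prime]
    (hΩ : r ∣ (Cfsg.Geo.decompositionStabilizer D).relIndex (Cfsg.GU n F q ⊓ Cfsg.Geo.specialLinear (Fin n) F)) :
    (∀ x ∈ Cfsg.GU n F q ⊓ Cfsg.Geo.specialLinear (Fin n) F, (∃ z : F, ((x ^ r : GL (Fin n) F) : Matrix (Fin n) (Fin n) F) = z • (1 : Matrix (Fin n) (Fin n) F)) →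
      (∀ z : F, (x : Matrix (Fin n) (Fin n) F) ≠ z • (1 : Matrix (Fin n) (Fin n) F)) →
      ∃ g ∈ Cfsg.GU n F q ⊓ Cfsg.Geo.specialLinear (Fin n) F, g⁻¹ * x * g ∈ Cfsg.Geo.decompositionStabilizer D) ↔
    (r = 2 ∧ Odd q ∧ padicValNat 2 (q + 1) ≤ padicValNat 2 n) := by
  classical
  obtain ⟨σ, hσq, hσ, hqf, hq1⟩ := exists_powHom hq
  obtain ⟨m, rfl⟩ := he
  rw [show (m + m) / 2 = m by omega] at hD
  have hm : 2 ≤ m := by omega
  have hr : r.Prime := Fact.out
  have hp : p.Prime := Fact.out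
  obtain ⟨i₀, hqp⟩ : ∃ i, q = p ^ i := by
    obtain ⟨k, -, hk⟩ := FiniteField.card F p
    obtain ⟨i, -, hi⟩ := (Nat.dvd_prime_pow hp).1 (show q ∣ p ^ (k : ℕ) from ⟨q, by rw [← hk, hq, sq]⟩)
    exact ⟨i, hi⟩
  have hi₀ : i₀ ≠ 0 := by rintro rfl; simp at hqp; omega
  set B := hermB (m + m) σ with hBdef
  have hB : IsHerm B := hermB_isHerm hσ _
  set U := D 0 with hU
  set W := D 1 with hW
  have hsing : ∀ i, ∀ a ∈ D i, ∀ b ∈ D i, B a b = 0 := fun i a ha b hb => by
    rw [hBdef, ← hermForm_eq hσq]; exact hDs i b hb a ha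
  have hP : Pair B m U W := by
    refine ⟨hsing 0, hsing 1, ⟨hD.indep.pairwiseDisjoint (by decide), codisjoint_iff.2 ?_⟩, hD.finrank_eq 0, hD.finrank_eq 1⟩
    rw [eq_top_iff, ← hD.iSup_eq_top]
    exact iSup_le (Fin.forall_fin_two.2 ⟨le_sup_left, le_sup_right⟩)
  have hne : U ≠ W := fun h => by
    have h1 := hP.compl.inf_eq_bot
    rw [← h, inf_idem] at h1
    have := hP.du
    rw [h1, finrank_bot] at this
    omega
  set G := Cfsg.GU (m + m) F q ⊓ Cfsg.Geo.specialLinear (Fin (m + m)) F with hGdef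
  have hG : ∀ e, toGL e ∈ G ↔ e ∈ isoG B ∧ LinearMap.det (e : (Fin (m + m) → F) →ₗ[F] (Fin (m + m) → F)) = 1 := fun e => by
    rw [hGdef, Subgroup.mem_inf, mem_GU hσq, ← det_toGL]
    exact and_congr_right fun _ => Units.ext_iff
  have hH : ∀ e : (Fin (m + m) → F) ≃ₗ[F] (Fin (m + m) → F), toGL e ∈ Cfsg.Geo.decompositionStabilizer D ↔
      (U.map (e : (Fin (m + m) → F) →ₗ[F] (Fin (m + m) → F)) = U ∧ W.map (e : (Fin (m + m) → F) →ₗ[F] (Fin (m + m) → F)) = W) ∨
      (U.map (e : (Fin (m + m) → F) →ₗ[F] (Fin (m + m) → F)) = W ∧ W.map (e : (Fin (m + m) → F) →ₗ[F] (Fin (m + m) → F)) = U) := by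
    intro e
    constructor
    · rintro ⟨τ, hτ⟩
      have h0 := hτ 0
      have h1 := hτ 1
      rw [toLin'_toGL] at h0 h1
      rcases (show ∀ τ : Equiv.Perm (Fin 2), τ 0 = 0 ∧ τ 1 = 1 ∨ τ 0 = 1 ∧ τ 1 = 0 by decide) τ with ⟨a, b⟩ | ⟨a, b⟩
      · rw [a] at h0; rw [b] at h1; exact Or.inl ⟨h0, h1⟩
      · rw [a] at h0; rw [b] at h1; exact Or.inr ⟨h0, h1⟩
    · rintro (⟨a, b⟩ | ⟨a, b⟩)
      · refine ⟨1, Fin.forall_fin_two.2 ⟨?_, ?_⟩⟩ <;> rw [toLin'_toGL] <;> assumption
      · refine ⟨Equiv.swap 0 1, Fin.forall_fin_two.2 ⟨?_, ?_⟩⟩ <;> rw [toLin'_toGL]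
        · rw [Equiv.swap_apply_left]; exact a
        · rw [Equiv.swap_apply_right]; exact b
  have hscal : ∀ (e : (Fin (m + m) → F) ≃ₗ[F] (Fin (m + m) → F)) (z : F),
      (toGL e).1 = z • (1 : Matrix (Fin (m + m)) (Fin (m + m)) F) ↔ ∀ v, e v = z • v := fun e z => by
    rw [← Matrix.toLin'.injective.eq_iff, toLin'_toGL, map_smul, Matrix.toLin'_one, LinearMap.ext_iff]
    rfl
  -- derangements
  have key : ∀ (x : (Fin (m + m) → F) ≃ₗ[F] (Fin (m + m) → F)) (z s : F), x ∈ isoG B →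
      LinearMap.det (x : (Fin (m + m) → F) →ₗ[F] (Fin (m + m) → F)) = 1 → (∀ v, (x ^ r) v = z • v) → s * σ s = 1 →
      Odd (finrank F (LinearMap.range ((x : (Fin (m + m) → F) →ₗ[F] (Fin (m + m) → F)) - s • LinearMap.id))) →
      (Odd r ∨ finrank F (LinearMap.range ((x : (Fin (m + m) → F) →ₗ[F] (Fin (m + m) → F)) - s • LinearMap.id)) = 1) →
      ¬ (∀ x ∈ G, (∃ z : F, ((x ^ r : GL (Fin (m + m)) F) : Matrix (Fin (m + m)) (Fin (m + m)) F) = z • (1 : Matrix (Fin (m + m)) (Fin (m + m)) F)) →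
        (∀ z : F, (x : Matrix (Fin (m + m)) (Fin (m + m)) F) ≠ z • (1 : Matrix (Fin (m + m)) (Fin (m + m)) F)) →
        ∃ g ∈ G, g⁻¹ * x * g ∈ Cfsg.Geo.decompositionStabilizer D) := by
    intro x z s hx hxd hxr hs hodd hor hall
    have hns : ∀ c : F, (toGL x).1 ≠ c • 1 := by
      intro c hc
      rw [hscal] at hc
      have e1 : (x : (Fin (m + m) → F) →ₗ[F] (Fin (m + m) → F)) - s • LinearMap.id = (c - s) • LinearMap.id :=
        LinearMap.ext fun v => by simp [hc, sub_smul]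
      rw [e1] at hodd
      rcases eq_or_ne (c - s) 0 with h0 | h0
      · rw [h0, zero_smul, LinearMap.range_zero, finrank_bot] at hodd
        exact Nat.not_odd_zero hodd
      · rw [LinearMap.range_smul _ _ h0, LinearMap.range_id, finrank_top, Module.finrank_fin_fun] at hodd
        exact Nat.not_odd_iff_even.2 ⟨m, rfl⟩ hodd
    obtain ⟨g, hg, hgH⟩ := hall _ ((hG x).2 ⟨hx, hxd⟩) ⟨z, by rw [← map_pow]; exact (hscal _ z).2 hxr⟩ hns
    obtain ⟨h, rfl⟩ := exists_equiv g
    rw [← map_inv, ← map_mul, ← map_mul] at hgH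
    set y := h⁻¹ * x * h with hy
    have hyB : y ∈ isoG B := mul_mem (mul_mem (inv_mem ((hG h).1 hg).1) hx) ((hG h).1 hg).1
    have hyv : ∀ v, y v = h.symm (x (h v)) := fun v => rfl
    have hyr : ∀ v, (y ^ r) v = z • v := fun v => by
      have e1 : y ^ r = h⁻¹ * x ^ r * h := by
        rw [hy, show h⁻¹ * x * h = h⁻¹ * x * (h⁻¹)⁻¹ by rw [inv_inv], conj_pow, inv_inv]
      rw [e1]
      show h.symm ((x ^ r) (h v)) = _
      rw [hxr, map_smul, LinearEquiv.symm_apply_apply]
    have hrange : LinearMap.range ((y : (Fin (m + m) → F) →ₗ[F] (Fin (m + m) → F)) - s • LinearMap.id) =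
        (LinearMap.range ((x : (Fin (m + m) → F) →ₗ[F] (Fin (m + m) → F)) - s • LinearMap.id)).map
          (h.symm : (Fin (m + m) → F) →ₗ[F] (Fin (m + m) → F)) := by
      rw [← LinearMap.range_comp, show (y : (Fin (m + m) → F) →ₗ[F] (Fin (m + m) → F)) - s • LinearMap.id =
          ((h.symm : (Fin (m + m) → F) →ₗ[F] (Fin (m + m) → F)).comp
            ((x : (Fin (m + m) → F) →ₗ[F] (Fin (m + m) → F)) - s • LinearMap.id)).comp (h : (Fin (m + m) → F) →ₗ[F] (Fin (m + m) → F)) from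
          LinearMap.ext fun v => by simp [hyv], LinearMap.range_comp_of_range_eq_top _ h.range]
    have hrk := congrArg (fun X : Submodule F (Fin (m + m) → F) => finrank F X) hrange
    simp only [LinearEquiv.finrank_map_eq] at hrk
    rw [← hrk] at hodd hor
    rcases (hH y).1 hgH with ⟨h1, h2⟩ | ⟨h1, h2⟩
    · exact Nat.not_even_iff_odd.2 hodd (hP.even_rank hB hyB h1 h2 hs)
    · rcases hor with ⟨k, hk⟩ | h1r
      · have hpow : ∀ j, ∀ v ∈ U, (y ^ (2 * j)) v ∈ U := by
          intro j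
          induction j with
          | zero => intro v hv; simpa using hv
          | succ j ih =>
            intro v hv
            rw [show 2 * (j + 1) = (2 * j + 1) + 1 by ring, pow_succ', pow_succ', LinearEquiv.mul_apply, LinearEquiv.mul_apply]
            exact h2.le (Submodule.mem_map_of_mem (h1.le (Submodule.mem_map_of_mem (ih v hv))))
        refine hne (Submodule.eq_of_le_of_finrank_eq (fun v hv => ?_) (by rw [hP.du, hP.dw]))
        have hz : z ≠ 0 := fun hz => by
          obtain ⟨w, hw⟩ : ∃ w : Fin (m + m) → F, w ≠ 0 := ⟨Pi.single ⟨0, by omega⟩ 1, by simp⟩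
          have := hyr w
          rw [hz, zero_smul] at this
          exact hw ((y ^ r).injective (this.trans (map_zero _).symm))
        have := h1.le (Submodule.mem_map_of_mem (hpow k v hv))
        rw [show (y : (Fin (m + m) → F) →ₗ[F] (Fin (m + m) → F)) ((y ^ (2 * k)) v) = (y ^ r) v by
          rw [hk, pow_succ', LinearEquiv.mul_apply]; rfl, hyr] at this
        exact (W.smul_mem_iff hz).1 this
      · set T := (y : (Fin (m + m) → F) →ₗ[F] (Fin (m + m) → F)) - s • LinearMap.id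
        have hT := LinearMap.finrank_range_add_finrank_ker T
        have hsi := Submodule.finrank_sup_add_finrank_inf_eq U (LinearMap.ker T)
        have hle := Submodule.finrank_le (U ⊔ LinearMap.ker T)
        rw [Module.finrank_fin_fun] at hT hle
        have hpos : U ⊓ LinearMap.ker T ≠ ⊥ := fun h0 => by
          rw [h0, finrank_bot, hP.du] at hsi
          omega
        obtain ⟨v, ⟨hvU, hvT⟩, hv0⟩ := Submodule.exists_mem_ne_zero_of_ne_bot hpos
        have hyv' : y v = s • v := sub_eq_zero.1 hvT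
        have hsv : s • v ∈ W := hyv' ▸ h1.le (Submodule.mem_map_of_mem hvU)
        have hs0 : s ≠ 0 := fun e => by rw [e, zero_mul] at hs; exact zero_ne_one hs
        exact hv0 (Submodule.disjoint_def.1 hP.compl.disjoint v hvU ((W.smul_mem_iff hs0).1 hsv))
  constructor
  · intro hall
    by_cases hrp : r = p
    · subst hrp
      obtain ⟨x, hx, hxr, hxd, hxk⟩ := exists_transvection (F := F) (p := r) hσ (n := m + m) (by omega)
      refine absurd hall (key x 1 1 hx hxd (fun v => by rw [hxr, one_smul]; rfl) (by rw [map_one, mul_one]) ?_ ?_)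
      · rw [one_smul]; rw [show (x : (Fin (m + m) → F) →ₗ[F] (Fin (m + m) → F)) = x.toLinearMap from rfl, hxk]; exact odd_one
      · right; rw [one_smul]; exact hxk
    have hrF : (r : F) ≠ 0 := fun h =>
      hrp (((Nat.prime_dvd_prime_iff_eq hp hr).1 ((CharP.cast_eq_zero_iff F p r).1 h)).symm)
    have hrq : ¬ r ∣ q := fun h => hrp ((Nat.prime_dvd_prime_iff_eq hr hp).1 (hr.dvd_of_dvd_pow (hqp ▸ h)))
    by_cases hr2 : r = 2
    · subst hr2
      have hqo : Odd q := Nat.not_even_iff_odd.1 fun h => hrq (even_iff_two_dvd.1 h)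
      refine ⟨rfl, hqo, not_lt.1 fun hlt => ?_⟩
      have h2 : (2 : F) ≠ 0 := by exact_mod_cast hrF
      set b := padicValNat 2 (m + m) with hb
      obtain ⟨c, hc⟩ : 2 ^ b ∣ m + m := pow_padicValNat_dvd
      have hco : Odd c := Nat.not_even_iff_odd.1 fun h => by
        obtain ⟨c', rfl⟩ := h
        exact pow_succ_padicValNat_not_dvd (p := 2) (n := m + m) (by omega) ⟨c', by rw [← hb, hc, pow_succ]; ring⟩
      obtain ⟨d, hd⟩ : 2 ^ (b + 1) ∣ q + 1 := (pow_dvd_pow 2 hlt).trans pow_padicValNat_dvd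
      obtain ⟨γ, hγ⟩ := IsCyclic.exists_ofOrder_eq_natCard (α := (normHom σ).ker)
      rw [card_ker_normHom hσ, hqf, hd] at hγ
      have hd0 : d ≠ 0 := fun h => by rw [h, mul_zero] at hd; omega
      set s : F := (((γ ^ d).1 : Fˣ) : F) with hsdef
      have hsN : s * σ s = 1 := congrArg Units.val (γ ^ d).2
      have hs2 : s ^ (2 ^ b) = -1 := by
        have hu : orderOf ((γ ^ d).1) = 2 ^ (b + 1) := by
          rw [Subgroup.orderOf_coe, orderOf_pow' _ hd0, hγ, Nat.gcd_eq_right (dvd_mul_left _ _),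
            Nat.mul_div_cancel _ (Nat.pos_of_ne_zero hd0)]
        refine (mul_self_eq_one_iff.1 ?_).resolve_left fun h => ?_
        · rw [hsdef, ← pow_add, ← two_mul, ← pow_succ', ← Units.val_pow_eq_pow_val, ← hu, pow_orderOf_eq_one, Units.val_one]
        · have h' : (γ ^ d).1 ^ (2 ^ b) = 1 := Units.ext (by rw [Units.val_pow_eq_pow_val]; exact h)
          have := Nat.le_of_dvd (by positivity) (orderOf_dvd_of_pow_eq_one h')
          rw [hu] at this
          exact absurd this (not_le.2 (Nat.pow_lt_pow_right (by norm_num) (by omega)))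
      have hsn : s ^ (m + m) = -1 := by rw [hc, pow_mul, hs2, hco.neg_one_pow]
      have hs0 : s ≠ 0 := fun e => by rw [e, zero_mul] at hsN; exact zero_ne_one hsN
      let j₀ : Fin (m + m) := ⟨0, by omega⟩
      let w : Fin (m + m) → F := fun j => if j = j₀ then -s else s
      obtain ⟨x, hx, hxv, hxd⟩ := exists_diag (σ := σ) w (fun j => by
        simp only [w]; split_ifs
        · rw [map_neg, neg_mul_neg]; exact hsN
        · exact hsN)
      refine key x (s * s) s hx ?_ (fun v => funext fun j => ?_) hsN ?_ ?_ hall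
      · have hprod : ∀ j, w j = (if j = j₀ then (-1 : F) else 1) * s := fun j => by
          simp only [w]; split_ifs <;> ring
        rw [hxd, Finset.prod_congr rfl fun j _ => hprod j, Finset.prod_mul_distrib, Finset.prod_ite_eq']
        simp [hsn]
      · rw [sq, LinearEquiv.mul_apply, hxv, hxv]
        simp only [w, Pi.smul_apply, smul_eq_mul]
        split_ifs <;> ring
      all_goals
        have hcard : finrank F (LinearMap.range ((x : (Fin (m + m) → F) →ₗ[F] (Fin (m + m) → F)) - s • LinearMap.id)) = 1 := by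
          rw [rank_diag hxv s, Fintype.card_eq_one_iff]
          refine ⟨⟨j₀, ?_⟩, fun j => Subtype.ext ?_⟩
          · simp only [w, if_true]
            exact fun h => h2 ((mul_eq_zero.1 (show (2 : F) * s = 0 by linear_combination -h)).resolve_right hs0)
          · by_contra hj
            exact j.2 (by simp [w, hj])
      · rw [hcard]; exact odd_one
      · exact Or.inr hcard
    · exfalso
      obtain ⟨i, hi, hri⟩ : ∃ i < m, r ∣ q ^ (2 * i + 1) + 1 := by
        refine exists_odd_factor hq1 hr hrq ?_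
        set H := Cfsg.Geo.decompositionStabilizer D with hHdef
        set S : Subgroup (GL (Fin (m + m)) F) := (stab B U W).map toGL with hS
        have hSle : S ≤ Cfsg.GU (m + m) F q := by
          rintro _ ⟨e, he, rfl⟩
          exact (mem_GU hσq e).2 he.1
        have hS1 : S ⊓ Cfsg.Geo.specialLinear (Fin (m + m)) F ≤ H ⊓ G := by
          rintro g ⟨⟨e, he, rfl⟩, hg⟩
          exact ⟨(hH e).2 (Or.inl he.2), hSle ⟨e, he, rfl⟩, hg⟩
        have h1 : r * Nat.card ↥(H ⊓ G) ∣ Nat.card G := by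
          refine (mul_dvd_mul_right hΩ _).trans ?_
          rw [show Nat.card ↥(H ⊓ G) = Nat.card (H.subgroupOf G) from
            Nat.card_congr ⟨fun x => ⟨⟨x.1, x.2.2⟩, x.2.1⟩, fun x => ⟨x.1.1, x.2, x.1.2⟩, fun _ => rfl, fun _ => rfl⟩]
          exact (Subgroup.index_mul_card _).dvd
        have h2 : r * Nat.card S ∣ Nat.card (Cfsg.GU (m + m) F q) := by
          rw [card_split S, card_split (Cfsg.GU (m + m) F q), ← mul_assoc]
          exact mul_dvd_mul ((mul_dvd_mul_left r (Subgroup.card_dvd_of_le hS1)).trans h1)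
            (Subgroup.card_dvd_of_le (Subgroup.map_mono hSle))
        rwa [hS, Subgroup.card_map_of_injective toGL_injective, hP.card_stab hB, hq, card_GU_eq hσ hσq hqf] at h2
      obtain ⟨e, g, hel, heo, hg, hgr, hgd, hgk⟩ := exists_small_elem hσ hσq hqf hq1 hm hr2 hrF hrq hi hri
      obtain ⟨x, hx, hxr, hxd, hxk⟩ := exists_extend hel hg hgr
      refine key x 1 1 hx (hxd.trans hgd) (fun v => by rw [hxr, one_smul]; rfl) (by rw [map_one, mul_one]) ?_
        (Or.inl (hr.odd_of_ne_two hr2)) hall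
      rw [one_smul]
      rw [hxk, hgk]
      exact heo
  · rintro ⟨rfl, hqo, hle⟩ X hX ⟨z, hz⟩ -
    obtain ⟨x, rfl⟩ := exists_equiv X
    obtain ⟨hx, hxd⟩ := (hG x).1 hX
    rw [← map_pow, hscal] at hz
    have hchar : ringChar F ≠ 2 := by
      rw [ringChar.eq F p]
      rintro rfl
      exact (Nat.not_even_iff_odd.2 hqo) (by rw [hqp, Nat.even_pow]; exact ⟨even_two, hi₀⟩)
    have h2 : (2 : F) ≠ 0 := Ring.two_ne_zero hchar
    have hzN : z * σ z = 1 := by
      let u : Fin (m + m) → F := Pi.single ⟨0, by omega⟩ 1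
      have h11 : B u u = 1 := by rw [hBdef, isON_single (m + m) _ _, if_pos rfl]
      have := hx (x u) (x u)
      rw [hx u u, h11, show x (x u) = (x ^ 2) u by rw [sq]; rfl, hz, smul_self hB, h11, mul_one] at this
      exact this
    obtain ⟨s, rfl⟩ : IsSquare z := by
      have hz0 : z ≠ 0 := fun h => by rw [h, zero_mul] at hzN; exact zero_ne_one hzN
      rw [FiniteField.isSquare_iff hchar hz0, hq]
      obtain ⟨a, ha⟩ := hqo
      rw [show q ^ 2 / 2 = (q + 1) * a by
        rw [ha, show (2 * a + 1) ^ 2 = 1 + 2 * ((2 * a + 1 + 1) * a) by ring, Nat.add_mul_div_left _ _ (by norm_num)]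
        simp, pow_mul, pow_succ', ← hσq, hzN, one_pow]
    have hs0 : s ≠ 0 := fun h => by rw [h, zero_mul, zero_mul] at hzN; exact zero_ne_one hzN
    have hN : s * σ s = 1 ∨ s * σ s = -1 := mul_self_eq_one_iff.1 (by
      rw [map_mul] at hzN; linear_combination hzN)
    have hd : s * σ s = 1 → s ^ (m + m) ≠ -1 := by
      intro h1 h
      obtain ⟨d, hd⟩ : 2 ^ padicValNat 2 (q + 1) ∣ q + 1 := pow_padicValNat_dvd
      have hdo : Odd d := Nat.not_even_iff_odd.1 fun h => by
        obtain ⟨d', rfl⟩ := h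
        exact pow_succ_padicValNat_not_dvd (p := 2) (n := q + 1) (by omega)
          ⟨d', by rw [pow_succ]; conv_lhs => rw [hd]
                  ring⟩
      obtain ⟨c, hc⟩ : 2 ^ padicValNat 2 (q + 1) ∣ m + m := (pow_dvd_pow 2 hle).trans pow_padicValNat_dvd
      have e1 : (s ^ (m + m)) ^ d = 1 := by
        rw [← pow_mul, hc, show 2 ^ padicValNat 2 (q + 1) * c * d = (2 ^ padicValNat 2 (q + 1) * d) * c by ring, ← hd,
          pow_mul, pow_succ', ← hσq, h1, one_pow]
      rw [h, hdo.neg_one_pow] at e1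
      exact h2 (by linear_combination -e1)
    obtain ⟨U', W', hP', hU', hW'⟩ := exists_fixed_pair hB h2 (Module.finrank_fin_fun F) hx hs0
      (fun v => by rw [← hz v, sq]; rfl) hN hd hxd
    obtain ⟨u, hu, hui⟩ := hP.exists_basis
    obtain ⟨u', hu', hui'⟩ := hP'.exists_basis
    obtain ⟨h, hh, -, hhU, hhW⟩ := hP.exists_map hB hP' u u' hu hui hu' hui'
    have hdn := norm_det hσq hh
    set d := LinearMap.det (h : (Fin (m + m) → F) →ₗ[F] (Fin (m + m) → F)) with hddef
    obtain ⟨z₀, hz₀, hz₀e⟩ := exists_conj_quot hσ (y := d⁻¹) (by rw [map_inv₀, ← mul_inv, hdn, inv_one])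
    obtain ⟨g₀, hg₀, hg₀U, hg₀W, hg₀d⟩ := hP.exists_det hB (by omega) hz₀
    have hmap : ∀ (X : Submodule F (Fin (m + m) → F)) (a b : (Fin (m + m) → F) ≃ₗ[F] (Fin (m + m) → F)),
        X.map ((a * b : (Fin (m + m) → F) ≃ₗ[F] (Fin (m + m) → F)) : (Fin (m + m) → F) →ₗ[F] (Fin (m + m) → F)) =
          (X.map (b : (Fin (m + m) → F) →ₗ[F] (Fin (m + m) → F))).map (a : (Fin (m + m) → F) →ₗ[F] (Fin (m + m) → F)) := fun X a b =>
      Submodule.map_comp _ _ X
    refine ⟨toGL (h * g₀), (hG _).2 ⟨mul_mem hh hg₀, ?_⟩, ?_⟩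
    · show LinearMap.det ((h : (Fin (m + m) → F) →ₗ[F] (Fin (m + m) → F)).comp (g₀ : (Fin (m + m) → F) →ₗ[F] (Fin (m + m) → F))) = 1
      rw [LinearMap.det_comp, hg₀d, hz₀e, ← hddef, mul_inv_cancel₀ fun e => by rw [e, zero_mul] at hdn; exact zero_ne_one hdn]
    · rw [← map_inv, ← map_mul, ← map_mul, hH]
      left
      have hinv : ∀ (X Y : Submodule F (Fin (m + m) → F)) (a : (Fin (m + m) → F) ≃ₗ[F] (Fin (m + m) → F)),
          X.map (a : (Fin (m + m) → F) →ₗ[F] (Fin (m + m) → F)) = Y → Y.map ((a⁻¹ : (Fin (m + m) → F) ≃ₗ[F] (Fin (m + m) → F)) : (Fin (m + m) → F) →ₗ[F] (Fin (m + m) → F)) = X :=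
        fun X Y a h => by
          rw [← h, ← hmap, inv_mul_cancel]
          exact Submodule.map_id X
      constructor
      · rw [hmap, hmap, show U.map ((h * g₀ : (Fin (m + m) → F) ≃ₗ[F] (Fin (m + m) → F)) : (Fin (m + m) → F) →ₗ[F] (Fin (m + m) → F)) = U' by
          rw [hmap, hg₀U, hhU], hU', hinv U U' _ (by rw [hmap, hg₀U, hhU])]
      · rw [hmap, hmap, show W.map ((h * g₀ : (Fin (m + m) → F) ≃ₗ[F] (Fin (m + m) → F)) : (Fin (m + m) → F) →ₗ[F] (Fin (m + m) → F)) = W' by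
          rw [hmap, hg₀W, hhW], hW', hinv W W' _ (by rw [hmap, hg₀W, hhW])]

end Cfsg.Agent.S5984
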