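import Cfsg.Statements.S5985
import Cfsg.Agent.Classical.Elusive.CharTwoPoint

set_option autoImplicit false
open scoped MatrixGroups
open Cfsg

namespace Cfsg.Agent.S5985

open Cfsg.Agent.Classical Cfsg.Agent.Classical.Elusive

/-- Elements of prime order of Ω⁺_n(q), q even, with no fixed nonsingular 1-space. Here `T = PΩ⁺_n(F)`, `n = 2d ≥ 8`, realised through `Ω⁺_n(q)`, the commutator subgroup of the isometry group of `Q = Σ xᵢyᵢ` over the field `F` with `q` elements; an element of `T` of prime order `r` is an element `x` of `Ω⁺_n(q)` with `x^r` scalar and `x` not scalar; `q` is even (so the centre is trivial). Let Ω be the set of 1-dimensional subspaces spanned by a vector `v` with `Q(v) ≠ 0`, and let `r` be a prime dividing their number. Then every element of `T` of order `r` fixes some nonsingular 1-space if and only if `r = 2` and `n ≡ 2 (mod 4)` (that is, `d` is odd). -/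
theorem result {F : Type*} [Field F] [Fintype F] {p : ℕ} [Fact p.Prime] [CharP F p] {q : ℕ} (hq : Fintype.card F = q)
    (hp : p = 2) (d : ℕ) (hd : 4 ≤ d) (r : ℕ) [Fact r.Prime]
    (hrΩ : r ∣ Nat.card {W : Submodule F (Fin d ⊕ Fin d → F) // Module.finrank F ↥W = 1 ∧ ∃ v ∈ W, Cfsg.quadFormPlus d F v ≠ 0}) :
    (∀ x : GL (Fin d ⊕ Fin d) F, x ∈ Cfsg.Geo.omegaGL (Cfsg.quadFormPlus d F) →
      (∃ z : F, ((x ^ r : GL (Fin d ⊕ Fin d) F) : Matrix (Fin d ⊕ Fin d) (Fin d ⊕ Fin d) F) = z • (1 : Matrix (Fin d ⊕ Fin d) (Fin d ⊕ Fin d) F)) →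
      (∀ z : F, (x : Matrix (Fin d ⊕ Fin d) (Fin d ⊕ Fin d) F) ≠ z • (1 : Matrix (Fin d ⊕ Fin d) (Fin d ⊕ Fin d) F)) →
      ∃ W : Submodule F (Fin d ⊕ Fin d → F), (Module.finrank F ↥W = 1 ∧ ∃ v ∈ W, Cfsg.quadFormPlus d F v ≠ 0) ∧ W.map (Matrix.toLin' (x : Matrix (Fin d ⊕ Fin d) (Fin d ⊕ Fin d) F)) ≤ W) ↔ (r = 2 ∧ Odd d) := by
  classical
  subst hp
  subst hq
  set q := Fintype.card F with hqdef
  let Q : QuadraticForm F (Fin d ⊕ Fin d → F) := (Quad.hyp (Quad.zeroForm F) d).comp (Quad.plusCoord d).toLinearMap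
  have hQe : ⇑Q = Cfsg.quadFormPlus d F := funext (Quad.plusCoord_map d)
  have hiso : Quad.Iso (Quad.hyp (Quad.zeroForm F) d) Q := ⟨(Quad.plusCoord d).symm, fun x => by simp [Q]⟩
  have hQ : (QuadraticMap.polarBilin Q).Nondegenerate := hiso.nondeg (Quad.nondeg_hyp Quad.nondeg_zeroForm d)
  have hcard : Fintype.card (Fin d ⊕ Fin d) = 2 * d := by simp; omega
  have hfr : Module.finrank F (Fin d ⊕ Fin d → F) = 2 * d := by rw [Module.finrank_fintype_fun_eq_card, hcard]
  have hr := (Fact.out : r.Prime)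
  have hdiv : r ≠ 2 → r ∣ q ^ d - 1 := by
    intro hr2
    have h1 := CharTwoPoint.card_points Q
    rw [hQe] at h1
    set N := Nat.card {W : Submodule F (Fin d ⊕ Fin d → F) //
      Module.finrank F ↥W = 1 ∧ ∃ v ∈ W, Cfsg.quadFormPlus d F v ≠ 0} with hN
    obtain ⟨k, rfl⟩ : ∃ k, d = k + 1 := ⟨d - 1, by omega⟩
    have hz := Quad.zcard_plus (F := F) hqdef.symm k
    rw [hiso.zcard_eq] at hz
    rw [hcard, ← hqdef] at h1
    have hqB : 1 ≤ q ^ (k + 1) := Nat.one_le_pow _ _ Fintype.card_pos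
    obtain ⟨C, hC⟩ : ∃ C, q ^ (k + 1) = C + 1 := ⟨_, (Nat.sub_add_cancel hqB).symm⟩
    obtain ⟨u, hu⟩ : ∃ u, q = u + 2 := ⟨q - 2, by have := Fintype.one_lt_card (α := F); omega⟩
    have e1 : q ^ (2 * k + 1) = q ^ (k + 1) * q ^ k := by rw [← pow_add]; congr 1; omega
    have e2 : q ^ (2 * (k + 1)) = q ^ (k + 1) * q ^ (k + 1) := by rw [← pow_add]; congr 1; omega
    have e3 : q ^ (k + 1) = q ^ k * q := pow_succ q k
    have hNeq : N = q ^ k * C := by
      rw [e1, hC] at hz
      rw [e2, hC] at h1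
      rw [hC] at e3
      refine Nat.eq_of_mul_eq_mul_left (show 0 < q - 1 by omega) ?_
      rw [show q - 1 = u + 1 by omega] at h1 ⊢
      generalize q ^ k = B at *
      rw [hu] at e3
      nlinarith [hz, h1, e3]

    rw [hNeq] at hrΩ
    rcases hr.dvd_mul.1 hrΩ with h | h
    · exfalso
      obtain ⟨e, -, he⟩ := FiniteField.card F 2
      have := hr.dvd_of_dvd_pow h
      rw [hqdef, he] at this
      exact hr2 ((Nat.prime_dvd_prime_iff_eq hr Nat.prime_two).1 (hr.dvd_of_dvd_pow this))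
    · rwa [show q ^ (k + 1) - 1 = C by omega]
  constructor
  · intro hall
    by_contra hne
    suffices hφ : ∃ φ : Quad.oG Q, φ ^ r = 1 ∧ φ ≠ 1 ∧ Quad.dsign φ = 1 ∧ ∀ v, φ.1 v = v → Q v = 0 by
      obtain ⟨φ, h1, h2, h3, h4⟩ := hφ
      obtain ⟨g, hg, hgz, hgs, hgW⟩ :=
        CharTwoPoint.exists_matrix_elt hQ (by rw [hcard]; omega) φ h3 h2 h4 h1
      rw [hQe] at hg hgW
      exact hgW (hall g hg hgz hgs)
    by_cases hr2 : r = 2
    · have hde : Even d := Nat.not_odd_iff_even.1 fun h => hne ⟨hr2, h⟩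
      obtain ⟨m, rfl⟩ := hde
      obtain ⟨φ, h1, h2, h3⟩ := CharTwoPoint.exists_plus_inv (F := F) (m := m)
      obtain ⟨e, he⟩ := hiso
      refine ⟨Quad.oCongr e he φ, by rw [hr2, ← map_pow, h1, map_one], ?_, ?_, fun v hv => ?_⟩
      · intro h
        rw [map_eq_one_iff _ (Quad.oCongr e he).injective] at h
        subst h
        have e' : Quad.fixSub (1 : Quad.oG (Quad.hyp (Quad.zeroForm F) (m + m))) = ⊤ :=
          eq_top_iff.2 fun x _ => rfl
        rw [e', finrank_top, e.finrank_eq, hfr] at h2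
        omega
      · have e' : Quad.fixSub (Quad.oCongr e he φ) = (Quad.fixSub φ).map e.toLinearMap := by
          ext v
          obtain ⟨x, rfl⟩ := e.surjective v
          rw [Quad.mem_fixSub, Submodule.mem_map]
          constructor
          · intro h
            refine ⟨x, Quad.mem_fixSub.2 (e.injective ?_), rfl⟩
            have h' : e (φ.1 (e.symm (e x))) = e x := h
            rwa [LinearEquiv.symm_apply_apply] at h'
          · rintro ⟨y, hy, hxy⟩
            obtain rfl := e.injective hxy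
            show e (φ.1 (e.symm (e y))) = e y
            rw [LinearEquiv.symm_apply_apply, Quad.mem_fixSub.1 hy]
        rw [Quad.dsign, e', LinearEquiv.finrank_map_eq, h2, hfr]
        exact Even.neg_one_pow ⟨m + m + m, by ring⟩
      · obtain ⟨x, rfl⟩ := e.surjective v
        rw [he]
        refine h3 x (e.injective ?_)
        have h' : e (φ.1 (e.symm (e x))) = e x := hv
        rwa [LinearEquiv.symm_apply_apply] at h'
    · obtain ⟨φ, h1, h2⟩ := CharTwoPoint.exists_plus_fpf (by omega) (hdiv hr2) Q hiso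
      have hp1 : φ ^ r = 1 := by rw [← h1]; exact pow_orderOf_eq_one φ
      refine ⟨φ, hp1, ?_, CharTwoPoint.dsign_eq_one_of_odd hQ (by rw [hfr]; omega)
        (hr.eq_two_or_odd'.resolve_left hr2) hp1, fun v hv => ?_⟩
      · intro h
        rw [h, orderOf_one] at h1
        exact hr.one_lt.ne h1
      · rw [h2 hr.two_le v hv, QuadraticMap.map_zero]
  · rintro ⟨rfl, hodd⟩ x hx ⟨z, hz⟩ -
    rw [← hQe] at hx ⊢
    refine CharTwoPoint.exists_point hQ (by rw [hcard]; omega) hx hz fun φ h2 hd1 => ?_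
    have h1 := CharTwoPoint.le_two_mul_fix h2
    rw [hfr] at h1
    refine CharTwoPoint.exists_nonsing_fix (k := d) (fun U hU => (Quad.plus_index (F := F) d).2 U fun u hu => by
      rw [← hQe]; exact hU u hu) ?_
    rcases eq_or_lt_of_le (show d ≤ Module.finrank F (Quad.fixSub φ) by omega) with h | h
    · exfalso
      rw [Quad.dsign, hfr, ← h, Odd.neg_one_pow] at hd1
      · exact absurd hd1 (by decide)
      · obtain ⟨k, hk⟩ := hodd
        exact ⟨3 * k + 1, by omega⟩
    · exact h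

end Cfsg.Agent.S5985
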