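import Cfsg.Statements.S5986
import Cfsg.Agent.Classical.Elusive.CharTwoPoint

set_option autoImplicit false
open scoped MatrixGroups
open Cfsg

namespace Cfsg.Agent.S5986

open Cfsg.Agent.Classical Cfsg.Agent.Classical.Elusive

/-- Elements of prime order of Ω⁻_n(q), q even, with no fixed nonsingular 1-space. Here `T = PΩ⁻_n(F)`, `n = 2d ≥ 8`, realised through `Ω⁻_n(q)`, the commutator subgroup of the isometry group of `Q = Σ_{i<d−1} xᵢyᵢ + z₁² + a z₁z₂ + b z₂²` with `z₁² + a z₁z₂ + b z₂²` anisotropic, over the field `F` with `q` elements; an element of `T` of prime order `r` is an element `x` of `Ω⁻_n(q)` with `x^r` scalar and `x` not scalar; `q` is even (so the centre is trivial). Let Ω be the set of 1-dimensional subspaces spanned by a vector `v` with `Q(v) ≠ 0`, and let `r` be a prime dividing their number. Then every element of `T` of order `r` fixes some nonsingular 1-space if and only if `r = 2`. -/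
theorem result {F : Type*} [Field F] [Fintype F] {p : ℕ} [Fact p.Prime] [CharP F p] {q : ℕ} (hq : Fintype.card F = q)
    (hp : p = 2) (d : ℕ) (hd : 4 ≤ d) (a b : F) (hab : ∀ x y : F, x ^ 2 + a * x * y + b * y ^ 2 = 0 → x = 0 ∧ y = 0) (r : ℕ) [Fact r.Prime]
    (hrΩ : r ∣ Nat.card {W : Submodule F ((Fin (d - 1) ⊕ Fin (d - 1)) ⊕ Fin 2 → F) // Module.finrank F ↥W = 1 ∧ ∃ v ∈ W, Cfsg.quadFormMinus (d - 1) F a b v ≠ 0}) :
    (∀ x : GL ((Fin (d - 1) ⊕ Fin (d - 1)) ⊕ Fin 2) F, x ∈ Cfsg.Geo.omegaGL (Cfsg.quadFormMinus (d - 1) F a b) →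
      (∃ z : F, ((x ^ r : GL ((Fin (d - 1) ⊕ Fin (d - 1)) ⊕ Fin 2) F) : Matrix ((Fin (d - 1) ⊕ Fin (d - 1)) ⊕ Fin 2) ((Fin (d - 1) ⊕ Fin (d - 1)) ⊕ Fin 2) F) = z • (1 : Matrix ((Fin (d - 1) ⊕ Fin (d - 1)) ⊕ Fin 2) ((Fin (d - 1) ⊕ Fin (d - 1)) ⊕ Fin 2) F)) →
      (∀ z : F, (x : Matrix ((Fin (d - 1) ⊕ Fin (d - 1)) ⊕ Fin 2) ((Fin (d - 1) ⊕ Fin (d - 1)) ⊕ Fin 2) F) ≠ z • (1 : Matrix ((Fin (d - 1) ⊕ Fin (d - 1)) ⊕ Fin 2) ((Fin (d - 1) ⊕ Fin (d - 1)) ⊕ Fin 2) F)) →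
      ∃ W : Submodule F ((Fin (d - 1) ⊕ Fin (d - 1)) ⊕ Fin 2 → F), (Module.finrank F ↥W = 1 ∧ ∃ v ∈ W, Cfsg.quadFormMinus (d - 1) F a b v ≠ 0) ∧ W.map (Matrix.toLin' (x : Matrix ((Fin (d - 1) ⊕ Fin (d - 1)) ⊕ Fin 2) ((Fin (d - 1) ⊕ Fin (d - 1)) ⊕ Fin 2) F)) ≤ W) ↔ r = 2 := by
  classical
  subst hp
  subst hq
  set q := Fintype.card F with hqdef
  obtain ⟨k, rfl⟩ : ∃ k, d = k + 1 := ⟨d - 1, by omega⟩
  let Q : QuadraticForm F ((Fin k ⊕ Fin k) ⊕ Fin 2 → F) :=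
    (Quad.hyp (Quad.binForm a b) k).comp (Quad.minusCoord k).toLinearMap
  have hQe : ⇑Q = Cfsg.quadFormMinus k F a b := funext (Quad.minusCoord_map a b k)
  have hiso : Quad.Iso (Quad.hyp (Quad.binForm a b) k) Q := ⟨(Quad.minusCoord k).symm, fun x => by simp [Q]⟩
  have hQ : (QuadraticMap.polarBilin Q).Nondegenerate := hiso.nondeg (Quad.nondeg_hyp (Quad.nondeg_binForm hab) k)
  have hcard : Fintype.card ((Fin k ⊕ Fin k) ⊕ Fin 2) = 2 * (k + 1) := by simp; omega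
  have hfr : Module.finrank F ((Fin k ⊕ Fin k) ⊕ Fin 2 → F) = 2 * (k + 1) := by
    rw [Module.finrank_fintype_fun_eq_card, hcard]
  have hr := (Fact.out : r.Prime)
  have hdiv : r ≠ 2 → r ∣ q ^ (k + 1) + 1 := by
    intro hr2
    have h1 := CharTwoPoint.card_points Q
    rw [hQe] at h1
    set N := Nat.card {W : Submodule F ((Fin k ⊕ Fin k) ⊕ Fin 2 → F) //
      Module.finrank F ↥W = 1 ∧ ∃ v ∈ W, Cfsg.quadFormMinus k F a b v ≠ 0} with hN
    have hz := Quad.zcard_minus hab hqdef.symm k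
    rw [hiso.zcard_eq] at hz
    rw [hcard, ← hqdef] at h1
    obtain ⟨u, hu⟩ : ∃ u, q = u + 2 := ⟨q - 2, by have := Fintype.one_lt_card (α := F); omega⟩
    have e1 : q ^ (2 * k + 1) = q ^ k * q * q ^ k := by rw [← pow_succ, ← pow_add]; congr 1; omega
    have e2 : q ^ (2 * (k + 1)) = (q ^ k * q) * (q ^ k * q) := by rw [← pow_succ, ← pow_add]; congr 1; omega
    have hNeq : N = q ^ k * (q ^ k * q + 1) := by
      rw [e1, pow_succ] at hz
      rw [e2] at h1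
      refine Nat.eq_of_mul_eq_mul_left (show 0 < q - 1 by omega) ?_
      rw [show q - 1 = u + 1 by omega] at h1 ⊢
      generalize q ^ k = B at *
      rw [hu] at hz h1 ⊢
      nlinarith [hz, h1]
    have hrN : r ∣ q ^ k * (q ^ k * q + 1) := by
      rw [← hNeq, hN]
      simpa using hrΩ
    rcases hr.dvd_mul.1 hrN with h | h
    · exfalso
      obtain ⟨e, -, he⟩ := FiniteField.card F 2
      have := hr.dvd_of_dvd_pow h
      rw [hqdef, he] at this
      exact hr2 ((Nat.prime_dvd_prime_iff_eq hr Nat.prime_two).1 (hr.dvd_of_dvd_pow this))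
    · rwa [pow_succ]
  constructor
  · intro hall
    by_contra hr2
    obtain ⟨φ, h1, h2⟩ := CharTwoPoint.exists_minus_fpf (k := r) (d := k + 1) (by omega) (hdiv hr2) hab Q hiso
    have hp1 : φ ^ r = 1 := by rw [← h1]; exact pow_orderOf_eq_one φ
    obtain ⟨g, hg, hgz, hgs, hgW⟩ := CharTwoPoint.exists_matrix_elt hQ (by rw [hcard]; omega) φ
      (CharTwoPoint.dsign_eq_one_of_odd hQ (by rw [hfr]; omega) (hr.eq_two_or_odd'.resolve_left hr2) hp1)
      (fun h => by rw [h, orderOf_one] at h1; exact hr.one_lt.ne h1)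
      (fun v hv => by rw [h2 hr.two_le v hv, QuadraticMap.map_zero]) hp1
    rw [hQe] at hg hgW
    exact hgW (hall g hg hgz hgs)
  · rintro rfl x hx ⟨z, hz⟩ -
    have hx' : x ∈ Cfsg.Geo.omegaGL ⇑Q := by rw [hQe]; exact hx
    have := CharTwoPoint.exists_point hQ (by rw [hcard]; omega) hx' hz fun φ h2 _ => by
      have h1 := CharTwoPoint.le_two_mul_fix h2
      rw [hfr] at h1
      exact CharTwoPoint.exists_nonsing_fix (k := k) (fun U hU => (Quad.minus_index hab k).2 U fun u hu => by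
        rw [← hQe]; exact hU u hu) (by omega)
    rw [hQe] at this
    exact this

end Cfsg.Agent.S5986
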