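import Cfsg.Statements.S5987
import Cfsg.Agent.Classical.OrthElem.TSGlue

set_option autoImplicit false
open scoped MatrixGroups
open Cfsg
open Cfsg.Agent

namespace Cfsg.Agent.S5987

/-- Elements of prime order of PΩ⁻_n(q) with no fixed totally singular `m`-space. Here `T = PΩ⁻_n(F)`, `n = 2d ≥ 8`, realised through `Ω⁻_n(q)`, the commutator subgroup of the isometry group of `Q = Σ_{i<d−1} xᵢyᵢ + z₁² + a z₁z₂ + b z₂²` with `z₁² + a z₁z₂ + b z₂²` anisotropic, over the field `F` with `q` elements; an element of `T` of prime order `r` is an element `x` of `Ω⁻_n(q)` with `x^r` scalar and `x` not scalar. Let `1 ≤ m ≤ d − 1` and let `r` be a prime dividing the number of totally singular `m`-spaces (subspaces of dimension `m` on which `Q` vanishes); for `r ≠ p` let `i` be the multiplicative order of `q` modulo `r`, `c = i` for `i` even and `c = 2i` for `i` odd, and write `k = n mod c`, `ℓ = m mod i`, `n' = ⌊n/i⌋`,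 `m' = ⌊m/i⌋`, `t = (r−1)/i`. Then every element of `T` of order `r` fixes some totally singular `m`-space if and only if one of: (i) `r = 2 ≠ p` and (`n ≡ 0 (mod 4)`, or `m` is even, or `q ≢ 7 (mod 8)`); (ii) `r ≠ p` odd, `i` odd, `i ≤ m` and (`k = 0` or `k > 2ℓ`); (iii) `r ≠ p` odd, `i` even, `i ≤ m`, `n' − 2m' ≥ t`, and one of: (a) `i ≥ 2ℓ`, `k = 0`, `n/i` even and `n' − 2m' > t` (all four); (b) `k ≥ 2ℓ` and `n'` odd; (c) `k > 2ℓ` and `n'` even. -/
theorem result {F : Type*} [Field F] [Fintype F] {p : ℕ} [Fact p.Prime] [CharP F p] {q : ℕ} (hq : Fintype.card F = q)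
    (d m : ℕ) (hd : 4 ≤ d) (hm : 1 ≤ m) (hmd : m + 1 ≤ d) (a b : F) (hab : ∀ x y : F, x ^ 2 + a * x * y + b * y ^ 2 = 0 → x = 0 ∧ y = 0)
    (r : ℕ) [Fact r.Prime]
    (hrΩ : r ∣ Nat.card {W : Submodule F ((Fin (d - 1) ⊕ Fin (d - 1)) ⊕ Fin 2 → F) // Module.finrank F ↥W = m ∧ Cfsg.Geo.IsTotallySingularQuad (Cfsg.quadFormMinus (d - 1) F a b) W})
    (i c : ℕ) (hi : i = orderOf (q : ZMod r)) (hc : c = if Even i then i else 2 * i) :
    (∀ x : GL ((Fin (d - 1) ⊕ Fin (d - 1)) ⊕ Fin 2) F, x ∈ Cfsg.Geo.omegaGL (Cfsg.quadFormMinus (d - 1) F a b) →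
      (∃ z : F, ((x ^ r : GL ((Fin (d - 1) ⊕ Fin (d - 1)) ⊕ Fin 2) F) : Matrix ((Fin (d - 1) ⊕ Fin (d - 1)) ⊕ Fin 2) ((Fin (d - 1) ⊕ Fin (d - 1)) ⊕ Fin 2) F) = z • (1 : Matrix ((Fin (d - 1) ⊕ Fin (d - 1)) ⊕ Fin 2) ((Fin (d - 1) ⊕ Fin (d - 1)) ⊕ Fin 2) F)) →
      (∀ z : F, (x : Matrix ((Fin (d - 1) ⊕ Fin (d - 1)) ⊕ Fin 2) ((Fin (d - 1) ⊕ Fin (d - 1)) ⊕ Fin 2) F) ≠ z • (1 : Matrix ((Fin (d - 1) ⊕ Fin (d - 1)) ⊕ Fin 2) ((Fin (d - 1) ⊕ Fin (d - 1)) ⊕ Fin 2) F)) →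
      ∃ W : Submodule F ((Fin (d - 1) ⊕ Fin (d - 1)) ⊕ Fin 2 → F), (Module.finrank F ↥W = m ∧ Cfsg.Geo.IsTotallySingularQuad (Cfsg.quadFormMinus (d - 1) F a b) W) ∧ W.map (Matrix.toLin' (x : Matrix ((Fin (d - 1) ⊕ Fin (d - 1)) ⊕ Fin 2) ((Fin (d - 1) ⊕ Fin (d - 1)) ⊕ Fin 2) F)) ≤ W) ↔
    ((r = 2 ∧ p ≠ 2 ∧ (Even d ∨ Even m ∨ q % 8 ≠ 7)) ∨
     (r ≠ p ∧ 2 < r ∧ Odd i ∧ i ≤ m ∧ ((2 * d) % c = 0 ∨ 2 * (m % i) < (2 * d) % c)) ∨
     (r ≠ p ∧ 2 < r ∧ Even i ∧ i ≤ m ∧ (r - 1) / i + 2 * (m / i) ≤ (2 * d) / i ∧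
       ((2 * (m % i) ≤ i ∧ (2 * d) % c = 0 ∧ Even ((2 * d) / i) ∧ (r - 1) / i + 2 * (m / i) < (2 * d) / i) ∨
        (2 * (m % i) ≤ (2 * d) % c ∧ Odd ((2 * d) / i)) ∨
        (2 * (m % i) < (2 * d) % c ∧ Even ((2 * d) / i))))) := by
  classical
  subst hq
  have hr := (Fact.out : r.Prime)
  obtain ⟨n₀, hp', hqn⟩ := FiniteField.card F p
  obtain ⟨e, rfl⟩ : ∃ e, d = e + 1 := ⟨d - 1, by omega⟩
  obtain ⟨hrq, hex⟩ := Classical.OrthElem.exists_of_dvd_ts_minus (r := r) (d := e + 1) (m := m) (by omega) hab hrΩ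
  rw [← hi] at hex
  have hrF : (r : F) ≠ 0 := Classical.Elusive.cast_ne_zero_of_not_dvd hrq
  have hrp : r ≠ p := fun h => hrF (by rw [h]; exact CharP.cast_eq_zero F p)
  obtain ⟨hQ, hfin', hnp⟩ := Classical.OrthElem.minusQ_facts hab (e + 1 - 1)
  have hfin : Module.finrank F ((Fin (e + 1 - 1) ⊕ Fin (e + 1 - 1)) ⊕ Fin 2 → F) = 2 * (e + 1) := by
    rw [hfin']; omega
  simp only [← Classical.OrthElem.coe_minusQ, Cfsg.Geo.IsTotallySingularQuad]
  by_cases hr2 : r = 2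
  · subst hr2
    have hp2 : p ≠ 2 := fun h => hrp h.symm
    have h2 : (2 : F) ≠ 0 := by exact_mod_cast hrF
    have hq2 : Fintype.card F % 2 = 1 := by
      rw [hqn, ← Nat.odd_iff]; exact (hp'.odd_of_ne_two hp2).pow
    have hsq1 := Classical.OrthElem.isSquare_neg_one_iff' (F := F) hq2
    constructor
    · intro H
      refine Or.inl ⟨rfl, hp2, ?_⟩
      by_contra hne
      simp only [not_or, ne_eq, not_not] at hne
      obtain ⟨hde, hmo, hq8⟩ := hne
      have hns : ¬ IsSquare (-1 : F) := fun h => by have := hsq1.1 h; omega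
      have hs2 : IsSquare (2 : F) := FiniteField.isSquare_two_iff.2 ⟨by omega, by omega⟩
      obtain ⟨x, hx, hxx⟩ := Classical.OrthElem.exists_J_elt hQ h2 hns hfin (iff_of_false hnp hde) (by
        rw [Classical.Quad.qs_eq_one.2 hs2, one_pow])
      obtain ⟨W, ⟨hWd, -⟩, hWx⟩ := H x hx (Classical.OrthElem.J_pow hxx)
        (Classical.OrthElem.J_not_scalar (by omega) hns hxx)
      have := (Classical.OrthElem.sq_neg_one_ts (Classical.OrthElem.good_of_mem hQ hx).1 h2 hns hxx).1 W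
        (Classical.SympElem.inv_iff.2 hWx)
      exact hmo (hWd ▸ this)
    · intro hR x hx hxz _
      obtain ⟨z, hz⟩ := hxz
      have hcond : Even (e + 1) ∨ Even m ∨ Fintype.card F % 8 ≠ 7 := by
        rcases hR with ⟨-, -, h⟩ | ⟨-, h, -⟩ | ⟨-, h, -⟩
        · exact h
        · omega
        · omega
      obtain ⟨hG, g, hg, hga⟩ := Classical.OrthElem.good_of_mem hQ hx
      obtain ⟨W, a1, a2, a3⟩ : Classical.OrthElem.HasTS (Classical.OrthElem.minusQ (e + 1 - 1) a b)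
          (Matrix.toLin' x.1) m := by
        rcases Classical.OrthElem.sq_cases hQ (by omega) hG hz with h1 | h1
        · obtain ⟨⟨j, hj⟩, -⟩ := Classical.OrthElem.involution_mv hG h2 h1 hg hga
          refine Classical.OrthElem.involution_cap hG h2 h1 hfin (j := j) (by omega) (by omega)
            (Or.inr (Or.inl ⟨?_, by omega⟩))
          obtain ⟨-, hev⟩ := Classical.OrthElem.fx_type hG hrF h1 ⟨e + 1, by omega⟩ ⟨j, hj⟩
          by_contra hn
          simp only [not_or] at hn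
          exact hnp (hev.2 (iff_of_false hn.2 hn.1))
        · have hns : ¬ IsSquare (-1 : F) := fun hh => by
            obtain ⟨w, hw⟩ := hh
            exact hnp (Classical.OrthElem.sq_neg_one_split hG h2 h1 hw.symm hfin).1
          have hde : ¬ Even (e + 1) := fun hh =>
            hnp ((Classical.OrthElem.sq_neg_one_type h2 hns _ _ _ _ hG h1 hfin).2 hh)
          have hs := Classical.OrthElem.J_spin hQ h2 hx hfin h1
          rw [Int.units_pow_eq_pow_mod_two, Nat.odd_iff.1 (Nat.not_even_iff_odd.1 hde), pow_one] at hs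
          have h8 := FiniteField.isSquare_two_iff.1 (Classical.Quad.qs_eq_one.1 hs)
          have h4 : Fintype.card F % 4 ≠ 1 := fun hh => hns (hsq1.2 hh)
          obtain ⟨k, rfl⟩ : Even m := (hcond.resolve_left hde).resolve_right (not_not.2 (by omega))
          obtain ⟨W, a1, a2, a3⟩ := (Classical.OrthElem.sq_neg_one_ts hG h2 hns h1).2 k (by omega)
          exact ⟨W, a1, a2, by omega⟩
      exact ⟨W, ⟨a3, a2⟩, Classical.SympElem.inv_iff.1 a1⟩
  have hr3 : 2 < r := by have := hr.two_le; omega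
  have hrodd : Odd r := hr.odd_of_ne_two hr2
  set P := Classical.OrthElem.Plus (Classical.OrthElem.minusQ (e + 1 - 1) a b) ⊤
  have hex' : (i ∣ 2 * (e + 1) ∧ (i ∣ (e + 1) ↔ P)) ∨ (∃ e', e + 1 - m < e' ∧ e' < e + 1 ∧ i ∣ 2 * e') ∨
      (i ∣ 2 * (e + 1 - m) ∧ (i ∣ e + 1 - m ↔ ¬ P)) :=
    (hex hr2).imp (fun h => ⟨h.1, iff_of_false h.2 hnp⟩)
      (Or.imp id fun h => ⟨h.mul_left 2, iff_of_true h hnp⟩)
  constructor
  · intro H
    have test : ∀ A, Classical.OrthElem.QGood (Classical.OrthElem.minusQ (e + 1 - 1) a b) A → A ^ r = 1 →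
        Module.finrank F (Classical.SympElem.fx A) <
          Module.finrank F ((Fin (e + 1 - 1) ⊕ Fin (e + 1 - 1)) ⊕ Fin 2 → F) →
        Classical.OrthElem.HasTS (Classical.OrthElem.minusQ (e + 1 - 1) a b) A m := by
      intro A hG har hfx
      obtain ⟨x, hx, hxr, hxa⟩ := Classical.OrthElem.exists_omega_of_good (by omega) hG hrodd har
      subst hxa
      obtain ⟨W, ⟨h1, h3⟩, h4⟩ := H x hx (Classical.OrthElem.pow_scalar_of_one hxr)
        (Classical.OrthElem.not_scalar (by omega) hrodd hG hxr hfx)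
      exact ⟨W, Classical.SympElem.inv_iff.2 h4, h3, h1⟩
    by_cases hev : Even i
    · obtain ⟨him, ht, hcase⟩ := Classical.OrthElem.nec_even hrF hQ hfin hm (by omega) hi hev hex' test
      rw [if_pos hev] at hc; subst hc
      refine Or.inr (Or.inr ⟨hrp, hr3, hev, him, ht, ?_⟩)
      rcases hcase with ⟨h1, h2, h3, h4⟩ | ⟨h1, h2⟩ | ⟨h1, h2⟩
      · exact Or.inl ⟨h1, h2, by_contra fun hn => h3 (iff_of_false hnp hn), h4⟩
      · exact Or.inr (Or.inl ⟨h1, Nat.not_even_iff_odd.1 fun hh => hnp (h2.2 hh)⟩)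
      · exact Or.inr (Or.inr ⟨h1, by_contra fun hn => h2 (iff_of_false hnp hn)⟩)
    · have hodd := Nat.not_even_iff_odd.1 hev
      obtain ⟨him, hcase⟩ := Classical.OrthElem.nec_odd hrF hr2 hQ hfin hm (by omega) hi hodd hex' test
      rw [if_neg hev] at hc; subst hc
      exact Or.inr (Or.inl ⟨hrp, hr3, hodd, him, (hcase.resolve_left fun h => hnp h.1).2⟩)
  · intro hR x hx hxz _
    obtain ⟨z, hz⟩ := hxz
    obtain ⟨A, hG, har, htr⟩ := Classical.OrthElem.exists_normalise hQ (by omega) hrodd hx hz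
    obtain ⟨W, h1, h3, h4⟩ : Classical.OrthElem.HasTS (Classical.OrthElem.minusQ (e + 1 - 1) a b) A m := by
      rcases hR with ⟨h, -⟩ | ⟨-, -, hodd, -, hk⟩ | ⟨-, -, hev, -, ht, hk⟩
      · exact absurd h hr2
      · rw [if_neg (Nat.not_even_iff_odd.2 hodd)] at hc; subst hc
        exact Classical.OrthElem.suff_odd hG hrF hr2 har hfin (by omega) (fun _ => by omega) (hi ▸ hodd) hi
          (Or.inr ⟨hnp, hk⟩)
      · rw [if_pos hev] at hc; subst hc
        refine Classical.OrthElem.suff_even hG hrF hr2 har hfin (hi ▸ hev) hi ht ?_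
        rcases hk with ⟨h1, h3, h4, h5⟩ | ⟨h1, h3⟩ | ⟨h1, -⟩
        · exact Or.inl ⟨h1, h3, fun h => hnp (h.2 h4), h5⟩
        · exact Or.inr (Or.inl ⟨h1, iff_of_false hnp (Nat.not_even_iff_odd.2 h3)⟩)
        · exact Or.inr (Or.inr h1)
    exact ⟨W, ⟨h4, h3⟩, htr W h1⟩

end Cfsg.Agent.S5987
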