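import Cfsg.Statements.S5988
import Cfsg.Agent.Classical.OrthElem.NdForms

set_option autoImplicit false
open scoped MatrixGroups
open Cfsg
open Cfsg.Agent Cfsg.Agent.Classical Cfsg.Agent.Classical.OrthElem

namespace Cfsg.Agent.S5988

/-- Elements of prime order of PΩ⁺_n(q) with no fixed elliptic `m`-space. Here `T = PΩ⁺_n(F)`, `n = 2d ≥ 8`, realised through `Ω⁺_n(q)`, the commutator subgroup of the isometry group of `Q = Σ xᵢyᵢ` over the field `F` with `q` elements; an element of `T` of prime order `r` is an element `x` of `Ω⁺_n(q)` with `x^r` scalar and `x` not scalar; a nondegenerate `m`-space (even `m`) is a subspace on which the polar form of `Q` is nondegenerate; it is hyperbolic if it contains an `m/2`-dimensional subspace on which `Q` vanishes, elliptic otherwise. Let `m` be even with `2 ≤ m < n/2` and let `r` be a prime dividing the number of elliptic `m`-spaces; for `r ≠ p` let `i` be the multiplicative order of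 `q` modulo `r`, `c = i` for `i` even and `c = 2i` for `i` odd, and write `k = n mod c`, `ℓ = m mod i`, `ℓ' = m mod c`, `n' = ⌊n/i⌋`, `m' = ⌊m/i⌋`, `t = (r−1)/i`. Then every element of `T` of order `r` fixes some elliptic `m`-space if and only if one of: (i) `r = 2 ≠ p` and either `n ≡ 0 (mod 4)`, `q ≡ 3 (mod 4)` and `m ≡ 2 (mod 4)`, or `n ≡ 2 (mod 4)` and `q ≢ 1 (mod 8)`; (ii) `r ≠ p` odd, `i` odd, `c ≤ m` and `k > ℓ' > 0`; (iii) `r ≠ p` odd, `i` even, and either `k = 0` and (`n/i` odd, or `ℓ' = 0` and `m/i` odd), or `i ≤ m` and (`k > ℓ' > 0`, or `k = ℓ' > 0` and `(n + m − 2k)/i` odd, or `k > ℓ' = 0` and `m/i` odd). (For `r = p` there is always an element of order `p` fixing no elliptic `m`-space.) -/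
theorem result {F : Type*} [Field F] [Fintype F] {p : ℕ} [Fact p.Prime] [CharP F p] {q : ℕ} (hq : Fintype.card F = q)
    (d m : ℕ) (hd : 4 ≤ d) (hm : 2 ≤ m) (hme : Even m) (hmd : m < d)
    (r : ℕ) [Fact r.Prime]
    (hrΩ : r ∣ Nat.card {W : Submodule F (Fin d ⊕ Fin d → F) // Module.finrank F ↥W = m ∧ Cfsg.Geo.IsNondegenerateOn (QuadraticMap.polar (Cfsg.quadFormPlus d F)) W ∧ ¬ Cfsg.Geo.IsPlusTypeOn (Cfsg.quadFormPlus d F) W})
    (i c : ℕ) (hi : i = orderOf (q : ZMod r)) (hc : c = if Even i then i else 2 * i) :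
    (∀ x : GL (Fin d ⊕ Fin d) F, x ∈ Cfsg.Geo.omegaGL (Cfsg.quadFormPlus d F) →
      (∃ z : F, ((x ^ r : GL (Fin d ⊕ Fin d) F) : Matrix (Fin d ⊕ Fin d) (Fin d ⊕ Fin d) F) = z • (1 : Matrix (Fin d ⊕ Fin d) (Fin d ⊕ Fin d) F)) →
      (∀ z : F, (x : Matrix (Fin d ⊕ Fin d) (Fin d ⊕ Fin d) F) ≠ z • (1 : Matrix (Fin d ⊕ Fin d) (Fin d ⊕ Fin d) F)) →
      ∃ W : Submodule F (Fin d ⊕ Fin d → F), (Module.finrank F ↥W = m ∧ Cfsg.Geo.IsNondegenerateOn (QuadraticMap.polar (Cfsg.quadFormPlus d F)) W ∧ ¬ Cfsg.Geo.IsPlusTypeOn (Cfsg.quadFormPlus d F) W) ∧ W.map (Matrix.toLin' (x : Matrix (Fin d ⊕ Fin d) (Fin d ⊕ Fin d) F)) ≤ W) ↔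
    ((r = 2 ∧ p ≠ 2 ∧ ((Even d ∧ q % 4 = 3 ∧ m % 4 = 2) ∨ (Odd d ∧ q % 8 ≠ 1))) ∨
     (r ≠ p ∧ 2 < r ∧ Odd i ∧ c ≤ m ∧ 0 < m % c ∧ m % c < (2 * d) % c) ∨
     (r ≠ p ∧ 2 < r ∧ Even i ∧
       (((2 * d) % c = 0 ∧ (Odd ((2 * d) / i) ∨ (m % c = 0 ∧ Odd (m / i)))) ∨
        (i ≤ m ∧ ((0 < m % c ∧ m % c < (2 * d) % c) ∨
                  (0 < m % c ∧ m % c = (2 * d) % c ∧ Odd ((2 * d + m - 2 * ((2 * d) % c)) / i)) ∨
                  (m % c = 0 ∧ 0 < (2 * d) % c ∧ Odd (m / i))))))) := by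
  classical
  subst hq
  have hpr := (Fact.out : r.Prime)
  obtain ⟨μ, rfl⟩ : ∃ μ, m = 2 * μ := even_iff_two_dvd.1 hme
  obtain ⟨hQ, hfin, hplus⟩ := plusQ_facts (F := F) d
  simp only [← coe_plusQ] at hrΩ ⊢
  set Q := plusQ F d with hQdef
  have hG : ∀ W : Submodule F (Fin d ⊕ Fin d → F),
      (Module.finrank F W = 2 * μ ∧ Cfsg.Geo.IsNondegenerateOn (QuadraticMap.polar ⇑Q) W ∧
        ¬ Cfsg.Geo.IsPlusTypeOn (⇑Q) W) ↔ (Module.finrank F W = 2 * μ ∧ NdOn Q W ∧ (Plus Q W ↔ False)) :=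
    fun W => by rw [isND_iff, isPlus_iff, iff_false]
  simp only [hG] at hrΩ ⊢
  have horthp : ∀ W : Submodule F (Fin d ⊕ Fin d → F), NdOn Q W → Module.finrank F W = 2 * μ → ¬ Plus Q W →
      ¬ Plus Q (orth Q W) := fun W hWn hWd hW hW' => by
    have h3 := plus_sup_iff hQ hWn (ndon_orth hQ hWn) (orth_le le_rfl) ⟨μ, by omega⟩
      ⟨d - μ, by rw [finrank_orth hQ, hWd, hfin]; omega⟩
    rw [(isCompl_orth hQ hWn).sup_eq_top] at h3
    exact hW ((h3.1 hplus).2 hW')
  by_cases hrp : r = p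
  · subst hrp
    refine iff_of_false (fun H => ?_) (by rintro (⟨h, h', -⟩ | ⟨h, -⟩ | ⟨h, -⟩); exacts [h' h, h rfl, h rfl])
    obtain ⟨X, -, hX, hXd⟩ := exists_ts_of_plus (k := 2 * (d / 2)) hplus (by rw [finrank_top, hfin]; omega)
    obtain ⟨a, hGa, har, hmv, hfx⟩ := exists_unip_ts (p := r) hQ hX (t := d / 2) (by omega)
    have hfxd : Module.finrank F (SympElem.fx a) = 2 * d - 2 * (d / 2) := by
      rw [hfx, finrank_orth hQ, hXd, hfin]
    obtain ⟨x, hx, -, hxz, hxn, hxa⟩ := exists_omega_unip (by omega) hGa har ⟨2 * d - d / 2, by omega⟩ (by omega)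
    obtain ⟨W, ⟨hWd, hWn, hWp⟩, hWx⟩ := H x hx hxz hxn
    rw [hxa] at hWx
    obtain ⟨r₁, r₂, e1, e2, hle, h1, h3⟩ := image_bound hGa (hmv ▸ hX) (SympElem.inv_iff.2 hWx) hWn
    have hd2 := finrank_orth hQ W
    have h1' := h1.resolve_right fun h => hWp.1 h.2
    have h3' := h3.resolve_right fun h => horthp W hWn hWd hWp.1 h.2
    rw [hmv, hXd] at hle
    omega
  by_cases hr2 : r = 2
  · subst hr2
    have hp2 : p ≠ 2 := fun h => hrp h.symm
    obtain ⟨h2, hq2⟩ := two_facts (F := F) hp2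
    have hsq1 := isSquare_neg_one_iff' (F := F) hq2
    constructor
    · intro H
      refine Or.inl ⟨rfl, hp2, ?_⟩
      by_contra hne
      simp only [not_or, not_and, ne_eq, not_not] at hne
      obtain ⟨hne1, hne2⟩ := hne
      obtain ⟨x, hx, hxz, hxn, hGx, hxx⟩ := exists_J_any hQ h2 hfin (by omega)
        (show (IsSquare (-1 : F) ∧ Plus Q ⊤) ∨ (¬ IsSquare (-1 : F) ∧ (Plus Q ⊤ ↔ Even d)) by
          rcases Nat.even_or_odd d with hd' | hd'
          · by_cases h : IsSquare (-1 : F)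
            · exact Or.inl ⟨h, hplus⟩
            · exact Or.inr ⟨h, iff_of_true hplus hd'⟩
          · exact Or.inl ⟨hsq1.2 (by have := hne2 hd'; omega), hplus⟩) (by
          rcases Nat.even_or_odd d with ⟨e, rfl⟩ | hd'
          · rw [pow_add, Int.units_mul_self]
          · rw [Quad.qs_eq_one.2 (FiniteField.isSquare_two_iff.2 ⟨by have := hne2 hd'; omega,
              by have := hne2 hd'; omega⟩), one_pow])
      obtain ⟨W, ⟨hWd, hWn, hWp⟩, hWx⟩ := H x hx hxz hxn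
      obtain ⟨k, hk, hkp⟩ := sq_shape hGx h2 hxx (SympElem.inv_iff.2 hWx) hWn
      have hnk : ¬ IsSquare (-1 : F) ∧ ¬ Even k := not_or.1 fun h => hWp.1 (hkp.2 h)
      rw [Nat.even_iff] at hnk
      rcases Nat.even_or_odd d with hd' | hd'
      · have h4 : Fintype.card F % 4 ≠ 1 := fun h => hnk.1 (hsq1.2 h)
        exact hne1 hd' (by omega) (by omega)
      · exact hnk.1 (hsq1.2 (by have := hne2 hd'; omega))
    · intro hR x hx hxz _
      have hcond : (Even d ∧ Fintype.card F % 4 = 3 ∧ (2 * μ) % 4 = 2) ∨ (Odd d ∧ Fintype.card F % 8 ≠ 1) := by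
        rcases hR with ⟨-, -, h⟩ | ⟨-, h, -⟩ | ⟨-, h, -⟩
        · exact h
        · omega
        · omega
      refine proj_two hQ h2 (by omega) (fun a hGa har hM => ?_) (fun a hGa hsq d' hd' hs => ?_) hfin x hx hxz
      · obtain ⟨W, a1, a2, a3, a4⟩ := involution_type hGa h2 har hM (m := 2 * μ) (by omega) (by omega) ⟨μ, by omega⟩
          (by omega) False
        exact ⟨W, a1, a3, a2, a4⟩
      · obtain ⟨W, a1, a2, a3⟩ := sq_planes hGa h2 hsq μ (by omega)
        obtain ⟨k, hk, hkp⟩ := sq_shape hGa h2 hsq a1 a2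
        obtain ⟨k', hk', hkp'⟩ := sq_shape hGa h2 hsq SympElem.inv_top (ndon_top hQ)
        rw [finrank_top, hfin] at hk'
        obtain rfl : d = k' := by omega
        obtain rfl : d' = d := by omega
        refine ⟨W, a1, a3, a2, iff_false_intro fun hW => ?_⟩
        rcases hcond with ⟨-, h4, h5⟩ | ⟨hd'', h8⟩
        · have := (hkp.1 hW).resolve_left fun h => by have := hsq1.1 h; omega
          rw [Nat.even_iff] at this
          omega
        · rw [Int.units_pow_eq_pow_mod_two, Nat.odd_iff.1 hd'', pow_one] at hs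
          have h9 := FiniteField.isSquare_two_iff.1 (Quad.qs_eq_one.1 hs)
          have h10 := hsq1.1 ((hkp'.1 hplus).resolve_right (Nat.not_even_iff_odd.2 hd''))
          omega
  obtain ⟨hrF, hrq⟩ := cast_ne_zero_of_ne (F := F) hrp
  have hr3 : 2 < r := by have := hpr.two_le; omega
  have hrodd : Odd r := hpr.odd_of_ne_two hr2
  have hex := hex_even hQ hr2 hrq hfin (by omega) (by omega) hrΩ
  have hle := le_of_hex (by omega : μ < d) hex
  have hcb := bl_eq hi hc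
  constructor
  · intro H
    have hC := nec_nd hrF hr2 hQ (m := 2 * μ) (τ := False) hfin ⟨μ, by omega⟩ hle (fun a hGa har hfx => by
      obtain ⟨W, a1, a3, a2, a4⟩ := good_of_proj (by omega) hrodd H a hGa har hfx
      exact ⟨W, a1, a2, a3, a4⟩)
    have hk := fun hk => bl_le_m hrF (by omega : 0 < μ) (by omega : μ < d) hex hC hk
    rcases Nat.even_or_odd i with hev | hodd
    · rw [if_pos hev] at hc; subst hc
      obtain ⟨-, hbp⟩ := bl_even (F := F) (hi ▸ hev)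
      simp only [NdCond, hbp, ← hcb, hplus, true_iff, false_iff] at hC
      refine Or.inr (Or.inr ⟨hrp, hr3, hev, ?_⟩)
      rw [← hcb] at hk
      rcases hC with ⟨h0, h⟩ | ⟨h0, h | h⟩
      · refine Or.inr ⟨hk h0, ?_⟩
        rcases h with h | h | ⟨h, h'⟩
        · exact Or.inl h
        · exact Or.inr (Or.inr ⟨h.1, h0, Nat.not_even_iff_odd.1 h.2⟩)
        · refine Or.inr (Or.inl ⟨by omega, h, ?_⟩)
          rw [quot_add h (hcb ▸ (bl_pos hrF).1), ← Nat.not_even_iff_odd, Nat.even_add]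
          exact h'
      · exact Or.inl ⟨h0, Or.inl (Nat.not_even_iff_odd.1 h)⟩
      · exact Or.inl ⟨h0, Or.inr ⟨h.1, Nat.not_even_iff_odd.1 h.2⟩⟩
    · rw [if_neg (Nat.not_even_iff_odd.2 hodd)] at hc; subst hc
      obtain ⟨-, hbp⟩ := bl_odd (F := F) (hi ▸ hodd)
      simp only [NdCond, hbp, ← hcb, hplus, false_iff, not_true, false_or, or_false, and_false] at hC
      rw [← hcb] at hk
      exact Or.inr (Or.inl ⟨hrp, hr3, hodd, hk (by omega), by omega, by omega⟩)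
  · intro hR x hx hxz _
    have hC : NdCond F r (Plus Q ⊤) False (2 * d) (2 * μ) := by
      rcases hR with ⟨h, -⟩ | ⟨-, -, hodd, -, hk⟩ | ⟨-, -, hev, hk⟩
      · exact absurd h hr2
      · rw [if_neg (Nat.not_even_iff_odd.2 hodd)] at hc; subst hc
        obtain ⟨-, hbp⟩ := bl_odd (F := F) (hi ▸ hodd)
        simp only [NdCond, hbp, ← hcb, hplus, false_iff, not_true, false_or, or_false, and_false]
        omega
      · rw [if_pos hev] at hc; subst hc
        obtain ⟨-, hbp⟩ := bl_even (F := F) (hi ▸ hev)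
        simp only [NdCond, hbp, ← hcb, hplus, true_iff, false_iff]
        rcases hk with ⟨h0, h | h⟩ | ⟨-, h | ⟨h0, h, h'⟩ | ⟨h, h0, h'⟩⟩
        · exact Or.inr ⟨h0, Or.inl (Nat.not_even_iff_odd.2 h)⟩
        · exact Or.inr ⟨h0, Or.inr ⟨h.1, Nat.not_even_iff_odd.2 h.2⟩⟩
        · exact Or.inl ⟨by omega, Or.inl h⟩
        · refine Or.inl ⟨by omega, Or.inr (Or.inr ⟨h, ?_⟩)⟩
          rw [quot_add h (hcb ▸ (bl_pos hrF).1), ← Nat.not_even_iff_odd, Nat.even_add] at h'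
          exact h'
        · exact Or.inl ⟨h0, Or.inr (Or.inl ⟨h, Nat.not_even_iff_odd.2 h'⟩)⟩
    refine proj_of_good hQ (by omega) hrodd (fun a hGa har => ?_) x hx hxz
    obtain ⟨W, a1, a2, a3, a4⟩ := suff_nd hGa hrF hr2 har hfin (by omega) ⟨μ, by omega⟩ (by omega) hC
    exact ⟨W, a1, a3, a2, a4⟩

end Cfsg.Agent.S5988
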