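import Cfsg.Statements.S5989
import Cfsg.Agent.Classical.OrthElem.NdForms

set_option autoImplicit false
open scoped MatrixGroups
open Cfsg
open Cfsg.Agent Cfsg.Agent.Classical Cfsg.Agent.Classical.OrthElem

namespace Cfsg.Agent.S5989

/-- Elements of prime order of PΩ⁺_n(q), q odd, with no fixed nondegenerate `m`-space of odd dimension. Here `T = PΩ⁺_n(F)`, `n = 2d ≥ 8`, realised through `Ω⁺_n(q)`, the commutator subgroup of the isometry group of `Q = Σ xᵢyᵢ` over the field `F` with `q` elements; an element of `T` of prime order `r` is an element `x` of `Ω⁺_n(q)` with `x^r` scalar and `x` not scalar; `q` and `m` are odd, `1 ≤ m < n/2`. The nondegenerate `m`-spaces (subspaces on which the polar form is nondegenerate) fall into two isometry classes, each an orbit of `T`, and the two actions are equivalent; fix one such space `W₀` and let Ω be the set of nondegenerate `m`-spaces isometric to `W₀` (some linear isomorphism preserves `Q`).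 Let `r` be a prime dividing the size of Ω; for `r ≠ p` let `i` be the multiplicative order of `q` modulo `r`, `c = i` for `i` even and `c = 2i` for `i` odd, and write `k = n mod c`, `ℓ = m mod i`, `ℓ' = m mod c`, `n' = ⌊n/i⌋`, `m' = ⌊m/i⌋`, `t = (r−1)/i`. Then every element of `T` of order `r` fixes a member of Ω if and only if one of: (i) `r = 2`, `n ≡ 2 (mod 4)` and `q ≢ 1 (mod 8)`; (ii) `r ≠ p` odd, `i` odd, `c ≤ m` and `k > ℓ' > 0`; (iii) `r ≠ p` odd, `i` even, and either `k = 0` and `n/i` odd, or `i ≤ m` and `k > ℓ' > 0`. (For `r = p` there is always an element of order `p` fixing no member of Ω.) -/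
theorem result {F : Type*} [Field F] [Fintype F] {p : ℕ} [Fact p.Prime] [CharP F p] {q : ℕ} (hq : Fintype.card F = q)
    (hodd : Odd q) (d m : ℕ) (hd : 4 ≤ d) (hm : Odd m) (hmd : m < d)
    (W₀ : Submodule F (Fin d ⊕ Fin d → F)) (hW₀ : Module.finrank F ↥W₀ = m ∧ Cfsg.Geo.IsNondegenerateOn (QuadraticMap.polar (Cfsg.quadFormPlus d F)) W₀)
    (r : ℕ) [Fact r.Prime]
    (hrΩ : r ∣ Nat.card {W : Submodule F (Fin d ⊕ Fin d → F) // Module.finrank F ↥W = m ∧ Cfsg.Geo.IsNondegenerateOn (QuadraticMap.polar (Cfsg.quadFormPlus d F)) W ∧ Cfsg.Geo.AreIsometricFor (Cfsg.quadFormPlus d F) W W₀})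
    (i c : ℕ) (hi : i = orderOf (q : ZMod r)) (hc : c = if Even i then i else 2 * i) :
    (∀ x : GL (Fin d ⊕ Fin d) F, x ∈ Cfsg.Geo.omegaGL (Cfsg.quadFormPlus d F) →
      (∃ z : F, ((x ^ r : GL (Fin d ⊕ Fin d) F) : Matrix (Fin d ⊕ Fin d) (Fin d ⊕ Fin d) F) = z • (1 : Matrix (Fin d ⊕ Fin d) (Fin d ⊕ Fin d) F)) →
      (∀ z : F, (x : Matrix (Fin d ⊕ Fin d) (Fin d ⊕ Fin d) F) ≠ z • (1 : Matrix (Fin d ⊕ Fin d) (Fin d ⊕ Fin d) F)) →
      ∃ W : Submodule F (Fin d ⊕ Fin d → F), (Module.finrank F ↥W = m ∧ Cfsg.Geo.IsNondegenerateOn (QuadraticMap.polar (Cfsg.quadFormPlus d F)) W ∧ Cfsg.Geo.AreIsometricFor (Cfsg.quadFormPlus d F) W W₀) ∧ W.map (Matrix.toLin' (x : Matrix (Fin d ⊕ Fin d) (Fin d ⊕ Fin d) F)) ≤ W) ↔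
    ((r = 2 ∧ Odd d ∧ q % 8 ≠ 1) ∨
     (r ≠ p ∧ 2 < r ∧ Odd i ∧ c ≤ m ∧ 0 < m % c ∧ m % c < (2 * d) % c) ∨
     (r ≠ p ∧ 2 < r ∧ Even i ∧ (((2 * d) % c = 0 ∧ Odd ((2 * d) / i)) ∨ (i ≤ m ∧ 0 < m % c ∧ m % c < (2 * d) % c)))) := by
  classical
  subst hq
  have hpr := (Fact.out : r.Prime)
  have hp2 : p ≠ 2 := fun h => by
    obtain ⟨n, -, hn⟩ := FiniteField.card F p
    rw [hn, h, Nat.odd_iff, Nat.pow_mod, Nat.mod_self, zero_pow n.pos.ne'] at hodd
    omega
  obtain ⟨h2, hq2⟩ := two_facts (F := F) hp2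
  obtain ⟨e, rfl⟩ := hm
  obtain ⟨hQ, hfin, hplus⟩ := plusQ_facts (F := F) d
  simp only [← coe_plusQ] at hrΩ hW₀ ⊢
  set Q := plusQ F d with hQdef
  obtain ⟨hW₀d, hW₀n⟩ := hW₀
  rw [isND_iff] at hW₀n
  have hG : ∀ W : Submodule F (Fin d ⊕ Fin d → F),
      (Module.finrank F W = 2 * e + 1 ∧ Cfsg.Geo.IsNondegenerateOn (QuadraticMap.polar ⇑Q) W ∧
        Cfsg.Geo.AreIsometricFor (⇑Q) W W₀) ↔ Isom Q W W₀ := fun W =>
    ⟨fun h => h.2.2, fun h => ⟨h.finrank_eq.trans hW₀d, isND_iff.2 (isom_ndon hQ h.symm hW₀n), h⟩⟩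
  simp only [hG] at hrΩ ⊢
  by_cases hrp : r = p
  · subst hrp
    refine iff_of_false (fun H => ?_) (by rintro (⟨h, -⟩ | ⟨h, -⟩ | ⟨h, -⟩); exacts [hp2 h, h rfl, h rfl])
    have hrodd : Odd r := hpr.odd_of_ne_two hp2
    by_cases hcase : Even d ∨ (2 * e + 1) % 4 = 3
    · obtain ⟨X, -, hX, hXd⟩ := exists_ts_of_plus (k := 2 * (d / 2)) hplus (by rw [finrank_top, hfin]; omega)
      obtain ⟨a, hGa, har, hmv, hfx⟩ := exists_unip_ts (p := r) hQ hX (t := d / 2) (by omega)
      have hfxd : Module.finrank F (SympElem.fx a) = 2 * d - 2 * (d / 2) := by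
        rw [hfx, finrank_orth hQ, hXd, hfin]
      obtain ⟨x, hx, -, hxz, hxn, hxa⟩ := exists_omega_unip (by omega) hGa har ⟨2 * d - d / 2, by omega⟩ (by omega)
      obtain ⟨W, hiso, hWx⟩ := H x hx hxz hxn
      rw [hxa] at hWx
      have hWn := isom_ndon hQ hiso.symm hW₀n
      have hWd := hiso.finrank_eq.trans hW₀d
      obtain ⟨r₁, r₂, e1, e2, hle, h1, h3⟩ := image_bound hGa (hmv ▸ hX) (SympElem.inv_iff.2 hWx) hWn
      have hd2 := finrank_orth hQ W
      have h1' : 2 * r₁ ≤ Module.finrank F W := h1.elim le_of_lt fun h => h.1.le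
      have h3' : 2 * r₂ ≤ Module.finrank F (orth Q W) := h3.elim le_of_lt fun h => h.1.le
      rw [Nat.even_iff] at e1 e2 hcase
      rw [hmv, hXd] at hle
      omega
    · simp only [not_or, Nat.not_even_iff_odd] at hcase
      obtain ⟨a, hGa, har, hts, hfxd⟩ := exists_fx_ts_even (p := r) hQ h2 hcase.1 (by omega) hfin
      obtain ⟨t, ht⟩ := hcase.1
      obtain ⟨x, hx, -, hxz, hxn, hxa⟩ := exists_omega_unip (by omega) hGa har ⟨d + t, by omega⟩ (by omega)
      obtain ⟨W, hiso, hWx⟩ := H x hx hxz hxn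
      rw [hxa] at hWx
      have hWn := isom_ndon hQ hiso.symm hW₀n
      have hWd := hiso.finrank_eq.trans hW₀d
      obtain ⟨r₁, r₂, e1, e2, hle, h1, h3⟩ := fixed_bound hGa h2 hrodd har hts (SympElem.inv_iff.2 hWx) hWn
      have hd2 := finrank_orth hQ W
      have h1' : 2 * r₁ ≤ Module.finrank F W := h1.elim le_of_lt fun h => h.1.le
      have h3' : 2 * r₂ ≤ Module.finrank F (orth Q W) := h3.elim le_of_lt fun h => h.1.le
      rw [Nat.even_iff] at e1 e2
      omega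
  by_cases hr2 : r = 2
  · subst hr2
    have hsq1 := isSquare_neg_one_iff' (F := F) hq2
    constructor
    · intro H
      refine Or.inl ⟨rfl, ?_⟩
      by_contra hne
      simp only [not_and, ne_eq, not_not] at hne
      obtain ⟨x, hx, hxz, hxn, hGx, hxx⟩ := exists_J_any hQ h2 hfin (by omega)
        (show (IsSquare (-1 : F) ∧ Plus Q ⊤) ∨ (¬ IsSquare (-1 : F) ∧ (Plus Q ⊤ ↔ Even d)) by
          rcases Nat.even_or_odd d with hd' | hd'
          · by_cases h : IsSquare (-1 : F)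
            · exact Or.inl ⟨h, hplus⟩
            · exact Or.inr ⟨h, iff_of_true hplus hd'⟩
          · exact Or.inl ⟨hsq1.2 (by have := hne hd'; omega), hplus⟩) (by
          rcases Nat.even_or_odd d with ⟨e, rfl⟩ | hd'
          · rw [pow_add, Int.units_mul_self]
          · rw [Quad.qs_eq_one.2 (FiniteField.isSquare_two_iff.2 ⟨by have := hne hd'; omega,
              by have := hne hd'; omega⟩), one_pow])
      obtain ⟨W, hiso, hWx⟩ := H x hx hxz hxn
      obtain ⟨k, hk, -⟩ := sq_shape hGx h2 hxx (SympElem.inv_iff.2 hWx) (isom_ndon hQ hiso.symm hW₀n)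
      have := hiso.finrank_eq.trans hW₀d
      omega
    · intro hR x hx hxz _
      obtain ⟨hd', h8⟩ : Odd d ∧ Fintype.card F % 8 ≠ 1 := by
        rcases hR with ⟨-, h⟩ | ⟨-, h, -⟩ | ⟨-, h, -⟩
        · exact h
        · omega
        · omega
      refine proj_two hQ h2 (by omega) (fun a hGa har hM => ?_) (fun a hGa hsq d' hd'' hs => ?_) hfin x hx hxz
      · obtain ⟨W, a1, a2, a3⟩ := involution_isom hGa h2 har hM ⟨d, by omega⟩ hW₀n ⟨e, hW₀d⟩
        exact ⟨W, a1, a3⟩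
      · exfalso
        obtain ⟨k', hk', hkp'⟩ := sq_shape hGa h2 hsq SympElem.inv_top (ndon_top hQ)
        rw [finrank_top, hfin] at hk'
        obtain rfl : d = k' := by omega
        obtain rfl : d' = d := by omega
        rw [Int.units_pow_eq_pow_mod_two, Nat.odd_iff.1 hd', pow_one] at hs
        have h9 := FiniteField.isSquare_two_iff.1 (Quad.qs_eq_one.1 hs)
        have h10 := hsq1.1 ((hkp'.1 hplus).resolve_right (Nat.not_even_iff_odd.2 hd'))
        omega
  obtain ⟨hrF, hrq⟩ := cast_ne_zero_of_ne (F := F) hrp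
  have hr3 : 2 < r := by have := hpr.two_le; omega
  have hrodd : Odd r := hpr.odd_of_ne_two hr2
  have hex := hex_odd hQ hr2 hrq hfin (μ := e + 1) (by omega) (by omega) hW₀n (by omega) hrΩ
  have hle := le_of_hexOdd (by omega : 0 < d) hex
  have hcb := bl_eq hi hc
  have hlo : 0 < (2 * e + 1) % c := Nat.pos_of_ne_zero fun h => by
    have := (mod_even hrF (n := 2 * e + 1)).2 (by rw [← hcb, h]; exact Even.zero)
    rw [Nat.even_iff] at this
    omega
  constructor
  · intro H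
    have hC := nec_isom hrF hr2 hQ (m := 2 * e + 1) hfin ⟨d, by omega⟩ ⟨e, rfl⟩ hle (fun a hGa har hfx => by
      obtain ⟨W, a1, a3⟩ := good_of_proj (by omega) hrodd H a hGa har hfx
      exact ⟨W, a1, isom_ndon hQ a3.symm hW₀n, a3.finrank_eq.trans hW₀d⟩)
    have hk := fun hk => bl_le_m_odd (by omega : 0 < e + 1) (by omega : e + 1 ≤ d) hex
      (show NdCondOdd F r (Plus Q ⊤) (2 * d) (2 * (e + 1) - 1) from hC) hk
    rcases Nat.even_or_odd i with hev | hodd'
    · rw [if_pos hev] at hc; subst hc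
      obtain ⟨-, hbp⟩ := bl_even (F := F) (hi ▸ hev)
      simp only [NdCondOdd, hbp, ← hcb, hplus, true_iff] at hC
      rw [← hcb] at hk
      refine Or.inr (Or.inr ⟨hrp, hr3, hev, ?_⟩)
      rcases hC with ⟨h0, h⟩ | ⟨h0, h⟩
      · exact Or.inr ⟨by have := hk h0; omega, hlo, h⟩
      · exact Or.inl ⟨h0, Nat.not_even_iff_odd.1 h⟩
    · rw [if_neg (Nat.not_even_iff_odd.2 hodd')] at hc; subst hc
      obtain ⟨-, hbp⟩ := bl_odd (F := F) (hi ▸ hodd')
      simp only [NdCondOdd, hbp, ← hcb, hplus, not_true, and_false, or_false] at hC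
      rw [← hcb] at hk
      exact Or.inr (Or.inl ⟨hrp, hr3, hodd', by have := hk hC.1; omega, hlo, hC.2⟩)
  · intro hR x hx hxz _
    have hC : NdCondOdd F r (Plus Q ⊤) (2 * d) (2 * e + 1) := by
      rcases hR with ⟨h, -⟩ | ⟨-, -, hodd', -, hk⟩ | ⟨-, -, hev, hk⟩
      · exact absurd h hr2
      · rw [if_neg (Nat.not_even_iff_odd.2 hodd')] at hc; subst hc
        obtain ⟨-, hbp⟩ := bl_odd (F := F) (hi ▸ hodd')
        simp only [NdCondOdd, hbp, ← hcb, hplus, not_true, and_false, or_false]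
        omega
      · rw [if_pos hev] at hc; subst hc
        obtain ⟨-, hbp⟩ := bl_even (F := F) (hi ▸ hev)
        simp only [NdCondOdd, hbp, ← hcb, hplus, true_iff]
        rcases hk with ⟨h0, h⟩ | ⟨-, h0, h⟩
        · exact Or.inr ⟨h0, Nat.not_even_iff_odd.2 h⟩
        · exact Or.inl ⟨by omega, h⟩
    refine proj_of_good hQ (by omega) hrodd (fun a hGa har => ?_) x hx hxz
    obtain ⟨W, a1, a2, a3⟩ := suff_isom hGa hrF hr2 h2 har hfin ⟨d, by omega⟩ hW₀n hW₀d ⟨e, rfl⟩ (by omega) hC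
    exact ⟨W, a1, a3⟩

end Cfsg.Agent.S5989
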