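import Cfsg.Statements.S5990
import Cfsg.Agent.Classical.OrthElem.NdForms

set_option autoImplicit false
open scoped MatrixGroups
open Cfsg
open Cfsg.Agent Cfsg.Agent.Classical Cfsg.Agent.Classical.OrthElem

namespace Cfsg.Agent.S5990

/-- Elements of prime order of PΩ⁻_n(q) with no fixed elliptic `m`-space. Here `T = PΩ⁻_n(F)`, `n = 2d ≥ 8`, realised through `Ω⁻_n(q)`, the commutator subgroup of the isometry group of `Q = Σ_{i<d−1} xᵢyᵢ + z₁² + a z₁z₂ + b z₂²` with `z₁² + a z₁z₂ + b z₂²` anisotropic, over the field `F` with `q` elements; an element of `T` of prime order `r` is an element `x` of `Ω⁻_n(q)` with `x^r` scalar and `x` not scalar; a nondegenerate `m`-space (even `m`) is a subspace on which the polar form of `Q` is nondegenerate; it is hyperbolic if it contains an `m/2`-dimensional subspace on which `Q` vanishes, elliptic otherwise. Let `m` be even with `2 ≤ m ≤ n − 2` (no restriction `m < n/2`: fixing an elliptic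 `m`-space is the same as fixing its hyperbolic orthogonal complement) and let `r` be a prime dividing the number of elliptic `m`-spaces, with `r = 2` or `r ≠ p`; for `r ≠ p` let `i` be the multiplicative order of `q` modulo `r`, `c = i` for `i` even and `c = 2i` for `i` odd, and write `k = n mod c`, `ℓ = m mod i`, `ℓ' = m mod c`, `n' = ⌊n/i⌋`, `m' = ⌊m/i⌋`, `t = (r−1)/i`. Then every element of `T` of order `r` fixes some elliptic `m`-space if and only if one of: (i) `r = p = 2` and (`n ≡ 0 (mod 4)` or `m ≡ 2 (mod 4)`); (ii) `r = 2 ≠ p` and (`n ≡ 0 (mod 4)`, or `q ≢ 7 (mod 8)`, or `m ≡ 2 (mod 4)`); (iii) `r ≠ p` odd, `i` odd, and `k = 0` or (`c ≤ m` and `k ≥ ℓ' > 0`); (iv) `r ≠ p` odd, `i` even, and either `k = 0` and (`n/i` even, or `ℓ' = 0` and `m/i` odd), or `k > 0`, `i ≤ m` and (`k > ℓ' > 0`, or `ℓ' = 0` and `m/i` odd, or `k = ℓ'` and `(n + m − 2k)/i` even). (Odd `r = p` is not covered by this statement.) -/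
theorem result {F : Type*} [Field F] [Fintype F] {p : ℕ} [Fact p.Prime] [CharP F p] {q : ℕ} (hq : Fintype.card F = q)
    (d m : ℕ) (hd : 4 ≤ d) (hm : 2 ≤ m) (hme : Even m) (hmn : m + 2 ≤ 2 * d) (a b : F) (hab : ∀ x y : F, x ^ 2 + a * x * y + b * y ^ 2 = 0 → x = 0 ∧ y = 0)
    (r : ℕ) [Fact r.Prime] (hr : r = 2 ∨ r ≠ p)
    (hrΩ : r ∣ Nat.card {W : Submodule F ((Fin (d - 1) ⊕ Fin (d - 1)) ⊕ Fin 2 → F) // Module.finrank F ↥W = m ∧ Cfsg.Geo.IsNondegenerateOn (QuadraticMap.polar (Cfsg.quadFormMinus (d - 1) F a b)) W ∧ ¬ Cfsg.Geo.IsPlusTypeOn (Cfsg.quadFormMinus (d - 1) F a b) W})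
    (i c : ℕ) (hi : i = orderOf (q : ZMod r)) (hc : c = if Even i then i else 2 * i) :
    (∀ x : GL ((Fin (d - 1) ⊕ Fin (d - 1)) ⊕ Fin 2) F, x ∈ Cfsg.Geo.omegaGL (Cfsg.quadFormMinus (d - 1) F a b) →
      (∃ z : F, ((x ^ r : GL ((Fin (d - 1) ⊕ Fin (d - 1)) ⊕ Fin 2) F) : Matrix ((Fin (d - 1) ⊕ Fin (d - 1)) ⊕ Fin 2) ((Fin (d - 1) ⊕ Fin (d - 1)) ⊕ Fin 2) F) = z • (1 : Matrix ((Fin (d - 1) ⊕ Fin (d - 1)) ⊕ Fin 2) ((Fin (d - 1) ⊕ Fin (d - 1)) ⊕ Fin 2) F)) →
      (∀ z : F, (x : Matrix ((Fin (d - 1) ⊕ Fin (d - 1)) ⊕ Fin 2) ((Fin (d - 1) ⊕ Fin (d - 1)) ⊕ Fin 2) F) ≠ z • (1 : Matrix ((Fin (d - 1) ⊕ Fin (d - 1)) ⊕ Fin 2) ((Fin (d - 1) ⊕ Fin (d - 1)) ⊕ Fin 2) F)) →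
      ∃ W : Submodule F ((Fin (d - 1) ⊕ Fin (d - 1)) ⊕ Fin 2 → F), (Module.finrank F ↥W = m ∧ Cfsg.Geo.IsNondegenerateOn (QuadraticMap.polar (Cfsg.quadFormMinus (d - 1) F a b)) W ∧ ¬ Cfsg.Geo.IsPlusTypeOn (Cfsg.quadFormMinus (d - 1) F a b) W) ∧ W.map (Matrix.toLin' (x : Matrix ((Fin (d - 1) ⊕ Fin (d - 1)) ⊕ Fin 2) ((Fin (d - 1) ⊕ Fin (d - 1)) ⊕ Fin 2) F)) ≤ W) ↔
    ((r = 2 ∧ p = 2 ∧ (Even d ∨ m % 4 = 2)) ∨
     (r = 2 ∧ p ≠ 2 ∧ (Even d ∨ q % 8 ≠ 7 ∨ m % 4 = 2)) ∨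
     (r ≠ p ∧ 2 < r ∧ Odd i ∧ ((2 * d) % c = 0 ∨ (c ≤ m ∧ 0 < m % c ∧ m % c ≤ (2 * d) % c))) ∨
     (r ≠ p ∧ 2 < r ∧ Even i ∧
       (((2 * d) % c = 0 ∧ (Even ((2 * d) / i) ∨ (m % c = 0 ∧ Odd (m / i)))) ∨
        (0 < (2 * d) % c ∧ i ≤ m ∧ ((0 < m % c ∧ m % c < (2 * d) % c) ∨ (m % c = 0 ∧ Odd (m / i)) ∨
                                    (m % c = (2 * d) % c ∧ Even ((2 * d + m - 2 * ((2 * d) % c)) / i))))))) := by
  classical
  subst hq
  have hpr := (Fact.out : r.Prime)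
  obtain ⟨μ, rfl⟩ : ∃ μ, m = 2 * μ := even_iff_two_dvd.1 hme
  obtain ⟨hQ, hfin', hnp⟩ := minusQ_facts hab (d - 1)
  have hfin : Module.finrank F ((Fin (d - 1) ⊕ Fin (d - 1)) ⊕ Fin 2 → F) = 2 * d := by rw [hfin']; omega
  simp only [← coe_minusQ] at hrΩ ⊢
  set Q := minusQ (d - 1) a b with hQdef
  have hG : ∀ W : Submodule F ((Fin (d - 1) ⊕ Fin (d - 1)) ⊕ Fin 2 → F),
      (Module.finrank F W = 2 * μ ∧ Cfsg.Geo.IsNondegenerateOn (QuadraticMap.polar ⇑Q) W ∧
        ¬ Cfsg.Geo.IsPlusTypeOn (⇑Q) W) ↔ (Module.finrank F W = 2 * μ ∧ NdOn Q W ∧ (Plus Q W ↔ False)) :=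
    fun W => by rw [isND_iff, isPlus_iff, iff_false]
  simp only [hG] at hrΩ ⊢
  by_cases hr2 : r = 2
  · subst hr2
    by_cases hp2 : p = 2
    · obtain ⟨hqe, h20⟩ := card_even (F := F) hp2
      subst hp2
      constructor
      · intro H
        refine Or.inl ⟨rfl, rfl, ?_⟩
        by_contra hne
        simp only [not_or, Nat.not_even_iff_odd] at hne
        obtain ⟨⟨t, ht⟩, hm4⟩ := hne
        obtain ⟨X, -, hX, hXd⟩ := exists_ts_le hQ (t + t) ⊤ (ndon_top hQ) (by rw [finrank_top, hfin]; omega)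
        obtain ⟨a', hGa, har, hmv, hfx⟩ := exists_unip_ts (p := 2) hQ hX (t := t) hXd
        have hfxd : Module.finrank F (SympElem.fx a') = 2 * d - (t + t) := by
          rw [hfx, finrank_orth hQ, hXd, hfin]
        obtain ⟨x, hx, -, hxz, hxn, hxa⟩ := exists_omega_unip (by omega) hGa har ⟨2 * d - t, by omega⟩ (by omega)
        obtain ⟨W, ⟨hWd, hWn, hWp⟩, hWx⟩ := H x hx hxz hxn
        rw [hxa] at hWx
        obtain ⟨r₁, r₂, e1, e2, hle, h1, h3⟩ := image_bound hGa (hmv ▸ hX) (SympElem.inv_iff.2 hWx) hWn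
        have hd2 := finrank_orth hQ W
        have h1' := h1.resolve_right fun h => hWp.1 h.2
        have h3' : 2 * r₂ ≤ Module.finrank F (orth Q W) := h3.elim le_of_lt fun h => h.1.le
        rw [Nat.even_iff] at e1 e2
        rw [hmv, hXd] at hle
        omega
      · intro hR x hx hxz _
        obtain ⟨z, hz⟩ := hxz
        have hcond : Even d ∨ (2 * μ) % 4 = 2 := by
          rcases hR with ⟨-, -, h⟩ | ⟨-, h, -⟩ | ⟨h, -⟩ | ⟨h, -⟩
          · exact h
          · exact absurd rfl h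
          · exact absurd rfl h
          · exact absurd rfl h
        obtain ⟨hGa, -⟩ := good_of_mem hQ hx
        have har : ∀ v, Matrix.toLin' x.1 (Matrix.toLin' x.1 v) = v := by
          rcases sq_cases hQ (by omega) hGa hz with h | h
          · intro v; rw [← Module.End.mul_apply, ← pow_two, h]; rfl
          · intro v; rw [h v, neg_eq_iff_add_eq_zero, ← two_smul F v, h20, zero_smul]
        obtain ⟨W, a1, a2, a3, a4⟩ : ∃ W, SympElem.Inv (Matrix.toLin' x.1) W ∧ NdOn Q W ∧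
            Module.finrank F W = 2 * μ ∧ ¬ Plus Q W := by
          rcases Nat.even_or_odd μ with ⟨k, hk⟩ | ⟨k, hk⟩
          · have hde : Even d := hcond.resolve_right (by omega)
            rw [Nat.even_iff] at hde
            obtain ⟨B, -, i, n, e, hpl⟩ := plus_four_mul hGa h20 har SympElem.inv_top (ndon_top hQ) ((d - μ) / 2)
              (by rw [finrank_top, hfin]; omega)
            refine ⟨orth Q B, inv_orth hGa i, ndon_orth hQ n, by rw [finrank_orth hQ, e, hfin]; omega,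
              fun hh => hnp ?_⟩
            have h3 := plus_sup (ndon_orth hQ n) (orth_le le_rfl) hpl hh
            rwa [(isCompl_orth hQ n).sup_eq_top] at h3
          · obtain ⟨P, -, iP, nP, dP, hP⟩ := elliptic_plane hGa h20 har SympElem.inv_top (ndon_top hQ)
              ⟨d, by rw [finrank_top, hfin]; omega⟩ (by rw [finrank_top, hfin]; omega) hnp
            obtain ⟨B, lB, iB, nB, dB, pB⟩ := plus_four_mul hGa h20 har (inv_orth hGa iP) (ndon_orth hQ nP) k
              (by rw [finrank_orth hQ, dP, hfin]; omega)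
            refine ⟨B ⊔ P, iB.sup iP, ndon_sup nB nP lB, by rw [finrank_sup_orth nP lB, dB, dP]; omega, fun hh => ?_⟩
            exact hP (((plus_sup_iff hQ nB nP lB ⟨2 * k, by omega⟩ ⟨1, dP⟩).1 hh).1 pB)
        exact ⟨W, ⟨a3, a2, iff_false_intro a4⟩, SympElem.inv_iff.1 a1⟩
    · obtain ⟨h2, hq2⟩ := two_facts (F := F) hp2
      have hsq1 := isSquare_neg_one_iff' (F := F) hq2
      constructor
      · intro H
        refine Or.inr (Or.inl ⟨rfl, hp2, ?_⟩)
        by_contra hne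
        simp only [not_or, ne_eq, not_not] at hne
        obtain ⟨hde, hq8, hm4⟩ := hne
        have hns : ¬ IsSquare (-1 : F) := fun h => by have := hsq1.1 h; omega
        obtain ⟨x, hx, hxz, hxn, hGx, hxx⟩ := exists_J_any hQ h2 hfin (by omega)
          (Or.inr ⟨hns, iff_of_false hnp hde⟩) (by
            rw [Quad.qs_eq_one.2 (FiniteField.isSquare_two_iff.2 ⟨by omega, by omega⟩), one_pow])
        obtain ⟨W, ⟨hWd, hWn, hWp⟩, hWx⟩ := H x hx hxz hxn
        obtain ⟨k, hk, hkp⟩ := sq_shape hGx h2 hxx (SympElem.inv_iff.2 hWx) hWn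
        exact hWp.1 (hkp.2 (Or.inr (by rw [Nat.even_iff]; omega)))
      · intro hR x hx hxz _
        have hcond : Even d ∨ Fintype.card F % 8 ≠ 7 ∨ (2 * μ) % 4 = 2 := by
          rcases hR with ⟨-, h, -⟩ | ⟨-, -, h⟩ | ⟨-, h, -⟩ | ⟨-, h, -⟩
          · exact absurd h hp2
          · exact h
          · omega
          · omega
        refine proj_two hQ h2 (by omega) (fun a' hGa har hM => ?_) (fun a' hGa hsq d' hd' hs => ?_) hfin x hx hxz
        · obtain ⟨W, a1, a2, a3, a4⟩ := involution_type hGa h2 har hM (m := 2 * μ) (by omega) (by omega) ⟨μ, by omega⟩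
            (by omega) False
          exact ⟨W, a1, a3, a2, a4⟩
        · obtain ⟨W, a1, a2, a3⟩ := sq_planes hGa h2 hsq μ (by omega)
          obtain ⟨k, hk, hkp⟩ := sq_shape hGa h2 hsq a1 a2
          obtain ⟨k', hk', hkp'⟩ := sq_shape hGa h2 hsq SympElem.inv_top (ndon_top hQ)
          rw [finrank_top, hfin] at hk'
          obtain rfl : d = k' := by omega
          obtain rfl : d' = d := by omega
          obtain ⟨hns, hde⟩ := not_or.1 fun h => hnp (hkp'.2 h)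
          refine ⟨W, a1, a3, a2, iff_false_intro fun hW => ?_⟩
          have hev := (hkp.1 hW).resolve_left hns
          rw [Int.units_pow_eq_pow_mod_two, Nat.odd_iff.1 (Nat.not_even_iff_odd.1 hde), pow_one] at hs
          have h9 := FiniteField.isSquare_two_iff.1 (Quad.qs_eq_one.1 hs)
          have h10 : Fintype.card F % 4 ≠ 1 := fun h => hns (hsq1.2 h)
          rw [Nat.even_iff] at hev
          rcases hcond with h | h | h
          · exact hde h
          · omega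
          · omega
  have hrp : r ≠ p := hr.resolve_left hr2
  obtain ⟨hrF, hrq⟩ := cast_ne_zero_of_ne (F := F) hrp
  have hr3 : 2 < r := by have := hpr.two_le; omega
  have hrodd : Odd r := hpr.odd_of_ne_two hr2
  have hex := hex_even hQ hr2 hrq hfin (by omega) (by omega) hrΩ
  have hle := le_of_hex (by omega : μ < d) hex
  have hcb := bl_eq hi hc
  constructor
  · intro H
    have hC := nec_nd hrF hr2 hQ (m := 2 * μ) (τ := False) hfin ⟨μ, by omega⟩ hle (fun a' hGa har hfx => by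
      obtain ⟨W, a1, a3, a2, a4⟩ := good_of_proj (by omega) hrodd H a' hGa har hfx
      exact ⟨W, a1, a2, a3, a4⟩)
    have hk := fun hk => bl_le_m hrF (by omega : 0 < μ) (by omega : μ < d) hex hC hk
    rcases Nat.even_or_odd i with hev | hodd
    · rw [if_pos hev] at hc; subst hc
      obtain ⟨-, hbp⟩ := bl_even (F := F) (hi ▸ hev)
      simp only [NdCond, hbp, ← hcb, iff_false_intro hnp, false_iff, not_not] at hC
      refine Or.inr (Or.inr (Or.inr ⟨hrp, hr3, hev, ?_⟩))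
      rw [← hcb] at hk
      rcases hC with ⟨h0, h⟩ | ⟨h0, h | h⟩
      · refine Or.inr ⟨h0, hk h0, ?_⟩
        rcases h with h | h | ⟨h, h'⟩
        · exact Or.inl h
        · exact Or.inr (Or.inl ⟨h.1, Nat.not_even_iff_odd.1 h.2⟩)
        · refine Or.inr (Or.inr ⟨h, ?_⟩)
          rw [quot_add h (hcb ▸ (bl_pos hrF).1), Nat.even_add]
          tauto
      · exact Or.inl ⟨h0, Or.inl h⟩
      · exact Or.inl ⟨h0, Or.inr ⟨h.1, Nat.not_even_iff_odd.1 h.2⟩⟩
    · rw [if_neg (Nat.not_even_iff_odd.2 hodd)] at hc; subst hc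
      obtain ⟨-, hbp⟩ := bl_odd (F := F) (hi ▸ hodd)
      simp [NdCond, hbp, ← hcb, iff_false_intro hnp] at hC
      rw [← hcb] at hk
      refine Or.inr (Or.inr (Or.inl ⟨hrp, hr3, hodd, ?_⟩))
      rcases Nat.eq_zero_or_pos ((2 * d) % (2 * i)) with h0 | h0
      · exact Or.inl h0
      · exact Or.inr ⟨hk h0, by omega, by omega⟩
  · intro hR x hx hxz _
    have hC : NdCond F r (Plus Q ⊤) False (2 * d) (2 * μ) := by
      rcases hR with ⟨h, -⟩ | ⟨h, -⟩ | ⟨-, -, hodd, hk⟩ | ⟨-, -, hev, hk⟩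
      · exact absurd h hr2
      · exact absurd h hr2
      · rw [if_neg (Nat.not_even_iff_odd.2 hodd)] at hc; subst hc
        obtain ⟨-, hbp⟩ := bl_odd (F := F) (hi ▸ hodd)
        simp [NdCond, hbp, ← hcb, iff_false_intro hnp]
        omega
      · rw [if_pos hev] at hc; subst hc
        obtain ⟨-, hbp⟩ := bl_even (F := F) (hi ▸ hev)
        simp only [NdCond, hbp, ← hcb, iff_false_intro hnp, false_iff, not_not]
        rcases hk with ⟨h0, h | h⟩ | ⟨h0, -, h | h | ⟨h, h'⟩⟩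
        · exact Or.inr ⟨h0, Or.inl h⟩
        · exact Or.inr ⟨h0, Or.inr ⟨h.1, Nat.not_even_iff_odd.2 h.2⟩⟩
        · exact Or.inl ⟨h0, Or.inl h⟩
        · exact Or.inl ⟨h0, Or.inr (Or.inl ⟨h.1, Nat.not_even_iff_odd.2 h.2⟩)⟩
        · refine Or.inl ⟨h0, Or.inr (Or.inr ⟨h, ?_⟩)⟩
          rw [quot_add h (hcb ▸ (bl_pos hrF).1), Nat.even_add] at h'
          tauto
    refine proj_of_good hQ (by omega) hrodd (fun a' hGa har => ?_) x hx hxz
    obtain ⟨W, a1, a2, a3, a4⟩ := suff_nd hGa hrF hr2 har hfin (by omega) ⟨μ, by omega⟩ (by omega) hC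
    exact ⟨W, a1, a3, a2, a4⟩

end Cfsg.Agent.S5990
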