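import Cfsg.Statements.S5991
import Cfsg.Agent.Classical.OrthElem.NdForms

set_option autoImplicit false
open scoped MatrixGroups
open Cfsg
open Cfsg.Agent Cfsg.Agent.Classical Cfsg.Agent.Classical.OrthElem

namespace Cfsg.Agent.S5991

/-- Elements of prime order of PΩ⁻_n(q), q odd, with no fixed nondegenerate `m`-space of odd dimension. Here `T = PΩ⁻_n(F)`, `n = 2d ≥ 8`, realised through `Ω⁻_n(q)`, the commutator subgroup of the isometry group of `Q = Σ_{i<d−1} xᵢyᵢ + z₁² + a z₁z₂ + b z₂²` with `z₁² + a z₁z₂ + b z₂²` anisotropic, over the field `F` with `q` elements; an element of `T` of prime order `r` is an element `x` of `Ω⁻_n(q)` with `x^r` scalar and `x` not scalar; `q` and `m` are odd, `1 ≤ m < n/2`. The nondegenerate `m`-spaces fall into two isometry classes, each an orbit of `T`, with equivalent actions; fix one such space `W₀` and let Ω be the set of nondegenerate `m`-spaces isometric to `W₀`. Let `r`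 be a prime dividing the size of Ω; for `r ≠ p` let `i` be the multiplicative order of `q` modulo `r`, `c = i` for `i` even and `c = 2i` for `i` odd, and write `k = n mod c`, `ℓ = m mod i`, `ℓ' = m mod c`, `n' = ⌊n/i⌋`, `m' = ⌊m/i⌋`, `t = (r−1)/i`. Then every element of `T` of order `r` fixes a member of Ω if and only if one of: (i) `r = 2` and (`n ≡ 0 (mod 4)` or `q ≢ 7 (mod 8)`); (ii) `r ≠ p` odd, `i` odd, and `k = 0` or (`c ≤ m` and `k > ℓ' > 0`); (iii) `r ≠ p` odd, `i` even, and either `k = 0` and `n/i` even, or `k > 0`, `i ≤ m` and `k > ℓ' > 0`. (For `r = p` there is always an element of order `p` fixing no member of Ω.) -/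
theorem result {F : Type*} [Field F] [Fintype F] {p : ℕ} [Fact p.Prime] [CharP F p] {q : ℕ} (hq : Fintype.card F = q)
    (hodd : Odd q) (d m : ℕ) (hd : 4 ≤ d) (hm : Odd m) (hmd : m < d) (a b : F) (hab : ∀ x y : F, x ^ 2 + a * x * y + b * y ^ 2 = 0 → x = 0 ∧ y = 0)
    (W₀ : Submodule F ((Fin (d - 1) ⊕ Fin (d - 1)) ⊕ Fin 2 → F)) (hW₀ : Module.finrank F ↥W₀ = m ∧ Cfsg.Geo.IsNondegenerateOn (QuadraticMap.polar (Cfsg.quadFormMinus (d - 1) F a b)) W₀)
    (r : ℕ) [Fact r.Prime]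
    (hrΩ : r ∣ Nat.card {W : Submodule F ((Fin (d - 1) ⊕ Fin (d - 1)) ⊕ Fin 2 → F) // Module.finrank F ↥W = m ∧ Cfsg.Geo.IsNondegenerateOn (QuadraticMap.polar (Cfsg.quadFormMinus (d - 1) F a b)) W ∧ Cfsg.Geo.AreIsometricFor (Cfsg.quadFormMinus (d - 1) F a b) W W₀})
    (i c : ℕ) (hi : i = orderOf (q : ZMod r)) (hc : c = if Even i then i else 2 * i) :
    (∀ x : GL ((Fin (d - 1) ⊕ Fin (d - 1)) ⊕ Fin 2) F, x ∈ Cfsg.Geo.omegaGL (Cfsg.quadFormMinus (d - 1) F a b) →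
      (∃ z : F, ((x ^ r : GL ((Fin (d - 1) ⊕ Fin (d - 1)) ⊕ Fin 2) F) : Matrix ((Fin (d - 1) ⊕ Fin (d - 1)) ⊕ Fin 2) ((Fin (d - 1) ⊕ Fin (d - 1)) ⊕ Fin 2) F) = z • (1 : Matrix ((Fin (d - 1) ⊕ Fin (d - 1)) ⊕ Fin 2) ((Fin (d - 1) ⊕ Fin (d - 1)) ⊕ Fin 2) F)) →
      (∀ z : F, (x : Matrix ((Fin (d - 1) ⊕ Fin (d - 1)) ⊕ Fin 2) ((Fin (d - 1) ⊕ Fin (d - 1)) ⊕ Fin 2) F) ≠ z • (1 : Matrix ((Fin (d - 1) ⊕ Fin (d - 1)) ⊕ Fin 2) ((Fin (d - 1) ⊕ Fin (d - 1)) ⊕ Fin 2) F)) →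
      ∃ W : Submodule F ((Fin (d - 1) ⊕ Fin (d - 1)) ⊕ Fin 2 → F), (Module.finrank F ↥W = m ∧ Cfsg.Geo.IsNondegenerateOn (QuadraticMap.polar (Cfsg.quadFormMinus (d - 1) F a b)) W ∧ Cfsg.Geo.AreIsometricFor (Cfsg.quadFormMinus (d - 1) F a b) W W₀) ∧ W.map (Matrix.toLin' (x : Matrix ((Fin (d - 1) ⊕ Fin (d - 1)) ⊕ Fin 2) ((Fin (d - 1) ⊕ Fin (d - 1)) ⊕ Fin 2) F)) ≤ W) ↔
    ((r = 2 ∧ (Even d ∨ q % 8 ≠ 7)) ∨
     (r ≠ p ∧ 2 < r ∧ Odd i ∧ ((2 * d) % c = 0 ∨ (c ≤ m ∧ 0 < m % c ∧ m % c < (2 * d) % c))) ∨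
     (r ≠ p ∧ 2 < r ∧ Even i ∧ (((2 * d) % c = 0 ∧ Even ((2 * d) / i)) ∨ (0 < (2 * d) % c ∧ i ≤ m ∧ 0 < m % c ∧ m % c < (2 * d) % c)))) := by
  classical
  subst hq
  have hpr := (Fact.out : r.Prime)
  have hp2 : p ≠ 2 := fun h => by
    obtain ⟨n, -, hn⟩ := FiniteField.card F p
    rw [hn, h, Nat.odd_iff, Nat.pow_mod, Nat.mod_self, zero_pow n.pos.ne'] at hodd
    omega
  obtain ⟨h2, hq2⟩ := two_facts (F := F) hp2
  obtain ⟨e, rfl⟩ := hm
  obtain ⟨hQ, hfin', hnp⟩ := minusQ_facts hab (d - 1)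
  have hfin : Module.finrank F ((Fin (d - 1) ⊕ Fin (d - 1)) ⊕ Fin 2 → F) = 2 * d := by rw [hfin']; omega
  simp only [← coe_minusQ] at hrΩ hW₀ ⊢
  set Q := minusQ (d - 1) a b with hQdef
  obtain ⟨hW₀d, hW₀n⟩ := hW₀
  rw [isND_iff] at hW₀n
  have hG : ∀ W : Submodule F ((Fin (d - 1) ⊕ Fin (d - 1)) ⊕ Fin 2 → F),
      (Module.finrank F W = 2 * e + 1 ∧ Cfsg.Geo.IsNondegenerateOn (QuadraticMap.polar ⇑Q) W ∧
        Cfsg.Geo.AreIsometricFor (⇑Q) W W₀) ↔ Isom Q W W₀ := fun W =>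
    ⟨fun h => h.2.2, fun h => ⟨h.finrank_eq.trans hW₀d, isND_iff.2 (isom_ndon hQ h.symm hW₀n), h⟩⟩
  simp only [hG] at hrΩ ⊢
  by_cases hrp : r = p
  · subst hrp
    refine iff_of_false (fun H => ?_) (by rintro (⟨h, -⟩ | ⟨h, -⟩ | ⟨h, -⟩); exacts [hp2 h, h rfl, h rfl])
    have hrodd : Odd r := hpr.odd_of_ne_two hp2
    rcases Nat.even_or_odd d with hde | ⟨t, ht⟩
    · obtain ⟨a', hGa, har, hfx, hno⟩ :=
        exists_no_class (p := r) hQ h2 hrodd hde (by omega) hfin hW₀n ⟨e, hW₀d⟩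
      obtain ⟨x, hx, -, hxz, hxn, hxa⟩ := exists_omega_unip (by omega) hGa har
        (fx_parity hGa h2 hrodd har) hfx
      obtain ⟨W, hiso, hWx⟩ := H x hx hxz hxn
      rw [hxa] at hWx
      exact hno W (SympElem.inv_iff.2 hWx) (isom_ndon hQ hiso.symm hW₀n) hiso
    · by_cases hcase : (2 * e + 1) % 4 = 3
      · obtain ⟨X, -, hX, hXd⟩ := exists_ts_le hQ (t + t) ⊤ (ndon_top hQ) (by rw [finrank_top, hfin]; omega)
        obtain ⟨a', hGa, har, hmv, hfx⟩ := exists_unip_ts (p := r) hQ hX (t := t) hXd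
        have hfxd : Module.finrank F (SympElem.fx a') = 2 * d - (t + t) := by
          rw [hfx, finrank_orth hQ, hXd, hfin]
        obtain ⟨x, hx, -, hxz, hxn, hxa⟩ := exists_omega_unip (by omega) hGa har ⟨2 * d - t, by omega⟩ (by omega)
        obtain ⟨W, hiso, hWx⟩ := H x hx hxz hxn
        rw [hxa] at hWx
        have hWn := isom_ndon hQ hiso.symm hW₀n
        have hWd := hiso.finrank_eq.trans hW₀d
        obtain ⟨r₁, r₂, e1, e2, hle, h1, h3⟩ := image_bound hGa (hmv ▸ hX) (SympElem.inv_iff.2 hWx) hWn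
        have hd2 := finrank_orth hQ W
        have h1' : 2 * r₁ ≤ Module.finrank F W := h1.elim le_of_lt fun h => h.1.le
        have h3' : 2 * r₂ ≤ Module.finrank F (orth Q W) := h3.elim le_of_lt fun h => h.1.le
        rw [Nat.even_iff] at e1 e2
        rw [hmv, hXd] at hle
        omega
      · obtain ⟨a', hGa, har, hts, hfxd⟩ := exists_fx_ts_even (p := r) hQ h2 ⟨t, ht⟩ (by omega) hfin
        obtain ⟨x, hx, -, hxz, hxn, hxa⟩ := exists_omega_unip (by omega) hGa har ⟨d + t, by omega⟩ (by omega)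
        obtain ⟨W, hiso, hWx⟩ := H x hx hxz hxn
        rw [hxa] at hWx
        have hWn := isom_ndon hQ hiso.symm hW₀n
        have hWd := hiso.finrank_eq.trans hW₀d
        obtain ⟨r₁, r₂, e1, e2, hle, h1, h3⟩ := fixed_bound hGa h2 hrodd har hts (SympElem.inv_iff.2 hWx) hWn
        have hd2 := finrank_orth hQ W
        have h1' : 2 * r₁ ≤ Module.finrank F W := h1.elim le_of_lt fun h => h.1.le
        have h3' : 2 * r₂ ≤ Module.finrank F (orth Q W) := h3.elim le_of_lt fun h => h.1.le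
        rw [Nat.even_iff] at e1 e2
        omega
  by_cases hr2 : r = 2
  · subst hr2
    have hsq1 := isSquare_neg_one_iff' (F := F) hq2
    constructor
    · intro H
      refine Or.inl ⟨rfl, ?_⟩
      by_contra hne
      simp only [not_or, ne_eq, not_not] at hne
      obtain ⟨hde, hq8⟩ := hne
      have hns : ¬ IsSquare (-1 : F) := fun h => by have := hsq1.1 h; omega
      obtain ⟨x, hx, hxz, hxn, hGx, hxx⟩ := exists_J_any hQ h2 hfin (by omega)
        (Or.inr ⟨hns, iff_of_false hnp hde⟩) (by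
          rw [Quad.qs_eq_one.2 (FiniteField.isSquare_two_iff.2 ⟨by omega, by omega⟩), one_pow])
      obtain ⟨W, hiso, hWx⟩ := H x hx hxz hxn
      obtain ⟨k, hk, -⟩ := sq_shape hGx h2 hxx (SympElem.inv_iff.2 hWx) (isom_ndon hQ hiso.symm hW₀n)
      have := hiso.finrank_eq.trans hW₀d
      omega
    · intro hR x hx hxz _
      have hcond : Even d ∨ Fintype.card F % 8 ≠ 7 := by
        rcases hR with ⟨-, h⟩ | ⟨-, h, -⟩ | ⟨-, h, -⟩
        · exact h
        · omega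
        · omega
      refine proj_two hQ h2 (by omega) (fun a' hGa har hM => ?_) (fun a' hGa hsq d' hd'' hs => ?_) hfin x hx hxz
      · obtain ⟨W, a1, a2, a3⟩ := involution_isom hGa h2 har hM ⟨d, by omega⟩ hW₀n ⟨e, hW₀d⟩
        exact ⟨W, a1, a3⟩
      · exfalso
        obtain ⟨k', hk', hkp'⟩ := sq_shape hGa h2 hsq SympElem.inv_top (ndon_top hQ)
        rw [finrank_top, hfin] at hk'
        obtain rfl : d = k' := by omega
        obtain rfl : d' = d := by omega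
        obtain ⟨hns, hde⟩ := not_or.1 fun h => hnp (hkp'.2 h)
        rw [Int.units_pow_eq_pow_mod_two, Nat.odd_iff.1 (Nat.not_even_iff_odd.1 hde), pow_one] at hs
        have h9 := FiniteField.isSquare_two_iff.1 (Quad.qs_eq_one.1 hs)
        have h10 : Fintype.card F % 4 ≠ 1 := fun h => hns (hsq1.2 h)
        rcases hcond with h | h
        · exact hde h
        · omega
  obtain ⟨hrF, hrq⟩ := cast_ne_zero_of_ne (F := F) hrp
  have hr3 : 2 < r := by have := hpr.two_le; omega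
  have hrodd : Odd r := hpr.odd_of_ne_two hr2
  have hex := hex_odd hQ hr2 hrq hfin (μ := e + 1) (by omega) (by omega) hW₀n (by omega) hrΩ
  have hle := le_of_hexOdd (by omega : 0 < d) hex
  have hcb := bl_eq hi hc
  have hlo : 0 < (2 * e + 1) % c := Nat.pos_of_ne_zero fun h => by
    have := (mod_even hrF (n := 2 * e + 1)).2 (by rw [← hcb, h]; exact Even.zero)
    rw [Nat.even_iff] at this
    omega
  constructor
  · intro H
    have hC := nec_isom hrF hr2 hQ (m := 2 * e + 1) hfin ⟨d, by omega⟩ ⟨e, rfl⟩ hle (fun a' hGa har hfx => by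
      obtain ⟨W, a1, a3⟩ := good_of_proj (by omega) hrodd H a' hGa har hfx
      exact ⟨W, a1, isom_ndon hQ a3.symm hW₀n, a3.finrank_eq.trans hW₀d⟩)
    have hk := fun hk => bl_le_m_odd (by omega : 0 < e + 1) (by omega : e + 1 ≤ d) hex
      (show NdCondOdd F r (Plus Q ⊤) (2 * d) (2 * (e + 1) - 1) from hC) hk
    rcases Nat.even_or_odd i with hev | hodd'
    · rw [if_pos hev] at hc; subst hc
      obtain ⟨-, hbp⟩ := bl_even (F := F) (hi ▸ hev)
      simp only [NdCondOdd, hbp, ← hcb, iff_false_intro hnp, false_iff, not_not] at hC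
      rw [← hcb] at hk
      refine Or.inr (Or.inr ⟨hrp, hr3, hev, ?_⟩)
      rcases hC with ⟨h0, h⟩ | ⟨h0, h⟩
      · exact Or.inr ⟨h0, by have := hk h0; omega, hlo, h⟩
      · exact Or.inl ⟨h0, h⟩
    · rw [if_neg (Nat.not_even_iff_odd.2 hodd')] at hc; subst hc
      obtain ⟨-, hbp⟩ := bl_odd (F := F) (hi ▸ hodd')
      simp [NdCondOdd, hbp, ← hcb, iff_false_intro hnp] at hC
      rw [← hcb] at hk
      refine Or.inr (Or.inl ⟨hrp, hr3, hodd', ?_⟩)
      rcases Nat.eq_zero_or_pos ((2 * d) % (2 * i)) with h0 | h0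
      · exact Or.inl h0
      · exact Or.inr ⟨by have := hk h0; omega, hlo, by omega⟩
  · intro hR x hx hxz _
    have hC : NdCondOdd F r (Plus Q ⊤) (2 * d) (2 * e + 1) := by
      rcases hR with ⟨h, -⟩ | ⟨-, -, hodd', hk⟩ | ⟨-, -, hev, hk⟩
      · exact absurd h hr2
      · rw [if_neg (Nat.not_even_iff_odd.2 hodd')] at hc; subst hc
        obtain ⟨-, hbp⟩ := bl_odd (F := F) (hi ▸ hodd')
        simp [NdCondOdd, hbp, ← hcb, iff_false_intro hnp]
        omega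
      · rw [if_pos hev] at hc; subst hc
        obtain ⟨-, hbp⟩ := bl_even (F := F) (hi ▸ hev)
        simp only [NdCondOdd, hbp, ← hcb, iff_false_intro hnp, false_iff, not_not]
        rcases hk with ⟨h0, h⟩ | ⟨h1, -, h0, h⟩
        · exact Or.inr ⟨h0, h⟩
        · exact Or.inl ⟨h1, h⟩
    refine proj_of_good hQ (by omega) hrodd (fun a' hGa har => ?_) x hx hxz
    obtain ⟨W, a1, a2, a3⟩ := suff_isom hGa hrF hr2 h2 har hfin ⟨d, by omega⟩ hW₀n hW₀d ⟨e, rfl⟩ (by omega) hC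
    exact ⟨W, a1, a3⟩

end Cfsg.Agent.S5991
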