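import Cfsg.Statements.S5993
import Cfsg.Agent.Classical.OrthElem.NdForms

set_option autoImplicit false
open scoped MatrixGroups
open Cfsg
open Cfsg.Agent Cfsg.Agent.Classical Cfsg.Agent.Classical.OrthElem

namespace Cfsg.Agent.S5993

/-- Elements of prime order of Ω_n(q), nq odd, with no fixed elliptic `m`-space. Here `T = Ω_n(F)`, `n = 2d+1 ≥ 7`, `q` odd, realised as the commutator subgroup of the isometry group of `Q = x₀² + Σ xᵢyᵢ` over the field `F` with `q` elements (trivial centre, so its elements of prime order `r` are used directly); a nondegenerate `m`-space (even `m`) is a subspace on which the polar form of `Q` is nondegenerate; it is hyperbolic if it contains an `m/2`-dimensional subspace on which `Q` vanishes, elliptic otherwise. Let `m` be even with `2 ≤ m ≤ n − 1` (no restriction `m < n/2`) and let `r` be a prime dividing the number of elliptic `m`-spaces; for `r ≠ p` let `i` be the multiplicative order of `q`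 modulo `r`, `c = i` for `i` even and `c = 2i` for `i` odd, and write `k = n mod c`, `ℓ' = m mod c`. Then every element of `T` of order `r` fixes some elliptic `m`-space if and only if `r = 2`, or `r ≠ p` is odd and one of: (i) `i` odd, `c ≤ m` and `k > ℓ' > 0`; (ii) `i` even, `i ≤ m`, `k > ℓ'`, and `m/i` odd whenever `ℓ' = 0`. (For `r = p` there is always an element of order `p` fixing no elliptic `m`-space.) -/
theorem result {F : Type*} [Field F] [Fintype F] {p : ℕ} [Fact p.Prime] [CharP F p] {q : ℕ} (hq : Fintype.card F = q) (hqodd : Odd q)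
    (d m : ℕ) (hd : 3 ≤ d) (hm : 2 ≤ m) (hme : Even m) (hmn : m ≤ 2 * d)
    (r : ℕ) [Fact r.Prime]
    (hrΩ : r ∣ Nat.card {W : Submodule F (Unit ⊕ (Fin d ⊕ Fin d) → F) // Module.finrank F ↥W = m ∧ Cfsg.Geo.IsNondegenerateOn (QuadraticMap.polar (Cfsg.quadFormOdd d F)) W ∧ ¬ Cfsg.Geo.IsPlusTypeOn (Cfsg.quadFormOdd d F) W})
    (i c : ℕ) (hi : i = orderOf (q : ZMod r)) (hc : c = if Even i then i else 2 * i) :
    (∀ x : GL (Unit ⊕ (Fin d ⊕ Fin d)) F, x ∈ Cfsg.Geo.omegaGL (Cfsg.quadFormOdd d F) → orderOf x = r →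
      ∃ W : Submodule F (Unit ⊕ (Fin d ⊕ Fin d) → F), (Module.finrank F ↥W = m ∧ Cfsg.Geo.IsNondegenerateOn (QuadraticMap.polar (Cfsg.quadFormOdd d F)) W ∧ ¬ Cfsg.Geo.IsPlusTypeOn (Cfsg.quadFormOdd d F) W) ∧ W.map (Matrix.toLin' (x : Matrix (Unit ⊕ (Fin d ⊕ Fin d)) (Unit ⊕ (Fin d ⊕ Fin d)) F)) ≤ W) ↔
    (r = 2 ∨
     (r ≠ p ∧ 2 < r ∧ Odd i ∧ c ≤ m ∧ 0 < m % c ∧ m % c < (2 * d + 1) % c) ∨
     (r ≠ p ∧ 2 < r ∧ Even i ∧ i ≤ m ∧ m % c < (2 * d + 1) % c ∧ (0 < m % c ∨ Odd (m / i)))) := by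
  classical
  subst hq
  have hpr := (Fact.out : r.Prime)
  have hp2 : p ≠ 2 := fun h => by
    obtain ⟨n, -, hn⟩ := FiniteField.card F p
    rw [hn, h, Nat.odd_iff, Nat.pow_mod, Nat.mod_self, zero_pow n.pos.ne'] at hqodd
    omega
  obtain ⟨h2, hq2⟩ := two_facts (F := F) hp2
  obtain ⟨μ, rfl⟩ : ∃ μ, m = 2 * μ := even_iff_two_dvd.1 hme
  obtain ⟨hQ, hfin⟩ := oddQ_facts (F := F) h2 d
  simp only [← coe_oddQ] at hrΩ ⊢
  set Q := oddQ F d with hQdef
  have hG : ∀ W : Submodule F (Unit ⊕ (Fin d ⊕ Fin d) → F),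
      (Module.finrank F W = 2 * μ ∧ Cfsg.Geo.IsNondegenerateOn (QuadraticMap.polar ⇑Q) W ∧
        ¬ Cfsg.Geo.IsPlusTypeOn (⇑Q) W) ↔ (Module.finrank F W = 2 * μ ∧ NdOn Q W ∧ (Plus Q W ↔ False)) :=
    fun W => by rw [isND_iff, isPlus_iff, iff_false]
  simp only [hG] at hrΩ ⊢
  by_cases hr2 : r = 2
  · refine iff_of_true (fun x hx hxo => ?_) (Or.inl hr2)
    subst hr2
    refine order_two hQ h2 (fun a hGa har hM => ?_) x hx hxo
    obtain ⟨W, a1, a2, a3, a4⟩ := involution_type hGa h2 har hM (m := 2 * μ) (by omega) (by omega) ⟨μ, by omega⟩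
      (by omega) False
    exact ⟨W, a1, a3, a2, a4⟩
  have hrodd : Odd r := hpr.odd_of_ne_two hr2
  by_cases hrp : r = p
  · subst hrp
    refine iff_of_false (fun H => ?_) (by rintro (h | ⟨h, -⟩ | ⟨h, -⟩); exacts [hr2 h, h rfl, h rfl])
    rcases Nat.even_or_odd d with ⟨t, ht⟩ | hdo
    · obtain ⟨X, -, hX, hXd⟩ := exists_ts_le hQ (t + t) ⊤ (ndon_top hQ) (by rw [finrank_top, hfin]; omega)
      obtain ⟨a, hGa, har, hmv, hfx⟩ := exists_unip_ts (p := r) hQ hX (t := t) hXd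
      have hfxd : Module.finrank F (SympElem.fx a) = d + 1 := by rw [hfx, finrank_orth hQ, hXd, hfin]; omega
      obtain ⟨x, hx, hxo, -, -, hxa⟩ := exists_omega_unip (by omega) hGa har ⟨d + t + 1, by omega⟩ (by omega)
      obtain ⟨W, ⟨hWd, hWn, hWp⟩, hWx⟩ := H x hx hxo
      rw [hxa] at hWx
      obtain ⟨r₁, r₂, e1, e2, hle, h1, h3⟩ := image_bound hGa (hmv ▸ hX) (SympElem.inv_iff.2 hWx) hWn
      have hd2 := finrank_orth hQ W
      have h1' := h1.resolve_right fun h => hWp.1 h.2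
      have h3' : 2 * r₂ ≤ Module.finrank F (orth Q W) := h3.elim le_of_lt fun h => h.1.le
      rw [hmv, hXd] at hle
      omega
    · obtain ⟨t, ht⟩ := hdo
      obtain ⟨a, hGa, har, hts, hfxd⟩ := exists_fx_ts_odd (p := r) hQ h2 ⟨t, ht⟩ hfin
      obtain ⟨x, hx, hxo, -, -, hxa⟩ := exists_omega_unip (by omega) hGa har ⟨d + t + 1, by omega⟩ (by omega)
      obtain ⟨W, ⟨hWd, hWn, hWp⟩, hWx⟩ := H x hx hxo
      rw [hxa] at hWx
      obtain ⟨r₁, r₂, e1, e2, hle, h1, h3⟩ := fixed_bound hGa h2 hrodd har hts (SympElem.inv_iff.2 hWx) hWn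
      have hd2 := finrank_orth hQ W
      have h1' := h1.resolve_right fun h => hWp.1 h.2
      have h3' : 2 * r₂ ≤ Module.finrank F (orth Q W) := h3.elim le_of_lt fun h => h.1.le
      omega
  obtain ⟨hrF, hrq⟩ := cast_ne_zero_of_ne (F := F) hrp
  have hr3 : 2 < r := by have := hpr.two_le; omega
  have hex := hex_oddn hQ hr2 hrq hfin (by omega) (by omega) hrΩ
  have hle : bl F r ≤ 2 * d + 1 := by
    obtain ⟨e, h0, h1, h3⟩ := hex
    exact (Nat.le_of_dvd (by omega) (bl_dvd h3)).trans (by omega)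
  have hcb := bl_eq hi hc
  have hkodd : (2 * d + 1) % c % 2 = 1 := by
    have h := mod_even hrF (n := 2 * d + 1)
    rw [← hcb, Nat.even_iff, Nat.even_iff] at h
    omega
  have hlev : (2 * μ) % c % 2 = 0 := by
    have h := mod_even hrF (n := 2 * μ)
    rw [← hcb, Nat.even_iff, Nat.even_iff] at h
    omega
  constructor
  · intro H
    have hC := nec_nd hrF hr2 hQ (m := 2 * μ) (τ := False) hfin ⟨μ, by omega⟩ hle (fun a hGa har hfx => by
      obtain ⟨W, a1, a3, a2, a4⟩ := good_of_order (by omega) hrodd H a hGa har hfx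
      exact ⟨W, a1, a2, a3, a4⟩)
    have hcm : c ≤ 2 * μ := by
      rcases Nat.eq_zero_or_pos ((2 * μ) % c) with h0 | h0
      · exact le_of_mod_zero (by omega) h0
      · rw [hcb] at h0 ⊢
        exact bl_le_m_oddn (by omega) hex hC h0
    rcases Nat.even_or_odd i with hev | hodd
    · rw [if_pos hev] at hc; subst hc
      obtain ⟨-, hbp⟩ := bl_even (F := F) (hi ▸ hev)
      simp only [NdCond, hbp, ← hcb, false_iff] at hC
      refine Or.inr (Or.inr ⟨hrp, hr3, hev, hcm, ?_⟩)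
      rcases hC with ⟨h0, h | h | ⟨h, -⟩⟩ | ⟨h0, -⟩
      · exact ⟨h.2, Or.inl h.1⟩
      · exact ⟨by omega, Or.inr (Nat.not_even_iff_odd.1 h.2)⟩
      · omega
      · omega
    · rw [if_neg (Nat.not_even_iff_odd.2 hodd)] at hc; subst hc
      obtain ⟨-, hbp⟩ := bl_odd (F := F) (hi ▸ hodd)
      simp [NdCond, hbp, ← hcb] at hC
      refine Or.inr (Or.inl ⟨hrp, hr3, hodd, hcm, ?_⟩)
      rcases hC with ⟨h0, h | ⟨h, -⟩⟩ | ⟨h0, -⟩ <;> omega
  · intro hR x hx hxo
    have hC : NdCond F r (Plus Q ⊤) False (2 * d + 1) (2 * μ) := by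
      rcases hR with h | ⟨-, -, hodd, -, hk⟩ | ⟨-, -, hev, -, hk, hk'⟩
      · exact absurd h hr2
      · rw [if_neg (Nat.not_even_iff_odd.2 hodd)] at hc; subst hc
        obtain ⟨-, hbp⟩ := bl_odd (F := F) (hi ▸ hodd)
        simp only [NdCond, hbp, ← hcb]
        exact Or.inl ⟨by omega, Or.inl hk⟩
      · rw [if_pos hev] at hc; subst hc
        obtain ⟨-, hbp⟩ := bl_even (F := F) (hi ▸ hev)
        simp only [NdCond, hbp, ← hcb, false_iff]
        refine Or.inl ⟨by omega, ?_⟩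
        rcases Nat.eq_zero_or_pos ((2 * μ) % c) with h0 | h0
        · exact Or.inr (Or.inl ⟨h0, Nat.not_even_iff_odd.2 (hk'.resolve_left (by omega))⟩)
        · exact Or.inl ⟨h0, hk⟩
    refine order_of_good hQ (fun a hGa har => ?_) x hx hxo
    obtain ⟨W, a1, a2, a3, a4⟩ := suff_nd hGa hrF hr2 har hfin (by omega) ⟨μ, by omega⟩ (by omega) hC
    exact ⟨W, a1, a3, a2, a4⟩

end Cfsg.Agent.S5993
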