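import Cfsg.Statements.S5994
import Cfsg.Agent.Classical.Elusive.OrthUnip

set_option autoImplicit false
open scoped MatrixGroups
open Cfsg

namespace Cfsg.Agent.S5994

open Cfsg.Agent.Classical Cfsg.Agent.Classical.Elusive

/-- A necessary condition for every element of order p of PΩ⁻_n(q), q odd, to fix an elliptic `m`-space. Here `T = PΩ⁻_n(F)`, `n = 2d ≥ 8`, realised through `Ω⁻_n(q)`, the commutator subgroup of the isometry group of `Q = Σ_{i<d−1} xᵢyᵢ + z₁² + a z₁z₂ + b z₂²` with `z₁² + a z₁z₂ + b z₂²` anisotropic, over the field `F` with `q` elements; an element of `T` of prime order `r` is an element `x` of `Ω⁻_n(q)` with `x^r` scalar and `x` not scalar; `q` is odd; a nondegenerate `m`-space (even `m`) is a subspace on which the polar form of `Q` is nondegenerate; it is hyperbolic if it contains an `m/2`-dimensional subspace on which `Q` vanishes, elliptic otherwise. Let `m` be even with `2 ≤ m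 ≤ n − 2` and suppose `p` divides the number of elliptic `m`-spaces. If every element of `T` of order `p` fixes some elliptic `m`-space, then `n ≡ m (mod 4)` and every partition of `n` into parts of size at most `p` in which every even part has even multiplicity contains (as a sub-multiset) a partition of `m` in which every even part has even multiplicity. -/
theorem result {F : Type*} [Field F] [Fintype F] {p : ℕ} [Fact p.Prime] [CharP F p] {q : ℕ} (hq : Fintype.card F = q) (hqodd : Odd q)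
    (d m : ℕ) (hd : 4 ≤ d) (hm : 2 ≤ m) (hme : Even m) (hmn : m + 2 ≤ 2 * d) (a b : F) (hab : ∀ x y : F, x ^ 2 + a * x * y + b * y ^ 2 = 0 → x = 0 ∧ y = 0)
    (hpΩ : p ∣ Nat.card {W : Submodule F ((Fin (d - 1) ⊕ Fin (d - 1)) ⊕ Fin 2 → F) // Module.finrank F ↥W = m ∧ Cfsg.Geo.IsNondegenerateOn (QuadraticMap.polar (Cfsg.quadFormMinus (d - 1) F a b)) W ∧ ¬ Cfsg.Geo.IsPlusTypeOn (Cfsg.quadFormMinus (d - 1) F a b) W}) :
    (∀ x : GL ((Fin (d - 1) ⊕ Fin (d - 1)) ⊕ Fin 2) F, x ∈ Cfsg.Geo.omegaGL (Cfsg.quadFormMinus (d - 1) F a b) →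
      (∃ z : F, ((x ^ p : GL ((Fin (d - 1) ⊕ Fin (d - 1)) ⊕ Fin 2) F) : Matrix ((Fin (d - 1) ⊕ Fin (d - 1)) ⊕ Fin 2) ((Fin (d - 1) ⊕ Fin (d - 1)) ⊕ Fin 2) F) = z • (1 : Matrix ((Fin (d - 1) ⊕ Fin (d - 1)) ⊕ Fin 2) ((Fin (d - 1) ⊕ Fin (d - 1)) ⊕ Fin 2) F)) →
      (∀ z : F, (x : Matrix ((Fin (d - 1) ⊕ Fin (d - 1)) ⊕ Fin 2) ((Fin (d - 1) ⊕ Fin (d - 1)) ⊕ Fin 2) F) ≠ z • (1 : Matrix ((Fin (d - 1) ⊕ Fin (d - 1)) ⊕ Fin 2) ((Fin (d - 1) ⊕ Fin (d - 1)) ⊕ Fin 2) F)) →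
      ∃ W : Submodule F ((Fin (d - 1) ⊕ Fin (d - 1)) ⊕ Fin 2 → F), (Module.finrank F ↥W = m ∧ Cfsg.Geo.IsNondegenerateOn (QuadraticMap.polar (Cfsg.quadFormMinus (d - 1) F a b)) W ∧ ¬ Cfsg.Geo.IsPlusTypeOn (Cfsg.quadFormMinus (d - 1) F a b) W) ∧ W.map (Matrix.toLin' (x : Matrix ((Fin (d - 1) ⊕ Fin (d - 1)) ⊕ Fin 2) ((Fin (d - 1) ⊕ Fin (d - 1)) ⊕ Fin 2) F)) ≤ W) →
    ((2 * d) % 4 = m % 4 ∧ (∀ μ : Multiset ℕ, (∀ e ∈ μ, 0 < e ∧ e ≤ p) → (∀ e : ℕ, Even e → Even (μ.count e)) → μ.sum = 2 * d →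
        ∃ ν : Multiset ℕ, ν ≤ μ ∧ ν.sum = m ∧ ∀ e : ℕ, Even e → Even (ν.count e))) := by
  classical
  intro hall
  have hp2 : p ≠ 2 := by
    rintro rfl
    obtain ⟨k, -, hk⟩ := FiniteField.card F 2
    rw [hq] at hk
    exact (Nat.not_even_iff_odd.2 hqodd) (hk ▸ (Nat.even_pow.2 ⟨even_two, k.pos.ne'⟩))
  have hp3 : 3 ≤ p := by
    have := (Fact.out : p.Prime).two_le
    omega
  have h2 : (2 : F) ≠ 0 := by
    intro h
    have hd' : p ∣ 2 := (CharP.cast_eq_zero_iff F p 2).1 (by exact_mod_cast h)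
    have := Nat.le_of_dvd two_pos hd'
    omega
  let Q : QuadraticForm F ((Fin (d - 1) ⊕ Fin (d - 1)) ⊕ Fin 2 → F) :=
    (Quad.hyp (Quad.binForm a b) (d - 1)).comp (Quad.minusCoord (d - 1)).toLinearMap
  have hQe : ⇑Q = Cfsg.quadFormMinus (d - 1) F a b := funext (Quad.minusCoord_map a b (d - 1))
  have hQ : (QuadraticMap.polarBilin Q).Nondegenerate :=
    Quad.Iso.nondeg (Q := Quad.hyp (Quad.binForm a b) (d - 1))
      ⟨(Quad.minusCoord (d - 1)).symm, fun x => by simp [Q]⟩ (Quad.nondeg_hyp (Quad.nondeg_binForm hab) (d - 1))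
  have hcard : Fintype.card ((Fin (d - 1) ⊕ Fin (d - 1)) ⊕ Fin 2) = 2 * d := by simp; omega
  have hne : Nonempty ((Fin (d - 1) ⊕ Fin (d - 1)) ⊕ Fin 2) := ⟨Sum.inr 0⟩
  have hget : ∀ g : GL ((Fin (d - 1) ⊕ Fin (d - 1)) ⊕ Fin 2) F,
      g ∈ Cfsg.Geo.omegaGL (Cfsg.quadFormMinus (d - 1) F a b) → g ^ p = 1 → g ≠ 1 →
      ∃ W : Submodule F ((Fin (d - 1) ⊕ Fin (d - 1)) ⊕ Fin 2 → F), Module.finrank F W = m ∧
        (∀ w ∈ W, w ≠ 0 → ∃ x ∈ W, QuadraticMap.polar (Cfsg.quadFormMinus (d - 1) F a b) x w ≠ 0) ∧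
        ¬ Cfsg.Geo.IsPlusTypeOn (Cfsg.quadFormMinus (d - 1) F a b) W ∧
        W.map (Matrix.toLin' (g : Matrix ((Fin (d - 1) ⊕ Fin (d - 1)) ⊕ Fin 2)
          ((Fin (d - 1) ⊕ Fin (d - 1)) ⊕ Fin 2) F)) ≤ W := by
    intro g hg hgp hg1
    obtain ⟨W, ⟨hWm, hWn, hWp⟩, hWg⟩ := hall g hg ⟨1, by rw [hgp]; simp⟩ (fun z hz => hg1 (by
      have hz1 : z ^ p • (1 : Matrix ((Fin (d - 1) ⊕ Fin (d - 1)) ⊕ Fin 2)
          ((Fin (d - 1) ⊕ Fin (d - 1)) ⊕ Fin 2) F) = 1 := by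
        have h := congrArg Units.val hgp
        rwa [Units.val_pow_eq_pow_val, hz, _root_.smul_pow, one_pow, Units.val_one] at h
      obtain ⟨i⟩ := hne
      have hzp : z ^ p = 1 := by
        have := congrFun (congrFun hz1 i) i
        simpa using this
      exact Units.ext (by rw [hz, OrthUnip.eq_one_of_pow_char hzp, one_smul, Units.val_one])))
    exact ⟨W, hWm, fun w hw hw0 => (hWn w hw hw0).1, hWp, hWg⟩
  have hμ : ∀ μ : Multiset ℕ, (∀ e ∈ μ, 0 < e ∧ e ≤ p) → OrthUnip.EvenPaired μ → μ.sum = 2 * d →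
      ∃ ν, ν ≤ μ ∧ ν.sum = m ∧ OrthUnip.EvenPaired ν := by
    intro μ hμp hμ hn
    refine OrthUnip.exists_subtype_of_forall hp2 Q hQ (by rw [hcard]; omega) hme (by rw [hcard]; omega)
      (fun g hg hgp hg1 => ?_) μ hμp hμ (by rw [hn, hcard])
    rw [hQe] at hg ⊢
    obtain ⟨W, h1, h3, -, h4⟩ := hget g hg hgp hg1
    exact ⟨W, h1, h3, h4⟩
  refine ⟨?_, hμ⟩
  obtain ⟨c, hc⟩ := hme
  obtain ⟨k, rfl⟩ | ⟨k, rfl⟩ := Nat.even_or_odd d
  · obtain ⟨ν, hν, hνm, hνe⟩ := hμ (Multiset.replicate (2 * (k - 1)) 2 + {3, 1}) (fun e he => by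
        rcases Multiset.mem_add.1 he with h | h
        · rw [Multiset.eq_of_mem_replicate h]; omega
        · simp at h; omega)
      (fun e he => by
        have h1 : e ≠ 1 := by rintro rfl; simp at he
        have h3 : e ≠ 3 := by rintro rfl; exact (by decide : ¬ Even 3) he
        rw [Multiset.count_add, Multiset.count_replicate,
          Multiset.count_eq_zero.2 (show e ∉ ({3, 1} : Multiset ℕ) by simp [h1, h3])]
        split_ifs <;> simp)
      (by rw [Multiset.sum_add, Multiset.sum_replicate, smul_eq_mul]; simp; omega)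
    obtain ⟨j, s, hs, hsum, -⟩ := OrthUnip.le_twos hν hνe (by simp)
    have hs' : s ∈ Multiset.powerset ({3, 1} : Multiset ℕ) := Multiset.mem_powerset.2 hs
    have := (by decide : ∀ t ∈ Multiset.powerset ({3, 1} : Multiset ℕ),
      t.sum = 0 ∨ t.sum = 1 ∨ t.sum = 3 ∨ t.sum = 4) s hs'
    omega
  · by_contra hne4
    set μ : Multiset ℕ := Multiset.replicate (2 * k) 2 + {1, 1} with hμdef
    have hμp : ∀ e ∈ μ, 0 < e ∧ e ≤ p := fun e he => by
      rcases Multiset.mem_add.1 he with h | h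
      · rw [Multiset.eq_of_mem_replicate h]; omega
      · simp at h; omega
    have hμe : OrthUnip.EvenPaired μ := fun e he => by
      have h1 : e ≠ 1 := by rintro rfl; simp at he
      rw [hμdef, Multiset.count_add, Multiset.count_replicate,
        Multiset.count_eq_zero.2 (show e ∉ ({1, 1} : Multiset ℕ) by simp [h1])]
      split_ifs <;> simp
    obtain ⟨g, hg, hgp, hgQ, hT⟩ := OrthUnip.exists_omega_elt hp2 Q hQ (by rw [hcard]; omega) μ
      (by rw [hμdef, hcard, Multiset.sum_add, Multiset.sum_replicate, smul_eq_mul]; simp; omega) hμp hμe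
      (e := 1) (by simp [hμdef]) odd_one
    rw [hQe] at hg
    have hg1 : g ≠ 1 := by
      rintro rfl
      have hz : (Matrix.toLin' ((1 : GL ((Fin (2 * k + 1 - 1) ⊕ Fin (2 * k + 1 - 1)) ⊕ Fin 2) F) :
          Matrix ((Fin (2 * k + 1 - 1) ⊕ Fin (2 * k + 1 - 1)) ⊕ Fin 2)
            ((Fin (2 * k + 1 - 1) ⊕ Fin (2 * k + 1 - 1)) ⊕ Fin 2) F) - 1) ^ 1 = 0 := by
        rw [pow_one, Units.val_one, Matrix.toLin'_one]
        exact sub_self _
      have := (MatModule.sub_one_pow_eq_zero_iff hT 1).1 hz 2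
        (Multiset.mem_add.2 (Or.inl (Multiset.mem_replicate.2 ⟨by omega, rfl⟩)))
      omega
    obtain ⟨W, hWm, hWn, hWp, hWg⟩ := hget g hg hgp hg1
    rw [← hQe] at hWn
    obtain ⟨ν, hν, hνm, hνe, hTν⟩ :=
      OrthUnip.exists_piece h2 hgQ hT (fun h => absurd (hμp 0 h).1 (lt_irrefl 0)) hWn hWg
    obtain ⟨j, s, hs, hsum, hνeq⟩ := OrthUnip.le_twos hν hνe (by simp)
    rw [hνm, hWm] at hsum
    have hs' : s ∈ Multiset.powerset ({1, 1} : Multiset ℕ) := Multiset.mem_powerset.2 hs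
    have := (by decide : ∀ t ∈ Multiset.powerset ({1, 1} : Multiset ℕ),
      t = 0 ∨ t.sum = 1 ∨ t.sum = 2) s hs'
    rcases this with rfl | h | h
    · obtain ⟨U, hUW, hU0, hU2⟩ := OrthUnip.exists_singular_half h2 hgQ hWg hTν (fun e he => by
        rw [hνeq, add_zero] at he
        exact Multiset.eq_of_mem_replicate he)
      rw [hQe] at hU0
      exact hWp ⟨U, hUW, hU0, hU2⟩
    all_goals omega

end Cfsg.Agent.S5994
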