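import Cfsg.Statements.S5995
import Cfsg.Agent.Classical.Elusive.OrthUnip

set_option autoImplicit false
open scoped MatrixGroups
open Cfsg

namespace Cfsg.Agent.S5995

open Cfsg.Agent.Classical Cfsg.Agent.Classical.Elusive

/-- A necessary condition for every element of order p of Ω_n(q), nq odd, to fix a hyperbolic `m`-space. Here `T = Ω_n(F)`, `n = 2d+1 ≥ 7`, `q` odd, realised as the commutator subgroup of the isometry group of `Q = x₀² + Σ xᵢyᵢ` over the field `F` with `q` elements (trivial centre, so its elements of prime order `r` are used directly); a nondegenerate `m`-space (even `m`) is a subspace on which the polar form of `Q` is nondegenerate; it is hyperbolic if it contains an `m/2`-dimensional subspace on which `Q` vanishes, elliptic otherwise. Let `m` be even with `2 ≤ m ≤ n − 1` and suppose `p` divides the number of hyperbolic `m`-spaces. If every element of `T` of order `p` fixes some hyperbolic `m`-space, then `m ≡ 0 (mod 4)` and every partition of `n` into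 parts of size at most `p` in which every even part has even multiplicity contains (as a sub-multiset) a partition of `m` in which every even part has even multiplicity. -/
theorem result {F : Type*} [Field F] [Fintype F] {p : ℕ} [Fact p.Prime] [CharP F p] {q : ℕ} (hq : Fintype.card F = q) (hqodd : Odd q)
    (d m : ℕ) (hd : 3 ≤ d) (hm : 2 ≤ m) (hme : Even m) (hmn : m ≤ 2 * d)
    (hpΩ : p ∣ Nat.card {W : Submodule F (Unit ⊕ (Fin d ⊕ Fin d) → F) // Module.finrank F ↥W = m ∧ Cfsg.Geo.IsNondegenerateOn (QuadraticMap.polar (Cfsg.quadFormOdd d F)) W ∧ Cfsg.Geo.IsPlusTypeOn (Cfsg.quadFormOdd d F) W}) :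
    (∀ x : GL (Unit ⊕ (Fin d ⊕ Fin d)) F, x ∈ Cfsg.Geo.omegaGL (Cfsg.quadFormOdd d F) → orderOf x = p →
      ∃ W : Submodule F (Unit ⊕ (Fin d ⊕ Fin d) → F), (Module.finrank F ↥W = m ∧ Cfsg.Geo.IsNondegenerateOn (QuadraticMap.polar (Cfsg.quadFormOdd d F)) W ∧ Cfsg.Geo.IsPlusTypeOn (Cfsg.quadFormOdd d F) W) ∧ W.map (Matrix.toLin' (x : Matrix (Unit ⊕ (Fin d ⊕ Fin d)) (Unit ⊕ (Fin d ⊕ Fin d)) F)) ≤ W) →
    (m % 4 = 0 ∧ (∀ μ : Multiset ℕ, (∀ e ∈ μ, 0 < e ∧ e ≤ p) → (∀ e : ℕ, Even e → Even (μ.count e)) → μ.sum = 2 * d + 1 →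
        ∃ ν : Multiset ℕ, ν ≤ μ ∧ ν.sum = m ∧ ∀ e : ℕ, Even e → Even (ν.count e))) := by
  classical
  intro hall
  have hp2 : p ≠ 2 := by
    rintro rfl
    obtain ⟨k, -, hk⟩ := FiniteField.card F 2
    rw [hq] at hk
    exact (Nat.not_even_iff_odd.2 hqodd) (hk ▸ (Nat.even_pow.2 ⟨even_two, k.pos.ne'⟩))
  have hp3 : 3 ≤ p := by
    have := (Fact.out : p.Prime).two_le
    omega
  have h2 : (2 : F) ≠ 0 := by
    intro h
    have hd' : p ∣ 2 := (CharP.cast_eq_zero_iff F p 2).1 (by exact_mod_cast h)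
    have := Nat.le_of_dvd two_pos hd'
    omega
  let Q : QuadraticForm F (Unit ⊕ (Fin d ⊕ Fin d) → F) :=
    (Quad.hyp (Quad.sqForm F) d).comp (Quad.oddCoord d).toLinearMap
  have hQe : ⇑Q = Cfsg.quadFormOdd d F := funext (Quad.oddCoord_map d)
  have hQ : (QuadraticMap.polarBilin Q).Nondegenerate :=
    Quad.Iso.nondeg (Q := Quad.hyp (Quad.sqForm F) d)
      ⟨(Quad.oddCoord d).symm, fun x => by simp [Q]⟩ (Quad.nondeg_hyp (Quad.nondeg_sqForm h2) d)
  have hμ : ∀ μ : Multiset ℕ, (∀ e ∈ μ, 0 < e ∧ e ≤ p) → OrthUnip.EvenPaired μ → μ.sum = 2 * d + 1 →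
      ∃ ν, ν ≤ μ ∧ ν.sum = m ∧ OrthUnip.EvenPaired ν := by
    intro μ hμp hμ hn
    refine OrthUnip.exists_subtype_of_forall hp2 Q hQ (by simp; omega) hme (by simp; omega)
      (fun g hg hgp hg1 => ?_) μ hμp hμ (by rw [hn]; simp; omega)
    rw [hQe] at hg ⊢
    obtain ⟨W, ⟨hWm, hWn, -⟩, hWg⟩ := hall g hg (orderOf_eq_prime hgp hg1)
    exact ⟨W, hWm, fun w hw hw0 => (hWn w hw hw0).1, hWg⟩
  refine ⟨?_, hμ⟩
  obtain ⟨k, rfl⟩ | ⟨k, rfl⟩ := Nat.even_or_odd d
  · obtain ⟨ν, hν, hνm, hνe⟩ := hμ (Multiset.replicate (2 * k) 2 + {1}) (fun e he => by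
        rcases Multiset.mem_add.1 he with h | h
        · rw [Multiset.eq_of_mem_replicate h]; omega
        · rw [Multiset.mem_singleton.1 h]; omega)
      (fun e he => by
        rw [Multiset.count_add, Multiset.count_replicate, Multiset.count_singleton,
          if_neg (show ¬ e = 1 by rintro rfl; simp at he)]
        split_ifs <;> simp)
      (by rw [Multiset.sum_add, Multiset.sum_replicate, Multiset.sum_singleton, smul_eq_mul]; omega)
    obtain ⟨j, s, hs, hsum, -⟩ := OrthUnip.le_twos hν hνe (by simp)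
    obtain ⟨c, hc⟩ := hme
    rcases Multiset.le_singleton.1 hs with h | h <;> rw [h] at hsum <;> simp at hsum <;> omega
  · obtain ⟨ν, hν, hνm, hνe⟩ := hμ (Multiset.replicate (2 * k) 2 + {3}) (fun e he => by
        rcases Multiset.mem_add.1 he with h | h
        · rw [Multiset.eq_of_mem_replicate h]; omega
        · rw [Multiset.mem_singleton.1 h]; omega)
      (fun e he => by
        rw [Multiset.count_add, Multiset.count_replicate, Multiset.count_singleton,
          if_neg (show ¬ e = 3 by rintro rfl; exact (by decide : ¬ Even 3) he)]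
        split_ifs <;> simp)
      (by rw [Multiset.sum_add, Multiset.sum_replicate, Multiset.sum_singleton, smul_eq_mul]; omega)
    obtain ⟨j, s, hs, hsum, -⟩ := OrthUnip.le_twos hν hνe (by simp)
    obtain ⟨c, hc⟩ := hme
    rcases Multiset.le_singleton.1 hs with h | h <;> rw [h] at hsum <;> simp at hsum <;> omega

end Cfsg.Agent.S5995
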