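import Cfsg.Statements.S5996
import Cfsg.Agent.Classical.Elusive.OrthUnip

set_option autoImplicit false
open scoped MatrixGroups
open Cfsg

namespace Cfsg.Agent.S5996

open Cfsg.Agent.Classical Cfsg.Agent.Classical.Elusive

/-- A necessary condition for every element of order p of PΩ⁺_n(q), q odd, to fix a hyperbolic `m`-space. Here `T = PΩ⁺_n(F)`, `n = 2d ≥ 8`, realised through `Ω⁺_n(q)`, the commutator subgroup of the isometry group of `Q = Σ xᵢyᵢ` over the field `F` with `q` elements; an element of `T` of prime order `r` is an element `x` of `Ω⁺_n(q)` with `x^r` scalar and `x` not scalar; `q` is odd; a nondegenerate `m`-space (even `m`) is a subspace on which the polar form of `Q` is nondegenerate; it is hyperbolic if it contains an `m/2`-dimensional subspace on which `Q` vanishes, elliptic otherwise. Let `m` be even with `2 ≤ m < n/2` and suppose `p` divides the number of hyperbolic `m`-spaces. If every element of `T` of order `p` fixes some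 hyperbolic `m`-space, then every partition of `n` into parts of size at most `p` in which every even part has even multiplicity contains (as a sub-multiset) a partition of `m` in which every even part has even multiplicity. -/
theorem result {F : Type*} [Field F] [Fintype F] {p : ℕ} [Fact p.Prime] [CharP F p] {q : ℕ} (hq : Fintype.card F = q) (hqodd : Odd q)
    (d m : ℕ) (hd : 4 ≤ d) (hm : 2 ≤ m) (hme : Even m) (hmd : m < d)
    (hpΩ : p ∣ Nat.card {W : Submodule F (Fin d ⊕ Fin d → F) // Module.finrank F ↥W = m ∧ Cfsg.Geo.IsNondegenerateOn (QuadraticMap.polar (Cfsg.quadFormPlus d F)) W ∧ Cfsg.Geo.IsPlusTypeOn (Cfsg.quadFormPlus d F) W}) :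
    (∀ x : GL (Fin d ⊕ Fin d) F, x ∈ Cfsg.Geo.omegaGL (Cfsg.quadFormPlus d F) →
      (∃ z : F, ((x ^ p : GL (Fin d ⊕ Fin d) F) : Matrix (Fin d ⊕ Fin d) (Fin d ⊕ Fin d) F) = z • (1 : Matrix (Fin d ⊕ Fin d) (Fin d ⊕ Fin d) F)) →
      (∀ z : F, (x : Matrix (Fin d ⊕ Fin d) (Fin d ⊕ Fin d) F) ≠ z • (1 : Matrix (Fin d ⊕ Fin d) (Fin d ⊕ Fin d) F)) →
      ∃ W : Submodule F (Fin d ⊕ Fin d → F), (Module.finrank F ↥W = m ∧ Cfsg.Geo.IsNondegenerateOn (QuadraticMap.polar (Cfsg.quadFormPlus d F)) W ∧ Cfsg.Geo.IsPlusTypeOn (Cfsg.quadFormPlus d F) W) ∧ W.map (Matrix.toLin' (x : Matrix (Fin d ⊕ Fin d) (Fin d ⊕ Fin d) F)) ≤ W) →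
    (∀ μ : Multiset ℕ, (∀ e ∈ μ, 0 < e ∧ e ≤ p) → (∀ e : ℕ, Even e → Even (μ.count e)) → μ.sum = 2 * d →
        ∃ ν : Multiset ℕ, ν ≤ μ ∧ ν.sum = m ∧ ∀ e : ℕ, Even e → Even (ν.count e)) := by
  classical
  intro hall μ hμp hμ hn
  have hp2 : p ≠ 2 := by
    rintro rfl
    obtain ⟨k, -, hk⟩ := FiniteField.card F 2
    rw [hq] at hk
    exact (Nat.not_even_iff_odd.2 hqodd) (hk ▸ (Nat.even_pow.2 ⟨even_two, k.pos.ne'⟩))
  let Q : QuadraticForm F (Fin d ⊕ Fin d → F) := (Quad.hyp (Quad.zeroForm F) d).comp (Quad.plusCoord d).toLinearMap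
  have hQe : ⇑Q = Cfsg.quadFormPlus d F := funext (Quad.plusCoord_map d)
  have hQ : (QuadraticMap.polarBilin Q).Nondegenerate :=
    Quad.Iso.nondeg (Q := Quad.hyp (Quad.zeroForm F) d)
      ⟨(Quad.plusCoord d).symm, fun x => by simp [Q]⟩ (Quad.nondeg_hyp Quad.nondeg_zeroForm d)
  refine OrthUnip.exists_subtype_of_forall hp2 Q hQ (by simp; omega) hme (by simp; omega) (fun g hg hgp hg1 => ?_)
    μ hμp hμ (by simpa [two_mul] using hn)
  rw [hQe] at hg ⊢
  obtain ⟨W, ⟨hWm, hWn, -⟩, hWg⟩ := hall g hg ⟨1, by rw [hgp]; simp⟩ (fun z hz => hg1 (by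
    have hz1 : z ^ p • (1 : Matrix (Fin d ⊕ Fin d) (Fin d ⊕ Fin d) F) = 1 := by
      have h := congrArg Units.val hgp
      rwa [Units.val_pow_eq_pow_val, hz, _root_.smul_pow, one_pow, Units.val_one] at h
    have hne : Nonempty (Fin d ⊕ Fin d) := ⟨Sum.inl ⟨0, by omega⟩⟩
    obtain ⟨i⟩ := hne
    have hzp : z ^ p = 1 := by
      have := congrFun (congrFun hz1 i) i
      simpa using this
    exact Units.ext (by rw [hz, OrthUnip.eq_one_of_pow_char hzp, one_smul, Units.val_one])))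
  exact ⟨W, hWm, fun w hw hw0 => (hWn w hw hw0).1, hWg⟩

end Cfsg.Agent.S5996
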