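import Cfsg.Statements.S5997
import Cfsg.Agent.Classical.Elusive.Quaternion

set_option autoImplicit false

open Cfsg.Agent

namespace Cfsg.Agent.S5997

/-- Elements of prime order of PSL_2(p) and the normalizer of a quaternion subgroup. Here `T = PSL_2(F)` for the field `F` with `p` elements, `p ≥ 5` prime; `R` is a subgroup of GL_2(F) isomorphic to the quaternion group of order 8 (an absolutely irreducible 2-group of symplectic type), and `H` is the subgroup of matrices of determinant 1 normalizing `R` — a subgroup of type 2^{1+2}.O₂⁻(2), isomorphic modulo scalars to A₄ or S₄ (maximality is not assumed). Ω is the set of cosets of `H` in `T`, so an element of `T` of prime order `r` (a matrix `x` of determinant 1 with `x^r` scalar, `x` not scalar) fixes a point of Ω exactly when some conjugate of `x` by a matrix of determinant 1 normalizes `R`. Let `r` be a prime dividing the index of `H`. Then every element of `T` of order `r` fixes a point of Ω if and only if `r = 2` or `r = 3`. -/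
theorem result {F : Type*} [Field F] [Fintype F] {p : ℕ} [Fact p.Prime] [CharP F p] (hF : Fintype.card F = p) (hp : 5 ≤ p)
    (R : Subgroup (GL (Fin 2) F)) (hR : Nonempty (↥R ≃* QuaternionGroup 2))
    (r : ℕ) [Fact r.Prime]
    (hΩ : r ∣ (Cfsg.Geo.subgroupNormalizer R).relIndex (Cfsg.Geo.specialLinear (Fin 2) F)) :
    (∀ x ∈ Cfsg.Geo.specialLinear (Fin 2) F, (∃ z : F, ((x ^ r : GL (Fin 2) F) : Matrix (Fin 2) (Fin 2) F) = z • (1 : Matrix (Fin 2) (Fin 2) F)) →
      (∀ z : F, (x : Matrix (Fin 2) (Fin 2) F) ≠ z • (1 : Matrix (Fin 2) (Fin 2) F)) →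
      ∃ g ∈ Cfsg.Geo.specialLinear (Fin 2) F, g⁻¹ * x * g ∈ Cfsg.Geo.subgroupNormalizer R) ↔ (r = 2 ∨ r = 3) := by
  classical
  have hodd : Fintype.card F % 2 = 1 := by
    rw [hF]
    exact (Fact.out : p.Prime).eq_two_or_odd.resolve_left (by omega)
  have hnat : ∀ k : ℕ, 0 < k → k < 5 → (k : F) ≠ 0 := fun k hk hk5 h => by
    have := Nat.le_of_dvd hk ((CharP.cast_eq_zero_iff F p k).1 h)
    omega
  have h2 : (2 : F) ≠ 0 := by simpa using hnat 2 two_pos (by norm_num)
  have h3 : (3 : F) ≠ 0 := by simpa using hnat 3 three_pos (by norm_num)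
  haveI : Finite R := Finite.of_equiv _ hR.some.symm.toEquiv
  obtain ⟨D⟩ := Classical.Elusive.exists_qdata h2 R hR
  have hdet : ∀ z : GL (Fin 2) F, z ∈ Cfsg.Geo.specialLinear (Fin 2) F →
      (z : Matrix (Fin 2) (Fin 2) F).det = 1 := fun z hz => congrArg Units.val (MonoidHom.mem_ker.1 hz)
  have hr1 := (Fact.out : r.Prime)
  constructor
  · intro H
    by_contra hne
    have hr5 : 5 ≤ r := by
      have := hr1.two_le
      have h4 : r ≠ 4 := by rintro rfl; exact absurd hr1 (by norm_num)
      omega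
    have hdvd : r ∣ Nat.card (Cfsg.Geo.specialLinear (Fin 2) F) :=
      hΩ.trans (Subgroup.index_dvd_card _)
    obtain ⟨g, hg⟩ := exists_prime_orderOf_dvd_card' r hdvd
    have hgr : (g : GL (Fin 2) F) ^ r = 1 := by
      rw [← hg, ← Subgroup.coe_pow, pow_orderOf_eq_one, Subgroup.coe_one]
    have hns : ∀ z : F, ((g : GL (Fin 2) F) : Matrix (Fin 2) (Fin 2) F) ≠ z • 1 := by
      intro z hz
      have h1 := hdet _ g.2
      rw [hz, Matrix.det_smul, Matrix.det_one, mul_one, Fintype.card_fin] at h1
      have hg2 : g ^ 2 = 1 := by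
        refine Subtype.ext (Units.ext ?_)
        rw [Subgroup.coe_pow, Units.val_pow_eq_pow_val, hz, _root_.smul_pow, one_pow, h1, one_smul]
        rfl
      have := Nat.le_of_dvd two_pos (hg ▸ orderOf_dvd_of_pow_eq_one hg2)
      omega
    obtain ⟨c, -, hc⟩ := H g g.2 ⟨1, by rw [hgr, one_smul]; rfl⟩ hns
    obtain ⟨s, hs⟩ := Classical.Elusive.scalar_of_prime_order h2 hR hr5 hc
      (show (c⁻¹ * (g : GL (Fin 2) F) * c) ^ r = 1 by
        rw [show c⁻¹ * (g : GL (Fin 2) F) * c = c⁻¹ * (g : GL (Fin 2) F) * c⁻¹⁻¹ by rw [inv_inv],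
          conj_pow, hgr, mul_one, mul_inv_cancel])
    refine hns s ?_
    have h1 : (g : GL (Fin 2) F) = c * (c⁻¹ * (g : GL (Fin 2) F) * c) * c⁻¹ := by group
    rw [h1, Units.val_mul, Units.val_mul, hs, mul_smul_comm, mul_one, smul_mul_assoc, ← Units.val_mul,
      mul_inv_cancel, Units.val_one]
  · rintro hR' x hx ⟨z, hz⟩ hns
    set X := (x : Matrix (Fin 2) (Fin 2) F) with hX
    have hX1 := hdet x hx
    have hch : X * X = X.trace • X - 1 := by
      rw [Classical.Elusive.sq_eq_trace, hX1, one_smul]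
    have hscal : ∀ a b : F, a • X = b • 1 → a = 0 := by
      intro a b h
      by_contra ha
      refine hns (a⁻¹ * b) ?_
      rw [← smul_smul, ← h, smul_smul, inv_mul_cancel₀ ha, one_smul]
    rw [Units.val_pow_eq_pow_val] at hz
    rcases hR' with rfl | rfl
    · rw [pow_two, hch, sub_eq_iff_eq_add] at hz
      have ht : X.trace = 0 := hscal _ (z + 1) (by rw [add_smul, one_smul]; exact hz)
      obtain ⟨g, hg, hgx⟩ := Classical.Elusive.exists_conj_of_trace hodd (y := D.i) hx
        (MonoidHom.mem_ker.2 (Units.ext D.di)) (by rw [ht, D.ti]) (by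
          rw [ht]
          intro h4
          exact mul_ne_zero h2 h2 (by linear_combination -h4))
      exact ⟨g, hg, hgx ▸ Subgroup.le_normalizer D.hi⟩
    · have h3' : X ^ 3 = (X.trace ^ 2 - 1) • X - X.trace • 1 := by
        rw [pow_succ, pow_two, hch, sub_mul, smul_mul_assoc, hch, one_mul, smul_sub, smul_smul, sub_smul,
          one_smul, pow_two]
        abel
      rw [h3', sub_eq_iff_eq_add, ← add_smul] at hz
      have ht : X.trace ^ 2 - 1 = 0 := hscal _ _ hz
      obtain ⟨w, hwN, hwS, hwt⟩ := Classical.Elusive.exists_six h2 D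
      have hd : X.trace ^ 2 - 4 ≠ 0 := fun h4 => h3 (by linear_combination ht - h4)
      rcases sq_eq_one_iff.1 (sub_eq_zero.1 ht) with ht' | ht'
      · obtain ⟨g, hg, hgx⟩ := Classical.Elusive.exists_conj_of_trace hodd (y := w) hx hwS (ht'.trans hwt.symm) hd
        exact ⟨g, hg, hgx ▸ hwN⟩
      · have hm : (-1 : GL (Fin 2) F) ∈ Cfsg.Geo.specialLinear (Fin 2) F :=
          MonoidHom.mem_ker.2 (Units.ext (by
            show (-1 : Matrix (Fin 2) (Fin 2) F).det = 1
            rw [Matrix.det_neg, Fintype.card_fin, Matrix.det_one, neg_one_sq, mul_one]))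
        have hmN : (-1 : GL (Fin 2) F) ∈ Cfsg.Geo.subgroupNormalizer R := by
          show (-1 : GL (Fin 2) F) ∈ Subgroup.normalizer (R : Set (GL (Fin 2) F))
          rw [Subgroup.mem_normalizer_iff]
          intro y
          simp
        obtain ⟨g, hg, hgx⟩ := Classical.Elusive.exists_conj_of_trace hodd (y := -1 * w) hx (mul_mem hm hwS)
          (by rw [Units.val_mul, Units.val_neg, Units.val_one, neg_one_mul, Matrix.trace_neg, hwt]; exact ht') hd
        exact ⟨g, hg, hgx ▸ mul_mem hmN hwN⟩

end Cfsg.Agent.S5997
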